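import Cfsg.Agent.Lib.MaxSub.Transvection

/-!
Elementary facts on subspaces and their stabilisers in `GL`.
-/

set_option autoImplicit false
set_option linter.unusedSectionVars false

namespace CfsgLib.MaxSub

open Matrix
open scoped MatrixGroups

variable {ι : Type} [Fintype ι] [DecidableEq ι] {F : Type*} [Field F]

theorem mem_subspaceStabilizer_of_maps {W : Submodule F (ι → F)} {g : GL ι F}
    (h : ∀ x ∈ W, (g : Matrix ι ι F) *ᵥ x ∈ W) : g ∈ Cfsg.Geo.subspaceStabilizer W := by
  intro v
  refine ⟨h v, fun hv => ?_⟩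
  have hle : W.map (Matrix.toLin' (g : Matrix ι ι F)) ≤ W := by
    rintro _ ⟨x, hx, rfl⟩
    exact h x hx
  have hinj : Function.Injective (Matrix.toLin' (g : Matrix ι ι F)) := fun x y e => by
    have := congrArg (((g⁻¹ : GL ι F) : Matrix ι ι F) *ᵥ ·) e
    simpa [inv_mulVec_mulVec] using this
  have he := Submodule.eq_of_le_of_finrank_eq hle
    ((Submodule.equivMapOfInjective _ hinj W).symm.finrank_eq)
  have hv' : (Matrix.toLin' (g : Matrix ι ι F)) v ∈ W.map (Matrix.toLin' (g : Matrix ι ι F)) := by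
    rw [he]; exact hv
  obtain ⟨x, hx, hxv⟩ := hv'
  exact hinj hxv ▸ hx

theorem maps_of_mem_subspaceStabilizer {W : Submodule F (ι → F)} {g : GL ι F}
    (h : g ∈ Cfsg.Geo.subspaceStabilizer W) {x : ι → F} (hx : x ∈ W) :
    (g : Matrix ι ι F) *ᵥ x ∈ W := (h x).1 hx

theorem le_or_le_of_forall_mem {V : Type*} [AddCommGroup V] [Module F V] {U A B : Submodule F V}
    (h : ∀ x ∈ U, x ∈ A ∨ x ∈ B) : U ≤ A ∨ U ≤ B := by
  by_contra hc
  simp only [not_or, SetLike.not_le_iff_exists] at hc
  obtain ⟨⟨u, hu, huA⟩, ⟨v, hv, hvB⟩⟩ := hc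
  have huB : u ∈ B := (h u hu).resolve_left huA
  have hvA : v ∈ A := (h v hv).resolve_right hvB
  rcases h (u + v) (add_mem hu hv) with hs | hs
  · exact huA (by simpa using sub_mem hs hvA)
  · exact hvB (by simpa using sub_mem hs huB)

/-- a vector outside a subspace is separated by a linear form -/
theorem exists_dotProduct_of_notMem {P : Submodule F (ι → F)} {x : ι → F} (hx : x ∉ P) :
    ∃ χ : ι → F, χ ⬝ᵥ x = 1 ∧ ∀ y ∈ P, χ ⬝ᵥ y = 0 := by
  obtain ⟨φ, hφ, hp⟩ := Submodule.exists_le_ker_of_notMem hx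
  have key : ∀ y, (fun i => φ (Pi.single i 1)) ⬝ᵥ y = φ y := fun y => by
    conv_rhs => rw [pi_eq_sum_univ' y, map_sum]
    refine Finset.sum_congr rfl fun i _ => ?_
    rw [map_smul, smul_eq_mul, mul_comm]
  refine ⟨(φ x)⁻¹ • fun i => φ (Pi.single i 1), ?_, fun y hy => ?_⟩
  · rw [smul_dotProduct, key, smul_eq_mul, inv_mul_cancel₀ hφ]
  · rw [smul_dotProduct, key, LinearMap.mem_ker.mp (hp hy), smul_zero]

theorem finrank_le_inf_ker {V : Type*} [AddCommGroup V] [Module F V] [FiniteDimensional F V]
    (U : Submodule F V) (L : V →ₗ[F] F) :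
    Module.finrank F U ≤ Module.finrank F (U ⊓ LinearMap.ker L : Submodule F V) + 1 := by
  have h1 := Submodule.finrank_sup_add_finrank_inf_eq U (LinearMap.ker L)
  have h2 := LinearMap.finrank_range_add_finrank_ker L
  have h3 : Module.finrank F (LinearMap.range L) ≤ 1 :=
    (Submodule.finrank_le _).trans (le_of_eq (Module.finrank_self F))
  have h4 := Submodule.finrank_le (U ⊔ LinearMap.ker L)
  omega

/-- a subspace bigger than the span of two vectors has a vector outside it -/
theorem exists_notMem_span_pair {V : Type*} [AddCommGroup V] [Module F V] [FiniteDimensional F V]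
    {U : Submodule F V} (a b : V) (h : 2 < Module.finrank F U) :
    ∃ x ∈ U, x ∉ Submodule.span F {a, b} := by
  classical
  by_contra hno
  push Not at hno
  have h1 := Submodule.finrank_mono hno
  have h2 : Module.finrank F (Submodule.span F ({a, b} : Set V)) ≤ 2 := by
    have := finrank_span_finset_le_card ({a, b} : Finset V) (R := F)
    simp only [Finset.coe_insert, Finset.coe_singleton] at this
    exact this.trans Finset.card_le_two
  omega

end CfsgLib.MaxSub
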