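import Cfsg.Agent.Lib.Geom.SiegelFull
import Cfsg.Agent.Lib.MaxSub.Sub

/-!
Singular vectors in subspaces of a finite quadratic space, every characteristic.
-/

set_option autoImplicit false
set_option linter.unusedSectionVars false

namespace CfsgLib.MaxSub

open CfsgLib.Classical CfsgLib.Geom
open QuadraticMap (polar)

variable {F V : Type*} [Field F] [AddCommGroup V] [Module F V] [FiniteDimensional F V]
variable {Q : QuadraticForm F V}

/-- orthogonal of a set for the polar form -/
def qPerp (Q : QuadraticForm F V) (S : Set V) : Submodule F V where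
  carrier := {x | ∀ s ∈ S, polar Q x s = 0}
  add_mem' {x y} hx hy := fun s hs => by rw [QuadraticMap.polar_add_left, hx s hs, hy s hs, add_zero]
  zero_mem' := fun s _ => QuadraticMap.polar_zero_left Q s
  smul_mem' c x hx := fun s hs => by rw [QuadraticMap.polar_smul_left, hx s hs, smul_zero]

theorem mem_qPerp {S : Set V} {x : V} : x ∈ qPerp Q S ↔ ∀ s ∈ S, polar Q x s = 0 := Iff.rfl

theorem finrank_le_finrank_qPerp_add (S : Finset V) :
    Module.finrank F V ≤ Module.finrank F (qPerp Q (S : Set V)) + S.card := by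
  let L : V →ₗ[F] (S → F) := LinearMap.pi fun s => (QuadraticMap.polarBilin Q).flip (s : V)
  have h1 := L.finrank_range_add_finrank_ker
  have h2 := Submodule.finrank_le (LinearMap.range L)
  have h3 : LinearMap.ker L ≤ qPerp Q (S : Set V) := fun x hx s hs => congrFun hx ⟨s, hs⟩
  have h4 := Submodule.finrank_mono h3
  rw [Module.finrank_fintype_fun_eq_card, Fintype.card_coe] at h2
  omega

/-- a singular non-zero vector in a subspace of dimension at least three -/
theorem exists_singular_in [Finite F] {W : Submodule F V} (hW : 3 ≤ Module.finrank F W) :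
    ∃ s ∈ W, s ≠ 0 ∧ Q s = 0 := by
  by_contra hno
  push Not at hno
  obtain ⟨a, ha, ha0⟩ := W.exists_mem_ne_zero_of_ne_bot (fun h => by rw [h, finrank_bot] at hW; omega)
  have hQa := hno a ha ha0
  have h1 := finrank_le_inf_ker W ((QuadraticMap.polarBilin Q).flip a)
  obtain ⟨b, hb, hba⟩ : ∃ b ∈ W ⊓ LinearMap.ker ((QuadraticMap.polarBilin Q).flip a),
      b ∉ Submodule.span F ({a} : Set V) := by
    by_contra hh
    push Not at hh
    have := Submodule.finrank_mono (fun x hx => hh x hx :
      W ⊓ LinearMap.ker ((QuadraticMap.polarBilin Q).flip a) ≤ Submodule.span F ({a} : Set V))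
    rw [finrank_span_singleton ha0] at this
    omega
  have hbW : b ∈ W := hb.1
  have hab : polar Q b a = 0 := hb.2
  have hb0 : b ≠ 0 := fun h => hba (h ▸ Submodule.zero_mem _)
  by_cases h2 : (2 : F) = 0
  · obtain ⟨r, hr⟩ := isSquare_of_two_eq_zero h2 (-Q b / Q a)
    refine hno (b + r • a) (add_mem hbW (W.smul_mem r ha)) (fun h => hba ?_) ?_
    · rw [eq_neg_of_add_eq_zero_left h, ← neg_smul]
      exact Submodule.smul_mem _ _ (Submodule.mem_span_singleton_self a)
    · rw [quad_map_add_smul, hab, mul_zero, add_zero, ← hr]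
      field_simp
      ring
  · have h3 := finrank_le_inf_ker (W ⊓ LinearMap.ker ((QuadraticMap.polarBilin Q).flip a))
      ((QuadraticMap.polarBilin Q).flip b)
    obtain ⟨c, hc, hc0⟩ := Submodule.exists_mem_ne_zero_of_ne_bot (p := W ⊓
      LinearMap.ker ((QuadraticMap.polarBilin Q).flip a) ⊓
      LinearMap.ker ((QuadraticMap.polarBilin Q).flip b))
      (fun h => by rw [h, finrank_bot] at h3; omega)
    have hca : polar Q c a = 0 := hc.1.2
    have hcb : polar Q c b = 0 := hc.2
    obtain ⟨s, t, hst⟩ := exists_binary_eq h2 hQa (hno b hbW hb0) (-Q c)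
    refine hno (c + s • a + t • b) (add_mem (add_mem hc.1.1 (W.smul_mem s ha)) (W.smul_mem t hbW))
      (fun h => ?_) ?_
    · have e := congrArg (fun z => polar Q c z) h
      simp only [QuadraticMap.polar_add_right, QuadraticMap.polar_smul_right, hca, hcb, polar_self_two,
        QuadraticMap.polar_zero_right, smul_zero, add_zero] at e
      exact (mul_ne_zero h2 (hno c hc.1.1 hc0)) e
    · rw [quad_map_add_smul, quad_map_add_smul, QuadraticMap.polar_add_left, QuadraticMap.polar_smul_left,
        hca, hcb, QuadraticMap.polar_comm _ a b, hab]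
      simp only [smul_zero, add_zero, mul_zero]
      linear_combination hst

variable [Finite F] (hQ : ∀ x, (∀ y, polar Q x y = 0) → x = 0)
include hQ

/-- singular vectors span the orthogonal of a small set -/
theorem qPerp_le_of_singular (S : Finset V) (hS : 2 * S.card + 3 ≤ Module.finrank F V)
    {P : Submodule F V} (hP : ∀ x ∈ qPerp Q (S : Set V), Q x = 0 → x ∈ P) :
    qPerp Q (S : Set V) ≤ P := by
  classical
  set W := qPerp Q (S : Set V) with hWdef
  have hW := finrank_le_finrank_qPerp_add (Q := Q) S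
  obtain ⟨C, hC⟩ := Submodule.exists_isCompl
    ((Submodule.span F (S : Set V)).comap W.subtype)
  have hd := Submodule.finrank_add_eq_of_isCompl hC
  have hR : Module.finrank F ((Submodule.span F (S : Set V)).comap W.subtype) ≤ S.card := by
    rw [← Submodule.finrank_map_subtype_eq]
    exact (Submodule.finrank_mono (Submodule.map_comap_le _ _)).trans (finrank_span_finset_le_card S)
  rw [← hWdef] at hW
  obtain ⟨s, hs, hs0, hQs⟩ := exists_singular_in (Q := Q) (W := C.map W.subtype) (by
    rw [Submodule.finrank_map_subtype_eq]; omega)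
  obtain ⟨⟨s', hs'W⟩, hs'C, rfl⟩ := hs
  simp only [Submodule.subtype_apply] at hs0 hQs
  have hout : s' ∉ Submodule.span F (S : Set V) := fun hm => hs0 (congrArg Subtype.val
    ((Submodule.mem_bot F).1 (hC.disjoint.le_bot
      ⟨(show (⟨s', hs'W⟩ : W) ∈ (Submodule.span F (S : Set V)).comap W.subtype from hm), hs'C⟩)))
  obtain ⟨z₀, hz₀, hz₀s⟩ := exists_perp_pair (σ := RingHom.id F) (QuadraticMap.polarBilin Q) hQ
    (Submodule.span F (S : Set V)) hout
  simp only [QuadraticMap.polarBilin_apply_apply] at hz₀ hz₀s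
  have hz₀W : z₀ ∈ W := fun x hx => by
    rw [QuadraticMap.polar_comm]; exact hz₀ x (Submodule.subset_span hx)
  have key : ∀ z ∈ W, polar Q z s' ≠ 0 → z ∈ P := fun z hz hzs => by
    have h1 : z + (-Q z / polar Q z s') • s' ∈ P := hP _ (add_mem hz (W.smul_mem _ hs'W)) (by
      rw [quad_map_add_smul, hQs, div_mul_cancel₀ _ hzs]; ring)
    have := sub_mem h1 (P.smul_mem (-Q z / polar Q z s') (hP _ hs'W hQs))
    rwa [add_sub_cancel_right] at this
  intro z hz
  by_cases hzs : polar Q z s' = 0
  · have hz₀' : polar Q z₀ s' ≠ 0 := by rw [QuadraticMap.polar_comm, hz₀s]; exact one_ne_zero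
    have h1 := key (z + z₀) (add_mem hz hz₀W) (by
      rw [QuadraticMap.polar_add_left, hzs, zero_add]; exact hz₀')
    simpa using sub_mem h1 (key z₀ hz₀W hz₀')
  · exact key z hz hzs

/-- a singular vector orthogonal to a small set, not to `b` -/
theorem exists_singular_pair (S : Finset V) (hS : 2 * S.card + 3 ≤ Module.finrank F V) {b : V}
    (hb : b ∉ Submodule.span F (S : Set V)) :
    ∃ z, Q z = 0 ∧ (∀ s ∈ S, polar Q z s = 0) ∧ polar Q z b ≠ 0 := by
  by_contra hno
  push Not at hno
  obtain ⟨y, hy, hby⟩ := exists_perp_pair (σ := RingHom.id F) (QuadraticMap.polarBilin Q) hQ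
    (Submodule.span F (S : Set V)) hb
  simp only [QuadraticMap.polarBilin_apply_apply] at hy hby
  have hle := qPerp_le_of_singular hQ S hS (P := LinearMap.ker ((QuadraticMap.polarBilin Q).flip b))
    fun x hx hQx => hno x hQx fun s hs => hx s hs
  have : polar Q y b = 0 := hle fun s hs => by
    rw [QuadraticMap.polar_comm]; exact hy s (Submodule.subset_span hs)
  rw [QuadraticMap.polar_comm, hby] at this
  exact one_ne_zero this

/-- as `exists_singular_pair`, avoiding the line through a vector of the set -/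
theorem exists_singular_pair_avoid (S : Finset V) (hS : 2 * S.card + 3 ≤ Module.finrank F V) {b ℓ : V}
    (hb : b ∉ Submodule.span F (S : Set V)) (hℓ : ℓ ∈ S) (hℓ0 : Q ℓ = 0) :
    ∃ z, Q z = 0 ∧ (∀ s ∈ S, polar Q z s = 0) ∧ polar Q z b ≠ 0 ∧ z ∉ Submodule.span F {ℓ} := by
  obtain ⟨s₁, hs₁, hs₁S, hs₁b⟩ := exists_singular_pair hQ S hS hb
  by_cases h : s₁ ∈ Submodule.span F {ℓ}
  · have hW := finrank_le_finrank_qPerp_add (Q := Q) S
    obtain ⟨s₂, hs₂W, hs₂, hs₂ℓ⟩ : ∃ s₂ ∈ qPerp Q (S : Set V), Q s₂ = 0 ∧ s₂ ∉ Submodule.span F {ℓ} := by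
      by_contra hno
      push Not at hno
      have h1 := Submodule.finrank_mono (qPerp_le_of_singular hQ S hS hno)
      have h2 : Module.finrank F (Submodule.span F ({ℓ} : Set V)) ≤ 1 := by
        rcases eq_or_ne ℓ 0 with rfl | hne
        · rw [Submodule.span_singleton_eq_bot.2 rfl, finrank_bot]; omega
        · rw [finrank_span_singleton hne]
      have : 1 ≤ S.card := Finset.card_pos.2 ⟨ℓ, hℓ⟩
      omega
    by_cases hs₂b : polar Q s₂ b = 0
    · obtain ⟨t, rfl⟩ := Submodule.mem_span_singleton.1 h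
      refine ⟨s₂ + t • ℓ, ?_, fun s hs => ?_, ?_, fun hm => hs₂ℓ ?_⟩
      · rw [quad_map_add_smul, hs₂, hℓ0, hs₂W ℓ hℓ]; ring
      · rw [QuadraticMap.polar_add_left, hs₂W s hs, zero_add]; exact hs₁S s hs
      · rw [QuadraticMap.polar_add_left, hs₂b, zero_add]; exact hs₁b
      · simpa using sub_mem hm (Submodule.smul_mem _ t (Submodule.mem_span_singleton_self ℓ))
    · exact ⟨s₂, hs₂, hs₂W, hs₂b, hs₂ℓ⟩
  · exact ⟨s₁, hs₁, hs₁S, hs₁b, h⟩

end CfsgLib.MaxSub
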