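import Cfsg.Agent.Lib.MaxSub.HermFull

/-!
Orthogonal subspaces for Hermitian forms on coordinate spaces, Eichler transformations.
-/

set_option autoImplicit false
set_option linter.unusedSectionVars false

namespace CfsgLib.MaxSub

open Matrix
open scoped MatrixGroups

variable {F : Type*} [Field F] {n : ℕ} {σ : F ≃+* F} {f : (Fin n → F) → (Fin n → F) → F}
variable (hf : Cfsg.Geo.IsUnitaryForm σ f)
include hf

/-- `x ↦ f(x, v)` -/
def hLin (v : Fin n → F) : (Fin n → F) →ₗ[F] F where
  toFun x := f x v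
  map_add' x y := hf.add_left x y v
  map_smul' c x := hf.smul_left c x v

theorem mem_ker_hLin {v x : Fin n → F} : x ∈ LinearMap.ker (hLin hf v) ↔ f x v = 0 := Iff.rfl

/-- the orthogonal of a subspace -/
def hPerp (W : Submodule F (Fin n → F)) : Submodule F (Fin n → F) where
  carrier := {x | ∀ w ∈ W, f x w = 0}
  add_mem' {x y} hx hy := fun w hw => by rw [hf.add_left, hx w hw, hy w hw, add_zero]
  zero_mem' := fun w _ => herm_zero_left hf w
  smul_mem' c x hx := fun w hw => by rw [hf.smul_left, hx w hw, mul_zero]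

theorem mem_hPerp {W : Submodule F (Fin n → F)} {x : Fin n → F} :
    x ∈ hPerp hf W ↔ ∀ w ∈ W, f x w = 0 := Iff.rfl

theorem hPerp_comm {W : Submodule F (Fin n → F)} {x w : Fin n → F} (hx : x ∈ hPerp hf W)
    (hw : w ∈ W) : f w x = 0 := herm_eq_zero_comm hf (hx w hw)

theorem exists_hPerp_of_notMem [Finite F] {W : Submodule F (Fin n → F)} {x : Fin n → F} (hx : x ∉ W) :
    ∃ y ∈ hPerp hf W, f x y ≠ 0 := by
  obtain ⟨χ, hχx, hχ⟩ := exists_dot_of_notMem hx
  obtain ⟨y, rfl⟩ := hDual_surjective hf χ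
  rw [hDual_dot hf] at hχx
  exact ⟨y, fun w hw => herm_eq_zero_comm hf (by rw [← hDual_dot hf]; exact hχ w hw),
    by rw [hχx]; exact one_ne_zero⟩

theorem finrank_le_finrank_hPerp_add (W : Submodule F (Fin n → F)) :
    n ≤ Module.finrank F (hPerp hf W) + Module.finrank F W := by
  let b := Module.finBasis F W
  let L : (Fin n → F) →ₗ[F] (Fin (Module.finrank F W) → F) :=
    { toFun := fun x i => f x (b i)
      map_add' := fun x y => funext fun i => hf.add_left _ _ _
      map_smul' := fun c x => funext fun i => hf.smul_left _ _ _ }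
  have hle : LinearMap.ker L ≤ hPerp hf W := by
    intro x hx w hw
    have hsum := congrArg Subtype.val (b.sum_repr ⟨w, hw⟩)
    simp only [Submodule.coe_sum, Submodule.coe_smul] at hsum
    have hR : f x w = ∑ i, f x (b.repr ⟨w, hw⟩ i • (b i : Fin n → F)) :=
      (congrArg (f x) hsum).symm.trans
        (map_sum (AddMonoidHom.mk' (fun u => f x u) fun u v => herm_add_right hf x u v) _ _)
    rw [hR]
    refine Finset.sum_eq_zero fun i _ => ?_
    rw [herm_smul_right hf, show f x (b i) = 0 from congrFun (LinearMap.mem_ker.mp hx) i, mul_zero]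
  have h1 := LinearMap.finrank_range_add_finrank_ker L
  have h2 := Submodule.finrank_le (LinearMap.range L)
  have h3 := Submodule.finrank_mono hle
  rw [Module.finrank_fin_fun] at h1 h2
  omega

theorem exists_trace_eq {a : F} (ha : σ a = a) : ∃ k, k + σ k = a := by
  obtain ⟨s, hs⟩ := exists_trace_ne hf
  refine ⟨s * (a / (s + σ s)), ?_⟩
  rw [map_mul, map_div₀, ha, map_add, hf.involutive, add_comm (σ s) s, ← add_mul, mul_div_cancel₀ _ hs]

/-- an isotropic vector on the line through `z` in a non-orthogonal isotropic direction -/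
theorem exists_shift {z s : Fin n → F} (hs : f s s = 0) (h : f z s ≠ 0) :
    ∃ t : F, f (z + t • s) (z + t • s) = 0 := by
  obtain ⟨k, hk⟩ := exists_trace_eq hf (a := -f z z) (by rw [map_neg, herm_self_fixed hf])
  have h' : f s z ≠ 0 := fun e => h (herm_eq_zero_comm hf e)
  refine ⟨k / f s z, ?_⟩
  simp only [hf.add_left, herm_add_right hf, hf.smul_left, herm_smul_right hf, hs, mul_zero, add_zero]
  rw [div_mul_cancel₀ _ h', map_div₀, ← hf.herm z s, div_mul_cancel₀ _ h]
  linear_combination hk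

/-- isotropic vectors span a subspace having an isotropic vector outside its radical -/
theorem le_of_isotropic_sep {U S : Submodule F (Fin n → F)} {s z₀ : Fin n → F} (hsU : s ∈ U)
    (hs : f s s = 0) (hz₀ : z₀ ∈ U) (h : f z₀ s ≠ 0) (hS : ∀ x ∈ U, f x x = 0 → x ∈ S) : U ≤ S := by
  have key : ∀ z ∈ U, f z s ≠ 0 → z ∈ S := fun z hz hzs => by
    obtain ⟨t, ht⟩ := exists_shift hf hs hzs
    have := sub_mem (hS _ (add_mem hz (U.smul_mem t hsU)) ht) (S.smul_mem t (hS s hsU hs))
    rwa [add_sub_cancel_right] at this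
  intro z hz
  by_cases hzs : f z s = 0
  · have h1 := key (z + z₀) (add_mem hz hz₀) (by rw [hf.add_left, hzs, zero_add]; exact h)
    simpa using sub_mem h1 (key z₀ hz₀ h)
  · exact key z hz hzs

theorem mem_of_map_hPerp [Finite F] {g : GL (Fin n) F} {W : Submodule F (Fin n → F)}
    (hiso : ∀ x y, f ((g : Matrix (Fin n) (Fin n) F) *ᵥ x) ((g : Matrix (Fin n) (Fin n) F) *ᵥ y) = f x y)
    (hP : ∀ z ∈ hPerp hf W, (g : Matrix (Fin n) (Fin n) F) *ᵥ z ∈ hPerp hf W) :
    g ∈ Cfsg.Geo.subspaceStabilizer W := by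
  have hgP := mem_subspaceStabilizer_of_maps hP
  refine mem_subspaceStabilizer_of_maps fun w hw => ?_
  by_contra hgw
  obtain ⟨y, hy, hgy⟩ := exists_hPerp_of_notMem hf hgw
  apply hgy
  have := hiso w (((g⁻¹ : GL (Fin n) F) : Matrix (Fin n) (Fin n) F) *ᵥ y)
  rw [mulVec_mulVec_inv] at this
  rw [this]
  exact hPerp_comm hf (maps_of_mem_subspaceStabilizer (inv_mem hgP) hy) hw

/-- the Eichler transformation `x ↦ x + (f(x,y) + k f(x,w)) w - f(x,w) y` -/
def hEich (w y : Fin n → F) (k : F) (hw : f w w = 0) (h : f w y = 0) : GL (Fin n) F :=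
  tvGL w (hDual f y + (k + f y y) • hDual f w)
      (by rw [add_dotProduct, smul_dotProduct, hDual_dot hf, hDual_dot hf, h, hw, smul_zero, add_zero]) *
    tvGL y (-hDual f w)
      (by rw [neg_dotProduct, hDual_dot hf, herm_eq_zero_comm hf h, neg_zero])

theorem hEich_mulVec (w y : Fin n → F) (k : F) (hw : f w w = 0) (h : f w y = 0) (x : Fin n → F) :
    (hEich hf w y k hw h : Matrix (Fin n) (Fin n) F) *ᵥ x =
      x + (f x y + k * f x w) • w + (-f x w) • y := by
  rw [hEich, Units.val_mul, coe_tvGL, coe_tvGL, ← mulVec_mulVec, tvMat_mulVec, tvMat_mulVec,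
    neg_dotProduct, hDual_dot hf, add_dotProduct, smul_dotProduct, hDual_dot hf, hDual_dot hf,
    hf.add_left, hf.add_left, hf.smul_left, hf.smul_left, smul_eq_mul, herm_eq_zero_comm hf h]
  module

theorem hEich_isometry (w y : Fin n → F) (k : F) (hw : f w w = 0) (h : f w y = 0)
    (hk : k + σ k = -f y y) (u v : Fin n → F) :
    f ((hEich hf w y k hw h : Matrix (Fin n) (Fin n) F) *ᵥ u)
      ((hEich hf w y k hw h : Matrix (Fin n) (Fin n) F) *ᵥ v) = f u v := by
  rw [hEich_mulVec hf, hEich_mulVec hf]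
  simp only [hf.add_left, herm_add_right hf, hf.smul_left, herm_smul_right hf, hw, h,
    herm_eq_zero_comm hf h, map_add, map_mul, map_neg, ← hf.herm]
  linear_combination (f u w * f w v) * hk

theorem hEich_mem_specialLinear (w y : Fin n → F) (k : F) (hw : f w w = 0) (h : f w y = 0) :
    hEich hf w y k hw h ∈ Cfsg.Geo.specialLinear (Fin n) F :=
  mul_mem (tvGL_mem_specialLinear _ _ _) (tvGL_mem_specialLinear _ _ _)

end CfsgLib.MaxSub
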