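import Cfsg.Agent.Lib.Classical.StdQuad
import Cfsg.Agent.Lib.Classical.Counts
import Cfsg.Agent.Lib.Geom.OmegaIndex
import Cfsg.Agent.Lib.Geom.MaxTS
import Cfsg.Agent.Lib.Geom.SympSpace
import Cfsg.Prelude.Def_GeometricClasses

/-!
Elements of odd prime order of `Ω` from isometries of a quadratic space, numbers of non-singular points, and the
bound on totally singular subspaces of the minus form.
-/

set_option autoImplicit false

namespace CfsgLib.MaxSub.OmegaElem

open CfsgLib.Geom CfsgLib.Classical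
open QuadraticMap (polar)
open scoped Matrix

universe u

variable {F : Type u} [Field F] [Fintype F] {ι : Type} [Fintype ι] [DecidableEq ι]

/-- An isometry of odd prime order lies in `Ω`. -/
theorem exists_gl (Q : QuadraticForm F (ι → F)) (hQ : ∀ x, (∀ y, polar Q x y = 0) → x = 0)
    (hex : (∃ t : F, t ≠ 0 ∧ t ≠ 1) ∨ Module.finrank F (ι → F) ≠ 4) (hn : 2 ≤ Fintype.card ι)
    {r : ℕ} (hr : r.Prime) (hr2 : r ≠ 2) {g : (ι → F) ≃ₗ[F] (ι → F)} (hg : g ∈ quadIsoms Q) (hgr : g ^ r = 1) :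
    ∃ x : GL ι F, x ∈ Cfsg.Geo.omegaGL (⇑Q) ∧ x ^ r = 1 ∧ ∀ v, (x : Matrix ι ι F) *ᵥ v = g v := by
  obtain ⟨a, ha⟩ : ∃ a : Cfsg.isometryGroup F (⇑Q), a = orEquiv Q ⟨g, hg⟩ := ⟨_, rfl⟩
  have har : a ^ r = 1 := by
    rw [ha, ← map_pow, show (⟨g, hg⟩ : quadIsoms Q) ^ r = 1 from Subtype.ext (by simpa using hgr), map_one]
  have hN : (Cfsg.Omega F (⇑Q)).index ∣ 4 := by
    by_cases h2 : (2 : F) = 0
    · rw [omega_index_even Q hQ hex h2 (by omega)]; norm_num
    · rw [omega_index_odd Q hQ h2 hn]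
  have hmem : a ^ (Cfsg.Omega F (⇑Q)).index ∈ Cfsg.Omega F (⇑Q) := Subgroup.pow_index_mem _ _
  have hco : (Cfsg.Omega F (⇑Q)).index.Coprime r :=
    Nat.Coprime.coprime_dvd_left hN (((Nat.coprime_primes Nat.prime_two hr).2 (Ne.symm hr2)).pow_left 2)
  have hao : orderOf a ∣ r := orderOf_dvd_of_pow_eq_one har
  obtain ⟨j, hj⟩ := exists_pow_eq_self_of_coprime (Nat.Coprime.coprime_dvd_right hao hco)
  have haΩ : a ∈ Cfsg.Omega F (⇑Q) := hj ▸ pow_mem hmem j
  refine ⟨(a : GL ι F), Subgroup.mem_map_of_mem _ haΩ, ?_, fun v => ?_⟩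
  · rw [← SubmonoidClass.coe_pow, har]; rfl
  · rw [ha, orEquiv_mulVec]

/-- Number of the non-singular points. -/
theorem card_points_mul (Q : (ι → F) → F) (hQs : ∀ (c : F) v, Q (c • v) = c ^ 2 * Q v) :
    Nat.card {W : Submodule F (ι → F) // Module.finrank F ↥W = 1 ∧ ∃ v ∈ W, Q v ≠ 0} * (Fintype.card F - 1) =
      Nat.card {v : ι → F // Q v ≠ 0} := by
  classical
  let P := {W : Submodule F (ι → F) // Module.finrank F ↥W = 1 ∧ ∃ v ∈ W, Q v ≠ 0}
  have hb : ∀ W : P, ∃ v : ι → F, Q v ≠ 0 ∧ W.1 = Submodule.span F {v} := fun W => by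
    obtain ⟨v, hv, hQv⟩ := W.2.2
    refine ⟨v, hQv, ?_⟩
    have hv0 : v ≠ 0 := fun h => hQv (by rw [h, ← zero_smul F (0 : ι → F), hQs]; simp)
    refine (Submodule.eq_of_le_of_finrank_eq ((Submodule.span_singleton_le_iff_mem _ _).2 hv) ?_).symm
    rw [finrank_span_singleton hv0, W.2.1]
  choose b hQb hWb using hb
  have hb0 : ∀ W, b W ≠ 0 := fun W h => hQb W (by rw [h, ← zero_smul F (0 : ι → F), hQs]; simp)
  have hf : ∀ (x : P × Fˣ), Q ((x.2 : F) • b x.1) ≠ 0 := fun x => by
    rw [hQs]; exact mul_ne_zero (pow_ne_zero _ x.2.ne_zero) (hQb _)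
  let f : P × Fˣ → {v : ι → F // Q v ≠ 0} := fun x => ⟨(x.2 : F) • b x.1, hf x⟩
  have hbij : Function.Bijective f := by
    refine ⟨fun x y h => ?_, fun v => ?_⟩
    · have h1 : (x.2 : F) • b x.1 = (y.2 : F) • b y.1 := congrArg Subtype.val h
      have hxy : x.1 = y.1 := Subtype.ext (by
        rw [hWb, hWb, ← Submodule.span_singleton_smul_eq x.2.isUnit (b x.1), h1,
          Submodule.span_singleton_smul_eq y.2.isUnit])
      refine Prod.ext hxy (Units.ext ?_)
      rw [hxy] at h1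
      exact smul_left_injective F (hb0 _) h1
    · have hv0 : v.1 ≠ 0 := fun h => v.2 (by rw [h, ← zero_smul F (0 : ι → F), hQs]; simp)
      let W : P := ⟨Submodule.span F {v.1}, finrank_span_singleton hv0,
        v.1, Submodule.mem_span_singleton_self _, v.2⟩
      obtain ⟨c, hc⟩ := Submodule.mem_span_singleton.1
        (hWb W ▸ Submodule.mem_span_singleton_self v.1 : v.1 ∈ Submodule.span F {b W})
      have hc0 : c ≠ 0 := fun h => hv0 (by rw [← hc, h, zero_smul])
      exact ⟨(W, Units.mk0 c hc0), Subtype.ext hc⟩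
  rw [← Nat.card_congr (Equiv.ofBijective f hbij), Nat.card_prod]
  rw [Nat.card_eq_fintype_card (α := Fˣ), Fintype.card_units]

/-- Complement of the zero set. -/
theorem card_ne_zero (Q : (ι → F) → F) :
    Nat.card {v : ι → F // Q v ≠ 0} + Nat.card {v : ι → F // Q v = 0} = Fintype.card F ^ Fintype.card ι := by
  classical
  simp only [Nat.card_eq_fintype_card]
  rw [Fintype.card_subtype_compl, Nat.sub_add_cancel (Fintype.card_subtype_le _), Fintype.card_fun]

/-- A space with a non-degenerate alternating form has even dimension. -/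
theorem even_finrank_of_alt {V : Type*} [AddCommGroup V] [Module F V] [FiniteDimensional F V]
    (B : V →ₗ[F] V →ₗ[F] F) (hA : ∀ v, B v v = 0) (hB : ∀ x, (∀ y, B x y = 0) → x = 0) :
    Even (Module.finrank F V) := by
  induction h : Module.finrank F V using Nat.strong_induction_on generalizing V with
  | _ n ih =>
    rcases Nat.eq_zero_or_pos n with rfl | hn
    · exact ⟨0, rfl⟩
    haveI : Nontrivial V := Module.nontrivial_of_finrank_pos (R := F) (by omega)
    obtain ⟨u, v, huv⟩ := exists_hyperbolic B hB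
    have h2 := finrank_pairPerp B hA huv
    have h3 : Even (Module.finrank F (pairPerp B u v)) :=
      ih _ (by omega) (B.compl₁₂ (pairPerp B u v).subtype (pairPerp B u v).subtype) (fun w => hA _)
        (sep_pairPerp B hA hB huv) rfl
    obtain ⟨k, hk⟩ := h3
    exact ⟨k + 1, by omega⟩

/-- Totally singular subspaces of the minus form of index `l` have dimension at most `l`. -/
theorem minus_ts_le (l : ℕ) {a b : F} (hab : ∀ x y : F, x ^ 2 + a * x * y + b * y ^ 2 = 0 → x = 0 ∧ y = 0)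
    {W : Submodule F ((Fin l ⊕ Fin l) ⊕ Fin 2 → F)} (hW : ∀ w ∈ W, qfMinus l F a b w = 0) :
    Module.finrank F W ≤ l := by
  have hnd : (qfMinus l F a b).polarBilin.Nondegenerate :=
    ⟨fun x hx => qfMinus_sep l hab x hx, fun y hy => qfMinus_sep l hab y fun x => by
      rw [QuadraticMap.polar_comm]; exact hy x⟩
  have hdim : Module.finrank F ((Fin l ⊕ Fin l) ⊕ Fin 2 → F) = 2 * (l + 1) := by simp; omega
  by_contra hlt
  push Not at hlt
  let P : ((Fin l ⊕ Fin l) ⊕ Fin 2 → F) →ₗ[F] (Fin l → F) :=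
    LinearMap.funLeft F F fun i => Sum.inl (Sum.inr i)
  obtain ⟨K, hKdef⟩ : ∃ K, K = LinearMap.ker P := ⟨_, rfl⟩
  have hP : ∀ w, P w = fun i => w (.inl (.inr i)) := fun _ => rfl
  have hK : 2 * (l + 1) ≤ Module.finrank F K + l := by
    have h1 := P.finrank_range_add_finrank_ker
    rw [← hKdef] at h1
    have h2 := Submodule.finrank_le (LinearMap.range P)
    rw [Module.finrank_fin_fun] at h2
    omega
  let A := W ⊓ K
  have hA : ∀ x ∈ A, ∀ z, z ∈ K → polar (qfMinus l F a b) x z = 0 := by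
    rintro x ⟨hxW, hxK⟩ z hzK
    rw [hKdef] at hxK hzK
    have hx : (fun i => x (.inl (.inr i))) = (0 : Fin l → F) := hxK
    have hz : (fun i => z (.inl (.inr i))) = (0 : Fin l → F) := hzK
    have h0 := hW x hxW
    rw [qfMinus_apply, Cfsg.quadFormMinus, Finset.sum_eq_zero fun i _ => by
      rw [congrFun hx i]; simp, zero_add] at h0
    obtain ⟨h2, h3⟩ := hab _ _ h0
    rw [polar_qfMinus, h2, h3, Finset.sum_eq_zero fun i _ => by rw [congrFun hx i, congrFun hz i]; simp]
    ring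
  have hle : W ⊔ K ≤ tsPerp (qfMinus l F a b) A := by
    refine sup_le (fun z hz => mem_tsPerp.2 fun x hx => ?_) (fun z hz => mem_tsPerp.2 fun x hx => hA x hx z hz)
    exact polar_eq_zero_of_ts _ hW hx.1 hz
  have h1 := Submodule.finrank_mono hle
  rw [finrank_tsPerp _ hnd hdim A] at h1
  have h2 := Submodule.finrank_sup_add_finrank_inf_eq W K
  have h3 := Submodule.finrank_le A
  rw [hdim] at h3
  simp only [A] at h1 h3
  omega

end CfsgLib.MaxSub.OmegaElem
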