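import Cfsg.Agent.Lib.MaxSub.Symp
import Cfsg.Agent.Lib.MaxSub.Sub

/-!
Vectors carrying a full symplectic transvection group inside a subgroup, and orthogonal subspaces.
-/

set_option autoImplicit false
set_option linter.unusedSectionVars false

namespace CfsgLib.MaxSub

open Matrix
open scoped MatrixGroups

variable {m : ℕ} {F : Type*} [Field F]

local notation "ω" => Cfsg.sympForm _ _

/-- `M` contains all symplectic transvections with centre `v`. -/
def SpFull (M : Subgroup (GL (Fin m ⊕ Fin m) F)) (v : Fin m ⊕ Fin m → F) : Prop :=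
  ∀ c : F, HasSpTv M v c

/-- The orthogonal of a subspace for the alternating form. -/
def spPerp (W : Submodule F (Fin m ⊕ Fin m → F)) : Submodule F (Fin m ⊕ Fin m → F) where
  carrier := {x | ∀ w ∈ W, Cfsg.sympForm m F x w = 0}
  add_mem' {x y} hx hy := fun w hw => by rw [sympForm_add_left, hx w hw, hy w hw, add_zero]
  zero_mem' := fun w _ => by
    rw [show (0 : Fin m ⊕ Fin m → F) = (0 : F) • 0 by simp, sympForm_smul_left, zero_mul]
  smul_mem' c x hx := fun w hw => by rw [sympForm_smul_left, hx w hw, mul_zero]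

theorem mem_spPerp {W : Submodule F (Fin m ⊕ Fin m → F)} {x : Fin m ⊕ Fin m → F} :
    x ∈ spPerp W ↔ ∀ w ∈ W, Cfsg.sympForm m F x w = 0 := Iff.rfl

theorem spPerp_comm {W : Submodule F (Fin m ⊕ Fin m → F)} {x w : Fin m ⊕ Fin m → F}
    (hx : x ∈ spPerp W) (hw : w ∈ W) : Cfsg.sympForm m F w x = 0 := by
  rw [sympForm_swap, hx w hw, neg_zero]

theorem spDual_surjective [Finite F] :
    Function.Surjective (fun v : Fin m ⊕ Fin m → F => Matrix.J (Fin m) F *ᵥ v) := by
  refine Finite.surjective_of_injective fun u v h => ?_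
  by_contra hne
  refine spDual_ne_zero (sub_ne_zero.2 hne) ?_
  rw [mulVec_sub]
  exact sub_eq_zero.2 h

/-- a vector outside `W` is seen by the orthogonal of `W` -/
theorem exists_spPerp_of_notMem [Finite F] {W : Submodule F (Fin m ⊕ Fin m → F)}
    {x : Fin m ⊕ Fin m → F} (hx : x ∉ W) :
    ∃ y ∈ spPerp W, Cfsg.sympForm m F x y ≠ 0 := by
  obtain ⟨χ, hχx, hχ⟩ := exists_dotProduct_of_notMem hx
  obtain ⟨y, rfl⟩ := spDual_surjective χ
  refine ⟨y, fun w hw => ?_, ?_⟩
  · rw [sympForm_swap, ← spDual_dot, hχ w hw, neg_zero]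
  · rw [← spDual_dot, hχx]; exact one_ne_zero

theorem finrank_le_finrank_spPerp_add (W : Submodule F (Fin m ⊕ Fin m → F)) :
    2 * m ≤ Module.finrank F (spPerp W) + Module.finrank F W := by
  let b := Module.finBasis F W
  let L : (Fin m ⊕ Fin m → F) →ₗ[F] (Fin (Module.finrank F W) → F) :=
    { toFun := fun x i => Cfsg.sympForm m F x (b i)
      map_add' := fun x y => funext fun i => sympForm_add_left _ _ _
      map_smul' := fun c x => funext fun i => sympForm_smul_left _ _ _ }
  have hle : LinearMap.ker L ≤ spPerp W := by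
    intro x hx w hw
    let f : W →ₗ[F] F :=
      { toFun := fun u => Cfsg.sympForm m F x u
        map_add' := fun u v => sympForm_add_right _ _ _
        map_smul' := fun c u => sympForm_smul_right _ _ _ }
    have hf : f = 0 := b.ext fun i => congrFun (LinearMap.mem_ker.mp hx) i
    exact LinearMap.congr_fun hf ⟨w, hw⟩
  have h1 := LinearMap.finrank_range_add_finrank_ker L
  have h2 := Submodule.finrank_le (LinearMap.range L)
  have h3 := Submodule.finrank_mono hle
  rw [Module.finrank_pi, Fintype.card_sum, Fintype.card_fin] at h1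
  rw [Module.finrank_fin_fun] at h2
  omega

/-- the element `x ↦ x + f(y,x) w + f(w,x) y` -/
def spSieg (w y : Fin m ⊕ Fin m → F) (h : Cfsg.sympForm m F w y = 0) : GL (Fin m ⊕ Fin m) F :=
  tvGL w (-(Matrix.J (Fin m) F *ᵥ y)) (by rw [neg_dotProduct, spDual_dot, h, neg_zero]) *
    tvGL y (-(Matrix.J (Fin m) F *ᵥ w))
      (by rw [neg_dotProduct, spDual_dot, sympForm_swap, h, neg_zero, neg_zero])

theorem spSieg_mulVec (w y : Fin m ⊕ Fin m → F) (h : Cfsg.sympForm m F w y = 0)
    (x : Fin m ⊕ Fin m → F) :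
    (spSieg w y h : Matrix (Fin m ⊕ Fin m) (Fin m ⊕ Fin m) F) *ᵥ x =
      x + Cfsg.sympForm m F y x • w + Cfsg.sympForm m F w x • y := by
  rw [spSieg, Units.val_mul, coe_tvGL, coe_tvGL, ← mulVec_mulVec, tvMat_mulVec, tvMat_mulVec,
    neg_dotProduct, neg_dotProduct, spDual_dot, spDual_dot, sympForm_add_left, sympForm_smul_left,
    sympForm_self, mul_zero, add_zero, ← sympForm_swap, ← sympForm_swap]
  abel

theorem spSieg_mem_spGL (w y : Fin m ⊕ Fin m → F) (h : Cfsg.sympForm m F w y = 0) :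
    spSieg w y h ∈ Cfsg.spGL m F := by
  intro u v
  simp only [Units.coeHom_apply, spSieg_mulVec, sympForm_add_left, sympForm_add_right,
    sympForm_smul_left, sympForm_smul_right, sympForm_self]
  rw [sympForm_swap w u, sympForm_swap y u, sympForm_swap w y, h]
  ring

variable {M : Subgroup (GL (Fin m ⊕ Fin m) F)} {x y : Fin m ⊕ Fin m → F}

theorem spFull_zero : SpFull M (0 : Fin m ⊕ Fin m → F) := fun c => by
  unfold HasSpTv; exact hasTv_zero_left _

theorem SpFull.smul (h : SpFull M x) (t : F) : SpFull M (t • x) := by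
  rcases eq_or_ne t 0 with rfl | ht
  · rw [zero_smul]; exact spFull_zero
  · exact fun c => (hasSpTv_smul ht).2 (h _)

theorem SpFull.conj (h : SpFull M x) {g : GL (Fin m ⊕ Fin m) F} (hg : g ∈ M)
    (hgS : g ∈ Cfsg.spGL m F) :
    SpFull M ((g : Matrix (Fin m ⊕ Fin m) (Fin m ⊕ Fin m) F) *ᵥ x) :=
  fun c => (h c).conj hg hgS

theorem SpFull.add (hx : SpFull M x) (hy : SpFull M y) (h : Cfsg.sympForm m F x y ≠ 0) :
    SpFull M (x + y) := by
  have hyx : Cfsg.sympForm m F y x ≠ 0 := by rw [sympForm_swap]; exact neg_ne_zero.2 h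
  have := hy.conj ((hasSpTv_iff x _).1 (hx (Cfsg.sympForm m F y x)⁻¹)) (spTv_mem_spGL _ _)
  rw [coe_tvGL, spTv_mulVec, inv_mul_cancel₀ hyx, one_smul] at this
  rwa [add_comm] at this

theorem spGL_le_of_spFull (h : ∀ v, SpFull M v) : Cfsg.spGL m F ≤ M :=
  spGL_le_of_hasSpTv fun v c _ => h v c

end CfsgLib.MaxSub
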