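import Cfsg.Agent.Lib.Geom.OmegaMax

/-!
Maximality inside `Cfsg.Geo.omegaGL` from a dichotomy in the abstract isometry group.
-/

set_option autoImplicit false

namespace CfsgLib.MaxSub

open CfsgLib.Classical CfsgLib.Geom

variable {F : Type*} [Field F] [Fintype F] {ι : Type} [Fintype ι] [DecidableEq ι]

theorem omega_isMaximalIn_of (Q : QuadraticForm F (ι → F)) {f : (ι → F) → F} (hf : ⇑Q = f)
    (H : Subgroup (Matrix.GeneralLinearGroup ι F))
    (hmove : ∃ g ∈ commutator (quadIsoms Q), isomsToGL Q g ∉ H)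
    (hdich : ∀ M : Subgroup (quadIsoms Q),
      (∀ g ∈ commutator (quadIsoms Q), isomsToGL Q g ∈ H → g ∈ M) →
      ∀ g ∈ M, g ∈ commutator (quadIsoms Q) → isomsToGL Q g ∉ H → commutator (quadIsoms Q) ≤ M) :
    Cfsg.Geo.IsMaximalIn (Cfsg.Geo.omegaGL f) (H ⊓ Cfsg.Geo.omegaGL f) := by
  subst hf
  rw [omegaGL_eq_map]
  refine ⟨lt_of_le_not_ge inf_le_right fun hle => ?_, fun M hHM hMK => ?_⟩
  · obtain ⟨g, hg, hgH⟩ := hmove
    exact hgH (hle (Subgroup.mem_map_of_mem _ hg)).1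
  by_cases hex : ∀ m ∈ M, m ∈ H
  · exact Or.inl (le_antisymm (fun m hm => ⟨hex m hm, hMK hm⟩) hHM)
  push Not at hex
  obtain ⟨m, hm, hmH⟩ := hex
  obtain ⟨g, hg, rfl⟩ := hMK hm
  have hle := hdich (M.comap (isomsToGL Q))
    (fun g hg hgH => hHM ⟨hgH, Subgroup.mem_map_of_mem _ hg⟩) g hm hg hmH
  exact Or.inr (le_antisymm hMK (by rintro _ ⟨g, hg, rfl⟩; exact hle hg))

end CfsgLib.MaxSub
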