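import Cfsg.Agent.Lib.Geom.SiegelFull
import Cfsg.Agent.Lib.MaxSub.Sub

/-!
Pairs of complementary maximal totally singular subspaces of a quadratic space, and Siegel
transformations in overgroups of the stabiliser of the pair.
-/

set_option autoImplicit false
set_option linter.unusedSectionVars false

namespace CfsgLib.MaxSub

open CfsgLib.Classical CfsgLib.Geom
open QuadraticMap (polar)

variable {F V : Type*} [Field F] [AddCommGroup V] [Module F V] {Q : QuadraticForm F V}

/-- `x ↦ polar Q x v` -/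
def pLin (Q : QuadraticForm F V) (v : V) : V →ₗ[F] F := (QuadraticMap.polarBilin Q).flip v

theorem mem_ker_pLin {v x : V} : x ∈ LinearMap.ker (pLin Q v) ↔ polar Q x v = 0 := Iff.rfl

/-- `A`, `B` are complementary totally singular subspaces of dimension `k`. -/
structure OPolar (Q : QuadraticForm F V) (k : ℕ) (A B : Submodule F V) : Prop where
  sep : ∀ x, (∀ y, polar Q x y = 0) → x = 0
  singA : ∀ u ∈ A, Q u = 0
  singB : ∀ u ∈ B, Q u = 0
  inf_eq : A ⊓ B = ⊥
  sup_eq : A ⊔ B = ⊤
  dimA : Module.finrank F A = k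
  dimB : Module.finrank F B = k

theorem polar_of_singular {A : Submodule F V} (hA : ∀ u ∈ A, Q u = 0) {u v : V} (hu : u ∈ A)
    (hv : v ∈ A) : polar Q u v = 0 := by
  rw [QuadraticMap.polar, hA _ (add_mem hu hv), hA u hu, hA v hv]; ring

theorem siegel_self_smul {u : V} (hu : Q u = 0) (c : F) : siegel Q u (c • u) = 1 := by
  have h : polar Q u (c • u) = 0 := by
    rw [QuadraticMap.polar_smul_right, polar_self_of_singular Q hu, smul_zero]
  refine quadIsoms_ext Q fun z => ?_
  rw [siegel_apply Q hu h, quad_smul, hu, QuadraticMap.polar_smul_left, smul_eq_mul,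
    Subgroup.coe_one, LinearEquiv.coe_one, id]
  module

theorem siegel_swap {a b : V} (ha : Q a = 0) (hb : Q b = 0) (h : polar Q a b = 0) :
    siegel Q b a = siegel Q a (-b) := by
  have h' : polar Q b a = 0 := by rw [QuadraticMap.polar_comm]; exact h
  refine quadIsoms_ext Q fun z => ?_
  rw [siegel_apply Q hb h', siegel_apply Q ha (by rw [QuadraticMap.polar_neg_right, h, neg_zero]), ha,
    QuadraticMap.map_neg, hb, QuadraticMap.polar_neg_left]
  module

namespace OPolar

variable [FiniteDimensional F V] {k : ℕ} {A B : Submodule F V} (P : OPolar Q k A B)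
include P

theorem symm : OPolar Q k B A :=
  ⟨P.sep, P.singB, P.singA, by rw [inf_comm, P.inf_eq], by rw [sup_comm, P.sup_eq], P.dimB, P.dimA⟩

theorem zero_of_mem {x : V} (ha : x ∈ A) (hb : x ∈ B) : x = 0 :=
  (Submodule.eq_bot_iff _).1 P.inf_eq x ⟨ha, hb⟩

theorem decomp (x : V) : ∃ a ∈ A, ∃ b ∈ B, a + b = x :=
  Submodule.mem_sup.1 (by rw [P.sup_eq]; trivial)

theorem zero_of_orth {x : V} (hA : ∀ a ∈ A, polar Q x a = 0) (hB : ∀ b ∈ B, polar Q x b = 0) :
    x = 0 := by
  refine P.sep x fun y => ?_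
  obtain ⟨a, ha, b, hb, rfl⟩ := P.decomp y
  rw [QuadraticMap.polar_add_right, hA a ha, hB b hb, add_zero]

theorem mem_of_orth {x : V} (hB : ∀ b ∈ B, polar Q x b = 0) : x ∈ B := by
  obtain ⟨a, ha, b, hb, rfl⟩ := P.decomp x
  have : a = 0 := P.zero_of_orth (fun a' ha' => polar_of_singular P.singA ha ha') fun b' hb' => by
    have := hB b' hb'
    rwa [QuadraticMap.polar_add_left, polar_of_singular P.singB hb hb', add_zero] at this
  rwa [this, zero_add]

theorem exists_sep {x w u : V} (hx : x ∈ A) (hw : w ∈ A) (hu : u ∈ A)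
    (h : x ∉ Submodule.span F {w, u}) :
    ∃ α ∈ B, polar Q α w = 0 ∧ polar Q α u = 0 ∧ polar Q α x ≠ 0 := by
  obtain ⟨y, hy, hxy⟩ := exists_perp_pair (σ := RingHom.id F) (QuadraticMap.polarBilin Q) P.sep
    (B ⊔ Submodule.span F {w, u}) (x₀ := x) (fun hm => by
      obtain ⟨b, hb, s, hs, rfl⟩ := Submodule.mem_sup.1 hm
      have hsA : s ∈ A := Submodule.span_le.2 (by
        rintro _ (rfl | rfl)
        · exact hw
        · exact hu) hs
      have hb0 : b = 0 := P.zero_of_mem (by simpa using sub_mem hx hsA) hb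
      rw [hb0, zero_add] at h
      exact h hs)
  simp only [QuadraticMap.polarBilin_apply_apply] at hy hxy
  refine ⟨y, P.mem_of_orth fun b hb => ?_, ?_, ?_, ?_⟩
  · rw [QuadraticMap.polar_comm]; exact hy b (Submodule.mem_sup_left hb)
  · rw [QuadraticMap.polar_comm]; exact hy w (Submodule.mem_sup_right (Submodule.subset_span (by simp)))
  · rw [QuadraticMap.polar_comm]; exact hy u (Submodule.mem_sup_right (Submodule.subset_span (by simp)))
  · rw [QuadraticMap.polar_comm, hxy]; exact one_ne_zero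

variable {M : Subgroup (quadIsoms Q)}
  (hM : ∀ u ∈ A, ∀ α ∈ B, polar Q u α = 0 → siegel Q u α ∈ M)
include hM

theorem radical_move {x y z : V} (hx : x ∈ A) (hy : y ∈ A) (hz : z ∈ A)
    (hS : siegel Q x y ∈ M) (hind : y ∉ Submodule.span F {x, z - y}) : siegel Q x z ∈ M := by
  have hd := sub_mem hz hy
  obtain ⟨α, hα, hαx, hαd, hαy⟩ := P.exists_sep hy hx hd hind
  set β := (-(polar Q α y)⁻¹) • α with hβ
  have hβy : polar Q β y = -1 := by
    rw [hβ, QuadraticMap.polar_smul_left, smul_eq_mul, neg_mul, inv_mul_cancel₀ hαy]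
  have hβx : polar Q β x = 0 := by rw [hβ, QuadraticMap.polar_smul_left, hαx, smul_zero]
  have hβd : polar Q (z - y) β = 0 := by
    rw [QuadraticMap.polar_comm, hβ, QuadraticMap.polar_smul_left, hαd, smul_zero]
  have hT := hM _ hd β (B.smul_mem _ hα) hβd
  have h1 := mul_mem (mul_mem hT hS) (inv_mem hT)
  rw [siegel_conj, siegel_apply Q (P.singA _ hd) hβd, siegel_apply Q (P.singA _ hd) hβd,
    polar_of_singular P.singA hd hx, polar_of_singular P.singA hd hy, hβx, hβy] at h1
  simpa using h1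

/-- One element of the unipotent radical gives all Siegel transformations centred in `A`. -/
theorem full_of_radical (h3 : 3 ≤ k) {u w : V} (hu : u ∈ A) (hw : w ∈ A)
    (hind : w ∉ Submodule.span F {u}) (hu0 : u ≠ 0) (hS : siegel Q u w ∈ M) :
    ∀ x ∈ A, OrthSub.Full M x := by
  have all : ∀ a b : V, a ∈ A → b ∈ A → a ≠ 0 → b ∉ Submodule.span F {a} →
      siegel Q a b ∈ M → ∀ c ∈ A, c ∉ Submodule.span F {a} → siegel Q a c ∈ M := by
    intro a b ha hb ha0 hba hab c hc hca
    obtain ⟨p, hp, hpb, hpc⟩ : ∃ p ∈ A, p ∉ Submodule.span F {a, b} ∧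
        p ∉ Submodule.span F {a, c} := by
      by_contra hno
      push Not at hno
      rcases le_or_le_of_forall_mem (U := A) (A := Submodule.span F {a, b})
        (B := Submodule.span F {a, c}) fun x hx => or_iff_not_imp_left.2 (hno x hx) with h | h
      · obtain ⟨x, hx, hx'⟩ := exists_notMem_span_pair (U := A) a b (by rw [P.dimA]; omega)
        exact hx' (h hx)
      · obtain ⟨x, hx, hx'⟩ := exists_notMem_span_pair (U := A) a c (by rw [P.dimA]; omega)
        exact hx' (h hx)
    have key : ∀ r s : V, r ∉ Submodule.span F {a} → s ∉ Submodule.span F {a, r} →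
        r ∉ Submodule.span F {a, s - r} := by
      intro r s hr hs hm
      obtain ⟨i, j, e⟩ := Submodule.mem_span_pair.1 hm
      rcases eq_or_ne j 0 with rfl | hj
      · exact hr (Submodule.mem_span_singleton.2 ⟨i, by simpa using e⟩)
      · refine hs (Submodule.mem_span_pair.2 ⟨-(j⁻¹ * i), j⁻¹ * (1 + j), ?_⟩)
        refine smul_right_injective V hj ?_
        simp only [smul_add, smul_smul, mul_neg, ← mul_assoc, mul_inv_cancel₀ hj, one_mul]
        linear_combination (norm := module) -e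
    refine radical_move P hM ha hp hc (radical_move P hM ha hb hp hab (key b p hba hpb)) ?_
    intro hm
    obtain ⟨i, j, e⟩ := Submodule.mem_span_pair.1 hm
    by_cases hj : 1 + j = 0
    · refine hca (Submodule.mem_span_singleton.2 ⟨i, ?_⟩)
      obtain rfl : j = -1 := by linear_combination hj
      linear_combination (norm := module) e
    · refine hpc (Submodule.mem_span_pair.2 ⟨(1 + j)⁻¹ * i, (1 + j)⁻¹ * j, ?_⟩)
      refine smul_right_injective V hj ?_
      simp only [smul_add, smul_smul, ← mul_assoc, mul_inv_cancel₀ hj, one_mul]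
      linear_combination (norm := module) e
  have hnotspan : ∀ a b : V, a ≠ 0 → b ∉ Submodule.span F {a} → a ∉ Submodule.span F {b} := by
    intro a b ha hb hm
    obtain ⟨s, hs⟩ := Submodule.mem_span_singleton.1 hm
    have hs0 : s ≠ 0 := fun e => ha (by rw [← hs, e, zero_smul])
    exact hb (Submodule.mem_span_singleton.2 ⟨s⁻¹, by rw [← hs, inv_smul_smul₀ hs0]⟩)
  have hflip : ∀ a b : V, a ∈ A → b ∈ A → siegel Q a b ∈ M → siegel Q b a ∈ M := by
    intro a b ha hb h
    rw [siegel_swap (P.singA a ha) (P.singA b hb) (polar_of_singular P.singA ha hb),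
      ← siegel_neg Q (P.singA a ha) (polar_of_singular P.singA ha hb)]
    exact inv_mem h
  have pairs : ∀ a c, a ∈ A → c ∈ A → siegel Q a c ∈ M := by
    intro a c ha hc
    rcases eq_or_ne a 0 with rfl | ha0
    · have h0 : polar Q 0 c = 0 := polar_of_singular P.singA ha hc
      have h : siegel Q 0 c = 1 := quadIsoms_ext Q fun z => by
        rw [siegel_apply Q (P.singA 0 ha) h0]; simp
      rw [h]; exact one_mem M
    by_cases hca : c ∈ Submodule.span F {a}
    · obtain ⟨t, rfl⟩ := Submodule.mem_span_singleton.1 hca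
      rw [siegel_self_smul (P.singA a ha)]; exact one_mem M
    obtain ⟨p, hp, hpu, hpa⟩ : ∃ p ∈ A, p ∉ Submodule.span F {u} ∧ p ∉ Submodule.span F {a} := by
      obtain ⟨p, hp, hp'⟩ := exists_notMem_span_pair (U := A) u a (by rw [P.dimA]; omega)
      exact ⟨p, hp, fun h => hp' (Submodule.span_mono (by simp) h),
        fun h => hp' (Submodule.span_mono (by simp) h)⟩
    have h1 := hflip _ _ hu hp (all u w hu hw hu0 hind hS p hp hpu)
    have hp0 : p ≠ 0 := by rintro rfl; exact hpa (Submodule.zero_mem _)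
    have h2 := hflip _ _ hp ha
      (all p u hp hu hp0 (hnotspan u p hu0 hpu) h1 a ha (hnotspan a p ha0 hpa))
    exact all a p ha hp ha0 hpa h2 c hc hca
  intro x hx z hxz
  obtain ⟨z₁, hz₁, z₂, hz₂, rfl⟩ := P.decomp z
  have h1 := polar_of_singular P.singA hx hz₁
  rw [QuadraticMap.polar_add_right, h1, zero_add] at hxz
  rw [siegel_add Q (P.singA x hx) h1 hxz]
  exact mul_mem (pairs x z₁ hx hz₁) (hM x hx z₂ hz₂ hxz)

/-- A conjugate pair off both subspaces gives the Siegel transformations centred in `A`. -/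
theorem full_of_pair (h5 : 5 ≤ k) {a b a₁ a₂ b₁ b₂ : V}
    (ha₁ : a₁ ∈ A) (ha₂ : a₂ ∈ B) (ha : a₁ + a₂ = a) (hb₁ : b₁ ∈ A) (hb₂ : b₂ ∈ B)
    (hb : b₁ + b₂ = b) (haa : Q a = 0) (hbb : Q b = 0) (hab : polar Q a b = 0)
    (hS : siegel Q a b ∈ M) (hb10 : b₁ ≠ 0) (hind : a₁ ∉ Submodule.span F {b₁}) :
    ∀ x ∈ A, OrthSub.Full M x := by
  have d1 := finrank_le_inf_ker A (pLin Q a)
  have d2 := finrank_le_inf_ker (A ⊓ LinearMap.ker (pLin Q a)) (pLin Q b)
  rw [P.dimA] at d1
  obtain ⟨u, hu, hu'⟩ := exists_notMem_span_pair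
    (U := A ⊓ LinearMap.ker (pLin Q a) ⊓ LinearMap.ker (pLin Q b)) b₁ a₁ (by omega)
  obtain ⟨⟨huA, hua'⟩, hub'⟩ := hu
  have hua : polar Q u a = 0 := hua'
  have hub : polar Q u b = 0 := hub'
  obtain ⟨α, hα, hαb, hαu, hαa⟩ := P.exists_sep ha₁ hb₁ huA (by
    intro hm
    obtain ⟨i, j, e⟩ := Submodule.mem_span_pair.1 hm
    rcases eq_or_ne j 0 with rfl | hj
    · exact hind (Submodule.mem_span_singleton.2 ⟨i, by simpa using e⟩)
    · refine hu' (Submodule.mem_span_pair.2 ⟨-(j⁻¹ * i), j⁻¹, ?_⟩)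
      refine smul_right_injective V hj ?_
      simp only [smul_add, smul_smul, mul_neg, ← mul_assoc, mul_inv_cancel₀ hj, one_mul]
      linear_combination (norm := module) -e)
  have hαb' : polar Q α b = 0 := by
    rw [← hb, QuadraticMap.polar_add_right, hαb, polar_of_singular P.singB hα hb₂, add_zero]
  have huα : polar Q u α = 0 := by rw [QuadraticMap.polar_comm]; exact hαu
  set κ := polar Q a α with hκ
  have hκ0 : κ ≠ 0 := by
    rw [hκ, QuadraticMap.polar_comm, ← ha, QuadraticMap.polar_add_right,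
      polar_of_singular P.singB hα ha₂, add_zero]
    exact hαa
  have hukb : polar Q u (κ • b) = 0 := by rw [QuadraticMap.polar_smul_right, hub, smul_zero]
  have huu := P.singA u huA
  have h1 : siegel Q u (κ • b) ∈ M := by
    have hUα := hM u huA α hα huα
    have h := mul_mem (mul_mem hS hUα) (inv_mem hS)
    rw [siegel_conj, siegel_apply Q haa hab, siegel_apply Q haa hab, hbb,
      QuadraticMap.polar_comm _ a u, hua, QuadraticMap.polar_comm _ b u, hub,
      QuadraticMap.polar_comm _ b α, hαb', ← hκ] at h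
    simp only [zero_smul, add_zero, zero_mul, sub_zero, zero_add] at h
    rw [siegel_add Q huu huα hukb] at h
    simpa using mul_mem (inv_mem hUα) h
  have hu1 : polar Q u (κ • b₁) = 0 := by
    rw [QuadraticMap.polar_smul_right, polar_of_singular P.singA huA hb₁, smul_zero]
  have hu2 : polar Q u (κ • b₂) = 0 := by
    rw [← hb, smul_add, QuadraticMap.polar_add_right, hu1, zero_add] at hukb
    exact hukb
  rw [← hb, smul_add, siegel_add Q huu hu1 hu2] at h1
  have hS₁ : siegel Q u (κ • b₁) ∈ M :=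
    (Subgroup.mul_mem_cancel_right M (hM u huA _ (B.smul_mem _ hb₂) hu2)).1 h1
  have hu0 : u ≠ 0 := by rintro rfl; exact hu' (Submodule.zero_mem _)
  refine full_of_radical P hM (by omega) huA (A.smul_mem _ hb₁) ?_ hu0 hS₁
  intro hm
  obtain ⟨r, hr⟩ := Submodule.mem_span_singleton.1 ((Submodule.smul_mem_iff _ hκ0).1 hm)
  have hr0 : r ≠ 0 := fun e => hb10 (by rw [← hr, e, zero_smul])
  exact hu' (Submodule.mem_span_pair.2 ⟨r⁻¹, 0, by rw [← hr, inv_smul_smul₀ hr0]; simp⟩)

end OPolar

end CfsgLib.MaxSub
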