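import Cfsg.Agent.Lib.MaxSub.TensorFrame
import Cfsg.Agent.Lib.MaxSub.OrthPolar
import Cfsg.Agent.Lib.MaxSub.OmegaGen
import Mathlib.FieldTheory.Finite.Basic
import Mathlib.LinearAlgebra.QuadraticForm.Basic

/-!
Three-dimensional symmetric forms over three elements have an invariant frame: tensor stabilisers with such a
factor are not maximal.
-/

set_option autoImplicit false

namespace CfsgLib.MaxSub.TensorFrame

open Cfsg.Geo Matrix
open QuadraticMap (polar)

variable {F : Type*} [Field F] [Fintype F]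

theorem three (hq : Fintype.card F = 3) :
    (3 : F) = 0 ∧ (2 : F) ≠ 0 ∧ (∀ a : F, a ≠ 0 → a * a = 1) ∧ ∀ a : F, a ≠ 0 → a = 1 ∨ a = -1 := by
  have h3 : (3 : F) = 0 := by
    have h := FiniteField.cast_card_eq_zero F
    rw [hq] at h
    exact_mod_cast h
  have hsq : ∀ a : F, a ≠ 0 → a * a = 1 := fun a ha => by
    have := FiniteField.pow_card_sub_one_eq_one a ha
    rwa [hq, pow_two] at this
  refine ⟨h3, fun h => one_ne_zero (α := F) (by linear_combination h3 - h), hsq, fun a ha => ?_⟩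
  have : (a - 1) * (a + 1) = 0 := by linear_combination hsq a ha
  exact (mul_eq_zero.1 this).imp sub_eq_zero.1 eq_neg_of_add_eq_zero_left

/-- orthogonal bases of symmetric forms -/
theorem exists_orth_basis (h2 : (2 : F) ≠ 0) {k : ℕ} {f : (Fin k → F) → (Fin k → F) → F} (hf : IsSymmetricForm f) :
    ∃ v : Module.Basis (Fin k) F (Fin k → F), (∀ i j, i ≠ j → f (v i) (v j) = 0) ∧ ∀ i, f (v i) (v i) ≠ 0 := by
  haveI : Invertible (2 : F) := invertibleOfNonzero h2
  let B : LinearMap.BilinForm F (Fin k → F) :=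
    LinearMap.mk₂ F f hf.bilinear.add_left hf.bilinear.smul_left
      (fun v x y => hf.bilinear.add_right v x y) (fun c v x => hf.bilinear.smul_right c v x)
  obtain ⟨v, hv⟩ := LinearMap.BilinForm.exists_orthogonal_basis (B := B) ⟨fun x y => hf.symm x y⟩
  have hk : Module.finrank F (Fin k → F) = k := Module.finrank_fin_fun F
  refine ⟨v.reindex (finCongr hk), fun i j hij => ?_, fun i h => ?_⟩
  · simp only [Module.Basis.reindex_apply]
    exact hv (fun e => hij ((finCongr hk).symm.injective e))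
  · simp only [Module.Basis.reindex_apply] at h
    set i' := (finCongr hk).symm i
    obtain ⟨x, hx⟩ := (hf.nondegenerate (v i') (v.ne_zero i')).1
    apply hx
    show B x (v i') = 0
    rw [← v.sum_repr x, map_sum, LinearMap.sum_apply]
    refine Finset.sum_eq_zero fun j _ => ?_
    rw [map_smul, LinearMap.smul_apply]
    by_cases hj : j = i'
    · subst hj; exact smul_eq_zero_of_right _ h
    · exact smul_eq_zero_of_right _ (hv hj)

/-- a frame with equal values, and the similitudes permute its lines -/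
theorem exists_frame_three (hq : Fintype.card F = 3) {f : (Fin 3 → F) → (Fin 3 → F) → F} (hf : IsSymmetricForm f) :
    ∃ (v : Fin 3 → Fin 3 → F) (d : F), d ≠ 0 ∧ (∀ i j, f (v i) (v j) = if i = j then d else 0) ∧
      LinearIndependent F v ∧
      ∀ (a : Matrix (Fin 3) (Fin 3) F) (μ : F), μ ≠ 0 → (∀ x y, f (a *ᵥ x) (a *ᵥ y) = μ * f x y) →
        ∀ j, ∃ (l : Fin 3) (r : F), a *ᵥ v j = r • v l := by
  obtain ⟨h3, h2, hsq, hpm⟩ := three hq
  obtain ⟨b, hb, hb0⟩ := exists_orth_basis h2 hf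
  obtain ⟨v, d, hd, hv⟩ : ∃ (v : Fin 3 → Fin 3 → F) (d : F), d ≠ 0 ∧
      ∀ i j, f (v i) (v j) = if i = j then d else 0 := by
    have key : ∀ i j k : Fin 3, i ≠ j → i ≠ k → j ≠ k → f (b i) (b i) = f (b j) (b j) →
        f (b i) (b i) ≠ f (b k) (b k) → ∃ (v : Fin 3 → Fin 3 → F) (d : F), d ≠ 0 ∧
          ∀ p r, f (v p) (v r) = if p = r then d else 0 := by
      intro i j k hij hik hjk he hne
      have hk : f (b k) (b k) = 2 * f (b i) (b i) := by
        rcases hpm _ (hb0 i) with e | e <;> rcases hpm _ (hb0 k) with e' | e' <;> rw [e, e'] at hne ⊢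
        · exact absurd rfl hne
        · linear_combination -h3
        · linear_combination h3
        · exact absurd rfl hne
      refine ⟨![b i + b j, b i - b j, b k], f (b k) (b k), hb0 k, fun p r => ?_⟩
      have hsub : ∀ x y z, f (x - y) z = f x z - f y z := fun x y z => by
        rw [sub_eq_add_neg, hf.bilinear.add_left, ← neg_one_smul F y, hf.bilinear.smul_left]; ring
      have hsub' : ∀ x y z, f x (y - z) = f x y - f x z := fun x y z => by rw [hf.symm, hsub, hf.symm y, hf.symm z]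
      fin_cases p <;> fin_cases r <;>
        simp [hf.bilinear.add_left, hf.bilinear.add_right, hsub, hsub', hb i j hij, hb j i hij.symm, hb i k hik,
          hb k i hik.symm, hb j k hjk, hb k j hjk.symm, he.symm, hk] <;> ring
    by_cases h01 : f (b 0) (b 0) = f (b 1) (b 1)
    · by_cases h02 : f (b 0) (b 0) = f (b 2) (b 2)
      · refine ⟨fun i => b i, f (b 0) (b 0), hb0 0, fun i j => ?_⟩
        by_cases hij : i = j
        · subst hij
          fin_cases i <;> simp [← h01, ← h02]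
        · rw [if_neg hij]; exact hb i j hij
      · exact key 0 1 2 (by decide) (by decide) (by decide) h01 h02
    · by_cases h02 : f (b 0) (b 0) = f (b 2) (b 2)
      · exact key 0 2 1 (by decide) (by decide) (by decide) h02 h01
      · refine key 1 2 0 (by decide) (by decide) (by decide) ?_ (Ne.symm h01)
        rcases hpm _ (hb0 0) with e | e <;> rcases hpm _ (hb0 1) with e' | e' <;> rcases hpm _ (hb0 2) with e'' | e'' <;>
          simp [e, e', e''] at h01 h02 ⊢
  let B : (Fin 3 → F) → ((Fin 3 → F) →ₗ[F] F) := fun y =>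
    { toFun := fun z => f z y, map_add' := fun p q => hf.bilinear.add_left p q y,
      map_smul' := fun c p => hf.bilinear.smul_left c p y }
  have hcomb : ∀ (w : Fin 3 → F) (y : Fin 3 → F), f (∑ i, w i • v i) y = ∑ i, w i * f (v i) y := fun w y => by
    show B y _ = _
    rw [map_sum]
    exact Finset.sum_congr rfl fun i _ => by rw [map_smul]; rfl
  have hval : ∀ w : Fin 3 → F, ∀ j, f (∑ i, w i • v i) (v j) = w j * d := fun w j => by
    rw [hcomb, Finset.sum_eq_single j]
    · rw [hv, if_pos rfl]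
    · intro i _ hi; rw [hv, if_neg hi, mul_zero]
    · intro h; exact absurd (Finset.mem_univ j) h
  have hli : LinearIndependent F v := by
    rw [Fintype.linearIndependent_iff]
    intro w hw j
    have := hval w j
    rw [hw, show f 0 (v j) = 0 from (B (v j)).map_zero, eq_comm, mul_eq_zero] at this
    exact this.resolve_right hd
  refine ⟨v, d, hd, hv, hli, fun a μ hμ ha => ?_⟩
  have hs : Submodule.span F (Set.range v) = ⊤ := hli.span_eq_top_of_card_eq_finrank (by simp)
  choose W hW using fun j => (Submodule.mem_span_range_iff_exists_fun F).1 (hs ▸ Submodule.mem_top :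
    a *ᵥ v j ∈ Submodule.span F (Set.range v))
  have hWW : ∀ j k, ∑ i, W j i * W k i = if j = k then μ else 0 := fun j k => by
    refine mul_right_cancel₀ hd ?_
    have h1 := ha (v j) (v k)
    rw [hv, ← hW j, hcomb] at h1
    have h2 : ∀ i, f (v i) (a *ᵥ v k) = W k i * d := fun i => by rw [hf.symm, ← hW k, hval]
    simp only [h2] at h1
    rw [Finset.sum_mul, ite_mul, zero_mul]
    rw [mul_ite, mul_zero] at h1
    simpa [mul_assoc] using h1
  have hμ1 : μ = 1 := by
    let M : Matrix (Fin 3) (Fin 3) F := Matrix.of W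
    have hM : M * M.transpose = μ • (1 : Matrix (Fin 3) (Fin 3) F) := by
      ext j k
      simp only [Matrix.mul_apply, Matrix.transpose_apply, M, Matrix.of_apply, hWW, Matrix.smul_apply, Matrix.one_apply,
        smul_eq_mul, mul_ite, mul_one, mul_zero]
    have hdet := congrArg Matrix.det hM
    rw [Matrix.det_mul, Matrix.det_transpose, Matrix.det_smul, Matrix.det_one, mul_one, Fintype.card_fin] at hdet
    have hm : M.det ≠ 0 := fun e => by rw [e, mul_zero] at hdet; exact pow_ne_zero 3 hμ hdet.symm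
    rw [hsq _ hm] at hdet
    linear_combination -hdet - μ * hsq μ hμ
  subst hμ1
  intro j
  by_cases h0 : ∀ i, W j i = 0
  · exact ⟨0, 0, by rw [← hW j, zero_smul]; simp [h0]⟩
  have hnorm := hWW j j
  rw [if_pos rfl, Fin.sum_univ_three] at hnorm
  have hone : ∀ p r : Fin 3, p ≠ r → W j p = 0 ∨ W j r = 0 := by
    intro p r hpr
    by_contra hno
    simp only [not_or] at hno
    obtain ⟨hp, hr⟩ := hno
    have h0' : (W j 0 * W j 0 = 0 ∧ W j 0 = 0) ∨ W j 0 * W j 0 = 1 :=
      (em (W j 0 = 0)).imp (fun e => ⟨by rw [e, mul_zero], e⟩) (hsq _)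
    have h1' : (W j 1 * W j 1 = 0 ∧ W j 1 = 0) ∨ W j 1 * W j 1 = 1 :=
      (em (W j 1 = 0)).imp (fun e => ⟨by rw [e, mul_zero], e⟩) (hsq _)
    have h2' : (W j 2 * W j 2 = 0 ∧ W j 2 = 0) ∨ W j 2 * W j 2 = 1 :=
      (em (W j 2 = 0)).imp (fun e => ⟨by rw [e, mul_zero], e⟩) (hsq _)
    rcases h0' with ⟨a0, z0⟩ | a0 <;> rcases h1' with ⟨a1, z1⟩ | a1 <;> rcases h2' with ⟨a2, z2⟩ | a2 <;>
      rw [a0, a1, a2] at hnorm <;> fin_cases p <;> fin_cases r <;>
      first
        | exact absurd rfl hpr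
        | exact hp z0 | exact hp z1 | exact hp z2 | exact hr z0 | exact hr z1 | exact hr z2
        | exact one_ne_zero (α := F) (by linear_combination hnorm)
        | exact one_ne_zero (α := F) (by linear_combination h3 - hnorm)
  push Not at h0
  obtain ⟨l, hl⟩ := h0
  refine ⟨l, W j l, ?_⟩
  rw [← hW j, Finset.sum_eq_single l]
  · intro i _ hi; rw [(hone i l hi).resolve_right hl, zero_smul]
  · intro h; exact absurd (Finset.mem_univ l) h

/-- an isotropic vector with a second orthogonal direction and a partner -/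
theorem exists_isotropic (hq : Fintype.card F = 3) {k : ℕ} (hk : 3 ≤ k) {f : (Fin k → F) → (Fin k → F) → F}
    (hf : IsSymmetricForm f) :
    ∃ z z' y, z ≠ 0 ∧ f z z = 0 ∧ f z z' = 0 ∧ (¬ ∃ s : F, s • z = z') ∧ f z y ≠ 0 := by
  obtain ⟨h3, h2, hsq, hpm⟩ := three hq
  obtain ⟨b, hb, hb0⟩ := exists_orth_basis h2 hf
  obtain ⟨z, hz0, hzz⟩ : ∃ z, z ≠ 0 ∧ f z z = 0 := by
    let i : Fin 3 → Fin k := fun p => ⟨p.val, by omega⟩
    have hi : ∀ p r, p ≠ r → i p ≠ i r := fun p r h e => h (Fin.ext (by simpa [i] using congrArg Fin.val e))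
    have two : ∀ p r, p ≠ r → f (b (i p)) (b (i p)) + f (b (i r)) (b (i r)) = 0 → ∃ z, z ≠ 0 ∧ f z z = 0 := by
      intro p r hpr h
      refine ⟨b (i p) + b (i r), fun e => hb0 (i p) ?_, ?_⟩
      · have h1 : f (b (i p)) (b (i p) + b (i r)) = f (b (i p)) 0 := by rw [e]
        rw [hf.bilinear.add_right, hb _ _ (hi p r hpr), add_zero,
          show f (b (i p)) 0 = 0 by have := hf.bilinear.smul_right 0 (b (i p)) 0; rwa [zero_smul, zero_mul] at this] at h1
        exact h1
      · rw [hf.bilinear.add_left, hf.bilinear.add_right, hf.bilinear.add_right, hb _ _ (hi p r hpr),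
          hb _ _ (hi r p hpr.symm)]
        linear_combination h
    by_cases h01 : f (b (i 0)) (b (i 0)) + f (b (i 1)) (b (i 1)) = 0
    · exact two 0 1 (by decide) h01
    by_cases h02 : f (b (i 0)) (b (i 0)) + f (b (i 2)) (b (i 2)) = 0
    · exact two 0 2 (by decide) h02
    refine ⟨b (i 0) + b (i 1) + b (i 2), fun e => hb0 (i 0) ?_, ?_⟩
    · have h1 : f (b (i 0)) (b (i 0) + b (i 1) + b (i 2)) = f (b (i 0)) 0 := by rw [e]
      rw [hf.bilinear.add_right, hf.bilinear.add_right, hb _ _ (hi 0 1 (by decide)), hb _ _ (hi 0 2 (by decide)),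
        show f (b (i 0)) 0 = 0 by have := hf.bilinear.smul_right 0 (b (i 0)) 0; rwa [zero_smul, zero_mul] at this] at h1
      simpa using h1
    · simp only [hf.bilinear.add_left, hf.bilinear.add_right, hb _ _ (hi 0 1 (by decide)), hb _ _ (hi 0 2 (by decide)),
        hb _ _ (hi 1 0 (by decide)), hb _ _ (hi 1 2 (by decide)), hb _ _ (hi 2 0 (by decide)), hb _ _ (hi 2 1 (by decide))]
      rcases hpm _ (hb0 (i 0)) with e | e <;> rcases hpm _ (hb0 (i 1)) with e' | e' <;>
        rcases hpm _ (hb0 (i 2)) with e'' | e'' <;> rw [e, e'] at h01 <;> rw [e, e''] at h02 <;> rw [e, e', e''] <;>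
        first
          | linear_combination h3
          | linear_combination -h3
          | exact absurd (by ring1) h01
          | exact absurd (by ring1) h02
  obtain ⟨y, hy⟩ := (hf.nondegenerate z hz0).2
  let L : (Fin k → F) →ₗ[F] F :=
    { toFun := fun x => f z x, map_add' := hf.bilinear.add_right z, map_smul' := fun c x => hf.bilinear.smul_right c z x }
  have h1 := LinearMap.finrank_range_add_finrank_ker L
  have h2' : Module.finrank F (LinearMap.range L) ≤ 1 :=
    (Submodule.finrank_le _).trans (le_of_eq (Module.finrank_self F))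
  rw [Module.finrank_fin_fun] at h1
  obtain ⟨z', hz', hzz'⟩ : ∃ z' ∈ LinearMap.ker L, z' ∉ Submodule.span F {z} := by
    by_contra hno
    push Not at hno
    have := (Submodule.finrank_mono (show LinearMap.ker L ≤ Submodule.span F {z} from hno)).trans
      (finrank_span_le_card ({z} : Set (Fin k → F)))
    simp at this; omega
  exact ⟨z, z', y, hz0, hzz, hz', fun ⟨s, hs⟩ => hzz' (Submodule.mem_span_singleton.2 ⟨s, hs⟩), hy⟩

variable {ι : Type} [Fintype ι] [DecidableEq ι]

theorem exists_between_orth (hq : Fintype.card F = 3) (Q : QuadraticForm F (ι → F)) {g : (ι → F) → F} (hg : ⇑Q = g)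
    (hsep : ∀ x, (∀ y, polar Q x y = 0) → x = 0) (h5 : 5 ≤ Module.finrank F (ι → F)) {n₂ : ℕ} (hn₂ : 3 ≤ n₂)
    (e : ι ≃ Fin 3 × Fin n₂) (P : GL ι F) (f₁ : (Fin 3 → F) → (Fin 3 → F) → F)
    (f₂ : (Fin n₂ → F) → (Fin n₂ → F) → F) (hf₁ : IsSymmetricForm f₁) (hf₂ : IsSymmetricForm f₂)
    (hT : IsTensorFormStructure id (polar g) f₁ f₂ e P) :
    ∃ K : Subgroup (GL ι F), tensorProductSubgroup 3 n₂ e P ⊓ omegaGL g < K ∧ K < omegaGL g := by
  subst hg
  obtain ⟨h3, h2, hsq, hpm⟩ := three hq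
  obtain ⟨c, hc, hform⟩ := form_pure (σ := id) (fun u v => rfl) hT
    (formOfGram_gram _ f₁ hf₁.bilinear.add_left hf₁.bilinear.smul_left hf₁.bilinear.add_right hf₁.bilinear.smul_right)
    (formOfGram_gram _ f₂ hf₂.bilinear.add_left hf₂.bilinear.smul_left hf₂.bilinear.add_right hf₂.bilinear.smul_right)
  obtain ⟨v, d, hd, hv, hli, hperm⟩ := exists_frame_three hq hf₁
  obtain ⟨z, z', y, hz0, hzz, hzz', hnz', hzy⟩ := exists_isotropic hq hn₂ hf₂
  let T := pure e P
  have hfT : ∀ x y x' y', polar Q (T x y) (T x' y') = c * (f₁ x x' * f₂ y y') := hform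
  have hQ : ∀ x w, f₂ w w = 0 → Q (T x w) = 0 := fun x w h => by
    have h1 := hfT x w x w
    rw [CfsgLib.Geom.polar_self_two, h, mul_zero, mul_zero] at h1
    exact (mul_eq_zero.1 h1).resolve_left h2
  have hy0 : y ≠ 0 := fun e => hzy (by
    rw [e]; have := hf₂.bilinear.smul_right 0 z 0; rwa [zero_smul, zero_mul] at this)
  have hu : Q (T (v 0) z) = 0 := hQ _ _ hzz
  have hw : polar Q (T (v 0) z) (T (v 0) z') = 0 := by rw [hfT, hzz', mul_zero, mul_zero]
  have hw₂ : polar Q (T (v 0) z) (T (v 1) z) = 0 := by rw [hfT, hzz, mul_zero, mul_zero]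
  let g₁ := CfsgLib.Geom.isomsToGL Q (CfsgLib.Classical.siegel Q (T (v 0) z) (T (v 0) z'))
  let g₂ := CfsgLib.Geom.isomsToGL Q (CfsgLib.Classical.siegel Q (T (v 0) z) (T (v 1) z))
  have hS : ∀ a b, CfsgLib.Geom.isomsToGL Q (CfsgLib.Classical.siegel Q a b) ∈ omegaGL ⇑Q := fun a b => by
    rw [CfsgLib.Geom.omegaGL_eq_map]
    exact Subgroup.mem_map_of_mem _ (CfsgLib.Geom.OrthSub.siegel_mem_commutator hsep h5 a b)
  have hg₁ : ∀ j, ∀ w, (g₁ : Matrix ι ι F) *ᵥ T (v j) w = T (v j) (if j = 0 then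
      w + (c * d * f₂ z w) • z' - (c * d * f₂ z' w + Q (T (v 0) z') * (c * d * f₂ z w)) • z else w) := fun j w => by
    rw [CfsgLib.Geom.isomsToGL_mulVec, CfsgLib.Classical.siegel_apply (Q := Q) hu hw, hfT, hfT, hv]
    by_cases hj : j = 0
    · subst hj
      rw [if_pos rfl, if_pos rfl, map_sub, map_add, map_smul, map_smul, ← mul_assoc, ← mul_assoc]
    · rw [if_neg hj, if_neg (Ne.symm hj)]
      simp
  refine exists_between (tensorProductSubgroup 3 n₂ e P) _ T (pure_contract e P) v 0 1 (hli.ne_zero 0) ?_ ?_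
    (fun g' hg' => ?_) g₁ (hS _ _) (fun j w => ⟨_, hg₁ j w⟩) (fun w => ?_) y
    (y + (c * d * f₂ z y) • z' - (c * d * f₂ z' y + Q (T (v 0) z') * (c * d * f₂ z y)) • z)
    (by rw [hg₁, if_pos rfl]) hy0 ?_
    g₂ (hS _ _) y y ((c * d * f₂ z y) • z) ?_ ?_ ?_
  · rintro ⟨r, hr⟩
    have h1 := hv 0 1
    rw [← hr, hf₁.bilinear.smul_right, hv, if_pos rfl, if_neg (by decide)] at h1
    have hr0 := (mul_eq_zero.1 h1).resolve_right hd
    exact hli.ne_zero 1 (by rw [← hr, hr0, zero_smul])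
  · rintro g' ⟨hgH, hgS⟩
    obtain ⟨a, b, hab⟩ := tensor_mem hgH
    refine ⟨_, _, hab, ?_⟩
    obtain ⟨k, -, rfl⟩ := (CfsgLib.Geom.omegaGL_eq_map Q ▸ hgS :
      g' ∈ (commutator (CfsgLib.Geom.quadIsoms Q)).map (CfsgLib.Geom.isomsToGL Q))
    have hiso : ∀ x x', f₁ ((a : Matrix (Fin 3) (Fin 3) F) *ᵥ x) ((a : Matrix (Fin 3) (Fin 3) F) *ᵥ x') *
        f₂ ((b : Matrix (Fin n₂) (Fin n₂) F) *ᵥ z) ((b : Matrix (Fin n₂) (Fin n₂) F) *ᵥ y) = f₁ x x' * f₂ z y := by
      intro x x'
      have h1 := CfsgLib.Geom.OrthSub.polar_map k (T x z) (T x' y)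
      rw [← CfsgLib.Geom.isomsToGL_mulVec, ← CfsgLib.Geom.isomsToGL_mulVec, hab, hab, hfT, hfT] at h1
      exact mul_left_cancel₀ hc h1
    have hb : f₂ ((b : Matrix (Fin n₂) (Fin n₂) F) *ᵥ z) ((b : Matrix (Fin n₂) (Fin n₂) F) *ᵥ y) ≠ 0 := fun h => by
      have h1 := hiso (v 0) (v 0)
      rw [h, mul_zero, hv, if_pos rfl] at h1
      exact mul_ne_zero hd hzy h1.symm
    exact hperm _ (f₂ z y / f₂ ((b : Matrix (Fin n₂) (Fin n₂) F) *ᵥ z) ((b : Matrix (Fin n₂) (Fin n₂) F) *ᵥ y))
      (div_ne_zero hzy hb) fun x x' => by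
        have h1 := hiso x x'
        field_simp
        linear_combination h1
  · obtain ⟨a, b, hab⟩ := tensor_mem hg'
    exact ⟨_, _, hab⟩
  · rw [hg₁, if_neg (by decide)]
  · rintro ⟨s, hs⟩
    have h1 := congrArg (fun w => f₂ z w) hs
    have hsub : ∀ a b, f₂ z (a - b) = f₂ z a - f₂ z b := fun a b => by
      rw [sub_eq_add_neg, hf₂.bilinear.add_right, ← neg_one_smul F b, hf₂.bilinear.smul_right]; ring
    simp only [hf₂.bilinear.smul_right, hf₂.bilinear.add_right, hsub, hzz, hzz', mul_zero, add_zero, sub_zero] at h1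
    have hs1 : s = 1 := mul_right_cancel₀ hzy (by rw [one_mul]; exact h1)
    have hl : c * d * f₂ z y ≠ 0 := mul_ne_zero (mul_ne_zero hc hd) hzy
    refine hnz' ⟨(c * d * f₂ z y)⁻¹ * (c * d * f₂ z' y + Q (T (v 0) z') * (c * d * f₂ z y)), ?_⟩
    rw [hs1, one_smul, add_sub_assoc, left_eq_add, sub_eq_zero] at hs
    rw [← smul_smul, ← hs, inv_smul_smul₀ hl]
  · exact smul_ne_zero (mul_ne_zero (mul_ne_zero hc hd) hzy) hz0
  · rintro ⟨s, hs⟩
    exact hzy (by rw [← hs, hf₂.bilinear.smul_right, hf₂.bilinear.smul_right, hzz]; ring)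
  · rw [CfsgLib.Geom.isomsToGL_mulVec, CfsgLib.Classical.siegel_apply (Q := Q) hu hw₂, hfT, hfT, hv, hv, if_pos rfl,
      if_neg (by decide), hQ _ _ hzz, map_smul]
    simp [mul_assoc]

end CfsgLib.MaxSub.TensorFrame
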