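import Mathlib

/-!
Linear functionals on coordinate spaces as dot products: separation lemmas.
-/

set_option autoImplicit false
set_option linter.unusedSectionVars false

namespace CfsgLib.MaxSub

open Matrix

variable {ι : Type} [Fintype ι] [DecidableEq ι] {F : Type*} [Field F]

theorem exists_dot_ne {φ : ι → F} (h : φ ≠ 0) : ∃ x, φ ⬝ᵥ x = 1 := by
  obtain ⟨i, hi⟩ := Function.ne_iff.mp h
  exact ⟨Pi.single i (φ i)⁻¹, by rw [dotProduct_single]; exact mul_inv_cancel₀ hi⟩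

theorem exists_dot_eq_zero_of_notMem {φ ψ : ι → F} (h : ψ ∉ Submodule.span F {φ}) :
    ∃ x, φ ⬝ᵥ x = 0 ∧ ψ ⬝ᵥ x = 1 := by
  have hψ : ψ ≠ 0 := by rintro rfl; exact h (zero_mem _)
  rcases eq_or_ne φ 0 with rfl | hφ
  · obtain ⟨x, hx⟩ := exists_dot_ne hψ
    exact ⟨x, zero_dotProduct _, hx⟩
  obtain ⟨y, hy⟩ := exists_dot_ne hφ
  have : ψ - (ψ ⬝ᵥ y) • φ ≠ 0 := fun h0 =>
    h (Submodule.mem_span_singleton.2 ⟨_, (sub_eq_zero.1 h0).symm⟩)
  obtain ⟨z, hz⟩ := exists_dot_ne this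
  refine ⟨z - (φ ⬝ᵥ z) • y, by simp [dotProduct_sub, hy], ?_⟩
  rw [← hz]
  simp [dotProduct_sub, sub_dotProduct, mul_comm]

theorem exists_dot_ne_ne {φ ψ : ι → F} (hφ : φ ≠ 0) (hψ : ψ ≠ 0) :
    ∃ x, φ ⬝ᵥ x ≠ 0 ∧ ψ ⬝ᵥ x ≠ 0 := by
  obtain ⟨x, hx⟩ := exists_dot_ne hφ
  by_cases h : ψ ⬝ᵥ x = 0
  · obtain ⟨y, hy⟩ := exists_dot_ne hψ
    by_cases h' : φ ⬝ᵥ y = 0
    · exact ⟨x + y, by simp [dotProduct_add, hx, h'], by simp [dotProduct_add, hy, h]⟩
    · exact ⟨y, h', by simp [hy]⟩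
  · exact ⟨x, by simp [hx], h⟩

/-- A vector with `φ x = a` and `ψ x = b` for independent `φ, ψ`. -/
theorem exists_dot_pair {φ ψ : ι → F} (hφ : φ ≠ 0) (h : ψ ∉ Submodule.span F {φ}) (a b : F) :
    ∃ x, φ ⬝ᵥ x = a ∧ ψ ⬝ᵥ x = b := by
  obtain ⟨z, hz1, hz2⟩ := exists_dot_eq_zero_of_notMem h
  obtain ⟨y, hy⟩ := exists_dot_ne hφ
  refine ⟨a • y + (b - a * (ψ ⬝ᵥ y)) • z, ?_, ?_⟩ <;>
    simp [dotProduct_add, hy, hz1, hz2]

/-- If `S v` is a multiple of `T v` for every `v` and `T` is injective, `S` is a multiple of `T`. -/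
theorem exists_smul_of_forall_smul {V W : Type*} [AddCommGroup V] [Module F V] [AddCommGroup W]
    [Module F W] (S T : V →ₗ[F] W) (hT : Function.Injective T)
    (h : ∀ v, ∃ c : F, S v = c • T v) : ∃ c : F, ∀ v, S v = c • T v := by
  by_cases hV : ∀ v : V, v = 0
  · exact ⟨0, fun v => by simp [hV v]⟩
  push Not at hV
  obtain ⟨a, ha⟩ := hV
  obtain ⟨c, hc⟩ := h a
  refine ⟨c, fun v => ?_⟩
  obtain ⟨d, hd⟩ := h v
  by_cases hv : ∃ t : F, v = t • a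
  · obtain ⟨t, rfl⟩ := hv
    rw [map_smul, map_smul, hc, smul_comm]
  · obtain ⟨e, he⟩ := h (a + v)
    have h1 : (e - c) • a + (e - d) • v = 0 := by
      refine hT ?_
      rw [map_add, map_add, hc, hd, smul_add] at he
      rw [map_zero, map_add, map_smul, map_smul, sub_smul, sub_smul]
      linear_combination (norm := module) (-1 : F) • he
    have hed : e - d = 0 := by
      by_contra hne
      refine hv ⟨-((e - d)⁻¹ * (e - c)), ?_⟩
      have h2 := congrArg ((e - d)⁻¹ • ·) h1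
      simp only [smul_add, smul_smul, inv_mul_cancel₀ hne, one_smul, smul_zero] at h2
      rw [neg_smul]
      exact (neg_eq_of_add_eq_zero_right h2).symm
    rw [hed, zero_smul, add_zero, smul_eq_zero, or_iff_left ha] at h1
    rw [hd, ← sub_eq_zero.1 hed, sub_eq_zero.1 h1]

end CfsgLib.MaxSub
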