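import Cfsg.Agent.Lib.MaxSub.Transvection
import Cfsg.Agent.Lib.MaxSub.Dual
import Cfsg.Agent.Lib.Geom.Symp

/-!
Symplectic transvections inside subgroups of `GL`, and generation of `spGL` by them.
-/

set_option autoImplicit false
set_option linter.unusedSectionVars false

namespace CfsgLib.MaxSub

open Matrix
open scoped MatrixGroups

variable {m : ℕ} {F : Type*} [Field F]

theorem spDual_dot (v x : Fin m ⊕ Fin m → F) :
    (Matrix.J (Fin m) F *ᵥ v) ⬝ᵥ x = Cfsg.sympForm m F x v := dotProduct_comm _ _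

theorem sympForm_self (v : Fin m ⊕ Fin m → F) : Cfsg.sympForm m F v v = 0 := by
  rw [← CfsgLib.Geom.sympBilin_apply]; exact CfsgLib.Geom.sympBilin_self v

theorem sympForm_swap (u v : Fin m ⊕ Fin m → F) :
    Cfsg.sympForm m F v u = -Cfsg.sympForm m F u v := by
  rw [← CfsgLib.Geom.sympBilin_apply, ← CfsgLib.Geom.sympBilin_apply]
  exact CfsgLib.Geom.sympBilin_swap u v

theorem sympForm_add_left (u v w : Fin m ⊕ Fin m → F) :
    Cfsg.sympForm m F (u + v) w = Cfsg.sympForm m F u w + Cfsg.sympForm m F v w :=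
  add_dotProduct _ _ _

theorem sympForm_smul_left (c : F) (u w : Fin m ⊕ Fin m → F) :
    Cfsg.sympForm m F (c • u) w = c * Cfsg.sympForm m F u w :=
  smul_dotProduct _ _ _

theorem sympForm_add_right (u v w : Fin m ⊕ Fin m → F) :
    Cfsg.sympForm m F w (u + v) = Cfsg.sympForm m F w u + Cfsg.sympForm m F w v := by
  simp [Cfsg.sympForm, mulVec_add]

theorem sympForm_smul_right (c : F) (u w : Fin m ⊕ Fin m → F) :
    Cfsg.sympForm m F w (c • u) = c * Cfsg.sympForm m F w u := by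
  simp [Cfsg.sympForm, mulVec_smul]

theorem spDual_ne_zero {v : Fin m ⊕ Fin m → F} (hv : v ≠ 0) : Matrix.J (Fin m) F *ᵥ v ≠ 0 := by
  intro h
  refine hv (CfsgLib.Geom.sympBilin_sep v fun y => ?_)
  rw [CfsgLib.Geom.sympBilin_apply, sympForm_swap, ← spDual_dot v y, h, zero_dotProduct, neg_zero]

theorem spDual_smul_dot (c : F) (v : Fin m ⊕ Fin m → F) :
    (c • (Matrix.J (Fin m) F *ᵥ v)) ⬝ᵥ v = 0 := by
  rw [smul_dotProduct, spDual_dot, sympForm_self, smul_zero]

theorem spTv_mulVec (v x : Fin m ⊕ Fin m → F) (c : F) :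
    tvMat v (c • (Matrix.J (Fin m) F *ᵥ v)) *ᵥ x = x + (c * Cfsg.sympForm m F x v) • v := by
  rw [tvMat_mulVec, smul_dotProduct, spDual_dot, smul_eq_mul]

theorem spTv_mem_spGL (v : Fin m ⊕ Fin m → F) (c : F) :
    tvGL v (c • (Matrix.J (Fin m) F *ᵥ v)) (spDual_smul_dot c v) ∈ Cfsg.spGL m F := by
  intro x y
  simp only [Units.coeHom_apply, coe_tvGL, spTv_mulVec, sympForm_add_left, sympForm_add_right,
    sympForm_smul_left, sympForm_smul_right, sympForm_self]
  rw [sympForm_swap y v]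
  ring

theorem spTv_mem_specialLinear (v : Fin m ⊕ Fin m → F) (c : F) :
    tvGL v (c • (Matrix.J (Fin m) F *ᵥ v)) (spDual_smul_dot c v) ∈
      Cfsg.Geo.specialLinear (Fin m ⊕ Fin m) F :=
  tvGL_mem_specialLinear _ _ _

theorem spDual_vecMul_inv {g : GL (Fin m ⊕ Fin m) F} (hg : g ∈ Cfsg.spGL m F)
    (v : Fin m ⊕ Fin m → F) :
    (Matrix.J (Fin m) F *ᵥ v) ᵥ* ((g⁻¹ : GL (Fin m ⊕ Fin m) F) : Matrix _ _ F) =
      Matrix.J (Fin m) F *ᵥ ((g : Matrix _ _ F) *ᵥ v) := by
  refine dotProduct_eq _ _ fun x => ?_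
  rw [vecMul_inv_dotProduct, spDual_dot, spDual_dot]
  have := hg (((g⁻¹ : GL (Fin m ⊕ Fin m) F) : Matrix _ _ F) *ᵥ x) v
  simp only [Units.coeHom_apply, mulVec_mulVec_inv] at this
  exact this.symm

/-- `M` contains the symplectic transvection `x ↦ x + c f(x,v) v`. -/
def HasSpTv (M : Subgroup (GL (Fin m ⊕ Fin m) F)) (v : Fin m ⊕ Fin m → F) (c : F) : Prop :=
  HasTv M v (c • (Matrix.J (Fin m) F *ᵥ v))

variable {M : Subgroup (GL (Fin m ⊕ Fin m) F)}

theorem hasSpTv_iff (v : Fin m ⊕ Fin m → F) (c : F) :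
    HasSpTv M v c ↔ tvGL v (c • (Matrix.J (Fin m) F *ᵥ v)) (spDual_smul_dot c v) ∈ M :=
  hasTv_iff _

theorem hasSpTv_zero (v : Fin m ⊕ Fin m → F) : HasSpTv M v 0 := by
  unfold HasSpTv; rw [zero_smul]; exact hasTv_zero v

theorem HasSpTv.add {v : Fin m ⊕ Fin m → F} {c d : F} (h : HasSpTv M v c) (h' : HasSpTv M v d) :
    HasSpTv M v (c + d) := by
  unfold HasSpTv at *; rw [add_smul]; exact HasTv.add h h'

theorem HasSpTv.conj {v : Fin m ⊕ Fin m → F} {c : F} (h : HasSpTv M v c)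
    {g : GL (Fin m ⊕ Fin m) F} (hg : g ∈ M) (hgS : g ∈ Cfsg.spGL m F) :
    HasSpTv M ((g : Matrix _ _ F) *ᵥ v) c := by
  have := HasTv.conj h hg
  rwa [smul_vecMul, spDual_vecMul_inv hgS] at this

theorem hasSpTv_smul {v : Fin m ⊕ Fin m → F} {c t : F} (ht : t ≠ 0) :
    HasSpTv M (t • v) c ↔ HasSpTv M v (c * t * t) := by
  unfold HasSpTv
  rw [hasTv_smul_iff ht, mulVec_smul, smul_smul, smul_smul, mul_comm t, mul_assoc]
  all_goals (first | rfl | skip)

/-- A subgroup containing every symplectic transvection contains `spGL`. -/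
theorem spGL_le_of_hasSpTv (h : ∀ (v : Fin m ⊕ Fin m → F) (c : F), v ≠ 0 → HasSpTv M v c) :
    Cfsg.spGL m F ≤ M := by
  let toGL : Matrix.symplecticGroup (Fin m) F →* GL (Fin m ⊕ Fin m) F :=
    { toFun := fun A => ⟨A.1, ((A⁻¹ : Matrix.symplecticGroup (Fin m) F) : Matrix _ _ F),
        congrArg Subtype.val (mul_inv_cancel A), congrArg Subtype.val (inv_mul_cancel A)⟩
      map_one' := Units.ext rfl
      map_mul' := fun A B => Units.ext rfl }
  have htop : M.comap toGL = ⊤ := by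
    rw [eq_top_iff, ← CfsgLib.Geom.closure_sympTransvection, Subgroup.closure_le]
    rintro A ⟨w, c, hA⟩
    rw [SetLike.mem_coe, Subgroup.mem_comap]
    rcases eq_or_ne w 0 with rfl | hw
    · have : toGL A = 1 := Units.ext (by
        show A.1 = 1
        simp [hA, Cfsg.sympTransvection, zero_vecMulVec])
      rw [this]; exact one_mem M
    · convert (hasSpTv_iff w c).1 (h w c hw) using 1
      refine Units.ext ?_
      show A.1 = tvMat _ _
      rw [hA, Cfsg.sympTransvection, tvMat, vecMulVec_smul]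
  intro g hg
  have hA : (g : Matrix _ _ F) ∈ Matrix.symplecticGroup (Fin m) F :=
    (CfsgLib.Geom.mem_symplecticGroup_iff_form _).2 fun u v => hg u v
  have := (Subgroup.eq_top_iff' _).1 htop ⟨_, hA⟩
  rw [Subgroup.mem_comap] at this
  convert this using 1
  exact Units.ext rfl

end CfsgLib.MaxSub
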