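import Cfsg.Prelude.Def_GeometricClasses
import Mathlib.Algebra.DirectSum.LinearMap
import Mathlib.LinearAlgebra.Dimension.Constructions
import Mathlib.LinearAlgebra.Determinant

/-!
Coordinates adapted to a decomposition, and the count of non-zero components as an invariant of its stabiliser.
-/

set_option autoImplicit false

namespace CfsgLib.MaxSub.Decomp

open Cfsg.Geo

variable {ι : Type} [Fintype ι] [DecidableEq ι] {F : Type*} [Field F] {t m : ℕ}

theorem exists_coord {D : Fin t → Submodule F (ι → F)} (hD : IsMDecomposition m D) :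
    ∃ ψ : (ι → F) ≃ₗ[F] (Fin t → Fin m → F), ∀ x i, x ∈ D i ↔ ∀ j, j ≠ i → ψ x j = 0 := by
  classical
  have hint : DirectSum.IsInternal D := DirectSum.isInternal_submodule_of_iSupIndep_of_iSup_eq_top hD.indep hD.iSup_eq_top
  let b : ∀ i, Module.Basis (Fin m) F (D i) := fun i => Module.finBasisOfFinrankEq F _ (hD.finrank_eq i)
  let B := hint.collectedBasis b
  refine ⟨B.equivFun.trans (LinearEquiv.piCurry F (fun _ _ => F)), fun x i => ?_⟩
  have hval : ∀ j k, (B.equivFun.trans (LinearEquiv.piCurry F (fun _ _ => F))) x j k = B.repr x ⟨j, k⟩ :=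
    fun j k => rfl
  constructor
  · intro hx j hj
    funext k
    rw [hval]
    exact hint.collectedBasis_repr_of_mem_ne b hj.symm hx
  · intro h
    rw [← B.sum_repr x]
    refine sum_mem fun ⟨j, k⟩ _ => ?_
    by_cases hj : j = i
    · subst hj
      exact Submodule.smul_mem _ _ (hint.collectedBasis_mem b ⟨j, k⟩)
    · have := congrFun (h j hj) k
      rw [hval] at this
      rw [this, Pi.zero_apply, zero_smul]
      exact zero_mem _

open Classical in
/-- one on non-zero vectors -/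
noncomputable def ind {W : Type*} [Zero W] (w : W) : F := if w = 0 then 0 else 1

theorem ind_zero {W : Type*} [Zero W] : (ind (0 : W) : F) = 0 := if_pos rfl

theorem ind_ne {W : Type*} [Zero W] {w : W} (h : w ≠ 0) : (ind w : F) = 1 := if_neg h

/-- number of non-zero components, in the field -/
noncomputable def cnt (f : Fin t → Fin m → F) : F := ∑ i, ind (f i)

theorem single_of_coord (ψ : (ι → F) ≃ₗ[F] (Fin t → Fin m → F)) {D : Fin t → Submodule F (ι → F)}
    (hψ : ∀ x i, x ∈ D i ↔ ∀ j, j ≠ i → ψ x j = 0) (i : Fin t) (w : Fin m → F) :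
    ψ.symm (Pi.single i w) ∈ D i :=
  (hψ _ i).2 fun j hj => by rw [ψ.apply_symm_apply, Pi.single_eq_of_ne hj]

theorem cnt_stab (ψ : (ι → F) ≃ₗ[F] (Fin t → Fin m → F)) {D : Fin t → Submodule F (ι → F)}
    (hψ : ∀ x i, x ∈ D i ↔ ∀ j, j ≠ i → ψ x j = 0) {g : GL ι F} (hg : g ∈ decompositionStabilizer D)
    (x : ι → F) : cnt (ψ ((g : Matrix ι ι F).mulVec x)) = cnt (ψ x) := by
  classical
  obtain ⟨σ, hσ⟩ := hg
  let L : (ι → F) →ₗ[F] (Fin t → Fin m → F) := ψ.toLinearMap ∘ₗ Matrix.toLin' (g : Matrix ι ι F)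
  have hLinj : Function.Injective L := fun u v e => by
    have h1 : (g : Matrix ι ι F).mulVec u = (g : Matrix ι ι F).mulVec v := ψ.injective e
    have h2 := congrArg (((g⁻¹ : GL ι F) : Matrix ι ι F).mulVec) h1
    simpa [Matrix.mulVec_mulVec, ← Units.val_mul] using h2
  have hcomp : ∀ i, ∀ j, j ≠ σ i → L (ψ.symm (Pi.single i (ψ x i))) j = 0 := fun i =>
    (hψ _ (σ i)).1 (hσ i ▸ ⟨_, single_of_coord ψ hψ i _, rfl⟩)
  have hx : L x = ∑ i, L (ψ.symm (Pi.single i (ψ x i))) := by
    rw [← map_sum, ← map_sum, Finset.univ_sum_single, ψ.symm_apply_apply]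
  have hσi : ∀ i, L x (σ i) = L (ψ.symm (Pi.single i (ψ x i))) (σ i) := fun i => by
    rw [hx, Finset.sum_apply, Finset.sum_eq_single i]
    · intro k _ hk
      exact hcomp k _ fun e => hk (σ.injective e).symm
    · intro h; exact absurd (Finset.mem_univ i) h
  refine (Equiv.sum_comp σ fun j => (ind (L x j) : F)).symm.trans (Finset.sum_congr rfl fun i _ => ?_)
  by_cases h : ψ x i = 0
  · rw [hσi, h, Pi.single_zero, map_zero, map_zero]; rfl
  · rw [ind_ne, ind_ne h]
    intro h0
    apply h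
    have hz : L (ψ.symm (Pi.single i (ψ x i))) = 0 := funext fun j => by
      by_cases hj : j = σ i
      · rw [hj, ← hσi]; exact h0
      · exact hcomp i j hj
    rw [← L.map_zero] at hz
    have h3 := congrArg ψ (hLinj hz)
    rw [ψ.apply_symm_apply, map_zero] at h3
    exact Pi.single_eq_zero_iff.1 h3

/-- the elements of the general linear group keeping a function of vectors -/
def keep {α : Type*} (N : (ι → F) → α) : Subgroup (GL ι F) where
  carrier := {g | ∀ x, N ((g : Matrix ι ι F).mulVec x) = N x}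
  one_mem' x := by simp
  mul_mem' {a b} ha hb x := by
    rw [Units.val_mul, ← Matrix.mulVec_mulVec, ha, hb]
  inv_mem' {a} ha x := by
    rw [← ha (((a⁻¹ : GL ι F) : Matrix ι ι F).mulVec x), Matrix.mulVec_mulVec, ← Units.val_mul, mul_inv_cancel,
      Units.val_one, Matrix.one_mulVec]

theorem mem_keep {α : Type*} {N : (ι → F) → α} {g : GL ι F} :
    g ∈ keep N ↔ ∀ x, N ((g : Matrix ι ι F).mulVec x) = N x := Iff.rfl

/-- a linear automorphism as a matrix -/
noncomputable def glOf (e : (ι → F) ≃ₗ[F] (ι → F)) : GL ι F :=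
  Units.map (LinearMap.toMatrixAlgEquiv' (R := F) (n := ι)).toMonoidHom
    (LinearMap.GeneralLinearGroup.ofLinearEquiv e)

theorem glOf_mulVec (e : (ι → F) ≃ₗ[F] (ι → F)) (x : ι → F) :
    (glOf e : Matrix ι ι F).mulVec x = e x := by
  show (LinearMap.toMatrix' (e : (ι → F) →ₗ[F] (ι → F))).mulVec x = e x
  rw [LinearMap.toMatrix'_mulVec]; rfl

theorem glOf_det (e : (ι → F) ≃ₗ[F] (ι → F)) :
    ((Matrix.GeneralLinearGroup.det (glOf e) : Fˣ) : F) = LinearMap.det (e : (ι → F) →ₗ[F] (ι → F)) :=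
  LinearMap.det_toMatrix' (e : (ι → F) →ₗ[F] (ι → F))

theorem glOf_mem_specialLinear {e : (ι → F) ≃ₗ[F] (ι → F)} (h : LinearMap.det (e : (ι → F) →ₗ[F] (ι → F)) = 1) :
    glOf e ∈ specialLinear ι F := MonoidHom.mem_ker.2 (Units.ext ((glOf_det e).trans h))

/-- two non-zero components: outside every member -/
theorem notMem_stab (ψ : (ι → F) ≃ₗ[F] (Fin t → Fin m → F)) {D : Fin t → Submodule F (ι → F)}
    (hψ : ∀ x i, x ∈ D i ↔ ∀ j, j ≠ i → ψ x j = 0) {g : GL ι F} {x : ι → F} {i a b : Fin t} (hx : x ∈ D i)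
    (hab : a ≠ b) (ha : ψ ((g : Matrix ι ι F).mulVec x) a ≠ 0) (hb : ψ ((g : Matrix ι ι F).mulVec x) b ≠ 0) :
    g ∉ decompositionStabilizer D := by
  rintro ⟨σ, hσ⟩
  have hm : (g : Matrix ι ι F).mulVec x ∈ D (σ i) := hσ i ▸ Submodule.mem_map_of_mem hx
  have h := (hψ _ (σ i)).1 hm
  by_cases hai : a = σ i
  · exact hb (h b fun e => hab (hai.trans e.symm))
  · exact ha (h a hai)

end CfsgLib.MaxSub.Decomp
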