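import Cfsg.Agent.Lib.MaxSub.DecompCoord

/-!
Tensor decompositions with a frame on one factor: the stabiliser fixes a union of subspaces.
-/

set_option autoImplicit false

namespace CfsgLib.MaxSub.TensorFrame

open Cfsg.Geo CfsgLib.MaxSub.Decomp Matrix
open scoped Kronecker

variable {ι : Type} [Fintype ι] [DecidableEq ι] {F : Type*} [Field F] {n₁ n₂ : ℕ}

/-- pure tensors in the coordinates of a tensor structure -/
def pure (e : ι ≃ Fin n₁ × Fin n₂) (P : GL ι F) : (Fin n₁ → F) →ₗ[F] (Fin n₂ → F) →ₗ[F] (ι → F) :=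
  LinearMap.mk₂ F (fun x y => (P : Matrix ι ι F) *ᵥ ((fun p : Fin n₁ × Fin n₂ => x p.1 * y p.2) ∘ e))
    (fun x x' y => by rw [← Matrix.mulVec_add]; congr 1; funext i; simp [add_mul])
    (fun c x y => by rw [← Matrix.mulVec_smul]; congr 1; funext i; simp [mul_assoc])
    (fun x y y' => by rw [← Matrix.mulVec_add]; congr 1; funext i; simp [mul_add])
    (fun c x y => by rw [← Matrix.mulVec_smul]; congr 1; funext i; simp [mul_left_comm])

theorem pure_def (e : ι ≃ Fin n₁ × Fin n₂) (P : GL ι F) (x : Fin n₁ → F) (y : Fin n₂ → F) :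
    pure e P x y = (P : Matrix ι ι F) *ᵥ ((fun p : Fin n₁ × Fin n₂ => x p.1 * y p.2) ∘ e) := rfl

theorem pure_coord (e : ι ≃ Fin n₁ × Fin n₂) (P : GL ι F) (x : Fin n₁ → F) (y : Fin n₂ → F) (a : Fin n₁)
    (b : Fin n₂) : (((P⁻¹ : GL ι F) : Matrix ι ι F) *ᵥ pure e P x y) (e.symm (a, b)) = x a * y b := by
  rw [pure_def, Matrix.mulVec_mulVec, ← Units.val_mul, inv_mul_cancel, Units.val_one, Matrix.one_mulVec]
  simp

/-- contraction of the second factor -/
theorem pure_contract (e : ι ≃ Fin n₁ × Fin n₂) (P : GL ι F) (φ : Module.Dual F (Fin n₂ → F)) :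
    ∃ C : (ι → F) →ₗ[F] (Fin n₁ → F), ∀ x y, C (pure e P x y) = φ y • x := by
  refine ⟨(LinearMap.pi fun a => ∑ b, φ (Pi.single b 1) • LinearMap.proj (e.symm (a, b))) ∘ₗ
    Matrix.toLin' ((P⁻¹ : GL ι F) : Matrix ι ι F), fun x y => funext fun a => ?_⟩
  simp only [LinearMap.comp_apply, LinearMap.pi_apply, LinearMap.sum_apply, LinearMap.smul_apply, LinearMap.proj_apply,
    Matrix.toLin'_apply, pure_coord, smul_eq_mul, Pi.smul_apply]
  conv_rhs => rw [pi_eq_sum_univ' y, map_sum, Finset.sum_mul]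
  exact Finset.sum_congr rfl fun b _ => by rw [map_smul, smul_eq_mul]; ring

/-- contraction of the first factor -/
theorem pure_contract' (e : ι ≃ Fin n₁ × Fin n₂) (P : GL ι F) (φ : Module.Dual F (Fin n₁ → F)) :
    ∃ C : (ι → F) →ₗ[F] (Fin n₂ → F), ∀ y x, C ((pure e P).flip y x) = φ x • y := by
  refine ⟨(LinearMap.pi fun b => ∑ a, φ (Pi.single a 1) • LinearMap.proj (e.symm (a, b))) ∘ₗ
    Matrix.toLin' ((P⁻¹ : GL ι F) : Matrix ι ι F), fun y x => funext fun b => ?_⟩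
  simp only [LinearMap.comp_apply, LinearMap.pi_apply, LinearMap.sum_apply, LinearMap.smul_apply, LinearMap.proj_apply,
    Matrix.toLin'_apply, LinearMap.flip_apply, pure_coord, smul_eq_mul, Pi.smul_apply]
  conv_rhs => rw [pi_eq_sum_univ' x, map_sum, Finset.sum_mul]
  exact Finset.sum_congr rfl fun a _ => by rw [map_smul, smul_eq_mul]; ring

/-- elements of the tensor subgroup act factorwise -/
theorem tensor_mem {e : ι ≃ Fin n₁ × Fin n₂} {P : GL ι F} {g : GL ι F}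
    (hg : g ∈ tensorProductSubgroup n₁ n₂ e P) :
    ∃ (a : GL (Fin n₁) F) (b : GL (Fin n₂) F), ∀ x y, (g : Matrix ι ι F) *ᵥ pure e P x y =
      pure e P ((a : Matrix (Fin n₁) (Fin n₁) F) *ᵥ x) ((b : Matrix (Fin n₂) (Fin n₂) F) *ᵥ y) := by
  obtain ⟨_, ⟨k, ⟨a, b, hk⟩, rfl⟩, rfl⟩ := hg
  refine ⟨a, b, fun x y => ?_⟩
  show ((P : Matrix ι ι F) * Matrix.reindex e.symm e.symm (k : Matrix _ _ F) * ((P⁻¹ : GL ι F) : Matrix ι ι F)) *ᵥ _ = _
  rw [pure_def, pure_def, Matrix.mulVec_mulVec, Matrix.mul_assoc, ← Units.val_mul, inv_mul_cancel, Units.val_one,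
    mul_one, ← Matrix.mulVec_mulVec]
  congr 1
  funext i
  simp only [Matrix.mulVec, dotProduct, Matrix.reindex_apply, Matrix.submatrix_apply, Equiv.symm_symm,
    Function.comp_apply, hk]
  rw [Equiv.sum_comp e (fun p : Fin n₁ × Fin n₂ =>
    ((a : Matrix (Fin n₁) (Fin n₁) F) ⊗ₖ (b : Matrix (Fin n₂) (Fin n₂) F)) (e i) p * (x p.1 * y p.2)),
    Fintype.sum_prod_type, Finset.sum_mul_sum]
  exact Finset.sum_congr rfl fun p _ => Finset.sum_congr rfl fun q _ => by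
    rw [Matrix.kroneckerMap_apply]; ring

theorem formOfGram_gram {κ : Type} [Fintype κ] [DecidableEq κ] (σ : F → F) (f : (κ → F) → (κ → F) → F)
    (hal : ∀ x y v, f (x + y) v = f x v + f y v) (hsl : ∀ (c : F) x v, f (c • x) v = c * f x v)
    (har : ∀ v x y, f v (x + y) = f v x + f v y) (hsr : ∀ (c : F) v x, f v (c • x) = σ c * f v x) (x y : κ → F) :
    formOfGram σ (gramMatrix f) x y = f x y := by
  let L : (κ → F) → ((κ → F) →ₗ[F] F) := fun v =>
    { toFun := fun z => f z v, map_add' := fun a b => hal a b v, map_smul' := fun c a => hsl c a v }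
  let R : (κ → F) → ((κ → F) →+ F) := fun v => AddMonoidHom.mk' (f v) (har v)
  have hx : f x y = ∑ a, x a * f (Pi.single a 1) y := by
    show L y x = _
    conv_lhs => rw [pi_eq_sum_univ' x, map_sum]
    exact Finset.sum_congr rfl fun a _ => by rw [map_smul]; rfl
  rw [hx]
  refine Finset.sum_congr rfl fun a _ => ?_
  have hy : f (Pi.single a 1) y = ∑ b, σ (y b) * f (Pi.single a 1) (Pi.single b 1) := by
    show R _ y = _
    conv_lhs => rw [pi_eq_sum_univ' y, map_sum]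
    exact Finset.sum_congr rfl fun b _ => hsr _ _ _
  rw [hy, Finset.mul_sum]
  exact Finset.sum_congr rfl fun b _ => by show x a * gramMatrix f a b * σ (y b) = _; unfold gramMatrix; ring

/-- the form on pure tensors -/
theorem form_pure {σ : F → F} (hσ : ∀ u v, σ (u * v) = σ u * σ v) {f : (ι → F) → (ι → F) → F}
    {f₁ : (Fin n₁ → F) → (Fin n₁ → F) → F} {f₂ : (Fin n₂ → F) → (Fin n₂ → F) → F}
    {e : ι ≃ Fin n₁ × Fin n₂} {P : GL ι F} (hT : IsTensorFormStructure σ f f₁ f₂ e P)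
    (h₁ : ∀ x y, formOfGram σ (gramMatrix f₁) x y = f₁ x y)
    (h₂ : ∀ x y, formOfGram σ (gramMatrix f₂) x y = f₂ x y) :
    ∃ c : F, c ≠ 0 ∧ ∀ x y x' y', f (pure e P x y) (pure e P x' y') = c * (f₁ x x' * f₂ y y') := by
  obtain ⟨c, hc, h⟩ := hT
  refine ⟨c, hc, fun x y x' y' => ?_⟩
  rw [pure_def, pure_def, h, ← h₁, ← h₂]
  congr 1
  unfold formOfGram
  rw [Fintype.sum_prod_type, Finset.sum_mul_sum]
  refine Finset.sum_congr rfl fun a _ => Finset.sum_congr rfl fun b _ => ?_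
  rw [Fintype.sum_prod_type, Finset.sum_mul_sum]
  exact Finset.sum_congr rfl fun a' _ => Finset.sum_congr rfl fun b' _ => by
    rw [Matrix.kroneckerMap_apply, hσ]; ring

variable [Fintype F]

theorem keep_of_fwd (X : Set (ι → F)) (g : GL ι F)
    (h : ∀ x ∈ X, (g : Matrix ι ι F).mulVec x ∈ X) : g ∈ keep (fun x => x ∈ X) := by
  have hinj : Function.Injective (fun x : X => (⟨(g : Matrix ι ι F).mulVec x.1, h x.1 x.2⟩ : X)) := fun x y e => by
    have h1 := congrArg (fun z : X => ((g⁻¹ : GL ι F) : Matrix ι ι F).mulVec z.1) e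
    exact Subtype.ext (by simpa [Matrix.mulVec_mulVec] using h1)
  intro x
  refine propext ⟨fun hx => ?_, h x⟩
  obtain ⟨⟨y, hy⟩, e⟩ := Finite.surjective_of_injective hinj ⟨_, hx⟩
  have h1 := congrArg (fun z : X => ((g⁻¹ : GL ι F) : Matrix ι ι F).mulVec z.1) e
  have h2 : y = x := by simpa [Matrix.mulVec_mulVec] using h1
  exact h2 ▸ hy

variable {A B : Type*} [AddCommGroup A] [Module F A] [AddCommGroup B] [Module F B]

/-- a frame on one factor gives a proper overgroup of the stabiliser of a tensor decomposition -/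
theorem exists_between (H S : Subgroup (GL ι F)) (T : A →ₗ[F] B →ₗ[F] (ι → F))
    (hT : ∀ φ : Module.Dual F B, ∃ C : (ι → F) →ₗ[F] A, ∀ x y, C (T x y) = φ y • x)
    {t : ℕ} (v : Fin t → A) (j₀ j₁ : Fin t) (hv0 : v j₀ ≠ 0) (hv1 : ¬ ∃ r : F, r • v j₀ = v j₁)
    (hH : ∀ g ∈ H ⊓ S, ∃ (a : A → A) (b : B → B), (∀ x y, (g : Matrix ι ι F) *ᵥ T x y = T (a x) (b y)) ∧
      ∀ j, ∃ (l : Fin t) (r : F), a (v j) = r • v l)
    (hact : ∀ g ∈ H, ∃ (a : A → A) (b : B → B), ∀ x y, (g : Matrix ι ι F) *ᵥ T x y = T (a x) (b y))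
    (g₁ : GL ι F) (hg₁ : g₁ ∈ S) (hone : ∀ j, ∀ y, ∃ y', (g₁ : Matrix ι ι F) *ᵥ T (v j) y = T (v j) y')
    (hfix : ∀ y, (g₁ : Matrix ι ι F) *ᵥ T (v j₁) y = T (v j₁) y)
    (y₁ w₁ : B) (hmove : (g₁ : Matrix ι ι F) *ᵥ T (v j₀) y₁ = T (v j₀) w₁) (hy₁ : y₁ ≠ 0) (hw₁ : ¬ ∃ s : F, s • y₁ = w₁)
    (g₂ : GL ι F) (hg₂ : g₂ ∈ S) (y₂ p q : B) (hq : q ≠ 0) (hpq : ¬ ∃ s : F, s • q = p)
    (hspread : (g₂ : Matrix ι ι F) *ᵥ T (v j₀) y₂ = T (v j₀) p + T (v j₁) q) :
    ∃ K : Subgroup (GL ι F), H ⊓ S < K ∧ K < S := by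
  let X : Set (ι → F) := {x | ∃ j y, x = T (v j) y}
  refine ⟨keep (fun x => x ∈ X) ⊓ S, lt_of_le_of_ne ?_ ?_, lt_of_le_of_ne inf_le_right ?_⟩
  · intro g hg
    refine ⟨keep_of_fwd X g ?_, hg.2⟩
    rintro _ ⟨j, y, rfl⟩
    obtain ⟨a, b, hab, hv⟩ := hH g hg
    obtain ⟨l, r, hl⟩ := hv j
    exact ⟨l, r • b y, by rw [hab, hl, map_smul, LinearMap.smul_apply, map_smul]⟩
  · intro h
    have hK : g₁ ∈ keep (fun x => x ∈ X) ⊓ S := by
      refine ⟨keep_of_fwd X g₁ ?_, hg₁⟩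
      rintro _ ⟨j, y, rfl⟩
      obtain ⟨y', hy'⟩ := hone j y
      exact ⟨j, y', hy'⟩
    obtain ⟨a, b, hab⟩ := hact g₁ (h.symm ▸ hK : g₁ ∈ H ⊓ S).1
    have hv1' : v j₁ ≠ 0 := fun e => hv1 ⟨0, by rw [zero_smul, e]⟩
    obtain ⟨φ, hφ, hφ0⟩ := Submodule.exists_dual_map_eq_bot_of_notMem
      (p := Submodule.span F {y₁}) (x := w₁) (fun e => hw₁ (Submodule.mem_span_singleton.1 e)) inferInstance
    have hφy : φ y₁ = 0 :=
      (Submodule.mem_bot F).1 (hφ0 ▸ Submodule.mem_map_of_mem (Submodule.mem_span_singleton_self y₁))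
    have hav : a (v j₁) ≠ 0 := fun e => by
      obtain ⟨χ, hχ, -⟩ := Submodule.exists_dual_map_eq_bot_of_notMem
        (p := (⊥ : Submodule F B)) (x := y₁) (by simpa using hy₁) inferInstance
      obtain ⟨C, hC⟩ := hT χ
      have h1 := congrArg C ((hfix y₁).symm.trans (hab _ _))
      rw [hC, hC, e, smul_zero] at h1
      exact smul_ne_zero hχ hv1' h1
    obtain ⟨C, hC⟩ := hT φ
    have h1 := congrArg C ((hfix y₁).symm.trans (hab _ _))
    rw [hC, hC, hφy, zero_smul, eq_comm, smul_eq_zero] at h1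
    have h2 := congrArg C (hmove.symm.trans (hab _ _))
    rw [hC, hC, h1.resolve_right hav, zero_smul] at h2
    exact smul_ne_zero hφ hv0 h2
  · intro h
    have hK : g₂ ∈ keep (fun x => x ∈ X) ⊓ S := h.symm ▸ hg₂
    obtain ⟨l, u, hl⟩ := (iff_of_eq (hK.1 (T (v j₀) y₂))).2 (show T (v j₀) y₂ ∈ X from ⟨j₀, y₂, rfl⟩)
    rw [hspread] at hl
    have hp : p ≠ 0 := fun e => hpq ⟨0, by rw [zero_smul, e]⟩
    have hqp : q ∉ Submodule.span F {p} := fun e => by
      obtain ⟨s, hs⟩ := Submodule.mem_span_singleton.1 e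
      have hs0 : s ≠ 0 := fun e' => hq (by rw [← hs, e', zero_smul])
      exact hpq ⟨s⁻¹, by rw [← hs, smul_smul, inv_mul_cancel₀ hs0, one_smul]⟩
    obtain ⟨φ, hφ, hφ0⟩ := Submodule.exists_dual_map_eq_bot_of_notMem
      (p := Submodule.span F {q}) (x := p) (fun e => hpq (Submodule.mem_span_singleton.1 e)) inferInstance
    obtain ⟨χ, hχ, hχ0⟩ := Submodule.exists_dual_map_eq_bot_of_notMem
      (p := Submodule.span F {p}) (x := q) hqp inferInstance
    have hφq : φ q = 0 :=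
      (Submodule.mem_bot F).1 (hφ0 ▸ Submodule.mem_map_of_mem (Submodule.mem_span_singleton_self q))
    have hχp : χ p = 0 :=
      (Submodule.mem_bot F).1 (hχ0 ▸ Submodule.mem_map_of_mem (Submodule.mem_span_singleton_self p))
    obtain ⟨C, hC⟩ := hT φ
    obtain ⟨C', hC'⟩ := hT χ
    have h1 := congrArg C hl
    rw [map_add, hC, hC, hC, hφq, zero_smul, add_zero] at h1
    have h2 := congrArg C' hl
    rw [map_add, hC', hC', hC', hχp, zero_smul, zero_add] at h2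
    have hu : φ u ≠ 0 := fun e => by rw [e, zero_smul] at h1; exact smul_ne_zero hφ hv0 h1
    refine hv1 ⟨(χ q)⁻¹ * (χ u * ((φ u)⁻¹ * φ p)), ?_⟩
    rw [← smul_smul, ← smul_smul, ← smul_smul, h1, inv_smul_smul₀ hu, ← h2, inv_smul_smul₀ hχ]

end CfsgLib.MaxSub.TensorFrame
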