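import Cfsg.Agent.Lib.MaxSub.Herm
import Cfsg.Agent.Lib.MaxSub.Sub
import Cfsg.Agent.Lib.Classical.UnitaryGen

/-!
Full unitary transvection groups inside a subgroup; `SU` is inside when all of them are.
-/

set_option autoImplicit false
set_option linter.unusedSectionVars false

namespace CfsgLib.MaxSub

open Matrix
open scoped MatrixGroups

variable {F : Type*} [Field F] {n : ℕ}

/-- `x ↦ x ^ q` as an automorphism -/
noncomputable def qConj [Fintype F] {q : ℕ} (hF : Fintype.card F = q ^ 2) : F ≃+* F :=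
  RingEquiv.ofBijective (CfsgLib.Classical.qFrob hF)
    ((CfsgLib.Classical.qFrob hF).injective.bijective_of_finite)

theorem qConj_apply [Fintype F] {q : ℕ} (hF : Fintype.card F = q ^ 2) (x : F) :
    qConj hF x = x ^ q := CfsgLib.Classical.qFrob_apply hF x

theorem qConj_qConj [Fintype F] {q : ℕ} (hF : Fintype.card F = q ^ 2) (x : F) :
    qConj hF (qConj hF x) = x := CfsgLib.Classical.qFrob_qFrob hF x

theorem isUnitaryForm_hermForm [Fintype F] {q : ℕ} (hF : Fintype.card F = q ^ 2) (n : ℕ) :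
    Cfsg.Geo.IsUnitaryForm (qConj hF) (Cfsg.hermForm n F q) := by
  classical
  have H := CfsgLib.Classical.isHermSpace_hermB hF n
  have hq : q ≠ 0 := by
    rintro rfl
    exact Fintype.card_ne_zero (α := F) (by simpa using hF)
  have herm : ∀ v w : Fin n → F,
      Cfsg.hermForm n F q v w = qConj hF (Cfsg.hermForm n F q w v) := fun v w => by
    simp only [Cfsg.hermForm, map_sum, map_mul]
    refine Finset.sum_congr rfl fun i _ => ?_
    rw [← qConj_apply hF (v i), ← qConj_apply hF (w i), qConj_qConj, mul_comm]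
  refine ⟨fun h => H.ne_id (RingHom.ext fun x => RingEquiv.congr_fun h x), qConj_qConj hF,
    fun x y v => ?_, fun c x v => ?_, herm, fun v hv => ?_⟩
  · simp [Cfsg.hermForm, add_mul, Finset.sum_add_distrib]
  · simp [Cfsg.hermForm, Finset.mul_sum, mul_assoc]
  · obtain ⟨i, hi⟩ : ∃ i, v i ≠ 0 := Function.ne_iff.1 hv
    have h1 : Cfsg.hermForm n F q (Pi.single i 1) v ≠ 0 := by
      rw [Cfsg.hermForm, Finset.sum_eq_single i (fun k _ hk => by simp [hk]) (by simp)]
      simpa using pow_ne_zero q hi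
    exact ⟨⟨_, h1⟩, ⟨Pi.single i 1, by
      rw [herm]; exact fun h => h1 ((map_eq_zero_iff _ (qConj hF).injective).1 h)⟩⟩

variable {σ : F ≃+* F} {f : (Fin n → F) → (Fin n → F) → F}

/-- `M` contains every unitary transvection with centre `v`. -/
def UFull (σ : F ≃+* F) (f : (Fin n → F) → (Fin n → F) → F) (M : Subgroup (GL (Fin n) F))
    (v : Fin n → F) : Prop :=
  f v v = 0 ∧ ∀ c : F, c + σ c = 0 → HasTv M v (c • hDual f v)

section
variable (hf : Cfsg.Geo.IsUnitaryForm σ f) {M : Subgroup (GL (Fin n) F)}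
include hf

theorem uTv_mulVec (v : Fin n → F) (c : F) (x : Fin n → F) :
    tvMat v (c • hDual f v) *ᵥ x = x + (c * f x v) • v := by
  rw [tvMat_mulVec, smul_dotProduct, hDual_dot hf, smul_eq_mul]

theorem uTv_isometry {v : Fin n → F} (hv : f v v = 0) {c : F} (hc : c + σ c = 0) (x y : Fin n → F) :
    f (tvMat v (c • hDual f v) *ᵥ x) (tvMat v (c • hDual f v) *ᵥ y) = f x y := by
  rw [uTv_mulVec hf, uTv_mulVec hf, hf.add_left, hf.smul_left, herm_add_right hf,
    herm_add_right hf, herm_smul_right hf, herm_smul_right hf, hv, map_mul, ← hf.herm v y]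
  linear_combination (f x v * f v y) * hc

theorem hDual_vecMul_inv {g : GL (Fin n) F}
    (hg : ∀ x y, f ((g : Matrix (Fin n) (Fin n) F) *ᵥ x) ((g : Matrix (Fin n) (Fin n) F) *ᵥ y) = f x y)
    (v : Fin n → F) :
    hDual f v ᵥ* ((g⁻¹ : GL (Fin n) F) : Matrix (Fin n) (Fin n) F) =
      hDual f ((g : Matrix (Fin n) (Fin n) F) *ᵥ v) := by
  refine dotProduct_eq _ _ fun x => ?_
  rw [vecMul_inv_dotProduct, hDual_dot hf, hDual_dot hf]
  have := hg (((g⁻¹ : GL (Fin n) F) : Matrix (Fin n) (Fin n) F) *ᵥ x) v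
  rw [mulVec_mulVec_inv] at this
  exact this.symm

theorem UFull.conj {v : Fin n → F} (h : UFull σ f M v) {g : GL (Fin n) F} (hg : g ∈ M)
    (hiso : ∀ x y, f ((g : Matrix (Fin n) (Fin n) F) *ᵥ x) ((g : Matrix (Fin n) (Fin n) F) *ᵥ y) = f x y) :
    UFull σ f M ((g : Matrix (Fin n) (Fin n) F) *ᵥ v) := by
  refine ⟨(hiso v v).trans h.1, fun c hc => ?_⟩
  have := (h.2 c hc).conj hg
  rwa [smul_vecMul, hDual_vecMul_inv hf hiso] at this

theorem uFull_zero : UFull σ f M (0 : Fin n → F) := by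
  refine ⟨herm_zero_left hf _, fun c _ => ?_⟩
  exact hasTv_zero_left _

theorem UFull.smul {v : Fin n → F} (h : UFull σ f M v) (t : F) : UFull σ f M (t • v) := by
  rcases eq_or_ne t 0 with rfl | ht
  · rw [zero_smul]; exact uFull_zero hf
  refine ⟨by rw [hf.smul_left, herm_smul_right hf, h.1, mul_zero, mul_zero], fun c hc => ?_⟩
  rw [hasTv_smul_iff ht, hDual_smul hf, smul_smul, smul_smul]
  refine h.2 _ ?_
  rw [map_mul, map_mul, hf.involutive]
  linear_combination (t * σ t) * hc

theorem UFull.add {x y : Fin n → F} (hx : UFull σ f M x) (hy : UFull σ f M y) (hxy : f x y ≠ 0)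
    (hiso : f (x + y) (x + y) = 0) : UFull σ f M (x + y) := by
  have hyx : f y x ≠ 0 := fun h => hxy (herm_eq_zero_comm hf h)
  have hc : (f y x)⁻¹ + σ (f y x)⁻¹ = 0 := by
    rw [map_inv₀, ← hf.herm x y]
    simp only [hf.add_left, herm_add_right hf, hx.1, hy.1, zero_add, add_zero] at hiso
    field_simp
    linear_combination hiso
  obtain ⟨h0, g, hg, hgv⟩ := hx.2 _ hc
  have := hy.conj hf hg (fun a b => by rw [hgv]; exact uTv_isometry hf hx.1 hc a b)
  rw [hgv, uTv_mulVec hf, inv_mul_cancel₀ hyx, one_smul] at this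
  rwa [add_comm] at this

end

/-- A subgroup with all unitary transvections contains `SU`. -/
theorem su_le_of_uFull [Fintype F] {q : ℕ} (hF : Fintype.card F = q ^ 2) (hn : 4 ≤ n)
    {M : Subgroup (GL (Fin n) F)}
    (h : ∀ v, Cfsg.hermForm n F q v v = 0 → UFull (qConj hF) (Cfsg.hermForm n F q) M v) :
    Cfsg.GU n F q ⊓ Cfsg.Geo.specialLinear (Fin n) F ≤ M := by
  classical
  have hf := isUnitaryForm_hermForm hF n
  let toGL : ↥(Cfsg.SU n F q) →* GL (Fin n) F :=
    (Matrix.SpecialLinearGroup.toGL).comp (Cfsg.SU n F q).subtype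
  have htop : M.comap toGL = ⊤ := by
    rw [eq_top_iff, ← CfsgLib.Classical.closure_transvections_eq_top hF (n := n) (by omega) (by omega),
      Subgroup.closure_le]
    rintro A ⟨v, c, hv, hA⟩
    rw [SetLike.mem_coe, Subgroup.mem_comap]
    have hmat : ((toGL A : GL (Fin n) F) : Matrix (Fin n) (Fin n) F) =
        tvMat v (c • hDual (Cfsg.hermForm n F q) v) := by
      show ((A : Matrix.SpecialLinearGroup (Fin n) F) : Matrix (Fin n) (Fin n) F) = _
      refine Matrix.ext_of_mulVec_single fun i => ?_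
      rw [hA, uTv_mulVec hf, Cfsg.unitaryTransvection, add_mulVec, one_mulVec, smul_mulVec,
        vecMulVec_mulVec]
      congr 1
      funext k
      simp [Cfsg.hermForm, dotProduct, mul_assoc, mul_comm, mul_left_comm]
    rcases eq_or_ne v 0 with rfl | hv0
    · have : toGL A = 1 := Units.ext (by rw [hmat]; exact tvMat_zero_left _)
      rw [this]; exact one_mem M
    have hc : c + qConj hF c = 0 := by
      obtain ⟨⟨z, hz⟩, -⟩ := hf.nondegenerate v hv0
      have hp := A.2 z z
      have hg : ∀ x, Cfsg.slToMat n F (A : Matrix.SpecialLinearGroup (Fin n) F) *ᵥ x =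
          x + (c * Cfsg.hermForm n F q x v) • v := fun x => by
        rw [← uTv_mulVec hf, ← hmat]; rfl
      rw [hg, hf.add_left, hf.smul_left, herm_add_right hf, herm_add_right hf, herm_smul_right hf,
        herm_smul_right hf, hv, map_mul, ← hf.herm v z] at hp
      have hvz : Cfsg.hermForm n F q v z ≠ 0 := fun e => hz (herm_eq_zero_comm hf e)
      refine (mul_eq_zero.1 ?_).resolve_right (mul_ne_zero hz hvz)
      linear_combination hp
    obtain ⟨-, g, hg, hgv⟩ := (h v hv).2 c hc
    rwa [show toGL A = g from Units.ext (hmat.trans hgv.symm)]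
  rintro g ⟨hg, hgS⟩
  have hd : (g : Matrix (Fin n) (Fin n) F).det = 1 := by
    have : Matrix.GeneralLinearGroup.det g = 1 := hgS
    simpa using congrArg Units.val this
  have := (Subgroup.eq_top_iff' _).1 htop
    ⟨⟨(g : Matrix (Fin n) (Fin n) F), hd⟩, fun u v => hg u v⟩
  rw [Subgroup.mem_comap] at this
  convert this using 1
  exact Units.ext rfl

theorem uTv_mem_su [Fintype F] {q : ℕ} (hF : Fintype.card F = q ^ 2) {v : Fin n → F}
    (hv : Cfsg.hermForm n F q v v = 0) {c : F} (hc : c + qConj hF c = 0)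
    (h : (c • hDual (Cfsg.hermForm n F q) v) ⬝ᵥ v = 0) :
    tvGL v (c • hDual (Cfsg.hermForm n F q) v) h ∈ Cfsg.GU n F q ⊓ Cfsg.Geo.specialLinear (Fin n) F :=
  ⟨fun x y => uTv_isometry (isUnitaryForm_hermForm hF n) hv hc x y, tvGL_mem_specialLinear _ _ _⟩

end CfsgLib.MaxSub
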