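import Cfsg.Agent.Lib.MaxSub.Transvection
import Cfsg.Agent.Lib.MaxSub.Dual

/-!
Vectors and matrices over a subfield, and the subfield group at the trivial change of basis.
-/

set_option autoImplicit false
set_option linter.unusedSectionVars false

namespace CfsgLib.MaxSub

open Matrix
open scoped MatrixGroups

variable {ι : Type} [Fintype ι] [DecidableEq ι] {F : Type*} [Field F]

/-- All coordinates lie in the subfield. -/
def RatVec (F₀ : Subfield F) (x : ι → F) : Prop := ∀ i, x i ∈ F₀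

/-- All entries lie in the subfield. -/
def RatMat (F₀ : Subfield F) (A : Matrix ι ι F) : Prop := ∀ i j, A i j ∈ F₀

variable {F₀ : Subfield F}

theorem ratVec_single (i : ι) {c : F} (hc : c ∈ F₀) : RatVec F₀ (Pi.single i c) := by
  intro j
  rw [Pi.single_apply]
  split_ifs
  exacts [hc, zero_mem _]

theorem RatVec.add {x y : ι → F} (hx : RatVec F₀ x) (hy : RatVec F₀ y) : RatVec F₀ (x + y) :=
  fun i => add_mem (hx i) (hy i)

theorem RatVec.sub {x y : ι → F} (hx : RatVec F₀ x) (hy : RatVec F₀ y) : RatVec F₀ (x - y) :=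
  fun i => sub_mem (hx i) (hy i)

theorem RatVec.smul {c : F} (hc : c ∈ F₀) {x : ι → F} (hx : RatVec F₀ x) : RatVec F₀ (c • x) :=
  fun i => mul_mem hc (hx i)

theorem RatVec.dot {x y : ι → F} (hx : RatVec F₀ x) (hy : RatVec F₀ y) : x ⬝ᵥ y ∈ F₀ :=
  sum_mem fun i _ => mul_mem (hx i) (hy i)

theorem RatMat.mulVec {A : Matrix ι ι F} (hA : RatMat F₀ A) {x : ι → F} (hx : RatVec F₀ x) :
    RatVec F₀ (A *ᵥ x) :=
  fun i => RatVec.dot (fun j => hA i j) hx

theorem ratMat_tvMat {a φ : ι → F} (ha : RatVec F₀ a) (hφ : RatVec F₀ φ) :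
    RatMat F₀ (tvMat a φ) := by
  intro i j
  rw [tvMat, Matrix.add_apply, vecMulVec_apply, Matrix.one_apply]
  refine add_mem ?_ (mul_mem (ha i) (hφ j))
  split_ifs
  exacts [one_mem _, zero_mem _]

/-- Membership in the subfield group at the identity change of basis. -/
theorem mem_subfieldSubgroup_one (g : GL ι F) :
    g ∈ Cfsg.Geo.subfieldSubgroup F₀ 1 ↔
      ∃ c : F, c ≠ 0 ∧ RatMat F₀ (c • (g : Matrix ι ι F)) := by
  have hmem : g ∈ Cfsg.Geo.subfieldSubgroup F₀ 1 ↔
      g ∈ (Matrix.GeneralLinearGroup.map (F₀.subtype : F₀ →+* F)).range ⊔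
        Cfsg.Geo.scalars ι F := by
    rw [Cfsg.Geo.subfieldSubgroup, map_one]
    exact ⟨fun ⟨x, hx, e⟩ => e ▸ hx, fun h => ⟨g, h, rfl⟩⟩
  rw [hmem, Subgroup.mem_sup_of_normal_right]
  constructor
  · rintro ⟨y, ⟨A, rfl⟩, z, hz, rfl⟩
    obtain ⟨c, hc⟩ := (Cfsg.Geo.mem_scalars_iff z).1 hz
    refine ⟨(c : F)⁻¹, inv_ne_zero c.ne_zero, fun i j => ?_⟩
    rw [Units.val_mul, hc, Matrix.mul_smul, Matrix.mul_one, smul_smul,
      inv_mul_cancel₀ c.ne_zero, one_smul]
    exact ((A : Matrix ι ι F₀) i j).2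
  · rintro ⟨c, hc, hA⟩
    let B : Matrix ι ι F₀ := Matrix.of fun i j => ⟨_, hA i j⟩
    have hB : B.map (F₀.subtype : F₀ →+* F) = c • (g : Matrix ι ι F) := rfl
    have hdet : IsUnit B.det := by
      rw [isUnit_iff_ne_zero]
      intro h
      have h1 := congrArg (F₀.subtype : F₀ →+* F) h
      rw [RingHom.map_det, map_zero, RingHom.mapMatrix_apply, hB, Matrix.det_smul] at h1
      rcases mul_eq_zero.1 h1 with h2 | h2
      · exact pow_ne_zero _ hc h2
      · exact ((Matrix.isUnit_iff_isUnit_det _).1 g.isUnit).ne_zero h2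
    refine ⟨_, ⟨(Matrix.nonsingInvUnit B hdet), rfl⟩,
      Units.map (Matrix.scalar ι : F →+* Matrix ι ι F).toMonoidHom (Units.mk0 c hc)⁻¹, ⟨_, rfl⟩, ?_⟩
    apply Units.ext
    rw [Units.val_mul]
    show (B.map (F₀.subtype : F₀ →+* F)) * Matrix.scalar ι (↑(Units.mk0 c hc)⁻¹ : F) = _
    rw [hB, Units.val_inv_eq_inv_val, Units.val_mk0]
    ext i j
    simp [Matrix.scalar_apply, hc, mul_comm c, mul_assoc]

theorem ratMat_mem_subfieldSubgroup {g : GL ι F} (h : RatMat F₀ (g : Matrix ι ι F)) :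
    g ∈ Cfsg.Geo.subfieldSubgroup F₀ 1 :=
  (mem_subfieldSubgroup_one g).2 ⟨1, one_ne_zero, by rwa [one_smul]⟩

/-- `IsMaximalIn` is preserved by isomorphisms. -/
theorem isMaximalIn_map {G G' : Type*} [Group G] [Group G'] (e : G ≃* G') {K H : Subgroup G}
    (h : Cfsg.Geo.IsMaximalIn K H) :
    Cfsg.Geo.IsMaximalIn (K.map e.toMonoidHom) (H.map e.toMonoidHom) := by
  have hinj : Function.Injective e.toMonoidHom := e.injective
  refine ⟨lt_of_le_of_ne (Subgroup.map_mono h.1.le) fun he =>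
    h.1.ne (Subgroup.map_injective hinj he), fun M h1 h2 => ?_⟩
  have hM : (M.comap e.toMonoidHom).map e.toMonoidHom = M :=
    Subgroup.map_comap_eq_self_of_surjective e.surjective M
  rcases h.2 (M.comap e.toMonoidHom) (Subgroup.map_le_iff_le_comap.1 h1) (by
      intro x hx
      obtain ⟨y, hy, hyx⟩ := h2 hx
      rwa [← hinj hyx]) with h3 | h3
  · exact .inl (by rw [← hM, h3])
  · exact .inr (by rw [← hM, h3])

/-- Two involutions are conjugate, or some non-trivial involution in their dihedral group commutes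
with both; multiplying the first by it gives a conjugate of one of the two. -/
theorem exists_commuting_involution {G : Type*} [Group G] [Finite G] (s t : G) (hs : s * s = 1)
    (ht : t * t = 1) (hst : ¬ IsConj s t) :
    ∃ j ∈ Subgroup.zpowers (s * t), j ≠ 1 ∧ j * j = 1 ∧ Commute j s ∧ Commute j t ∧
      (IsConj s (s * j) ∨ IsConj t (s * j)) := by
  set r := s * t with hr
  have hsi : s⁻¹ = s := inv_eq_of_mul_eq_one_right hs
  have hti : t⁻¹ = t := inv_eq_of_mul_eq_one_right ht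
  have hsr : s * r * s⁻¹ = r⁻¹ := by rw [hr, _root_.mul_inv_rev, hsi, hti, ← mul_assoc, hs, one_mul]
  have hconj : ∀ l : ℕ, (r ^ l)⁻¹ * s * r ^ l = s * r ^ (2 * l) := by
    intro l
    have : s * r ^ l * s⁻¹ = (r ^ l)⁻¹ := by rw [← conj_pow, hsr, inv_pow]
    rw [← this, two_mul, pow_add, hsi]
    calc s * r ^ l * s * s * r ^ l = s * r ^ l * (s * s) * r ^ l := by group
      _ = s * (r ^ l * r ^ l) := by rw [hs, mul_one, mul_assoc]
  have h1 : ∀ l : ℕ, IsConj s (s * r ^ (2 * l)) := fun l =>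
    isConj_iff.2 ⟨(r ^ l)⁻¹, by rw [inv_inv]; exact hconj l⟩
  have h2 : ∀ l : ℕ, IsConj t (s * r ^ (2 * l + 1)) := fun l =>
    isConj_iff.2 ⟨(r ^ l)⁻¹, by
      rw [inv_inv, pow_succ, ← mul_assoc, ← hconj l]
      have : t = s * r := by rw [hr, ← mul_assoc, hs, one_mul]
      rw [this]
      simp only [mul_assoc]
      rw [← pow_succ' r l, ← pow_succ r l]⟩
  rcases Nat.even_or_odd' (orderOf r) with ⟨k, hk | hk⟩
  · have hk0 : 0 < k := by
      have := orderOf_pos r; omega
    refine ⟨r ^ k, pow_mem (Subgroup.mem_zpowers r) k, pow_ne_one_of_lt_orderOf hk0.ne' (by omega),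
      ?_, ?_, ?_, ?_⟩
    · rw [← pow_add, ← two_mul, ← hk, pow_orderOf_eq_one]
    · have hh : s * r ^ k * s⁻¹ = r ^ k := by
        rw [← conj_pow, hsr, inv_pow, inv_eq_iff_mul_eq_one, ← pow_add, ← two_mul, ← hk,
          pow_orderOf_eq_one]
      exact (mul_inv_eq_iff_eq_mul.1 hh).symm
    · have hh : s * r ^ k * s⁻¹ = r ^ k := by
        rw [← conj_pow, hsr, inv_pow, inv_eq_iff_mul_eq_one, ← pow_add, ← two_mul, ← hk,
          pow_orderOf_eq_one]
      have hc : Commute (r ^ k) s := (mul_inv_eq_iff_eq_mul.1 hh).symm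
      rw [show t = s * r by rw [hr, ← mul_assoc, hs, one_mul]]
      exact hc.mul_right (Commute.pow_self r k)
    · rcases Nat.even_or_odd' k with ⟨l, rfl | rfl⟩
      · exact .inl (h1 l)
      · exact .inr (h2 l)
  · exfalso
    refine hst ?_
    have := h2 k
    rw [← hk, pow_orderOf_eq_one, mul_one] at this
    exact this.symm

end CfsgLib.MaxSub
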