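import Cfsg.Agent.Lib.MaxSub.UFrame

/-!
Blocks of dimension at least two: the stabiliser of the frame and one more element give all transvections.
-/

set_option autoImplicit false
set_option linter.unusedSectionVars false

namespace CfsgLib.MaxSub.UFrame

open Matrix CfsgLib.MaxSub CfsgLib.MaxSub.DecompMax
open scoped MatrixGroups

variable {F : Type*} [Field F] [Fintype F] [DecidableEq F] {q n t k : ℕ} (hF : Fintype.card F = q ^ 2)
variable {blk : Fin n → Fin t} {M : Subgroup (GL (Fin n) F)}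

/-- the setting: `t` blocks of `k` coordinates, `M` between the frame stabiliser and `SU` -/
structure Setting (blk : Fin n → Fin t) (k q : ℕ) (M : Subgroup (GL (Fin n) F)) : Prop where
  hn : 6 ≤ n
  ht : 2 ≤ t
  e : ∃ e : Fin n ≃ Fin t × Fin k, ∀ i, blk i = (e i).1
  le : M ≤ Cfsg.GU n F q ⊓ Cfsg.Geo.specialLinear (Fin n) F
  mons : IsOver blk M q

theorem sum_comp (x : Fin n → F) : ∑ a, comp blk a x = x := funext fun i => by
  simp [Finset.sum_apply, comp]

theorem comp_add (a : Fin t) (x y : Fin n → F) : comp blk a (x + y) = comp blk a x + comp blk a y :=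
  funext fun i => by by_cases h : blk i = a <;> simp [comp, h]

theorem comp_smul (a : Fin t) (c : F) (x : Fin n → F) : comp blk a (c • x) = c • comp blk a x :=
  funext fun i => by by_cases h : blk i = a <;> simp [comp, h]

theorem Setting.card_eq (st : Setting blk k q M) : n = t * k := by
  obtain ⟨e, -⟩ := st.e
  simpa using Fintype.card_congr e

theorem Setting.card_block (st : Setting blk k q M) (a : Fin t) :
    (Finset.univ.filter fun i => blk i = a).card = k := by
  obtain ⟨e, he⟩ := st.e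
  rw [← Finset.card_fin k]
  refine Finset.card_bij' (fun i _ => (e i).2) (fun m _ => e.symm (a, m)) (by simp) (by simp [he]) ?_ (by simp)
  intro i hi
  simp only [Finset.mem_filter, Finset.mem_univ, true_and, he] at hi
  simp [← hi]

/-! ### vectors in a block -/

include hF in
theorem exists_iso_two {i i' : Fin n} (h : i ≠ i') : ∃ c : F, c ≠ 0 ∧
    Cfsg.hermForm n F q (Pi.single i 1 + Pi.single i' c) (Pi.single i 1 + Pi.single i' c) = 0 := by
  obtain ⟨c, hc⟩ := exists_norm hF (a := (-1 : F)) (by simp)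
  have hf := isUnitaryForm_hermForm hF n
  refine ⟨c, fun e => by simp [e] at hc, ?_⟩
  simp only [hf.add_left, f_single_left hF, Pi.add_apply, Pi.single_eq_same, Pi.single_eq_of_ne h,
    Pi.single_eq_of_ne h.symm, map_add, map_zero, map_one]
  linear_combination hc

include hF in
theorem exists_std (st : Setting blk k q M) (hk : 2 ≤ k) (a : Fin t) :
    ∃ i i' : Fin n, blk i = a ∧ blk i' = a ∧ i ≠ i' := by
  obtain ⟨i, hi, i', hi', h⟩ := Finset.one_lt_card.1 (by rw [st.card_block a]; omega :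
    1 < (Finset.univ.filter fun i => blk i = a).card)
  exact ⟨i, i', (Finset.mem_filter.1 hi).2, (Finset.mem_filter.1 hi').2, h⟩

include hF in
theorem exists_base_iso (st : Setting blk k q M) (hk : 2 ≤ k) (a : Fin t) :
    ∃ s ∈ blockSub blk a, s ≠ 0 ∧ Cfsg.hermForm n F q s s = 0 ∧
      ∃ z ∈ blockSub blk a, Cfsg.hermForm n F q z s ≠ 0 := by
  obtain ⟨i, i', hi, hi', h⟩ := exists_std hF st hk a
  obtain ⟨c, -, hc⟩ := exists_iso_two hF h (n := n)
  refine ⟨_, add_mem (hi ▸ single_mem_blockSub i 1) (hi' ▸ single_mem_blockSub i' c), fun e => ?_, hc,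
    Pi.single i 1, hi ▸ single_mem_blockSub i 1, ?_⟩
  · simpa [h] using congrFun e i
  · rw [f_single_left hF]; simp [h]

include hF in
theorem iso_span (st : Setting blk k q M) (hk : 2 ≤ k) (a : Fin t) {S : Submodule F (Fin n → F)}
    (hS : ∀ x ∈ blockSub blk a, Cfsg.hermForm n F q x x = 0 → x ∈ S) : blockSub blk a ≤ S := by
  obtain ⟨s, hs, -, hs0, z, hz, hzs⟩ := exists_base_iso hF st hk a
  exact le_of_isotropic_sep (isUnitaryForm_hermForm hF n) hs hs0 hz hzs hS

include hF in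
theorem exists_block_nonorth {a : Fin t} {x : Fin n → F} (hx : x ∈ blockSub blk a) (h0 : x ≠ 0) :
    ∃ p ∈ blockSub blk a, Cfsg.hermForm n F q p x ≠ 0 := by
  obtain ⟨i, hi⟩ : ∃ i, x i ≠ 0 := Function.ne_iff.1 h0
  have ha : blk i = a := by
    by_contra h
    exact hi (hx i h)
  exact ⟨Pi.single i 1, ha ▸ single_mem_blockSub i 1, by rw [f_single_left hF]; simpa using hi⟩

include hF in
theorem exists_iso_nonorth (st : Setting blk k q M) (hk : 2 ≤ k) {a : Fin t} {x : Fin n → F}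
    (hx : x ∈ blockSub blk a) (h0 : x ≠ 0) :
    ∃ z ∈ blockSub blk a, Cfsg.hermForm n F q z z = 0 ∧ Cfsg.hermForm n F q z x ≠ 0 := by
  by_contra hcon
  simp only [not_exists, not_and, not_not] at hcon
  obtain ⟨p, hp, hpx⟩ := exists_block_nonorth hF hx h0
  exact hpx (iso_span hF st hk a (S := LinearMap.ker (hLin (isUnitaryForm_hermForm hF n) x)) hcon hp)

include hF in
theorem exists_iso_both (st : Setting blk k q M) (hk : 2 ≤ k) {a : Fin t} {x y : Fin n → F}
    (hx : x ∈ blockSub blk a) (hy : y ∈ blockSub blk a) (hx0 : x ≠ 0) (hy0 : y ≠ 0) :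
    ∃ z ∈ blockSub blk a, Cfsg.hermForm n F q z z = 0 ∧ Cfsg.hermForm n F q z x ≠ 0 ∧
      Cfsg.hermForm n F q z y ≠ 0 := by
  have hf := isUnitaryForm_hermForm hF n
  obtain ⟨z₁, hz₁, i₁, h₁⟩ := exists_iso_nonorth hF st hk hx hx0
  obtain ⟨z₂, hz₂, i₂, h₂⟩ := exists_iso_nonorth hF st hk hy hy0
  by_cases h₁y : Cfsg.hermForm n F q z₁ y ≠ 0
  · exact ⟨z₁, hz₁, i₁, h₁, h₁y⟩
  by_cases h₂x : Cfsg.hermForm n F q z₂ x ≠ 0
  · exact ⟨z₂, hz₂, i₂, h₂x, h₂⟩
  rw [not_not] at h₁y h₂x
  obtain ⟨l, hl, hlt⟩ : ∃ l : F, l ≠ 0 ∧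
      qConj hF l * Cfsg.hermForm n F q z₁ z₂ + l * qConj hF (Cfsg.hermForm n F q z₁ z₂) = 0 := by
    by_cases hg : Cfsg.hermForm n F q z₁ z₂ = 0
    · exact ⟨1, one_ne_zero, by simp [hg]⟩
    · obtain ⟨c, hc0, hc⟩ := exists_trace_zero hf
      refine ⟨qConj hF (c / Cfsg.hermForm n F q z₁ z₂), (map_ne_zero _).2 (div_ne_zero hc0 hg), ?_⟩
      rw [qConj_qConj, div_mul_cancel₀ _ hg, ← map_mul, div_mul_cancel₀ _ hg, hc]
  refine ⟨z₁ + l • z₂, add_mem hz₁ (Submodule.smul_mem _ _ hz₂), ?_, ?_, ?_⟩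
  · simp only [hf.add_left, herm_add_right hf, hf.smul_left, herm_smul_right hf, i₁, i₂,
      hf.herm z₂ z₁]
    linear_combination hlt
  · rwa [hf.add_left, hf.smul_left, h₂x, mul_zero, add_zero]
  · rw [hf.add_left, hf.smul_left, h₁y, zero_add]; exact mul_ne_zero hl h₂

include hF in
theorem exists_perp (st : Setting blk k q M) (a : Fin t) {m : ℕ} (S : Fin m → Fin n → F) (hm : m < k) :
    ∃ x ∈ blockSub blk a, x ≠ 0 ∧ ∀ i, Cfsg.hermForm n F q x (S i) = 0 := by
  have hf := isUnitaryForm_hermForm hF n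
  obtain ⟨e, he⟩ := st.e
  let ext : (Fin k → F) →ₗ[F] (Fin n → F) :=
    { toFun := fun y i => if blk i = a then y (e i).2 else 0
      map_add' := fun y y' => funext fun i => by by_cases h : blk i = a <;> simp [h]
      map_smul' := fun c y => funext fun i => by by_cases h : blk i = a <;> simp [h] }
  let L : (Fin k → F) →ₗ[F] (Fin m → F) := LinearMap.pi fun i => (hLin hf (S i)).comp ext
  obtain ⟨y, hy, hy0⟩ := Submodule.exists_mem_ne_zero_of_ne_bot
    (LinearMap.ker_ne_bot_of_finrank_lt (f := L) (by simpa using hm))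
  refine ⟨ext y, fun i hi => by simp [ext, hi], fun h => hy0 (funext fun l => ?_),
    fun i => congrFun (LinearMap.mem_ker.1 hy) i⟩
  simpa [ext, he] using congrFun h (e.symm (a, l))

include hF in
theorem exists_aniso_perp_pair (st : Setting blk k q M) (hk : 3 ≤ k) {a : Fin t} {u w : Fin n → F}
    (hu : u ∈ blockSub blk a) (hw : w ∈ blockSub blk a) (hu0 : Cfsg.hermForm n F q u u = 0)
    (hw0 : Cfsg.hermForm n F q w w = 0) (huw : Cfsg.hermForm n F q u w = 1) :
    ∃ y ∈ blockSub blk a, Cfsg.hermForm n F q y u = 0 ∧ Cfsg.hermForm n F q y w = 0 ∧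
      Cfsg.hermForm n F q y y ≠ 0 := by
  have hf := isUnitaryForm_hermForm hF n
  have hwu : Cfsg.hermForm n F q w u = 1 := by rw [hf.herm, huw, map_one]
  obtain ⟨x, hx, hx0, hxS⟩ := exists_perp hF st a ![u, w] hk
  have hxu : Cfsg.hermForm n F q x u = 0 := hxS 0
  have hxw : Cfsg.hermForm n F q x w = 0 := hxS 1
  by_cases hxx : Cfsg.hermForm n F q x x ≠ 0
  · exact ⟨x, hx, hxu, hxw, hxx⟩
  rw [not_not] at hxx
  obtain ⟨p, hp, hpx⟩ := exists_block_nonorth hF hx hx0
  obtain ⟨p', hp'⟩ : ∃ p', p' = p + (-Cfsg.hermForm n F q p w) • u + (-Cfsg.hermForm n F q p u) • w := ⟨_, rfl⟩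
  have hmem : p' ∈ blockSub blk a := hp' ▸
    add_mem (add_mem hp (Submodule.smul_mem _ _ hu)) (Submodule.smul_mem _ _ hw)
  have h1 : Cfsg.hermForm n F q p' u = 0 := by
    rw [hp', hf.add_left, hf.add_left, hf.smul_left, hf.smul_left, hu0, hwu]; ring
  have h2 : Cfsg.hermForm n F q p' w = 0 := by
    rw [hp', hf.add_left, hf.add_left, hf.smul_left, hf.smul_left, hw0, huw]; ring
  have h3 : Cfsg.hermForm n F q p' x = Cfsg.hermForm n F q p x := by
    rw [hp', hf.add_left, hf.add_left, hf.smul_left, hf.smul_left, herm_eq_zero_comm hf hxu,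
      herm_eq_zero_comm hf hxw]; ring
  by_cases hpp : Cfsg.hermForm n F q p' p' ≠ 0
  · exact ⟨p', hmem, h1, h2, hpp⟩
  rw [not_not] at hpp
  obtain ⟨s, hs⟩ := exists_trace_ne hf
  refine ⟨x + (s / Cfsg.hermForm n F q p' x) • p', add_mem hx (Submodule.smul_mem _ _ hmem), ?_, ?_, ?_⟩
  · rw [hf.add_left, hf.smul_left, hxu, h1, mul_zero, add_zero]
  · rw [hf.add_left, hf.smul_left, hxw, h2, mul_zero, add_zero]
  · rw [← h3] at hpx
    have hxp : qConj hF (Cfsg.hermForm n F q p' x) = Cfsg.hermForm n F q x p' := (hf.herm x p').symm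
    simp only [hf.add_left, herm_add_right hf, hf.smul_left, herm_smul_right hf, hxx, hpp, map_div₀]
    rw [← hxp, div_mul_cancel₀ _ ((map_ne_zero _).2 hpx), div_mul_cancel₀ _ hpx]
    intro h; exact hs (by linear_combination h)

include hF in
theorem exists_iso_perp (st : Setting blk k q M) (hk : 3 ≤ k) (a : Fin t) (b : Fin n → F) :
    ∃ w ∈ blockSub blk a, w ≠ 0 ∧ Cfsg.hermForm n F q w w = 0 ∧ Cfsg.hermForm n F q w b = 0 := by
  have hf := isUnitaryForm_hermForm hF n
  obtain ⟨x₁, h₁, h₁0, h₁S⟩ := exists_perp hF st a ![b] (by omega : 1 < k)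
  by_cases h₁₁ : Cfsg.hermForm n F q x₁ x₁ = 0
  · exact ⟨x₁, h₁, h₁0, h₁₁, h₁S 0⟩
  obtain ⟨x₂, h₂, h₂0, h₂S⟩ := exists_perp hF st a ![b, x₁] hk
  by_cases h₂₂ : Cfsg.hermForm n F q x₂ x₂ = 0
  · exact ⟨x₂, h₂, h₂0, h₂₂, h₂S 0⟩
  have h21 : Cfsg.hermForm n F q x₂ x₁ = 0 := h₂S 1
  obtain ⟨c, hc⟩ := exists_norm hF (a := -Cfsg.hermForm n F q x₁ x₁ / Cfsg.hermForm n F q x₂ x₂) (by
    rw [map_div₀, map_neg, herm_self_fixed hf, herm_self_fixed hf])
  refine ⟨x₁ + c • x₂, add_mem h₁ (Submodule.smul_mem _ _ h₂), fun e => h₁₁ ?_, ?_, ?_⟩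
  · have h := congrArg (fun v => Cfsg.hermForm n F q v x₁) e
    simpa [hf.add_left, hf.smul_left, h21, herm_zero_left hf] using h
  · rw [div_eq_mul_inv] at hc
    simp only [hf.add_left, herm_add_right hf, hf.smul_left, herm_smul_right hf, h21,
      herm_eq_zero_comm hf h21]
    have hi := inv_mul_cancel₀ h₂₂
    linear_combination (Cfsg.hermForm n F q x₂ x₂) * hc + (-Cfsg.hermForm n F q x₁ x₁) * hi
  · rw [hf.add_left, hf.smul_left, show Cfsg.hermForm n F q x₁ b = 0 from h₁S 0,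
      show Cfsg.hermForm n F q x₂ b = 0 from h₂S 0, mul_zero, add_zero]

/-! ### a vector in two blocks -/

include hF in
theorem tv_move {v : Fin n → F} (hv : UFull (qConj hF) (Cfsg.hermForm n F q) M v) {c : F}
    (hc : c + qConj hF c = 0) :
    ∃ g ∈ M, ∀ x, (g : Matrix (Fin n) (Fin n) F) *ᵥ x = x + (c * Cfsg.hermForm n F q x v) • v := by
  obtain ⟨-, g, hg, hgv⟩ := hv.2 c hc
  exact ⟨g, hg, fun x => by rw [hgv]; exact uTv_mulVec (isUnitaryForm_hermForm hF n) v c x⟩

include hF in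
theorem eich_mem (st : Setting blk k q M) {a : Fin t} {w y : Fin n → F} (hw : w ∈ blockSub blk a)
    (hy : y ∈ blockSub blk a) (hw0 : Cfsg.hermForm n F q w w = 0) (hwy : Cfsg.hermForm n F q w y = 0) {c : F}
    (hc : c + qConj hF c = -Cfsg.hermForm n F q y y) :
    ∃ g ∈ M, ∀ x, (g : Matrix (Fin n) (Fin n) F) *ᵥ x = x +
      (Cfsg.hermForm n F q x y + c * Cfsg.hermForm n F q x w) • w + (-Cfsg.hermForm n F q x w) • y := by
  have hf := isUnitaryForm_hermForm hF n
  refine ⟨hEich hf w y c hw0 hwy, st.mons _ ⟨fun u v => hEich_isometry hf w y c hw0 hwy hc u v,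
    hEich_mem_specialLinear hf w y c hw0 hwy⟩ (isBlockMono_of_maps id fun i => ?_), hEich_mulVec hf w y c hw0 hwy⟩
  rw [hEich_mulVec hf]
  by_cases hi : blk i = a
  · rw [id, hi]
    exact add_mem (add_mem (hi ▸ single_mem_blockSub i 1) (Submodule.smul_mem _ _ hw)) (Submodule.smul_mem _ _ hy)
  · rw [f_cross hF hi (single_mem_blockSub i 1) hw, f_cross hF hi (single_mem_blockSub i 1) hy, mul_zero, add_zero,
      neg_zero, zero_smul, zero_smul, add_zero, add_zero]
    exact single_mem_blockSub i 1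

include hF in
theorem diff_full {x z : Fin n → F} (hx : UFull (qConj hF) (Cfsg.hermForm n F q) M x) {g : GL (Fin n) F}
    (hle : M ≤ Cfsg.GU n F q ⊓ Cfsg.Geo.specialLinear (Fin n) F) (hg : g ∈ M)
    (hgx : (g : Matrix (Fin n) (Fin n) F) *ᵥ x = x + z) (hz : Cfsg.hermForm n F q z z = 0)
    (hne : Cfsg.hermForm n F q z x ≠ 0) : UFull (qConj hF) (Cfsg.hermForm n F q) M z := by
  have hf := isUnitaryForm_hermForm hF n
  have h1 := hx.conj hf hg (iso_of_mem hF hle hg)
  rw [hgx] at h1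
  have h2 := UFull.smul hf hx (-1 : F)
  have hsum : x + z + (-1 : F) • x = z := by module
  have := h1.add hf h2 (by
    rw [herm_smul_right hf, hf.add_left, hx.1, zero_add]
    simpa using hne) (by rw [hsum]; exact hz)
  rwa [hsum] at this

/-- a full vector with two isotropic components -/
def HasSeed (hF : Fintype.card F = q ^ 2) (blk : Fin n → Fin t) (M : Subgroup (GL (Fin n) F)) : Prop :=
  ∃ j l : Fin t, j ≠ l ∧ ∃ a ∈ blockSub blk j, ∃ b ∈ blockSub blk l, a ≠ 0 ∧ b ≠ 0 ∧
    Cfsg.hermForm n F q a a = 0 ∧ Cfsg.hermForm n F q b b = 0 ∧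
    UFull (qConj hF) (Cfsg.hermForm n F q) M (a + b)

include hF in
theorem seed_of_aniso (st : Setting blk k q M) (hk : 3 ≤ k) {x : Fin n → F}
    (hx : UFull (qConj hF) (Cfsg.hermForm n F q) M x) {j l : Fin t} (hjl : j ≠ l) (hj : comp blk j x ≠ 0)
    (hl : Cfsg.hermForm n F q (comp blk l x) (comp blk l x) ≠ 0) : HasSeed hF blk M := by
  have hf := isUnitaryForm_hermForm hF n
  obtain ⟨u, hu, hu0, hux⟩ := exists_iso_nonorth hF st (by omega) (comp_mem j x) hj
  obtain ⟨c, hc0, hc⟩ := exists_trace_zero hf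
  obtain ⟨g₁, hg₁, hg₁e⟩ := tv_move hF (uFull_block hF st.mons hu hu0) hc
  obtain ⟨w, hw, hw0, hww, hwb⟩ := exists_iso_perp hF st hk l (comp blk l x)
  obtain ⟨N, hN⟩ : ∃ N, N = Cfsg.hermForm n F q (comp blk l x) (comp blk l x) := ⟨_, rfl⟩
  have hσN : qConj hF N = N := by rw [hN]; exact herm_self_fixed hf _
  rw [← hN] at hl
  obtain ⟨y, hy⟩ : ∃ y, y = N⁻¹ • comp blk l x := ⟨_, rfl⟩
  have hym : y ∈ blockSub blk l := hy ▸ Submodule.smul_mem _ _ (comp_mem l x)
  obtain ⟨d, hd⟩ := exists_trace_eq hf (a := -Cfsg.hermForm n F q y y) (by rw [map_neg, herm_self_fixed hf])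
  obtain ⟨g₂, hg₂, hg₂e⟩ := eich_mem hF st hw hym hww (by rw [hy, herm_smul_right hf, hwb, mul_zero]) hd
  have hxw : Cfsg.hermForm n F q x w = 0 := by
    rw [hf.herm, f_blocks hF hw, hwb, map_zero]
  have hxy : Cfsg.hermForm n F q x y = 1 := by
    rw [hf.herm, f_blocks hF hym, hy, hf.smul_left, ← hN, inv_mul_cancel₀ hl, map_one]
  have h2 : (g₂ : Matrix (Fin n) (Fin n) F) *ᵥ x = x + w := by
    rw [hg₂e, hxw, hxy]; simp
  have hxu : Cfsg.hermForm n F q x u ≠ 0 := fun e => hux (by rw [← f_blocks hF hu]; exact herm_eq_zero_comm hf e)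
  obtain ⟨s, hs⟩ : ∃ s, s = c * Cfsg.hermForm n F q x u := ⟨_, rfl⟩
  have hwu : Cfsg.hermForm n F q w u = 0 := f_cross hF (Ne.symm hjl) hw hu
  have h21 : ((g₁ * g₂ : GL (Fin n) F) : Matrix (Fin n) (Fin n) F) *ᵥ x = x + (s • u + w) := by
    rw [Units.val_mul, ← mulVec_mulVec, h2, hg₁e, hf.add_left, hwu, add_zero, ← hs]; abel
  have hzu : Cfsg.hermForm n F q (s • u) (s • u) = 0 := by rw [hf.smul_left, herm_smul_right hf, hu0]; ring
  refine ⟨j, l, hjl, s • u, Submodule.smul_mem _ _ hu, w, hw, ?_, hw0, hzu, hww,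
    diff_full hF hx st.le (mul_mem hg₁ hg₂) h21 ?_ ?_⟩
  · refine smul_ne_zero (hs ▸ mul_ne_zero hc0 hxu) fun e => hxu (by rw [e]; exact herm_zero_right hf x)
  · rw [hf.add_left, herm_add_right hf, herm_add_right hf, hzu, hww, hf.smul_left, herm_smul_right hf,
      herm_eq_zero_comm hf hwu, hwu]; ring
  · rw [hf.add_left, hf.smul_left, show Cfsg.hermForm n F q w x = 0 from herm_eq_zero_comm hf hxw, add_zero,
      hs]
    exact mul_ne_zero (mul_ne_zero hc0 hxu) fun e => hxu (herm_eq_zero_comm hf e)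

include hF in
theorem two_fixed (hq : q = 2) {a : F} (ha : qConj hF a = a) (h0 : a ≠ 0) : a = 1 := by
  rw [qConj_apply, hq, pow_two] at ha
  exact mul_left_cancel₀ h0 (by rw [ha, mul_one])

include hF in
theorem seed_two (st : Setting blk k q M) (hk : 3 ≤ k) (hq : q = 2) {x : Fin n → F}
    (hx : UFull (qConj hF) (Cfsg.hermForm n F q) M x) {j l : Fin t} (hjl : j ≠ l) (hj : comp blk j x ≠ 0)
    (hl : comp blk l x ≠ 0) : HasSeed hF blk M := by
  have hf := isUnitaryForm_hermForm hF n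
  by_cases hll : Cfsg.hermForm n F q (comp blk l x) (comp blk l x) ≠ 0
  · exact seed_of_aniso hF st hk hx hjl hj hll
  by_cases hjj : Cfsg.hermForm n F q (comp blk j x) (comp blk j x) ≠ 0
  · exact seed_of_aniso hF st hk hx (Ne.symm hjl) hl hjj
  rw [not_not] at hll hjj
  have key : ∀ a : Fin t, comp blk a x ≠ 0 → Cfsg.hermForm n F q (comp blk a x) (comp blk a x) = 0 →
      ∀ c : F, c + qConj hF c = 1 → ∃ g ∈ M, ∃ z ∈ blockSub blk a,
        Cfsg.hermForm n F q z z = 1 ∧ Cfsg.hermForm n F q z x = c ∧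
        (g : Matrix (Fin n) (Fin n) F) *ᵥ x = x + z ∧
        ∀ v, comp blk a v = 0 → (g : Matrix (Fin n) (Fin n) F) *ᵥ v = v := by
    intro a ha haa c hc
    obtain ⟨w', hw', hw'0, hw'x⟩ := exists_iso_nonorth hF st (by omega) (comp_mem a x) ha
    obtain ⟨w, hwe⟩ : ∃ w, w = (Cfsg.hermForm n F q w' (comp blk a x))⁻¹ • w' := ⟨_, rfl⟩
    have hw : w ∈ blockSub blk a := hwe ▸ Submodule.smul_mem _ _ hw'
    have hww : Cfsg.hermForm n F q w w = 0 := by rw [hwe, hf.smul_left, herm_smul_right hf, hw'0]; ring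
    have hwx : Cfsg.hermForm n F q w (comp blk a x) = 1 := by
      rw [hwe, hf.smul_left, inv_mul_cancel₀ hw'x]
    obtain ⟨y, hy, hya, hyw, hyy⟩ := exists_aniso_perp_pair hF st hk (comp_mem a x) hw haa hww
      (by rw [hf.herm, hwx, map_one])
    have hy1 := two_fixed hF hq (herm_self_fixed hf y) hyy
    have hneg : (-1 : F) = 1 := two_fixed hF hq (by simp) (by simp)
    obtain ⟨g, hg, hge⟩ := eich_mem hF st hw hy hww (herm_eq_zero_comm hf hyw) (c := c) (by rw [hc, hy1, hneg])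
    have hxw : Cfsg.hermForm n F q x w = 1 := by rw [hf.herm, f_blocks hF hw, hwx, map_one]
    have hxy : Cfsg.hermForm n F q x y = 0 := by rw [hf.herm, f_blocks hF hy, hya, map_zero]
    refine ⟨g, hg, c • w + (-1 : F) • y, add_mem (Submodule.smul_mem _ _ hw) (Submodule.smul_mem _ _ hy),
      ?_, ?_, ?_, fun v hv => ?_⟩
    · simp only [hf.add_left, herm_add_right hf, hf.smul_left, herm_smul_right hf, hww, hyw,
        herm_eq_zero_comm hf hyw, hy1, map_neg, map_one]
      ring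
    · rw [hf.add_left, hf.smul_left, hf.smul_left, show Cfsg.hermForm n F q y x = 0 from herm_eq_zero_comm hf hxy,
        f_blocks hF hw, hwx]; ring
    · rw [hge, hxw, hxy, zero_add, mul_one, add_assoc]
    · have h1 : Cfsg.hermForm n F q v w = 0 := by
        rw [hf.herm, f_blocks hF hw, hv, herm_zero_right hf, map_zero]
      have h2 : Cfsg.hermForm n F q v y = 0 := by
        rw [hf.herm, f_blocks hF hy, hv, herm_zero_right hf, map_zero]
      rw [hge, h1, h2]; simp
  obtain ⟨c, hc⟩ := exists_trace_eq hf (a := (1 : F)) (map_one _)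
  obtain ⟨g₁, hg₁, z₁, hz₁, hz₁₁, hz₁x, hg₁x, hg₁v⟩ := key j hj hjj c hc
  obtain ⟨g₂, hg₂, z₂, hz₂, hz₂₂, hz₂x, hg₂x, hg₂v⟩ := key l hl hll (qConj hF c)
    (by rw [qConj_qConj, add_comm, hc])
  have h12 : ((g₁ * g₂ : GL (Fin n) F) : Matrix (Fin n) (Fin n) F) *ᵥ x = x + (z₁ + z₂) := by
    rw [Units.val_mul, ← mulVec_mulVec, hg₂x, mulVec_add, hg₁x, hg₁v z₂ (comp_other hz₂ hjl), add_assoc]
  have hcr : Cfsg.hermForm n F q z₁ z₂ = 0 := f_cross hF hjl hz₁ hz₂
  have hz := diff_full hF hx st.le (mul_mem hg₁ hg₂) h12 (by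
    rw [hf.add_left, herm_add_right hf, herm_add_right hf, hz₁₁, hz₂₂, hcr, herm_eq_zero_comm hf hcr, add_zero,
      zero_add]
    linear_combination -(two_fixed hF hq (a := (-1 : F)) (by simp) (by simp))) (by rw [hf.add_left, hz₁x, hz₂x, hc]; exact one_ne_zero)
  refine seed_of_aniso hF st hk hz hjl ?_ ?_
  · rw [comp_add, comp_self hz₁, comp_other hz₂ hjl, add_zero]
    exact fun e => by simp [e, herm_zero_left hf] at hz₁₁
  · rw [comp_add, comp_self hz₂, comp_other hz₁ hjl.symm, zero_add, hz₂₂]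
    exact one_ne_zero

include hF in
theorem exists_norm_ne (hq : 3 ≤ q) : ∃ r : F, qConj hF r = r ∧ r ≠ 0 ∧ r + 1 ≠ 0 := by
  by_cases h : (1 : F) + 1 = 0
  · obtain ⟨x, -, hx⟩ := Finset.exists_mem_notMem_of_card_lt_card (s := insert (0 : F) (circ hF)) (t := Finset.univ) (by
      refine (Finset.card_insert_le _ _).trans_lt ?_
      rw [card_circ, Finset.card_univ, hF]; nlinarith)
    simp only [Finset.mem_insert, mem_circ, not_or] at hx
    refine ⟨x * qConj hF x, by rw [map_mul, qConj_qConj, mul_comm], mul_ne_zero hx.1 ((map_ne_zero _).2 hx.1),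
      fun e => hx.2 ?_⟩
    linear_combination e - h
  · exact ⟨1, map_one _, one_ne_zero, h⟩

include hF in
theorem seed_big (st : Setting blk k q M) (hk : 2 ≤ k) (hq : 3 ≤ q) {x : Fin n → F}
    (hx : UFull (qConj hF) (Cfsg.hermForm n F q) M x) {j l : Fin t} (hjl : j ≠ l) (hj : comp blk j x ≠ 0)
    (hl : comp blk l x ≠ 0) : HasSeed hF blk M := by
  have hf := isUnitaryForm_hermForm hF n
  obtain ⟨u, hu, hu0, hux⟩ := exists_iso_nonorth hF st hk (comp_mem j x) hj
  obtain ⟨v, hv, hv0, hvx⟩ := exists_iso_nonorth hF st hk (comp_mem l x) hl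
  rw [← f_blocks hF hu] at hux
  rw [← f_blocks hF hv] at hvx
  obtain ⟨c, hc0, hc⟩ := exists_trace_zero hf
  obtain ⟨r, hr, hr0, hr1⟩ := exists_norm_ne hF hq
  obtain ⟨A, hA⟩ : ∃ A, A = Cfsg.hermForm n F q u x := ⟨_, rfl⟩
  obtain ⟨B, hB⟩ : ∃ B, B = Cfsg.hermForm n F q v x := ⟨_, rfl⟩
  rw [← hA] at hux; rw [← hB] at hvx
  have hA' : qConj hF A ≠ 0 := (map_ne_zero _).2 hux
  have hB' : qConj hF B ≠ 0 := (map_ne_zero _).2 hvx
  have t1 : c / (A * qConj hF A) + qConj hF (c / (A * qConj hF A)) = 0 := by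
    rw [map_div₀, map_mul, qConj_qConj, mul_comm (qConj hF A), ← add_div, hc, zero_div]
  have t2 : r * c / (B * qConj hF B) + qConj hF (r * c / (B * qConj hF B)) = 0 := by
    rw [map_div₀, map_mul, map_mul, hr, qConj_qConj, mul_comm (qConj hF B), ← add_div, ← mul_add, hc, mul_zero,
      zero_div]
  obtain ⟨g₁, hg₁, hg₁e⟩ := tv_move hF (uFull_block hF st.mons hu hu0) t1
  obtain ⟨g₂, hg₂, hg₂e⟩ := tv_move hF (uFull_block hF st.mons hv hv0) t2
  have hxu : Cfsg.hermForm n F q x u = qConj hF A := by rw [hA]; exact hf.herm x u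
  have hxv : Cfsg.hermForm n F q x v = qConj hF B := by rw [hB]; exact hf.herm x v
  have hvu : Cfsg.hermForm n F q v u = 0 := f_cross hF (Ne.symm hjl) hv hu
  obtain ⟨s, hs⟩ : ∃ s, s = c / (A * qConj hF A) * qConj hF A := ⟨_, rfl⟩
  obtain ⟨s', hs'⟩ : ∃ s', s' = r * c / (B * qConj hF B) * qConj hF B := ⟨_, rfl⟩
  have h12 : ((g₁ * g₂ : GL (Fin n) F) : Matrix (Fin n) (Fin n) F) *ᵥ x = x + (s • u + s' • v) := by
    rw [Units.val_mul, ← mulVec_mulVec, hg₂e, hg₁e, hf.add_left, hf.smul_left, hvu, mul_zero, add_zero, hxu,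
      hxv, ← hs, ← hs']; abel
  have hsu : Cfsg.hermForm n F q (s • u) (s • u) = 0 := by rw [hf.smul_left, herm_smul_right hf, hu0]; ring
  have hsv : Cfsg.hermForm n F q (s' • v) (s' • v) = 0 := by rw [hf.smul_left, herm_smul_right hf, hv0]; ring
  refine ⟨j, l, hjl, s • u, Submodule.smul_mem _ _ hu, s' • v, Submodule.smul_mem _ _ hv, ?_, ?_, hsu, hsv,
    diff_full hF hx st.le (mul_mem hg₁ hg₂) h12 ?_ ?_⟩
  · exact smul_ne_zero (hs ▸ mul_ne_zero (div_ne_zero hc0 (mul_ne_zero hux hA')) hA')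
      fun e => hux (by rw [hA, e]; exact herm_zero_left hf x)
  · exact smul_ne_zero (hs' ▸ mul_ne_zero (div_ne_zero (mul_ne_zero hr0 hc0) (mul_ne_zero hvx hB')) hB')
      fun e => hvx (by rw [hB, e]; exact herm_zero_left hf x)
  · simp only [hf.add_left, herm_add_right hf, hf.smul_left, herm_smul_right hf, hu0, hv0, hvu,
      herm_eq_zero_comm hf hvu]
    ring
  · rw [hf.add_left, hf.smul_left, hf.smul_left, ← hA, ← hB, hs, hs']
    have : c / (A * qConj hF A) * qConj hF A * A + r * c / (B * qConj hF B) * qConj hF B * B = (r + 1) * c := by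
      field_simp
      ring
    rw [this]; exact mul_ne_zero hr1 hc0

include hF in
theorem exists_moved (st : Setting blk k q M) (hk : 2 ≤ k) {g : GL (Fin n) F} (hg : g ∈ M)
    (hgb : ¬ IsBlockMono blk (g : Matrix (Fin n) (Fin n) F)) :
    ∃ (x : Fin n → F) (j l : Fin t), UFull (qConj hF) (Cfsg.hermForm n F q) M x ∧ j ≠ l ∧
      comp blk j x ≠ 0 ∧ comp blk l x ≠ 0 := by
  classical
  have hf := isUnitaryForm_hermForm hF n
  by_contra hcon
  simp only [not_exists, not_and, not_not] at hcon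
  have hiso := iso_of_mem hF st.le hg
  have hinj : ∀ v : Fin n → F, (g : Matrix (Fin n) (Fin n) F) *ᵥ v = 0 → v = 0 := fun v h => by
    have := congrArg (((g⁻¹ : GL (Fin n) F) : Matrix (Fin n) (Fin n) F) *ᵥ ·) h
    simpa [mulVec_mulVec, ← Units.val_mul] using this
  have hone : ∀ x : Fin n → F, (∃ a, x ∈ blockSub blk a) → Cfsg.hermForm n F q x x = 0 → x ≠ 0 →
      ∃ b, (g : Matrix (Fin n) (Fin n) F) *ᵥ x ∈ blockSub blk b := by
    rintro x ⟨a, hx⟩ hxx hx0
    obtain ⟨i, hi⟩ : ∃ i, ((g : Matrix (Fin n) (Fin n) F) *ᵥ x) i ≠ 0 :=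
      Function.ne_iff.1 fun e => hx0 (hinj x e)
    refine ⟨blk i, fun i' hi' => ?_⟩
    have h := hcon _ (blk i) (blk i') ((uFull_block hF st.mons hx hxx).conj hf hg hiso) (Ne.symm hi')
      (fun e => hi (by simpa [comp] using congrFun e i))
    simpa [comp] using congrFun h i'
  apply hgb
  choose s hs hs0 hss _z _hz _hzs using fun a => exists_base_iso hF st hk a
  choose π hπ using fun a => hone (s a) ⟨a, hs a⟩ (hss a) (hs0 a)
  refine isBlockMono_of_maps π fun i => ?_
  have same : ∀ (a b : Fin t) (x y : Fin n → F), x ∈ blockSub blk a → y ∈ blockSub blk a →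
      Cfsg.hermForm n F q x x = 0 → Cfsg.hermForm n F q x y ≠ 0 →
      (g : Matrix (Fin n) (Fin n) F) *ᵥ y ∈ blockSub blk b →
      (g : Matrix (Fin n) (Fin n) F) *ᵥ x ∈ blockSub blk b := by
    intro a b x y hx hy hxx hxy hgy
    obtain ⟨b', hb'⟩ := hone x ⟨a, hx⟩ hxx fun e => hxy (by rw [e]; exact herm_zero_left hf y)
    by_cases h : b' = b
    · rwa [← h]
    · exact absurd (by rw [← hiso]; exact f_cross hF h hb' hgy) hxy
  refine iso_span hF st hk (blk i) (S := (blockSub blk (π (blk i))).comap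
    (Matrix.mulVecLin (g : Matrix (Fin n) (Fin n) F))) (fun x hx hxx => ?_) (single_mem_blockSub i 1)
  rw [Submodule.mem_comap, Matrix.mulVecLin_apply]
  rcases eq_or_ne x 0 with rfl | hx0
  · rw [mulVec_zero]; exact zero_mem _
  obtain ⟨z, hz, hzz, hzx, hzs⟩ := exists_iso_both hF st hk hx (hs _) hx0 (hs0 _)
  exact same _ _ x z hx hz hxx (fun e => hzx (herm_eq_zero_comm hf e))
    (same _ _ z _ hz (hs _) hzz hzs (hπ _))

include hF in
theorem hasSeed (st : Setting blk k q M) (hk : 2 ≤ k) (hex : ¬ (k = 2 ∧ q = 2)) {g : GL (Fin n) F} (hg : g ∈ M)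
    (hgb : ¬ IsBlockMono blk (g : Matrix (Fin n) (Fin n) F)) : HasSeed hF blk M := by
  obtain ⟨x, j, l, hx, hjl, hj, hl⟩ := exists_moved hF st hk hg hgb
  have := two_le_q hF
  by_cases hq : q = 2
  · exact seed_two hF st (by omega) hq hx hjl hj hl
  · exact seed_big hF st hk (by omega) hx hjl hj hl

/-! ### all vectors -/

include hF in
theorem move_full {d d' w b : Fin n → F} {j l : Fin t} (hjl : j ≠ l) (hd : d ∈ blockSub blk j)
    (hd' : d' ∈ blockSub blk j) (hb : b ∈ blockSub blk l) (hM : IsOver blk M q)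
    (hdd : Cfsg.hermForm n F q d d = 0) (hdd' : Cfsg.hermForm n F q d' d' = 0)
    (hbb : Cfsg.hermForm n F q b b = 0)
    (htr : Cfsg.hermForm n F q d d' + qConj hF (Cfsg.hermForm n F q d d') = 0)
    (hne : Cfsg.hermForm n F q d d' ≠ 0) (hw : w = d' + (-1 : F) • d)
    (h : UFull (qConj hF) (Cfsg.hermForm n F q) M (d + b)) :
    UFull (qConj hF) (Cfsg.hermForm n F q) M (d' + b) := by
  have hf := isUnitaryForm_hermForm hF n
  have hwm : w ∈ blockSub blk j := hw ▸ add_mem hd' (Submodule.smul_mem _ _ hd)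
  have hww : Cfsg.hermForm n F q w w = 0 := by
    rw [hw]
    simp only [hf.add_left, herm_add_right hf, hf.smul_left, herm_smul_right hf, hdd, hdd', map_neg, map_one]
    rw [hf.herm d' d]
    linear_combination -htr
  have hbw : Cfsg.hermForm n F q b w = 0 := f_cross hF hjl.symm hb hwm
  have hsum : d + b + w = d' + b := by rw [hw]; module
  have := h.add hf (uFull_block hF hM hwm hww) (by
    rw [hf.add_left, hbw, add_zero, hw, herm_add_right hf, herm_smul_right hf, hdd, mul_zero, add_zero]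
    exact hne) (by
    rw [hsum, hf.add_left, herm_add_right hf, herm_add_right hf, hdd', hbb, f_cross hF hjl hd' hb,
      f_cross hF hjl.symm hb hd']; ring)
  rwa [hsum] at this

/-- scaling a component -/
def Scal (hF : Fintype.card F = q ^ 2) (blk : Fin n → Fin t) (M : Subgroup (GL (Fin n) F)) (l : Fin t)
    (d : Fin n → F) : Prop :=
  ∀ b ∈ blockSub blk l, Cfsg.hermForm n F q b b = 0 → UFull (qConj hF) (Cfsg.hermForm n F q) M (d + b) →
    ∀ m : F, m ≠ 0 → UFull (qConj hF) (Cfsg.hermForm n F q) M (m • d + b)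

include hF in
theorem scal_transfer (st : Setting blk k q M) {j l : Fin t} (hjl : j ≠ l) {d d₀ : Fin n → F}
    (hd : d ∈ blockSub blk j) (hd₀ : d₀ ∈ blockSub blk j) (hdd : Cfsg.hermForm n F q d d = 0)
    (hdd₀ : Cfsg.hermForm n F q d₀ d₀ = 0) (hne : Cfsg.hermForm n F q d d₀ ≠ 0) (hS : Scal hF blk M l d₀) :
    Scal hF blk M l d ∧ ∀ b ∈ blockSub blk l, Cfsg.hermForm n F q b b = 0 →
      UFull (qConj hF) (Cfsg.hermForm n F q) M (d₀ + b) → UFull (qConj hF) (Cfsg.hermForm n F q) M (d + b) := by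
  have hf := isUnitaryForm_hermForm hF n
  obtain ⟨c, hc0, hc⟩ := exists_trace_zero hf
  obtain ⟨ν, hν⟩ : ∃ ν, ν = qConj hF (c / Cfsg.hermForm n F q d d₀) := ⟨_, rfl⟩
  have hν0 : ν ≠ 0 := hν ▸ (map_ne_zero _).2 (div_ne_zero hc0 hne)
  have h0 : Cfsg.hermForm n F q (ν • d₀) (ν • d₀) = 0 := by rw [hf.smul_left, herm_smul_right hf, hdd₀]; ring
  have hdν : Cfsg.hermForm n F q d (ν • d₀) = c := by
    rw [herm_smul_right hf, hν, qConj_qConj, div_mul_cancel₀ _ hne]
  have htr : Cfsg.hermForm n F q (ν • d₀) d = qConj hF c := by rw [hf.herm, hdν]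
  have back : ∀ b ∈ blockSub blk l, Cfsg.hermForm n F q b b = 0 →
      UFull (qConj hF) (Cfsg.hermForm n F q) M (ν • d₀ + b) →
      UFull (qConj hF) (Cfsg.hermForm n F q) M (d + b) := fun b hb hbb h =>
    move_full hF hjl (Submodule.smul_mem _ _ hd₀) hd hb st.mons h0 hdd hbb
      (by rw [htr, qConj_qConj, add_comm, hc]) (by rw [htr]; exact (map_ne_zero _).2 hc0) rfl h
  refine ⟨fun b hb hbb h m hm => ?_, fun b hb hbb h => back b hb hbb (hS b hb hbb h ν hν0)⟩
  have h1 : UFull (qConj hF) (Cfsg.hermForm n F q) M (ν • d₀ + b) :=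
    move_full hF hjl hd (Submodule.smul_mem _ _ hd₀) hb st.mons hdd h0 hbb (by rw [hdν, hc])
      (by rw [hdν]; exact hc0) rfl h
  have h2 : UFull (qConj hF) (Cfsg.hermForm n F q) M (d₀ + ν⁻¹ • b) := by
    have := h1.smul hf ν⁻¹
    rwa [smul_add, smul_smul, inv_mul_cancel₀ hν0, one_smul] at this
  have hb' : ∀ s : F, Cfsg.hermForm n F q (s • b) (s • b) = 0 := fun s => by
    rw [hf.smul_left, herm_smul_right hf, hbb]; ring
  have h3 := ((hS _ (Submodule.smul_mem _ _ hb) (hb' _) h2 m hm).smul hf ν).smul hf m⁻¹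
  rw [show m⁻¹ • ν • (m • d₀ + ν⁻¹ • b) = ν • d₀ + m⁻¹ • b by
    simp only [smul_add, smul_smul]
    congr 2 <;> field_simp] at h3
  have h4 := (back _ (Submodule.smul_mem _ _ hb) (hb' _) h3).smul hf m
  rwa [smul_add, smul_smul, mul_inv_cancel₀ hm, one_smul] at h4

include hF in
theorem scal_base (st : Setting blk k q M) (hk : 2 ≤ k) {j l : Fin t} (hjl : j ≠ l) :
    ∃ d₀ ∈ blockSub blk j, d₀ ≠ 0 ∧ Cfsg.hermForm n F q d₀ d₀ = 0 ∧ Scal hF blk M l d₀ := by
  classical
  have hf := isUnitaryForm_hermForm hF n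
  obtain ⟨i, i', hi, hi', h⟩ := exists_std hF st hk j
  obtain ⟨c, hc0, hc⟩ := exists_iso_two hF h (n := n)
  obtain ⟨p, -, hp⟩ := Finset.exists_mem_notMem_of_card_lt_card
    (s := (Finset.univ.filter fun m => blk m = l) ∪ {i, i'}) (t := Finset.univ) (by
      refine (Finset.card_union_le _ _).trans_lt ?_
      rw [st.card_block l, Finset.card_univ, Fintype.card_fin, Finset.card_pair h]
      have h1 := st.card_eq; have h2 := st.ht; have h3 := st.hn
      nlinarith)
  simp only [Finset.mem_union, Finset.mem_filter, Finset.mem_univ, true_and, Finset.mem_insert,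
    Finset.mem_singleton, not_or] at hp
  obtain ⟨d₀, hd₀e⟩ : ∃ d₀ : Fin n → F, d₀ = Pi.single i 1 + Pi.single i' c := ⟨_, rfl⟩
  rw [← hd₀e] at hc
  have hd₀ : d₀ ∈ blockSub blk j := hd₀e ▸ add_mem (hi ▸ single_mem_blockSub i 1) (hi' ▸ single_mem_blockSub i' c)
  have hd0i : d₀ i = 1 := by simp [hd₀e, h]
  refine ⟨d₀, hd₀, fun e => by simp [e] at hd0i, hc, fun b hb hbb hfull => ?_⟩
  -- non-fixed scalars first
  have key : ∀ (b : Fin n → F), b ∈ blockSub blk l → Cfsg.hermForm n F q b b = 0 →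
      UFull (qConj hF) (Cfsg.hermForm n F q) M (d₀ + b) → ∀ m : F, qConj hF m ≠ m →
      UFull (qConj hF) (Cfsg.hermForm n F q) M (m • d₀ + b) := by
    intro b hb hbb hfull m hm
    have hm0 : m ≠ 0 := by rintro rfl; simp at hm
    have hσm : qConj hF m ≠ 0 := (map_ne_zero _).2 hm0
    obtain ⟨μ, hμe⟩ : ∃ μ, μ = m / qConj hF m := ⟨_, rfl⟩
    have hμ : μ * qConj hF μ = 1 := by rw [hμe, map_div₀, qConj_qConj]; field_simp
    obtain ⟨d, hde⟩ : ∃ d : Fin n → F, d = fun l => if l = i then μ else if l = p then μ⁻¹ else 1 := ⟨_, rfl⟩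
    have hμ0 : μ ≠ 0 := left_ne_zero_of_mul_eq_one hμ
    have hd : ∀ l, d l * qConj hF (d l) = 1 := fun l => by
      rw [hde]; simp only
      split_ifs
      · exact hμ
      · rw [map_inv₀, ← mul_inv, hμ, inv_one]
      · simp
    have hprod : ∏ l, d l = 1 := by
      rw [hde]; exact prod_twoDiag (Ne.symm hp.2.1) hμ0
    obtain ⟨g, hg, hge, hgi⟩ := mon_mem hF st.mons 1 id (fun _ => rfl) d hd (by simp [hprod])
    have h1 := hfull.conj hf hg hgi
    rw [hge, diag_mulVec] at h1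
    obtain ⟨d', hd'e⟩ : ∃ d' : Fin n → F, d' = d₀ + Pi.single i (μ - 1) := ⟨_, rfl⟩
    have himg : (fun l => d l * (d₀ + b) l) = d' + b := funext fun s => by
      rw [hde, hd'e]
      by_cases hs : s = i
      · subst hs
        have : b s = 0 := hb s (by rw [hi]; exact hjl)
        simp [hd0i, this]
      by_cases hsp : s = p
      · subst hsp
        have h0 : d₀ s = 0 := by simp [hd₀e, hp.2.1, hp.2.2]
        simp [hs, h0, hb s hp.1]
      · simp [hs, hsp]
    rw [himg] at h1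
    have hd' : d' ∈ blockSub blk j := hd'e ▸ add_mem hd₀ (hi ▸ single_mem_blockSub i _)
    have hs1 : Cfsg.hermForm n F q d₀ (Pi.single i (μ - 1)) = qConj hF (μ - 1) := by
      rw [f_single_right hF, hd0i, one_mul]
    have hd'd' : Cfsg.hermForm n F q d' d' = 0 := by
      have e := h1.1
      rwa [hf.add_left, herm_add_right hf, herm_add_right hf, hbb, f_cross hF hjl hd' hb,
        f_cross hF hjl.symm hb hd', add_zero, zero_add, add_zero] at e
    have hv : Cfsg.hermForm n F q d' (m • d₀) = qConj hF m * (μ - 1) := by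
      rw [herm_smul_right hf, hd'e, hf.add_left, hc, f_single_left hF, hd0i]; simp
    refine move_full hF hjl hd' (Submodule.smul_mem _ _ hd₀) hb st.mons hd'd'
      (by rw [hf.smul_left, herm_smul_right hf, hc]; ring) hbb ?_ ?_ rfl h1
    · rw [hv, map_mul, qConj_qConj, map_sub, map_one, hμe, map_div₀, qConj_qConj]
      field_simp
      ring
    · rw [hv]
      refine mul_ne_zero hσm (sub_ne_zero.2 fun e => hm ?_)
      rw [hμe, div_eq_one_iff_eq hσm] at e
      exact e.symm
  intro m hm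
  by_cases hm' : qConj hF m = m
  · obtain ⟨τ, hτ⟩ := exists_nonreal hF
    have hτ0 : τ ≠ 0 := by rintro rfl; simp at hτ
    have h1 := key b hb hbb hfull τ hτ
    have h2 : UFull (qConj hF) (Cfsg.hermForm n F q) M (d₀ + τ⁻¹ • b) := by
      have := h1.smul hf τ⁻¹
      rwa [smul_add, smul_smul, inv_mul_cancel₀ hτ0, one_smul] at this
    have hn' : qConj hF (m / τ) ≠ m / τ := fun e => hτ (by
      rw [map_div₀, hm'] at e
      field_simp at e
      exact ((div_eq_one_iff_eq ((map_ne_zero (qConj hF)).2 hτ0)).1 e).symm)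
    have h3 := (key _ (Submodule.smul_mem _ _ hb)
      (by rw [hf.smul_left, herm_smul_right hf, hbb]; ring) h2 _ hn').smul hf τ
    rwa [smul_add, smul_smul, smul_smul, mul_div_cancel₀ _ hτ0, mul_inv_cancel₀ hτ0, one_smul] at h3
  · exact key b hb hbb hfull m hm'

include hF in
theorem comp_move (st : Setting blk k q M) (hk : 2 ≤ k) {j l : Fin t} (hjl : j ≠ l) {a d b : Fin n → F}
    (ha : a ∈ blockSub blk j) (hd : d ∈ blockSub blk j) (hb : b ∈ blockSub blk l) (ha0 : a ≠ 0) (hd0 : d ≠ 0)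
    (haa : Cfsg.hermForm n F q a a = 0) (hdd : Cfsg.hermForm n F q d d = 0) (hbb : Cfsg.hermForm n F q b b = 0)
    (h : UFull (qConj hF) (Cfsg.hermForm n F q) M (a + b)) :
    UFull (qConj hF) (Cfsg.hermForm n F q) M (d + b) := by
  have hf := isUnitaryForm_hermForm hF n
  obtain ⟨d₀, hd₀, hd₀0, hd₀d, hS₀⟩ := scal_base hF st hk hjl
  have hall : ∀ x ∈ blockSub blk j, x ≠ 0 → Cfsg.hermForm n F q x x = 0 → Scal hF blk M l x := by
    intro x hx hx0 hxx
    obtain ⟨z, hz, hzz, hzd, hzx⟩ := exists_iso_both hF st hk hd₀ hx hd₀0 hx0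
    have hSz := (scal_transfer hF st hjl hz hd₀ hzz hd₀d hzd hS₀).1
    exact (scal_transfer hF st hjl hx hz hxx hzz (fun e => hzx (herm_eq_zero_comm hf e)) hSz).1
  obtain ⟨z, hz, hzz, hza, hzd⟩ := exists_iso_both hF st hk ha hd ha0 hd0
  have hz0 : z ≠ 0 := fun e => hza (by rw [e]; exact herm_zero_left hf a)
  exact (scal_transfer hF st hjl hd hz hdd hzz (fun e => hzd (herm_eq_zero_comm hf e)) (hall z hz hz0 hzz)).2 b hb hbb
    ((scal_transfer hF st hjl hz ha hzz haa hza (hall a ha ha0 haa)).2 b hb hbb h)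

include hF in
theorem iso_pair (st : Setting blk k q M) (hk : 2 ≤ k) (hs : HasSeed hF blk M) {j' l' : Fin t} (hne : j' ≠ l')
    {d e : Fin n → F} (hd : d ∈ blockSub blk j') (he : e ∈ blockSub blk l')
    (hdd : Cfsg.hermForm n F q d d = 0) (hee : Cfsg.hermForm n F q e e = 0) :
    UFull (qConj hF) (Cfsg.hermForm n F q) M (d + e) := by
  classical
  rcases eq_or_ne d 0 with rfl | hd0
  · rw [zero_add]; exact uFull_block hF st.mons he hee
  rcases eq_or_ne e 0 with rfl | he0
  · rw [add_zero]; exact uFull_block hF st.mons hd hdd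
  have hf := isUnitaryForm_hermForm hF n
  obtain ⟨j, l, hjl, a, ha, b, hb, ha0, hb0, haa, hbb, hab⟩ := hs
  obtain ⟨π, hπj, hπl⟩ : ∃ π : Equiv.Perm (Fin t), π j = j' ∧ π l = l' := by
    have h1 : Equiv.swap j j' l ≠ j' := fun h =>
      hjl ((Equiv.swap j j').injective (by rw [h, Equiv.swap_apply_left])).symm
    refine ⟨Equiv.swap (Equiv.swap j j' l) l' * Equiv.swap j j', ?_, ?_⟩
    · rw [Equiv.Perm.mul_apply, Equiv.swap_apply_left, Equiv.swap_apply_of_ne_of_ne (Ne.symm h1) hne]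
    · rw [Equiv.Perm.mul_apply, Equiv.swap_apply_left]
  obtain ⟨ε, hε⟩ := st.e
  let σ : Equiv.Perm (Fin n) := (ε.trans (Equiv.prodCongr π (Equiv.refl _))).trans ε.symm
  have hσ : ∀ i, blk (σ i) = π (blk i) := fun i => by simp [σ, hε]
  obtain ⟨w, hw, -, hdet⟩ := exists_sign_diag hF σ (ε.symm (j, (ε (σ.symm (σ (ε.symm (j,
    ⟨0, by omega⟩))))).2))
  obtain ⟨g, hg, hge, hgi⟩ := mon_mem hF st.mons σ π hσ w hw hdet
  have hmap : ∀ (c : Fin t) (x : Fin n → F), x ∈ blockSub blk c →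
      (g : Matrix (Fin n) (Fin n) F) *ᵥ x ∈ blockSub blk (π c) := by
    intro c x hx i hi
    obtain ⟨i, rfl⟩ := σ.surjective i
    rw [hge, monMat_mulVec]
    rw [hx i (fun h => hi (by rw [hσ, h])), mul_zero]
  have hne0 : ∀ x : Fin n → F, x ≠ 0 → (g : Matrix (Fin n) (Fin n) F) *ᵥ x ≠ 0 := by
    intro x hx h
    have := congrArg (((g⁻¹ : GL (Fin n) F) : Matrix (Fin n) (Fin n) F) *ᵥ ·) h
    exact hx (by simpa [mulVec_mulVec, ← Units.val_mul] using this)
  have h0 := hab.conj hf hg hgi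
  rw [mulVec_add] at h0
  have hA := hπj ▸ hmap j a ha
  have hB := hπl ▸ hmap l b hb
  have hAA : Cfsg.hermForm n F q ((g : Matrix (Fin n) (Fin n) F) *ᵥ a) ((g : Matrix (Fin n) (Fin n) F) *ᵥ a) = 0 := by
    rw [hgi, haa]
  have hBB : Cfsg.hermForm n F q ((g : Matrix (Fin n) (Fin n) F) *ᵥ b) ((g : Matrix (Fin n) (Fin n) F) *ᵥ b) = 0 := by
    rw [hgi, hbb]
  have h1 := comp_move hF st hk hne hA hd hB (hne0 a ha0) hd0 hAA hdd hBB h0
  rw [add_comm] at h1 ⊢
  exact comp_move hF st hk hne.symm hB he hd (hne0 b hb0) he0 hBB hee hdd h1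

include hF in
theorem exists_iso_value (st : Setting blk k q M) (hk : 2 ≤ k) {a : Fin t} {x : Fin n → F}
    (hx : x ∈ blockSub blk a) (h0 : x ≠ 0) {δ : F} (hδ : δ ≠ 0) :
    ∃ d ∈ blockSub blk a, Cfsg.hermForm n F q d d = 0 ∧ Cfsg.hermForm n F q d x = δ := by
  have hf := isUnitaryForm_hermForm hF n
  obtain ⟨d, hd, hdd, hdx⟩ := exists_iso_nonorth hF st hk hx h0
  refine ⟨(δ / Cfsg.hermForm n F q d x) • d, Submodule.smul_mem _ _ hd, ?_, ?_⟩
  · rw [hf.smul_left, herm_smul_right hf, hdd]; ring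
  · rw [hf.smul_left, div_mul_cancel₀ _ hdx]

include hF in
theorem pair_all (st : Setting blk k q M) (hk : 2 ≤ k) (hs : HasSeed hF blk M) {j l : Fin t} (hne : j ≠ l)
    {a b : Fin n → F} (ha : a ∈ blockSub blk j) (hb : b ∈ blockSub blk l)
    (h : Cfsg.hermForm n F q (a + b) (a + b) = 0) : UFull (qConj hF) (Cfsg.hermForm n F q) M (a + b) := by
  have hf := isUnitaryForm_hermForm hF n
  have hab : Cfsg.hermForm n F q a b = 0 := f_cross hF hne ha hb
  have hsum : Cfsg.hermForm n F q a a + Cfsg.hermForm n F q b b = 0 := by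
    simpa [hf.add_left, herm_add_right hf, hab, herm_eq_zero_comm hf hab] using h
  by_cases hν : Cfsg.hermForm n F q a a = 0
  · exact iso_pair hF st hk hs hne ha hb hν (by rw [hν, zero_add] at hsum; exact hsum)
  obtain ⟨δ, hδ, hδ'⟩ := exists_trace_nonfixed hF (herm_self_fixed hf a) hν
  have hδ0 : δ ≠ 0 := fun e => hδ' (by simp [e])
  have ha0 : a ≠ 0 := fun e => hν (by rw [e]; exact herm_zero_left hf _)
  have hb0 : b ≠ 0 := fun e => hν (by rw [e, herm_zero_left hf, add_zero] at hsum; exact hsum)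
  obtain ⟨d, hd, hdd, hdx⟩ := exists_iso_value hF st hk ha ha0 hδ0
  obtain ⟨e, he, hee, hex⟩ := exists_iso_value hF st hk hb hb0 (neg_ne_zero.2 ((map_ne_zero (qConj hF)).2 hδ0))
  have had : Cfsg.hermForm n F q a d = qConj hF δ := by rw [hf.herm, hdx]
  have hbe : Cfsg.hermForm n F q b e = -δ := by rw [hf.herm, hex, map_neg, qConj_qConj]
  have hv1 : Cfsg.hermForm n F q (a + (-1 : F) • d) (a + (-1 : F) • d) = 0 := by
    simp only [hf.add_left, herm_add_right hf, hf.smul_left, herm_smul_right hf, hdd, hdx, had, map_neg, map_one]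
    linear_combination -hδ
  have hv2 : Cfsg.hermForm n F q (b + (-1 : F) • e) (b + (-1 : F) • e) = 0 := by
    simp only [hf.add_left, herm_add_right hf, hf.smul_left, herm_smul_right hf, hee, hex, hbe, map_neg, map_one]
    linear_combination hsum + hδ
  have hu := iso_pair hF st hk hs hne hd he hdd hee
  have hv := iso_pair hF st hk hs hne (add_mem ha (Submodule.smul_mem _ (-1 : F) hd))
    (add_mem hb (Submodule.smul_mem _ (-1 : F) he)) hv1 hv2
  have hc : d + e + (a + (-1 : F) • d + (b + (-1 : F) • e)) = a + b := by module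
  have := hu.add hf hv ?_ (by rw [hc]; exact h)
  · rwa [hc] at this
  · simp only [hf.add_left, herm_add_right hf, herm_smul_right hf, hdd, hee, hdx, hex, f_cross hF hne hd hb,
      f_cross hF hne hd he, f_cross hF hne.symm he hd, f_cross hF hne.symm he ha, mul_zero, add_zero, zero_add]
    exact fun e' => hδ' (by linear_combination -e')

/-- the blocks met by a vector -/
noncomputable def bsupp (blk : Fin n → Fin t) (y : Fin n → F) : Finset (Fin t) :=
  Finset.univ.filter fun a => comp blk a y ≠ 0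

include hF in
theorem f_sum_norm (y : Fin n → F) : Cfsg.hermForm n F q y y =
    ∑ a, Cfsg.hermForm n F q (comp blk a y) (comp blk a y) := by
  simp only [f_apply hF]
  rw [Finset.sum_comm]
  refine Finset.sum_congr rfl fun i _ => ?_
  rw [Finset.sum_eq_single (blk i) (fun a _ ha => by simp [comp, Ne.symm ha]) (by simp)]
  simp [comp]

include hF in
theorem all_full (st : Setting blk k q M) (hk : 2 ≤ k) (hs : HasSeed hF blk M) (y : Fin n → F)
    (hy : Cfsg.hermForm n F q y y = 0) : UFull (qConj hF) (Cfsg.hermForm n F q) M y := by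
  classical
  have hf := isUnitaryForm_hermForm hF n
  induction hm : (bsupp blk y).card using Nat.strong_induction_on generalizing y with
  | _ m ih =>
    have hzero : ∀ a, a ∉ bsupp blk y → comp blk a y = 0 := fun a ha => by simpa [bsupp] using ha
    rcases Nat.lt_or_ge m 3 with hlt | h3
    · obtain ⟨j, l, hjl, hsub⟩ : ∃ j l : Fin t, j ≠ l ∧ ∀ a, a ≠ j → a ≠ l → comp blk a y = 0 := by
        have ht := st.ht
        obtain ⟨T, hT, -, hTc⟩ := Finset.exists_subsuperset_card_eq (Finset.subset_univ (bsupp blk y))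
          (n := 2) (by omega) (by simpa using ht)

        obtain ⟨j, l, hjl, rfl⟩ := Finset.card_eq_two.1 hTc
        exact ⟨j, l, hjl, fun a h1 h2 => hzero a fun h => by
          have := hT h; simp [h1, h2] at this⟩
      have e : y = comp blk j y + comp blk l y := by
        conv_lhs => rw [← sum_comp (blk := blk) y]
        rw [← Finset.sum_pair (f := fun a => comp blk a y) hjl]
        refine (Finset.sum_subset (Finset.subset_univ _) fun a _ ha => ?_).symm
        simp only [Finset.mem_insert, Finset.mem_singleton, not_or] at ha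
        exact hsub a ha.1 ha.2
      rw [e]
      exact pair_all hF st hk hs hjl (comp_mem j y) (comp_mem l y) (by rw [← e]; exact hy)
    have hmem : ∀ a, a ∈ bsupp blk y ↔ comp blk a y ≠ 0 := fun a => by simp [bsupp]
    -- choose the block to remove, the block to adjust and the two-block vector
    obtain ⟨a, l, z, b₁, hal, ha, hl, hb₁, hz, hz0, hu0, huy⟩ :
        ∃ (a l : Fin t) (z : F) (b₁ : Fin n → F), a ≠ l ∧ a ∈ bsupp blk y ∧ l ∈ bsupp blk y ∧
          b₁ ∈ blockSub blk l ∧ z + qConj hF z = 0 ∧ z ≠ 0 ∧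
          Cfsg.hermForm n F q (comp blk a y + b₁) (comp blk a y + b₁) = 0 ∧
          Cfsg.hermForm n F q (comp blk a y + b₁) y = z := by
      obtain ⟨a, ha⟩ := Finset.card_pos.1 (show 0 < (bsupp blk y).card by omega)
      by_cases hA : Cfsg.hermForm n F q (comp blk a y) (comp blk a y) = 0
      · obtain ⟨l, hl, hla⟩ := Finset.exists_mem_ne (show 1 < (bsupp blk y).card by omega) a
        obtain ⟨z, hz0, hz⟩ := exists_trace_zero hf
        obtain ⟨d, hd, hdd, hdy⟩ := exists_iso_value hF st hk (comp_mem l y) ((hmem l).1 hl) hz0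
        refine ⟨a, l, z, d, Ne.symm hla, ha, hl, hd, hz, hz0, ?_, ?_⟩
        · simp [hf.add_left, herm_add_right hf, hA, hdd, f_cross hF (Ne.symm hla) (comp_mem a y) hd,
            f_cross hF hla hd (comp_mem a y)]
        · rw [hf.add_left, f_blocks hF (comp_mem a y), f_blocks hF hd, hA, hdy, zero_add]
      · obtain ⟨l, hla, hB⟩ : ∃ l, l ≠ a ∧ Cfsg.hermForm n F q (comp blk l y) (comp blk l y) ≠ 0 := by
          by_contra hcon
          simp only [not_exists, not_and, not_not] at hcon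
          rw [f_sum_norm hF (blk := blk), Finset.sum_eq_single a (fun b _ hb => hcon b hb) (by simp)] at hy
          exact hA hy
        have hl : l ∈ bsupp blk y := (hmem l).2 fun e => hB (by rw [e]; exact herm_zero_left hf _)
        obtain ⟨β, hβ, hβ'⟩ := exists_trace_nonfixed hF (a := (1 : F)) (map_one _) one_ne_zero
        obtain ⟨A, hA'⟩ : ∃ A, A = Cfsg.hermForm n F q (comp blk a y) (comp blk a y) := ⟨_, rfl⟩
        obtain ⟨B, hB'⟩ : ∃ B, B = Cfsg.hermForm n F q (comp blk l y) (comp blk l y) := ⟨_, rfl⟩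
        have hσA : qConj hF A = A := by rw [hA']; exact herm_self_fixed hf _
        have hσB : qConj hF B = B := by rw [hB']; exact herm_self_fixed hf _
        obtain ⟨z, hze⟩ : ∃ z, z = B * (β * qConj hF β) / (qConj hF β - β) := ⟨_, rfl⟩
        have hβ0 : β ≠ 0 := fun e => hβ' (by simp [e])
        have hz : z + qConj hF z = 0 := by
          rw [hze, map_div₀, map_mul, map_mul, map_sub, hσB, qConj_qConj, ← neg_sub (qConj hF β) β, div_neg]
          ring
        have hz0 : z ≠ 0 := by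
          rw [hze, hB']
          exact div_ne_zero (mul_ne_zero hB (mul_ne_zero hβ0 ((map_ne_zero _).2 hβ0))) (sub_ne_zero.2 hβ')
        obtain ⟨d, hd, hdd, hdy⟩ := exists_iso_value hF st hk (comp_mem l y) ((hmem l).1 hl)
          (δ := (1 : F)) one_ne_zero
        have hyd : Cfsg.hermForm n F q (comp blk l y) d = 1 := by rw [hf.herm, hdy, map_one]
        refine ⟨a, l, z, (z - A - β * B) • d + β • comp blk l y, Ne.symm hla, ha, hl,
          add_mem (Submodule.smul_mem _ _ hd) (Submodule.smul_mem _ _ (comp_mem l y)), hz, hz0, ?_, ?_⟩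
        · have e1 : ∀ x ∈ blockSub blk l, Cfsg.hermForm n F q (comp blk a y) x = 0 ∧
              Cfsg.hermForm n F q x (comp blk a y) = 0 := fun x hx =>
            ⟨f_cross hF (Ne.symm hla) (comp_mem a y) hx, f_cross hF hla hx (comp_mem a y)⟩
          simp only [hf.add_left, herm_add_right hf, hf.smul_left, herm_smul_right hf, hdd, hdy, hyd, ← hA', ← hB',
            (e1 d hd).1, (e1 d hd).2, (e1 _ (comp_mem l y)).1, (e1 _ (comp_mem l y)).2, map_sub, map_mul, hσA, hσB]
          have hσz : qConj hF z = -z := by linear_combination hz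
          have hze' : z * (qConj hF β - β) = B * (β * qConj hF β) := by
            rw [hze, div_mul_cancel₀ _ (sub_ne_zero.2 hβ')]
          rw [hσz]
          linear_combination hze' + (-A) * hβ
        · rw [hf.add_left, f_blocks hF (comp_mem a y), hf.add_left, hf.smul_left, hf.smul_left, f_blocks hF hd,
            f_blocks hF (comp_mem l y), hdy, ← hA', ← hB']
          ring
    obtain ⟨u, hue⟩ : ∃ u, u = comp blk a y + b₁ := ⟨_, rfl⟩
    rw [← hue] at hu0 huy
    have hu : UFull (qConj hF) (Cfsg.hermForm n F q) M u := by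
      rw [hue]; exact pair_all hF st hk hs hal (comp_mem a y) hb₁ (by rw [← hue]; exact hu0)
    obtain ⟨v, hve⟩ : ∃ v, v = y + (-1 : F) • u := ⟨_, rfl⟩
    have hv0 : Cfsg.hermForm n F q v v = 0 := by
      rw [hve]
      simp only [hf.add_left, herm_add_right hf, hf.smul_left, herm_smul_right hf, hy, hu0, huy, hf.herm y u,
        map_neg, map_one]
      linear_combination -hz
    have hsub : bsupp blk v ⊆ (bsupp blk y).erase a := by
      intro b hb
      have hbv : comp blk b v ≠ 0 := by simpa [bsupp] using hb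
      rw [hve, hue, comp_add, comp_smul, comp_add] at hbv
      rw [Finset.mem_erase, hmem]
      constructor
      · rintro rfl
        apply hbv
        rw [comp_self (comp_mem b y), comp_other hb₁ hal]; module
      · intro hby
        apply hbv
        by_cases hba : b = a
        · exact absurd (hba ▸ hby) ((hmem a).1 ha)
        · by_cases hbl : b = l
          · exact absurd (hbl ▸ hby) ((hmem l).1 hl)
          · rw [hby, comp_other (comp_mem a y) hba, comp_other hb₁ hbl]; simp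
    have hlt : (bsupp blk v).card < m := by
      have := Finset.card_le_card hsub
      rw [Finset.card_erase_of_mem ha, hm] at this
      omega
    have hc : u + v = y := by rw [hve]; module
    have := hu.add hf (ih _ hlt v hv0 rfl) (by
      rw [hve, herm_add_right hf, herm_smul_right hf, hu0, huy, mul_zero, add_zero]
      exact hz0) (by rw [hc]; exact hy)
    rwa [hc] at this

end CfsgLib.MaxSub.UFrame
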