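import Cfsg.Agent.Lib.MaxSub.Transvection
import Mathlib.LinearAlgebra.Matrix.Permutation

/-!
Block-monomial matrices and tools to pass from one root transvection to all of `SL`.
-/

set_option autoImplicit false
set_option linter.unusedSectionVars false

namespace CfsgLib.MaxSub.DecompMax

open Matrix CfsgLib.MaxSub
open scoped MatrixGroups

variable {ι : Type} [Fintype ι] [DecidableEq ι] {F : Type*} [Field F]

/-- The monomial matrix `e_i ↦ d_i e_{σ i}`. -/
def monMat (σ : Equiv.Perm ι) (d : ι → F) : Matrix ι ι F :=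
  fun j i => if j = σ i then d i else 0

theorem monMat_mulVec (σ : Equiv.Perm ι) (d v : ι → F) (i : ι) :
    (monMat σ d *ᵥ v) (σ i) = d i * v i := by
  rw [mulVec, dotProduct, Finset.sum_eq_single i]
  · simp [monMat]
  · intro k _ hk
    simp [monMat, hk.symm]
  · simp

theorem vecMul_monMat (σ : Equiv.Perm ι) (d v : ι → F) (i : ι) :
    (v ᵥ* monMat σ d) i = v (σ i) * d i := by
  rw [vecMul, dotProduct, Finset.sum_eq_single (σ i)]
  · simp [monMat]
  · intro k _ hk
    simp [monMat, hk]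
  · simp

theorem monMat_mul (σ τ : Equiv.Perm ι) (d e : ι → F) :
    monMat σ d * monMat τ e = monMat (σ * τ) (fun i => d (τ i) * e i) := by
  ext j i
  rw [Matrix.mul_apply, Finset.sum_eq_single (τ i)]
  · by_cases h : j = σ (τ i) <;> simp [monMat, h]
  · intro k _ hk
    simp [monMat, hk]
  · simp

theorem monMat_one : monMat (1 : Equiv.Perm ι) (fun _ => (1 : F)) = 1 := by
  ext j i
  rw [Matrix.one_apply]
  by_cases h : j = i <;> simp [monMat, h]

theorem det_monMat (σ : Equiv.Perm ι) (d : ι → F) :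
    (monMat σ d).det = ((Equiv.Perm.sign σ : ℤ) : F) * ∏ i, d i := by
  have h : monMat σ d = (σ.permMatrix F)ᵀ * Matrix.diagonal d := by
    ext j i
    rw [Matrix.mul_diagonal]
    by_cases hj : j = σ i
    · simp [monMat, hj, Matrix.transpose_apply, PEquiv.toMatrix_apply, Equiv.toPEquiv_apply]
    · simp [monMat, hj, Matrix.transpose_apply, PEquiv.toMatrix_apply, Equiv.toPEquiv_apply, Ne.symm hj]
  rw [h, det_mul, det_transpose, det_permutation, det_diagonal]

/-- The monomial matrix as an element of `GL`. -/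
noncomputable def monGL (σ : Equiv.Perm ι) (d : ι → F) (hd : ∀ i, d i ≠ 0) : GL ι F where
  val := monMat σ d
  inv := monMat σ⁻¹ (fun i => (d (σ⁻¹ i))⁻¹)
  val_inv := by
    rw [monMat_mul, mul_inv_cancel]
    simp [hd, monMat_one]
  inv_val := by
    rw [monMat_mul, inv_mul_cancel]
    simp [hd, monMat_one]

@[simp] theorem coe_monGL (σ : Equiv.Perm ι) (d : ι → F) (hd : ∀ i, d i ≠ 0) :
    (monGL σ d hd : Matrix ι ι F) = monMat σ d := rfl

theorem mem_sl_iff (g : GL ι F) :
    g ∈ Cfsg.Geo.specialLinear ι F ↔ (g : Matrix ι ι F).det = 1 := by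
  show Matrix.GeneralLinearGroup.det g = 1 ↔ _
  rw [Units.ext_iff]
  rfl

/-- `g` maps every block of `π` into one block. -/
def IsBlockMono {κ : Type} (π : ι → κ) (g : Matrix ι ι F) : Prop :=
  ∀ a : κ, ∃ b : κ, ∀ i j, π i = a → π j ≠ b → g j i = 0

theorem isBlockMono_monMat {κ : Type} (π : ι → κ) (σ : Equiv.Perm ι) (ρ : κ → κ)
    (h : ∀ i, π (σ i) = ρ (π i)) (d : ι → F) : IsBlockMono π (monMat σ d) := by
  refine fun a => ⟨ρ a, fun i j hi hj => if_neg ?_⟩
  rintro rfl
  exact hj (by rw [h, hi])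

/-- Every monomial matrix of determinant one lies in `M`. -/
def HasMonomials (M : Subgroup (GL ι F)) : Prop :=
  ∀ g ∈ Cfsg.Geo.specialLinear ι F, IsBlockMono id (g : Matrix ι ι F) → g ∈ M

theorem HasMonomials.mem {M : Subgroup (GL ι F)} (hM : HasMonomials M) (σ : Equiv.Perm ι)
    (d : ι → F) (hd : ∀ i, d i ≠ 0) (hdet : ((Equiv.Perm.sign σ : ℤ) : F) * ∏ i, d i = 1) :
    monGL σ d hd ∈ M :=
  hM _ ((mem_sl_iff _).2 (by rw [coe_monGL, det_monMat, hdet]))
    (isBlockMono_monMat id σ σ (fun _ => rfl) d)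

theorem prod_update_one (l : ι) (c : F) : ∏ i, Function.update (fun _ => (1 : F)) l c i = c := by
  rw [Finset.prod_update_of_mem (Finset.mem_univ l)]
  simp

/-- `diag` with `c` at `a` and `c⁻¹` at `b`. -/
def twoDiag (a b : ι) (c : F) : ι → F := fun i => if i = a then c else if i = b then c⁻¹ else 1

theorem twoDiag_ne {a b : ι} {c : F} (hc : c ≠ 0) (i : ι) : twoDiag a b c i ≠ 0 := by
  simp only [twoDiag]
  split_ifs <;> simp [hc]

theorem prod_twoDiag {a b : ι} (hab : a ≠ b) {c : F} (hc : c ≠ 0) :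
    ∏ i, twoDiag a b c i = 1 := by
  rw [← Finset.prod_subset (Finset.subset_univ {a, b}) (fun i _ hi => by
    simp only [Finset.mem_insert, Finset.mem_singleton, not_or] at hi
    simp [twoDiag, hi.1, hi.2]), Finset.prod_pair hab]
  simp [twoDiag, hab.symm, hc]

theorem HasMonomials.twoDiag_mem {M : Subgroup (GL ι F)} (hM : HasMonomials M) {a b : ι}
    (hab : a ≠ b) {c : F} (hc : c ≠ 0) : monGL 1 (twoDiag a b c) (twoDiag_ne hc) ∈ M :=
  hM.mem 1 _ _ (by simp [prod_twoDiag hab hc])

/-- A transvection conjugated by a monomial matrix. -/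
theorem hasTv_monConj {M : Subgroup (GL ι F)} {a φ : ι → F} (h : HasTv M a φ) {σ : Equiv.Perm ι}
    {d : ι → F} {hd : ∀ i, d i ≠ 0} (hm : monGL σ d hd ∈ M) :
    HasTv M (fun j => d (σ⁻¹ j) * a (σ⁻¹ j)) (fun j => φ (σ⁻¹ j) / d (σ⁻¹ j)) := by
  have h' := h.conj hm
  convert h' using 1
  · funext j
    have := monMat_mulVec σ d a (σ⁻¹ j)
    rw [show σ (σ⁻¹ j) = j from σ.apply_symm_apply j] at this
    rw [coe_monGL, this]
  · funext j
    show φ (σ⁻¹ j) / d (σ⁻¹ j) = (φ ᵥ* monMat σ⁻¹ (fun i => (d (σ⁻¹ i))⁻¹)) j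
    rw [vecMul_monMat, div_eq_mul_inv]

/-- One root transvection gives `SL`. -/
theorem sl_le_of_root {M : Subgroup (GL ι F)} (hM : HasMonomials M) (h3 : 3 ≤ Fintype.card ι)
    {i j : ι} (hij : i ≠ j) {c : F} (hc : c ≠ 0)
    (h : HasTv M (Pi.single i c) (Pi.single j 1)) : Cfsg.Geo.specialLinear ι F ≤ M := by
  classical
  refine specialLinear_le_of_hasTv fun i' j' hij' c' => ?_
  rcases eq_or_ne c' 0 with rfl | hc'
  · rw [Pi.single_zero]; exact hasTv_zero_left _
  obtain ⟨k, -, hk⟩ := Finset.exists_mem_notMem_of_card_lt_card (s := ({i, j} : Finset ι)) (t := Finset.univ)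
    (lt_of_le_of_lt Finset.card_le_two (by rw [Finset.card_univ]; omega))
  simp only [Finset.mem_insert, Finset.mem_singleton, not_or] at hk
  let τ : Equiv.Perm ι := Equiv.swap (Equiv.swap i i' j) j' * Equiv.swap i i'
  have hτi : τ i = i' := by
    show Equiv.swap (Equiv.swap i i' j) j' (Equiv.swap i i' i) = i'
    rw [Equiv.swap_apply_left, Equiv.swap_apply_of_ne_of_ne ?_ hij']
    intro e
    exact hij ((Equiv.swap i i').injective ((Equiv.swap_apply_left i i').trans e))
  have hτj : τ j = j' := Equiv.swap_apply_left _ _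
  let s : F := ((Equiv.Perm.sign τ : ℤ) : F)
  have hs : s * s = 1 := by
    rw [show s * s = (((Equiv.Perm.sign τ * Equiv.Perm.sign τ : ℤˣ) : ℤ) : F) by push_cast; rfl,
      Int.units_mul_self]
    simp
  have hs0 : s ≠ 0 := left_ne_zero_of_mul (hs ▸ one_ne_zero)
  let d : ι → F := fun l => if l = i then c' / c else if l = k then s * (c / c') else 1
  have hd : ∀ l, d l ≠ 0 := fun l => by
    simp only [d]; split_ifs <;> simp [hc, hc', hs0]
  have hprod : s * ∏ l, d l = 1 := by
    rw [← Finset.prod_subset (Finset.subset_univ {i, k}) (fun l _ hl => by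
      simp only [Finset.mem_insert, Finset.mem_singleton, not_or] at hl
      simp [d, hl.1, hl.2]), Finset.prod_pair (Ne.symm hk.1)]
    have e1 : d i = c' / c := if_pos rfl
    have e2 : d k = s * (c / c') := by simp [d, hk.1]
    rw [e1, e2]
    field_simp
    linear_combination hs
  have h' := hasTv_monConj h (hM.mem τ d hd hprod)
  have ei : τ⁻¹ i' = i := Equiv.Perm.inv_eq_iff_eq.2 hτi.symm
  have ej : τ⁻¹ j' = j := Equiv.Perm.inv_eq_iff_eq.2 hτj.symm
  convert h' using 1
  · funext l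
    by_cases hl : l = i'
    · subst hl
      rw [ei]
      simp [d, hc]
    · have : τ⁻¹ l ≠ i := fun e => hl (by rw [← hτi, ← e]; exact (τ.apply_symm_apply l).symm)
      simp only [Pi.single_eq_of_ne hl, Pi.single_eq_of_ne this, mul_zero, zero_div]
  · funext l
    by_cases hl : l = j'
    · subst hl
      rw [ej]
      simp [d, hij.symm, Ne.symm hk.2]
    · have : τ⁻¹ l ≠ j := fun e => hl (by rw [← hτj, ← e]; exact (τ.apply_symm_apply l).symm)
      simp only [Pi.single_eq_of_ne hl, Pi.single_eq_of_ne this, mul_zero, zero_div]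

end CfsgLib.MaxSub.DecompMax
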