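import Cfsg.Agent.Lib.MaxSub.IsoPieces

/-!
The arithmetic of invariant totally isotropic subspaces: how large a part lies in `R`, bounds from `E`.
-/

set_option autoImplicit false

namespace CfsgLib.MaxSub.IsoSemi

open Polynomial CfsgLib.Classical

universe u v

variable {F : Type u} [Field F] [Fintype F] {V : Type v} [AddCommGroup V] [Module F V] [FiniteDimensional F V]
  {σ : F →+* F} {B : V →ₛₗ[σ] V →ₗ[F] F} {T : Module.End F V} {r : ℕ} (hC : Ctx B T r)
  {p a : ℕ} [Fact p.Prime] [CharP F p]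
include hC

/-- Eigenvectors for one do not see the moving part. -/
theorem ti_sup_fix {X Z : Submodule F V} (hX : X ≤ LinearMap.range (T - 1)) (hXi : X.map T ≤ X) (hXt : TI B X)
    (hZ : Z ≤ LinearMap.ker (T - 1)) (hZt : TI B Z) :
    TI B (X ⊔ Z) ∧ (X ⊔ Z).map T ≤ X ⊔ Z ∧
      Module.finrank F ↥(X ⊔ Z) = Module.finrank F X + Module.finrank F Z := by
  have hperp : Z ≤ perp B X := le_perp_comm hC.toGeom ((hX.trans (fix_le_perp hC)).trans (perp_antitone hZ))
  refine ⟨ti_sup hC.toGeom hXt hZt hperp, inv_sup hXi ?_, ?_⟩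
  · rintro _ ⟨z, hz, rfl⟩
    rwa [show T z = z from sub_eq_zero.1 (show (T - 1) z = 0 from hZ hz)]
  · have h := Submodule.finrank_sup_add_finrank_inf_eq X Z
    have hbot : X ⊓ Z = ⊥ := le_bot_iff.1 ((inf_le_inf hX hZ).trans
      ((inf_comm _ _).trans (disjoint_fix_mov hC)).le)
    rw [hbot, finrank_bot, add_zero] at h
    exact h

/-- An invariant totally isotropic subspace of dimension `m` forces `2 (m % e) ≤ dim E`. -/
theorem fix_bound {W : Submodule F V} (hWi : W.map T ≤ W) (hW : TI B W) {m : ℕ}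
    (hWd : Module.finrank F W = m) :
    2 * (m % orderOf (Fintype.card F : ZMod r)) ≤ Module.finrank F ↥(LinearMap.ker (T - 1)) := by
  have hs := finrank_split hC hWi
  obtain ⟨t, ht⟩ := dvd_finrank hC (inv_inf hWi (inv_mov T)) inf_le_right
  have h1 := two_mul_ti_le hC.toGeom (nd_fix hC) inf_le_right (ti_mono inf_le_left hW)
  rw [ht, hWd] at hs
  have h4 := Nat.mod_le (Module.finrank F ↥(W ⊓ LinearMap.ker (T - 1))) (orderOf (Fintype.card F : ZMod r))
  rw [← hs, Nat.add_mul_mod_self_left]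
  omega

/-- With at most one minimal subspace of each kind, invariant totally isotropic subspaces are fixed pointwise. -/
theorem fix_bound_of_simple (hσ : ∀ x, σ x = x ^ p ^ a) (hSD : SelfDual (Fintype.card F) (p ^ a) r)
    (hone : ∀ g ∈ SympOrderR.factors F r,
      Module.finrank F ↥(LinearMap.ker (aeval T g)) ≤ orderOf (Fintype.card F : ZMod r))
    {W : Submodule F V} (hWi : W.map T ≤ W) (hW : TI B W) {m : ℕ} (hWd : Module.finrank F W = m) :
    2 * m ≤ Module.finrank F ↥(LinearMap.ker (T - 1)) := by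
  have hbot := no_ti hC hσ hSD hone (inv_inf hWi (inv_mov T)) inf_le_right (ti_mono inf_le_left hW)
  have hs := finrank_split hC hWi
  rw [hbot, finrank_bot, hWd, add_zero] at hs
  have h1 := two_mul_ti_le hC.toGeom (nd_fix hC) inf_le_right (ti_mono inf_le_left hW)
  omega

omit [Fintype F] [FiniteDimensional F V] in
/-- The kernel of a cyclotomic factor lies in `R`. -/
theorem ker_factor_le (hrp : r ≠ p) {g : F[X]} (hg : g ∈ SympOrderR.factors F r) :
    LinearMap.ker (aeval T g) ≤ LinearMap.range (T - 1) := by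
  intro x hx
  obtain ⟨a, b, hab⟩ := (irreducible_X_sub_C (1 : F)).coprime_iff_not_dvd.2 fun hd1 =>
    (SympOrderR.facts (F := F) hC.prime hrp hg).1 (eq_of_monic_of_associated (SympOrderR.mem_factors.1 hg).1
      (monic_X_sub_C 1)
      ((irreducible_X_sub_C 1).associated_of_dvd (SympOrderR.mem_factors.1 hg).2.1 hd1).symm)
  refine ⟨aeval T a x, ?_⟩
  have h6 := LinearMap.congr_fun (congrArg (aeval T) hab) x
  rw [map_add, map_mul, map_mul, map_one, LinearMap.add_apply, Module.End.mul_apply, Module.End.mul_apply,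
    LinearMap.mem_ker.1 hx, map_zero, add_zero, map_one, Module.End.one_apply] at h6
  refine Eq.trans ?_ h6
  rw [← Module.End.mul_apply, ← Module.End.mul_apply]
  congr 1
  rw [← map_mul, mul_comm a, map_mul, map_sub, aeval_X, map_one]

/-- Multiplicity below two is multiplicity at most one. -/
theorem ker_factor_one (hrp : r ≠ p) {g : F[X]} (hg : g ∈ SympOrderR.factors F r)
    (h : Module.finrank F ↥(LinearMap.ker (aeval T g)) < 2 * orderOf (Fintype.card F : ZMod r)) :
    Module.finrank F ↥(LinearMap.ker (aeval T g)) ≤ orderOf (Fintype.card F : ZMod r) := by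
  obtain ⟨t, ht⟩ := dvd_finrank hC (inv_ker_aeval T g) (ker_factor_le hC hrp hg)
  rw [ht] at h ⊢
  have ht1 : t < 2 := Nat.lt_of_mul_lt_mul_left (by rwa [mul_comm 2] at h)
  calc _ * t ≤ _ * 1 := Nat.mul_le_mul_left _ (by omega)
    _ = _ := mul_one _

/-- The part in `R`: if the numbers allow it, an invariant totally isotropic `X ≤ R` leaves at most
`2 (m - dim X) + δ ≤ dim E`. -/
theorem exists_mov_part (hσ : ∀ x, σ x = x ^ p ^ a) {n c m δ : ℕ} (hn : Module.finrank F V = n)
    (hc : (SelfDual (Fintype.card F) (p ^ a) r → c = orderOf (Fintype.card F : ZMod r)) ∧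
      (¬ SelfDual (Fintype.card F) (p ^ a) r → c = 2 * orderOf (Fintype.card F : ZMod r)))
    (hm : 2 * m + δ ≤ n) (h2 : 2 * (m % orderOf (Fintype.card F : ZMod r)) + δ ≤ n % c)
    (h3 : SelfDual (Fintype.card F) (p ^ a) r →
      (r - 1) / orderOf (Fintype.card F : ZMod r) + 2 * (m / orderOf (Fintype.card F : ZMod r)) ≤
        n / orderOf (Fintype.card F : ZMod r)) :
    ∃ X : Submodule F V, X ≤ LinearMap.range (T - 1) ∧ X.map T ≤ X ∧ TI B X ∧ Module.finrank F X ≤ m ∧
      2 * (m - Module.finrank F X) + δ ≤ Module.finrank F ↥(LinearMap.ker (T - 1)) := by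
  haveI : Fact r.Prime := ⟨hC.prime⟩
  obtain ⟨e, he⟩ : ∃ e, e = orderOf (Fintype.card F : ZMod r) := ⟨_, rfl⟩
  rw [← he] at hc h2 h3
  have hepos : 0 < e := he ▸ ord_pos hC
  have hsum := (T - 1).finrank_range_add_finrank_ker
  rw [hn] at hsum
  obtain ⟨hcdvd, -⟩ := nd_dims hC hσ (d := c) ⟨fun h => by rw [hc.1 h, he], fun h => by rw [hc.2 h, he]⟩
    (nd_mov hC) (inv_mov T) le_rfl
  obtain ⟨W₀, hW₀R, hW₀i, hW₀, hW₀b, hW₀e⟩ := exists_max hC hσ (nd_mov hC) (inv_mov T) le_rfl
  obtain ⟨w, hw⟩ := dvd_finrank hC hW₀i hW₀R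
  rw [← he] at hw
  obtain ⟨k, hk⟩ : ∃ k, k = min w (m / e) := ⟨_, rfl⟩
  have hkw : e * k ≤ e * w := Nat.mul_le_mul_left _ (by omega)
  have hkm : e * k ≤ m := (Nat.mul_le_mul_left e (by omega : k ≤ m / e)).trans (Nat.mul_div_le m e)
  obtain ⟨X, hX, hXi, hXd⟩ := exists_sub hC hW₀i hW₀R k (by rw [hw, ← he]; exact hkw)
  rw [← he] at hXd
  refine ⟨X, hX.trans hW₀R, hXi, ti_mono hX hW₀, hXd ▸ hkm, ?_⟩
  rw [hXd]
  obtain ⟨e0, he0⟩ : ∃ e0, e0 = Module.finrank F ↥(LinearMap.ker (T - 1)) := ⟨_, rfl⟩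
  obtain ⟨R', hR'⟩ := hcdvd
  rw [← he0, hR'] at hsum
  rw [← he0]
  have hmod : n % c = e0 % c := by rw [← hsum, Nat.mul_add_mod]
  have hm' := Nat.div_add_mod m e
  rcases le_total (m / e) w with hle | hle
  · rw [min_eq_right hle] at hk
    subst hk
    have := Nat.mod_le e0 c
    omega
  · rw [min_eq_left hle] at hk
    subst hk
    by_cases hSD : SelfDual (Fintype.card F) (p ^ a) r
    swap
    · have h := hW₀e hSD
      rw [hR', hw] at h
      omega
    specialize h3 hSD
    rw [hc.1 hSD] at h2 hsum hR' hmod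
    obtain ⟨t, ht⟩ : e ∣ r - 1 := he ▸ orderOf_dvd_of_pow_eq_one (ZMod.pow_card_sub_one_eq_one fun h0 => by
      have := ord_pos hC
      rw [h0] at this
      simp at this)
    rw [ht, Nat.mul_div_cancel_left _ hepos, ← hsum, Nat.mul_add_div hepos] at h3
    rw [hR', hw, ht, ← mul_assoc, mul_comm 2, mul_assoc, ← mul_add] at hW₀b
    have hR := Nat.le_of_mul_le_mul_left hW₀b hepos
    have h5 : e * (2 * (m / e)) ≤ e * (2 * k + e0 / e) := Nat.mul_le_mul_left _ (by omega)
    rw [mul_add, mul_left_comm e 2, mul_left_comm e 2] at h5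
    have := Nat.div_add_mod e0 e
    omega

end CfsgLib.MaxSub.IsoSemi
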