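import Cfsg.Agent.Lib.MaxSub.IsoOrth
import Cfsg.Agent.Lib.MaxSub.IsoOdd
import Cfsg.Agent.Lib.MaxSub.OmegaElem
import Cfsg.Agent.Lib.Classical.SLTwoTori

/-!
The type of non-degenerate subspaces of a quadratic space through totally singular halves: sums, the moving and
the fixed part of an isometry of odd prime order.
-/

set_option autoImplicit false

namespace CfsgLib.MaxSub.IsoType

open Polynomial CfsgLib.Classical CfsgLib.MaxSub.IsoSemi CfsgLib.KnownC CfsgLib.KnownC.OrthType CfsgLib.Geom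
open QuadraticMap (polar)

universe u v

variable {F : Type u} [Field F] {V : Type v} [AddCommGroup V] [Module F V]

/-- `U` has a totally singular half. -/
def HasHalf (Q : QuadraticForm F V) (U : Submodule F V) : Prop :=
  ∃ W ≤ U, (∀ w ∈ W, Q w = 0) ∧ 2 * Module.finrank F W = Module.finrank F U

theorem hasHalf_bot (Q : QuadraticForm F V) : HasHalf Q ⊥ :=
  ⟨⊥, le_rfl, fun w hw => by rw [(Submodule.mem_bot F).1 hw, map_zero], by simp⟩

variable [FiniteDimensional F V]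

theorem exists_sub_finrank (W : Submodule F V) {k : ℕ} (hk : k ≤ Module.finrank F W) :
    ∃ U ≤ W, Module.finrank F U = k := by
  let b := Module.finBasis F W
  let f : Fin k → V := fun j => (b (Fin.castLE hk j) : V)
  have hli : LinearIndependent F f :=
    (b.linearIndependent.comp _ (Fin.castLE_injective hk)).map' W.subtype W.ker_subtype
  refine ⟨Submodule.span F (Set.range f), Submodule.span_le.2 ?_, ?_⟩
  · rintro _ ⟨j, rfl⟩; exact (b (Fin.castLE hk j)).2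
  · rw [finrank_span_eq_card hli, Fintype.card_fin]

variable [Fintype F] {Q : QuadraticForm F V} (hQ : ∀ x, (∀ y, polar Q x y = 0) → x = 0)
include hQ

theorem finrank_sum {E R : Submodule F V} (hE : ND Q.polarBilin E) (hperp : R ≤ perp Q.polarBilin E) :
    E ⊓ R = ⊥ ∧ Module.finrank F ↥(E ⊔ R) = Module.finrank F E + Module.finrank F R := by
  have hb : E ⊓ R = ⊥ :=
    le_bot_iff.1 ((inf_le_inf_left E hperp).trans ((nd_iff (IsoOrth.geom hQ)).1 hE).le)
  have h := Submodule.finrank_sup_add_finrank_inf_eq E R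
  rw [hb, finrank_bot, add_zero] at h
  exact ⟨hb, h⟩

theorem hasHalf_sum {E R : Submodule F V} (hE : ND Q.polarBilin E) (hperp : R ≤ perp Q.polarBilin E)
    (h₁ : HasHalf Q E) (h₂ : HasHalf Q R) : HasHalf Q (E ⊔ R) := by
  obtain ⟨W₁, hW₁, hQ₁, hd₁⟩ := h₁
  obtain ⟨W₂, hW₂, hQ₂, hd₂⟩ := h₂
  obtain ⟨hb, hd⟩ := finrank_sum hQ hE hperp
  refine ⟨W₁ ⊔ W₂, sup_le_sup hW₁ hW₂, IsoOrth.ts_sup hQ₁ hQ₂ (hW₂.trans (hperp.trans (perp_antitone hW₁))), ?_⟩
  have h := Submodule.finrank_sup_add_finrank_inf_eq W₁ W₂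
  have hb' : W₁ ⊓ W₂ = ⊥ := le_bot_iff.1 (hb ▸ inf_le_inf hW₁ hW₂)
  rw [hb', finrank_bot] at h
  omega

/-- A half of the sum and a half of one summand give a half of the other. -/
theorem hasHalf_cancel {E R : Submodule F V} (hE : ND Q.polarBilin E) (hR : ND Q.polarBilin R)
    (hperp : R ≤ perp Q.polarBilin E) (hU : HasHalf Q (E ⊔ R)) (hE' : HasHalf Q E) : HasHalf Q R := by
  have hG := IsoOrth.geom hQ
  obtain ⟨L, hL, hLQ, hLd⟩ := hU
  obtain ⟨W, hW, hWQ, hWd⟩ := hE'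
  obtain ⟨-, hsum⟩ := finrank_sum hQ hE hperp
  have hUnd := nd_sup hG hE hR hperp
  have hle : L ⊔ perp Q.polarBilin W ≤ perp Q.polarBilin (L ⊓ W) := sup_le
    ((ti_iff_le_perp.1 (IsoOrth.ti_of_ts hLQ)).trans (perp_antitone inf_le_left)) (perp_antitone inf_le_right)
  have h1 := Submodule.finrank_mono hle
  have h2 := finrank_perp hG (L ⊓ W)
  have h3 := finrank_perp hG W
  have h4 := Submodule.finrank_sup_add_finrank_inf_eq L (perp Q.polarBilin W)
  obtain ⟨A, hA⟩ : ∃ A, A = L ⊓ perp Q.polarBilin W := ⟨_, rfl⟩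
  obtain ⟨S, hS⟩ : ∃ S, S = A ⊔ W := ⟨_, rfl⟩
  rw [← hA] at h4
  have hAL : A ≤ L := hA.le.trans inf_le_left
  have hAp : A ≤ perp Q.polarBilin W := hA.le.trans inf_le_right
  have h5 := Submodule.finrank_sup_add_finrank_inf_eq A W
  have h6 := Submodule.finrank_mono (inf_le_inf_right W hAL)
  rw [← hS] at h5
  have hSQ : ∀ w ∈ S, Q w = 0 :=
    hS ▸ IsoOrth.ts_sup (fun w hw => hLQ w (hAL hw)) hWQ (le_perp_comm hG hAp)
  have hWU : W ≤ E ⊔ R := hW.trans le_sup_left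
  have hSR : S ⊔ R ≤ (E ⊔ R) ⊓ perp Q.polarBilin W := sup_le
    (hS ▸ sup_le (le_inf (hAL.trans hL) hAp) (le_inf hWU (ti_iff_le_perp.1 (IsoOrth.ti_of_ts hWQ))))
    (le_inf le_sup_right (hperp.trans (perp_antitone hW)))
  have h7 := Submodule.finrank_mono hSR
  have h8 := finrank_inf_perp hG hUnd hWU
  have h9 := Submodule.finrank_sup_add_finrank_inf_eq S R
  have h10 := two_mul_ti_le hG hR inf_le_right
    (IsoOrth.ti_of_ts fun w (hw : w ∈ S ⊓ R) => hSQ w hw.1)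
  exact ⟨S ⊓ R, inf_le_right, fun w hw => hSQ w hw.1, by omega⟩

omit hQ in
/-- Bridge to the standard types. -/
theorem isPlus_iff_hasHalf (Q : QuadraticForm F V) (hQ : ∀ x, (∀ y, polar Q x y = 0) → x = 0) {k : ℕ}
    (hk : Module.finrank F V = 2 * k) : IsPlus Q k ↔ HasHalf Q ⊤ := by
  classical
  constructor
  · rintro ⟨e, he⟩
    let ψ : (Fin k → F) →ₗ[F] (Fin k ⊕ Fin k → F) :=
      { toFun := fun x => Sum.elim x 0
        map_add' := fun x y => funext fun j => by rcases j with j | j <;> simp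
        map_smul' := fun s x => funext fun j => by rcases j with j | j <;> simp }
    have hinj : Function.Injective (e.toLinearMap ∘ₗ ψ) := e.injective.comp fun x y h => funext fun j =>
      congrFun h (Sum.inl j)
    refine ⟨LinearMap.range (e.toLinearMap ∘ₗ ψ), le_top, ?_, ?_⟩
    · rintro _ ⟨x, rfl⟩
      rw [LinearMap.comp_apply, LinearEquiv.coe_coe, he, qfPlus_apply]
      simp [Cfsg.quadFormPlus, ψ]
    · rw [LinearMap.finrank_range_of_inj hinj, finrank_top, hk, Module.finrank_fin_fun]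
  · rintro ⟨W, -, hW, hWd⟩
    refine (dichotomy Q hQ hk).resolve_right ?_
    rintro ⟨l, rfl, hM⟩
    obtain ⟨a, b, hab⟩ := exists_anisotropic_binary (F := F)
    obtain ⟨e, he⟩ := hM a b hab
    rw [finrank_top, hk] at hWd
    have h := OmegaElem.minus_ts_le l hab (W := W.map e.symm.toLinearMap) (by
      rintro _ ⟨w, hw, rfl⟩
      rw [← he]
      exact (congrArg Q (e.apply_symm_apply w)).trans (hW w hw))
    rw [LinearEquiv.finrank_map_eq] at h
    omega

omit hQ in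
theorem sep_comp {U : Submodule F V} (hU : ND Q.polarBilin U) :
    ∀ x, (∀ y, polar (Q.comp U.subtype) x y = 0) → x = 0 := fun x hx => Subtype.ext (hU x x.2 fun v hv => by
  have h := hx ⟨v, hv⟩
  simpa [QuadraticMap.polar] using h)

omit hQ in
theorem isPlus_comp_iff {U : Submodule F V} (hU : ND Q.polarBilin U) {k : ℕ} (hk : Module.finrank F U = 2 * k) :
    IsPlus (Q.comp U.subtype) k ↔ HasHalf Q U := by
  rw [isPlus_iff_hasHalf _ (sep_comp hU) hk]
  constructor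
  · rintro ⟨W, -, hW, hWd⟩
    refine ⟨W.map U.subtype, Submodule.map_subtype_le U W, ?_, ?_⟩
    · rintro _ ⟨w, hw, rfl⟩; exact hW w hw
    · rw [← (Submodule.equivMapOfInjective U.subtype U.injective_subtype W).finrank_eq, hWd, finrank_top]
  · rintro ⟨W, hWU, hW, hWd⟩
    refine ⟨W.comap U.subtype, le_top, fun w hw => hW _ hw, ?_⟩
    rw [(Submodule.comapSubtypeEquivOfLe hWU).finrank_eq, hWd, finrank_top]

/-- Two minus parts sum to a plus part. -/
theorem hasHalf_of_neither {E R : Submodule F V} (hE : ND Q.polarBilin E) (hR : ND Q.polarBilin R)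
    (hperp : R ≤ perp Q.polarBilin E) {k₁ k₂ : ℕ} (hk₁ : Module.finrank F E = 2 * k₁)
    (hk₂ : Module.finrank F R = 2 * k₂) (h₁ : ¬ HasHalf Q E) (h₂ : ¬ HasHalf Q R) : HasHalf Q (E ⊔ R) := by
  classical
  obtain ⟨hb, hsum⟩ := finrank_sum hQ hE hperp
  obtain ⟨l₁, rfl, hM₁⟩ := (dichotomy _ (sep_comp hE) hk₁).resolve_left fun h => h₁ ((isPlus_comp_iff hE hk₁).1 h)
  have hnsep : ∀ x, (∀ y, polar (-(Q.comp R.subtype)) x y = 0) → x = 0 := fun x hx =>
    sep_comp hR x fun y => by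
      have h := hx y
      simp only [QuadraticMap.polar, QuadraticMap.neg_apply] at h ⊢
      linear_combination -h
  obtain ⟨l₂, rfl, hM₂⟩ := (dichotomy _ hnsep hk₂).resolve_left fun h => h₂ (by
    obtain ⟨W, -, hW, hWd⟩ := (isPlus_iff_hasHalf _ hnsep hk₂).1 h
    refine ⟨W.map R.subtype, Submodule.map_subtype_le R W, ?_, ?_⟩
    · rintro _ ⟨w, hw, rfl⟩; exact neg_eq_zero.1 (hW w hw)
    · rw [← (Submodule.equivMapOfInjective R.subtype R.injective_subtype W).finrank_eq, hWd, finrank_top])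
  obtain ⟨a, b, hab⟩ := exists_anisotropic_binary (F := F)
  obtain ⟨e₁, he₁⟩ := hM₁ a b hab
  obtain ⟨e₂, he₂⟩ := hM₂ a b hab
  let ψ : ∀ l : ℕ, ((Fin l → F) × (Fin 2 → F)) →ₗ[F] ((Fin l ⊕ Fin l) ⊕ Fin 2 → F) := fun l =>
    { toFun := fun x => Sum.elim (Sum.elim x.1 0) x.2
      map_add' := fun x y => funext fun j => by rcases j with (j | j) | j <;> simp
      map_smul' := fun s x => funext fun j => by rcases j with (j | j) | j <;> simp }
  have hψ : ∀ l x, qfMinus l F a b (ψ l x) = x.2 0 ^ 2 + a * x.2 0 * x.2 1 + b * x.2 1 ^ 2 := fun l x => by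
    rw [qfMinus_apply]; simp [Cfsg.quadFormMinus, ψ]
  let φ₁ : ((Fin l₁ → F) × (Fin l₂ → F)) × (Fin 2 → F) →ₗ[F] V :=
    E.subtype ∘ₗ e₁.toLinearMap ∘ₗ ψ l₁ ∘ₗ (LinearMap.fst F _ _).prodMap LinearMap.id
  let φ₂ : ((Fin l₁ → F) × (Fin l₂ → F)) × (Fin 2 → F) →ₗ[F] V :=
    R.subtype ∘ₗ e₂.toLinearMap ∘ₗ ψ l₂ ∘ₗ (LinearMap.snd F _ _).prodMap LinearMap.id
  have hm₁ : ∀ x, φ₁ x ∈ E := fun x => (e₁ _).2
  have hm₂ : ∀ x, φ₂ x ∈ R := fun x => (e₂ _).2
  have hinj : Function.Injective (φ₁ + φ₂) := (injective_iff_map_eq_zero _).2 fun x hx => by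
    rw [LinearMap.add_apply, add_eq_zero_iff_eq_neg] at hx
    have h0 : φ₁ x = 0 := (Submodule.mem_bot F).1 (hb ▸ ⟨hm₁ x, hx ▸ R.neg_mem (hm₂ x)⟩)
    have h0' : φ₂ x = 0 := by rwa [h0, eq_comm, neg_eq_zero] at hx
    have g₁ : ψ l₁ (x.1.1, x.2) = 0 := e₁.map_eq_zero_iff.1 (Subtype.ext h0)
    have g₂ : ψ l₂ (x.1.2, x.2) = 0 := e₂.map_eq_zero_iff.1 (Subtype.ext h0')
    exact Prod.ext (Prod.ext (funext fun j => congrFun g₁ (.inl (.inl j))) (funext fun j => congrFun g₂ (.inl (.inl j))))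
      (funext fun j => congrFun g₁ (.inr j))
  refine ⟨LinearMap.range (φ₁ + φ₂), ?_, ?_, ?_⟩
  · rintro _ ⟨x, rfl⟩; exact Submodule.add_mem_sup (hm₁ x) (hm₂ x)
  · rintro _ ⟨x, rfl⟩
    have hp : polar Q (φ₁ x) (φ₂ x) = 0 := hperp (hm₂ x) _ (hm₁ x)
    have e1 : Q (φ₁ x) = qfMinus l₁ F a b (ψ l₁ (x.1.1, x.2)) := he₁ _
    have e2 : -Q (φ₂ x) = qfMinus l₂ F a b (ψ l₂ (x.1.2, x.2)) := he₂ _
    rw [hψ] at e1 e2
    rw [LinearMap.add_apply, QuadraticMap.map_add Q, hp]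
    linear_combination e1 - e2
  · rw [LinearMap.finrank_range_of_inj hinj, hsum, hk₁, hk₂, Module.finrank_prod, Module.finrank_prod,
      Module.finrank_fin_fun, Module.finrank_fin_fun, Module.finrank_fin_fun]
    ring

/-- The type of an orthogonal sum. -/
theorem hasHalf_sum_iff {E R : Submodule F V} (hE : ND Q.polarBilin E) (hR : ND Q.polarBilin R)
    (hperp : R ≤ perp Q.polarBilin E) {k₁ k₂ : ℕ} (hk₁ : Module.finrank F E = 2 * k₁)
    (hk₂ : Module.finrank F R = 2 * k₂) : HasHalf Q (E ⊔ R) ↔ (HasHalf Q E ↔ HasHalf Q R) := by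
  have hperp' : E ≤ perp Q.polarBilin R := le_perp_comm (IsoOrth.geom hQ) hperp
  refine ⟨fun h => ⟨hasHalf_cancel hQ hE hR hperp h,
    hasHalf_cancel hQ hR hE hperp' (sup_comm E R ▸ h)⟩, fun h => ?_⟩
  by_cases h₁ : HasHalf Q E
  · exact hasHalf_sum hQ hE hperp h₁ (h.1 h₁)
  · exact hasHalf_of_neither hQ hE hR hperp hk₁ hk₂ h₁ (mt h.2 h₁)

/-- Totally singular subspaces of a part of even dimension. -/
theorem exists_ts_part {U : Submodule F V} (hU : ND Q.polarBilin U) {k : ℕ}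
    (h : 2 * k ≤ Module.finrank F U) (h' : HasHalf Q U ∨ k = 0 ∨ 2 * k + 1 ≤ Module.finrank F U) :
    ∃ W ≤ U, (∀ w ∈ W, Q w = 0) ∧ Module.finrank F W = k := by
  rcases h' with ⟨W, hW, hWQ, hWd⟩ | rfl | h'
  · obtain ⟨Z, hZ, hZd⟩ := exists_sub_finrank W (k := k) (by omega)
    exact ⟨Z, hZ.trans hW, fun w hw => hWQ w (hZ hw), hZd⟩
  · exact IsoOrth.exists_ts hQ hU 0 (Or.inl rfl)
  · exact IsoOrth.exists_ts hQ hU k (Or.inr h')

theorem ts_part_bound {U W : Submodule F V} (hU : ND Q.polarBilin U) (hW : W ≤ U) (hWQ : ∀ w ∈ W, Q w = 0) :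
    2 * Module.finrank F W ≤ Module.finrank F U ∧
      (¬ HasHalf Q U → 2 * Module.finrank F W ≠ Module.finrank F U) :=
  ⟨two_mul_ti_le (IsoOrth.geom hQ) hU hW (IsoOrth.ti_of_ts hWQ), fun h e => h ⟨W, hW, hWQ, e⟩⟩

variable {p : ℕ} [Fact p.Prime] [CharP F p] {r : ℕ} {T : Module.End F V} (hC : Ctx Q.polarBilin T r)
  (hT : ∀ v, Q (T v) = Q v)
include hC hT

include p in
/-- Odd multiplicative order: the moving part is hyperbolic. -/
theorem mov_odd (hodd : Odd (orderOf (Fintype.card F : ZMod r))) :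
    ∃ (w : ℕ) (W : Submodule F V), Module.finrank F ↥(LinearMap.range (T - 1)) =
        2 * (orderOf (Fintype.card F : ZMod r) * w) ∧ W ≤ LinearMap.range (T - 1) ∧ W.map T ≤ W ∧
      (∀ x ∈ W, Q x = 0) ∧ Module.finrank F W = orderOf (Fintype.card F : ZMod r) * w := by
  haveI : Fact r.Prime := ⟨hC.prime⟩
  have hnsd : ¬ SelfDual (Fintype.card F) (p ^ 0) r := fun h => Nat.not_even_iff_odd.2 hodd
    ((IsoOrth.sd_iff rfl hC.rne2 (ord_pos hC)).1 h)
  obtain ⟨W, hWR, hWi, hW, -, hWe⟩ := exists_max (p := p) (c := 0) hC (fun x => by simp) (nd_mov hC) (inv_mov T) le_rfl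
  obtain ⟨w, hw⟩ := dvd_finrank hC hWi hWR
  exact ⟨w, W, by rw [hWe hnsd, hw], hWR, hWi, IsoOrth.ts_of_ti_mov hT hC hWi hWR hW, hw⟩

include p in
/-- Even multiplicative order: the type of the moving part follows the parity of the number of pieces. -/
theorem mov_even (hev : Even (orderOf (Fintype.card F : ZMod r))) :
    ∃ (a w : ℕ) (W : Submodule F V), Module.finrank F ↥(LinearMap.range (T - 1)) =
        orderOf (Fintype.card F : ZMod r) * a ∧ W ≤ LinearMap.range (T - 1) ∧ W.map T ≤ W ∧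
      (∀ x ∈ W, Q x = 0) ∧ Module.finrank F W = orderOf (Fintype.card F : ZMod r) * w ∧
      a ≤ 2 * w + (r - 1) / orderOf (Fintype.card F : ZMod r) ∧
      (HasHalf Q (LinearMap.range (T - 1)) ↔ Even a) := by
  haveI : Fact r.Prime := ⟨hC.prime⟩
  obtain ⟨R, hR⟩ : ∃ R, R = LinearMap.range (T - 1) := ⟨_, rfl⟩
  have hipos := ord_pos hC
  obtain ⟨W, hWR, hWi, hW, hWb, -⟩ := exists_max (p := p) (c := 0) hC (fun x => by simp) (nd_mov hC) (inv_mov T) le_rfl
  obtain ⟨w, hw⟩ := dvd_finrank hC hWi hWR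
  obtain ⟨a, ha⟩ := dvd_finrank hC (inv_mov T) le_rfl
  obtain ⟨i, hi⟩ : ∃ i, i = orderOf (Fintype.card F : ZMod r) := ⟨_, rfl⟩
  rw [← hi] at hw ha hipos hev ⊢
  obtain ⟨t, ht⟩ : i ∣ r - 1 := hi ▸ orderOf_dvd_of_pow_eq_one (ZMod.pow_card_sub_one_eq_one fun h0 => by
    rw [h0] at hi; simp at hi; omega)
  refine ⟨a, w, W, ha, hWR, hWi, IsoOrth.ts_of_ti_mov hT hC hWi hWR hW, hw, ?_, ?_⟩
  · rw [ha, hw, ht, ← mul_assoc, mul_comm 2, mul_assoc, ← mul_add] at hWb
    rw [ht, Nat.mul_div_cancel_left _ hipos]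
    exact Nat.le_of_mul_le_mul_left hWb hipos
  have hi2 : 2 ≤ i := by obtain ⟨k, hk⟩ := hev; omega
  obtain ⟨s, hs⟩ := hev
  rw [← hR] at ha ⊢
  rcases Nat.eq_zero_or_pos a with rfl | hapos
  · rw [mul_zero] at ha
    rw [Submodule.finrank_eq_zero.1 ha]
    exact iff_of_true (hasHalf_bot Q) Even.zero
  have hdR : Module.finrank F R = 2 * (s * a) := by rw [ha, hs]; ring
  have hRi : ∀ x ∈ R, T x ∈ R := fun x hx => apply_mem (hR ▸ inv_mov T) hx
  let g₀ : Module.End F R := T.restrict hRi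
  have hinj : Function.Injective g₀ := (injective_iff_map_eq_zero g₀).2 fun x hx =>
    Subtype.ext (eq_zero_of_apply hC (congrArg Subtype.val hx))
  let g : R ≃ₗ[F] R := LinearEquiv.ofBijective g₀ ⟨hinj, LinearMap.injective_iff_surjective.1 hinj⟩
  have hgpow : ∀ (j : ℕ) (x : R), (((g ^ j) x : R) : V) = (T ^ j) (x : V) := fun j x => by
    induction j with
    | zero => rfl
    | succ j ih => rw [pow_succ', pow_succ', LinearEquiv.mul_apply, Module.End.mul_apply, ← ih]; rfl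
  have hq : (Fintype.card F : ZMod r) ^ s = -1 := by
    have h1 : ((Fintype.card F : ZMod r) ^ s) ^ 2 = 1 := by
      rw [← pow_mul, show s * 2 = i by omega, hi, pow_orderOf_eq_one]
    refine (sq_eq_one_iff.1 h1).resolve_left fun h => ?_
    have h2 := Nat.le_of_dvd (by omega) (orderOf_dvd_of_pow_eq_one h)
    omega
  have hty := OrthPrime.type_of_no_fixed (p := p) hC.prime hC.rne2
    (fun h => hC.rne (by rw [h]; exact CharP.cast_eq_zero F p))
    (fun h1 => by rw [h1, orderOf_one] at hi; omega) (Q.comp R.subtype) (sep_comp (hR ▸ nd_mov hC))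
    (g := g) (fun x => hT (x : V))
    (LinearEquiv.ext fun x => Subtype.ext (by rw [hgpow, hC.pow]; rfl))
    (fun x hx => Subtype.ext (no_fix hC hR.le x.2 (congrArg Subtype.val hx)))
    (k := s * a) (Nat.mul_pos (by omega) hapos) hdR
  rw [← isPlus_comp_iff (hR ▸ nd_mov hC) hdR]
  rw [pow_mul, hq] at hty
  rcases Nat.even_or_odd a with h | h
  · exact iff_of_true (hty.2 h.neg_one_pow) h
  · exact iff_of_false (hty.1 h.neg_one_pow) (Nat.not_even_iff_odd.2 h)

omit [Fintype F] [Fact p.Prime] [CharP F p] hT hQ in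
theorem fix_sup_mov : LinearMap.ker (T - 1) ⊔ LinearMap.range (T - 1) = ⊤ := by
  refine Submodule.eq_top_of_finrank_eq ?_
  have h := Submodule.finrank_sup_add_finrank_inf_eq (LinearMap.ker (T - 1)) (LinearMap.range (T - 1))
  rw [disjoint_fix_mov hC, finrank_bot] at h
  have := (T - 1).finrank_range_add_finrank_ker
  omega

/-- The type of the fixed part. -/
theorem fix_type {k : ℕ} (hV : Module.finrank F V = 2 * k) {e : ℕ}
    (he : Module.finrank F ↥(LinearMap.range (T - 1)) = 2 * e) :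
    HasHalf Q ⊤ ↔ (HasHalf Q (LinearMap.ker (T - 1)) ↔ HasHalf Q (LinearMap.range (T - 1))) := by
  have := (T - 1).finrank_range_add_finrank_ker
  rw [← fix_sup_mov hC]
  exact hasHalf_sum_iff hQ (nd_fix hC) (nd_mov hC) (fix_le_perp hC) (k₁ := k - e) (by omega) he

end CfsgLib.MaxSub.IsoType
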