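import Mathlib

/-!
Orthogonal subspaces for reflexive separating sesquilinear forms over finite fields.
-/

set_option autoImplicit false

namespace CfsgLib.MaxSub.IsoSemi

universe u v

variable {F : Type u} [Field F] {V : Type v} [AddCommGroup V] [Module F V] {σ : F →+* F}

/-- The orthogonal `{v | B w v = 0 for all w ∈ W}`. -/
def perp (B : V →ₛₗ[σ] V →ₗ[F] F) (W : Submodule F V) : Submodule F V where
  carrier := {v | ∀ w ∈ W, B w v = 0}
  add_mem' {x y} hx hy := fun w hw => by rw [map_add, hx w hw, hy w hw, add_zero]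
  zero_mem' := fun w _ => map_zero _
  smul_mem' c x hx := fun w hw => by rw [map_smul, hx w hw, smul_zero]

/-- Totally isotropic. -/
def TI (B : V →ₛₗ[σ] V →ₗ[F] F) (W : Submodule F V) : Prop := ∀ u ∈ W, ∀ v ∈ W, B u v = 0

/-- Non-degenerate. -/
def ND (B : V →ₛₗ[σ] V →ₗ[F] F) (W : Submodule F V) : Prop :=
  ∀ u ∈ W, (∀ v ∈ W, B u v = 0) → u = 0

variable {B : V →ₛₗ[σ] V →ₗ[F] F}

theorem mem_perp {W : Submodule F V} {v : V} : v ∈ perp B W ↔ ∀ w ∈ W, B w v = 0 := Iff.rfl

theorem ti_iff_le_perp {W : Submodule F V} : TI B W ↔ W ≤ perp B W :=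
  ⟨fun h v hv w hw => h w hw v hv, fun h u hu v hv => h hv u hu⟩

theorem ti_mono {W U : Submodule F V} (h : W ≤ U) (hU : TI B U) : TI B W :=
  fun u hu v hv => hU u (h hu) v (h hv)

theorem ti_bot : TI B (⊥ : Submodule F V) := fun u hu v _ => by
  rw [(Submodule.mem_bot F).1 hu]; simp

theorem perp_antitone {W U : Submodule F V} (h : W ≤ U) : perp B U ≤ perp B W :=
  fun v hv w hw => hv w (h hw)

theorem perp_bot : perp B (⊥ : Submodule F V) = ⊤ :=
  eq_top_iff.2 fun v _ w hw => by rw [(Submodule.mem_bot F).1 hw]; simp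

/-- Reflexive and separating. -/
structure Geom (B : V →ₛₗ[σ] V →ₗ[F] F) : Prop where
  sep : ∀ x, (∀ y, B x y = 0) → x = 0
  refl : ∀ x y, B x y = 0 → B y x = 0

variable (hG : Geom B)
include hG

theorem le_perp_comm {W U : Submodule F V} (h : U ≤ perp B W) : W ≤ perp B U :=
  fun w hw u hu => hG.refl _ _ (h hu w hw)

theorem le_perp_perp (W : Submodule F V) : W ≤ perp B (perp B W) := le_perp_comm hG le_rfl

theorem nd_iff {W : Submodule F V} : ND B W ↔ W ⊓ perp B W = ⊥ := by
  rw [Submodule.eq_bot_iff]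
  exact ⟨fun h x hx => h x hx.1 fun v hv => hG.refl _ _ (hx.2 v hv),
    fun h x hx hx' => h x ⟨hx, fun w hw => hG.refl _ _ (hx' w hw)⟩⟩

theorem ti_sup {W U : Submodule F V} (hW : TI B W) (hU : TI B U) (h : U ≤ perp B W) : TI B (W ⊔ U) := by
  intro x hx y hy
  obtain ⟨a, ha, b, hb, rfl⟩ := Submodule.mem_sup.1 hx
  obtain ⟨c, hc, d, hd, rfl⟩ := Submodule.mem_sup.1 hy
  simp [hW a ha c hc, hU b hb d hd, h hd a ha, hG.refl _ _ (h hb c hc)]

theorem nd_sup {W U : Submodule F V} (hW : ND B W) (hU : ND B U) (h : U ≤ perp B W) : ND B (W ⊔ U) := by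
  intro x hx hxy
  obtain ⟨a, ha, b, hb, rfl⟩ := Submodule.mem_sup.1 hx
  have ha0 : a = 0 := hW a ha fun v hv => by
    have := hxy v (Submodule.mem_sup_left hv)
    rwa [map_add, LinearMap.add_apply, hG.refl _ _ (h hb v hv), add_zero] at this
  subst ha0
  rw [zero_add] at hxy ⊢
  exact hU b hb fun v hv => hxy v (Submodule.mem_sup_right hv)

variable [Finite F] [FiniteDimensional F V]

theorem finrank_perp (W : Submodule F V) :
    Module.finrank F (perp B W) + Module.finrank F W = Module.finrank F V := by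
  classical
  haveI : Finite V := Module.finite_of_finite F
  have hσ : Function.Surjective σ := Finite.injective_iff_surjective.1 σ.injective
  let b := Module.finBasis F W
  let L : V →ₗ[F] (Fin (Module.finrank F W) → F) := LinearMap.pi fun j => B (b j : V)
  have hker : LinearMap.ker L = perp B W := by
    ext v
    rw [LinearMap.mem_ker]
    refine ⟨fun hv w hw => ?_, fun hv => funext fun j => hv _ (b j).2⟩
    have hsum := congrArg Subtype.val (b.sum_repr ⟨w, hw⟩)
    simp only [Submodule.coe_sum, Submodule.coe_smul] at hsum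
    rw [← hsum, map_sum, LinearMap.sum_apply]
    refine Finset.sum_eq_zero fun j _ => ?_
    rw [map_smulₛₗ, LinearMap.smul_apply, show B (b j : V) v = 0 from congrFun hv j, smul_zero]
  have hsurj : Function.Surjective L := by
    rw [← LinearMap.range_eq_top]
    refine Submodule.eq_top_iff'.2 fun y => ?_
    by_contra hy
    obtain ⟨φ, hφ, hφ0⟩ := Submodule.exists_dual_map_eq_bot_of_notMem hy inferInstance
    have hc : ∀ z, φ z = ∑ j, z j * φ (Pi.single j 1) := fun z => by
      conv_lhs => rw [← Finset.univ_sum_single z]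
      rw [map_sum]
      refine Finset.sum_congr rfl fun j _ => ?_
      rw [show Pi.single j (z j) = z j • (Pi.single j (1 : F) : Fin (Module.finrank F W) → F) by
        rw [← Pi.single_smul, smul_eq_mul, mul_one], map_smul, smul_eq_mul]
    choose c hcj using fun j => hσ (φ (Pi.single j 1))
    have hzero : ∑ j, c j • (b j : V) = 0 := hG.sep _ fun v => by
      have h1 : φ (L v) = 0 := (Submodule.mem_bot F).1 (hφ0 ▸ Submodule.mem_map_of_mem ⟨v, rfl⟩)
      rw [hc] at h1
      rw [map_sum, LinearMap.sum_apply, ← h1]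
      refine Finset.sum_congr rfl fun j _ => ?_
      rw [map_smulₛₗ, LinearMap.smul_apply, hcj, smul_eq_mul, mul_comm]
      rfl
    have hc0 : ∀ j, c j = 0 := Fintype.linearIndependent_iff.1 b.linearIndependent c
      (Subtype.ext (by simpa using hzero))
    refine hφ ?_
    rw [hc]
    exact Finset.sum_eq_zero fun j _ => by rw [← hcj, hc0, map_zero, mul_zero]
  have h := L.finrank_range_add_finrank_ker
  rw [hker, LinearMap.range_eq_top.2 hsurj, finrank_top, Module.finrank_fin_fun] at h
  omega

theorem perp_perp (W : Submodule F V) : perp B (perp B W) = W := by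
  refine (Submodule.eq_of_le_of_finrank_eq (le_perp_perp hG W) ?_).symm
  have h1 := finrank_perp hG W
  have h2 := finrank_perp hG (perp B W)
  omega

theorem isCompl_perp {U : Submodule F V} (hU : ND B U) : IsCompl U (perp B U) := by
  have h := (nd_iff hG).1 hU
  refine (Submodule.isCompl_iff_disjoint _ _ ?_).2 (disjoint_iff.2 h)
  have := finrank_perp hG U
  omega

theorem nd_perp {U : Submodule F V} (hU : ND B U) : ND B (perp B U) := by
  rw [nd_iff hG, perp_perp hG, inf_comm]
  exact (nd_iff hG).1 hU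

theorem finrank_inf_perp {U W : Submodule F V} (hU : ND B U) (hW : W ≤ U) :
    Module.finrank F ↥(U ⊓ perp B W) + Module.finrank F W = Module.finrank F U := by
  have hsup : U ⊔ perp B W = ⊤ := eq_top_iff.2 ((isCompl_perp hG hU).sup_eq_top.symm.le.trans
    (sup_le_sup_left (perp_antitone hW) _))
  have h := Submodule.finrank_sup_add_finrank_inf_eq U (perp B W)
  rw [hsup, finrank_top] at h
  have := finrank_perp hG W
  omega

theorem two_mul_ti_le {U W : Submodule F V} (hU : ND B U) (hW : W ≤ U) (hti : TI B W) :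
    2 * Module.finrank F W ≤ Module.finrank F U := by
  have h := finrank_inf_perp hG hU hW
  have := Submodule.finrank_mono (le_inf hW (ti_iff_le_perp.1 hti))
  omega

/-- The orthogonal of a non-degenerate subspace inside a non-degenerate subspace. -/
theorem nd_inf_perp {U P : Submodule F V} (hU : ND B U) (hP : ND B P) (hPU : P ≤ U) :
    ND B (U ⊓ perp B P) := by
  rintro x ⟨hxU, hxP⟩ hx
  refine hU x hxU fun v hv => ?_
  obtain ⟨a, ha, c, hc, rfl⟩ := Submodule.mem_sup.1
    ((isCompl_perp hG hP).sup_eq_top.symm ▸ Submodule.mem_top : v ∈ P ⊔ perp B P)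
  have hcU : c ∈ U := by simpa using U.sub_mem hv (hPU ha)
  rw [map_add, hG.refl _ _ (hxP a ha), hx c ⟨hcU, hc⟩, add_zero]

omit [Finite F] [FiniteDimensional F V] in
/-- Extension of a totally isotropic subspace by an isotropic vector. -/
theorem ti_sup_span {W : Submodule F V} (hW : TI B W) {v : V} (hv : v ∈ perp B W) (hvv : B v v = 0) :
    TI B (W ⊔ Submodule.span F {v}) := by
  refine ti_sup hG hW (fun a ha b hb => ?_) ((Submodule.span_singleton_le_iff_mem _ _).2 hv)
  obtain ⟨s, rfl⟩ := Submodule.mem_span_singleton.1 ha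
  obtain ⟨t, rfl⟩ := Submodule.mem_span_singleton.1 hb
  simp [hvv]

/-- For an alternating form: totally isotropic subspaces of every dimension up to half. -/
theorem exists_ti_alt (halt : ∀ v, B v v = 0) {U : Submodule F V} (hU : ND B U) :
    ∀ k, 2 * k ≤ Module.finrank F U → ∃ W ≤ U, TI B W ∧ Module.finrank F W = k := by
  intro k
  induction k with
  | zero => intro _; exact ⟨⊥, bot_le, ti_bot, finrank_bot F V⟩
  | succ k ih =>
    intro hk
    obtain ⟨W, hWU, hW, hWd⟩ := ih (by omega)
    have h := finrank_inf_perp hG hU hWU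
    have hlt : W < U ⊓ perp B W := lt_of_le_of_ne (le_inf hWU (ti_iff_le_perp.1 hW)) fun e => by
      rw [← e] at h; omega
    obtain ⟨v, ⟨hvU, hvW⟩, hv⟩ := SetLike.exists_of_lt hlt
    refine ⟨W ⊔ Submodule.span F {v}, sup_le hWU ((Submodule.span_singleton_le_iff_mem _ _).2 hvU),
      ti_sup_span hG hW hvW (halt v), ?_⟩
    have hv0 : v ≠ 0 := fun e => hv (e ▸ W.zero_mem)
    have h1 := Submodule.finrank_sup_add_finrank_inf_eq W (Submodule.span F {v})
    have hinf : W ⊓ Submodule.span F {v} = ⊥ := by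
      rw [Submodule.eq_bot_iff]
      rintro x ⟨hx, hxv⟩
      obtain ⟨t, rfl⟩ := Submodule.mem_span_singleton.1 hxv
      by_contra hne
      exact hv ((W.smul_mem_iff fun h => hne (by rw [h, zero_smul])).1 hx)
    rw [hinf, finrank_bot, finrank_span_singleton hv0, hWd] at h1
    omega

end CfsgLib.MaxSub.IsoSemi
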