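import Cfsg.Prelude.Def_GeometricClasses
import Cfsg.Agent.Lib.Classical.SLGen

/-!
Transvections `1 + a φᵀ` inside subgroups of `GL(ι, F)`: the calculus used to show maximality of
subgroups containing transvections.
-/

set_option autoImplicit false

namespace CfsgLib.MaxSub

open Matrix
open scoped MatrixGroups

set_option linter.unusedSectionVars false

variable {ι : Type} [Fintype ι] [DecidableEq ι] {F : Type*} [Field F]

/-- The matrix `1 + a φᵀ`. -/
def tvMat (a φ : ι → F) : Matrix ι ι F := 1 + Matrix.vecMulVec a φ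

theorem tvMat_mulVec (a φ x : ι → F) : tvMat a φ *ᵥ x = x + (φ ⬝ᵥ x) • a := by
  rw [tvMat, add_mulVec, one_mulVec, vecMulVec_mulVec]
  ext i; simp [mul_comm]

theorem tvMat_mul (a φ b ψ : ι → F) :
    tvMat a φ * tvMat b ψ =
      1 + vecMulVec a φ + vecMulVec b ψ + (φ ⬝ᵥ b) • vecMulVec a ψ := by
  simp only [tvMat, mul_add, add_mul, one_mul, mul_one, vecMulVec_mul_vecMulVec, vecMulVec_smul]
  abel

theorem tvMat_mul_same_center (a φ ψ : ι → F) (h : φ ⬝ᵥ a = 0) :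
    tvMat a φ * tvMat a ψ = tvMat a (φ + ψ) := by
  rw [tvMat_mul, h, zero_smul, tvMat, vecMulVec_add]
  abel

theorem tvMat_mul_same_dual (a b φ : ι → F) (h : φ ⬝ᵥ b = 0) :
    tvMat a φ * tvMat b φ = tvMat (a + b) φ := by
  rw [tvMat_mul, h, zero_smul, tvMat, add_vecMulVec]
  abel

@[simp] theorem tvMat_zero (a : ι → F) : tvMat a 0 = 1 := by
  simp [tvMat, vecMulVec_zero]

@[simp] theorem tvMat_zero_left (φ : ι → F) : tvMat (0 : ι → F) φ = 1 := by
  simp [tvMat, zero_vecMulVec]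

theorem tvMat_smul (c : F) (a φ : ι → F) : tvMat (c • a) φ = tvMat a (c • φ) := by
  simp [tvMat, smul_vecMulVec, vecMulVec_smul]

theorem mul_tvMat_mul (A B : Matrix ι ι F) (a φ : ι → F) (h : A * B = 1) :
    A * tvMat a φ * B = tvMat (A *ᵥ a) (φ ᵥ* B) := by
  rw [tvMat, mul_add, add_mul, mul_one, h, mul_vecMulVec, vecMulVec_mul, tvMat]

/-- The transvection `1 + a φᵀ` as an element of `GL`. -/
def tvGL (a φ : ι → F) (h : φ ⬝ᵥ a = 0) : GL ι F where
  val := tvMat a φ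
  inv := tvMat a (-φ)
  val_inv := by rw [tvMat_mul_same_center a φ (-φ) h, add_neg_cancel, tvMat_zero]
  inv_val := by
    rw [tvMat_mul_same_center a (-φ) φ (by rw [neg_dotProduct, h, neg_zero]), neg_add_cancel,
      tvMat_zero]

@[simp] theorem coe_tvGL (a φ : ι → F) (h : φ ⬝ᵥ a = 0) :
    (tvGL a φ h : Matrix ι ι F) = tvMat a φ := rfl

/-- `M` contains the transvection `1 + a φᵀ`. -/
def HasTv (M : Subgroup (GL ι F)) (a φ : ι → F) : Prop :=
  φ ⬝ᵥ a = 0 ∧ ∃ g ∈ M, (g : Matrix ι ι F) = tvMat a φ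

variable {M N : Subgroup (GL ι F)} {a b φ ψ : ι → F}

theorem hasTv_iff (h : φ ⬝ᵥ a = 0) : HasTv M a φ ↔ tvGL a φ h ∈ M := by
  constructor
  · rintro ⟨-, g, hg, hgv⟩
    rwa [show tvGL a φ h = g from Units.ext hgv.symm]
  · exact fun hm => ⟨h, _, hm, rfl⟩

theorem HasTv.mono (h : HasTv M a φ) (hMN : M ≤ N) : HasTv N a φ :=
  ⟨h.1, h.2.choose, hMN h.2.choose_spec.1, h.2.choose_spec.2⟩

theorem hasTv_zero (a : ι → F) : HasTv M a 0 :=
  ⟨zero_dotProduct a, 1, one_mem M, by simp⟩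

theorem hasTv_zero_left (φ : ι → F) : HasTv M (0 : ι → F) φ :=
  ⟨dotProduct_zero φ, 1, one_mem M, by simp⟩

theorem HasTv.neg (h : HasTv M a φ) : HasTv M a (-φ) := by
  obtain ⟨h0, g, hg, hgv⟩ := h
  refine ⟨by rw [neg_dotProduct, h0, neg_zero], g⁻¹, inv_mem hg, ?_⟩
  have : g = tvGL a φ h0 := Units.ext hgv
  rw [this]; rfl

theorem HasTv.add (h : HasTv M a φ) (h' : HasTv M a ψ) : HasTv M a (φ + ψ) := by
  obtain ⟨h0, g, hg, hgv⟩ := h
  obtain ⟨h0', g', hg', hgv'⟩ := h'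
  exact ⟨by rw [add_dotProduct, h0, h0', add_zero], g * g', mul_mem hg hg',
    by rw [Units.val_mul, hgv, hgv', tvMat_mul_same_center _ _ _ h0]⟩

theorem HasTv.sub (h : HasTv M a φ) (h' : HasTv M a ψ) : HasTv M a (φ - ψ) := by
  simpa [sub_eq_add_neg] using h.add h'.neg

theorem HasTv.add_left (h : HasTv M a φ) (h' : HasTv M b φ) : HasTv M (a + b) φ := by
  obtain ⟨h0, g, hg, hgv⟩ := h
  obtain ⟨h0', g', hg', hgv'⟩ := h'
  exact ⟨by rw [dotProduct_add, h0, h0', add_zero], g * g', mul_mem hg hg',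
    by rw [Units.val_mul, hgv, hgv', tvMat_mul_same_dual _ _ _ h0']⟩

theorem hasTv_smul_iff {c : F} (hc : c ≠ 0) : HasTv M (c • a) φ ↔ HasTv M a (c • φ) := by
  constructor <;> rintro ⟨h0, g, hg, hgv⟩ <;> refine ⟨?_, g, hg, ?_⟩
  · simpa [smul_dotProduct, dotProduct_smul] using h0
  · rw [hgv, tvMat_smul]
  · simpa [smul_dotProduct, dotProduct_smul, hc] using h0
  · rw [hgv, tvMat_smul]

theorem HasTv.conj (h : HasTv M a φ) {g : GL ι F} (hg : g ∈ M) :
    HasTv M ((g : Matrix ι ι F) *ᵥ a) (φ ᵥ* ((g⁻¹ : GL ι F) : Matrix ι ι F)) := by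
  obtain ⟨h0, t, ht, htv⟩ := h
  refine ⟨?_, g * t * g⁻¹, mul_mem (mul_mem hg ht) (inv_mem hg), ?_⟩
  · rw [← dotProduct_mulVec, mulVec_mulVec, ← Units.val_mul, inv_mul_cancel, Units.val_one,
      one_mulVec, h0]
  · rw [Units.val_mul, Units.val_mul, htv, mul_tvMat_mul _ _ _ _ (by
      rw [← Units.val_mul, mul_inv_cancel, Units.val_one])]

/-- The dual vector transported by a transvection. -/
theorem vecMul_tvMat (a φ ψ : ι → F) : ψ ᵥ* tvMat a φ = ψ + (ψ ⬝ᵥ a) • φ := by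
  rw [tvMat, vecMul_add, vecMul_one, vecMul_vecMulVec]

/-- Conjugation of one transvection by another. -/
theorem HasTv.conj_tv (h : HasTv M b ψ) (ha : HasTv M a φ) :
    HasTv M (b + (φ ⬝ᵥ b) • a) (ψ - (ψ ⬝ᵥ a) • φ) := by
  obtain ⟨h0, g, hg, hgv⟩ := ha
  have hg' : g = tvGL a φ h0 := Units.ext hgv
  have := h.conj hg
  rw [hgv, tvMat_mulVec, hg', show ((tvGL a φ h0)⁻¹ : GL ι F) = tvGL a (-φ) (by
      rw [neg_dotProduct, h0, neg_zero]) from Units.ext rfl,
    coe_tvGL, vecMul_tvMat] at this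
  simpa [sub_eq_add_neg] using this

/-- Commutator of two transvections with `φ b = 0`. -/
theorem HasTv.comm (ha : HasTv M a φ) (hb : HasTv M b ψ) (h : φ ⬝ᵥ b = 0) :
    HasTv M b ((ψ ⬝ᵥ a) • φ) := by
  have h1 := hb.conj_tv ha
  rw [h, zero_smul, add_zero] at h1
  simpa using hb.sub h1

/-- `1 + c e_i e_jᵀ`. -/
theorem tvMat_single (i j : ι) (c : F) :
    tvMat (Pi.single i c) (Pi.single j 1) = Matrix.transvection i j c := by
  ext k l
  simp [tvMat, Matrix.transvection, vecMulVec_apply, Pi.single_apply, Matrix.single_apply,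
    Matrix.add_apply]
  grind

/-- A subgroup containing all elementary transvections contains `SL`. -/
theorem specialLinear_le_of_hasTv
    (h : ∀ i j : ι, i ≠ j → ∀ c : F, HasTv M (Pi.single i c) (Pi.single j 1)) :
    Cfsg.Geo.specialLinear ι F ≤ M := by
  have htop := CfsgLib.Classical.sl_transvection_induction
    (M.comap (Matrix.SpecialLinearGroup.toGL : Matrix.SpecialLinearGroup ι F →* GL ι F))
    (fun i j hij c => by
      obtain ⟨-, g, hg, hgv⟩ := h i j hij c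
      rw [Subgroup.mem_comap]
      convert hg using 1
      apply Units.ext
      rw [hgv, tvMat_single]
      rfl)
  intro g hg
  have hd : (g : Matrix ι ι F).det = 1 := by
    have : Matrix.GeneralLinearGroup.det g = 1 := hg
    simpa using congrArg Units.val this
  have hA : Matrix.SpecialLinearGroup.toGL
      (⟨(g : Matrix ι ι F), hd⟩ : Matrix.SpecialLinearGroup ι F) ∈ M :=
    (Subgroup.eq_top_iff' _).1 htop _
  convert hA using 1
  exact Units.ext rfl

/-- A subgroup containing all transvections with non-zero centre contains `SL`. -/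
theorem specialLinear_le_of_forall_center
    (h : ∀ a φ : ι → F, a ≠ 0 → φ ⬝ᵥ a = 0 → HasTv M a φ) :
    Cfsg.Geo.specialLinear ι F ≤ M := by
  refine specialLinear_le_of_hasTv fun i j hij c => ?_
  rcases eq_or_ne c 0 with rfl | hc
  · rw [Pi.single_zero]; exact hasTv_zero_left _
  · exact h _ _ (by simpa using hc) (by simp [hij.symm])

theorem mulVec_mulVec_inv (g : GL ι F) (x : ι → F) :
    (g : Matrix ι ι F) *ᵥ (((g⁻¹ : GL ι F) : Matrix ι ι F) *ᵥ x) = x := by
  rw [mulVec_mulVec, ← Units.val_mul, mul_inv_cancel, Units.val_one, one_mulVec]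

theorem inv_mulVec_mulVec (g : GL ι F) (x : ι → F) :
    ((g⁻¹ : GL ι F) : Matrix ι ι F) *ᵥ ((g : Matrix ι ι F) *ᵥ x) = x := by
  rw [mulVec_mulVec, ← Units.val_mul, inv_mul_cancel, Units.val_one, one_mulVec]

theorem vecMul_inv_dotProduct (g : GL ι F) (φ x : ι → F) :
    (φ ᵥ* ((g⁻¹ : GL ι F) : Matrix ι ι F)) ⬝ᵥ x =
      φ ⬝ᵥ (((g⁻¹ : GL ι F) : Matrix ι ι F) *ᵥ x) := (dotProduct_mulVec _ _ _).symm

theorem det_tvMat (a φ : ι → F) (h : φ ⬝ᵥ a = 0) : (tvMat a φ).det = 1 := by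
  have : tvMat a φ = 1 + Matrix.replicateCol Unit a * Matrix.replicateRow Unit φ := by
    ext i j
    simp [tvMat, vecMulVec_apply, Matrix.mul_apply]
  rw [this, Matrix.det_one_add_replicateCol_mul_replicateRow, h, add_zero]

theorem tvGL_mem_specialLinear (a φ : ι → F) (h : φ ⬝ᵥ a = 0) :
    tvGL a φ h ∈ Cfsg.Geo.specialLinear ι F := by
  show Matrix.GeneralLinearGroup.det (tvGL a φ h) = 1
  exact Units.ext (det_tvMat a φ h)

theorem isMaximalIn_of_lt {G : Type*} [Group G] {K H : Subgroup G} (hlt : H < K)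
    (h : ∀ M : Subgroup G, H ≤ M → M ≤ K → ∀ g ∈ M, g ∉ H → K ≤ M) :
    Cfsg.Geo.IsMaximalIn K H := by
  refine ⟨hlt, fun M h1 h2 => ?_⟩
  rcases (h1.eq_or_lt) with h' | h'
  · exact .inl h'.symm
  · obtain ⟨g, hg, hgH⟩ := SetLike.exists_of_lt h'
    exact .inr (le_antisymm h2 (h M h1 h2 g hg hgH))

end CfsgLib.MaxSub
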