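import Cfsg.Agent.Lib.MaxSub.IsoNDTwo

/-!
Unipotent isometries all of whose invariant even-dimensional subspaces have half-dimensional singular parts.
-/

set_option autoImplicit false

namespace CfsgLib.MaxSub.IsoNDUnip

open Matrix CfsgLib CfsgLib.Classical CfsgLib.Geom CfsgLib.MaxSub.IsoType CfsgLib.KnownC CfsgLib.KnownC.OrthType
open QuadraticMap (polar)

universe u v

variable {F : Type u} [Field F]

section

variable {V : Type v} [AddCommGroup V] [Module F V] [FiniteDimensional F V] {Q : QuadraticForm F V}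

/-- Kernel and image of `T - 1` almost totally singular force plus type. -/
theorem hasHalf_of_inv {T : Module.End F V} {S X : Submodule F V} (hS : ∀ w ∈ S, Q w = 0) (hSX : S ≤ X)
    (hX : Module.finrank F X ≤ Module.finrank F S + 1)
    (hN : (LinearMap.ker (T - 1) ≤ S ∧ LinearMap.range (T - 1) ≤ X) ∨
      (LinearMap.ker (T - 1) ≤ X ∧ LinearMap.range (T - 1) ≤ S))
    {W : Submodule F V} (hW : W.map T ≤ W) {k : ℕ} (hd : Module.finrank F W = 2 * k) : HasHalf Q W := by
  have hWN : W.map (T - 1) ≤ W ⊓ LinearMap.range (T - 1) := by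
    rintro _ ⟨w, hw, rfl⟩
    exact ⟨W.sub_mem (hW ⟨w, hw, rfl⟩) hw, w, rfl⟩
  have hrn : Module.finrank F ↥(W.map (T - 1)) + Module.finrank F ↥(W ⊓ LinearMap.ker (T - 1)) = 2 * k := by
    have h := ((T - 1).domRestrict W).finrank_range_add_finrank_ker
    rw [hd, LinearMap.range_domRestrict] at h
    rw [← h]
    congr 1
    rw [LinearMap.ker_domRestrict,
      ← (Submodule.equivMapOfInjective W.subtype W.injective_subtype _).symm.finrank_eq,
      Submodule.map_comap_subtype]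
  have hWX : Module.finrank F ↥(W ⊓ X) ≤ Module.finrank F ↥(W ⊓ S) + 1 := by
    have h := Submodule.finrank_sup_add_finrank_inf_eq (W ⊓ X) S
    rw [inf_assoc, inf_eq_right.2 hSX] at h
    have := Submodule.finrank_mono (sup_le inf_le_right hSX : W ⊓ X ⊔ S ≤ X)
    omega
  have hk : k ≤ Module.finrank F ↥(W ⊓ S) := by
    have h1 := Submodule.finrank_mono hWN
    rcases hN with ⟨hK, hI⟩ | ⟨hK, hI⟩
    · have := Submodule.finrank_mono (inf_le_inf le_rfl hK : W ⊓ LinearMap.ker (T - 1) ≤ W ⊓ S)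
      have := Submodule.finrank_mono (inf_le_inf le_rfl hI : W ⊓ LinearMap.range (T - 1) ≤ W ⊓ X)
      omega
    · have := Submodule.finrank_mono (inf_le_inf le_rfl hK : W ⊓ LinearMap.ker (T - 1) ≤ W ⊓ X)
      have := Submodule.finrank_mono (inf_le_inf le_rfl hI : W ⊓ LinearMap.range (T - 1) ≤ W ⊓ S)
      omega
  obtain ⟨L, hL, hLd⟩ := IsoType.exists_sub_finrank (W ⊓ S) hk
  exact ⟨L, hL.trans inf_le_left, fun w hw => hS w (hL hw).2, by omega⟩

omit [FiniteDimensional F V] in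
/-- `T ^ p = 1` when `(T - 1) ^ p = 0`. -/
theorem pow_char [Nontrivial V] {p : ℕ} [Fact p.Prime] [CharP F p] {T : Module.End F V}
    (h : (T - 1) ^ p = 0) : T ^ p = 1 := by
  haveI : CharP (Module.End F V) p := charP_of_injective_algebraMap (algebraMap F (Module.End F V)).injective p
  rwa [sub_pow_char_of_commute p (Commute.one_right T), one_pow, sub_eq_zero] at h

end

variable [Fintype F] {ι : Type} [Fintype ι] [DecidableEq ι] {Q : QuadraticForm F (ι → F)}

/-- An isometry of order dividing an odd `p` lies in `Ω`. -/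
theorem mem_omega_of_pow (hQ : ∀ x, (∀ y, polar Q x y = 0) → x = 0) (h2 : (2 : F) ≠ 0) {p : ℕ} (hp : Odd p)
    {H : Module.End F (ι → F)} (hH : ∀ v, Q (H v) = Q v) (hHp : H ^ p = 1) :
    ∃ x : GL ι F, x ∈ Cfsg.Geo.omegaGL (⇑Q) ∧ x ^ p = 1 ∧ Matrix.toLin' (x : Matrix ι ι F) = H := by
  classical
  obtain ⟨h, hh⟩ := KnownB.BC.exists_iso Q hQ H hH
  have hx : Matrix.toLin' ((h : GL ι F) : Matrix ι ι F) = H := LinearMap.ext fun v => by
    rw [Matrix.toLin'_apply]; exact hh v
  have hxp : (h : GL ι F) ^ p = 1 := Units.ext (Matrix.toLinAlgEquiv'.injective (by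
    rw [Units.val_pow_eq_pow_val, map_pow, Units.val_one, map_one, ← hHp, ← hx]; rfl))
  obtain ⟨t, ht⟩ := hp
  refine ⟨h, ⟨h ^ (t + 1) * h ^ (t + 1), IsoTwo.sq_mem_omega hQ h2 _, ?_⟩, hxp, hx⟩
  show ((h ^ (t + 1) * h ^ (t + 1) : Cfsg.isometryGroup F (⇑Q)) : GL ι F) = h
  rw [← pow_add, SubgroupClass.coe_pow, show t + 1 + (t + 1) = p + 1 by omega, pow_succ, hxp, one_mul]

end CfsgLib.MaxSub.IsoNDUnip
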