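import Cfsg.Agent.Lib.KnownC.JordanTypeForms
import Cfsg.Agent.Lib.MaxSub.IsoNDUnip
import Cfsg.Agent.Lib.Geom.FormClass

/-!
Jordan types of unipotent isometries in odd characteristic: existence, and the types of invariant
non-degenerate subspaces.
-/

set_option autoImplicit false

namespace CfsgLib.MaxSub.IsoNDJordan

open CfsgLib CfsgLib.Classical CfsgLib.Geom CfsgLib.MaxSub.IsoSemi CfsgLib.MaxSub.IsoType CfsgLib.KnownC
open Matrix
open QuadraticMap (polar)

universe u v

/-- The number of boxes to the right of column `j`. -/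
def tail (μ : Multiset ℕ) (j : ℕ) : ℕ := (μ.map fun e => e - j).sum

theorem tail_zero (μ : Multiset ℕ) : tail μ 0 = μ.sum := by simp [tail]

theorem tail_cons (e : ℕ) (μ : Multiset ℕ) (j : ℕ) : tail (e ::ₘ μ) j = (e - j) + tail μ j := by simp [tail]

theorem tail_count (μ : Multiset ℕ) {e : ℕ} (he : 1 ≤ e) :
    μ.count e + 2 * tail μ e = tail μ (e - 1) + tail μ (e + 1) := by
  induction μ using Multiset.induction_on with
  | empty => simp [tail]
  | cons a μ ih =>
    rw [tail_cons, tail_cons, tail_cons, Multiset.count_cons]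
    split_ifs <;> omega

theorem tail_eq_zero {μ : Multiset ℕ} {p j : ℕ} (hμ : ∀ e ∈ μ, e ≤ p) (hj : p ≤ j) : tail μ j = 0 := by
  refine Multiset.sum_eq_zero fun x hx => ?_
  obtain ⟨e, he, rfl⟩ := Multiset.mem_map.1 hx
  have := hμ e he
  omega

/-- A sub-partition from the ranks on an invariant part. -/
theorem exists_sub {μ : Multiset ℕ} {p : ℕ} (hμ : ∀ e ∈ μ, e ≤ p) (a b : ℕ → ℕ)
    (hab : ∀ j, a j + b j = tail μ j) (ha : ∀ j, 2 * a (j + 1) ≤ a j + a (j + 2))
    (hb : ∀ j, 2 * b (j + 1) ≤ b j + b (j + 2)) (hap : ∀ j, Odd j → Even (a j)) :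
    ∃ ν : Multiset ℕ, ν ≤ μ ∧ ν.sum = a 0 ∧ ∀ e : ℕ, Even e → Even (ν.count e) := by
  obtain ⟨c, hc⟩ : ∃ c : ℕ → ℕ, c = fun i => a i + a (i + 2) - 2 * a (i + 1) := ⟨_, rfl⟩
  have hc' : ∀ i, c i + 2 * a (i + 1) = a i + a (i + 2) := fun i => by
    have := ha i
    simp only [hc]; omega
  obtain ⟨ν, hν⟩ : ∃ ν : ℕ → Multiset ℕ, ν = fun N => ∑ i ∈ Finset.range N, Multiset.replicate (c i) (i + 1) :=
    ⟨_, rfl⟩
  have hsum : ∀ N, (ν N).sum + (N + 1) * a N = a 0 + N * a (N + 1) := fun N => by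
    induction N with
    | zero => simp [hν]
    | succ N ih =>
      have h1 : (ν (N + 1)).sum = (ν N).sum + c N * (N + 1) := by
        simp [hν, Finset.sum_range_succ, Multiset.sum_add, Multiset.sum_replicate]
      have h := hc' N
      rw [h1]
      linear_combination ih + (N + 1) * h
  have hcount : ∀ N e, (ν N).count e = if 1 ≤ e ∧ e ≤ N then c (e - 1) else 0 := fun N e => by
    rw [hν, Multiset.count_sum']
    simp only [Multiset.count_replicate]
    split_ifs with he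
    · rw [Finset.sum_eq_single (e - 1)]
      · rw [if_pos (by omega)]
      · intro i _ hi
        rw [if_neg (by omega)]
      · intro hn
        exact absurd (Finset.mem_range.2 (by omega)) hn
    · refine Finset.sum_eq_zero fun i hi => if_neg fun h => he ?_
      have := Finset.mem_range.1 hi
      omega
  have h0 : ∀ j, p ≤ j → a j = 0 := fun j hj => by
    have := hab j
    rw [tail_eq_zero hμ hj] at this
    omega
  refine ⟨ν p, Multiset.le_iff_count.2 fun e => ?_, ?_, fun e he => ?_⟩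
  · rw [hcount]
    split_ifs with h
    · have h1 := tail_count μ h.1
      rw [← hab, ← hab, ← hab] at h1
      have h2 := hc' (e - 1)
      have h3 := hb (e - 1)
      rw [show e - 1 + 1 = e by omega, show e - 1 + 2 = e + 1 by omega] at h2 h3
      omega
    · exact Nat.zero_le _
  · have := hsum p
    rw [h0 p le_rfl, h0 (p + 1) (by omega)] at this
    simpa using this
  · rw [hcount]
    split_ifs with h
    · have h2 := hc' (e - 1)
      rw [show e - 1 + 1 = e by omega, show e - 1 + 2 = e + 1 by omega] at h2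
      have h3 := Nat.even_iff.1 (hap (e - 1) (Nat.odd_iff.2 (by have := Nat.even_iff.1 he; omega)))
      have h4 := Nat.even_iff.1 (hap (e + 1) he.add_one)
      rw [Nat.even_iff]
      omega
    · exact Even.zero

variable {F : Type u} [Field F] [Fintype F]

section

variable {V : Type v} [AddCommGroup V] [Module F V] [FiniteDimensional F V]

theorem pow_map_le {N : Module.End F V} {W : Submodule F V} (h : W.map N ≤ W) (j : ℕ) : W.map (N ^ j) ≤ W := by
  rintro _ ⟨x, hx, rfl⟩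
  exact pow_apply_mem h j hx

/-- Ranks of powers are convex. -/
theorem convex (N : Module.End F V) {W : Submodule F V} (hW : W.map N ≤ W) (j : ℕ) :
    2 * Module.finrank F ↥(W.map (N ^ (j + 1))) ≤
      Module.finrank F ↥(W.map (N ^ j)) + Module.finrank F ↥(W.map (N ^ (j + 2))) := by
  have hmap : ∀ i, (W.map (N ^ i)).map N = W.map (N ^ (i + 1)) := fun i => by
    rw [pow_succ' N i, Module.End.mul_eq_comp, Submodule.map_comp]
  have hrn : ∀ i, Module.finrank F ↥(W.map (N ^ (i + 1))) + Module.finrank F ↥(W.map (N ^ i) ⊓ LinearMap.ker N) =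
      Module.finrank F ↥(W.map (N ^ i)) := fun i => by
    have h := (N.domRestrict (W.map (N ^ i))).finrank_range_add_finrank_ker
    rw [LinearMap.range_domRestrict, hmap] at h
    rw [← h]
    congr 1
    rw [LinearMap.ker_domRestrict,
      ← (Submodule.equivMapOfInjective _ (W.map (N ^ i)).injective_subtype _).symm.finrank_eq,
      Submodule.map_comap_subtype]
  have h1 := hrn j
  have h2 := hrn (j + 1)
  rw [show j + 1 + 1 = j + 2 from rfl] at h2
  have h3 := Submodule.finrank_mono (inf_le_inf_right (LinearMap.ker N) (show W.map (N ^ (j + 1)) ≤ W.map (N ^ j) by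
    rintro _ ⟨x, hx, rfl⟩
    exact ⟨N x, hW ⟨x, hx, rfl⟩, by rw [pow_succ N j]; rfl⟩))
  omega

variable {Q : QuadraticForm F V}

theorem perp_map_le (hQ : ∀ x, (∀ y, polar Q x y = 0) → x = 0) {T : Module.End F V} (hT : ∀ v, Q (T v) = Q v)
    {W : Submodule F V} (hWi : W.map T ≤ W) :
    (perp Q.polarBilin W).map T ≤ perp Q.polarBilin W := by
  rintro _ ⟨v, hv, rfl⟩ z hz
  have hinj : Function.Injective T := (injective_iff_map_eq_zero T).2 fun x hx => hQ x fun y => by
    rw [← IsoTwo.polar_map hT x y, hx, QuadraticMap.polar_zero_left]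
  have hsurj : W.map T = W := Submodule.eq_of_le_of_finrank_le hWi
    (Submodule.equivMapOfInjective T hinj W).finrank_eq.le
  obtain ⟨z', hz', rfl⟩ : z ∈ W.map T := hsurj.symm ▸ hz
  show polar Q (T z') (T v) = 0
  rw [IsoTwo.polar_map hT]
  exact hv _ hz'

omit [FiniteDimensional F V] in
theorem sub_one_map_le {T : Module.End F V} {W : Submodule F V} (hWi : W.map T ≤ W) : W.map (T - 1) ≤ W := by
  rintro _ ⟨x, hx, rfl⟩
  exact W.sub_mem (hWi ⟨x, hx, rfl⟩) hx

/-- Ranks split along an invariant non-degenerate subspace. -/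
theorem split (hQ : ∀ x, (∀ y, polar Q x y = 0) → x = 0) {T : Module.End F V} (hT : ∀ v, Q (T v) = Q v)
    {W : Submodule F V} (hW : ND Q.polarBilin W) (hWi : W.map T ≤ W) (j : ℕ) :
    Module.finrank F ↥(W.map ((T - 1) ^ j)) + Module.finrank F ↥((perp Q.polarBilin W).map ((T - 1) ^ j)) =
      Module.finrank F ↥(LinearMap.range ((T - 1) ^ j)) := by
  have hc := isCompl_perp (IsoOrth.geom hQ) hW
  have h := Submodule.finrank_sup_add_finrank_inf_eq (W.map ((T - 1) ^ j))
    ((perp Q.polarBilin W).map ((T - 1) ^ j))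
  rw [← Submodule.map_sup, hc.sup_eq_top, Submodule.map_top,
    (disjoint_iff.1 (hc.disjoint.mono (pow_map_le (sub_one_map_le hWi) j)
      (pow_map_le (sub_one_map_le (perp_map_le hQ hT hWi)) j))), finrank_bot] at h
  omega

/-- Odd powers of `T - 1` have even rank on an invariant non-degenerate part. -/
theorem even_rank (h2 : (2 : F) ≠ 0) {T : Module.End F V} (hT : ∀ v, Q (T v) = Q v) {W : Submodule F V}
    (hW : ND Q.polarBilin W) (hWi : W.map T ≤ W) {e : ℕ} (hN : (T - 1) ^ e = 0) (h : ℕ) :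
    Even (Module.finrank F ↥(W.map ((T - 1) ^ (2 * h + 1)))) := by
  classical
  obtain ⟨S, hS⟩ : ∃ S : Module.End F W, S = T.restrict fun x hx => apply_mem hWi hx := ⟨_, rfl⟩
  have hSv : ∀ x : W, ((S x : W) : V) = T x := fun x => by rw [hS]; rfl
  have hSj : ∀ (j : ℕ) (x : W), ((((S - 1) ^ j) x : W) : V) = ((T - 1) ^ j) x := fun j => by
    induction j with
    | zero => simp
    | succ j ih =>
      intro x
      rw [pow_succ', pow_succ', Module.End.mul_apply, Module.End.mul_apply, LinearMap.sub_apply,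
        LinearMap.sub_apply, Module.End.one_apply, Module.End.one_apply, Submodule.coe_sub, hSv, ih]
  obtain ⟨B, hB⟩ : ∃ B, B = (Q.comp W.subtype).polarBilin := ⟨_, rfl⟩
  have hBS : B.compl₁₂ S S = B := by
    refine LinearMap.ext fun x => LinearMap.ext fun y => ?_
    rw [hB]
    show polar (Q.comp W.subtype) (S x) (S y) = polar (Q.comp W.subtype) x y
    simp only [QuadraticMap.polar, QuadraticMap.comp_apply, map_add, Submodule.subtype_apply, hSv]
    rw [← map_add, hT, hT, hT]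
  let b := Module.finBasis F W
  have hJu : IsUnit (LinearMap.toMatrix₂ b b B) := by
    rw [Matrix.isUnit_iff_isUnit_det, isUnit_iff_ne_zero]
    refine (LinearMap.separatingLeft_iff_det_ne_zero b).1 fun x hx => sep_comp hW x fun y => ?_
    rw [← hx y, hB]; rfl
  have hJs : (LinearMap.toMatrix₂ b b B)ᵀ = LinearMap.toMatrix₂ b b B := by
    ext i k
    rw [Matrix.transpose_apply, LinearMap.toMatrix₂_apply, LinearMap.toMatrix₂_apply, hB]
    exact QuadraticMap.polar_comm _ _ _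
  have hA : (LinearMap.toMatrix b b S)ᵀ * LinearMap.toMatrix₂ b b B * LinearMap.toMatrix b b S =
      LinearMap.toMatrix₂ b b B := by
    rw [← LinearMap.toMatrix₂_compl₁₂ b b, hBS]
  have hpow : ∀ j, (LinearMap.toMatrix b b S - 1) ^ j = LinearMap.toMatrix b b ((S - 1) ^ j) := fun j => by
    show (LinearMap.toMatrixAlgEquiv b S - 1) ^ j = LinearMap.toMatrixAlgEquiv b ((S - 1) ^ j)
    rw [map_pow, map_sub, map_one]
  have he := even_rank_pow_odd_of_symm h2 hJu hJs hA ⟨e, by
    rw [hpow, show (S - 1) ^ e = 0 from LinearMap.ext fun x => Subtype.ext (by rw [hSj, hN]; rfl), map_zero]⟩ h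
  rw [hpow, Matrix.rank_eq_finrank_range_toLin _ b b, Matrix.toLin_toMatrix,
    (Submodule.equivMapOfInjective W.subtype W.injective_subtype _).finrank_eq] at he
  rw [show W.map ((T - 1) ^ (2 * h + 1)) = (LinearMap.range ((S - 1) ^ (2 * h + 1))).map W.subtype from ?_]
  · exact he
  refine le_antisymm ?_ ?_
  · rintro _ ⟨x, hx, rfl⟩
    exact ⟨_, ⟨⟨x, hx⟩, rfl⟩, hSj _ _⟩
  · rintro _ ⟨_, ⟨x, rfl⟩, rfl⟩
    exact ⟨x, x.2, (hSj _ _).symm⟩

end

theorem rank_fromBlocks {α β : Type*} [Fintype α] [Fintype β] (M : Matrix α α F) (M' : Matrix β β F) :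
    (Matrix.fromBlocks M 0 0 M').rank = M.rank + M'.rank := by
  classical
  let E := LinearEquiv.sumArrowLequivProdArrow α β F F
  have h : (Matrix.fromBlocks M 0 0 M').mulVecLin =
      E.symm.toLinearMap ∘ₗ (M.mulVecLin.prodMap M'.mulVecLin) ∘ₗ E.toLinearMap := by
    refine LinearMap.ext fun v => funext fun i => ?_
    rw [Matrix.mulVecLin_apply, Matrix.fromBlocks_mulVec]
    rcases i with i | i <;> simp [E, Function.comp_def] <;> rfl
  rw [Matrix.rank, h, LinearMap.range_comp, LinearMap.range_comp, LinearEquiv.range, Submodule.map_top,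
    LinearEquiv.finrank_map_eq, LinearMap.range_prodMap, LinearEquiv.finrank_eq (show
      ((LinearMap.range M.mulVecLin).prod (LinearMap.range M'.mulVecLin)) ≃ₗ[F]
        (LinearMap.range M.mulVecLin × LinearMap.range M'.mulVecLin) from
      { toFun := fun x => (⟨x.1.1, x.2.1⟩, ⟨x.1.2, x.2.2⟩)
        map_add' := fun x y => rfl
        map_smul' := fun c x => rfl
        invFun := fun y => ⟨(y.1.1, y.2.1), y.1.2, y.2.2⟩
        left_inv := fun x => rfl
        right_inv := fun y => rfl }), Module.finrank_prod]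
  rfl

variable {ι : Type} [Fintype ι] [DecidableEq ι]

/-- A unipotent isometry of any given type with an odd part. -/
theorem exists_of_type (h2 : (2 : F) ≠ 0) {Q : QuadraticForm F (ι → F)}
    (hQ : ∀ x, (∀ y, polar Q x y = 0) → x = 0) {μ : Multiset ℕ} (hpos : ∀ e ∈ μ, 0 < e)
    (heven : ∀ e : ℕ, Even e → Even (μ.count e)) (hsum : μ.sum = Fintype.card ι) (hodd : ∃ e ∈ μ, Odd e) :
    ∃ T : Module.End F (ι → F), (∀ v, Q (T v) = Q v) ∧
      ∀ j, Module.finrank F ↥(LinearMap.range ((T - 1) ^ j)) = tail μ j := by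
  classical
  obtain ⟨e₀, he₀, he₀o⟩ := hodd
  obtain ⟨ρ, rfl⟩ := Multiset.exists_cons_of_mem he₀
  obtain ⟨t, d, rfl⟩ : ∃ (t : ℕ) (d : Fin t → ℕ), ρ = Finset.univ.val.map d :=
    ⟨_, ρ.toList.get, by rw [Fin.univ_val_map, List.ofFn_get, Multiset.coe_toList]⟩
  have hd : ∀ k, 1 ≤ d k := fun k => hpos _ (Multiset.mem_cons_of_mem (Multiset.mem_map.2 ⟨k, Finset.mem_univ k, rfl⟩))
  have he₀1 : 1 ≤ e₀ := hpos _ (Multiset.mem_cons_self _ _)
  obtain ⟨P, hPu, hPs, hP⟩ := exists_single_symm (F := F) he₀1 he₀o h2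
  obtain ⟨G, hGu, hGs, hG⟩ := exists_symm_form_of_even (F := F) d hd h2 fun j hj _ => by
    have h := heven j hj
    rw [Multiset.count_cons_of_ne (fun he : j = e₀ => Nat.not_even_iff_odd.2 he₀o (he ▸ hj)), Multiset.count_map] at h
    simpa [Finset.card_def, Finset.filter_val, eq_comm] using h
  let κ := Fin e₀ ⊕ ((k : Fin t) × Fin (d k))
  obtain ⟨e⟩ : Nonempty (κ ≃ ι) := ⟨Fintype.equivOfCardEq (by
    rw [← hsum, Multiset.sum_cons]; simp [κ, Finset.sum])⟩
  let b : Module.Basis ι F (ι → F) := Pi.basisFun F ι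
  obtain ⟨D, hD⟩ : ∃ D, D = (LinearMap.toMatrix₂ b b Q.polarBilin).det := ⟨_, rfl⟩
  have hD0 : D ≠ 0 := by
    rw [hD]
    exact (LinearMap.separatingLeft_iff_det_ne_zero b).1 fun x hx => hQ x hx
  have hP0 : P.det ≠ 0 := ((Matrix.isUnit_iff_isUnit_det _).1 hPu).ne_zero
  have hG0 : G.det ≠ 0 := ((Matrix.isUnit_iff_isUnit_det _).1 hGu).ne_zero
  obtain ⟨c, hc⟩ : ∃ c, c = P.det * G.det * D := ⟨_, rfl⟩
  have hc0 : c ≠ 0 := by rw [hc]; exact mul_ne_zero (mul_ne_zero hP0 hG0) hD0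
  obtain ⟨J, hJ⟩ : ∃ J : Matrix κ κ F, J = Matrix.fromBlocks (c • P) 0 0 G := ⟨_, rfl⟩
  obtain ⟨A, hA⟩ : ∃ A : Matrix κ κ F,
      A = Matrix.fromBlocks (Cfsg.jordanBlock e₀ F) 0 0 (Cfsg.jordanTypeMatrix d F) := ⟨_, rfl⟩
  have hJA : Aᵀ * J * A = J := by
    rw [hA, hJ, Matrix.fromBlocks_transpose, Matrix.fromBlocks_multiply, Matrix.fromBlocks_multiply]
    simp [Matrix.mul_smul, hP, hG]
  have hJs : Jᵀ = J := by rw [hJ, Matrix.fromBlocks_transpose]; simp [hPs, hGs]
  have hJd : J.det = c ^ e₀ * (P.det * G.det) := by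
    rw [hJ, Matrix.det_fromBlocks_zero₂₁, Matrix.det_smul, Fintype.card_fin, mul_assoc]
  obtain ⟨Q₀, hQ₀⟩ : ∃ Q₀ : QuadraticForm F (κ → F), ∀ v, Q₀ v = (2 : F)⁻¹ * (v ⬝ᵥ J *ᵥ v) :=
    ⟨(Matrix.toBilin' ((2 : F)⁻¹ • J)).toQuadraticMap, fun v => by
      rw [LinearMap.BilinMap.toQuadraticMap_apply, Matrix.toBilin'_apply', Matrix.smul_mulVec, dotProduct_smul,
        smul_eq_mul]⟩
  have hpol : ∀ x y, polar Q₀ x y = x ⬝ᵥ J *ᵥ y := fun x y => by
    have hs : y ⬝ᵥ J *ᵥ x = x ⬝ᵥ J *ᵥ y := by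
      conv_rhs => rw [← hJs, Matrix.mulVec_transpose, dotProduct_comm, ← Matrix.dotProduct_mulVec]
    simp only [QuadraticMap.polar, hQ₀, Matrix.mulVec_add, add_dotProduct, dotProduct_add, hs]
    field_simp
    ring
  have hJd0 : J.det ≠ 0 := by rw [hJd]; exact mul_ne_zero (pow_ne_zero _ hc0) (mul_ne_zero hP0 hG0)
  have hQ₀s : ∀ x, (∀ y, polar Q₀ x y = 0) → x = 0 := fun x hx => by
    refine Matrix.eq_zero_of_vecMul_eq_zero hJd0 (funext fun i => ?_)
    have h := hx (Pi.single i 1)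
    rw [hpol, Matrix.dotProduct_mulVec, dotProduct_single, mul_one] at h
    exact h
  obtain ⟨f, hf⟩ := exists_isometry_of_disc Q₀ Q h2 hQ₀s hQ ((Pi.basisFun F κ).reindex e) b (by
    rw [show LinearMap.toMatrix₂ ((Pi.basisFun F κ).reindex e) ((Pi.basisFun F κ).reindex e) Q₀.polarBilin =
      J.submatrix e.symm e.symm by
        ext i k
        rw [LinearMap.toMatrix₂_apply, QuadraticMap.polarBilin_apply_apply, hpol]
        simp [Pi.basisFun_apply, Matrix.mulVec_single], Matrix.det_submatrix_equiv_self, hJd, ← hD,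
      show c ^ e₀ * (P.det * G.det) * D = c ^ (e₀ + 1) by rw [pow_succ, hc]; ring]
    exact he₀o.add_one.isSquare_pow c)
  have hS : ∀ v, Q₀ (Matrix.toLinAlgEquiv' A v) = Q₀ v := fun v => by
    rw [hQ₀, hQ₀, Matrix.toLinAlgEquiv'_apply]
    congr 1
    conv_rhs => rw [← hJA, ← Matrix.mulVec_mulVec, ← Matrix.mulVec_mulVec, Matrix.dotProduct_mulVec,
      Matrix.vecMul_transpose]
  obtain ⟨S, hSA⟩ : ∃ S, S = Matrix.toLinAlgEquiv' A := ⟨_, rfl⟩
  obtain ⟨T, hT⟩ : ∃ T : Module.End F (ι → F), T = f.toLinearMap ∘ₗ S ∘ₗ f.symm.toLinearMap := ⟨_, rfl⟩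
  refine ⟨T, fun v => ?_, fun j => ?_⟩
  · obtain ⟨x, rfl⟩ := f.surjective v
    rw [show T (f x) = f (S x) by simp [hT], hf, hf, hSA, hS]
  have hTS : ∀ (i : ℕ) (x : κ → F), ((T - 1) ^ i) (f x) = f (((S - 1) ^ i) x) := fun i => by
    induction i with
    | zero => simp
    | succ i ih =>
      intro x
      rw [pow_succ', pow_succ', Module.End.mul_apply, Module.End.mul_apply, ih, LinearMap.sub_apply,
        LinearMap.sub_apply, map_sub f]
      simp [hT]
  have hr : LinearMap.range ((T - 1) ^ j) = (LinearMap.range ((S - 1) ^ j)).map f.toLinearMap := by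
    refine le_antisymm ?_ ?_
    · rintro _ ⟨v, rfl⟩
      obtain ⟨x, rfl⟩ := f.surjective v
      exact ⟨_, ⟨x, rfl⟩, (hTS j x).symm⟩
    · rintro _ ⟨_, ⟨x, rfl⟩, rfl⟩
      exact ⟨f x, hTS j x⟩
  rw [hr, LinearEquiv.finrank_map_eq, hSA,
    show (Matrix.toLinAlgEquiv' A - 1) ^ j = Matrix.toLinAlgEquiv' ((A - 1) ^ j) by rw [map_pow, map_sub, map_one]]
  show ((A - 1) ^ j).rank = _
  rw [hA, ← Matrix.fromBlocks_one, show Matrix.fromBlocks (Cfsg.jordanBlock e₀ F) 0 0 (Cfsg.jordanTypeMatrix d F) -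
      Matrix.fromBlocks (1 : Matrix (Fin e₀) (Fin e₀) F) 0 0 1 = Matrix.fromBlocks (Cfsg.jordanBlock e₀ F - 1) 0 0
      (Cfsg.jordanTypeMatrix d F - 1) by ext (i | i) (k | k) <;> simp [Matrix.one_apply],
    Matrix.fromBlocks_diagonal_pow, rank_fromBlocks, (isRegNil_jordanBlock he₀1).rank_pow, Fintype.card_fin,
    rank_jordanType_pow d hd, tail_cons]
  simp [tail, Finset.sum, Function.comp_def]

end CfsgLib.MaxSub.IsoNDJordan
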