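import Cfsg.Agent.Lib.MaxSub.BlockMono
import Cfsg.Agent.Lib.MaxSub.Dual
import Mathlib.Algebra.Group.Pi.Units

/-!
Overgroups in `SL` of the stabiliser of a decomposition into components of dimension at least two.
-/

set_option autoImplicit false
set_option linter.unusedSectionVars false

namespace CfsgLib.MaxSub.DecompMax

open Matrix CfsgLib.MaxSub
open scoped MatrixGroups

variable {μ κ : Type} [Fintype μ] [DecidableEq μ] [Fintype κ] [DecidableEq κ] {F : Type*} [Field F]

/-- A vector placed in the component `i`. -/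
def emb (i : κ) (x : μ → F) : μ × κ → F := fun p => if p.2 = i then x p.1 else 0

/-- The component `i` of a vector. -/
def part (i : κ) (v : μ × κ → F) : μ → F := fun k => v (k, i)

@[simp] theorem part_emb (i : κ) (x : μ → F) : part i (emb i x) = x := by
  funext k; simp [part, emb]

theorem part_emb_ne {i j : κ} (h : j ≠ i) (x : μ → F) : part j (emb i x) = 0 := by
  funext k; simp [part, emb, h]

theorem emb_ne_zero {i : κ} {x : μ → F} (h : x ≠ 0) : emb i x ≠ 0 := fun e => h (by
  have := congrArg (part i) e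
  rwa [part_emb] at this)

theorem emb_add (i : κ) (x y : μ → F) : emb i (x + y) = emb i x + emb i y := by
  funext p; by_cases h : p.2 = i <;> simp [emb, h]

theorem emb_smul (i : κ) (c : F) (x : μ → F) : emb i (c • x) = c • emb i x := by
  funext p; by_cases h : p.2 = i <;> simp [emb, h]

theorem emb_single (i : κ) (k : μ) (c : F) : emb i (Pi.single k c) = Pi.single (k, i) c := by
  funext p
  obtain ⟨l, j⟩ := p
  by_cases h : j = i
  · subst h
    by_cases hl : l = k
    · subst hl; simp [emb]
    · simp [emb, hl]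
  · simp [emb, h]

theorem dot_emb (φ : μ × κ → F) (i : κ) (x : μ → F) : φ ⬝ᵥ emb i x = part i φ ⬝ᵥ x := by
  simp only [dotProduct, emb, part]
  rw [Fintype.sum_prod_type]
  refine Finset.sum_congr rfl fun k _ => ?_
  simp

theorem emb_dot (φ : μ × κ → F) (i : κ) (x : μ → F) : emb i x ⬝ᵥ φ = x ⬝ᵥ part i φ := by
  rw [dotProduct_comm, dot_emb, dotProduct_comm]

theorem exists_ortho (x : μ → F) {p q : μ} (hpq : p ≠ q) : ∃ α, α ≠ 0 ∧ α ⬝ᵥ x = 0 := by
  by_cases h : x p = 0
  · exact ⟨Pi.single p 1, by simp, by simp [h]⟩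
  · refine ⟨Pi.single q (x p) - Pi.single p (x q), fun e => ?_, ?_⟩
    · have := congrFun e q
      simp [hpq.symm, h] at this
    · simp [sub_dotProduct, mul_comm]

/-- The block diagonal element. -/
noncomputable def blockGL : (κ → GL μ F) →* GL (μ × κ) F :=
  (Units.map (Matrix.blockDiagonalRingHom μ κ F).toMonoidHom).comp
    (MulEquiv.piUnits (M := fun _ : κ => Matrix μ μ F)).symm.toMonoidHom

@[simp] theorem coe_blockGL (h : κ → GL μ F) :
    (blockGL h : Matrix (μ × κ) (μ × κ) F) = Matrix.blockDiagonal fun i => (h i : Matrix μ μ F) := rfl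

theorem part_blockGL_mulVec (h : κ → GL μ F) (v : μ × κ → F) (i : κ) :
    part i ((blockGL h : Matrix (μ × κ) (μ × κ) F) *ᵥ v) = (h i : Matrix μ μ F) *ᵥ part i v := by
  funext k
  simp only [part, coe_blockGL, mulVec, dotProduct]
  rw [Fintype.sum_prod_type]
  refine Finset.sum_congr rfl fun l _ => ?_
  rw [Finset.sum_eq_single i]
  · simp [blockDiagonal_apply]
  · intro j _ hj
    simp [blockDiagonal_apply, Ne.symm hj]
  · simp

theorem part_vecMul_blockGL (h : κ → GL μ F) (v : μ × κ → F) (i : κ) :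
    part i (v ᵥ* (blockGL h : Matrix (μ × κ) (μ × κ) F)) = part i v ᵥ* (h i : Matrix μ μ F) := by
  funext k
  simp only [part, coe_blockGL, vecMul, dotProduct]
  rw [Fintype.sum_prod_type]
  refine Finset.sum_congr rfl fun l _ => ?_
  rw [Finset.sum_eq_single i]
  · simp [blockDiagonal_apply]
  · intro j _ hj
    simp [blockDiagonal_apply, hj]
  · simp

/-- Every element of the decomposition stabiliser in `SL` lies in `M`. -/
def HasBlocks (M : Subgroup (GL (μ × κ) F)) : Prop :=
  ∀ g ∈ Cfsg.Geo.specialLinear (μ × κ) F, IsBlockMono Prod.snd (g : Matrix (μ × κ) (μ × κ) F) → g ∈ M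

variable {M : Subgroup (GL (μ × κ) F)}

theorem HasBlocks.tv (hM : HasBlocks M) {i : κ} {u α : μ → F} (h : α ⬝ᵥ u = 0) :
    HasTv M (emb i u) (emb i α) := by
  have h0 : emb i α ⬝ᵥ emb i u = 0 := by rw [dot_emb, part_emb, h]
  refine (hasTv_iff h0).2 (hM _ (tvGL_mem_specialLinear _ _ h0) fun a => ⟨a, fun p q hp hq => ?_⟩)
  rw [coe_tvGL, tvMat, Matrix.add_apply, vecMulVec_apply,
    Matrix.one_apply_ne (fun e => hq ((congrArg Prod.snd e).trans hp))]
  simp only [emb]
  by_cases hpi : p.2 = i
  · rw [if_neg fun e => hq (e.trans (hpi.symm.trans hp)), zero_mul, add_zero]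
  · rw [if_neg hpi, mul_zero, add_zero]

/-- A transvection with centre in one component and functional outside gives all of them. -/
theorem full_pair (hM : HasBlocks M) {p₀ q₀ : μ} (hpq : p₀ ≠ q₀) {i j : κ} (hij : i ≠ j) {a : μ → F}
    (ha : a ≠ 0) {φ : μ × κ → F} (h : HasTv M (emb i a) φ) (hi : part i φ = 0)
    (hj : part j φ ≠ 0) (x y : μ → F) : HasTv M (emb i x) (emb j y) := by
  classical
  -- all centres
  have hcentre : ∀ x, HasTv M (emb i x) φ := by
    have off : ∀ v, a ∉ Submodule.span F {v} → HasTv M (emb i v) φ := by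
      intro v hv
      obtain ⟨α, h1, h2⟩ := exists_dot_eq_zero_of_notMem hv
      rw [dotProduct_comm] at h1 h2
      have hc := h.conj_tv (hM.tv (i := i) h1)
      rw [emb_dot, part_emb, h2, one_smul, dot_emb, hi, zero_dotProduct, zero_smul, sub_zero,
        ← emb_add] at hc
      have hneg : HasTv M (-emb i a) φ := by
        rw [← neg_one_smul F (emb i a), hasTv_smul_iff (by simp), neg_one_smul]
        exact h.neg
      have := hc.add_left hneg
      rwa [emb_add, add_neg_cancel_comm] at this
    intro x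
    by_cases hxa : a ∈ Submodule.span F {x}
    · obtain ⟨c, hc⟩ := Submodule.mem_span_singleton.1 hxa
      have hc0 : c ≠ 0 := fun e => ha (by rw [← hc, e, zero_smul])
      obtain ⟨k, hk⟩ := Function.ne_iff.1 ha
      obtain ⟨w, hw⟩ : ∃ w : μ → F, w ∉ Submodule.span F {a} := by
        obtain ⟨β, hβ, hβa⟩ := exists_ortho a hpq
        obtain ⟨w, hw⟩ := exists_dot_ne hβ
        refine ⟨w, fun hmem => ?_⟩
        obtain ⟨d, hd⟩ := Submodule.mem_span_singleton.1 hmem
        rw [← hd, dotProduct_smul, hβa, smul_zero] at hw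
        exact zero_ne_one hw
      have h1 : a ∉ Submodule.span F {w} := fun hmem => by
        obtain ⟨d, hd⟩ := Submodule.mem_span_singleton.1 hmem
        exact hw (Submodule.mem_span_singleton.2 ⟨d⁻¹, by
          rw [← hd, smul_smul, inv_mul_cancel₀ (fun e => ha (by rw [← hd, e, zero_smul])), one_smul]⟩)
      have hxw : a ∉ Submodule.span F {x - w} := fun hmem => by
        obtain ⟨d, hd⟩ := Submodule.mem_span_singleton.1 hmem
        have hd0 : d ≠ 0 := fun e => ha (by rw [← hd, e, zero_smul])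
        refine hw (Submodule.mem_span_singleton.2 ⟨c⁻¹ - d⁻¹, ?_⟩)
        have e1 : x = c⁻¹ • a := by rw [← hc, smul_smul, inv_mul_cancel₀ hc0, one_smul]
        have e2 : x - w = d⁻¹ • a := by rw [← hd, smul_smul, inv_mul_cancel₀ hd0, one_smul]
        rw [sub_smul, ← e1, ← e2, sub_sub_cancel]
      have := (off _ h1).add_left (off _ hxw)
      rwa [← emb_add, add_sub_cancel] at this
    · exact off x hxa
  -- all functionals in the component `j`
  have hdual : ∀ β, part j φ ∉ Submodule.span F {β} → HasTv M (emb i x) (emb j β) := by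
    intro β hβ
    obtain ⟨w, hw1, hw2⟩ := exists_dot_eq_zero_of_notMem hβ
    have hc := (hcentre x).conj_tv (hM.tv (i := j) hw1)
    rw [emb_dot, part_emb_ne hij.symm, dotProduct_zero, zero_smul, add_zero, dot_emb, hw2,
      one_smul] at hc
    have := (hcentre x).sub hc
    rwa [sub_sub_cancel] at this
  by_cases hy : part j φ ∈ Submodule.span F {y}
  · obtain ⟨c, hc⟩ := Submodule.mem_span_singleton.1 hy
    have hc0 : c ≠ 0 := fun e => hj (by rw [← hc, e, zero_smul])
    obtain ⟨β, hβ, hβa⟩ := exists_ortho (part j φ) hpq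
    obtain ⟨w, hw⟩ := exists_dot_ne hβ
    have hw' : w ∉ Submodule.span F {part j φ} := fun hmem => by
      obtain ⟨d, hd⟩ := Submodule.mem_span_singleton.1 hmem
      rw [← hd, dotProduct_smul, hβa, smul_zero] at hw
      exact zero_ne_one hw
    have h1 : part j φ ∉ Submodule.span F {w} := fun hmem => by
      obtain ⟨d, hd⟩ := Submodule.mem_span_singleton.1 hmem
      exact hw' (Submodule.mem_span_singleton.2 ⟨d⁻¹, by
        rw [← hd, smul_smul, inv_mul_cancel₀ (fun e => hj (by rw [← hd, e, zero_smul])), one_smul]⟩)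
    have h2 : part j φ ∉ Submodule.span F {y - w} := fun hmem => by
      obtain ⟨d, hd⟩ := Submodule.mem_span_singleton.1 hmem
      have hd0 : d ≠ 0 := fun e => hj (by rw [← hd, e, zero_smul])
      refine hw' (Submodule.mem_span_singleton.2 ⟨c⁻¹ - d⁻¹, ?_⟩)
      have e1 : y = c⁻¹ • part j φ := by rw [← hc, smul_smul, inv_mul_cancel₀ hc0, one_smul]
      have e2 : y - w = d⁻¹ • part j φ := by rw [← hd, smul_smul, inv_mul_cancel₀ hd0, one_smul]
      rw [sub_smul, ← e1, ← e2, sub_sub_cancel]
    have := (hdual _ h1).add (hdual _ h2)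
    rwa [← emb_add, add_sub_cancel] at this
  · exact hdual y hy

/-- Moving the pair of components by permutations. -/
theorem sl_le_of_full_pair (hM : HasBlocks M) {p₀ : μ} {i j : κ} (hij : i ≠ j)
    (h : ∀ x y : μ → F, HasTv M (emb i x) (emb j y)) :
    Cfsg.Geo.specialLinear (μ × κ) F ≤ M := by
  classical
  refine specialLinear_le_of_hasTv ?_
  rintro ⟨k, a⟩ ⟨l, b⟩ hne c
  by_cases hab : a = b
  · subst hab
    rw [← emb_single, ← emb_single]
    refine hM.tv ?_
    simp [show k ≠ l from fun e => hne (by rw [e])]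
  let τ : Equiv.Perm κ := Equiv.swap (Equiv.swap i a j) b * Equiv.swap i a
  have hτi : τ i = a := by
    show Equiv.swap (Equiv.swap i a j) b (Equiv.swap i a i) = a
    rw [Equiv.swap_apply_left, Equiv.swap_apply_of_ne_of_ne ?_ hab]
    intro e
    exact hij ((Equiv.swap i a).injective ((Equiv.swap_apply_left i a).trans e))
  have hτj : τ j = b := Equiv.swap_apply_left _ _
  let σ : Equiv.Perm (μ × κ) := (Equiv.refl μ).prodCongr τ
  set s : F := ((Equiv.Perm.sign σ : ℤ) : F) with hs
  have hss : s * s = 1 := by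
    rw [hs, ← Int.cast_mul, ← Units.val_mul, Int.units_mul_self]
    simp
  have hs0 : s ≠ 0 := left_ne_zero_of_mul (hss ▸ one_ne_zero)
  let d : μ × κ → F := Function.update (fun _ => 1) (p₀, i) s
  have hd : ∀ p, d p ≠ 0 := fun p => by by_cases e : p = (p₀, i) <;> simp [d, e, hs0]
  have hmem : monGL σ d hd ∈ M := hM _ ((mem_sl_iff _).2 (by
      rw [coe_monGL, det_monMat, prod_update_one]; exact hss))
    (isBlockMono_monMat Prod.snd σ τ (fun _ => rfl) d)
  have h' := hasTv_monConj (h (fun m => if m = k then c / d (k, i) else 0)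
    (fun m => if m = l then d (l, j) else 0)) hmem
  convert h' using 1
  · funext p
    obtain ⟨m, e⟩ := p
    have hinv : σ⁻¹ (m, e) = (m, τ⁻¹ e) := rfl
    rw [hinv]
    by_cases he : e = a
    · rw [he]
      rw [show τ⁻¹ a = i from Equiv.Perm.inv_eq_iff_eq.2 hτi.symm]
      by_cases hm : m = k
      · subst hm
        simp [emb, mul_div_cancel₀ _ (hd _)]
      · simp [emb, hm]
    · have : τ⁻¹ e ≠ i := fun e' => he (by rw [← hτi, ← e']; exact (τ.apply_symm_apply e).symm)
      simp only [emb, if_neg this, mul_zero]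
      exact Pi.single_eq_of_ne (fun e' => he (congrArg Prod.snd e')) _
  · funext p
    obtain ⟨m, e⟩ := p
    have hinv : σ⁻¹ (m, e) = (m, τ⁻¹ e) := rfl
    rw [hinv]
    by_cases he : e = b
    · rw [he]
      rw [show τ⁻¹ b = j from Equiv.Perm.inv_eq_iff_eq.2 hτj.symm]
      by_cases hm : m = l
      · subst hm
        simp [emb, div_self (hd _)]
      · simp [emb, hm]
    · have : τ⁻¹ e ≠ j := fun e' => he (by rw [← hτj, ← e']; exact (τ.apply_symm_apply e).symm)
      simp only [emb, if_neg this, zero_div]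
      exact Pi.single_eq_of_ne (fun e' => he (congrArg Prod.snd e')) _

theorem exists_blockGL_transfer {i : κ} {b u : μ → F} {ψ : μ → F} (hb : ψ ⬝ᵥ b = 0)
    (hu : ψ ⬝ᵥ u = 1) {lam : F} (hlam : lam ≠ 0) (hb0 : b ≠ 0) :
    ∃ h : GL μ F, (h : Matrix μ μ F) *ᵥ b = u ∧
      ((h⁻¹ : GL μ F) : Matrix μ μ F) *ᵥ b = (-lam⁻¹) • u := by
  classical
  have hnu : b ∉ Submodule.span F {u} := fun hmem => by
    obtain ⟨d, hd⟩ := Submodule.mem_span_singleton.1 hmem
    rw [← hd, dotProduct_smul, hu, smul_eq_mul, mul_one] at hb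
    exact hb0 (by rw [← hd, hb, zero_smul])
  obtain ⟨β, hβu, hβb⟩ := exists_dot_eq_zero_of_notMem hnu
  rw [dotProduct_comm] at hβu hβb
  set H : Matrix μ μ F := 1 + vecMulVec (u - b) β + vecMulVec (-lam • b - u) ψ with hH
  set H' : Matrix μ μ F := 1 + vecMulVec (-lam⁻¹ • u - b) β + vecMulVec (b - u) ψ with hH'
  have hHb : H *ᵥ b = u := by
    rw [hH]; simp [add_mulVec, vecMulVec_mulVec, hβb, hb]
  have hHu : H *ᵥ u = -lam • b := by
    rw [hH]; simp [add_mulVec, vecMulVec_mulVec, hβu, hu]
  have hH'b : H' *ᵥ b = -lam⁻¹ • u := by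
    rw [hH']; simp [add_mulVec, vecMulVec_mulVec, hβb, hb]
  have hH'u : H' *ᵥ u = b := by
    rw [hH']; simp [add_mulVec, vecMulVec_mulVec, hβu, hu]
  have hgen : ∀ v, H' *ᵥ (H *ᵥ v) = v := by
    intro v
    have e : H *ᵥ v = v + (β ⬝ᵥ v) • (u - b) + (ψ ⬝ᵥ v) • (-lam • b - u) := by
      rw [hH]; simp [add_mulVec, vecMulVec_mulVec]
    have e' : H' *ᵥ v = v + (β ⬝ᵥ v) • (-lam⁻¹ • u - b) + (ψ ⬝ᵥ v) • (b - u) := by
      rw [hH']; simp [add_mulVec, vecMulVec_mulVec]
    rw [e, mulVec_add, mulVec_add, mulVec_smul, mulVec_smul, mulVec_sub, mulVec_sub, mulVec_smul,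
      hH'b, hH'u, e', smul_smul, neg_mul_neg, mul_inv_cancel₀ hlam, one_smul]
    module
  have hinv : H' * H = 1 := Matrix.ext_of_mulVec_single fun k => by
    rw [← mulVec_mulVec, hgen, one_mulVec]
  exact ⟨⟨H, H', mul_eq_one_comm.1 hinv, hinv⟩, hHb, hH'b⟩

theorem exists_blockGL_det {b : μ → F} {p q : μ} (hpq : p ≠ q) {D : F} (hD : D ≠ 0) :
    ∃ h : GL μ F, (h : Matrix μ μ F) *ᵥ b = b ∧ (h : Matrix μ μ F).det = D := by
  obtain ⟨χ, hχ0, hχ⟩ := exists_ortho b hpq
  obtain ⟨w, hw⟩ := exists_dot_ne hχ0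
  set H : Matrix μ μ F := 1 + vecMulVec ((D - 1) • w) χ with hH
  have hdet : H.det = D := by
    have e : H = 1 + replicateCol Unit ((D - 1) • w) * replicateRow Unit χ := by
      ext k l
      simp [hH, vecMulVec_apply, Matrix.mul_apply]
    rw [e, det_one_add_replicateCol_mul_replicateRow, dotProduct_smul, hw]
    simp
  refine ⟨Matrix.GeneralLinearGroup.mk'' H (by rw [hdet]; exact isUnit_iff_ne_zero.2 hD), ?_, hdet⟩
  show H *ᵥ b = b
  rw [hH, add_mulVec, one_mulVec, vecMulVec_mulVec, hχ]
  simp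

/-- Overgroups of the stabiliser of a decomposition with components of dimension at least two. -/
theorem sl_le_blocks [Fintype F] (hM : HasBlocks M) (hμ : 2 ≤ Fintype.card μ)
    (hn : 6 ≤ Fintype.card μ * Fintype.card κ)
    (hex : ¬ (Fintype.card μ = 2 ∧ Fintype.card F = 2)) {g : GL (μ × κ) F} (hg : g ∈ M)
    (hnm : ¬ IsBlockMono Prod.snd (g : Matrix (μ × κ) (μ × κ) F)) :
    Cfsg.Geo.specialLinear (μ × κ) F ≤ M := by
  classical
  obtain ⟨p₀, q₀, hpq⟩ := Fintype.one_lt_card_iff.1 (by omega : 1 < Fintype.card μ)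
  -- a vector of one component moved into two components
  obtain ⟨a, x, p, q, hpq', hp, hq⟩ : ∃ (a : κ) (x : μ → F) (p q : κ), p ≠ q ∧
      part p ((g : Matrix (μ × κ) (μ × κ) F) *ᵥ emb a x) ≠ 0 ∧
      part q ((g : Matrix (μ × κ) (μ × κ) F) *ᵥ emb a x) ≠ 0 := by
    by_contra hno
    push Not at hno
    refine hnm fun a => ?_
    by_cases hz : ∃ k r, part r ((g : Matrix (μ × κ) (μ × κ) F) *ᵥ emb a (Pi.single k 1)) ≠ 0
    · obtain ⟨k, r, hr⟩ := hz
      refine ⟨r, fun P Q hP hQ => ?_⟩
      obtain ⟨l, a'⟩ := P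
      obtain ⟨m, s⟩ := Q
      subst hP
      have h1 := hno a' (Pi.single k 1) r s (Ne.symm hQ) hr
      by_contra hne
      have h2 : part s ((g : Matrix (μ × κ) (μ × κ) F) *ᵥ emb a' (Pi.single l 1)) ≠ 0 := by
        intro e
        exact hne (by simpa [part, emb_single] using congrFun e m)
      have h3 := hno a' (Pi.single l 1) s r hQ h2
      have hsum : ∀ w, part w ((g : Matrix (μ × κ) (μ × κ) F) *ᵥ
          emb a' (Pi.single k (1 : F) + Pi.single l 1)) =
          part w ((g : Matrix (μ × κ) (μ × κ) F) *ᵥ emb a' (Pi.single k 1)) +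
          part w ((g : Matrix (μ × κ) (μ × κ) F) *ᵥ emb a' (Pi.single l 1)) := fun w => by
        rw [emb_add, mulVec_add]; rfl
      refine h2 ?_
      have := hno a' (Pi.single k 1 + Pi.single l 1) r s (Ne.symm hQ) (by rw [hsum, h3, add_zero]; exact hr)
      rwa [hsum, h1, zero_add] at this
    · push Not at hz
      exact ⟨a, fun P Q hP _ => by
        obtain ⟨l, a'⟩ := P
        obtain ⟨m, s⟩ := Q
        subst hP
        simpa [part, emb_single] using congrFun (hz l s) m⟩
  obtain ⟨α, hα0, hα⟩ := exists_ortho x hpq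
  set b := (g : Matrix (μ × κ) (μ × κ) F) *ᵥ emb a x with hbdef
  set ψ := emb a α ᵥ* ((g⁻¹ : GL (μ × κ) F) : Matrix (μ × κ) (μ × κ) F) with hψdef
  have hT : ∀ c : F, HasTv M b (c • ψ) := fun c => by
    have h := (hM.tv (i := a) (u := x) (α := c • α) (by rw [smul_dotProduct, hα, smul_zero])).conj hg
    rw [emb_smul, smul_vecMul] at h
    exact h
  have hT1 : HasTv M b ψ := by simpa using hT 1
  have hψ0 : ψ ≠ 0 := fun e => emb_ne_zero (i := a) hα0 (by
    have := congrArg (· ᵥ* (g : Matrix (μ × κ) (μ × κ) F)) e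
    simp only [hψdef, vecMul_vecMul, ← Units.val_mul, inv_mul_cancel, Units.val_one, vecMul_one,
      zero_vecMul] at this
    exact this)
  obtain ⟨l, hl⟩ : ∃ l, part l ψ ≠ 0 := by
    by_contra h
    push Not at h
    exact hψ0 (funext fun P => congrFun (h P.2) P.1)
  obtain ⟨i, hib, hil⟩ : ∃ i, part i b ≠ 0 ∧ i ≠ l := by
    by_cases e : p = l
    · exact ⟨q, hq, fun e' => hpq' (e.trans e'.symm)⟩
    · exact ⟨p, hp, e⟩
  have finish : ∀ a : μ → F, a ≠ 0 → ∀ φ, HasTv M (emb i a) φ → part l φ ≠ 0 →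
      Cfsg.Geo.specialLinear (μ × κ) F ≤ M := by
    intro a ha φ hφ hlφ
    have hown : part i φ ⬝ᵥ a = 0 := by rw [← dot_emb]; exact hφ.1
    have h' := hφ.sub (hM.tv (i := i) hown)
    refine sl_le_of_full_pair hM (p₀ := p₀) hil fun x y =>
      full_pair hM hpq hil ha h' ?_ ?_ x y
    · funext k; simp [part, emb]
    · intro e
      refine hlφ (funext fun k => ?_)
      have := congrFun e k
      simpa [part, emb, Ne.symm hil] using this
  -- a kernel vector off the line of the component of `b`
  have good : ∀ u, u ≠ 0 → part i ψ ⬝ᵥ u = 0 → part i b ∉ Submodule.span F {u} →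
      Cfsg.Geo.specialLinear (μ × κ) F ≤ M := by
    intro u hu hψu hspan
    obtain ⟨α', h1, h2⟩ := exists_dot_eq_zero_of_notMem hspan
    rw [dotProduct_comm] at h1 h2
    have hc := hT1.comm (hM.tv (i := i) h1) (by rw [dot_emb]; exact hψu)
    rw [emb_dot, h2, one_smul] at hc
    exact finish u hu ψ hc hl
  by_cases hψi : part i ψ = 0
  · obtain ⟨β, hβ, hβb⟩ := exists_ortho (part i b) hpq
    obtain ⟨w, hw⟩ := exists_dot_ne hβ
    refine good w (fun e => by simp [e] at hw) (by rw [hψi, zero_dotProduct]) fun hmem => ?_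
    obtain ⟨c, hc⟩ := Submodule.mem_span_singleton.1 hmem
    rw [← hc, dotProduct_smul, hw, smul_eq_mul, mul_one] at hβb
    exact hib (by rw [← hc, hβb, zero_smul])
  by_cases hψb : part i ψ ⬝ᵥ part i b = 0
  · by_cases h3 : 3 ≤ Fintype.card μ
    · obtain ⟨p1, hp1⟩ := Function.ne_iff.1 hψi
      obtain ⟨r1, -, hr1⟩ := Finset.exists_mem_notMem_of_card_lt_card (s := ({p1} : Finset μ))
        (t := Finset.univ) (by rw [Finset.card_singleton, Finset.card_univ]; omega)
      obtain ⟨r2, -, hr2⟩ := Finset.exists_mem_notMem_of_card_lt_card (s := ({p1, r1} : Finset μ))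
        (t := Finset.univ) (lt_of_le_of_lt Finset.card_le_two (by rw [Finset.card_univ]; omega))
      simp only [Finset.mem_singleton] at hr1
      simp only [Finset.mem_insert, Finset.mem_singleton, not_or] at hr2
      let v : μ → (μ → F) := fun r => Pi.single r (part i ψ p1) - Pi.single p1 (part i ψ r)
      have hv : ∀ r, part i ψ ⬝ᵥ v r = 0 := fun r => by simp [v, dotProduct_sub, mul_comm]
      have hv0 : ∀ r, r ≠ p1 → v r ≠ 0 := fun r hr e => hp1 (by simpa [v, hr] using congrFun e r)
      by_cases h1 : part i b ∈ Submodule.span F {v r1}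
      · refine good (v r2) (hv0 _ hr2.1) (hv _) fun h2 => ?_
        obtain ⟨c1, hc1⟩ := Submodule.mem_span_singleton.1 h1
        obtain ⟨c2, hc2⟩ := Submodule.mem_span_singleton.1 h2
        have := congrFun (hc1.trans hc2.symm) r1
        simp [v, hr1, Ne.symm hr2.2] at this
        rcases this with e | e
        · exact hib (by rw [← hc1, e, zero_smul])
        · exact hp1 e
      · exact good (v r1) (hv0 _ hr1) (hv _) h1
    · -- two-dimensional components
      have hμ2 : Fintype.card μ = 2 := by omega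
      have hq3 : 3 ≤ Fintype.card F := by
        have := Fintype.one_lt_card (α := F)
        by_contra h
        exact hex ⟨hμ2, by omega⟩
      obtain ⟨lam, -, hlam⟩ := Finset.exists_mem_notMem_of_card_lt_card (s := ({0, 1} : Finset F))
        (t := Finset.univ) (lt_of_le_of_lt Finset.card_le_two (by rw [Finset.card_univ]; omega))
      simp only [Finset.mem_insert, Finset.mem_singleton, not_or] at hlam
      obtain ⟨j, -, hj⟩ := Finset.exists_mem_notMem_of_card_lt_card (s := ({i, l} : Finset κ))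
        (t := Finset.univ) (lt_of_le_of_lt Finset.card_le_two (by
          rw [Finset.card_univ]
          rw [hμ2] at hn
          omega))
      simp only [Finset.mem_insert, Finset.mem_singleton, not_or] at hj
      obtain ⟨u, hu⟩ := exists_dot_ne hψi
      obtain ⟨h₁, h₁b, h₁i⟩ := exists_blockGL_transfer (i := i) hψb hu hlam.1 hib
      have hD : (h₁ : Matrix μ μ F).det ≠ 0 := by
        have := Matrix.isUnit_iff_isUnit_det (h₁ : Matrix μ μ F) |>.1 h₁.isUnit
        exact isUnit_iff_ne_zero.1 this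
      obtain ⟨h₂, h₂b, h₂d⟩ := exists_blockGL_det (b := part j b) hpq (inv_ne_zero hD)
      let hs : κ → GL μ F := fun r => if r = i then h₁ else if r = j then h₂ else 1
      have hH : blockGL hs ∈ M := by
        refine hM _ ((mem_sl_iff _).2 ?_) fun r => ⟨r, fun P Q hP hQ => ?_⟩
        · rw [coe_blockGL, det_blockDiagonal, ← Finset.prod_subset (Finset.subset_univ {i, j})
            (fun r _ hr => by
              simp only [Finset.mem_insert, Finset.mem_singleton, not_or] at hr
              simp [hs, hr.1, hr.2]), Finset.prod_pair (Ne.symm hj.1)]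
          simp [hs, hj.1, h₂d, mul_inv_cancel₀ hD]
        · rw [coe_blockGL, blockDiagonal_apply', if_neg]
          exact fun e => hQ (e.trans hP)
      have hinv : (blockGL hs)⁻¹ = blockGL (fun r => (hs r)⁻¹) := by
        rw [← map_inv]; rfl
      set b' := (blockGL hs : Matrix (μ × κ) (μ × κ) F) *ᵥ b with hb'def
      set ψ' := ψ ᵥ* (((blockGL hs)⁻¹ : GL (μ × κ) F) : Matrix (μ × κ) (μ × κ) F) with hψ'def
      have hb' : b' = b + emb i (u - part i b) := by
        funext P
        obtain ⟨k, r⟩ := P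
        show part r b' k = part r b k + part r (emb i (u - part i b)) k
        rw [hb'def, part_blockGL_mulVec]
        by_cases e : r = i
        · subst e
          simp [hs, h₁b]
        · rw [part_emb_ne e]
          by_cases e' : r = j
          · subst e'
            simp [hs, e, h₂b]
          · simp [hs, e, e']
      have hbinv : ((((blockGL hs)⁻¹ : GL (μ × κ) F)) : Matrix (μ × κ) (μ × κ) F) *ᵥ b =
          b + emb i ((-lam⁻¹) • u - part i b) := by
        funext P
        obtain ⟨k, r⟩ := P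
        show part r (((blockGL hs)⁻¹ : GL (μ × κ) F).val *ᵥ b) k =
          part r b k + part r (emb i ((-lam⁻¹) • u - part i b)) k
        rw [hinv, part_blockGL_mulVec]
        by_cases e : r = i
        · subst e
          simp only [hs, if_true, part_emb, h₁i]
          simp
        · rw [part_emb_ne e]
          by_cases e' : r = j
          · subst e'
            simp only [hs, if_neg e, if_true, Pi.zero_apply, add_zero]
            conv_lhs => rw [← h₂b, inv_mulVec_mulVec]
          · simp [hs, e, e']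
      have h0 : ψ ⬝ᵥ b = 0 := hT1.1
      have e1 : ψ ⬝ᵥ b' = 1 := by
        rw [hb', dotProduct_add, h0, dot_emb, dotProduct_sub, hu, hψb]
        ring
      have e2 : ψ' ⬝ᵥ b = -lam⁻¹ := by
        rw [hψ'def, vecMul_inv_dotProduct, hbinv, dotProduct_add, h0, dot_emb, dotProduct_sub,
          dotProduct_smul, hu, hψb]
        simp
      have hc := (hT1.conj hH).conj_tv (hT (-1))
      rw [← hb'def, ← hψ'def, smul_dotProduct, e1, e2, smul_eq_mul, mul_one, neg_one_smul,
        neg_one_smul] at hc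
      rw [show b' + -b = emb i (u - part i b) by rw [hb']; abel] at hc
      refine finish _ (fun e => ?_) _ hc ?_
      · have := congrArg (part i ψ ⬝ᵥ ·) e
        simp [dotProduct_sub, hu, hψb] at this
      · intro e
        have hl' : part l ψ' = part l ψ := by
          rw [hψ'def, hinv, part_vecMul_blockGL]
          simp [hs, Ne.symm hil, Ne.symm hj.2]
        obtain ⟨k, hk⟩ := Function.ne_iff.1 hl
        have := congrFun e k
        have e3 : ψ' (k, l) = ψ (k, l) := congrFun hl' k
        simp only [part, Pi.sub_apply, Pi.smul_apply, Pi.neg_apply, smul_eq_mul, Pi.zero_apply, e3] at this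
        have h4 : (1 - lam⁻¹) * ψ (k, l) = 0 := by linear_combination this
        rcases mul_eq_zero.1 h4 with h5 | h5
        · exact hlam.2 (inv_eq_one.1 (sub_eq_zero.1 h5).symm)
        · exact hk h5
  · obtain ⟨u, hu0, hu⟩ := exists_ortho (part i ψ) hpq
    rw [dotProduct_comm] at hu
    refine good u hu0 hu fun hmem => ?_
    obtain ⟨c, hc⟩ := Submodule.mem_span_singleton.1 hmem
    exact hψb (by rw [← hc, dotProduct_smul, hu, smul_zero])

end CfsgLib.MaxSub.DecompMax
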