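import Cfsg.Agent.Lib.Classical.UnipJordan

/-!
Invariant splittings of a unipotent matrix and sub-multisets of its partition.
-/

set_option autoImplicit false

namespace CfsgLib.MaxSub.BlockSplit

open Polynomial CfsgLib.KnownB.GLBlocks CfsgLib.KnownB.GLClass CfsgLib.KnownB.UnipClasses

variable {F : Type*} [Field F] [Fintype F] {n : ℕ}

theorem exists_finset_map_eq {α β : Type*} [DecidableEq α] [DecidableEq β] (f : α → β) :
    ∀ (ν : Multiset β) (s : Finset α), ν ≤ s.val.map f → ∃ t ⊆ s, t.val.map f = ν := by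
  intro ν
  induction ν using Multiset.induction_on with
  | empty => intro s _; exact ⟨∅, Finset.empty_subset _, rfl⟩
  | cons b ν ih =>
    intro s h
    obtain ⟨a, ha, rfl⟩ := Multiset.mem_map.1 (Multiset.mem_of_le h (Multiset.mem_cons_self b ν))
    have ha' : a ∈ s := ha
    obtain ⟨t, ht, he⟩ := ih (s.erase a) (by
      rw [Finset.erase_val, ← Multiset.cons_le_cons_iff (f a), ← Multiset.map_cons, Multiset.cons_erase ha]
      exact h)
    have hat : a ∉ t := fun h => (Finset.mem_erase.1 (ht h)).1 rfl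
    refine ⟨insert a t, Finset.insert_subset ha' (ht.trans (Finset.erase_subset _ _)), ?_⟩
    rw [Finset.insert_val_of_notMem hat, Multiset.map_cons, he]

/-- A sub-multiset of the partition gives an invariant splitting. -/
theorem exists_split {A : Matrix (Fin n) (Fin n) F} (hA : IsNilpotent (A - 1)) {ν : Multiset ℕ}
    (hν : ν ≤ (partOf hA).parts) :
    ∃ U W : Submodule F (Fin n → F), IsCompl U W ∧ Module.finrank F ↥U = ν.sum ∧
      U.map (Matrix.toLin' A) ≤ U ∧ W.map (Matrix.toLin' A) ≤ W := by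
  classical
  set D := decomp A with hD
  have hparts : (partOf hA).parts = (Finset.univ : Finset D.ι).val.map D.e := by
    show D.blocks.map Prod.snd = _
    rw [Decomp.blocks, Multiset.map_map]; rfl
  obtain ⟨S, -, hS⟩ := exists_finset_map_eq D.e ν Finset.univ (hparts ▸ hν)
  let ψ : (Fin n → F) ≃ₗ[F] ∀ i, blk (D.p i) (D.e i) :=
    (Module.AEval'.of (Matrix.toLin' A)).trans (D.equiv.restrictScalars F)
  have hψ : ∀ v, ψ (Matrix.toLin' A v) = (X : F[X]) • ψ v := fun v => by
    show D.equiv (Module.AEval'.of (Matrix.toLin' A) (Matrix.toLin' A v)) = _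
    rw [← Module.AEval'.X_smul_of, map_smul]; rfl
  let sub : Finset D.ι → Submodule F (Fin n → F) := fun T =>
    { carrier := {v | ∀ i ∉ T, ψ v i = 0}
      add_mem' := fun {a b} ha hb i hi => by rw [map_add, Pi.add_apply, ha i hi, hb i hi, add_zero]
      zero_mem' := fun i _ => by rw [map_zero]; rfl
      smul_mem' := fun c a ha i hi => by rw [map_smul, Pi.smul_apply, ha i hi, smul_zero] }
  have hinv : ∀ T, (sub T).map (Matrix.toLin' A) ≤ sub T := by
    rintro T _ ⟨v, hv, rfl⟩ i hi
    rw [hψ, Pi.smul_apply, hv i hi, smul_zero]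
  haveI : ∀ i, Module.Finite F (blk (D.p i) (D.e i)) := fun i => finite_blk (D.monic i) (D.e i)
  have hdeg : ∀ i, (D.p i).natDegree = 1 := fun i => by
    have := blocks_fst hA (D.p i, D.e i) (Multiset.mem_map.2 ⟨i, Finset.mem_univ_val i, rfl⟩)
    rw [show D.p i = X - C 1 from this, natDegree_X_sub_C]
  have hle : ∀ T, Module.finrank F ↥(sub T) ≤ ∑ i ∈ T, D.e i := fun T => by
    let g : sub T →ₗ[F] ∀ i : T, blk (D.p i.1) (D.e i.1) :=
      (LinearMap.pi fun i : T => LinearMap.proj i.1) ∘ₗ ψ.toLinearMap ∘ₗ (sub T).subtype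
    have hg : Function.Injective g := by
      rw [injective_iff_map_eq_zero]
      intro v hv
      refine Subtype.ext (ψ.injective (funext fun i => ?_))
      rw [Submodule.coe_zero, map_zero]
      by_cases hi : i ∈ T
      · exact congrFun hv ⟨i, hi⟩
      · exact v.2 i hi
    refine (LinearMap.finrank_le_finrank_of_injective hg).trans (le_of_eq ?_)
    rw [Module.finrank_pi_fintype, ← Finset.sum_coe_sort T D.e]
    exact Finset.sum_congr rfl fun i _ => by rw [finrank_blk (D.monic i.1), hdeg, mul_one]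
  have hcompl : IsCompl (sub S) (sub Sᶜ) := by
    constructor
    · rw [Submodule.disjoint_def]
      intro v hv hv'
      refine ψ.injective (funext fun i => ?_)
      rw [map_zero]
      by_cases hi : i ∈ S
      · exact hv' i (by simpa using hi)
      · exact hv i hi
    · rw [codisjoint_iff, eq_top_iff]
      intro v _
      let a : ∀ i, blk (D.p i) (D.e i) := fun i => if i ∈ S then ψ v i else 0
      have ha : ∀ i, i ∉ S → ψ (ψ.symm a) i = 0 := fun i hi => by rw [ψ.apply_symm_apply]; exact if_neg hi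
      refine Submodule.mem_sup.2 ⟨ψ.symm a, ha, v - ψ.symm a, fun i hi => ?_, add_sub_cancel _ _⟩
      rw [map_sub, ψ.apply_symm_apply, Pi.sub_apply]
      rw [show a i = ψ v i from if_pos (by simpa using hi), sub_self]
  refine ⟨sub S, sub Sᶜ, hcompl, le_antisymm ?_ ?_, hinv _, hinv _⟩
  · rw [← hS]; exact hle S
  · have h := Submodule.finrank_add_eq_of_isCompl hcompl
    have h1 := hle Sᶜ
    have h2 : ∑ i ∈ S, D.e i + ∑ i ∈ Sᶜ, D.e i = n := by
      rw [Finset.sum_add_sum_compl]
      have := (partOf hA).parts_sum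
      rw [hparts] at this
      exact this
    rw [Module.finrank_fin_fun] at h
    rw [← hS]
    show ∑ i ∈ S, D.e i ≤ _
    omega

theorem min_sum_add (s : Multiset ℕ) {e : ℕ} (he : 1 ≤ e) :
    2 * (s.map fun x => min e x).sum =
      (s.map fun x => min (e - 1) x).sum + (s.map fun x => min (e + 1) x).sum + s.count e := by
  induction s using Multiset.induction_on with
  | empty => simp
  | cons b s ih =>
    simp only [Multiset.map_cons, Multiset.sum_cons, Multiset.count_cons]
    split_ifs with h <;> omega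

theorem eq_of_min_sum {s t : Multiset ℕ} (hs : ∀ b ∈ s, 0 < b) (ht : ∀ b ∈ t, 0 < b)
    (h : ∀ k, (s.map fun x => min k x).sum = (t.map fun x => min k x).sum) : s = t := by
  refine Multiset.ext.2 fun e => ?_
  rcases Nat.eq_zero_or_pos e with rfl | he
  · rw [Multiset.count_eq_zero.2 fun h => lt_irrefl _ (hs _ h), Multiset.count_eq_zero.2 fun h => lt_irrefl _ (ht _ h)]
  · have h1 := min_sum_add s he
    have h2 := min_sum_add t he
    rw [h, h, h] at h1
    omega

/-- An invariant splitting gives a sub-multiset. -/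
theorem exists_parts {p : ℕ} [Fact p.Prime] [CharP F p] {A : Matrix (Fin n) (Fin n) F} (hA : IsNilpotent (A - 1))
    {U W : Submodule F (Fin n → F)} (h : IsCompl U W) (hU : U.map (Matrix.toLin' A) ≤ U)
    (hW : W.map (Matrix.toLin' A) ≤ W) {m : ℕ} (hm : Module.finrank F ↥U = m) :
    ∃ ν : Multiset ℕ, ν ≤ (partOf hA).parts ∧ ν.sum = m := by
  classical
  obtain ⟨m', hm'⟩ : ∃ m', Module.finrank F ↥W = m' := ⟨_, rfl⟩
  let bU := Module.finBasisOfFinrankEq F U hm
  let bW := Module.finBasisOfFinrankEq F W hm'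
  let fU : Module.End F U := (Matrix.toLin' A).restrict fun x hx => hU ⟨x, hx, rfl⟩
  let fW : Module.End F W := (Matrix.toLin' A).restrict fun x hx => hW ⟨x, hx, rfl⟩
  let MU : Matrix (Fin m) (Fin m) F := LinearMap.toMatrix bU bU fU
  let MW : Matrix (Fin m') (Fin m') F := LinearMap.toMatrix bW bW fW
  let ψ : (Fin n → F) ≃ₗ[F] (Fin m → F) × (Fin m' → F) :=
    (U.prodEquivOfIsCompl W h).symm.trans (bU.equivFun.prodCongr bW.equivFun)
  have hψ : ∀ v, ψ (A.mulVec v) = (MU.mulVec (ψ v).1, MW.mulVec (ψ v).2) := by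
    intro v
    obtain ⟨⟨a, b⟩, rfl⟩ := (U.prodEquivOfIsCompl W h).surjective v
    have h1 : A.mulVec ((U.prodEquivOfIsCompl W h) (a, b)) = (U.prodEquivOfIsCompl W h) (fU a, fW b) := by
      simp only [Submodule.coe_prodEquivOfIsCompl', Matrix.mulVec_add]
      rfl
    rw [h1]
    simp only [ψ, LinearEquiv.trans_apply, LinearEquiv.symm_apply_apply, LinearEquiv.prodCongr_apply]
    exact Prod.ext (LinearMap.toMatrix_mulVec_repr bU bU fU a).symm (LinearMap.toMatrix_mulVec_repr bW bW fW b).symm
  have hψk : ∀ (k : ℕ) v, ψ (((A - 1) ^ k).mulVec v) =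
      (((MU - 1) ^ k).mulVec (ψ v).1, ((MW - 1) ^ k).mulVec (ψ v).2) := by
    intro k
    induction k with
    | zero => intro v; simp
    | succ k ih =>
      intro v
      rw [pow_succ', ← Matrix.mulVec_mulVec, Matrix.sub_mulVec, Matrix.one_mulVec, map_sub, hψ, ih,
        pow_succ', pow_succ', ← Matrix.mulVec_mulVec, ← Matrix.mulVec_mulVec]
      simp [Matrix.sub_mulVec, sub_mul]
  obtain ⟨N, hN⟩ := hA
  have hnil : (MU - 1) ^ N = 0 ∧ (MW - 1) ^ N = 0 := by
    refine ⟨Matrix.toLin'.injective (LinearMap.ext fun w => ?_), Matrix.toLin'.injective (LinearMap.ext fun w => ?_)⟩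
    · have h := hψk N (ψ.symm (w, 0))
      rw [hN, Matrix.zero_mulVec, map_zero, ψ.apply_symm_apply] at h
      rw [Matrix.toLin'_apply, map_zero, LinearMap.zero_apply]
      exact (congrArg Prod.fst h).symm
    · have h := hψk N (ψ.symm (0, w))
      rw [hN, Matrix.zero_mulVec, map_zero, ψ.apply_symm_apply] at h
      rw [Matrix.toLin'_apply, map_zero, LinearMap.zero_apply]
      exact (congrArg Prod.snd h).symm
  have hMU : IsNilpotent (MU - 1) := ⟨N, hnil.1⟩
  have hMW : IsNilpotent (MW - 1) := ⟨N, hnil.2⟩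
  have hA' : IsNilpotent (A - 1) := ⟨N, hN⟩
  refine ⟨(partOf hMU).parts, ?_, (partOf hMU).parts_sum⟩
  have heq : (partOf hA').parts = (partOf hMU).parts + (partOf hMW).parts := by
    refine CfsgLib.MaxSub.BlockSplit.eq_of_min_sum (fun b hb => (partOf hA').parts_pos hb) (fun b hb => ?_) fun k => ?_
    · rcases Multiset.mem_add.1 hb with h | h
      · exact (partOf hMU).parts_pos h
      · exact (partOf hMW).parts_pos h
    · refine Nat.pow_right_injective (Fintype.one_lt_card (α := F)) ?_
      simp only [Multiset.map_add, Multiset.sum_add, pow_add]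
      rw [← CfsgLib.Classical.UnipJordan.card_ker_pow hA' k, ← CfsgLib.Classical.UnipJordan.card_ker_pow hMU k,
        ← CfsgLib.Classical.UnipJordan.card_ker_pow hMW k, ← Nat.card_prod]
      exact Nat.card_congr ((Equiv.subtypeEquiv ψ.toEquiv
        (q := fun f => ((MU - 1) ^ k).mulVec f.1 = 0 ∧ ((MW - 1) ^ k).mulVec f.2 = 0) fun v => by
          rw [LinearEquiv.coe_toEquiv, ← ψ.map_eq_zero_iff, hψk, Prod.mk_eq_zero]).trans
        (Equiv.subtypeProdEquivProd (p := fun a : Fin m → F => ((MU - 1) ^ k).mulVec a = 0)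
          (q := fun b : Fin m' → F => ((MW - 1) ^ k).mulVec b = 0)))
  rw [show (partOf ⟨N, hN⟩).parts = (partOf hA').parts from rfl, heq]
  exact Multiset.le_add_right _ _

end CfsgLib.MaxSub.BlockSplit
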