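import Cfsg.Agent.Lib.MaxSub.BlockCore

/-!
Overgroups in `SL₄` of the stabiliser of a pair of complementary planes.
-/

set_option autoImplicit false
set_option linter.unusedSectionVars false

namespace CfsgLib.MaxSub.DecompMax

open Matrix CfsgLib.MaxSub
open scoped MatrixGroups

variable {μ κ : Type} [Fintype μ] [DecidableEq μ] [Fintype κ] [DecidableEq κ] {F : Type*} [Field F]
  {M : Subgroup (GL (μ × κ) F)}

/-- the determinant of the map exchanging two independent vectors up to a scalar -/
theorem det_transfer (hμ : Fintype.card μ = 2) {b u ψ : μ → F} (hb : ψ ⬝ᵥ b = 0) (hu : ψ ⬝ᵥ u = 1)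
    {lam : F} (hlam : lam ≠ 0) (hb0 : b ≠ 0) {h : GL μ F} (h1 : (h : Matrix μ μ F) *ᵥ b = u)
    (h2 : ((h⁻¹ : GL μ F) : Matrix μ μ F) *ᵥ b = (-lam⁻¹) • u) : (h : Matrix μ μ F).det = lam := by
  classical
  have hhu : (h : Matrix μ μ F) *ᵥ u = -lam • b := by
    have := congrArg ((h : Matrix μ μ F) *ᵥ ·) h2
    simp only [mulVec_mulVec, ← Units.val_mul, mul_inv_cancel, Units.val_one, one_mulVec, mulVec_smul] at this
    rw [this, smul_smul]
    field_simp
    simp
  obtain ⟨e⟩ : Nonempty (μ ≃ Fin 2) := ⟨Fintype.equivFinOfCardEq hμ⟩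
  let X : Matrix μ μ F := Matrix.of fun r c => if e c = 0 then b r else u r
  let J : Matrix μ μ F := (!![0, -lam; 1, 0] : Matrix (Fin 2) (Fin 2) F).submatrix e e
  have hli : LinearIndependent F (fun c : μ => Xᵀ c) := by
    rw [Fintype.linearIndependent_iff]
    intro c hc
    rw [← e.symm.sum_comp, Fin.sum_univ_two] at hc
    have hc' : c (e.symm 0) • b + c (e.symm 1) • u = 0 := by
      rw [← hc]
      congr 1 <;> funext r <;> simp [X, transpose_apply]
    have h := congrArg (ψ ⬝ᵥ ·) hc'
    simp only [dotProduct_add, dotProduct_smul, hb, hu, smul_eq_mul, mul_zero, zero_add, mul_one,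
      dotProduct_zero] at h
    rw [h, zero_smul, add_zero] at hc'
    intro i
    obtain ⟨k, rfl⟩ := e.symm.surjective i
    fin_cases k
    · exact (smul_eq_zero.1 hc').resolve_right hb0
    · exact h
  have hX : X.det ≠ 0 := by
    intro hd
    exact (Matrix.linearIndependent_rows_iff_isUnit.1 hli |> (Matrix.isUnit_iff_isUnit_det _).1).ne_zero
      (show Xᵀ.det = 0 by rw [det_transpose, hd])
  have hmul : (h : Matrix μ μ F) * X = X * J := by
    refine Matrix.ext fun r c => ?_
    have e1 := congrFun h1 r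
    have e2 := congrFun hhu r
    rw [Matrix.mul_apply, Matrix.mul_apply, ← e.symm.sum_comp (fun k => X r k * J k c), Fin.sum_univ_two]
    obtain ⟨k, rfl⟩ := e.symm.surjective c
    simp only [mulVec, dotProduct, Pi.smul_apply, smul_eq_mul] at e1 e2
    fin_cases k
    · simpa [X, J] using e1
    · simp [X, J, e2, mul_comm (b r)]
  have hd := congrArg Matrix.det hmul
  rw [det_mul, det_mul, mul_comm X.det] at hd
  rw [mul_right_cancel₀ hX hd]
  simp [J]

/-- a map of prescribed determinant fixing a vector and scaling an orthogonal functional -/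
theorem exists_scale {b χ : μ → F} (hb : χ ⬝ᵥ b = 0) (hχ : χ ≠ 0) {d : F} (hd : d ≠ 0) :
    ∃ h : GL μ F, (h : Matrix μ μ F) *ᵥ b = b ∧ (h : Matrix μ μ F).det = d ∧
      χ ᵥ* ((h⁻¹ : GL μ F) : Matrix μ μ F) = d⁻¹ • χ := by
  obtain ⟨w, hw⟩ := exists_dot_ne hχ
  set H : Matrix μ μ F := 1 + vecMulVec ((d - 1) • w) χ with hH
  have hdet : H.det = d := by
    have e : H = 1 + replicateCol Unit ((d - 1) • w) * replicateRow Unit χ := by
      ext k l
      simp [hH, vecMulVec_apply, Matrix.mul_apply]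
    rw [e, det_one_add_replicateCol_mul_replicateRow, dotProduct_smul, hw]
    simp
  refine ⟨Matrix.GeneralLinearGroup.mk'' H (by rw [hdet]; exact isUnit_iff_ne_zero.2 hd), ?_, hdet, ?_⟩
  · show H *ᵥ b = b
    rw [hH, add_mulVec, one_mulVec, vecMulVec_mulVec, hb]
    simp
  · set h : GL μ F := Matrix.GeneralLinearGroup.mk'' H (by rw [hdet]; exact isUnit_iff_ne_zero.2 hd) with hh
    have e : χ ᵥ* (h : Matrix μ μ F) = d • χ := by
      show χ ᵥ* H = _
      rw [hH, vecMul_add, vecMul_one, vecMul_vecMulVec, dotProduct_smul, hw]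
      simp [sub_smul]
    have := congrArg (· ᵥ* ((h⁻¹ : GL μ F) : Matrix μ μ F)) e
    simp only [vecMul_vecMul, ← Units.val_mul, mul_inv_cancel, Units.val_one, vecMul_one, smul_vecMul] at this
    conv_rhs => rw [this, smul_smul, inv_mul_cancel₀ hd, one_smul]

/-- Overgroups of the stabiliser of a pair of complementary planes, at least four scalars. -/
theorem sl_le_two_planes [Fintype F] (hM : HasBlocks M) (hμ : Fintype.card μ = 2)
    (hκ : Fintype.card κ = 2) (h4 : 4 ≤ Fintype.card F) {g : GL (μ × κ) F} (hg : g ∈ M)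
    (hnm : ¬ IsBlockMono Prod.snd (g : Matrix (μ × κ) (μ × κ) F)) :
    Cfsg.Geo.specialLinear (μ × κ) F ≤ M := by
  classical
  obtain ⟨p₀, q₀, hpq⟩ := Fintype.one_lt_card_iff.1 (by omega : 1 < Fintype.card μ)
  -- a vector of one component moved into two components
  obtain ⟨a, x, p, q, hpq', hp, hq⟩ : ∃ (a : κ) (x : μ → F) (p q : κ), p ≠ q ∧
      part p ((g : Matrix (μ × κ) (μ × κ) F) *ᵥ emb a x) ≠ 0 ∧
      part q ((g : Matrix (μ × κ) (μ × κ) F) *ᵥ emb a x) ≠ 0 := by
    by_contra hno
    push Not at hno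
    refine hnm fun a => ?_
    by_cases hz : ∃ k r, part r ((g : Matrix (μ × κ) (μ × κ) F) *ᵥ emb a (Pi.single k 1)) ≠ 0
    · obtain ⟨k, r, hr⟩ := hz
      refine ⟨r, fun P Q hP hQ => ?_⟩
      obtain ⟨l, a'⟩ := P
      obtain ⟨m, s⟩ := Q
      subst hP
      have h1 := hno a' (Pi.single k 1) r s (Ne.symm hQ) hr
      by_contra hne
      have h2 : part s ((g : Matrix (μ × κ) (μ × κ) F) *ᵥ emb a' (Pi.single l 1)) ≠ 0 := by
        intro e
        exact hne (by simpa [part, emb_single] using congrFun e m)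
      have h3 := hno a' (Pi.single l 1) s r hQ h2
      have hsum : ∀ w, part w ((g : Matrix (μ × κ) (μ × κ) F) *ᵥ
          emb a' (Pi.single k (1 : F) + Pi.single l 1)) =
          part w ((g : Matrix (μ × κ) (μ × κ) F) *ᵥ emb a' (Pi.single k 1)) +
          part w ((g : Matrix (μ × κ) (μ × κ) F) *ᵥ emb a' (Pi.single l 1)) := fun w => by
        rw [emb_add, mulVec_add]; rfl
      refine h2 ?_
      have := hno a' (Pi.single k 1 + Pi.single l 1) r s (Ne.symm hQ) (by rw [hsum, h3, add_zero]; exact hr)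
      rwa [hsum, h1, zero_add] at this
    · push Not at hz
      exact ⟨a, fun P Q hP _ => by
        obtain ⟨l, a'⟩ := P
        obtain ⟨m, s⟩ := Q
        subst hP
        simpa [part, emb_single] using congrFun (hz l s) m⟩
  obtain ⟨α, hα0, hα⟩ := exists_ortho x hpq
  set b := (g : Matrix (μ × κ) (μ × κ) F) *ᵥ emb a x with hbdef
  set ψ := emb a α ᵥ* ((g⁻¹ : GL (μ × κ) F) : Matrix (μ × κ) (μ × κ) F) with hψdef
  have hT : ∀ c : F, HasTv M b (c • ψ) := fun c => by
    have h := (hM.tv (i := a) (u := x) (α := c • α) (by rw [smul_dotProduct, hα, smul_zero])).conj hg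
    rw [emb_smul, smul_vecMul] at h
    exact h
  have hT1 : HasTv M b ψ := by simpa using hT 1
  have hψ0 : ψ ≠ 0 := fun e => emb_ne_zero (i := a) hα0 (by
    have := congrArg (· ᵥ* (g : Matrix (μ × κ) (μ × κ) F)) e
    simp only [hψdef, vecMul_vecMul, ← Units.val_mul, inv_mul_cancel, Units.val_one, vecMul_one,
      zero_vecMul] at this
    exact this)
  obtain ⟨l, hl⟩ : ∃ l, part l ψ ≠ 0 := by
    by_contra h
    push Not at h
    exact hψ0 (funext fun P => congrFun (h P.2) P.1)
  obtain ⟨i, hib, hil⟩ : ∃ i, part i b ≠ 0 ∧ i ≠ l := by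
    by_cases e : p = l
    · exact ⟨q, hq, fun e' => hpq' (e.trans e'.symm)⟩
    · exact ⟨p, hp, e⟩
  have finish : ∀ a : μ → F, a ≠ 0 → ∀ φ, HasTv M (emb i a) φ → part l φ ≠ 0 →
      Cfsg.Geo.specialLinear (μ × κ) F ≤ M := by
    intro a ha φ hφ hlφ
    have hown : part i φ ⬝ᵥ a = 0 := by rw [← dot_emb]; exact hφ.1
    have h' := hφ.sub (hM.tv (i := i) hown)
    refine sl_le_of_full_pair hM (p₀ := p₀) hil fun x y =>
      full_pair hM hpq hil ha h' ?_ ?_ x y
    · funext k; simp [part, emb]
    · intro e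
      refine hlφ (funext fun k => ?_)
      have := congrFun e k
      simpa [part, emb, Ne.symm hil] using this
  -- a kernel vector off the line of the component of `b`
  have good : ∀ u, u ≠ 0 → part i ψ ⬝ᵥ u = 0 → part i b ∉ Submodule.span F {u} →
      Cfsg.Geo.specialLinear (μ × κ) F ≤ M := by
    intro u hu hψu hspan
    obtain ⟨α', h1, h2⟩ := exists_dot_eq_zero_of_notMem hspan
    rw [dotProduct_comm] at h1 h2
    have hc := hT1.comm (hM.tv (i := i) h1) (by rw [dot_emb]; exact hψu)
    rw [emb_dot, h2, one_smul] at hc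
    exact finish u hu ψ hc hl
  by_cases hψi : part i ψ = 0
  · obtain ⟨β, hβ, hβb⟩ := exists_ortho (part i b) hpq
    obtain ⟨w, hw⟩ := exists_dot_ne hβ
    refine good w (fun e => by simp [e] at hw) (by rw [hψi, zero_dotProduct]) fun hmem => ?_
    obtain ⟨c, hc⟩ := Submodule.mem_span_singleton.1 hmem
    rw [← hc, dotProduct_smul, hw, smul_eq_mul, mul_one] at hβb
    exact hib (by rw [← hc, hβb, zero_smul])
  by_cases hψb : part i ψ ⬝ᵥ part i b = 0
  · have hil2 : ∀ r, r = i ∨ r = l := by
      intro r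
      by_contra h
      push Not at h
      have : ({i, l, r} : Finset κ).card ≤ Fintype.card κ := Finset.card_le_univ _
      rw [Finset.card_eq_three.2 ⟨i, l, r, hil, Ne.symm h.1, Ne.symm h.2, rfl⟩] at this
      omega
    have h0 : ψ ⬝ᵥ b = 0 := hT1.1
    have hψl : part l ψ ⬝ᵥ part l b = 0 := by
      have e : ψ ⬝ᵥ b = part i ψ ⬝ᵥ part i b + part l ψ ⬝ᵥ part l b := by
        conv_lhs => rw [show b = emb i (part i b) + emb l (part l b) from funext fun P => by
          obtain ⟨k, r⟩ := P
          rcases hil2 r with e | e <;> subst e <;> simp [emb, part, hil, Ne.symm hil]]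
        rw [dotProduct_add, dot_emb, dot_emb]
      rw [h0, hψb, zero_add] at e
      exact e.symm
    obtain ⟨lam, -, hlam⟩ := Finset.exists_mem_notMem_of_card_lt_card (s := ({0, 1, -1} : Finset F))
      (t := Finset.univ) (lt_of_le_of_lt Finset.card_le_three (by rw [Finset.card_univ]; omega))
    simp only [Finset.mem_insert, Finset.mem_singleton, not_or] at hlam
    obtain ⟨u, hu⟩ := exists_dot_ne hψi
    obtain ⟨h₁, h₁b, h₁i⟩ := exists_blockGL_transfer (i := i) hψb hu hlam.1 hib
    have hD : (h₁ : Matrix μ μ F).det = lam := det_transfer hμ hψb hu hlam.1 hib h₁b h₁i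
    obtain ⟨h₂, h₂b, h₂d, h₂ψ⟩ := exists_scale hψl hl (inv_ne_zero hlam.1)
    let hs : κ → GL μ F := fun r => if r = i then h₁ else h₂
    have hH : blockGL hs ∈ M := by
      refine hM _ ((mem_sl_iff _).2 ?_) fun r => ⟨r, fun P Q hP hQ => ?_⟩
      · rw [coe_blockGL, det_blockDiagonal, ← Finset.prod_subset (Finset.subset_univ {i, l})
          (fun r _ hr => by
            simp only [Finset.mem_insert, Finset.mem_singleton, not_or] at hr
            exact absurd (hil2 r) (by tauto)), Finset.prod_pair hil]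
        simp [hs, Ne.symm hil, hD, h₂d, mul_inv_cancel₀ hlam.1]
      · rw [coe_blockGL, blockDiagonal_apply', if_neg]
        exact fun e => hQ (e.trans hP)
    have hinv : (blockGL hs)⁻¹ = blockGL (fun r => (hs r)⁻¹) := by
      rw [← map_inv]; rfl
    set b' := (blockGL hs : Matrix (μ × κ) (μ × κ) F) *ᵥ b with hb'def
    set ψ' := ψ ᵥ* (((blockGL hs)⁻¹ : GL (μ × κ) F) : Matrix (μ × κ) (μ × κ) F) with hψ'def
    have hb' : b' = b + emb i (u - part i b) := by
      funext P
      obtain ⟨k, r⟩ := P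
      show part r b' k = part r b k + part r (emb i (u - part i b)) k
      rw [hb'def, part_blockGL_mulVec]
      rcases hil2 r with e | e <;> subst e
      · simp [hs, h₁b]
      · simp [hs, Ne.symm hil, part_emb_ne, h₂b]
    have hbinv : ((((blockGL hs)⁻¹ : GL (μ × κ) F)) : Matrix (μ × κ) (μ × κ) F) *ᵥ b =
        b + emb i ((-lam⁻¹) • u - part i b) := by
      funext P
      obtain ⟨k, r⟩ := P
      show part r (((blockGL hs)⁻¹ : GL (μ × κ) F).val *ᵥ b) k =
        part r b k + part r (emb i ((-lam⁻¹) • u - part i b)) k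
      rw [hinv, part_blockGL_mulVec]
      rcases hil2 r with e | e <;> subst e
      · simp only [hs, if_true, part_emb, h₁i]
        simp
      · simp only [hs, if_neg (Ne.symm hil), part_emb_ne (Ne.symm hil), Pi.zero_apply, add_zero]
        conv_lhs => rw [← h₂b, inv_mulVec_mulVec]
    have e1 : ψ ⬝ᵥ b' = 1 := by
      rw [hb', dotProduct_add, h0, dot_emb, dotProduct_sub, hu, hψb]
      ring
    have e2 : ψ' ⬝ᵥ b = -lam⁻¹ := by
      rw [hψ'def, vecMul_inv_dotProduct, hbinv, dotProduct_add, h0, dot_emb, dotProduct_sub,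
        dotProduct_smul, hu, hψb]
      simp
    have hc := (hT1.conj hH).conj_tv (hT (-1))
    rw [← hb'def, ← hψ'def, smul_dotProduct, e1, e2, smul_eq_mul, mul_one, neg_one_smul,
      neg_one_smul] at hc
    rw [show b' + -b = emb i (u - part i b) by rw [hb']; abel] at hc
    refine finish _ (fun e => ?_) _ hc ?_
    · have := congrArg (part i ψ ⬝ᵥ ·) e
      simp [dotProduct_sub, hu, hψb] at this
    · intro e
      have hl' : part l ψ' = lam • part l ψ := by
        rw [hψ'def, hinv, part_vecMul_blockGL]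
        simp only [hs, if_neg (Ne.symm hil)]
        rw [h₂ψ, inv_inv]
      obtain ⟨k, hk⟩ := Function.ne_iff.1 hl
      have := congrFun e k
      have e3 : ψ' (k, l) = lam * ψ (k, l) := congrFun hl' k
      simp only [part, Pi.sub_apply, Pi.smul_apply, Pi.neg_apply, smul_eq_mul, Pi.zero_apply, e3] at this
      have h5 : (lam - lam⁻¹) * ψ (k, l) = 0 := by linear_combination this
      rcases mul_eq_zero.1 h5 with h6 | h6
      · have h7 : lam * lam = 1 := by
          rw [sub_eq_zero.1 h6] 
          nth_rw 2 [← sub_eq_zero.1 h6]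
          exact inv_mul_cancel₀ hlam.1
        rcases mul_self_eq_one_iff.1 h7 with h8 | h8
        · exact hlam.2.1 h8
        · exact hlam.2.2 h8
      · exact hk h6
  · obtain ⟨u, hu0, hu⟩ := exists_ortho (part i ψ) hpq
    rw [dotProduct_comm] at hu
    refine good u hu0 hu fun hmem => ?_
    obtain ⟨c, hc⟩ := Submodule.mem_span_singleton.1 hmem
    exact hψb (by rw [← hc, dotProduct_smul, hu, smul_zero])

end CfsgLib.MaxSub.DecompMax
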