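import Mathlib.GroupTheory.Subgroup.Simple
import Mathlib.GroupTheory.Coset.Card
import Mathlib.NumberTheory.ArithmeticFunction.Misc
import Mathlib.Tactic

/-!
Composition length of subgroups via subnormal chains.
-/

set_option autoImplicit false

namespace CfsgLib.MaxSub

open ArithmeticFunction.Omega

variable {G Q : Type*} [Group G] [Group Q]

/-- `Chain K l`: there is a strictly increasing chain of length `l` from `⊥` to `K`, each term
normal in the next. -/
inductive Chain : Subgroup G → ℕ → Prop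
  | bot : Chain ⊥ 0
  | step {H K : Subgroup G} {l : ℕ} : Chain H l → H < K →
      (∀ k ∈ K, ∀ h ∈ H, k * h * k⁻¹ ∈ H) → Chain K (l + 1)

/-- composition length -/
noncomputable def cl (K : Subgroup G) : ℕ := sSup {l | Chain K l}

theorem exists_chain (K : Subgroup G) : ∃ l, Chain K l := by
  rcases eq_or_ne K ⊥ with rfl | h
  · exact ⟨0, .bot⟩
  · exact ⟨1, Chain.bot.step (bot_lt_iff_ne_bot.mpr h) (by simp +contextual)⟩

theorem card_ne_zero' [Finite G] (K : Subgroup G) : Nat.card K ≠ 0 := Nat.card_pos.ne'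

theorem Chain.le_cardFactors [Finite G] {K : Subgroup G} {l : ℕ} (h : Chain K l) :
    l ≤ Ω (Nat.card K) := by
  induction h with
  | bot => simp
  | @step H K l _ hlt _ ih =>
    obtain ⟨m, hm⟩ := Subgroup.card_dvd_of_le hlt.le
    have hm1 : m ≠ 1 := by
      rintro rfl
      exact hlt.ne (Subgroup.eq_of_le_of_card_ge hlt.le (by rw [hm, mul_one]))
    have hm0 : m ≠ 0 := by
      rintro rfl
      exact card_ne_zero' K (by rw [hm, mul_zero])
    have : 1 ≤ Ω m := by
      obtain ⟨p, hp, hdvd⟩ := Nat.exists_prime_and_dvd hm1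
      obtain ⟨c, rfl⟩ := hdvd
      rw [ArithmeticFunction.cardFactors_mul hp.ne_zero (by rintro rfl; simp at hm0),
        ArithmeticFunction.cardFactors_apply_prime hp]
      omega
    rw [hm, ArithmeticFunction.cardFactors_mul (card_ne_zero' H) hm0]
    omega

theorem Chain.le_cl [Finite G] {K : Subgroup G} {l : ℕ} (h : Chain K l) : l ≤ cl K :=
  le_csSup ⟨_, fun _ hm => Chain.le_cardFactors hm⟩ h

theorem chain_cl [Finite G] (K : Subgroup G) : Chain K (cl K) :=
  Nat.sSup_mem (exists_chain K) ⟨_, fun _ hm => Chain.le_cardFactors hm⟩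

theorem cl_le {K : Subgroup G} {m : ℕ} (h : ∀ l, Chain K l → l ≤ m) : cl K ≤ m :=
  csSup_le' h

theorem cl_le_cardFactors [Finite G] (K : Subgroup G) : cl K ≤ Ω (Nat.card K) :=
  (chain_cl K).le_cardFactors

theorem cl_bot [Finite G] : cl (⊥ : Subgroup G) = 0 := by
  have := cl_le_cardFactors (⊥ : Subgroup G)
  simpa using this

theorem one_le_cl [Finite G] {K : Subgroup G} (h : K ≠ ⊥) : 1 ≤ cl K :=
  (Chain.bot.step (bot_lt_iff_ne_bot.mpr h) (by simp +contextual)).le_cl

theorem cl_mono_normal [Finite G] {H K : Subgroup G} (hle : H ≤ K)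
    (hn : ∀ k ∈ K, ∀ h ∈ H, k * h * k⁻¹ ∈ H) : cl H ≤ cl K := by
  rcases eq_or_lt_of_le hle with rfl | hlt
  · exact le_rfl
  · exact Nat.le_of_succ_le ((chain_cl H).step hlt hn).le_cl

theorem cl_lt_normal [Finite G] {H K : Subgroup G} (hlt : H < K)
    (hn : ∀ k ∈ K, ∀ h ∈ H, k * h * k⁻¹ ∈ H) : cl H < cl K :=
  ((chain_cl H).step hlt hn).le_cl

theorem Chain.map {f : G →* Q} (hf : Function.Injective f) {K : Subgroup G} {l : ℕ}
    (h : Chain K l) : Chain (K.map f) l := by
  induction h with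
  | bot => rw [Subgroup.map_bot]; exact .bot
  | @step H K l _ hlt hn ih =>
    refine ih.step ((Subgroup.map_lt_map_iff_of_injective hf).mpr hlt) ?_
    rintro _ ⟨k, hk, rfl⟩ _ ⟨h, hh, rfl⟩
    exact ⟨k * h * k⁻¹, hn k hk h hh, by simp⟩

theorem Chain.comap {f : G →* Q} (hf : Function.Injective f) {K : Subgroup Q} {l : ℕ}
    (h : Chain K l) (hK : K ≤ f.range) : Chain (K.comap f) l := by
  induction h with
  | bot => rw [MonoidHom.comap_bot, (MonoidHom.ker_eq_bot_iff f).mpr hf]; exact .bot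
  | @step H K l _ hlt hn ih =>
    refine (ih (hlt.le.trans hK)).step ?_ ?_
    · refine lt_of_le_of_ne (Subgroup.comap_mono hlt.le) fun he => hlt.not_ge fun x hx => ?_
      obtain ⟨y, rfl⟩ := hK hx
      exact (he ▸ hx : y ∈ H.comap f)
    · intro k hk h hh
      show f (k * h * k⁻¹) ∈ H
      rw [map_mul, map_mul, map_inv]
      exact hn _ hk _ hh

theorem cl_map_of_injective [Finite G] [Finite Q] {f : G →* Q} (hf : Function.Injective f)
    (K : Subgroup G) : cl (K.map f) = cl K := by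
  refine le_antisymm ?_ ((chain_cl K).map hf).le_cl
  have := (chain_cl (K.map f)).comap hf (Subgroup.map_le_range f K)
  rw [Subgroup.comap_map_eq_self_of_injective hf] at this
  exact this.le_cl

theorem cl_top_subgroup [Finite G] (H : Subgroup G) : cl (⊤ : Subgroup H) = cl H := by
  rw [← cl_map_of_injective H.subtype_injective ⊤, ← MonoidHom.range_eq_map,
    Subgroup.range_subtype]

theorem cl_range_of_injective [Finite G] [Finite Q] {f : G →* Q} (hf : Function.Injective f) :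
    cl f.range = cl (⊤ : Subgroup G) := by
  rw [MonoidHom.range_eq_map, cl_map_of_injective hf]

theorem Chain.split (f : G →* Q) {K : Subgroup G} {l : ℕ} (h : Chain K l) :
    ∃ l₁ l₂, Chain (K ⊓ f.ker) l₁ ∧ Chain (K.map f) l₂ ∧ l ≤ l₁ + l₂ := by
  induction h with
  | bot => exact ⟨0, 0, by rw [bot_inf_eq]; exact .bot, by rw [Subgroup.map_bot]; exact .bot, le_rfl⟩
  | @step H K l _ hlt hn ih =>
    obtain ⟨l₁, l₂, h₁, h₂, hl⟩ := ih
    have hn₁ : ∀ k ∈ K ⊓ f.ker, ∀ h ∈ H ⊓ f.ker, k * h * k⁻¹ ∈ H ⊓ f.ker := by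
      intro k hk h hh
      exact ⟨hn k hk.1 h hh.1, f.ker.mul_mem (f.ker.mul_mem hk.2 hh.2) (f.ker.inv_mem hk.2)⟩
    have hn₂ : ∀ k ∈ K.map f, ∀ h ∈ H.map f, k * h * k⁻¹ ∈ H.map f := by
      rintro _ ⟨k, hk, rfl⟩ _ ⟨h, hh, rfl⟩
      exact ⟨k * h * k⁻¹, hn k hk h hh, by simp⟩
    rcases eq_or_lt_of_le (inf_le_inf_right f.ker hlt.le) with e₁ | e₁ <;>
      rcases eq_or_lt_of_le (Subgroup.map_mono (f := f) hlt.le) with e₂ | e₂
    · exfalso
      refine hlt.not_ge fun x hx => ?_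
      obtain ⟨y, hy, hxy⟩ : f x ∈ H.map f := e₂ ▸ Subgroup.mem_map_of_mem f hx
      have : y⁻¹ * x ∈ H ⊓ f.ker := by
        rw [e₁]
        exact ⟨K.mul_mem (K.inv_mem (hlt.le hy)) hx, (MonoidHom.mem_ker).mpr (by simp [hxy])⟩
      simpa using mul_mem hy this.1
    · exact ⟨l₁, l₂ + 1, e₁ ▸ h₁, h₂.step e₂ hn₂, by omega⟩
    · exact ⟨l₁ + 1, l₂, h₁.step e₁ hn₁, e₂ ▸ h₂, by omega⟩
    · exact ⟨l₁ + 1, l₂ + 1, h₁.step e₁ hn₁, h₂.step e₂ hn₂, by omega⟩

theorem cl_le_ker_add_map [Finite G] [Finite Q] (f : G →* Q) (K : Subgroup G) :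
    cl K ≤ cl (K ⊓ f.ker) + cl (K.map f) := by
  obtain ⟨l₁, l₂, h₁, h₂, hl⟩ := (chain_cl K).split f
  have := h₁.le_cl; have := h₂.le_cl; omega

theorem cl_le_ker_add_range [Finite G] [Finite Q] (f : G →* Q) :
    cl (⊤ : Subgroup G) ≤ cl f.ker + cl f.range := by
  have := cl_le_ker_add_map f ⊤
  rwa [top_inf_eq, ← MonoidHom.range_eq_map] at this

theorem Chain.lift [Finite G] (f : G →* Q) (K : Subgroup G) {L : Subgroup Q} {l : ℕ}
    (h : Chain L l) (hL : L ≤ K.map f) : Chain (K ⊓ L.comap f) (cl (K ⊓ f.ker) + l) := by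
  induction h with
  | bot => simpa using chain_cl (K ⊓ f.ker)
  | @step H L l _ hlt hn ih =>
    refine (ih (hlt.le.trans hL)).step ?_ ?_
    · refine lt_of_le_of_ne (inf_le_inf_left K (Subgroup.comap_mono hlt.le))
        fun he => hlt.not_ge fun x hx => ?_
      obtain ⟨y, hy, rfl⟩ := hL hx
      exact (he ▸ ⟨hy, hx⟩ : y ∈ K ⊓ H.comap f).2
    · intro k hk h hh
      refine ⟨K.mul_mem (K.mul_mem hk.1 hh.1) (K.inv_mem hk.1), ?_⟩
      show f (k * h * k⁻¹) ∈ H
      rw [map_mul, map_mul, map_inv]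
      exact hn _ hk.2 _ hh.2

theorem cl_ker_add_map_le [Finite G] [Finite Q] (f : G →* Q) (K : Subgroup G) :
    cl (K ⊓ f.ker) + cl (K.map f) ≤ cl K := by
  have := ((chain_cl (K.map f)).lift f K le_rfl).le_cl
  rwa [inf_eq_left.mpr (Subgroup.le_comap_map f K)] at this

theorem cl_le_one [Finite G] {K : Subgroup G} [IsSimpleGroup K] : cl K ≤ 1 := by
  refine cl_le fun l h => ?_
  cases h with
  | bot => exact zero_le_one
  | @step H K l h hlt hn =>
    cases h with
    | bot => rfl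
    | @step H' H l h hlt' hn' =>
      exfalso
      have hN : (H.subgroupOf K).Normal := by
        refine ⟨fun h hh k => ?_⟩
        exact hn k k.2 h hh
      rcases hN.eq_bot_or_eq_top with e | e
      · rw [Subgroup.subgroupOf_eq_bot, disjoint_iff, inf_eq_left.mpr hlt.le] at e
        exact not_lt_bot (e ▸ hlt')
      · exact hlt.not_ge (Subgroup.subgroupOf_eq_top.mp e)

end CfsgLib.MaxSub
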