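import Cfsg.Agent.Lib.MaxSub.CLen
import Cfsg.Agent.Lib.Recog.Conjugates

/-!
Composition length bounds through the simple factors of a minimal normal subgroup.
-/

set_option autoImplicit false

namespace CfsgLib.MaxSub

open Subgroup CfsgLib.Recog

variable {G : Type*} [Group G]

/-- image of `H` in the automorphisms of `U` -/
noncomputable def autImg (U H : Subgroup G) : Subgroup (MulAut U) :=
  (H.subgroupOf (normalizer (U : Set G))).map U.normalizerMonoidHom

theorem autImg_mono (U : Subgroup G) {H K : Subgroup G} (h : H ≤ K) : autImg U H ≤ autImg U K :=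
  Subgroup.map_mono (Subgroup.comap_mono h)

theorem normalizerMonoidHom_apply (U : Subgroup G) (x : (normalizer (U : Set G) : Subgroup G))
    (u : U) : ((U.normalizerMonoidHom x) u : G) = (x : G) * u * (x : G)⁻¹ := rfl

theorem autImg_eq_bot_iff {U H : Subgroup G} (hH : H ≤ normalizer (U : Set G)) :
    autImg U H = ⊥ ↔ H ≤ centralizer (U : Set G) := by
  rw [autImg, Subgroup.map_eq_bot_iff, normalizerMonoidHom_ker]
  constructor
  · intro h x hx
    exact (h (show (⟨x, hH hx⟩ : (normalizer (U : Set G) : Subgroup G)) ∈ _ from hx) :)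
  · intro h x hx
    exact h hx

/-- restriction of the conjugation hom to `H` -/
noncomputable def autHom (U H : Subgroup G) (hH : H ≤ normalizer (U : Set G)) : H →* MulAut U :=
  U.normalizerMonoidHom.comp (Subgroup.inclusion hH)

theorem autHom_range (U H : Subgroup G) (hH : H ≤ normalizer (U : Set G)) :
    (autHom U H hH).range = autImg U H := by
  ext f
  constructor
  · rintro ⟨x, rfl⟩
    exact ⟨Subgroup.inclusion hH x, x.2, rfl⟩
  · rintro ⟨x, hx, rfl⟩
    exact ⟨⟨x, hx⟩, rfl⟩

theorem autHom_ker (U H : Subgroup G) (hH : H ≤ normalizer (U : Set G)) :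
    (autHom U H hH).ker = (centralizer (U : Set G)).subgroupOf H := by
  rw [autHom, ← MonoidHom.comap_ker, normalizerMonoidHom_ker]
  rfl

theorem cl_le_centralizer_add [Finite G] (U H : Subgroup G) (hH : H ≤ normalizer (U : Set G)) :
    cl H ≤ cl (H ⊓ centralizer (U : Set G)) + cl (autImg U H) := by
  have h := cl_le_ker_add_range (autHom U H hH)
  rw [cl_top_subgroup, autHom_range, autHom_ker] at h
  rwa [← cl_map_of_injective H.subtype_injective ((centralizer (U : Set G)).subgroupOf H),
    Subgroup.subgroupOf_map_subtype, inf_comm] at h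

theorem card_eq_centralizer_mul [Finite G] (U H : Subgroup G) (hH : H ≤ normalizer (U : Set G)) :
    Nat.card H = Nat.card (H ⊓ centralizer (U : Set G) : Subgroup G) * Nat.card (autImg U H) := by
  have hmap : ((centralizer (U : Set G)).subgroupOf H).map H.subtype
      = H ⊓ centralizer (U : Set G) := by rw [Subgroup.subgroupOf_map_subtype, inf_comm]
  rw [← autHom_range U H hH, ← Subgroup.index_ker, autHom_ker, ← hmap,
    Subgroup.card_map_of_injective H.subtype_injective, Subgroup.card_mul_index]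

/-- `H` intersected with the centralisers of the members of `s` -/
noncomputable def cenInf (H : Subgroup G) (s : Finset (Subgroup G)) : Subgroup G :=
  H ⊓ ⨅ U ∈ s, centralizer (U : Set G)

theorem mem_cenInf {H : Subgroup G} {s : Finset (Subgroup G)} {x : G} :
    x ∈ cenInf H s ↔ x ∈ H ∧ ∀ U ∈ s, x ∈ centralizer (U : Set G) := by
  simp [cenInf, Subgroup.mem_iInf]

theorem cenInf_empty (H : Subgroup G) : cenInf H ∅ = H := by simp [cenInf]

theorem cenInf_insert [DecidableEq (Subgroup G)] (H U : Subgroup G) (s : Finset (Subgroup G)) :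
    cenInf H (insert U s) = cenInf H s ⊓ centralizer (U : Set G) := by
  rw [cenInf, cenInf, Finset.iInf_insert, inf_comm (centralizer _), inf_assoc]

theorem conj_mem_centralizer {U : Subgroup G} {g x : G} (hg : g ∈ normalizer (U : Set G))
    (hx : x ∈ centralizer (U : Set G)) : g * x * g⁻¹ ∈ centralizer (U : Set G) := by
  rw [mem_centralizer_iff] at hx ⊢
  intro u hu
  have e := hx (g⁻¹ * u * g) (by
    simpa using (mem_normalizer_iff.mp (inv_mem hg) u).mp hu)
  calc u * (g * x * g⁻¹) = g * ((g⁻¹ * u * g) * x) * g⁻¹ := by group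
    _ = g * (x * (g⁻¹ * u * g)) * g⁻¹ := by rw [e]
    _ = g * x * g⁻¹ * u := by group

theorem cenInf_normal {H K : Subgroup G} {s : Finset (Subgroup G)} (hHK : ∀ k ∈ K, ∀ h ∈ H,
    k * h * k⁻¹ ∈ H) (hn : ∀ U ∈ s, K ≤ normalizer (U : Set G)) :
    ∀ k ∈ K, ∀ h ∈ cenInf H s, k * h * k⁻¹ ∈ cenInf H s := by
  intro k hk h hh
  rw [mem_cenInf] at hh ⊢
  exact ⟨hHK k hk h hh.1, fun U hU => conj_mem_centralizer (hn U hU hk) (hh.2 U hU)⟩

theorem cl_le_cenInf_add [Finite G] (H : Subgroup G) (s : Finset (Subgroup G)) (m : ℕ)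
    (hn : ∀ U ∈ s, H ≤ normalizer (U : Set G))
    (hm : ∀ U ∈ s, ∀ H' ≤ H, (∀ k ∈ H, ∀ h ∈ H', k * h * k⁻¹ ∈ H') → cl (autImg U H') ≤ m) :
    cl H ≤ cl (cenInf H s) + s.card * m := by
  classical
  induction s using Finset.induction_on with
  | empty => simp [cenInf_empty]
  | @insert U s hU ih =>
    have h1 := ih (fun V hV => hn V (Finset.mem_insert_of_mem hV))
      (fun V hV => hm V (Finset.mem_insert_of_mem hV))
    have hle : cenInf H s ≤ H := inf_le_left
    have h2 := cl_le_centralizer_add U (cenInf H s) (hle.trans (hn U (Finset.mem_insert_self _ _)))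
    have h3 := hm U (Finset.mem_insert_self _ _) (cenInf H s) hle
      (cenInf_normal (fun k hk h hh => mul_mem (mul_mem hk hh) (inv_mem hk))
        (fun V hV => hn V (Finset.mem_insert_of_mem hV)))
    rw [← cenInf_insert] at h2
    rw [Finset.card_insert_of_notMem hU, add_mul, one_mul]
    omega

theorem card_le_cenInf_mul [Finite G] (H : Subgroup G) (s : Finset (Subgroup G)) (m : ℕ)
    (hn : ∀ U ∈ s, H ≤ normalizer (U : Set G))
    (hm : ∀ U ∈ s, Nat.card (autImg U H) ≤ m) :
    Nat.card H ≤ Nat.card (cenInf H s) * m ^ s.card := by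
  classical
  induction s using Finset.induction_on with
  | empty => simp [cenInf_empty]
  | @insert U s hU ih =>
    have h1 := ih (fun V hV => hn V (Finset.mem_insert_of_mem hV))
      (fun V hV => hm V (Finset.mem_insert_of_mem hV))
    have hle : cenInf H s ≤ H := inf_le_left
    have h2 := card_eq_centralizer_mul U (cenInf H s)
      (hle.trans (hn U (Finset.mem_insert_self _ _)))
    rw [← cenInf_insert] at h2
    have h3 : Nat.card (autImg U (cenInf H s)) ≤ m :=
      le_trans (Subgroup.card_le_of_le (autImg_mono U hle)) (hm U (Finset.mem_insert_self _ _))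
    rw [Finset.card_insert_of_notMem hU, pow_succ]
    calc Nat.card H ≤ _ := h1
      _ ≤ Nat.card (cenInf H (insert U s)) * m * m ^ s.card := by
          rw [h2]; gcongr
      _ = _ := by ring

theorem exists_mul_centralizer {U : Subgroup G} {x : G}
    (hx : x ∈ U ⊔ centralizer (U : Set G)) :
    ∃ t ∈ U, ∃ c ∈ centralizer (U : Set G), t * c = x := by
  rw [← SetLike.mem_coe, Subgroup.coe_mul_of_left_le_normalizer_right _ _
    (fun u hu => mem_normalizer_iff.mpr fun c => by
      constructor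
      · exact conj_mem_centralizer (Subgroup.le_normalizer hu)
      · intro hc
        simpa [mul_assoc] using conj_mem_centralizer (inv_mem (Subgroup.le_normalizer hu)) hc)] at hx
  obtain ⟨t, ht, c, hc, rfl⟩ := hx
  exact ⟨t, ht, c, hc, rfl⟩

theorem normalizerMonoidHom_eq {U : Subgroup G}
    {x y : (normalizer (U : Set G) : Subgroup G)}
    (h : (x : G)⁻¹ * y ∈ centralizer (U : Set G)) :
    U.normalizerMonoidHom x = U.normalizerMonoidHom y := by
  rw [MonoidHom.eq_iff, normalizerMonoidHom_ker, Subgroup.mem_subgroupOf]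
  have := inv_mem h
  simpa using this

section Factors

variable [Finite G] {N T : Subgroup G}

/-- the conjugates of `T` -/
noncomputable def facs (T : Subgroup G) : Finset (Subgroup G) :=
  (Set.finite_range fun g : G => cj g T).toFinset

theorem mem_facs {T U : Subgroup G} : U ∈ facs T ↔ ∃ g, cj g T = U := by
  simp [facs]

theorem self_mem_facs (T : Subgroup G) : T ∈ facs T := mem_facs.mpr ⟨1, cj_one T⟩

theorem cj_mem_facs {T U : Subgroup G} (g : G) (h : U ∈ facs T) : cj g U ∈ facs T := by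
  obtain ⟨h', rfl⟩ := mem_facs.mp h
  exact mem_facs.mpr ⟨g * h', cj_mul _ _ _⟩

theorem cj_centralizer (g : G) (U : Subgroup G) :
    cj g (centralizer (U : Set G)) = centralizer (cj g U : Set G) := by
  ext x
  rw [mem_cj, mem_centralizer_iff, mem_centralizer_iff]
  constructor
  · intro h u hu
    have e := h _ (mem_cj.mp hu)
    calc u * x = g * ((g⁻¹ * u * g) * (g⁻¹ * x * g)) * g⁻¹ := by group
      _ = g * ((g⁻¹ * x * g) * (g⁻¹ * u * g)) * g⁻¹ := by rw [e]
      _ = x * u := by group
  · intro h u hu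
    have e := h _ (conj_mem_cj (g := g) hu)
    calc u * (g⁻¹ * x * g) = g⁻¹ * ((g * u * g⁻¹) * x) * g := by group
      _ = g⁻¹ * (x * (g * u * g⁻¹)) * g := by rw [e]
      _ = g⁻¹ * x * g * u := by group

structure FacHyp (N T : Subgroup G) : Prop where
  normal : N.Normal
  nonab : ¬ IsMulCommutative N
  minimal : ∀ K : Subgroup G, K.Normal → K ≤ N → K = ⊥ ∨ K = N
  factor : IsFactor N T

variable (h : FacHyp N T)
include h

theorem FacHyp.fac_le {U : Subgroup G} (hU : U ∈ facs T) : U ≤ N := by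
  obtain ⟨g, rfl⟩ := mem_facs.mp hU
  exact (cj_mono g h.factor.le).trans (cj_eq_self_of_normal g h.normal).le

theorem FacHyp.fac_normalizer {U : Subgroup G} (hU : U ∈ facs T) :
    N ≤ normalizer (U : Set G) := by
  obtain ⟨g, rfl⟩ := mem_facs.mp hU
  have := le_normalizer_cj (g := g) h.factor.le_normalizer
  rwa [cj_eq_self_of_normal g h.normal] at this

theorem FacHyp.fac_inf_centralizer {U : Subgroup G} (hU : U ∈ facs T) :
    U ⊓ centralizer (U : Set G) = ⊥ := by
  obtain ⟨g, rfl⟩ := mem_facs.mp hU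
  rw [← cj_centralizer, cj, cj, ← Subgroup.map_inf _ _ _ (MulAut.conj g).injective,
    h.factor.inf_centralizer, Subgroup.map_bot]

theorem FacHyp.le_fac_sup {U : Subgroup G} (hU : U ∈ facs T) :
    N ≤ U ⊔ centralizer (U : Set G) := by
  obtain ⟨g, rfl⟩ := mem_facs.mp hU
  rw [← cj_centralizer, cj, cj, ← Subgroup.map_sup]
  exact (cj_eq_self_of_normal g h.normal).ge.trans (cj_mono g h.factor.le_sup)

theorem FacHyp.fac_comm {U V : Subgroup G} (hU : U ∈ facs T) (hV : V ∈ facs T) (hne : U ≠ V) :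
    U ≤ centralizer (V : Set G) := by
  obtain ⟨a, rfl⟩ := mem_facs.mp hU
  obtain ⟨b, rfl⟩ := mem_facs.mp hV
  rcases h.factor.eq_or_le_centralizer (b⁻¹ * a) with e | e
  · exfalso
    apply hne
    conv_rhs => rw [← e, ← cj_mul, mul_inv_cancel_left]
  · have := cj_mono b e
    rwa [← cj_mul, mul_inv_cancel_left, cj_centralizer] at this

theorem FacHyp.fac_simple {U : Subgroup G} (hU : U ∈ facs T) : IsSimpleGroup U := by
  obtain ⟨g, rfl⟩ := mem_facs.mp hU
  have := h.factor.simple
  exact (MulEquiv.isSimpleGroup_congr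
    (Subgroup.equivMapOfInjective T _ (MulAut.conj g).injective)).mp this

theorem FacHyp.fac_nonab {U : Subgroup G} (hU : U ∈ facs T) : ¬ U ≤ centralizer (U : Set G) := by
  intro hle
  obtain ⟨g, rfl⟩ := mem_facs.mp hU
  have := h.fac_inf_centralizer hU
  rw [inf_eq_left.mpr hle] at this
  exact cj_ne_bot h.factor.ne_bot this

theorem FacHyp.cenInf_facs : cenInf N (facs T) = ⊥ := by
  have hle : cenInf N (facs T) ≤ centralizer (N : Set G) := by
    intro x hx
    rw [mem_cenInf] at hx
    have : N ≤ centralizer ({x} : Set G) := by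
      conv_lhs => rw [← h.factor.iSup_eq]
      refine iSup_le fun g u hu => mem_centralizer_singleton_iff.mpr ?_
      exact (mem_centralizer_iff.mp (hx.2 _ (mem_facs.mpr ⟨g, rfl⟩)) u hu)
    exact mem_centralizer_iff.mpr fun n hn => mem_centralizer_singleton_iff.mp (this hn)
  have hN : cenInf N (facs T) ≤ N := inf_le_left
  have := h.normal
  rcases h.minimal (N ⊓ centralizer (N : Set G)) inferInstance inf_le_left with e | e
  · exact le_bot_iff.mp (e ▸ le_inf hN hle)
  · exact absurd (Subgroup.le_centralizer_iff_isMulCommutative.mp (inf_eq_left.mp e)) h.nonab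

theorem FacHyp.cenInf_erase [DecidableEq (Subgroup G)] {U : Subgroup G} (hU : U ∈ facs T) :
    cenInf N ((facs T).erase U) ≤ U := by
  intro x hx
  rw [mem_cenInf] at hx
  obtain ⟨t, ht, c, hc, rfl⟩ := exists_mul_centralizer (h.le_fac_sup hU hx.1)
  have hc1 : c ∈ cenInf N (facs T) := by
    rw [mem_cenInf]
    refine ⟨by simpa using mul_mem (inv_mem (h.fac_le hU ht)) hx.1, fun V hV => ?_⟩
    rcases eq_or_ne V U with rfl | hne
    · exact hc
    · have := mul_mem (inv_mem (h.fac_comm hU hV hne.symm ht))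
        (hx.2 V (Finset.mem_erase.mpr ⟨hne, hV⟩))
      simpa using this
  rw [h.cenInf_facs, Subgroup.mem_bot] at hc1
  simpa [hc1] using ht

theorem FacHyp.autImg_self {U : Subgroup G} (hU : U ∈ facs T) : autImg U U = autImg U N := by
  refine le_antisymm (autImg_mono U (h.fac_le hU)) ?_
  rintro _ ⟨⟨x, hxn⟩, hx, rfl⟩
  obtain ⟨t, ht, c, hc, e⟩ := exists_mul_centralizer (h.le_fac_sup hU hx)
  refine ⟨⟨t, Subgroup.le_normalizer ht⟩, ht, normalizerMonoidHom_eq ?_⟩
  show t⁻¹ * x ∈ _
  have e' : t * c = x := e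
  rw [← e', inv_mul_cancel_left]
  exact hc

theorem FacHyp.card_autImg {U : Subgroup G} (hU : U ∈ facs T) :
    Nat.card (autImg U N) = Nat.card T := by
  have := card_eq_centralizer_mul U U Subgroup.le_normalizer
  rw [h.fac_inf_centralizer hU, Subgroup.card_bot, one_mul, h.autImg_self hU] at this
  rw [← this]
  obtain ⟨g, rfl⟩ := mem_facs.mp hU
  exact natCard_cj g T

theorem FacHyp.cl_autImg_le {U : Subgroup G} (hU : U ∈ facs T) : cl (autImg U N) ≤ 1 := by
  have hinj : Function.Injective (autHom U U Subgroup.le_normalizer) := by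
    rw [← MonoidHom.ker_eq_bot_iff, autHom_ker, Subgroup.subgroupOf_eq_bot, disjoint_iff,
      inf_comm, h.fac_inf_centralizer hU]
  have := h.fac_simple hU
  rw [← h.autImg_self hU, ← autHom_range U U Subgroup.le_normalizer, cl_range_of_injective hinj,
    cl_top_subgroup]
  exact cl_le_one

theorem FacHyp.autImg_normal {U : Subgroup G} (hU : U ∈ facs T) {H K : Subgroup G} (hKN : K ≤ N)
    (hHK : H ≤ K) (hn : ∀ k ∈ K, ∀ x ∈ H, k * x * k⁻¹ ∈ H) :
    ∀ k ∈ autImg U K, ∀ x ∈ autImg U H, k * x * k⁻¹ ∈ autImg U H := by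
  rintro _ ⟨k, hk, rfl⟩ _ ⟨x, hx, rfl⟩
  exact ⟨k * x * k⁻¹, hn _ hk _ hx, by simp⟩

theorem FacHyp.cl_le_card : cl N ≤ (facs T).card := by
  have h1 := cl_le_cenInf_add N (facs T) 1 (fun U hU => h.fac_normalizer hU)
    (fun U hU H' hle hn => le_trans (cl_mono_normal (autImg_mono U hle)
      (h.autImg_normal hU le_rfl hle hn)) (h.cl_autImg_le hU))
  rw [h.cenInf_facs, cl_bot] at h1
  omega

theorem FacHyp.card_pow : Nat.card T ^ (facs T).card ≤ Nat.card N := by
  classical
  suffices H : ∀ s ⊆ facs T, Nat.card T ^ s.card * Nat.card (cenInf N s) ≤ Nat.card N by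
    have := H _ Finset.Subset.rfl
    rwa [h.cenInf_facs, Subgroup.card_bot, mul_one] at this
  intro s
  induction s using Finset.induction_on with
  | empty => simp [cenInf_empty]
  | @insert U s hU ih =>
    intro hs
    have hUf : U ∈ facs T := hs (Finset.mem_insert_self _ _)
    have h1 := ih (fun V hV => hs (Finset.mem_insert_of_mem hV))
    have hle : cenInf N s ≤ N := inf_le_left
    have hUs : U ≤ cenInf N s := by
      intro u hu
      rw [mem_cenInf]
      exact ⟨h.fac_le hUf hu, fun V hV => h.fac_comm hUf (hs (Finset.mem_insert_of_mem hV))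
        (fun e => hU (e ▸ hV)) hu⟩
    have himg : autImg U (cenInf N s) = autImg U N :=
      le_antisymm (autImg_mono U hle) ((h.autImg_self hUf).ge.trans (autImg_mono U hUs))
    have h2 := card_eq_centralizer_mul U (cenInf N s) (hle.trans (h.fac_normalizer hUf))
    rw [himg, h.card_autImg hUf, ← cenInf_insert] at h2
    rw [Finset.card_insert_of_notMem hU, pow_succ]
    calc Nat.card T ^ s.card * Nat.card T * Nat.card (cenInf N (insert U s))
        = Nat.card T ^ s.card * Nat.card (cenInf N s) := by rw [h2]; ring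
      _ ≤ _ := h1

theorem FacHyp.autImg_eq_or_bot {U : Subgroup G} (hU : U ∈ facs T) {H : Subgroup G}
    (hHN : H ≤ N) {K : Subgroup G} (hK : autImg U K = autImg U N) (hKN : K ≤ N) (hHK : H ≤ K)
    (hn : ∀ k ∈ K, ∀ x ∈ H, k * x * k⁻¹ ∈ H) : autImg U H = ⊥ ∨ autImg U H = autImg U N := by
  by_contra hc
  rw [not_or] at hc
  have h1 := cl_lt_normal (lt_of_le_of_ne (autImg_mono U hHN) hc.2)
    (hK ▸ h.autImg_normal hU hKN hHK hn)
  have := one_le_cl hc.1
  have := h.cl_autImg_le hU
  omega

theorem FacHyp.exists_small {D : Subgroup G} (hDN : D ≤ N)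
    (hfull : ∀ U ∈ facs T, autImg U D = autImg U N) (hdisj : ∀ U ∈ facs T, D ⊓ U = ⊥) :
    ∃ S ⊆ facs T, 2 * S.card ≤ (facs T).card ∧ cenInf D S = ⊥ := by
  classical
  have hex : ∃ m, ∃ S ⊆ facs T, cenInf D S = ⊥ ∧ S.card = m := by
    refine ⟨_, facs T, Finset.Subset.rfl, le_bot_iff.mp ?_, rfl⟩
    rw [← h.cenInf_facs]
    exact inf_le_inf_right _ hDN
  obtain ⟨S, hS, hSbot, hScard⟩ := Nat.find_spec hex
  refine ⟨S, hS, ?_, hSbot⟩
  have hX : ∀ i ∈ S, cenInf D (S.erase i) ≠ ⊥ := by
    intro i hi e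
    have := Nat.find_min' hex ⟨S.erase i, (Finset.erase_subset _ _).trans hS, e, rfl⟩
    rw [Finset.card_erase_of_mem hi] at this
    have := Finset.card_pos.mpr ⟨i, hi⟩
    omega
  have hXle : ∀ i, cenInf D (S.erase i) ≤ D := fun i => inf_le_left
  have hXn : ∀ i, ∀ k ∈ D, ∀ x ∈ cenInf D (S.erase i), k * x * k⁻¹ ∈ cenInf D (S.erase i) :=
    fun i => cenInf_normal (fun k hk x hx => mul_mem (mul_mem hk hx) (inv_mem hk))
      (fun U hU => hDN.trans (h.fac_normalizer (hS (Finset.mem_of_mem_erase hU))))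
  have hj : ∀ i ∈ S, ∃ j ∈ facs T, j ∉ S ∧ autImg j (cenInf D (S.erase i)) = autImg j N := by
    intro i hi
    by_contra hc
    simp only [not_exists, not_and] at hc
    apply hX i hi
    rw [← le_bot_iff, ← hdisj i (hS hi)]
    refine le_inf (hXle i) (le_trans ?_ (h.cenInf_erase (hS hi)))
    intro x hx
    rw [mem_cenInf]
    refine ⟨hDN (hXle i hx), fun V hV => ?_⟩
    obtain ⟨hne, hVf⟩ := Finset.mem_erase.mp hV
    by_cases hVS : V ∈ S
    · exact (mem_cenInf.mp hx).2 V (Finset.mem_erase.mpr ⟨hne, hVS⟩)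
    · have hb := (h.autImg_eq_or_bot hVf ((hXle i).trans hDN) (hfull V hVf) hDN (hXle i)
        (hXn i)).resolve_right (hc V hVf hVS)
      exact (autImg_eq_bot_iff (((hXle i).trans hDN).trans (h.fac_normalizer hVf))).mp hb hx
  choose! f hf hfS hfimg using hj
  have hinj : ∀ i ∈ S, ∀ i' ∈ S, f i = f i' → i = i' := by
    intro i hi i' hi' e
    by_contra hne
    set U := f i with hU
    have hUf : U ∈ facs T := hf i hi
    apply h.fac_nonab hUf
    have hcomm : ∀ x ∈ cenInf D (S.erase i), ∀ y ∈ cenInf D (S.erase i'), x * y = y * x := by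
      intro x hx y hy
      have hxy : x * y * x⁻¹ * y⁻¹ ∈ cenInf D S := by
        have h1 : x * y * x⁻¹ * y⁻¹ ∈ cenInf D (S.erase i) := by
          have := hXn i y (hXle i' hy) x⁻¹ (inv_mem hx)
          have h' := mul_mem hx this
          simpa [mul_assoc] using h'
        have h2 : x * y * x⁻¹ * y⁻¹ ∈ cenInf D (S.erase i') :=
          mul_mem (hXn i' x (hXle i hx) y hy) (inv_mem hy)
        rw [mem_cenInf] at h1 h2 ⊢
        refine ⟨h1.1, fun V hV => ?_⟩
        rcases eq_or_ne V i with rfl | hVi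
        · exact h2.2 V (Finset.mem_erase.mpr ⟨hne, hV⟩)
        · exact h1.2 V (Finset.mem_erase.mpr ⟨hVi, hV⟩)
      rw [hSbot, Subgroup.mem_bot] at hxy
      exact mul_inv_eq_iff_eq_mul.mp (mul_inv_eq_one.mp hxy)
    intro u hu
    refine mem_centralizer_iff.mpr fun v hv => ?_
    have hu' : (U.normalizerMonoidHom ⟨u, Subgroup.le_normalizer hu⟩) ∈
        autImg U (cenInf D (S.erase i)) := by
      rw [show autImg U (cenInf D (S.erase i)) = autImg U N from hfimg i hi, ← h.autImg_self hUf]
      exact ⟨_, hu, rfl⟩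
    have hv' : (U.normalizerMonoidHom ⟨v, Subgroup.le_normalizer hv⟩) ∈
        autImg U (cenInf D (S.erase i')) := by
      have hi'' : autImg U (cenInf D (S.erase i')) = autImg U N := by
        rw [e]; exact hfimg i' hi'
      rw [hi'', ← h.autImg_self hUf]
      exact ⟨_, hv, rfl⟩
    obtain ⟨x, hx, hx'⟩ := hu'
    obtain ⟨y, hy, hy'⟩ := hv'
    have key : U.normalizerMonoidHom ⟨v, Subgroup.le_normalizer hv⟩ *
        U.normalizerMonoidHom ⟨u, Subgroup.le_normalizer hu⟩ =
        U.normalizerMonoidHom ⟨u, Subgroup.le_normalizer hu⟩ *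
        U.normalizerMonoidHom ⟨v, Subgroup.le_normalizer hv⟩ := by
      rw [← hx', ← hy', ← map_mul, ← map_mul]
      exact congrArg _ (Subtype.ext (hcomm _ hx _ hy).symm)
    rw [← map_mul, ← map_mul, MonoidHom.eq_iff, normalizerMonoidHom_ker,
      Subgroup.mem_subgroupOf] at key
    have hmem : ((u * v)⁻¹ * (v * u)) ∈ U ⊓ centralizer (U : Set G) :=
      ⟨U.mul_mem (U.inv_mem (U.mul_mem hu hv)) (U.mul_mem hv hu), by simpa using key⟩
    rw [h.fac_inf_centralizer hUf, Subgroup.mem_bot, inv_mul_eq_one] at hmem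
    exact hmem.symm
  have hsub : S.image f ⊆ facs T \ S := by
    intro U hU
    obtain ⟨i, hi, rfl⟩ := Finset.mem_image.mp hU
    exact Finset.mem_sdiff.mpr ⟨hf i hi, hfS i hi⟩
  have h1 := Finset.card_le_card hsub
  rw [Finset.card_image_of_injOn (fun i hi i' hi' => hinj i hi i' hi'),
    Finset.card_sdiff_of_subset hS] at h1
  have := Finset.card_le_card hS
  omega

end Factors

end CfsgLib.MaxSub
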