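import Cfsg.Agent.Lib.MaxSub.HermFull
import Mathlib.Data.Fintype.BigOperators

/-!
Norm-one elements of a field of order `q²`: sums with prescribed value.
-/

set_option autoImplicit false
set_option linter.unusedSectionVars false

namespace CfsgLib.MaxSub.UFrame

open CfsgLib.MaxSub

variable {F : Type*} [Field F] [Fintype F] [DecidableEq F] {q : ℕ} (hF : Fintype.card F = q ^ 2)

/-- elements of norm one -/
noncomputable def circ : Finset F := Finset.univ.filter fun x => x * qConj hF x = 1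

theorem mem_circ {x : F} : x ∈ circ hF ↔ x * qConj hF x = 1 := by simp [circ]

theorem circ_ne_zero {x : F} (hx : x ∈ circ hF) : x ≠ 0 := left_ne_zero_of_mul_eq_one ((mem_circ hF).1 hx)

theorem circ_conj {x : F} (hx : x ∈ circ hF) : qConj hF x = x⁻¹ := eq_inv_of_mul_eq_one_right ((mem_circ hF).1 hx)

theorem one_mem_circ : (1 : F) ∈ circ hF := by simp [mem_circ]

theorem neg_one_mem_circ : (-1 : F) ∈ circ hF := by simp [mem_circ]

theorem mul_mem_circ {x y : F} (hx : x ∈ circ hF) (hy : y ∈ circ hF) : x * y ∈ circ hF := by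
  rw [mem_circ] at *
  rw [map_mul, mul_mul_mul_comm, hx, hy, one_mul]

theorem inv_mem_circ {x : F} (hx : x ∈ circ hF) : x⁻¹ ∈ circ hF := by
  rw [mem_circ] at *
  rw [map_inv₀, ← mul_inv, hx, inv_one]

theorem conj_mem_circ {x : F} (hx : x ∈ circ hF) : qConj hF x ∈ circ hF := by
  rw [circ_conj hF hx]; exact inv_mem_circ hF hx

theorem prod_mem_circ {κ : Type*} {s : Finset κ} {d : κ → F} (h : ∀ i ∈ s, d i ∈ circ hF) :
    ∏ i ∈ s, d i ∈ circ hF :=
  Finset.prod_induction d (· ∈ circ hF) (fun _ _ => mul_mem_circ hF) (one_mem_circ hF) h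

theorem card_circ : (circ hF).card = q + 1 := by
  rw [← CfsgLib.Classical.card_norm_fibre hF one_ne_zero (one_pow q), Nat.card_eq_fintype_card]
  exact (Fintype.card_of_subtype _ fun x => by rw [mem_circ, qConj_apply, ← pow_succ']).symm

theorem two_le_q (hF : Fintype.card F = q ^ 2) : 2 ≤ q := CfsgLib.Classical.two_le_of_card_sq hF

theorem exists_circ_ne : ∃ μ ∈ circ hF, μ ≠ 1 ∧ μ ≠ -1 := by
  obtain ⟨μ, hμ, h⟩ := Finset.exists_mem_notMem_of_card_lt_card (s := ({1, -1} : Finset F)) (t := circ hF)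
    (Finset.card_le_two.trans_lt (by rw [card_circ]; have := two_le_q hF; omega))
  simp only [Finset.mem_insert, Finset.mem_singleton, not_or] at h
  exact ⟨μ, hμ, h⟩

theorem conj_ne_self {μ : F} (hμ : μ ∈ circ hF) (h1 : μ ≠ 1) (h2 : μ ≠ -1) : qConj hF μ ≠ μ := by
  intro e
  have h := (mem_circ hF).1 hμ
  rw [e, mul_self_eq_one_iff] at h
  exact h.elim h1 h2

/-- the sums `x A + y B` over norm-one `x, y` -/
noncomputable def circSum (A B : F) : Finset F :=
  ((circ hF) ×ˢ (circ hF)).image fun p => p.1 * A + p.2 * B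

theorem exists_of_mem_circSum {A B z : F} (h : z ∈ circSum hF A B) :
    ∃ x ∈ circ hF, ∃ y ∈ circ hF, x * A + y * B = z := by
  obtain ⟨⟨x, y⟩, hxy, rfl⟩ := Finset.mem_image.1 h
  exact ⟨x, (Finset.mem_product.1 hxy).1, y, (Finset.mem_product.1 hxy).2, rfl⟩

theorem card_circSum {A B : F} (hA : A ≠ 0) (hB : B ≠ 0) : q * q + q + 2 ≤ 2 * (circSum hF A B).card := by
  set σ := qConj hF
  have hfib : ∀ z, (((circ hF) ×ˢ (circ hF)).filter fun p => p.1 * A + p.2 * B = z).card ≤
      if z = 0 then q + 1 else 2 := by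
    intro z
    set S := ((circ hF) ×ˢ (circ hF)).filter fun p => p.1 * A + p.2 * B = z with hS
    have hinj : Set.InjOn Prod.fst (S : Set (F × F)) := by
      rintro ⟨x, y⟩ hp ⟨x', y'⟩ hp' (rfl : x = x')
      simp only [hS, Finset.coe_filter, Set.mem_ofPred_eq] at hp hp'
      rw [Prod.mk.injEq]
      exact ⟨rfl, mul_right_cancel₀ hB (add_left_cancel (hp.2.trans hp'.2.symm))⟩
    have hsub : ∀ p ∈ S, p.1 ∈ circ hF := fun p hp =>
      (Finset.mem_product.1 (Finset.mem_filter.1 hp).1).1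
    rw [← Finset.card_image_of_injOn hinj]
    split_ifs with hz
    · rw [← card_circ hF]
      exact Finset.card_le_card (Finset.image_subset_iff.2 hsub)
    · by_contra hlt
      obtain ⟨x₁, x₂, x₃, h₁, h₂, h₃, n12, n13, n23⟩ := Finset.two_lt_card_iff.1 (not_le.1 hlt)
      have heq : ∀ x ∈ S.image Prod.fst,
          A * σ z * (x * x) - (z * σ z + A * σ A - B * σ B) * x + σ A * z = 0 := by
        intro x hx
        obtain ⟨⟨x, y⟩, hp, rfl⟩ := Finset.mem_image.1 hx
        simp only [hS, Finset.mem_filter, Finset.mem_product] at hp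
        obtain ⟨⟨hx1, hy1⟩, e⟩ := hp
        have hx2 := (mem_circ hF).1 hx1
        have hy2 := (mem_circ hF).1 hy1
        rw [← e]
        simp only [map_add, map_mul]
        linear_combination -(x * (B * σ B)) * hy2 - (y * σ A * B) * hx2
      have q1 := heq _ h₁; have q2 := heq _ h₂; have q3 := heq _ h₃
      have f12 : A * σ z * (x₁ + x₂) - (z * σ z + A * σ A - B * σ B) = 0 :=
        (mul_eq_zero.1 (show (x₁ - x₂) * (A * σ z * (x₁ + x₂) - (z * σ z + A * σ A - B * σ B)) = 0 by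
          linear_combination q1 - q2)).resolve_left (sub_ne_zero.2 n12)
      have f13 : A * σ z * (x₁ + x₃) - (z * σ z + A * σ A - B * σ B) = 0 :=
        (mul_eq_zero.1 (show (x₁ - x₃) * (A * σ z * (x₁ + x₃) - (z * σ z + A * σ A - B * σ B)) = 0 by
          linear_combination q1 - q3)).resolve_left (sub_ne_zero.2 n13)
      have h0 : A * σ z * (x₂ - x₃) = 0 := by linear_combination f12 - f13
      exact mul_ne_zero (mul_ne_zero hA ((map_ne_zero σ).2 hz)) (sub_ne_zero.2 n23) h0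
  have hcard : (q + 1) * (q + 1) = ∑ z ∈ circSum hF A B,
      (((circ hF) ×ˢ (circ hF)).filter fun p => p.1 * A + p.2 * B = z).card := by
    rw [← card_circ hF, ← Finset.card_product]
    exact Finset.card_eq_sum_card_fiberwise fun p hp => Finset.mem_image_of_mem _ hp
  have hle : (q + 1) * (q + 1) ≤ ∑ z ∈ circSum hF A B, if z = 0 then q + 1 else 2 :=
    hcard.le.trans (Finset.sum_le_sum fun z _ => hfib z)
  have hq := two_le_q hF
  by_cases h0 : (0 : F) ∈ circSum hF A B
  · rw [← Finset.add_sum_erase _ _ h0, if_pos rfl,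
      Finset.sum_congr rfl fun z hz => if_neg (Finset.ne_of_mem_erase hz), Finset.sum_const, smul_eq_mul,
      Finset.card_erase_of_mem h0] at hle
    have := Finset.card_pos.2 ⟨_, h0⟩
    ring_nf at hle ⊢
    omega
  · rw [Finset.sum_congr rfl fun z hz => if_neg (fun e : z = 0 => h0 (e ▸ hz)), Finset.sum_const,
      smul_eq_mul] at hle
    ring_nf at hle ⊢
    omega

/-- four norm-one elements with a prescribed combination, two of them different -/
theorem exists_four {A₁ A₂ A₃ A₄ : F} (h₁ : A₁ ≠ 0) (h₂ : A₂ ≠ 0) (h₃ : A₃ ≠ 0) (h₄ : A₄ ≠ 0) (T : F) :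
    ∃ e₁ ∈ circ hF, ∃ e₂ ∈ circ hF, ∃ e₃ ∈ circ hF, ∃ e₄ ∈ circ hF,
      e₁ * A₁ + e₂ * A₂ + e₃ * A₃ + e₄ * A₄ = T ∧ e₁ ≠ e₂ := by
  have hX := card_circSum hF h₁ h₂
  have hY : (((circSum hF A₃ A₄).image fun w => T - w)).card = (circSum hF A₃ A₄).card :=
    Finset.card_image_of_injective _ fun _ _ h => sub_right_injective h
  have hW := card_circSum hF h₃ h₄
  have hD := (Finset.card_image_le (s := circ hF) (f := fun e => e * (A₁ + A₂))).trans_eq (card_circ hF)
  have hu := Finset.card_le_univ (circSum hF A₁ A₂ ∪ (circSum hF A₃ A₄).image fun w => T - w)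
  have hui := Finset.card_union_add_card_inter (circSum hF A₁ A₂) ((circSum hF A₃ A₄).image fun w => T - w)
  rw [hF, pow_two] at hu
  obtain ⟨x, hx, hxD⟩ := Finset.exists_mem_notMem_of_card_lt_card
    (s := (circ hF).image fun e => e * (A₁ + A₂))
    (t := circSum hF A₁ A₂ ∩ (circSum hF A₃ A₄).image fun w => T - w) (by omega)
  obtain ⟨hx1, hx2⟩ := Finset.mem_inter.1 hx
  obtain ⟨e₁, he₁, e₂, he₂, rfl⟩ := exists_of_mem_circSum hF hx1
  obtain ⟨w, hw, hwe⟩ := Finset.mem_image.1 hx2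
  obtain ⟨e₃, he₃, e₄, he₄, rfl⟩ := exists_of_mem_circSum hF hw
  refine ⟨e₁, he₁, e₂, he₂, e₃, he₃, e₄, he₄, by linear_combination -hwe, ?_⟩
  rintro rfl
  exact hxD (Finset.mem_image.2 ⟨e₁, he₁, mul_add _ _ _⟩)

/-- three norm-one elements bringing a constant to the circle -/
theorem exists_three {A B C : F} (hA : A ≠ 0) (hB : B ≠ 0) (hC : C ≠ 0) (K : F) :
    ∃ e₁ ∈ circ hF, ∃ e₂ ∈ circ hF, ∃ e₃ ∈ circ hF, K + e₁ * A + e₂ * B + e₃ * C ∈ circ hF := by
  have hX := card_circSum hF hA hB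
  have hX' : (((circSum hF A B).image fun w => K + w)).card = (circSum hF A B).card :=
    Finset.card_image_of_injective _ fun _ _ h => add_right_injective _ h
  have hY := card_circSum hF (one_ne_zero (α := F)) (neg_ne_zero.2 hC)
  have hu := Finset.card_le_univ (((circSum hF A B).image fun w => K + w) ∪ circSum hF 1 (-C))
  have hui := Finset.card_union_add_card_inter ((circSum hF A B).image fun w => K + w) (circSum hF 1 (-C))
  rw [hF, pow_two] at hu
  obtain ⟨x, hx⟩ := Finset.card_pos.1 (show 0 < (((circSum hF A B).image fun w => K + w) ∩ circSum hF 1 (-C)).card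
    by omega)
  obtain ⟨hx1, hx2⟩ := Finset.mem_inter.1 hx
  obtain ⟨w, hw, hwe⟩ := Finset.mem_image.1 hx1
  obtain ⟨e₁, he₁, e₂, he₂, rfl⟩ := exists_of_mem_circSum hF hw
  obtain ⟨η, hη, e₃, he₃, hη'⟩ := exists_of_mem_circSum hF hx2
  refine ⟨e₁, he₁, e₂, he₂, e₃, he₃, ?_⟩
  rw [show K + e₁ * A + e₂ * B + e₃ * C = η by linear_combination hwe - hη']
  exact hη

/-- A linear equation in norm-one unknowns with product one. -/
theorem exists_circ_sum {ι : Type} [Fintype ι] [DecidableEq ι] (A : ι → F) (G W : Finset ι)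
    (hG : ∀ l ∈ G, A l ≠ 0) (hGW : Disjoint G W) (hG12 : 12 ≤ G.card) (hW : W.card + 13 ≤ Fintype.card ι)
    {p₁ p₂ : ι} (hp₁ : p₁ ∈ G) (hp₂ : p₂ ∈ G) (hp : p₁ ≠ p₂) :
    ∃ d : ι → F, (∀ l, d l ∈ circ hF) ∧ ∏ l, d l = 1 ∧ ∑ l, d l * A l = 0 ∧
      (∀ i ∈ W, ∀ j ∈ W, d i = d j) ∧ d p₁ ≠ d p₂ := by
  obtain ⟨e, heW, he1, he2, heG⟩ : ∃ e, e ∉ W ∧ e ≠ p₁ ∧ e ≠ p₂ ∧ (e ∈ G → 13 ≤ G.card) := by
    by_cases h13 : 13 ≤ G.card
    · obtain ⟨e, he, h⟩ := Finset.exists_mem_notMem_of_card_lt_card (s := ({p₁, p₂} : Finset ι)) (t := G)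
        (Finset.card_le_two.trans_lt (by omega))
      simp only [Finset.mem_insert, Finset.mem_singleton, not_or] at h
      exact ⟨e, Finset.disjoint_left.1 hGW he, h.1, h.2, fun _ => h13⟩
    · obtain ⟨e, -, h⟩ := Finset.exists_mem_notMem_of_card_lt_card (s := G ∪ W) (t := Finset.univ)
        ((Finset.card_union_le _ _).trans_lt (by rw [Finset.card_univ]; omega))
      simp only [Finset.mem_union, not_or] at h
      exact ⟨e, h.2, fun x => h.1 (x ▸ hp₁), fun x => h.1 (x ▸ hp₂), fun x => absurd x h.1⟩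
  obtain ⟨T, hT, hTc⟩ := Finset.exists_subset_card_eq (s := ((G.erase p₁).erase p₂).erase e) (n := 10) (by
    have h2 : p₂ ∈ G.erase p₁ := Finset.mem_erase.2 ⟨hp.symm, hp₂⟩
    by_cases h : e ∈ G
    · have := heG h
      rw [Finset.card_erase_of_mem (by simp [h, he1, he2]), Finset.card_erase_of_mem h2,
        Finset.card_erase_of_mem hp₁]
      omega
    · rw [Finset.erase_eq_of_notMem (by simp [h]), Finset.card_erase_of_mem h2, Finset.card_erase_of_mem hp₁]
      omega)
  let w := (T.equivFinOfCardEq hTc).symm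
  let v : Fin 12 → ι := Fin.cons p₁ (Fin.cons p₂ fun i => (w i : ι))
  have hwT : ∀ i, (w i : ι) ∈ G ∧ (w i : ι) ≠ p₁ ∧ (w i : ι) ≠ p₂ ∧ (w i : ι) ≠ e := fun i => by
    have := hT (w i).2
    simp only [Finset.mem_erase] at this
    exact ⟨this.2.2.2, this.2.2.1, this.2.1, this.1⟩
  have hv : Function.Injective v := by
    refine Fin.cons_injective_iff.2 ⟨?_, Fin.cons_injective_iff.2 ⟨?_, fun i j h => w.injective (Subtype.ext h)⟩⟩
    · rintro ⟨i, hi⟩
      revert hi
      refine Fin.cases ?_ (fun i => ?_) i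
      · simp [hp.symm]
      · simp [(hwT i).2.1]
    · rintro ⟨i, hi⟩
      exact (hwT i).2.2.1 hi
  have hvG : ∀ i, v i ∈ G ∧ v i ≠ e := by
    refine Fin.cases ⟨hp₁, he1.symm⟩ (Fin.cases ⟨hp₂, he2.symm⟩ fun i => ?_)
    exact ⟨(hwT i).1, (hwT i).2.2.2⟩
  have hA := fun i => hG _ (hvG i).1
  let s : Finset ι := insert e (Finset.univ.map ⟨v, hv⟩)
  have hes : e ∉ Finset.univ.map ⟨v, hv⟩ := by
    simp only [Finset.mem_map, Finset.mem_univ, true_and, Function.Embedding.coeFn_mk, not_exists]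
    exact fun i => (hvG i).2
  let R := ∑ l ∈ sᶜ, A l
  obtain ⟨a₀, ha₀, a₁, ha₁, a₂, ha₂, a₃, ha₃, hsa, hne⟩ := exists_four hF (hA 0) (hA 1) (hA 2) (hA 3) 0
  obtain ⟨b₀, hb₀, b₁, hb₁, b₂, hb₂, b₃, hb₃, hsb, -⟩ := exists_four hF (hA 4) (hA 5) (hA 6) (hA 7) (-A e)
  obtain ⟨c₀, hc₀, c₁, hc₁, c₂, hc₂, c₃, hc₃, hsc, -⟩ := exists_four hF (hA 8) (hA 9) (hA 10) (hA 11) (-R)
  let P := a₀ * a₁ * a₂ * a₃ * (b₀ * b₁ * b₂ * b₃) * (c₀ * c₁ * c₂ * c₃)
  have hP : P ∈ circ hF := by
    simp only [P]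
    repeat' apply mul_mem_circ hF
    all_goals assumption
  let c : Fin 12 → F := ![P * a₀, P * a₁, P * a₂, P * a₃, P⁻¹ * b₀, P⁻¹ * b₁, P⁻¹ * b₂, P⁻¹ * b₃, c₀, c₁, c₂, c₃]
  have hc : ∀ i, c i ∈ circ hF := fun i => by
    fin_cases i <;> first
      | exact mul_mem_circ hF hP (by assumption)
      | exact mul_mem_circ hF (inv_mem_circ hF hP) (by assumption)
      | assumption
  let d : ι → F := Function.update (Function.extend v c fun _ => 1) e P⁻¹
  have hdv : ∀ i, d (v i) = c i := fun i => by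
    simp only [d]
    rw [Function.update_of_ne (hvG i).2, hv.extend_apply]
  have hde : d e = P⁻¹ := Function.update_self ..
  have hdo : ∀ l ∉ s, d l = 1 := by
    intro l hl
    simp only [s, Finset.mem_insert, Finset.mem_map, Finset.mem_univ, true_and, Function.Embedding.coeFn_mk,
      not_or] at hl
    simp only [d]
    rw [Function.update_of_ne hl.1, Function.extend_apply' _ _ _ hl.2]
  refine ⟨d, fun l => ?_, ?_, ?_, fun i hi j hj => ?_, ?_⟩
  · by_cases hl : l ∈ s
    · simp only [s, Finset.mem_insert, Finset.mem_map, Finset.mem_univ, true_and,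
        Function.Embedding.coeFn_mk] at hl
      rcases hl with rfl | ⟨i, rfl⟩
      · rw [hde]; exact inv_mem_circ hF hP
      · rw [hdv]; exact hc i
    · rw [hdo l hl]; exact one_mem_circ hF
  · rw [← Finset.prod_subset (Finset.subset_univ s) fun l _ hl => hdo l hl, Finset.prod_insert hes,
      Finset.prod_map, hde]
    simp only [Function.Embedding.coeFn_mk, hdv, c, Fin.prod_univ_succ, Matrix.cons_val_zero, Matrix.cons_val_succ,
      Fin.prod_univ_zero, mul_one]
    have h0 := circ_ne_zero hF hP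
    field_simp
    simp only [P]
    ring
  · rw [← Finset.sum_add_sum_compl s, Finset.sum_insert hes, Finset.sum_map,
      Finset.sum_congr rfl (fun l hl => show d l * A l = A l by
        rw [hdo l (Finset.mem_compl.1 hl), one_mul]) (s₁ := sᶜ), hde]
    simp only [Function.Embedding.coeFn_mk, hdv]
    show P⁻¹ * A e + ∑ i, c i * A (v i) + R = 0
    simp only [c, Fin.sum_univ_succ, Matrix.cons_val_zero, Matrix.cons_val_succ, Fin.sum_univ_zero, add_zero]
    simp only [Fin.succ_zero_eq_one, Fin.reduceSucc]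
    linear_combination P * hsa + P⁻¹ * hsb + hsc
  · have hout : ∀ l ∈ W, l ∉ s := fun l hl hls => by
      simp only [s, Finset.mem_insert, Finset.mem_map, Finset.mem_univ, true_and,
        Function.Embedding.coeFn_mk] at hls
      rcases hls with rfl | ⟨i, rfl⟩
      · exact heW hl
      · exact Finset.disjoint_left.1 hGW (hvG i).1 hl
    rw [hdo i (hout i hi), hdo j (hout j hj)]
  · have e1 : d p₁ = P * a₀ := hdv 0
    have e2 : d p₂ = P * a₁ := hdv 1
    rw [e1, e2]
    exact fun h => hne (mul_left_cancel₀ (circ_ne_zero hF hP) h)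

end CfsgLib.MaxSub.UFrame
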