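import Cfsg.Agent.Lib.MaxSub.CircleSix

/-!
Monomial elements in dimension eight with a prescribed zero.

In odd characteristic the square class of the product decides between four transposed pairs and a four-cycle
with two pairs; in even characteristic four fixed points with two transposed pairs suffice.
-/

set_option autoImplicit false
set_option linter.unusedSectionVars false

namespace CfsgLib.MaxSub.UFrame

open CfsgLib.MaxSub

variable {F : Type*} [Field F] [Fintype F] [DecidableEq F] {q : ℕ} (hF : Fintype.card F = q ^ 2)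

/-- the zero-sum requirement on `(π, w)` for the column `c` -/
def IsZeroMonEight (c : Fin 8 → F) (π : Equiv.Perm (Fin 8)) (w : Fin 8 → F) : Prop :=
  (∀ l, w l ∈ circ hF) ∧ ((Equiv.Perm.sign π : ℤ) : F) * ∏ l, w l = 1 ∧
    ∑ l, w l * (qConj hF (c (π l)) * c l) = 0 ∧
    ∃ l l', l ≠ l' ∧ π l = l' ∧ π l' = l ∧
      w l * qConj hF (w l') * (c l * qConj hF (c l')) = -(c l' * qConj hF (c l))

include hF in
theorem IsZeroMonEight.transport {c : Fin 8 → F} {π : Equiv.Perm (Fin 8)} {w : Fin 8 → F}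
    (E : Equiv.Perm (Fin 8)) (h : IsZeroMonEight hF (c ∘ E) π w) :
    IsZeroMonEight hF c (E * π * E⁻¹) (w ∘ E.symm) := by
  obtain ⟨h1, h2, h3, l, l', hne, e1, e2, e3⟩ := h
  refine ⟨fun l => h1 _, ?_, ?_, E l, E l', fun e => hne (E.injective e), ?_, ?_, ?_⟩
  · rw [map_mul, map_mul, map_inv, mul_comm (Equiv.Perm.sign E), mul_inv_cancel_right, ← Equiv.prod_comp E]
    simpa using h2
  · rw [← Equiv.sum_comp E, ← h3]
    exact Finset.sum_congr rfl fun l _ => by simp [Equiv.Perm.mul_apply, Equiv.Perm.inv_def]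
  · simp [Equiv.Perm.mul_apply, Equiv.Perm.inv_def, e1]
  · simp [Equiv.Perm.mul_apply, Equiv.Perm.inv_def, e2]
  · simpa using e3

include hF in
/-- four transposed pairs -/
theorem zeroMon_pairsEight (hq : Odd q) (c : Fin 8 → F) (hc : ∀ l, c l ≠ 0) {s : F}
    (hs : qConj hF (c 1) * c 0 * (qConj hF (c 3) * c 2) * (qConj hF (c 5) * c 4) * (qConj hF (c 7) * c 6) = s * s) :
    ∃ π w, IsZeroMonEight hF c π w := by
  obtain ⟨a₀, ha₀⟩ : ∃ a, a = qConj hF (c 1) * c 0 := ⟨_, rfl⟩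
  obtain ⟨a₂, ha₂⟩ : ∃ a, a = qConj hF (c 3) * c 2 := ⟨_, rfl⟩
  obtain ⟨a₄, ha₄⟩ : ∃ a, a = qConj hF (c 5) * c 4 := ⟨_, rfl⟩
  obtain ⟨a₆, ha₆⟩ : ∃ a, a = qConj hF (c 7) * c 6 := ⟨_, rfl⟩
  rw [← ha₀, ← ha₂, ← ha₄, ← ha₆] at hs
  have n₆ : a₆ ≠ 0 := by rw [ha₆]; exact mul_ne_zero ((map_ne_zero _).2 (hc _)) (hc _)
  have n₀ : a₀ ≠ 0 := by rw [ha₀]; exact mul_ne_zero ((map_ne_zero _).2 (hc _)) (hc _)
  have n₂ : a₂ ≠ 0 := by rw [ha₂]; exact mul_ne_zero ((map_ne_zero _).2 (hc _)) (hc _)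
  have n₄ : a₄ ≠ 0 := by rw [ha₄]; exact mul_ne_zero ((map_ne_zero _).2 (hc _)) (hc _)
  have hs0 : s ≠ 0 := fun e => by
    rw [e, mul_zero] at hs
    exact mul_ne_zero (mul_ne_zero (mul_ne_zero n₀ n₂) n₄) n₆ hs
  obtain ⟨x, hx⟩ : ∃ x, x = qConj hF s / s := ⟨_, rfl⟩
  have hxc : x ∈ circ hF := hx ▸ rat_mem_circ hF hs0
  obtain ⟨J, hJ⟩ : ∃ J : F → F, J = fun a => a / qConj hF a := ⟨_, rfl⟩
  have hJc : ∀ {a : F}, a ≠ 0 → J a ∈ circ hF := fun {a} ha => by
    have := inv_mem_circ hF (rat_mem_circ hF ha)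
    rwa [inv_div, ← show J a = a / qConj hF a by rw [hJ]] at this
  have hneg : ∀ {a : F}, a ∈ circ hF → -a ∈ circ hF := fun {a} ha => by
    rw [← neg_one_mul]; exact mul_mem_circ hF (neg_one_mem_circ hF) ha
  let π : Equiv.Perm (Fin 8) := Equiv.swap 0 1 * Equiv.swap 2 3 * Equiv.swap 4 5 * Equiv.swap 6 7
  let w : Fin 8 → F := ![x, -(x * J a₀), 1, -J a₂, 1, -J a₄, 1, -J a₆]
  have hsgn : Equiv.Perm.sign π = 1 := by
    simp only [π, map_mul]
    rw [Equiv.Perm.sign_swap (by decide), Equiv.Perm.sign_swap (by decide),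
      Equiv.Perm.sign_swap (by decide), Equiv.Perm.sign_swap (by decide)]
    rfl
  have hπ : ∀ l, π l = ![1, 0, 3, 2, 5, 4, 7, 6] l := by decide
  refine ⟨π, w, fun l => ?_, ?_, ?_, 2, 3, by decide, by decide, by decide, ?_⟩
  · fin_cases l <;> first
      | exact hxc | exact one_mem_circ hF | exact hneg (mul_mem_circ hF hxc (hJc n₀))
      | exact hneg (hJc n₂) | exact hneg (hJc n₄) | exact hneg (hJc n₆)
  · rw [hsgn]
    simp only [w, Fin.prod_univ_succ, Matrix.cons_val_zero, Matrix.cons_val_succ, Fin.prod_univ_zero,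
      mul_one, one_mul, Units.val_one, Int.cast_one]
    have e := congrArg (qConj hF) hs
    simp only [map_mul] at e
    have := (map_ne_zero (qConj hF)).2 hs0
    have := (map_ne_zero (qConj hF)).2 n₀
    have := (map_ne_zero (qConj hF)).2 n₂
    have := (map_ne_zero (qConj hF)).2 n₄
    have := (map_ne_zero (qConj hF)).2 n₆
    simp only [hJ, hx]
    field_simp
    linear_combination (qConj hF s * qConj hF s) * hs - (s * s) * e
  · simp only [hπ, w, Fin.sum_univ_succ, Matrix.cons_val_zero, Matrix.cons_val_succ, Fin.sum_univ_zero,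
      add_zero]
    simp only [Fin.succ_zero_eq_one, Fin.reduceSucc, hJ, ha₀, ha₂, ha₄, ha₆, map_mul, qConj_qConj]
    have hcc := fun l => (map_ne_zero (qConj hF)).2 (hc l)
    field_simp [hc, hcc]
    ring
  · show 1 * qConj hF (-J a₂) * (c 2 * qConj hF (c 3)) = -(c 3 * qConj hF (c 2))
    have hcc := fun l => (map_ne_zero (qConj hF)).2 (hc l)
    simp only [hJ, ha₂, map_neg, map_div₀, map_mul, qConj_qConj]
    field_simp [hc, hcc]

include hF in
/-- a four-cycle and two transposed pairs -/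
theorem zeroMon_cycleEight (hq : Odd q) (c : Fin 8 → F) (hc : ∀ l, c l ≠ 0)
    (h02 : ¬ IsSquare (c 0 * c 2)) : ∃ π w, IsZeroMonEight hF c π w := by
  have hcc := fun l => (map_ne_zero (qConj hF)).2 (hc l)
  have hne : ∀ i j, qConj hF (c i) * c j ≠ 0 := fun i j => mul_ne_zero (hcc i) (hc j)
  obtain ⟨A, hA⟩ : ∃ A, A = qConj hF (c 1) * c 0 := ⟨_, rfl⟩
  obtain ⟨B, hB⟩ : ∃ B, B = qConj hF (c 2) * c 1 := ⟨_, rfl⟩
  obtain ⟨a₄, ha₄⟩ : ∃ a, a = qConj hF (c 5) * c 4 := ⟨_, rfl⟩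
  have nA : A ≠ 0 := hA ▸ hne _ _
  have nB : B ≠ 0 := hB ▸ hne _ _
  have n₄ : a₄ ≠ 0 := ha₄ ▸ hne _ _
  obtain ⟨a₆, ha₆⟩ : ∃ a, a = qConj hF (c 7) * c 6 := ⟨_, rfl⟩
  have n₆ : a₆ ≠ 0 := ha₆ ▸ hne _ _
  have hAB : ¬ IsSquare (A * B) := by
    intro h
    obtain ⟨r, hr⟩ := h
    obtain ⟨k, hk⟩ := hq
    obtain ⟨m, hm⟩ := isSquare_conj_mul hF (⟨k, hk⟩ : Odd q) (a := c 1)
    have hm0 : m ≠ 0 := fun e => mul_ne_zero (hc 1) (hcc 1) (by rw [hm, e, mul_zero])
    refine h02 ⟨r / (m * c 2 ^ k), ?_⟩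
    have e : qConj hF (c 2) = c 2 ^ (2 * k) * c 2 := by rw [qConj_apply, hk, pow_succ]
    rw [hA, hB, e] at hr
    have := hc 2
    field_simp
    linear_combination hr - c 0 * c 2 * (c 2 ^ k) ^ 2 * hm
  obtain ⟨a, ha, b, hb, z, hz, t, ht, hsum, hw0⟩ := exists_four_ne hF nA nB (hne 3 2) (hne 0 3) (0 : F)
  obtain ⟨J, hJ⟩ : ∃ J : F → F, J = fun a => a / qConj hF a := ⟨_, rfl⟩
  have hJc : ∀ {a : F}, a ≠ 0 → J a ∈ circ hF := fun {a} ha => by
    have := inv_mem_circ hF (rat_mem_circ hF ha)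
    rwa [inv_div, ← show J a = a / qConj hF a by rw [hJ]] at this
  have hneg : ∀ {a : F}, a ∈ circ hF → -a ∈ circ hF := fun {a} ha => by
    rw [← neg_one_mul]; exact mul_mem_circ hF (neg_one_mem_circ hF) ha
  -- the two choices on the cycle
  obtain ⟨V, hV0, hV⟩ := exists_rat hF (x := -(a * b * z * t * (J a₄ * J a₆))) (hneg
    (mul_mem_circ hF (mul_mem_circ hF (mul_mem_circ hF (mul_mem_circ hF ha hb) hz) ht)
      (mul_mem_circ hF (hJc n₄) (hJc n₆))))
  suffices ∀ a' b' s, a' ∈ circ hF → b' ∈ circ hF → s ≠ 0 → a' * A + b' * B = a * A + b * B →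
      qConj hF (s * s) / (s * s) = -(a' * b' * z * t * (J a₄ * J a₆)) →
      ∃ π w, IsZeroMonEight hF c π w by
    by_cases hsq : IsSquare V
    · obtain ⟨s, rfl⟩ := hsq
      exact this a b s ha hb (left_ne_zero_of_mul hV0) rfl hV
    obtain ⟨u, hu0, hu⟩ := exists_rat hF (mul_mem_circ hF ha hb)
    obtain ⟨r, hr⟩ := isSquare_mul_of_not hF hq hsq hAB
    obtain ⟨w, hw⟩ : ∃ w, w = a * A + b * B := ⟨_, rfl⟩
    rw [← hw] at hw0
    have hw' := (map_ne_zero (qConj hF)).2 hw0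
    have na := circ_ne_zero hF ha
    have nb := circ_ne_zero hF hb
    have hA' := (map_ne_zero (qConj hF)).2 nA
    have hB' := (map_ne_zero (qConj hF)).2 nB
    refine this (a⁻¹ * ((qConj hF A / A) * (w / qConj hF w)))
      (b⁻¹ * ((qConj hF B / B) * (w / qConj hF w))) (r / (w * u))
      (mul_mem_circ hF (inv_mem_circ hF ha) (mul_mem_circ hF (rat_mem_circ hF nA) (by
        have := inv_mem_circ hF (rat_mem_circ hF hw0); rwa [inv_div] at this)))
      (mul_mem_circ hF (inv_mem_circ hF hb) (mul_mem_circ hF (rat_mem_circ hF nB) (by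
        have := inv_mem_circ hF (rat_mem_circ hF hw0); rwa [inv_div] at this)))
      (div_ne_zero (fun e => mul_ne_zero hV0 (mul_ne_zero nA nB) (by rw [hr, e, mul_zero]))
        (mul_ne_zero hw0 hu0)) ?_ ?_
    · have e := congrArg (qConj hF) hw
      rw [map_add, map_mul, map_mul, circ_conj hF ha, circ_conj hF hb] at e
      rw [← hw]
      field_simp
      field_simp at e
      linear_combination -e
    · have hu' := (map_ne_zero (qConj hF)).2 hu0
      rw [div_mul_div_comm r, ← hr, map_div₀, map_mul, map_mul, map_mul, map_mul,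
        show qConj hF u = a * b * u by rw [← hu, div_mul_cancel₀ _ hu0],
        show qConj hF V = -(a * b * z * t * (J a₄ * J a₆)) * V by
          rw [← hV, div_mul_cancel₀ _ hV0]]
      field_simp
  intro a' b' s ha' hb' hs0 hsum' hs
  obtain ⟨x, hx⟩ : ∃ x, x = s / qConj hF s := ⟨_, rfl⟩
  have hxc : x ∈ circ hF := by
    have := inv_mem_circ hF (rat_mem_circ hF hs0)
    rwa [inv_div, ← hx] at this
  let π : Equiv.Perm (Fin 8) := Equiv.swap 0 1 * Equiv.swap 1 2 * Equiv.swap 2 3 * Equiv.swap 4 5 * Equiv.swap 6 7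
  let w : Fin 8 → F := ![a', b', z, t, x, -(x * J a₄), 1, -J a₆]
  have hsgn : Equiv.Perm.sign π = -1 := by
    simp only [π, map_mul]
    rw [Equiv.Perm.sign_swap (by decide), Equiv.Perm.sign_swap (by decide),
      Equiv.Perm.sign_swap (by decide), Equiv.Perm.sign_swap (by decide),
      Equiv.Perm.sign_swap (by decide)]
    rfl
  have hπ : ∀ l, π l = ![1, 2, 3, 0, 5, 4, 7, 6] l := by decide
  refine ⟨π, w, fun l => ?_, ?_, ?_, 4, 5, by decide, by decide, by decide, ?_⟩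
  · fin_cases l <;> first
      | exact ha' | exact hb' | exact hz | exact ht
      | exact hxc | exact one_mem_circ hF | exact hneg (mul_mem_circ hF hxc (hJc n₄)) | exact hneg (hJc n₆)
  · rw [hsgn]
    simp only [w, Fin.prod_univ_succ, Matrix.cons_val_zero, Matrix.cons_val_succ, Fin.prod_univ_zero,
      mul_one, one_mul, Units.val_neg, Units.val_one, Int.cast_neg, Int.cast_one]
    have := (map_ne_zero (qConj hF)).2 hs0
    rw [map_mul, div_eq_iff (mul_ne_zero hs0 hs0)] at hs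
    rw [hx]
    field_simp
    linear_combination -hs
  · simp only [hπ, w, Fin.sum_univ_succ, Matrix.cons_val_zero, Matrix.cons_val_succ, Fin.sum_univ_zero,
      add_zero]
    simp only [Fin.succ_zero_eq_one, Fin.reduceSucc]
    have e₄ : x * (qConj hF (c 5) * c 4) + -(x * J a₄) * (qConj hF (c 4) * c 5) = 0 := by
      simp only [hJ, ha₄, map_mul, qConj_qConj]
      field_simp [hc, hcc]
      ring
    have e₆ : 1 * (qConj hF (c 7) * c 6) + -J a₆ * (qConj hF (c 6) * c 7) = 0 := by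
      simp only [hJ, ha₆, map_mul, qConj_qConj]
      field_simp [hc, hcc]
      ring
    rw [← hA, ← hB]
    linear_combination hsum' + hsum + e₄ + e₆
  · show x * qConj hF (-(x * J a₄)) * (c 4 * qConj hF (c 5)) = -(c 5 * qConj hF (c 4))
    have hsn := (map_ne_zero (qConj hF)).2 hs0
    simp only [hx, hJ, ha₄, map_neg, map_div₀, map_mul, qConj_qConj]
    field_simp [hc, hcc]

include hF in
/-- in even characteristic and dimension eight: two transposed pairs and four fixed points -/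
theorem zeroMon_evenEight (hq : Even q) (c : Fin 8 → F) (hc : ∀ l, c l ≠ 0) :
    ∃ (π : Equiv.Perm (Fin 8)) (w : Fin 8 → F), (∀ l, w l ∈ circ hF) ∧
      ((Equiv.Perm.sign π : ℤ) : F) * ∏ l, w l = 1 ∧
      ∑ l, w l * (qConj hF (c (π l)) * c l) = 0 ∧
      ∃ l₁ l₂, π l₁ ≠ π l₂ ∧ ∃ ν, ν ∈ circ hF ∧ ν ≠ 1 ∧
        w l₁ * qConj hF (w l₂) * (c l₁ * qConj hF (c l₂)) = ν * (c (π l₁) * qConj hF (c (π l₂))) := by
  have hcc := fun l => (map_ne_zero (qConj hF)).2 (hc l)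
  have hN : ∀ l, qConj hF (c l) * c l ≠ 0 := fun l => mul_ne_zero (hcc l) (hc l)
  obtain ⟨e₀, he₀, e₁, he₁, e₂, he₂, e₃, he₃, hsum, hne⟩ := exists_four hF (hN 0) (hN 1) (hN 2) (hN 3) 0
  obtain ⟨J₄, hJ₄⟩ : ∃ J, J = qConj hF (c 5) * c 4 / (qConj hF (c 4) * c 5) := ⟨_, rfl⟩
  obtain ⟨J₆, hJ₆⟩ : ∃ J, J = qConj hF (c 7) * c 6 / (qConj hF (c 6) * c 7) := ⟨_, rfl⟩
  obtain ⟨J, hJ⟩ : ∃ J, J = J₄ * J₆ := ⟨_, rfl⟩
  have hJc₄ : J₄ ∈ circ hF := by
    rw [mem_circ, hJ₄, map_div₀, map_mul, map_mul, qConj_qConj, qConj_qConj]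
    field_simp [hc, hcc]
  have hJc₆ : J₆ ∈ circ hF := by
    rw [mem_circ, hJ₆, map_div₀, map_mul, map_mul, qConj_qConj, qConj_qConj]
    field_simp [hc, hcc]
  have hJc : J ∈ circ hF := hJ ▸ mul_mem_circ hF hJc₄ hJc₆
  have hP : (e₀ * e₁ * e₂ * e₃ * J)⁻¹ ∈ circ hF := inv_mem_circ hF (mul_mem_circ hF
    (mul_mem_circ hF (mul_mem_circ hF (mul_mem_circ hF he₀ he₁) he₂) he₃) hJc)
  obtain ⟨x, hxc, hx⟩ : ∃ x ∈ circ hF, x * x = (e₀ * e₁ * e₂ * e₃ * J)⁻¹ := by
    obtain ⟨k, hk⟩ := hq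
    obtain ⟨P, hPe⟩ : ∃ P, P = (e₀ * e₁ * e₂ * e₃ * J)⁻¹ := ⟨_, rfl⟩
    rw [← hPe] at hP ⊢
    have h1 : P ^ (q + 1) = 1 := by
      have := (mem_circ hF).1 hP
      rwa [qConj_apply, ← pow_succ'] at this
    refine ⟨P ^ (k + 1), ?_, ?_⟩
    · rw [← Finset.card_range (k + 1), ← Finset.prod_const]
      exact prod_mem_circ hF fun _ _ => hP
    · rw [← pow_add, show k + 1 + (k + 1) = (q + 1) + 1 by omega, pow_succ, h1, one_mul]
  have htwo : (2 : F) = 0 := by
    obtain ⟨k, hk⟩ := hq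
    have h : ringChar F = 2 := FiniteField.even_card_iff_char_two.2 (by
      rw [hF, hk]; exact Nat.even_iff.1 ⟨(k + k) * k, by ring⟩)
    have := ringChar.Nat.cast_ringChar (R := F)
    rw [h] at this
    exact_mod_cast this
  have hneg : (-1 : F) = 1 := by linear_combination -htwo
  have hπ : ∀ l, (Equiv.swap (4 : Fin 8) 5 * Equiv.swap 6 7 : Equiv.Perm (Fin 8)) l = ![0, 1, 2, 3, 5, 4, 7, 6] l := by decide
  refine ⟨Equiv.swap 4 5 * Equiv.swap 6 7, ![e₀, e₁, e₂, e₃, x, x * J₄, 1, J₆], fun l => ?_, ?_, ?_, 0, 1,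
    by decide,
    e₀ * qConj hF e₁, mul_mem_circ hF he₀ (conj_mem_circ hF he₁), fun h => hne ?_, ?_⟩
  · fin_cases l <;> first | assumption | exact one_mem_circ hF | exact mul_mem_circ hF hxc hJc₄
  · rw [map_mul, Equiv.Perm.sign_swap (by decide), Equiv.Perm.sign_swap (by decide)]
    simp only [Fin.prod_univ_succ, Matrix.cons_val_zero, Matrix.cons_val_succ, Fin.prod_univ_zero,
      Units.val_mul, Units.val_neg, Units.val_one, Int.cast_mul, Int.cast_neg, Int.cast_one, hneg, one_mul, mul_one]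
    have h0 : e₀ * e₁ * e₂ * e₃ * J ≠ 0 := by
      repeat' apply mul_ne_zero
      all_goals exact circ_ne_zero hF (by assumption)
    linear_combination (e₀ * e₁ * e₂ * e₃ * J) * hx + mul_inv_cancel₀ h0 - (e₀ * e₁ * e₂ * e₃ * x * x) * hJ
  · simp only [hπ, Fin.sum_univ_succ, Matrix.cons_val_zero, Matrix.cons_val_succ, Fin.sum_univ_zero,
      add_zero]
    simp only [Fin.succ_zero_eq_one, Fin.reduceSucc]
    have e₄ : x * (qConj hF (c 5) * c 4) + x * J₄ * (qConj hF (c 4) * c 5) = 0 := by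
      rw [hJ₄, mul_assoc x, div_mul_cancel₀ _ (mul_ne_zero (hcc _) (hc _))]
      linear_combination (x * (qConj hF (c 5) * c 4)) * htwo
    have e₆ : 1 * (qConj hF (c 7) * c 6) + J₆ * (qConj hF (c 6) * c 7) = 0 := by
      rw [hJ₆, div_mul_cancel₀ _ (mul_ne_zero (hcc _) (hc _))]
      linear_combination (qConj hF (c 7) * c 6) * htwo
    linear_combination hsum + e₄ + e₆
  · linear_combination e₁ * h - e₀ * (mem_circ hF).1 he₁
  · rfl

include hF in
/-- in dimension eight some monomial element gives a zero -/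
theorem exists_zeroMonEight (c : Fin 8 → F) (hc : ∀ l, c l ≠ 0) :
    ∃ (π : Equiv.Perm (Fin 8)) (w : Fin 8 → F), (∀ l, w l ∈ circ hF) ∧
      ((Equiv.Perm.sign π : ℤ) : F) * ∏ l, w l = 1 ∧
      ∑ l, w l * (qConj hF (c (π l)) * c l) = 0 ∧
      ∃ l₁ l₂, π l₁ ≠ π l₂ ∧ ∃ ν, ν ∈ circ hF ∧ ν ≠ 1 ∧
        w l₁ * qConj hF (w l₂) * (c l₁ * qConj hF (c l₂)) = ν * (c (π l₁) * qConj hF (c (π l₂))) := by
  rcases Nat.even_or_odd q with he | hq
  · exact zeroMon_evenEight hF he c hc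
  suffices h : ∃ π w, IsZeroMonEight hF c π w by
    obtain ⟨π, w, h1, h2, h3, l, l', hne, e1, e2, e3⟩ := h
    refine ⟨π, w, h1, h2, h3, l, l', by rw [e1, e2]; exact hne.symm, -1, neg_one_mem_circ hF,
      fun h => two_ne_zero_of_odd hF hq (by linear_combination -h), ?_⟩
    rw [e1, e2]
    linear_combination e3
  by_cases h : ∀ i k, IsSquare (c i * c k)
  · have key : ∀ i j, IsSquare (qConj hF (c i) * c j) := fun i j => by
      obtain ⟨k, hk⟩ := hq
      rw [qConj_apply, hk, pow_succ, mul_assoc]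
      exact (even_two_mul k).isSquare_pow _ |>.mul (h i j)
    obtain ⟨s, hs⟩ := (((key 1 0).mul (key 3 2)).mul (key 5 4)).mul (key 7 6)
    exact zeroMon_pairsEight hF hq c hc hs
  · simp only [not_forall] at h
    obtain ⟨i, k, hik⟩ := h
    have hne : i ≠ k := fun e => hik (e ▸ IsSquare.mul_self _)
    let E₁ : Equiv.Perm (Fin 8) := Equiv.swap 0 i
    let E : Equiv.Perm (Fin 8) := Equiv.swap (E₁ 2) k * E₁
    have e0 : E 0 = i := by
      show Equiv.swap (E₁ 2) k (E₁ 0) = i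
      rw [show E₁ 0 = i from Equiv.swap_apply_left _ _, Equiv.swap_apply_of_ne_of_ne ?_ hne]
      exact fun e => absurd (E₁.injective ((Equiv.swap_apply_left 0 i).trans e)) (by decide)
    have e2 : E 2 = k := Equiv.swap_apply_left _ _
    obtain ⟨π, w, hw⟩ := zeroMon_cycleEight hF hq (c ∘ E) (fun l => hc _)
      (by simpa [e0, e2] using hik)
    exact ⟨_, _, hw.transport hF E⟩

end CfsgLib.MaxSub.UFrame
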