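import Cfsg.Agent.Lib.MaxSub.Circle

/-!
Nine norm-one unknowns with product one solving a linear equation.
-/

set_option autoImplicit false

namespace CfsgLib.MaxSub.UFrame

open CfsgLib.MaxSub

variable {F : Type*} [Field F] [Fintype F] [DecidableEq F] {q : ℕ} (hF : Fintype.card F = q ^ 2)

include hF in
/-- nine unknowns: identity permutation -/
theorem exists_circ_sum_nine (A : Fin 9 → F) (hA : ∀ l, A l ≠ 0) :
    ∃ d : Fin 9 → F, (∀ l, d l ∈ circ hF) ∧ ∏ l, d l = 1 ∧ ∑ l, d l * A l = 0 ∧ ∃ a b, a ≠ b ∧ d a ≠ d b := by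
  obtain ⟨a₀, ha₀, a₁, ha₁, a₂, ha₂, a₃, ha₃, hsa, hne⟩ :=
    exists_four hF (hA 0) (hA 1) (hA 2) (hA 3) 0
  obtain ⟨b₀, hb₀, b₁, hb₁, b₂, hb₂, b₃, hb₃, hsb, -⟩ :=
    exists_four hF (hA 4) (hA 5) (hA 6) (hA 7) (-A 8)
  obtain ⟨P, hP⟩ : ∃ P, P = (a₀ * a₁ * a₂ * a₃ * (b₀ * b₁ * b₂ * b₃))⁻¹ := ⟨_, rfl⟩
  have hPc : P ∈ circ hF := by
    rw [hP]
    refine inv_mem_circ hF ?_
    repeat' apply mul_mem_circ hF
    all_goals assumption
  obtain ⟨X, hX⟩ : ∃ X, X = P * P * (P * P) := ⟨_, rfl⟩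
  obtain ⟨Y, hY⟩ : ∃ Y, Y = (P * P * P)⁻¹ := ⟨_, rfl⟩
  have hXc : X ∈ circ hF := hX ▸ mul_mem_circ hF (mul_mem_circ hF hPc hPc) (mul_mem_circ hF hPc hPc)
  have hYc : Y ∈ circ hF := hY ▸ inv_mem_circ hF (mul_mem_circ hF (mul_mem_circ hF hPc hPc) hPc)
  refine ⟨![X * a₀, X * a₁, X * a₂, X * a₃, Y * b₀, Y * b₁, Y * b₂, Y * b₃, Y],
    fun i => ?_, ?_, ?_, 0, 1, by decide, ?_⟩
  · fin_cases i <;> first
      | exact mul_mem_circ hF hXc (by assumption)
      | exact mul_mem_circ hF hYc (by assumption)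
      | assumption
  · simp only [Fin.prod_univ_succ, Matrix.cons_val_zero, Matrix.cons_val_succ, Fin.prod_univ_zero,
      mul_one]
    have hP0 := circ_ne_zero hF hPc
    have e : P * (a₀ * a₁ * a₂ * a₃ * (b₀ * b₁ * b₂ * b₃)) = 1 := by
      rw [hP, inv_mul_cancel₀]
      repeat' apply mul_ne_zero
      all_goals exact circ_ne_zero hF (by assumption)
    rw [hX, hY]
    field_simp
    linear_combination e
  · simp only [Fin.sum_univ_succ, Matrix.cons_val_zero, Matrix.cons_val_succ, Fin.sum_univ_zero,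
      add_zero]
    simp only [Fin.succ_zero_eq_one, Fin.reduceSucc]
    linear_combination X * hsa + Y * hsb
  · exact fun h => hne (mul_left_cancel₀ (circ_ne_zero hF hXc) h)

end CfsgLib.MaxSub.UFrame
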