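import Cfsg.Agent.Lib.MaxSub.Circle

/-!
Monomial elements in dimension ten or eleven with a prescribed zero.

In odd characteristic and dimension ten the determinant condition is met by permutations made of
transpositions and at most one four-cycle: a transposed pair of coefficients `A, σ A` always has a
zero combination, and on the four-cycle the reflection of a partial sum changes the square class of
the product.
-/

set_option autoImplicit false
set_option linter.unusedSectionVars false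

namespace CfsgLib.MaxSub.UFrame

open CfsgLib.MaxSub

variable {F : Type*} [Field F] [Fintype F] [DecidableEq F] {q : ℕ} (hF : Fintype.card F = q ^ 2)

include hF in
/-- four norm-one elements with a prescribed combination, the first partial sum non-zero -/
theorem exists_four_ne {A₁ A₂ A₃ A₄ : F} (h₁ : A₁ ≠ 0) (h₂ : A₂ ≠ 0) (h₃ : A₃ ≠ 0) (h₄ : A₄ ≠ 0)
    (T : F) : ∃ e₁ ∈ circ hF, ∃ e₂ ∈ circ hF, ∃ e₃ ∈ circ hF, ∃ e₄ ∈ circ hF,
      e₁ * A₁ + e₂ * A₂ + e₃ * A₃ + e₄ * A₄ = T ∧ e₁ * A₁ + e₂ * A₂ ≠ 0 := by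
  have hX := card_circSum hF h₁ h₂
  have hY : (((circSum hF A₃ A₄).image fun w => T - w)).card = (circSum hF A₃ A₄).card :=
    Finset.card_image_of_injective _ fun _ _ h => sub_right_injective h
  have hW := card_circSum hF h₃ h₄
  have hu := Finset.card_le_univ (circSum hF A₁ A₂ ∪ (circSum hF A₃ A₄).image fun w => T - w)
  have hui := Finset.card_union_add_card_inter (circSum hF A₁ A₂) ((circSum hF A₃ A₄).image fun w => T - w)
  rw [hF, pow_two] at hu
  have hq := two_le_q hF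
  obtain ⟨x, hx, hx0⟩ := Finset.exists_mem_notMem_of_card_lt_card (s := ({0} : Finset F))
    (t := circSum hF A₁ A₂ ∩ (circSum hF A₃ A₄).image fun w => T - w)
    (by rw [Finset.card_singleton]; omega)
  obtain ⟨hx1, hx2⟩ := Finset.mem_inter.1 hx
  obtain ⟨e₁, he₁, e₂, he₂, rfl⟩ := exists_of_mem_circSum hF hx1
  obtain ⟨w, hw, hwe⟩ := Finset.mem_image.1 hx2
  obtain ⟨e₃, he₃, e₄, he₄, rfl⟩ := exists_of_mem_circSum hF hw
  exact ⟨e₁, he₁, e₂, he₂, e₃, he₃, e₄, he₄, by linear_combination -hwe, by simpa using hx0⟩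

include hF in
theorem rat_mem_circ {v : F} (hv : v ≠ 0) : qConj hF v / v ∈ circ hF := by
  have := (map_ne_zero (qConj hF)).2 hv
  rw [mem_circ, map_div₀, qConj_qConj]
  field_simp

include hF in
theorem exists_rat {x : F} (hx : x ∈ circ hF) : ∃ v, v ≠ 0 ∧ qConj hF v / v = x := by
  have hx' := (mem_circ hF).1 hx
  obtain ⟨t, ht⟩ : ∃ t : F, t + qConj hF x * qConj hF t ≠ 0 := by
    by_contra hall
    simp only [not_exists, not_not] at hall
    obtain ⟨μ, hμ, h1, h2⟩ := exists_circ_ne hF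
    have e1 := hall 1
    have e2 := hall μ
    rw [map_one, mul_one] at e1
    exact conj_ne_self hF hμ h1 h2 (by linear_combination qConj hF μ * e1 - e2)
  refine ⟨_, ht, (div_eq_iff ht).2 ?_⟩
  rw [map_add, map_mul, qConj_qConj, qConj_qConj]
  linear_combination (-qConj hF t) * hx'

theorem isSquare_conj_mul (hq : Odd q) {a : F} : IsSquare (a * qConj hF a) := by
  obtain ⟨k, rfl⟩ := hq
  exact ⟨a ^ (k + 1), by rw [qConj_apply]; ring⟩

include hF in
theorem two_ne_zero_of_odd (hq : Odd q) : (2 : F) ≠ 0 := by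
  intro h2
  obtain ⟨p, hp⟩ := CharP.exists F
  obtain ⟨m, hprime, hcard⟩ := FiniteField.card F p
  have h2p : p = 2 := by
    have : p ∣ 2 := (CharP.cast_eq_zero_iff F p 2).1 (by exact_mod_cast h2)
    exact (Nat.prime_dvd_prime_iff_eq hprime Nat.prime_two).1 this
  rw [hF, h2p] at hcard
  have h : Even (q ^ 2) := hcard ▸ (Nat.even_pow.2 ⟨even_two, m.ne_zero⟩)
  exact Nat.not_even_iff_odd.2 (hq.pow) h

include hF in
/-- non-squares multiply to squares -/
theorem isSquare_mul_of_not (hq : Odd q) {a b : F} (ha : ¬ IsSquare a) (hb : ¬ IsSquare b) :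
    IsSquare (a * b) := by
  have hc : ringChar F ≠ 2 := fun h => two_ne_zero_of_odd hF hq (by
    have := ringChar.Nat.cast_ringChar (R := F)
    rw [h] at this
    exact_mod_cast this)
  have ha0 : a ≠ 0 := fun h => ha (h ▸ IsSquare.zero)
  have hb0 : b ≠ 0 := fun h => hb (h ▸ IsSquare.zero)
  have e1 := FiniteField.pow_dichotomy hc ha0
  have e2 := FiniteField.pow_dichotomy hc hb0
  rw [FiniteField.isSquare_iff hc ha0] at ha
  rw [FiniteField.isSquare_iff hc hb0] at hb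
  rw [FiniteField.isSquare_iff hc (mul_ne_zero ha0 hb0), mul_pow, e1.resolve_left ha,
    e2.resolve_left hb, neg_one_mul, neg_neg]

/-- the zero-sum requirement on `(π, w)` for the column `c` -/
def IsZeroMon (c : Fin 10 → F) (π : Equiv.Perm (Fin 10)) (w : Fin 10 → F) : Prop :=
  (∀ l, w l ∈ circ hF) ∧ ((Equiv.Perm.sign π : ℤ) : F) * ∏ l, w l = 1 ∧
    ∑ l, w l * (qConj hF (c (π l)) * c l) = 0 ∧
    ∃ l l', l ≠ l' ∧ π l = l' ∧ π l' = l ∧
      w l * qConj hF (w l') * (c l * qConj hF (c l')) = -(c l' * qConj hF (c l))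

include hF in
theorem IsZeroMon.transport {c : Fin 10 → F} {π : Equiv.Perm (Fin 10)} {w : Fin 10 → F}
    (E : Equiv.Perm (Fin 10)) (h : IsZeroMon hF (c ∘ E) π w) :
    IsZeroMon hF c (E * π * E⁻¹) (w ∘ E.symm) := by
  obtain ⟨h1, h2, h3, l, l', hne, e1, e2, e3⟩ := h
  refine ⟨fun l => h1 _, ?_, ?_, E l, E l', fun e => hne (E.injective e), ?_, ?_, ?_⟩
  · rw [map_mul, map_mul, map_inv, mul_comm (Equiv.Perm.sign E), mul_inv_cancel_right, ← Equiv.prod_comp E]
    simpa using h2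
  · rw [← Equiv.sum_comp E, ← h3]
    exact Finset.sum_congr rfl fun l _ => by simp [Equiv.Perm.mul_apply, Equiv.Perm.inv_def]
  · simp [Equiv.Perm.mul_apply, Equiv.Perm.inv_def, e1]
  · simp [Equiv.Perm.mul_apply, Equiv.Perm.inv_def, e2]
  · simpa using e3

include hF in
/-- five transposed pairs -/
theorem zeroMon_pairs (hq : Odd q) (c : Fin 10 → F) (hc : ∀ l, c l ≠ 0) {s : F}
    (hs : qConj hF (c 1) * c 0 * (qConj hF (c 3) * c 2) * (qConj hF (c 5) * c 4) *
      (qConj hF (c 7) * c 6) * (qConj hF (c 9) * c 8) = s * s) :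
    ∃ π w, IsZeroMon hF c π w := by
  obtain ⟨a₀, ha₀⟩ : ∃ a, a = qConj hF (c 1) * c 0 := ⟨_, rfl⟩
  obtain ⟨a₂, ha₂⟩ : ∃ a, a = qConj hF (c 3) * c 2 := ⟨_, rfl⟩
  obtain ⟨a₄, ha₄⟩ : ∃ a, a = qConj hF (c 5) * c 4 := ⟨_, rfl⟩
  obtain ⟨a₆, ha₆⟩ : ∃ a, a = qConj hF (c 7) * c 6 := ⟨_, rfl⟩
  obtain ⟨a₈, ha₈⟩ : ∃ a, a = qConj hF (c 9) * c 8 := ⟨_, rfl⟩
  rw [← ha₀, ← ha₂, ← ha₄, ← ha₆, ← ha₈] at hs
  have n₀ : a₀ ≠ 0 := by rw [ha₀]; exact mul_ne_zero ((map_ne_zero _).2 (hc _)) (hc _)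
  have n₂ : a₂ ≠ 0 := by rw [ha₂]; exact mul_ne_zero ((map_ne_zero _).2 (hc _)) (hc _)
  have n₄ : a₄ ≠ 0 := by rw [ha₄]; exact mul_ne_zero ((map_ne_zero _).2 (hc _)) (hc _)
  have n₆ : a₆ ≠ 0 := by rw [ha₆]; exact mul_ne_zero ((map_ne_zero _).2 (hc _)) (hc _)
  have n₈ : a₈ ≠ 0 := by rw [ha₈]; exact mul_ne_zero ((map_ne_zero _).2 (hc _)) (hc _)
  have hs0 : s ≠ 0 := fun e => by
    rw [e, mul_zero] at hs
    exact mul_ne_zero (mul_ne_zero (mul_ne_zero (mul_ne_zero n₀ n₂) n₄) n₆) n₈ hs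
  obtain ⟨x, hx⟩ : ∃ x, x = qConj hF s / s := ⟨_, rfl⟩
  have hxc : x ∈ circ hF := hx ▸ rat_mem_circ hF hs0
  obtain ⟨J, hJ⟩ : ∃ J : F → F, J = fun a => a / qConj hF a := ⟨_, rfl⟩
  have hJc : ∀ {a : F}, a ≠ 0 → J a ∈ circ hF := fun {a} ha => by
    have := inv_mem_circ hF (rat_mem_circ hF ha)
    rwa [inv_div, ← show J a = a / qConj hF a by rw [hJ]] at this
  have hneg : ∀ {a : F}, a ∈ circ hF → -a ∈ circ hF := fun {a} ha => by
    rw [← neg_one_mul]; exact mul_mem_circ hF (neg_one_mem_circ hF) ha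
  let π : Equiv.Perm (Fin 10) := Equiv.swap 0 1 * Equiv.swap 2 3 * Equiv.swap 4 5 * Equiv.swap 6 7 *
    Equiv.swap 8 9
  let w : Fin 10 → F := ![x, -(x * J a₀), 1, -J a₂, 1, -J a₄, 1, -J a₆, 1, -J a₈]
  have hsgn : Equiv.Perm.sign π = -1 := by
    simp only [π, map_mul]
    rw [Equiv.Perm.sign_swap (by decide), Equiv.Perm.sign_swap (by decide),
      Equiv.Perm.sign_swap (by decide), Equiv.Perm.sign_swap (by decide),
      Equiv.Perm.sign_swap (by decide)]
    rfl
  have hπ : ∀ l, π l = ![1, 0, 3, 2, 5, 4, 7, 6, 9, 8] l := by decide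
  refine ⟨π, w, fun l => ?_, ?_, ?_, 2, 3, by decide, by decide, by decide, ?_⟩
  · fin_cases l <;> first
      | exact hxc | exact one_mem_circ hF | exact hneg (mul_mem_circ hF hxc (hJc n₀))
      | exact hneg (hJc n₂) | exact hneg (hJc n₄) | exact hneg (hJc n₆) | exact hneg (hJc n₈)
  · rw [hsgn]
    simp only [w, Fin.prod_univ_succ, Matrix.cons_val_zero, Matrix.cons_val_succ, Fin.prod_univ_zero,
      mul_one, one_mul, Units.val_neg, Units.val_one, Int.cast_neg, Int.cast_one]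
    have e := congrArg (qConj hF) hs
    simp only [map_mul] at e
    have := (map_ne_zero (qConj hF)).2 hs0
    have := (map_ne_zero (qConj hF)).2 n₀
    have := (map_ne_zero (qConj hF)).2 n₂
    have := (map_ne_zero (qConj hF)).2 n₄
    have := (map_ne_zero (qConj hF)).2 n₆
    have := (map_ne_zero (qConj hF)).2 n₈
    simp only [hJ, hx]
    field_simp
    linear_combination (qConj hF s * qConj hF s) * hs - (s * s) * e
  · simp only [hπ, w, Fin.sum_univ_succ, Matrix.cons_val_zero, Matrix.cons_val_succ, Fin.sum_univ_zero,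
      add_zero]
    simp only [Fin.succ_zero_eq_one, Fin.reduceSucc, hJ, ha₀, ha₂, ha₄, ha₆, ha₈, map_mul, qConj_qConj]
    have hcc := fun l => (map_ne_zero (qConj hF)).2 (hc l)
    field_simp [hc, hcc]
    ring
  · show 1 * qConj hF (-J a₂) * (c 2 * qConj hF (c 3)) = -(c 3 * qConj hF (c 2))
    have hcc := fun l => (map_ne_zero (qConj hF)).2 (hc l)
    simp only [hJ, ha₂, map_neg, map_div₀, map_mul, qConj_qConj]
    field_simp [hc, hcc]

include hF in
/-- a four-cycle and three transposed pairs -/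
theorem zeroMon_cycle (hq : Odd q) (c : Fin 10 → F) (hc : ∀ l, c l ≠ 0)
    (h02 : ¬ IsSquare (c 0 * c 2)) : ∃ π w, IsZeroMon hF c π w := by
  have hcc := fun l => (map_ne_zero (qConj hF)).2 (hc l)
  have hne : ∀ i j, qConj hF (c i) * c j ≠ 0 := fun i j => mul_ne_zero (hcc i) (hc j)
  obtain ⟨A, hA⟩ : ∃ A, A = qConj hF (c 1) * c 0 := ⟨_, rfl⟩
  obtain ⟨B, hB⟩ : ∃ B, B = qConj hF (c 2) * c 1 := ⟨_, rfl⟩
  obtain ⟨a₄, ha₄⟩ : ∃ a, a = qConj hF (c 5) * c 4 := ⟨_, rfl⟩
  obtain ⟨a₆, ha₆⟩ : ∃ a, a = qConj hF (c 7) * c 6 := ⟨_, rfl⟩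
  obtain ⟨a₈, ha₈⟩ : ∃ a, a = qConj hF (c 9) * c 8 := ⟨_, rfl⟩
  have nA : A ≠ 0 := hA ▸ hne _ _
  have nB : B ≠ 0 := hB ▸ hne _ _
  have n₄ : a₄ ≠ 0 := ha₄ ▸ hne _ _
  have n₆ : a₆ ≠ 0 := ha₆ ▸ hne _ _
  have n₈ : a₈ ≠ 0 := ha₈ ▸ hne _ _
  have hAB : ¬ IsSquare (A * B) := by
    intro h
    obtain ⟨r, hr⟩ := h
    obtain ⟨k, hk⟩ := hq
    obtain ⟨m, hm⟩ := isSquare_conj_mul hF (⟨k, hk⟩ : Odd q) (a := c 1)
    have hm0 : m ≠ 0 := fun e => mul_ne_zero (hc 1) (hcc 1) (by rw [hm, e, mul_zero])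
    refine h02 ⟨r / (m * c 2 ^ k), ?_⟩
    have e : qConj hF (c 2) = c 2 ^ (2 * k) * c 2 := by rw [qConj_apply, hk, pow_succ]
    rw [hA, hB, e] at hr
    have := hc 2
    field_simp
    linear_combination hr - c 0 * c 2 * (c 2 ^ k) ^ 2 * hm
  obtain ⟨a, ha, b, hb, z, hz, t, ht, hsum, hw0⟩ := exists_four_ne hF nA nB (hne 3 2) (hne 0 3) (0 : F)
  obtain ⟨J, hJ⟩ : ∃ J : F → F, J = fun a => a / qConj hF a := ⟨_, rfl⟩
  have hJc : ∀ {a : F}, a ≠ 0 → J a ∈ circ hF := fun {a} ha => by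
    have := inv_mem_circ hF (rat_mem_circ hF ha)
    rwa [inv_div, ← show J a = a / qConj hF a by rw [hJ]] at this
  have hneg : ∀ {a : F}, a ∈ circ hF → -a ∈ circ hF := fun {a} ha => by
    rw [← neg_one_mul]; exact mul_mem_circ hF (neg_one_mem_circ hF) ha
  -- the two choices on the cycle
  obtain ⟨V, hV0, hV⟩ := exists_rat hF (x := -(a * b * z * t * (J a₄ * J a₆ * J a₈))) (hneg
    (mul_mem_circ hF (mul_mem_circ hF (mul_mem_circ hF (mul_mem_circ hF ha hb) hz) ht)
      (mul_mem_circ hF (mul_mem_circ hF (hJc n₄) (hJc n₆)) (hJc n₈))))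
  suffices ∀ a' b' s, a' ∈ circ hF → b' ∈ circ hF → s ≠ 0 → a' * A + b' * B = a * A + b * B →
      qConj hF (s * s) / (s * s) = -(a' * b' * z * t * (J a₄ * J a₆ * J a₈)) →
      ∃ π w, IsZeroMon hF c π w by
    by_cases hsq : IsSquare V
    · obtain ⟨s, rfl⟩ := hsq
      exact this a b s ha hb (left_ne_zero_of_mul hV0) rfl hV
    obtain ⟨u, hu0, hu⟩ := exists_rat hF (mul_mem_circ hF ha hb)
    obtain ⟨r, hr⟩ := isSquare_mul_of_not hF hq hsq hAB
    obtain ⟨w, hw⟩ : ∃ w, w = a * A + b * B := ⟨_, rfl⟩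
    rw [← hw] at hw0
    have hw' := (map_ne_zero (qConj hF)).2 hw0
    have na := circ_ne_zero hF ha
    have nb := circ_ne_zero hF hb
    have hA' := (map_ne_zero (qConj hF)).2 nA
    have hB' := (map_ne_zero (qConj hF)).2 nB
    refine this (a⁻¹ * ((qConj hF A / A) * (w / qConj hF w)))
      (b⁻¹ * ((qConj hF B / B) * (w / qConj hF w))) (r / (w * u))
      (mul_mem_circ hF (inv_mem_circ hF ha) (mul_mem_circ hF (rat_mem_circ hF nA) (by
        have := inv_mem_circ hF (rat_mem_circ hF hw0); rwa [inv_div] at this)))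
      (mul_mem_circ hF (inv_mem_circ hF hb) (mul_mem_circ hF (rat_mem_circ hF nB) (by
        have := inv_mem_circ hF (rat_mem_circ hF hw0); rwa [inv_div] at this)))
      (div_ne_zero (fun e => mul_ne_zero hV0 (mul_ne_zero nA nB) (by rw [hr, e, mul_zero]))
        (mul_ne_zero hw0 hu0)) ?_ ?_
    · have e := congrArg (qConj hF) hw
      rw [map_add, map_mul, map_mul, circ_conj hF ha, circ_conj hF hb] at e
      rw [← hw]
      field_simp
      field_simp at e
      linear_combination -e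
    · have hu' := (map_ne_zero (qConj hF)).2 hu0
      rw [div_mul_div_comm r, ← hr, map_div₀, map_mul, map_mul, map_mul, map_mul,
        show qConj hF u = a * b * u by rw [← hu, div_mul_cancel₀ _ hu0],
        show qConj hF V = -(a * b * z * t * (J a₄ * J a₆ * J a₈)) * V by
          rw [← hV, div_mul_cancel₀ _ hV0]]
      field_simp
  intro a' b' s ha' hb' hs0 hsum' hs
  obtain ⟨x, hx⟩ : ∃ x, x = s / qConj hF s := ⟨_, rfl⟩
  have hxc : x ∈ circ hF := by
    have := inv_mem_circ hF (rat_mem_circ hF hs0)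
    rwa [inv_div, ← hx] at this
  let π : Equiv.Perm (Fin 10) := Equiv.swap 0 1 * Equiv.swap 1 2 * Equiv.swap 2 3 * Equiv.swap 4 5 *
    Equiv.swap 6 7 * Equiv.swap 8 9
  let w : Fin 10 → F := ![a', b', z, t, x, -(x * J a₄), 1, -J a₆, 1, -J a₈]
  have hsgn : Equiv.Perm.sign π = 1 := by
    simp only [π, map_mul]
    rw [Equiv.Perm.sign_swap (by decide), Equiv.Perm.sign_swap (by decide),
      Equiv.Perm.sign_swap (by decide), Equiv.Perm.sign_swap (by decide),
      Equiv.Perm.sign_swap (by decide), Equiv.Perm.sign_swap (by decide)]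
    rfl
  have hπ : ∀ l, π l = ![1, 2, 3, 0, 5, 4, 7, 6, 9, 8] l := by decide
  refine ⟨π, w, fun l => ?_, ?_, ?_, 6, 7, by decide, by decide, by decide, ?_⟩
  · fin_cases l <;> first
      | exact ha' | exact hb' | exact hz | exact ht
      | exact hxc | exact one_mem_circ hF | exact hneg (mul_mem_circ hF hxc (hJc n₄))
      | exact hneg (hJc n₆) | exact hneg (hJc n₈)
  · rw [hsgn]
    simp only [w, Fin.prod_univ_succ, Matrix.cons_val_zero, Matrix.cons_val_succ, Fin.prod_univ_zero,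
      mul_one, one_mul, Units.val_one, Int.cast_one]
    have := (map_ne_zero (qConj hF)).2 hs0
    rw [map_mul, div_eq_iff (mul_ne_zero hs0 hs0)] at hs
    rw [hx]
    field_simp
    linear_combination -hs
  · simp only [hπ, w, Fin.sum_univ_succ, Matrix.cons_val_zero, Matrix.cons_val_succ, Fin.sum_univ_zero,
      add_zero]
    simp only [Fin.succ_zero_eq_one, Fin.reduceSucc]
    have e₄ : x * (qConj hF (c 5) * c 4) + -(x * J a₄) * (qConj hF (c 4) * c 5) = 0 := by
      simp only [hJ, ha₄, map_mul, qConj_qConj]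
      field_simp [hc, hcc]
      ring
    have e₆ : (1 : F) * (qConj hF (c 7) * c 6) + -J a₆ * (qConj hF (c 6) * c 7) = 0 := by
      simp only [hJ, ha₆, map_mul, qConj_qConj]
      field_simp [hc, hcc]
      ring
    have e₈ : (1 : F) * (qConj hF (c 9) * c 8) + -J a₈ * (qConj hF (c 8) * c 9) = 0 := by
      simp only [hJ, ha₈, map_mul, qConj_qConj]
      field_simp [hc, hcc]
      ring
    rw [← hA, ← hB]
    linear_combination hsum' + hsum + e₄ + e₆ + e₈
  · show 1 * qConj hF (-J a₆) * (c 6 * qConj hF (c 7)) = -(c 7 * qConj hF (c 6))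
    simp only [hJ, ha₆, map_neg, map_div₀, map_mul, qConj_qConj]
    field_simp [hc, hcc]

include hF in
/-- in odd characteristic and dimension ten some monomial element gives a zero -/
theorem exists_zeroMon (hq : Odd q) (c : Fin 10 → F) (hc : ∀ l, c l ≠ 0) :
    ∃ π w, IsZeroMon hF c π w := by
  by_cases h : ∀ i k, IsSquare (c i * c k)
  · have key : ∀ i j, IsSquare (qConj hF (c i) * c j) := fun i j => by
      obtain ⟨k, hk⟩ := hq
      rw [qConj_apply, hk, pow_succ, mul_assoc]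
      exact (even_two_mul k).isSquare_pow _ |>.mul (h i j)
    obtain ⟨s, hs⟩ := ((((key 1 0).mul (key 3 2)).mul (key 5 4)).mul (key 7 6)).mul (key 9 8)
    exact zeroMon_pairs hF hq c hc hs
  · simp only [not_forall] at h
    obtain ⟨i, k, hik⟩ := h
    have hne : i ≠ k := fun e => hik (e ▸ IsSquare.mul_self _)
    let E₁ : Equiv.Perm (Fin 10) := Equiv.swap 0 i
    let E : Equiv.Perm (Fin 10) := Equiv.swap (E₁ 2) k * E₁
    have e0 : E 0 = i := by
      show Equiv.swap (E₁ 2) k (E₁ 0) = i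
      rw [show E₁ 0 = i from Equiv.swap_apply_left _ _, Equiv.swap_apply_of_ne_of_ne ?_ hne]
      exact fun e => absurd (E₁.injective ((Equiv.swap_apply_left 0 i).trans e)) (by decide)
    have e2 : E 2 = k := Equiv.swap_apply_left _ _
    obtain ⟨π, w, hw⟩ := zeroMon_cycle hF hq (c ∘ E) (fun l => hc _)
      (by simpa [e0, e2] using hik)
    exact ⟨_, _, hw.transport hF E⟩

include hF in
/-- ten unknowns when the circle has odd order, or eleven: identity permutation -/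
theorem exists_circ_sum_ten {n : ℕ} (hn : n = 11 ∨ (n = 10 ∧ Even q)) (A : Fin n → F)
    (hA : ∀ l, A l ≠ 0) : ∃ d : Fin n → F, (∀ l, d l ∈ circ hF) ∧ ∏ l, d l = 1 ∧
      ∑ l, d l * A l = 0 ∧ ∃ a b, a ≠ b ∧ d a ≠ d b := by
  rcases hn with rfl | ⟨rfl, hq⟩
  · obtain ⟨a₀, ha₀, a₁, ha₁, a₂, ha₂, a₃, ha₃, hsa, hne⟩ :=
      exists_four hF (hA 0) (hA 1) (hA 2) (hA 3) 0
    obtain ⟨b₀, hb₀, b₁, hb₁, b₂, hb₂, b₃, hb₃, hsb, -⟩ :=
      exists_four hF (hA 4) (hA 5) (hA 6) (hA 7) (-(A 8 + A 9 + A 10))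
    obtain ⟨P, hP⟩ : ∃ P, P = (a₀ * a₁ * a₂ * a₃ * (b₀ * b₁ * b₂ * b₃))⁻¹ := ⟨_, rfl⟩
    have hPc : P ∈ circ hF := by
      rw [hP]
      refine inv_mem_circ hF ?_
      repeat' apply mul_mem_circ hF
      all_goals assumption
    obtain ⟨X, hX⟩ : ∃ X, X = P * P := ⟨_, rfl⟩
    have hXc : X ∈ circ hF := hX ▸ mul_mem_circ hF hPc hPc
    have hYc : P⁻¹ ∈ circ hF := inv_mem_circ hF hPc
    refine ⟨![X * a₀, X * a₁, X * a₂, X * a₃, P⁻¹ * b₀, P⁻¹ * b₁, P⁻¹ * b₂, P⁻¹ * b₃, P⁻¹, P⁻¹, P⁻¹],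
      fun i => ?_, ?_, ?_, 0, 1, by decide, ?_⟩
    · fin_cases i <;> first
        | exact mul_mem_circ hF hXc (by assumption)
        | exact mul_mem_circ hF hYc (by assumption)
        | assumption
    · simp only [Fin.prod_univ_succ, Matrix.cons_val_zero, Matrix.cons_val_succ, Fin.prod_univ_zero,
        mul_one, hX]
      have hP0 := circ_ne_zero hF hPc
      have e : P * (a₀ * a₁ * a₂ * a₃ * (b₀ * b₁ * b₂ * b₃)) = 1 := by
        rw [hP, inv_mul_cancel₀]
        repeat' apply mul_ne_zero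
        all_goals exact circ_ne_zero hF (by assumption)
      field_simp
      linear_combination e
    · simp only [Fin.sum_univ_succ, Matrix.cons_val_zero, Matrix.cons_val_succ, Fin.sum_univ_zero,
        add_zero]
      simp only [Fin.succ_zero_eq_one, Fin.reduceSucc]
      linear_combination X * hsa + P⁻¹ * hsb
    · exact fun h => hne (mul_left_cancel₀ (circ_ne_zero hF hXc) h)
  · obtain ⟨a₀, ha₀, a₁, ha₁, a₂, ha₂, a₃, ha₃, hsa, hne⟩ :=
      exists_four hF (hA 0) (hA 1) (hA 2) (hA 3) 0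
    obtain ⟨b₀, hb₀, b₁, hb₁, b₂, hb₂, b₃, hb₃, hsb, -⟩ :=
      exists_four hF (hA 4) (hA 5) (hA 6) (hA 7) (-(A 8 + A 9))
    obtain ⟨P, hP⟩ : ∃ P, P = (a₀ * a₁ * a₂ * a₃ * (b₀ * b₁ * b₂ * b₃))⁻¹ := ⟨_, rfl⟩
    have hPc : P ∈ circ hF := by
      rw [hP]
      refine inv_mem_circ hF ?_
      repeat' apply mul_mem_circ hF
      all_goals assumption
    obtain ⟨k, hk⟩ := hq
    obtain ⟨X, hX⟩ : ∃ X, X = P ^ ((k + 1) * (k + 1)) := ⟨_, rfl⟩
    have hXc : X ∈ circ hF := by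
      rw [hX, ← Finset.card_range ((k + 1) * (k + 1)), ← Finset.prod_const]
      exact prod_mem_circ hF fun _ _ => hPc
    have hX4 : X ^ 4 = P := by
      have h1 : P ^ (q + 1) = 1 := by
        have := (mem_circ hF).1 hPc
        rwa [qConj_apply, ← pow_succ'] at this
      have hk2 : q + 1 = 2 * k + 1 := by omega
      rw [hk2] at h1
      rw [hX, ← pow_mul, show (k + 1) * (k + 1) * 4 = (2 * k + 1) * (2 * k + 3) + 1 by ring,
        pow_succ, pow_mul, h1, one_pow, one_mul]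
    refine ⟨![X * a₀, X * a₁, X * a₂, X * a₃, b₀, b₁, b₂, b₃, 1, 1],
      fun i => ?_, ?_, ?_, 0, 1, by decide, ?_⟩
    · fin_cases i <;> first
        | exact mul_mem_circ hF hXc (by assumption)
        | exact one_mem_circ hF
        | assumption
    · simp only [Fin.prod_univ_succ, Matrix.cons_val_zero, Matrix.cons_val_succ, Fin.prod_univ_zero,
        mul_one]
      have e : P * (a₀ * a₁ * a₂ * a₃ * (b₀ * b₁ * b₂ * b₃)) = 1 := by
        rw [hP, inv_mul_cancel₀]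
        repeat' apply mul_ne_zero
        all_goals exact circ_ne_zero hF (by assumption)
      linear_combination (a₀ * a₁ * a₂ * a₃ * (b₀ * b₁ * b₂ * b₃)) * hX4 + e
    · simp only [Fin.sum_univ_succ, Matrix.cons_val_zero, Matrix.cons_val_succ, Fin.sum_univ_zero,
        add_zero]
      simp only [Fin.succ_zero_eq_one, Fin.reduceSucc]
      linear_combination X * hsa + hsb
    · exact fun h => hne (mul_left_cancel₀ (circ_ne_zero hF hXc) h)

end CfsgLib.MaxSub.UFrame
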