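import Cfsg.Agent.Lib.MaxSub.Circle

/-!
Linear equations in norm-one unknowns with product one, in twelve variables or over four elements.
-/

set_option autoImplicit false
set_option linter.unusedSectionVars false

namespace CfsgLib.MaxSub.UFrame

open CfsgLib.MaxSub

variable {F : Type*} [Field F] [Fintype F] [DecidableEq F] {q : ℕ} (hF : Fintype.card F = q ^ 2)

include hF in
/-- twelve unknowns -/
theorem exists_circ_sum_twelve {ι : Type} [Fintype ι] [DecidableEq ι] (hι : Fintype.card ι = 12) (A : ι → F)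
    (hA : ∀ l, A l ≠ 0) {p₁ p₂ : ι} (hp : p₁ ≠ p₂) :
    ∃ d : ι → F, (∀ l, d l ∈ circ hF) ∧ ∏ l, d l = 1 ∧ ∑ l, d l * A l = 0 ∧ d p₁ ≠ d p₂ := by
  let E₀ : Fin 12 ≃ ι := (Fintype.equivFinOfCardEq hι).symm
  let E₁ : Fin 12 ≃ ι := E₀.trans (Equiv.swap (E₀ 0) p₁)
  have h10 : E₁ 0 = p₁ := Equiv.swap_apply_left _ _
  let E : Fin 12 ≃ ι := E₁.trans (Equiv.swap (E₁ 1) p₂)
  have hE1 : E 1 = p₂ := Equiv.swap_apply_left _ _
  have hE0 : E 0 = p₁ := by
    show Equiv.swap (E₁ 1) p₂ (E₁ 0) = p₁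
    rw [h10, Equiv.swap_apply_of_ne_of_ne (fun e => absurd (E₁.injective (h10.trans e)) (by decide)) hp]
  obtain ⟨a₀, ha₀, a₁, ha₁, a₂, ha₂, a₃, ha₃, hsa, hne⟩ := exists_four hF (hA (E 0)) (hA (E 1)) (hA (E 2))
    (hA (E 3)) (-A (E 4))
  obtain ⟨b₀, hb₀, b₁, hb₁, b₂, hb₂, b₃, hb₃, hsb, -⟩ := exists_four hF (hA (E 5)) (hA (E 6)) (hA (E 7))
    (hA (E 8)) (-(A (E 9) + A (E 10) + A (E 11)))
  obtain ⟨P, hP⟩ : ∃ P, P = (a₀ * a₁ * a₂ * a₃ * (b₀ * b₁ * b₂ * b₃))⁻¹ := ⟨_, rfl⟩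
  have hPc : P ∈ circ hF := by
    rw [hP]
    refine inv_mem_circ hF ?_
    repeat' apply mul_mem_circ hF
    all_goals assumption
  have hX : P * P * P ∈ circ hF := mul_mem_circ hF (mul_mem_circ hF hPc hPc) hPc
  have hY : (P * P)⁻¹ ∈ circ hF := inv_mem_circ hF (mul_mem_circ hF hPc hPc)
  obtain ⟨X, hXe⟩ : ∃ X, X = P * P * P := ⟨_, rfl⟩
  obtain ⟨Y, hYe⟩ : ∃ Y, Y = (P * P)⁻¹ := ⟨_, rfl⟩
  rw [← hXe] at hX
  rw [← hYe] at hY
  let c : Fin 12 → F := ![X * a₀, X * a₁, X * a₂, X * a₃, X, Y * b₀, Y * b₁, Y * b₂, Y * b₃, Y, Y, Y]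
  have hc : ∀ i, c i ∈ circ hF := fun i => by
    fin_cases i <;> first
      | exact mul_mem_circ hF hX (by assumption)
      | exact mul_mem_circ hF hY (by assumption)
      | assumption
  refine ⟨fun l => c (E.symm l), fun l => hc _, ?_, ?_, ?_⟩
  · rw [← E.prod_comp]
    simp only [Equiv.symm_apply_apply, c, Fin.prod_univ_succ, Matrix.cons_val_zero, Matrix.cons_val_succ,
      Fin.prod_univ_zero, mul_one, hXe, hYe]
    have hP0 := circ_ne_zero hF hPc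
    have e : P * (a₀ * a₁ * a₂ * a₃ * (b₀ * b₁ * b₂ * b₃)) = 1 := by
      rw [hP]
      refine inv_mul_cancel₀ ?_
      simp only [ne_eq, mul_eq_zero, not_or]
      exact ⟨⟨⟨⟨circ_ne_zero hF ha₀, circ_ne_zero hF ha₁⟩, circ_ne_zero hF ha₂⟩, circ_ne_zero hF ha₃⟩,
        ⟨⟨circ_ne_zero hF hb₀, circ_ne_zero hF hb₁⟩, circ_ne_zero hF hb₂⟩, circ_ne_zero hF hb₃⟩
    field_simp
    linear_combination e
  · rw [← E.sum_comp]
    simp only [Equiv.symm_apply_apply, c, Fin.sum_univ_succ, Matrix.cons_val_zero, Matrix.cons_val_succ,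
      Fin.sum_univ_zero, add_zero]
    simp only [Fin.succ_zero_eq_one, Fin.reduceSucc]
    linear_combination X * hsa + Y * hsb
  · show c (E.symm p₁) ≠ c (E.symm p₂)
    rw [← hE0, ← hE1, E.symm_apply_apply, E.symm_apply_apply]
    exact fun h => hne (mul_left_cancel₀ (circ_ne_zero hF hX) h)

include hF in
/-- eight free unknowns when the fourth power is the identity on the circle -/
theorem exists_circ_sum_four {ι : Type} [Fintype ι] [DecidableEq ι] (h4 : ∀ P ∈ circ hF, P ^ 4 = P)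
    (A : ι → F) (G W : Finset ι) (hG : ∀ l ∈ G, A l ≠ 0) (hGW : Disjoint G W) (hG8 : 8 ≤ G.card)
    {p₁ p₂ : ι} (hp₁ : p₁ ∈ G) (hp₂ : p₂ ∈ G) (hp : p₁ ≠ p₂) :
    ∃ d : ι → F, (∀ l, d l ∈ circ hF) ∧ ∏ l, d l = 1 ∧ ∑ l, d l * A l = 0 ∧
      (∀ i ∈ W, ∀ j ∈ W, d i = d j) ∧ d p₁ ≠ d p₂ := by
  obtain ⟨T, hT, hTc⟩ := Finset.exists_subset_card_eq (s := (G.erase p₁).erase p₂) (n := 6) (by
    rw [Finset.card_erase_of_mem (Finset.mem_erase.2 ⟨hp.symm, hp₂⟩), Finset.card_erase_of_mem hp₁]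
    omega)
  let w := (T.equivFinOfCardEq hTc).symm
  let v : Fin 8 → ι := Fin.cons p₁ (Fin.cons p₂ fun i => (w i : ι))
  have hwT : ∀ i, (w i : ι) ∈ G ∧ (w i : ι) ≠ p₁ ∧ (w i : ι) ≠ p₂ := fun i => by
    have := hT (w i).2
    simp only [Finset.mem_erase] at this
    exact ⟨this.2.2, this.2.1, this.1⟩
  have hv : Function.Injective v := by
    refine Fin.cons_injective_iff.2 ⟨?_, Fin.cons_injective_iff.2 ⟨?_, fun i j h => w.injective (Subtype.ext h)⟩⟩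
    · rintro ⟨i, hi⟩
      revert hi
      refine Fin.cases ?_ (fun i => ?_) i
      · simp [hp.symm]
      · simp [(hwT i).2.1]
    · rintro ⟨i, hi⟩
      exact (hwT i).2.2 hi
  have hvG : ∀ i, v i ∈ G := by
    refine Fin.cases hp₁ (Fin.cases hp₂ fun i => ?_)
    exact (hwT i).1
  have hA := fun i => hG _ (hvG i)
  let s : Finset ι := Finset.univ.map ⟨v, hv⟩
  let R := ∑ l ∈ sᶜ, A l
  obtain ⟨a₀, ha₀, a₁, ha₁, a₂, ha₂, a₃, ha₃, hsa, hne⟩ := exists_four hF (hA 0) (hA 1) (hA 2) (hA 3) 0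
  obtain ⟨b₀, hb₀, b₁, hb₁, b₂, hb₂, b₃, hb₃, hsb, -⟩ := exists_four hF (hA 4) (hA 5) (hA 6) (hA 7) (-R)
  obtain ⟨P, hP⟩ : ∃ P, P = (a₀ * a₁ * a₂ * a₃ * (b₀ * b₁ * b₂ * b₃))⁻¹ := ⟨_, rfl⟩
  have hPc : P ∈ circ hF := by
    rw [hP]
    refine inv_mem_circ hF ?_
    repeat' apply mul_mem_circ hF
    all_goals assumption
  let c : Fin 8 → F := ![P * a₀, P * a₁, P * a₂, P * a₃, b₀, b₁, b₂, b₃]
  have hc : ∀ i, c i ∈ circ hF := fun i => by
    fin_cases i <;> first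
      | exact mul_mem_circ hF hPc (by assumption)
      | assumption
  let d : ι → F := Function.extend v c fun _ => 1
  have hdv : ∀ i, d (v i) = c i := fun i => hv.extend_apply c _ i
  have hdo : ∀ l ∉ s, d l = 1 := by
    intro l hl
    simp only [s, Finset.mem_map, Finset.mem_univ, true_and, Function.Embedding.coeFn_mk] at hl
    exact Function.extend_apply' _ _ _ hl
  refine ⟨d, fun l => ?_, ?_, ?_, fun i hi j hj => ?_, ?_⟩
  · by_cases hl : l ∈ s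
    · simp only [s, Finset.mem_map, Finset.mem_univ, true_and, Function.Embedding.coeFn_mk] at hl
      obtain ⟨i, rfl⟩ := hl
      rw [hdv]; exact hc i
    · rw [hdo l hl]; exact one_mem_circ hF
  · rw [← Finset.prod_subset (Finset.subset_univ s) fun l _ hl => hdo l hl, Finset.prod_map]
    simp only [Function.Embedding.coeFn_mk, hdv, c, Fin.prod_univ_succ, Matrix.cons_val_zero, Matrix.cons_val_succ,
      Fin.prod_univ_zero, mul_one]
    have e : P * (a₀ * a₁ * a₂ * a₃ * (b₀ * b₁ * b₂ * b₃)) = 1 := by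
      rw [hP]
      refine inv_mul_cancel₀ ?_
      simp only [ne_eq, mul_eq_zero, not_or]
      exact ⟨⟨⟨⟨circ_ne_zero hF ha₀, circ_ne_zero hF ha₁⟩, circ_ne_zero hF ha₂⟩, circ_ne_zero hF ha₃⟩,
        ⟨⟨circ_ne_zero hF hb₀, circ_ne_zero hF hb₁⟩, circ_ne_zero hF hb₂⟩, circ_ne_zero hF hb₃⟩
    linear_combination e + (a₀ * a₁ * a₂ * a₃ * (b₀ * b₁ * b₂ * b₃)) * h4 P hPc
  · rw [← Finset.sum_add_sum_compl s, Finset.sum_map,
      Finset.sum_congr rfl (fun l hl => show d l * A l = A l by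
        rw [hdo l (Finset.mem_compl.1 hl), one_mul]) (s₁ := sᶜ)]
    simp only [Function.Embedding.coeFn_mk, hdv]
    show ∑ i, c i * A (v i) + R = 0
    simp only [c, Fin.sum_univ_succ, Matrix.cons_val_zero, Matrix.cons_val_succ, Fin.sum_univ_zero, add_zero]
    simp only [Fin.succ_zero_eq_one, Fin.reduceSucc]
    linear_combination P * hsa + hsb
  · have hout : ∀ l ∈ W, l ∉ s := fun l hl hls => by
      simp only [s, Finset.mem_map, Finset.mem_univ, true_and, Function.Embedding.coeFn_mk] at hls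
      obtain ⟨i, rfl⟩ := hls
      exact Finset.disjoint_left.1 hGW (hvG i) hl
    rw [hdo i (hout i hi), hdo j (hout j hj)]
  · have e1 : d p₁ = P * a₀ := hdv 0
    have e2 : d p₂ = P * a₁ := hdv 1
    rw [e1, e2]
    exact fun h => hne (mul_left_cancel₀ (circ_ne_zero hF hPc) h)

end CfsgLib.MaxSub.UFrame
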