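import Cfsg.Agent.Lib.KnownB.GLBlocks
import Mathlib.FieldTheory.Finite.Basic

/-!
Companion bases of endomorphisms, and elementary divisors rational over a subfield.
-/

set_option autoImplicit false

namespace CfsgLib.MaxSub.CompanionBasis

open Polynomial CfsgLib.KnownB

universe u v

variable {F : Type u} [Field F] [Fintype F] {V : Type v} [AddCommGroup V] [Module F V] [FiniteDimensional F V]

/-- The block polynomial. -/
noncomputable def blockPoly {φ : Module.End F V} (D : GLBlocks.Decomp φ) (i : D.ι) : F[X] := D.p i ^ D.e i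

theorem blockPoly_monic {φ : Module.End F V} (D : GLBlocks.Decomp φ) (i : D.ι) : (blockPoly D i).Monic :=
  (D.monic i).pow _

/-- A basis in which the endomorphism is a sum of companion blocks. -/
theorem exists_companion {φ : Module.End F V} (D : GLBlocks.Decomp φ) :
    ∃ b : Module.Basis ((i : D.ι) × Fin (blockPoly D i).natDegree) F V,
      ∀ (i : D.ι) (j : Fin (blockPoly D i).natDegree), φ (b ⟨i, j⟩) =
        if h : (j : ℕ) + 1 < (blockPoly D i).natDegree then b ⟨i, ⟨(j : ℕ) + 1, h⟩⟩
        else -∑ l : Fin (blockPoly D i).natDegree, (blockPoly D i).coeff l • b ⟨i, l⟩ := by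
  classical
  let gen : D.ι → Module.AEval' φ := fun i => D.equiv.symm (Pi.single i (Submodule.Quotient.mk 1))
  let g : D.ι → V := fun i => (Module.AEval'.of φ).symm (gen i)
  have hgo : ∀ i, Module.AEval'.of φ (g i) = gen i := fun i => (Module.AEval'.of φ).apply_symm_apply _
  have hann : ∀ i, aeval φ (blockPoly D i) (g i) = 0 := fun i => by
    refine (Module.AEval'.of φ).map_eq_zero_iff.1 ?_
    rw [show Module.AEval'.of φ (aeval φ (blockPoly D i) (g i)) = blockPoly D i • Module.AEval'.of φ (g i) from
      Module.AEval.of_aeval_smul _ _ _, hgo]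
    refine D.equiv.map_eq_zero_iff.1 ?_
    simp only [gen, map_smul, LinearEquiv.apply_symm_apply]
    rw [← Pi.single_smul, ← Submodule.Quotient.mk_smul, smul_eq_mul, mul_one,
      (Submodule.Quotient.mk_eq_zero _).2 (Ideal.mem_span_singleton.2 dvd_rfl), Pi.single_zero]
  let v : ((i : D.ι) × Fin (blockPoly D i).natDegree) → V := fun a => (φ ^ (a.2 : ℕ)) (g a.1)
  have hstep : ∀ (i : D.ι) (j : Fin (blockPoly D i).natDegree), φ (v ⟨i, j⟩) =
      if h : (j : ℕ) + 1 < (blockPoly D i).natDegree then v ⟨i, ⟨(j : ℕ) + 1, h⟩⟩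
      else -∑ l : Fin (blockPoly D i).natDegree, (blockPoly D i).coeff l • v ⟨i, l⟩ := fun i j => by
    show φ ((φ ^ (j : ℕ)) (g i)) = _
    rw [← Module.End.mul_apply, ← pow_succ']
    split_ifs with h
    · rfl
    · rw [show (j : ℕ) + 1 = (blockPoly D i).natDegree by omega, eq_neg_iff_add_eq_zero]
      have h1 := hann i
      rw [aeval_eq_sum_range, Finset.sum_range_succ, LinearMap.add_apply, LinearMap.smul_apply,
        Monic.coeff_natDegree (blockPoly_monic D i), one_smul, LinearMap.sum_apply, Finset.sum_range, add_comm] at h1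
      exact h1
  set S := Submodule.span F (Set.range v) with hS
  have hSN : ∀ w ∈ S, φ w ∈ S := by
    intro w hw
    induction hw using Submodule.span_induction with
    | mem x hx =>
      obtain ⟨⟨i, j⟩, rfl⟩ := hx
      rw [hstep]
      split_ifs
      · exact Submodule.subset_span ⟨_, rfl⟩
      · exact S.neg_mem (Submodule.sum_mem _ fun l _ => S.smul_mem _ (Submodule.subset_span ⟨_, rfl⟩))
    | zero => simp
    | add a b _ _ ha hb => rw [map_add]; exact S.add_mem ha hb
    | smul c a _ ha => rw [map_smul]; exact S.smul_mem c ha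
  have hpoly : ∀ (f : F[X]) w, w ∈ S → aeval φ f w ∈ S := fun f => by
    induction f using Polynomial.induction_on with
    | C a => intro w hw; simpa [Module.algebraMap_end_apply] using S.smul_mem a hw
    | add p q hp hq => intro w hw; simpa using S.add_mem (hp w hw) (hq w hw)
    | monomial m a ih =>
      intro w hw
      rw [pow_succ, ← mul_assoc, map_mul, Module.End.mul_apply, aeval_X]
      exact ih _ (hSN w hw)
  have hdeg : ∀ i, 0 < (blockPoly D i).natDegree := fun i => by
    rw [blockPoly, natDegree_pow]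
    exact Nat.mul_pos (D.pos i) (D.irred i).natDegree_pos
  have hspan : ⊤ ≤ S := fun w _ => by
    choose a ha using fun i => Submodule.Quotient.mk_surjective _ (D.equiv (Module.AEval'.of φ w) i)
    have h1 : Module.AEval'.of φ w = ∑ i, a i • gen i := by
      refine D.equiv.injective ?_
      rw [map_sum]
      conv_lhs => rw [← Finset.univ_sum_single (D.equiv (Module.AEval'.of φ w))]
      refine Finset.sum_congr rfl fun i _ => ?_
      simp only [gen, map_smul, LinearEquiv.apply_symm_apply]
      rw [← Pi.single_smul, ← Submodule.Quotient.mk_smul, smul_eq_mul, mul_one, ha]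
    have h2 : w = ∑ i, aeval φ (a i) (g i) := by
      refine (Module.AEval'.of φ).injective ?_
      rw [h1, map_sum]
      refine Finset.sum_congr rfl fun i _ => ?_
      rw [← hgo i]
      exact (Module.AEval.of_aeval_smul _ _ _).symm
    rw [h2]
    exact Submodule.sum_mem _ fun i _ => hpoly _ _ (Submodule.subset_span ⟨⟨i, ⟨0, hdeg i⟩⟩, rfl⟩)
  have hcard : Fintype.card ((i : D.ι) × Fin (blockPoly D i).natDegree) = Module.finrank F V := by
    rw [← D.sum_deg, Fintype.card_sigma]
    exact Finset.sum_congr rfl fun i _ => by rw [Fintype.card_fin, blockPoly, natDegree_pow]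
  refine ⟨basisOfTopLeSpanOfCardEqFinrank v hspan hcard, fun i j => ?_⟩
  rw [coe_basisOfTopLeSpanOfCardEqFinrank]
  exact hstep i j

/-- An element with `r`-th power one has elementary divisors which are irreducible factors of `X ^ r - 1`. -/
theorem decomp_of_pow_eq_one {φ : Module.End F V} (D : GLBlocks.Decomp φ) {r : ℕ} (hr : (r : F) ≠ 0) (hφ : φ ^ r = 1)
    (i : D.ι) : blockPoly D i = D.p i ∧ D.p i ∣ X ^ r - 1 := by
  classical
  let gen : Module.AEval' φ := D.equiv.symm (Pi.single i (Submodule.Quotient.mk 1))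
  have h0 : ((X : F[X]) ^ r - 1) • gen = 0 := by
    obtain ⟨w, hw⟩ := (Module.AEval'.of φ).surjective gen
    rw [← hw, sub_smul, one_smul, Module.AEval'.X_pow_smul_of, hφ, one_smul, sub_self]
  have h1 := congrArg (fun z => D.equiv z i) h0
  simp only [gen, map_smul, LinearEquiv.apply_symm_apply, map_zero, Pi.smul_apply, Pi.single_eq_same, Pi.zero_apply,
    ← Submodule.Quotient.mk_smul, Submodule.Quotient.mk_eq_zero, Ideal.mem_span_singleton, smul_eq_mul, mul_one] at h1
  have hsq : Squarefree ((X : F[X]) ^ r - 1) := (separable_X_pow_sub_C (1 : F) hr one_ne_zero).squarefree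
  have he : D.e i = 1 := by
    by_contra h
    have := D.pos i
    exact (D.irred i).not_isUnit (hsq _ (by rw [← sq]; exact (pow_dvd_pow _ (show 2 ≤ D.e i by omega)).trans h1))
  rw [he, pow_one] at h1
  exact ⟨by rw [blockPoly, he, pow_one], h1⟩

/-- An irreducible factor of `X ^ r - 1` is rational over the fixed field of `σ : x ↦ x ^ s` if `s` is a power of
`q` modulo `r`. -/
theorem map_eq_of_dvd {P : F[X]} (hP : Irreducible P) (hPm : P.Monic) {r s j : ℕ} (hdvd : P ∣ X ^ r - 1)
    {σ : F →+* F} (hσ : ∀ x, σ x = x ^ s) (hsp : ∀ (K : Type u) [Field K] [Algebra F K] (x y : K), (x + y) ^ s = x ^ s + y ^ s)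
    (hs : s ≡ Fintype.card F ^ j [MOD r]) : P.map σ = P := by
  classical
  haveI := Fact.mk hP
  set K := AdjoinRoot P
  let α : K := AdjoinRoot.root P
  have hα : aeval α P = 0 := by rw [AdjoinRoot.aeval_eq, AdjoinRoot.mk_self]
  have hαr : α ^ r = 1 := by
    obtain ⟨Q, hQ⟩ := hdvd
    have := congrArg (aeval α) hQ
    simpa [hα, sub_eq_zero] using this
  have key : ∀ f : F[X], aeval (α ^ (Fintype.card F ^ j)) f = aeval α f ^ (Fintype.card F ^ j) := fun f => by
    rw [← map_pow (aeval α) f, ← Polynomial.expand_aeval]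
    congr 1
    clear hs
    induction j with
    | zero => simp
    | succ j ih =>
      rw [pow_succ, pow_mul, ← ih, ← FiniteField.expand_card, mul_comm, Polynomial.expand_mul]
  have hpow : α ^ s = α ^ (Fintype.card F ^ j) := by
    rw [← Nat.div_add_mod s r, ← Nat.div_add_mod (Fintype.card F ^ j) r, pow_add, pow_add, pow_mul, pow_mul, hαr,
      one_pow, one_pow, hs]
  have h1 : aeval (α ^ s) P = 0 := by
    rw [hpow, key, hα, zero_pow (pow_ne_zero _ Fintype.card_ne_zero)]
  have hs0 : s ≠ 0 := fun h => by
    have := hσ 0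
    rw [map_zero, h, pow_zero] at this
    exact zero_ne_one this
  have h2 : aeval (α ^ s) (P.map σ) = 0 := by
    let τ : K →+* K :=
      { toFun := fun x => x ^ s
        map_one' := one_pow s
        map_mul' := fun x y => mul_pow x y s
        map_zero' := zero_pow hs0
        map_add' := fun x y => hsp K x y }
    have : aeval (α ^ s) (P.map σ) = τ (aeval α P) := by
      rw [aeval_def, aeval_def, Polynomial.eval₂_map, Polynomial.hom_eval₂]
      congr 1
      ext x
      show algebraMap F K (σ x) = algebraMap F K x ^ s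
      rw [hσ, map_pow]
    rw [this, hα, map_zero]
  have hm1 := minpoly.eq_of_irreducible_of_monic hP h1 hPm
  have h3 : minpoly F (α ^ s) ∣ P.map σ := minpoly.dvd F _ h2
  rw [← hm1] at h3
  exact eq_of_monic_of_dvd_of_natDegree_le hPm (hPm.map σ) h3
    (le_of_eq (hPm.natDegree_map σ))

end CfsgLib.MaxSub.CompanionBasis
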