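import Cfsg.Prelude.Def_GeometricClasses
import Cfsg.Agent.Lib.MaxSub.DecompCoord
import Mathlib.LinearAlgebra.Matrix.GeneralLinearGroup.Card
import Mathlib.GroupTheory.GroupAction.Quotient

/-!
A prime dividing the number of decompositions into `t` subspaces of dimension `a` divides the order of `GL`.
-/

set_option autoImplicit false

namespace CfsgLib.MaxSub.DecompNumber

variable {F : Type*} [Field F] [Fintype F] {n a t : ℕ}

theorem dvd_card_gl (ha : 1 ≤ a) (ht : 2 ≤ t) (hat : n = a * t) {r : ℕ}
    (h : r ∣ Nat.card {D : Fin t → Submodule F (Fin n → F) // Cfsg.Geo.IsMDecomposition a D} / Nat.factorial t) :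
    r ∣ Nat.card (GL (Fin n) F) := by
  classical
  let X := {D : Fin t → Submodule F (Fin n → F) // Cfsg.Geo.IsMDecomposition a D}
  have hN : Nat.factorial t ∣ Nat.card X := by
    letI : MulAction (Equiv.Perm (Fin t)) X :=
      { smul := fun σ D => ⟨fun j => D.1 (σ⁻¹ j), {
          two_le := D.2.two_le
          pos := D.2.pos
          finrank_eq := fun j => D.2.finrank_eq _
          indep := D.2.indep.comp (σ⁻¹).injective
          iSup_eq_top := ((σ⁻¹).iSup_comp (g := D.1)).trans D.2.iSup_eq_top }⟩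
        one_smul := fun D => Subtype.ext rfl
        mul_smul := fun σ τ D => Subtype.ext rfl }
    have hfree : ∀ D : X, MulAction.stabilizer (Equiv.Perm (Fin t)) D = ⊥ := fun D => by
      rw [Subgroup.eq_bot_iff_forall]
      intro σ hσ
      refine Equiv.ext fun j => ?_
      by_contra hne
      have h1 : D.1 (σ⁻¹ (σ j)) = D.1 (σ j) := congrFun (congrArg Subtype.val (MulAction.mem_stabilizer_iff.1 hσ)) (σ j)
      rw [Equiv.Perm.inv_def, Equiv.symm_apply_apply] at h1
      have h2 := D.2.indep.pairwiseDisjoint (show σ j ≠ j from hne)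
      rw [Function.onFun, h1] at h2
      have h3 := D.2.finrank_eq (σ j)
      rw [disjoint_self.1 h2, finrank_bot] at h3
      omega
    haveI : Finite (MulAction.orbitRel.Quotient (Equiv.Perm (Fin t)) X) := Quotient.finite _
    haveI := Fintype.ofFinite (MulAction.orbitRel.Quotient (Equiv.Perm (Fin t)) X)
    rw [Nat.card_congr (MulAction.selfEquivSigmaOrbits (Equiv.Perm (Fin t)) X), Nat.card_sigma]
    refine Finset.dvd_sum fun w _ => ?_
    rw [Nat.card_congr (MulAction.orbitEquivQuotientStabilizer _ w.out), hfree, ← Subgroup.index, Subgroup.index_bot,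
      Nat.card_eq_fintype_card, Fintype.card_perm, Fintype.card_fin]
  have hrN : r ∣ Nat.card X := h.trans (Nat.div_dvd_of_dvd hN)
  refine hrN.trans ?_
  let G := (Fin n → F) ≃ₗ[F] (Fin n → F)
  letI : MulAction G X :=
    { smul := fun g D => ⟨fun j => (D.1 j).map (g : (Fin n → F) →ₗ[F] (Fin n → F)), {
        two_le := D.2.two_le
        pos := D.2.pos
        finrank_eq := fun j => by rw [LinearEquiv.finrank_map_eq]; exact D.2.finrank_eq j
        indep := LinearMap.iSupIndep_map (g : (Fin n → F) →ₗ[F] (Fin n → F)) g.injective D.2.indep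
        iSup_eq_top := by rw [← Submodule.map_iSup, D.2.iSup_eq_top, Submodule.map_top, LinearEquiv.range] }⟩
      one_smul := fun D => Subtype.ext (funext fun j => Submodule.map_id _)
      mul_smul := fun g g' D => Subtype.ext (funext fun j => Submodule.map_comp _ _ _) }
  rcases isEmpty_or_nonempty X with hX | ⟨⟨D₀⟩⟩
  · exfalso
    obtain ⟨e⟩ : Nonempty ((Fin n → F) ≃ₗ[F] (Fin t → Fin a → F)) := ⟨LinearEquiv.ofFinrankEq _ _ (by
      rw [Module.finrank_fin_fun, Module.finrank_pi_fintype, Finset.sum_const, Finset.card_univ, Fintype.card_fin,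
        Module.finrank_fin_fun, smul_eq_mul, hat, mul_comm])⟩
    refine hX.false ⟨fun j => (LinearMap.range (LinearMap.single F (fun _ : Fin t => Fin a → F) j)).map
      e.symm.toLinearMap, ⟨ht, ha, fun j => ?_, ?_, ?_⟩⟩
    · rw [LinearEquiv.finrank_map_eq, LinearMap.finrank_range_of_inj (fun x y h => by simpa using congrFun h j),
        Module.finrank_fin_fun]
    · refine LinearMap.iSupIndep_map e.symm.toLinearMap e.symm.injective ?_
      intro j
      refine Submodule.disjoint_def.2 fun x ⟨y, hy⟩ hx => ?_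
      have hle : (⨆ l ≠ j, LinearMap.range (LinearMap.single F (fun _ : Fin t => Fin a → F) l)) ≤
          LinearMap.ker (LinearMap.proj (R := F) (φ := fun _ : Fin t => Fin a → F) j) := iSup₂_le fun l hl => by
        rintro _ ⟨z, rfl⟩
        simp [Ne.symm hl]
      have h0 : x j = 0 := hle hx
      rw [← hy] at h0 ⊢
      rw [LinearMap.single_apply, Pi.single_eq_same] at h0
      rw [h0, map_zero]
    · rw [← Submodule.map_iSup, eq_top_iff]
      intro v _
      refine ⟨e v, ?_, e.symm_apply_apply v⟩
      rw [SetLike.mem_coe, ← Finset.univ_sum_single (e v)]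
      exact sum_mem fun l _ => Submodule.mem_iSup_of_mem l ⟨e v l, rfl⟩
  have horb : MulAction.orbit G D₀ = Set.univ := Set.eq_univ_of_forall fun D => by
    obtain ⟨ψ₀, h₀⟩ := CfsgLib.MaxSub.Decomp.exists_coord D₀.2
    obtain ⟨ψ, hψ⟩ := CfsgLib.MaxSub.Decomp.exists_coord D.2
    refine ⟨ψ₀.trans ψ.symm, Subtype.ext (funext fun j => ?_)⟩
    show (D₀.1 j).map ((ψ₀.trans ψ.symm : G) : (Fin n → F) →ₗ[F] (Fin n → F)) = D.1 j
    refine Submodule.eq_of_le_of_finrank_eq ?_ (by rw [LinearEquiv.finrank_map_eq, D₀.2.finrank_eq, D.2.finrank_eq])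
    rintro _ ⟨v, hv, rfl⟩
    refine (hψ _ _).2 fun l hl => ?_
    show ψ (ψ.symm (ψ₀ v)) l = 0
    rw [ψ.apply_symm_apply]
    exact (h₀ v j).1 hv l hl
  have hidx := MulAction.index_stabilizer (G := G) D₀
  rw [horb, Set.ncard_univ] at hidx
  rw [← hidx, Nat.card_congr ((Matrix.GeneralLinearGroup.toLin (n := Fin n) (R := F)).trans
    (LinearMap.GeneralLinearGroup.generalLinearEquiv F (Fin n → F))).toEquiv]
  exact Subgroup.index_dvd_card _

end CfsgLib.MaxSub.DecompNumber
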