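import Cfsg.Agent.Lib.MaxSub.BlockMono
import Cfsg.Agent.Lib.MaxSub.DecompCoord

/-!
The stabiliser of a decomposition in adapted coordinates is the group of block-monomial matrices.
-/

set_option autoImplicit false
set_option linter.unusedSectionVars false

namespace CfsgLib.MaxSub.DecompMax

open Matrix CfsgLib.MaxSub Cfsg.Geo
open scoped MatrixGroups

variable {ι κ : Type} [Fintype ι] [DecidableEq ι] [Fintype κ] [DecidableEq κ] {F : Type*} [Field F]

/-- Pairs (position, component) as coordinates. -/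
def pairCoord {t m : ℕ} (ψ : (ι → F) ≃ₗ[F] (Fin t → Fin m → F)) :
    (ι → F) ≃ₗ[F] (Fin m × Fin t → F) where
  toFun x p := ψ x p.2 p.1
  map_add' x y := by funext p; simp
  map_smul' c x := by funext p; simp
  invFun v := ψ.symm fun i k => v (k, i)
  left_inv x := ψ.symm_apply_apply x
  right_inv v := by funext p; simp

/-- Change of coordinates on `GL`. -/
noncomputable def coordGL (Φ : (ι → F) ≃ₗ[F] (κ → F)) : GL ι F ≃* GL κ F :=
  Units.mapEquiv ((Matrix.toLinAlgEquiv' (R := F) (n := ι)).trans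
    ((Φ.conjAlgEquiv F).trans (LinearMap.toMatrixAlgEquiv' (R := F) (n := κ)))).toMulEquiv

theorem coordGL_mulVec (Φ : (ι → F) ≃ₗ[F] (κ → F)) (g : GL ι F) (x : ι → F) :
    (coordGL Φ g : Matrix κ κ F) *ᵥ Φ x = Φ ((g : Matrix ι ι F) *ᵥ x) := by
  show (LinearMap.toMatrixAlgEquiv' (Φ.conjAlgEquiv F (Matrix.toLinAlgEquiv' (g : Matrix ι ι F)))) *ᵥ Φ x = _
  rw [← Matrix.toLinAlgEquiv'_apply, Matrix.toLinAlgEquiv'_toMatrixAlgEquiv']
  simp

theorem coordGL_mem_sl (Φ : (ι → F) ≃ₗ[F] (κ → F)) (g : GL ι F) :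
    coordGL Φ g ∈ specialLinear κ F ↔ g ∈ specialLinear ι F := by
  have h : (coordGL Φ g : Matrix κ κ F).det = (g : Matrix ι ι F).det := by
    show (LinearMap.toMatrix' ((Φ : (ι → F) →ₗ[F] (κ → F)) ∘ₗ Matrix.toLin' (g : Matrix ι ι F) ∘ₗ
      (Φ.symm : (κ → F) →ₗ[F] (ι → F)))).det = _
    rw [LinearMap.det_toMatrix', LinearMap.det_conj, LinearMap.det_toLin']
  rw [mem_sl_iff, mem_sl_iff, h]

theorem map_coordGL_sl (Φ : (ι → F) ≃ₗ[F] (κ → F)) :
    (specialLinear ι F).map (coordGL Φ).toMonoidHom = specialLinear κ F := by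
  ext y
  obtain ⟨g, rfl⟩ := (coordGL Φ).surjective y
  rw [coordGL_mem_sl]
  exact Subgroup.mem_map_iff_mem (coordGL Φ).injective

theorem mem_decompositionStabilizer_iff {t m : ℕ} {D : Fin t → Submodule F (ι → F)}
    (hD : IsMDecomposition m D) (ψ : (ι → F) ≃ₗ[F] (Fin t → Fin m → F))
    (hψ : ∀ x i, x ∈ D i ↔ ∀ j, j ≠ i → ψ x j = 0) (g : GL ι F) :
    g ∈ decompositionStabilizer D ↔ IsBlockMono Prod.snd
      (coordGL (pairCoord ψ) g : Matrix (Fin m × Fin t) (Fin m × Fin t) F) := by
  have hcoord := coordGL_mulVec (pairCoord ψ) g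
  set A := (coordGL (pairCoord ψ) g : Matrix (Fin m × Fin t) (Fin m × Fin t) F)
  constructor
  · rintro ⟨σ, hσ⟩ a
    refine ⟨σ a, fun P Q hP hQ => ?_⟩
    have hx : (pairCoord ψ).symm (Pi.single P 1) ∈ D a := (hψ _ a).2 fun j hj => by
      funext k
      have : ψ ((pairCoord ψ).symm (Pi.single P 1)) j k = (Pi.single P (1 : F) : _ → F) (k, j) :=
        congrFun ((pairCoord ψ).apply_symm_apply (Pi.single P 1)) (k, j)
      rw [this, Pi.single_eq_of_ne (fun e => hj ((congrArg Prod.snd e).trans hP)), Pi.zero_apply]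
    have hmem : (g : Matrix ι ι F) *ᵥ (pairCoord ψ).symm (Pi.single P 1) ∈ D (σ a) := by
      rw [← hσ a]
      exact ⟨_, hx, rfl⟩
    have h' := congrFun ((hψ _ (σ a)).1 hmem Q.2 hQ) Q.1
    have h2 := congrFun (hcoord ((pairCoord ψ).symm (Pi.single P 1))) Q
    rw [LinearEquiv.apply_symm_apply, mulVec_single_one] at h2
    exact h2.trans h'
  · intro h
    choose b hb using h
    have hinj : Function.Injective (Matrix.toLin' (g : Matrix ι ι F)) := fun u v e => by
      have := congrArg (((g⁻¹ : GL ι F) : Matrix ι ι F).mulVec) e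
      simpa [Matrix.mulVec_mulVec, ← Units.val_mul] using this
    have hmap : ∀ a, (D a).map (Matrix.toLin' (g : Matrix ι ι F)) = D (b a) := by
      intro a
      refine Submodule.eq_of_le_of_finrank_eq ?_ ?_
      · rintro _ ⟨x, hx, rfl⟩
        refine (hψ _ _).2 fun j hj => funext fun k => ?_
        have h2 := congrFun (hcoord x) (k, j)
        refine h2.symm.trans (Finset.sum_eq_zero fun P _ => ?_)
        by_cases hP : P.2 = a
        · exact mul_eq_zero_of_left (hb a P (k, j) hP hj) _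
        · exact mul_eq_zero_of_right _ (congrFun ((hψ x a).1 hx P.2 hP) P.1)
      · rw [← (Submodule.equivMapOfInjective _ hinj (D a)).finrank_eq, hD.finrank_eq, hD.finrank_eq]
    have hbinj : Function.Injective b := by
      intro a a' e
      by_contra hne
      have h' : D a = D a' := Submodule.map_injective_of_injective hinj
        (by rw [hmap, hmap, e])
      have hd := hD.indep.pairwiseDisjoint hne
      rw [Function.onFun, h', disjoint_self] at hd
      have := hD.finrank_eq a'
      rw [hd, finrank_bot] at this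
      exact absurd this hD.pos.ne
    exact ⟨Equiv.ofBijective b (Finite.injective_iff_bijective.1 hbinj), hmap⟩

end CfsgLib.MaxSub.DecompMax
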