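import Mathlib.GroupTheory.Perm.Basic
import Mathlib.Data.Fintype.Card
import Mathlib.Algebra.Group.Subgroup.Basic
import Mathlib.Tactic.FinCases

/-!
Two 2-groups of tree shape in the symmetric group on eight letters always share a non-trivial element.
-/

set_option autoImplicit false

namespace CfsgLib.MaxSub.Eight

/-- candidate common elements -/
def wits : List (List Nat) := [[1,0,3,2,5,4,7,6],
  [1,0,3,2,6,7,4,5],
  [1,0,3,2,7,6,5,4],
  [0,1,2,3,4,5,7,6],
  [0,1,2,3,5,4,6,7],
  [0,1,3,2,4,5,6,7],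
  [1,0,2,3,4,5,6,7],
  [4,5,6,7,0,1,2,3],
  [4,5,7,6,0,1,3,2],
  [5,4,6,7,1,0,2,3],
  [5,4,7,6,1,0,3,2],
  [6,7,4,5,2,3,0,1],
  [6,7,5,4,3,2,0,1],
  [7,6,4,5,2,3,1,0],
  [7,6,5,4,3,2,1,0]]

/-- `a` respects a labelling by four pairs, grouped in two quadruples -/
def okB (l a : List Nat) : Bool :=
  (List.range 8).all fun u => (List.range u).all fun v =>
    (!(l.getD u 0 == l.getD v 0) || (l.getD (a.getD u 0) 0 == l.getD (a.getD v 0) 0)) &&
      (!(l.getD u 0 / 2 == l.getD v 0 / 2) || (l.getD (a.getD u 0) 0 / 2 == l.getD (a.getD v 0) 0 / 2))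

/-- all balanced labellings extending `l` have a witness -/
def search : Nat → List Nat → Bool
  | 0, l => wits.any (okB l)
  | k + 1, l => (List.range 4).all fun i => decide (2 ≤ l.count i) || search k (l ++ [i])

set_option maxRecDepth 4000 in
set_option maxHeartbeats 2000000 in
theorem search_root : search 7 [0] = true := by decide +kernel

theorem search_sound (k : Nat) : ∀ l : List Nat, search k l = true → ∀ l' : List Nat, l'.length = k →
    (∀ i ∈ l', i < 4) → (∀ i, (l ++ l').count i ≤ 2) → ∃ a ∈ wits, okB (l ++ l') a = true := by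
  induction k with
  | zero =>
    intro l h l' hl _ _
    rw [List.length_eq_zero_iff.1 hl, List.append_nil]
    simpa [search, List.any_eq_true] using h
  | succ k ih =>
    intro l h l' hl hlt hc
    obtain ⟨i, l'', rfl⟩ := List.exists_cons_of_length_eq_add_one hl
    rw [search, List.all_eq_true] at h
    have hi := h i (List.mem_range.2 (hlt i List.mem_cons_self))
    have hci := hc i
    rw [List.count_append, List.count_cons_self] at hci
    rw [Bool.or_eq_true, decide_eq_true_eq] at hi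
    have hs := hi.resolve_left (by omega)
    obtain ⟨a, ha, hok⟩ := ih _ hs l'' (by simpa using hl) (fun j hj => hlt j (List.mem_cons_of_mem _ hj))
      (fun j => by rw [List.append_assoc]; exact hc j)
    exact ⟨a, ha, by rwa [List.append_assoc] at hok⟩

theorem okB_spec {l a : List Nat} (h : okB l a = true) {u v : Nat} (hu : u < 8) (hv : v < u) :
    (l.getD u 0 = l.getD v 0 → l.getD (a.getD u 0) 0 = l.getD (a.getD v 0) 0) ∧
      (l.getD u 0 / 2 = l.getD v 0 / 2 → l.getD (a.getD u 0) 0 / 2 = l.getD (a.getD v 0) 0 / 2) := by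
  rw [okB, List.all_eq_true] at h
  have h1 := h u (List.mem_range.2 hu)
  rw [List.all_eq_true] at h1
  have h2 := h1 v (List.mem_range.2 hv)
  simp only [Bool.and_eq_true, Bool.or_eq_true, Bool.not_eq_true', beq_eq_false_iff_ne, beq_iff_eq] at h2
  exact ⟨fun e => h2.1.resolve_left (fun ne => ne e), fun e => h2.2.resolve_left (fun ne => ne e)⟩

/-- the image of `u` under a listed permutation -/
def app (a : List Nat) (u : Fin 8) : Fin 8 := ⟨a.getD u.val 0 % 8, Nat.mod_lt _ (by omega)⟩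

/-- the tree relations are respected -/
def Pres (g : Equiv.Perm (Fin 8)) : Prop :=
  ∀ u v : Fin 8, ((g u).val / 2 = (g v).val / 2 ↔ u.val / 2 = v.val / 2) ∧
    ((g u).val / 4 = (g v).val / 4 ↔ u.val / 4 = v.val / 4)

theorem wits_facts : ∀ a ∈ wits, (∀ u : Fin 8, a.getD u.val 0 < 8 ∧ app a (app a u) = u) ∧
    (∃ u : Fin 8, app a u ≠ u) ∧
    ∀ u v : Fin 8, ((app a u).val / 2 = (app a v).val / 2 ↔ u.val / 2 = v.val / 2) ∧
      ((app a u).val / 4 = (app a v).val / 4 ↔ u.val / 4 = v.val / 4) := by decide +kernel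

/-- the group of the tree -/
def tree : Subgroup (Equiv.Perm (Fin 8)) where
  carrier := {g | Pres g}
  mul_mem' {a b} ha hb u v :=
    ⟨(ha (b u) (b v)).1.trans (hb u v).1, (ha (b u) (b v)).2.trans (hb u v).2⟩
  one_mem' u v := ⟨Iff.rfl, Iff.rfl⟩
  inv_mem' {a} ha u v := by
    have h := ha (a⁻¹ u) (a⁻¹ v)
    have e : ∀ w, a (a⁻¹ w) = w := a.apply_symm_apply
    rw [e, e] at h
    exact ⟨h.1.symm, h.2.symm⟩

theorem exists_common (x : Equiv.Perm (Fin 8)) : ∃ a ∈ tree, a ≠ 1 ∧ x⁻¹ * a * x ∈ tree := by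
  -- label a point by the pair of its preimage, normalised to send the first point to pair zero
  let c : Nat := (x⁻¹ 0).val / 2
  have hc : c < 4 := by have := (x⁻¹ 0).isLt; omega
  let lab : Fin 8 → Fin 4 := fun u => ⟨((x⁻¹ u).val / 2 ^^^ c) % 4, Nat.mod_lt _ (by omega)⟩
  have hlab2 : ∀ u v, (lab u = lab v ↔ (x⁻¹ u).val / 2 = (x⁻¹ v).val / 2) ∧
      ((lab u).val / 2 = (lab v).val / 2 ↔ (x⁻¹ u).val / 4 = (x⁻¹ v).val / 4) := by
    have key : ∀ c : Fin 4, ∀ a b : Fin 8,
        ((a.val / 2 ^^^ c.val) % 4 = (b.val / 2 ^^^ c.val) % 4 ↔ a.val / 2 = b.val / 2) ∧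
        ((a.val / 2 ^^^ c.val) % 4 / 2 = (b.val / 2 ^^^ c.val) % 4 / 2 ↔ a.val / 4 = b.val / 4) := by
      decide +kernel
    exact fun u v => ⟨Fin.ext_iff.trans (key ⟨c, hc⟩ _ _).1, (key ⟨c, hc⟩ _ _).2⟩
  let l : List Nat := List.ofFn fun u => (lab u).val
  have hget : ∀ u : Fin 8, l.getD u.val 0 = (lab u).val := fun u => by
    rw [List.getD_eq_getElem?_getD, List.getElem?_ofFn, dif_pos u.isLt]; rfl
  have h0 : l = 0 :: l.tail := by
    have : l ≠ [] := fun e => by simpa [l] using congrArg List.length e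
    obtain ⟨y, ys, hl⟩ := List.exists_cons_of_ne_nil this
    have h := hget 0
    rw [hl] at h ⊢
    have hz : (lab 0).val = 0 := by show (c ^^^ c) % 4 = 0; simp
    simp only [Fin.val_zero, List.getD_cons_zero, hz] at h
    rw [h]; rfl
  have hcount : ∀ i, l.count i ≤ 2 := by
    intro i
    by_cases hi : ∃ u, (lab u).val = i
    · obtain ⟨u, rfl⟩ := hi
      have h1 : l.count (lab u).val = (Finset.univ.filter fun v : Fin 8 => (lab v).val = (lab u).val).card := by
        simp only [l, List.ofFn_eq_map, List.count_eq_countP, List.countP_map]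
        rw [List.countP_eq_length_filter, ← List.toFinset_card_of_nodup ((List.nodup_finRange 8).filter _)]
        congr 1
        ext v; simp
      rw [h1]
      have key : ∀ b : Fin 8, (Finset.univ.filter fun a : Fin 8 => a.val / 2 = b.val / 2).card ≤ 2 := by
        decide +kernel
      refine le_trans (Finset.card_le_card_of_injOn (fun v => x⁻¹ v) ?_ (x⁻¹).injective.injOn) (key (x⁻¹ u))
      intro v hv
      simp only [Finset.coe_filter, Finset.mem_univ, true_and, Set.mem_setOf_eq] at hv ⊢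
      exact ((hlab2 v u).1).1 (Fin.ext hv)
    · rw [List.count_eq_zero.2]
      · exact Nat.zero_le _
      · intro hm
        obtain ⟨u, hu⟩ := List.mem_ofFn.1 hm
        exact hi ⟨u, hu⟩
  obtain ⟨a, haw, hok⟩ := search_sound 7 [0] search_root l.tail (by simp [l])
    (fun i hi => by
      obtain ⟨u, rfl⟩ := List.mem_ofFn.1 (List.mem_of_mem_tail hi)
      exact (lab u).isLt)
    (fun i => by rw [List.singleton_append, ← h0]; exact hcount i)
  rw [List.singleton_append, ← h0] at hok
  obtain ⟨hinv, ⟨u₀, hu₀⟩, hpres⟩ := wits_facts a haw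
  let g : Equiv.Perm (Fin 8) :=
    { toFun := app a, invFun := app a, left_inv := fun u => (hinv u).2, right_inv := fun u => (hinv u).2 }
  refine ⟨g, hpres, fun e => hu₀ (congrArg (fun k : Equiv.Perm (Fin 8) => k u₀) e), ?_⟩
  -- forward preservation suffices, `g` being an involution
  have hfwd : ∀ u v, (lab u = lab v → lab (g u) = lab (g v)) ∧
      ((lab u).val / 2 = (lab v).val / 2 → (lab (g u)).val / 2 = (lab (g v)).val / 2) := by
    have main : ∀ u v : Fin 8, v.val < u.val → (lab u = lab v → lab (g u) = lab (g v)) ∧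
        ((lab u).val / 2 = (lab v).val / 2 → (lab (g u)).val / 2 = (lab (g v)).val / 2) := by
      intro u v hvu
      have hg : ∀ w : Fin 8, (g w).val = a.getD w.val 0 := fun w => Nat.mod_eq_of_lt (hinv w).1
      have h := okB_spec hok u.isLt hvu
      rw [← hg u, ← hg v, hget, hget, hget, hget] at h
      exact ⟨fun e => Fin.ext (h.1 (congrArg Fin.val e)), h.2⟩
    intro u v
    rcases lt_trichotomy v.val u.val with h | h | h
    · exact main u v h
    · rw [Fin.ext h]; exact ⟨fun _ => rfl, fun _ => rfl⟩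
    · exact ⟨fun e => ((main v u h).1 e.symm).symm, fun e => ((main v u h).2 e.symm).symm⟩
  have hgg : ∀ u, g (g u) = u := fun u => (hinv u).2
  intro u v
  have h1 : ∀ w, (x⁻¹ * g * x) w = x⁻¹ (g (x w)) := fun w => rfl
  have h2 : ∀ w, x⁻¹ (x w) = w := fun w => x.symm_apply_apply w
  have k := hlab2 (x u) (x v)
  rw [h2, h2] at k
  rw [h1, h1, ← (hlab2 (g (x u)) (g (x v))).1, ← (hlab2 (g (x u)) (g (x v))).2]
  constructor
  · exact ⟨fun e => k.1.1 (by simpa [hgg] using (hfwd _ _).1 e), fun e => (hfwd _ _).1 (k.1.2 e)⟩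
  · exact ⟨fun e => k.2.1 (by simpa [hgg] using (hfwd _ _).2 e), fun e => (hfwd _ _).2 (k.2.2 e)⟩

theorem pow_eight {g : Equiv.Perm (Fin 8)} (hg : g ∈ tree) : g ^ 8 = 1 := by
  have e4 : ∀ u, ((g ^ 2) u).val / 4 = u.val / 4 := fun u => by
    have h := (hg (g u) u).2
    have a1 : (g u).val < 8 := (g u).isLt
    have a2 : (g (g u)).val < 8 := (g (g u)).isLt
    have a3 : u.val < 8 := u.isLt
    show (g (g u)).val / 4 = _
    by_cases he : (g u).val / 4 = u.val / 4
    · exact ((h.2 he).trans he)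
    · have : (g (g u)).val / 4 ≠ (g u).val / 4 := fun e => he (h.1 e)
      omega
  have e2 : ∀ u, ((g ^ 4) u).val / 2 = u.val / 2 := fun u => by
    have hg2 := pow_mem hg 2
    have h := (hg2 ((g ^ 2) u) u).1
    have h4 := e4 u
    have h4' := e4 ((g ^ 2) u)
    have a2 : ((g ^ 2) ((g ^ 2) u)).val < 8 := ((g ^ 2) ((g ^ 2) u)).isLt
    have a3 : u.val < 8 := u.isLt
    rw [show g ^ 4 = g ^ 2 * g ^ 2 from (pow_add g 2 2)]
    show ((g ^ 2) ((g ^ 2) u)).val / 2 = _
    by_cases he : ((g ^ 2) u).val / 2 = u.val / 2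
    · exact ((h.2 he).trans he)
    · have : ((g ^ 2) ((g ^ 2) u)).val / 2 ≠ ((g ^ 2) u).val / 2 := fun e => he (h.1 e)
      omega
  refine Equiv.ext fun u => ?_
  rw [show g ^ 8 = g ^ 4 * g ^ 4 from (pow_add g 4 4)]
  show (g ^ 4) ((g ^ 4) u) = u
  have h := e2 u
  have h' := e2 ((g ^ 4) u)
  by_cases he : (g ^ 4) u = u
  · rw [he, he]
  · have hne : (g ^ 4) ((g ^ 4) u) ≠ (g ^ 4) u := fun e => he ((g ^ 4).injective e)
    have hne' : ((g ^ 4) ((g ^ 4) u)).val ≠ ((g ^ 4) u).val := fun e => hne (Fin.ext e)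
    have he' : ((g ^ 4) u).val ≠ u.val := fun e => he (Fin.ext e)
    exact Fin.ext (by omega)

end CfsgLib.MaxSub.Eight
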