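import Mathlib

/-!
Overgroups of the semilinear group of a field extension `K/F` inside the `F`-linear group of a
`K`-space: basic calculus of the root groups `x ↦ x + f (φ x) • a`.
-/

set_option autoImplicit false
set_option linter.unusedSectionVars false

namespace CfsgLib.MaxSub

variable {F K V : Type*} [Field F] [Field K] [Algebra F K] [AddCommGroup V] [Module K V]
  [Module F V] [IsScalarTower F K V]

/-- `g` is semilinear over `K`. -/
def KSemi (K : Type*) {F V : Type*} [Field F] [Field K] [AddCommGroup V] [Module K V]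
    [Module F V] (g : V ≃ₗ[F] V) : Prop :=
  ∀ k : K, ∃ k' : K, ∀ x : V, g (k • x) = k' • g x

/-- `M` contains the semilinear maps of determinant one. -/
def ExtHyp (K : Type*) {F V : Type*} [Field F] [Field K] [AddCommGroup V] [Module K V]
    [Module F V] (M : Subgroup (V ≃ₗ[F] V)) : Prop :=
  ∀ g : V ≃ₗ[F] V, KSemi K g → LinearMap.det (g : V →ₗ[F] V) = 1 → g ∈ M

/-- `M` contains `x ↦ x + f (φ x) • a`. -/
def InExt (M : Subgroup (V ≃ₗ[F] V)) (φ : V →ₗ[K] K) (a : V) (f : K →ₗ[F] K) : Prop :=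
  ∃ g ∈ M, ∀ x, g x = x + f (φ x) • a

/-- `g` maps the line of `v` onto a line. -/
def LineTo (K : Type*) {F V : Type*} [Field F] [Field K] [AddCommGroup V] [Module K V]
    [Module F V] (g : V ≃ₗ[F] V) (v : V) : Prop :=
  ∀ k : K, ∃ k' : K, g (k • v) = k' • g v

theorem inv_apply_apply (g : V ≃ₗ[F] V) (x : V) : g⁻¹ (g x) = x := g.symm_apply_apply x

theorem apply_inv_apply (g : V ≃ₗ[F] V) (x : V) : g (g⁻¹ x) = x := g.apply_symm_apply x

theorem exists_dual_one {p : Submodule K V} {x : V} (hx : x ∉ p) :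
    ∃ φ : V →ₗ[K] K, φ x = 1 ∧ ∀ y ∈ p, φ y = 0 := by
  obtain ⟨φ, hφ, hp⟩ := Submodule.exists_le_ker_of_notMem hx
  exact ⟨(φ x)⁻¹ • φ, by simp [hφ], fun y hy => by simp [LinearMap.mem_ker.mp (hp hy)]⟩

variable {M : Subgroup (V ≃ₗ[F] V)}

theorem memK [Module.Finite K V] [Module.Finite F K] (hM : ExtHyp K M) (h : V ≃ₗ[K] V)
    (hdet : Algebra.norm F (LinearMap.det (h : V →ₗ[K] V)) = 1) : h.restrictScalars F ∈ M := by
  refine hM _ (fun k => ⟨k, fun x => h.map_smul k x⟩) ?_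
  rw [← hdet]
  exact LinearMap.det_restrictScalars

theorem transvection_mem [Module.Finite K V] [Module.Finite F K] (hM : ExtHyp K M)
    {φ : V →ₗ[K] K} {a : V} (h : φ a = 0) :
    ∃ g ∈ M, ∀ x, g x = x + φ x • a := by
  refine ⟨_, memK hM (LinearEquiv.transvection (f := φ) (v := a) h) ?_, fun x => rfl⟩
  rw [← LinearEquiv.coe_det, LinearEquiv.transvection.det_eq_one, Units.val_one, map_one]

theorem InExt.scalar [Module.Finite K V] [Module.Finite F K] (hM : ExtHyp K M)
    {φ : V →ₗ[K] K} {a : V} (h : φ a = 0) (k : K) : InExt M φ a (LinearMap.mulLeft F k) := by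
  obtain ⟨g, hg, hgx⟩ := transvection_mem hM (φ := k • φ) (a := a) (by simp [h])
  exact ⟨g, hg, fun x => by rw [hgx]; rfl⟩

theorem InExt.zero {φ : V →ₗ[K] K} {a : V} : InExt M φ a 0 :=
  ⟨1, one_mem M, fun x => by simp⟩

theorem InExt.add {φ : V →ₗ[K] K} {a : V} {f f' : K →ₗ[F] K} (h : InExt M φ a f)
    (h' : InExt M φ a f') (ha : φ a = 0) : InExt M φ a (f + f') := by
  obtain ⟨g, hg, hgx⟩ := h
  obtain ⟨g', hg', hgx'⟩ := h'
  refine ⟨g * g', mul_mem hg hg', fun x => ?_⟩
  rw [LinearEquiv.mul_apply, hgx, hgx', map_add, map_smul, ha, smul_zero, add_zero,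
    LinearMap.add_apply, add_smul]
  abel

theorem InExt.neg {φ : V →ₗ[K] K} {a : V} {f : K →ₗ[F] K} (h : InExt M φ a f) (ha : φ a = 0) :
    InExt M φ a (-f) := by
  obtain ⟨g, hg, hgx⟩ := h
  refine ⟨g⁻¹, inv_mem hg, fun x => g.injective ?_⟩
  rw [apply_inv_apply, hgx, map_add, map_smul, ha, smul_zero, add_zero, LinearMap.neg_apply,
    neg_smul]
  abel

theorem InExt.sub {φ : V →ₗ[K] K} {a : V} {f f' : K →ₗ[F] K} (h : InExt M φ a f)
    (h' : InExt M φ a f') (ha : φ a = 0) : InExt M φ a (f - f') := by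
  simpa [sub_eq_add_neg] using h.add (h'.neg ha) ha

theorem inExt_smul_left {φ : V →ₗ[K] K} {a : V} {f : K →ₗ[F] K} (μ : K) :
    InExt M φ (μ • a) f ↔ InExt M φ a (LinearMap.mulLeft F μ ∘ₗ f) := by
  simp [InExt, smul_smul, mul_comm]

theorem inExt_smul_right {φ : V →ₗ[K] K} {a : V} {f : K →ₗ[F] K} (μ : K) :
    InExt M (μ • φ) a f ↔ InExt M φ a (f ∘ₗ LinearMap.mulLeft F μ) := by
  simp [InExt]

theorem InExt.conj {φ : V →ₗ[K] K} {a : V} {f : K →ₗ[F] K} (hf : InExt M φ a f)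
    {h : V ≃ₗ[K] V} (hh : h.restrictScalars F ∈ M) :
    InExt M (φ ∘ₗ (h.symm : V →ₗ[K] V)) (h a) f := by
  obtain ⟨g, hg, hgx⟩ := hf
  refine ⟨h.restrictScalars F * g * (h.restrictScalars F)⁻¹,
    mul_mem (mul_mem hh hg) (inv_mem hh), fun x => ?_⟩
  show h (g (h.symm x)) = _
  rw [hgx, map_add, map_smul, h.apply_symm_apply]
  rfl

/-- commutator of two root elements -/
theorem InExt.comm {φ χ : V →ₗ[K] K} {a b : V} {f g : K →ₗ[F] K} (hf : InExt M φ a f)
    (hg : InExt M χ b g) (hφa : φ a = 0) (hφb : φ b = 1) (hχa : χ a = 0) (hχb : χ b = 0) :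
    InExt M χ a (f ∘ₗ g) := by
  obtain ⟨u, hu, hux⟩ := hf
  obtain ⟨v, hv, hvx⟩ := hg
  have hu' : ∀ x, u⁻¹ x = x - f (φ x) • a := fun x => u.injective (by
    rw [apply_inv_apply, hux, map_sub, map_smul, hφa, smul_zero, sub_zero]; abel)
  have hv' : ∀ x, v⁻¹ x = x - g (χ x) • b := fun x => v.injective (by
    rw [apply_inv_apply, hvx, map_sub, map_smul, hχb, smul_zero, sub_zero]; abel)
  refine ⟨u * v * u⁻¹ * v⁻¹, mul_mem (mul_mem (mul_mem hu hv) (inv_mem hu)) (inv_mem hv),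
    fun x => ?_⟩
  show u (v (u⁻¹ (v⁻¹ x))) = _
  rw [hv', hu', hvx, hux]
  simp only [map_sub, map_add, map_smul, hφa, hφb, hχa, hχb, smul_eq_mul, mul_zero, mul_one,
    sub_zero, add_zero, sub_add_cancel, LinearMap.comp_apply, sub_smul]
  abel

/-- transitivity of `M ∩ SL_K(V)` on non-zero vectors -/
theorem exists_move [Module.Finite K V] [Module.Finite F K] (hM : ExtHyp K M)
    (hd : 1 < Module.finrank K V) {a a' : V} (ha : a ≠ 0) (ha' : a' ≠ 0) :
    ∃ h : V ≃ₗ[K] V, h.restrictScalars F ∈ M ∧ h a = a' := by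
  have key : ∀ b b' : V, b ≠ 0 → b' ∉ Submodule.span K {b} →
      ∃ h : V ≃ₗ[K] V, h.restrictScalars F ∈ M ∧ h b = b' := by
    intro b b' hb hb'
    have hnot : b ∉ Submodule.span K {b' - b} := by
      intro h
      obtain ⟨c, hc⟩ := Submodule.mem_span_singleton.mp h
      rcases eq_or_ne c 0 with rfl | hc0
      · exact hb (by rw [← hc, zero_smul])
      · refine hb' (Submodule.mem_span_singleton.mpr ⟨c⁻¹ * (1 + c), ?_⟩)
        rw [mul_smul, add_smul, one_smul]
        nth_rewrite 1 [← hc]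
        rw [← smul_add, sub_add_cancel, inv_smul_smul₀ hc0]
    obtain ⟨φ, hφ1, hφ0⟩ := exists_dual_one hnot
    have h0 : φ (b' - b) = 0 := hφ0 _ (Submodule.mem_span_singleton_self _)
    obtain ⟨g, hg, hgx⟩ := transvection_mem hM (φ := φ) h0
    refine ⟨LinearEquiv.transvection (f := φ) (v := b' - b) h0, ?_, ?_⟩
    · convert hg using 1
      exact LinearEquiv.ext fun x => (hgx x).symm
    · show b + φ b • (b' - b) = b'
      rw [hφ1, one_smul, add_sub_cancel]
  by_cases h : a' ∈ Submodule.span K {a}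
  · have : Submodule.span K {a} ≠ ⊤ := fun e => by
      have := congrArg (fun p : Submodule K V => Module.finrank K p) e
      simp only [finrank_span_singleton ha, finrank_top] at this
      omega
    obtain ⟨b, hb⟩ : ∃ b, b ∉ Submodule.span K {a} := by
      by_contra hall
      simp only [not_exists, not_not] at hall
      exact this (eq_top_iff.mpr fun x _ => hall x)
    have hb0 : b ≠ 0 := fun e => hb (e ▸ zero_mem _)
    obtain ⟨h1, hh1, h1a⟩ := key a b ha hb
    obtain ⟨h2, hh2, h2b⟩ := key b a' hb0 (by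
      intro h'
      obtain ⟨c, hc⟩ := Submodule.mem_span_singleton.mp h'
      have hc0 : c ≠ 0 := fun e => ha' (by rw [← hc, e, zero_smul])
      refine hb ?_
      rw [show b = c⁻¹ • a' by rw [← hc, inv_smul_smul₀ hc0]]
      exact Submodule.smul_mem _ _ h)
    refine ⟨h1.trans h2, ?_, by simp [h1a, h2b]⟩
    exact mul_mem hh2 hh1
  · exact key a a' ha h

/-- a subspace of `K` stable under some element outside `F` is trivial -/
theorem eq_top_of_stable [FiniteDimensional F K] (hp : (Module.finrank F K).Prime)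
    {W : Submodule F K} (hW : W ≠ ⊥) {x : K} (hx : x ∉ Set.range (algebraMap F K))
    (hstab : ∀ w ∈ W, x * w ∈ W) : W = ⊤ := by
  let P : Subalgebra F K :=
    { carrier := {y | ∀ w ∈ W, y * w ∈ W}
      mul_mem' := fun {y z} hy hz w hw => by rw [mul_assoc]; exact hy _ (hz w hw)
      add_mem' := fun {y z} hy hz w hw => by rw [add_mul]; exact add_mem (hy w hw) (hz w hw)
      algebraMap_mem' := fun c w hw => by rw [← Algebra.smul_def]; exact W.smul_mem c hw }
  have := Subalgebra.isSimpleOrder_of_finrank_prime F K hp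
  rcases IsSimpleOrder.eq_bot_or_eq_top P with e | e
  · exact absurd (Algebra.mem_bot.mp (e ▸ (show x ∈ P from hstab))) hx
  · rw [eq_top_iff]
    intro y _
    obtain ⟨w, hw, hw0⟩ := W.exists_mem_ne_zero_of_ne_bot hW
    have := (e.symm ▸ Algebra.mem_top : y * w⁻¹ ∈ P) w hw
    rwa [mul_assoc, inv_mul_cancel₀ hw0, mul_one] at this

/-- a set of maps closed under sums and under multiplications by `K` on both sides, containing a
map of rank one, contains everything -/
theorem forall_of_rankOne [FiniteDimensional F K] (P : (K →ₗ[F] K) → Prop) (h0 : P 0)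
    (hadd : ∀ f g, P f → P g → P (f + g))
    (hl : ∀ (μ : K) f, P f → P (LinearMap.mulLeft F μ ∘ₗ f))
    (hr : ∀ (μ : K) f, P f → P (f ∘ₗ LinearMap.mulLeft F μ))
    (τ : K →ₗ[F] F) (hτ : τ ≠ 0) (c : K) (hc : c ≠ 0) (hR : P (τ.smulRight c)) :
    ∀ f, P f := by
  have htop : ∀ θ : K →ₗ[F] F, ∃ μ : K, θ = τ ∘ₗ LinearMap.mulLeft F μ := by
    let e : K →ₗ[F] (K →ₗ[F] F) :=
      { toFun := fun μ => τ ∘ₗ LinearMap.mulLeft F μ
        map_add' := fun μ ν => by ext x; simp [add_mul]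
        map_smul' := fun s μ => by ext x; simp }
    have hinj : Function.Injective e := by
      rw [← LinearMap.ker_eq_bot, LinearMap.ker_eq_bot']
      intro μ hμ
      by_contra h
      refine hτ (LinearMap.ext fun x => ?_)
      have := LinearMap.congr_fun hμ (μ⁻¹ * x)
      simpa [e, mul_inv_cancel_left₀ h] using this
    have hsurj : Function.Surjective e :=
      (LinearMap.injective_iff_surjective_of_finrank_eq_finrank
        (Subspace.dual_finrank_eq (K := F) (V := K)).symm).mp hinj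
    intro θ
    obtain ⟨μ, hμ⟩ := hsurj θ
    exact ⟨μ, hμ.symm⟩
  have hone : ∀ (θ : K →ₗ[F] F) (d : K), P (θ.smulRight d) := by
    intro θ d
    obtain ⟨μ, rfl⟩ := htop θ
    have := hl (d * c⁻¹) _ (hr μ _ hR)
    convert this using 1
    ext x
    simp [mul_assoc, mul_comm c⁻¹, hc]
  intro f
  let b := Module.finBasis F K
  have : f = ∑ i, (b.coord i).smulRight (f (b i)) := by
    refine b.ext fun j => ?_
    simp [Finsupp.single_apply]
  rw [this]
  exact Finset.sum_induction _ P hadd h0 fun i _ => hone _ _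

/-- a ring of maps containing `K` properly contains a map of rank one -/
theorem exists_rankOne [FiniteDimensional F K] (hp : (Module.finrank F K).Prime) [Finite K]
    (P : (K →ₗ[F] K) → Prop) (hsub : ∀ f g, P f → P g → P (f - g))
    (hcomp : ∀ f g, P f → P g → P (f ∘ₗ g)) (hK : ∀ μ : K, P (LinearMap.mulLeft F μ))
    {f₀ : K →ₗ[F] K} (hf₀ : P f₀) (hne : ∀ μ : K, f₀ ≠ LinearMap.mulLeft F μ) :
    ∃ (τ : K →ₗ[F] F) (c : K), τ ≠ 0 ∧ c ≠ 0 ∧ P (τ.smulRight c) := by
  classical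
  have hex : ∃ m, ∃ f, P f ∧ f ≠ 0 ∧ ¬ Function.Injective f ∧
      Nat.card (LinearMap.range f) = m := by
    refine ⟨_, f₀ - LinearMap.mulLeft F (f₀ 1), hsub _ _ hf₀ (hK _),
      fun e => hne _ (sub_eq_zero.mp e), fun hinj => ?_, rfl⟩
    have : (1 : K) = 0 := hinj (by simp)
    exact one_ne_zero this
  obtain ⟨f, hf, hf0, hfinj, hm⟩ := Nat.find_spec hex
  set W := LinearMap.range f with hW
  obtain ⟨w₁, hw₁, hw₁0⟩ : ∃ w ∈ W, w ≠ (0 : K) :=
    W.exists_mem_ne_zero_of_ne_bot (fun e => hf0 (LinearMap.range_eq_bot.mp e))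
  have hkey : ∀ z ∈ LinearMap.ker f, ∀ w ∈ W, z / w₁ * w ∈ LinearMap.ker f := by
    intro z hz w hw
    by_contra hne'
    set g := f ∘ₗ LinearMap.mulLeft F (z / w₁) ∘ₗ f with hg
    obtain ⟨x, rfl⟩ := hw
    have hg0 : g ≠ 0 := fun e => hne' (by simpa [g] using LinearMap.congr_fun e x)
    have hgP : P g := hcomp _ _ hf (hcomp _ _ (hK _) hf)
    have hginj : ¬ Function.Injective g := fun h => hfinj (fun a b hab => h (by simp [g, hab]))
    have hle : LinearMap.range g ≤ W := LinearMap.range_comp_le_range _ _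
    have h1 := Nat.find_min' hex ⟨g, hgP, hg0, hginj, rfl⟩
    rw [← hm] at h1
    have heq : LinearMap.range g = W := by
      apply SetLike.coe_injective
      refine Set.eq_of_subset_of_ncard_le hle ?_
      rw [← Nat.card_coe_set_eq, ← Nat.card_coe_set_eq]
      exact h1
    -- the restriction of `f ∘ (z/w₁)` to `W` is surjective, hence injective
    let q : W → W := fun w => ⟨f (z / w₁ * w), ⟨_, rfl⟩⟩
    have hq : Function.Surjective q := by
      rintro ⟨y, hy⟩
      obtain ⟨u, rfl⟩ := heq.ge hy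
      exact ⟨⟨f u, ⟨u, rfl⟩⟩, Subtype.ext rfl⟩
    have := Finite.injective_iff_surjective.mpr hq (a₁ := ⟨w₁, hw₁⟩) (a₂ := 0) (Subtype.ext (by
      show f (z / w₁ * w₁) = f (z / w₁ * 0)
      rw [div_mul_cancel₀ z hw₁0, mul_zero, map_zero]
      exact hz))
    exact hw₁0 (congrArg Subtype.val this)
  have hline : ∀ w ∈ W, ∃ t : F, w = t • w₁ := by
    intro w hw
    by_contra hnot
    have hker : LinearMap.ker f ≠ ⊥ := fun e => hfinj (LinearMap.ker_eq_bot.mp e)
    have htop : LinearMap.ker f ≠ ⊤ := fun e => hf0 (LinearMap.ker_eq_top.mp e)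
    refine htop (eq_top_of_stable hp hker (x := w / w₁) ?_ fun y hy => ?_)
    · rintro ⟨t, ht⟩
      exact hnot ⟨t, by rw [Algebra.smul_def, ht, div_mul_cancel₀ _ hw₁0]⟩
    · have := hkey y hy w hw
      convert this using 1
      ring
  obtain ⟨ρ, hρ⟩ : ∃ ρ : K →ₗ[F] F, ρ w₁ = 1 := by
    obtain ⟨ρ, h1, -⟩ := exists_dual_one (K := F) (V := K) (p := ⊥) (by simpa using hw₁0)
    exact ⟨ρ, h1⟩
  have heq : f = (ρ ∘ₗ f).smulRight w₁ := by
    ext x
    obtain ⟨t, ht⟩ := hline (f x) ⟨x, rfl⟩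
    simp [ht, hρ]
  refine ⟨ρ ∘ₗ f, w₁, fun e => hf0 ?_, hw₁0, heq ▸ hf⟩
  rw [heq, e]
  ext; simp

end CfsgLib.MaxSub
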