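import Cfsg.Agent.Lib.MaxSub.ExtBase

/-!
Overgroups of the semilinear group of a field extension: the case of dimension at least three.
-/

set_option autoImplicit false
set_option linter.unusedSectionVars false

namespace CfsgLib.MaxSub

variable {F K V : Type*} [Field F] [Field K] [Algebra F K] [AddCommGroup V] [Module K V]
  [Module F V] [IsScalarTower F K V] {M : Subgroup (V ≃ₗ[F] V)}

theorem exists_notMem_of_ne_top {p : Submodule K V} (h : p ≠ ⊤) : ∃ x, x ∉ p := by
  by_contra hall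
  simp only [not_exists, not_not] at hall
  exact h (eq_top_iff.mpr fun x _ => hall x)

theorem exists_apply_ne_zero {φ : V →ₗ[K] K} (h : φ ≠ 0) : ∃ x, φ x ≠ 0 := by
  by_contra hall
  simp only [not_exists, not_not] at hall
  exact h (LinearMap.ext hall)

theorem exists_notMem_kspan_pair [Module.Finite K V] (hd : 3 ≤ Module.finrank K V) (a b : V) :
    ∃ x, x ∉ Submodule.span K {a, b} := by
  classical
  refine exists_notMem_of_ne_top fun e => ?_
  have h1 : Module.finrank K (Submodule.span K ({a, b} : Set V)) ≤ ({a, b} : Finset V).card := by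
    have h := finrank_span_finset_le_card (R := K) ({a, b} : Finset V)
    rw [Set.finrank, Finset.coe_pair] at h
    exact h
  have h2 := (Finset.card_le_two (a := a) (b := b))
  rw [e, finrank_top] at h1
  omega

/-- a map sending lines to lines is semilinear -/
theorem kSemi_of_lineTo [Finite K] [Module.Finite K V] (hd : 1 < Module.finrank K V)
    {g : V ≃ₗ[F] V} (h : ∀ v, LineTo K g v) : KSemi K g := by
  intro k
  have hindep : ∀ x y : V, x ≠ 0 → y ∉ Submodule.span K {x} →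
      g y ∉ Submodule.span K {g x} := by
    intro x y hx hy hc
    obtain ⟨c, hc⟩ := Submodule.mem_span_singleton.mp hc
    choose σ hσ using h x
    have hinj : Function.Injective σ := by
      intro a b hab
      have : g (a • x) = g (b • x) := by rw [hσ, hσ, hab]
      exact smul_left_injective K hx (g.injective this)
    obtain ⟨a, ha⟩ := Finite.surjective_of_injective hinj c
    refine hy (Submodule.mem_span_singleton.mpr ⟨a, g.injective ?_⟩)
    rw [hσ, ha, hc]
  choose σ hσ using fun v => h v k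
  have hpair : ∀ x y : V, x ≠ 0 → y ∉ Submodule.span K {x} → σ x = σ y := by
    intro x y hx hy
    have h0 := hσ (x + y)
    rw [smul_add, map_add, map_add, hσ x, hσ y, smul_add] at h0
    have hgi := hindep x y hx hy
    have e1 : (σ x - σ (x + y)) • g x = (σ (x + y) - σ y) • g y := by
      rw [sub_smul, sub_smul, sub_eq_sub_iff_add_eq_add, h0, add_comm]
    rcases eq_or_ne (σ (x + y) - σ y) 0 with e | e
    · rw [e, zero_smul, smul_eq_zero] at e1
      rcases e1 with e1 | e1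
      · rw [sub_eq_zero] at e e1; rw [e1, e]
      · exact absurd (g.map_eq_zero_iff.mp e1) hx
    · refine absurd (Submodule.mem_span_singleton.mpr
        ⟨(σ (x + y) - σ y)⁻¹ * (σ x - σ (x + y)), ?_⟩) hgi
      rw [mul_smul, e1, inv_smul_smul₀ e]
  have : Nontrivial V := Module.nontrivial_of_finrank_pos (by omega : 0 < Module.finrank K V)
  obtain ⟨x₀, hx₀⟩ := exists_ne (0 : V)
  obtain ⟨y₀, hy₀⟩ := exists_notMem_of_ne_top (p := Submodule.span K {x₀}) fun e => by
    have := congrArg (fun p : Submodule K V => Module.finrank K p) e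
    simp only [finrank_span_singleton hx₀, finrank_top] at this
    omega
  refine ⟨σ x₀, fun x => ?_⟩
  rcases eq_or_ne x 0 with rfl | hx
  · simp
  rw [hσ x]
  congr 1
  by_cases hxx : x ∈ Submodule.span K {x₀}
  · obtain ⟨c, rfl⟩ := Submodule.mem_span_singleton.mp hxx
    have hc0 : c ≠ 0 := fun e => hx (by rw [e, zero_smul])
    have hyx : y₀ ∉ Submodule.span K {c • x₀} := by
      rw [Submodule.span_singleton_smul_eq hc0.isUnit]; exact hy₀
    rw [hpair (c • x₀) y₀ hx hyx, hpair x₀ y₀ hx₀ hy₀]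
  · exact (hpair x₀ x hx₀ hxx).symm

/-- some element maps a line out of the lines, but into a hyperplane -/
theorem exists_hyperplane [Finite K] [Module.Finite K V] [Module.Finite F K]
    (hM : ExtHyp K M) (hd : 3 ≤ Module.finrank K V) (hg : ∃ g ∈ M, ¬ KSemi K g) :
    ∃ g ∈ M, ∃ v : V, ∃ φ : V →ₗ[K] K,
      ¬ LineTo K g v ∧ φ ≠ 0 ∧ ∀ k : K, φ (g (k • v)) = 0 := by
  classical
  obtain ⟨g₀, hg₀, hns⟩ := hg
  have hv : ∃ v, ¬ LineTo K g₀ v := by
    by_contra hall
    simp only [not_exists, not_not] at hall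
    exact hns (kSemi_of_lineTo (by omega) hall)
  obtain ⟨v, hv⟩ := hv
  by_contra hcon
  simp only [not_exists, not_and] at hcon
  -- maximise the intersection with the line
  let I : (V ≃ₗ[F] V) → Set K := fun g => {k | g (k • v) ∈ Submodule.span K {v}}
  obtain ⟨g, ⟨hgM, hgv⟩, hmax⟩ := Set.exists_max_image {g : V ≃ₗ[F] V | g ∈ M ∧ ¬ LineTo K g v}
    (fun g => (I g).ncard) (by
      have : Finite V := Module.finite_of_finite K
      have : Finite (V ≃ₗ[F] V) := Finite.of_injective (fun g => (g : V → V)) DFunLike.coe_injective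
      exact Set.toFinite _) ⟨g₀, hg₀, hv⟩
  obtain ⟨k₀, hk₀⟩ : ∃ k₀ : K, g (k₀ • v) ∉ Submodule.span K {v} := by
    by_contra hall
    simp only [not_exists, not_not] at hall
    apply hgv
    intro k
    obtain ⟨c, hc⟩ := Submodule.mem_span_singleton.mp (hall k)
    obtain ⟨c1, hc1⟩ := Submodule.mem_span_singleton.mp (hall 1)
    rw [one_smul] at hc1
    rcases eq_or_ne c1 0 with e | e
    · rw [e, zero_smul] at hc1
      have := g.map_eq_zero_iff.mp hc1.symm
      subst this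
      exact ⟨0, by simp⟩
    · exact ⟨c * c1⁻¹, by rw [← hc, mul_smul, ← hc1, inv_smul_smul₀ e]⟩
  obtain ⟨x, hx⟩ := exists_notMem_kspan_pair hd v (g (k₀ • v))
  obtain ⟨φ, hφx, hφ⟩ := exists_dual_one hx
  have hφ0 : φ ≠ 0 := fun e => by simp [e] at hφx
  have hφv : φ v = 0 := hφ _ (Submodule.subset_span (Set.mem_insert _ _))
  have hφk : φ (g (k₀ • v)) = 0 :=
    hφ _ (Submodule.subset_span (Set.mem_insert_of_mem _ rfl))
  obtain ⟨k₁, hk₁⟩ : ∃ k₁, φ (g (k₁ • v)) ≠ 0 := by
    by_contra hall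
    simp only [not_exists, not_not] at hall
    exact hcon g hgM v φ hgv hφ0 hall
  -- every transvection with functional `φ` stabilises the image of the line
  have key : ∀ h : V, φ h = 0 → ∃ k' : K, g (k' • v) = g (k₁ • v) + φ (g (k₁ • v)) • h := by
    intro h hh
    obtain ⟨t, ht, htx⟩ := transvection_mem hM (φ := φ) (a := h) hh
    set g₂ := g⁻¹ * t * g with hg₂
    have hg₂M : g₂ ∈ M := mul_mem (mul_mem (inv_mem hgM) ht) hgM
    have hfix : ∀ k : K, φ (g (k • v)) = 0 → g₂ (k • v) = k • v := fun k hk => by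
      show g⁻¹ (t (g (k • v))) = k • v
      rw [htx, hk, zero_smul, add_zero, inv_apply_apply]
    by_cases hline : LineTo K g₂ v
    · have hk0 : k₀ ≠ 0 := fun e => hk₀ (by simp [e])
      obtain ⟨c₀, hc₀⟩ := hline k₀
      rw [hfix k₀ hφk] at hc₀
      obtain ⟨c₁, hc₁⟩ := hline k₁
      have hgv' : g₂ v = (k₀ * c₀⁻¹) • v := by
        have hc00 : c₀ ≠ 0 := by
          rintro rfl
          rw [zero_smul, smul_eq_zero] at hc₀
          rcases hc₀ with e | e
          · exact hk0 e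
          · exact hk₀ (by simp [e])
        rw [mul_comm, mul_smul, hc₀, inv_smul_smul₀ hc00]
      refine ⟨c₁ * (k₀ * c₀⁻¹), ?_⟩
      rw [mul_smul, ← hgv', ← hc₁, ← htx]
      exact apply_inv_apply g _
    · exfalso
      have hsub : insert k₀ (I g) ⊆ I g₂ := by
        intro k hk
        rcases hk with rfl | hk
        · show g₂ (k • v) ∈ Submodule.span K {v}
          rw [hfix k hφk]; exact Submodule.smul_mem _ _ (Submodule.mem_span_singleton_self v)
        · show g₂ (k • v) ∈ Submodule.span K {v}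
          obtain ⟨c, hc⟩ := Submodule.mem_span_singleton.mp
            (show g (k • v) ∈ Submodule.span K {v} from hk)
          rw [hfix k (by rw [← hc, map_smul, hφv, smul_zero])]
          exact Submodule.smul_mem _ _ (Submodule.mem_span_singleton_self v)
      have h1 := Set.ncard_le_ncard hsub
      rw [Set.ncard_insert_of_notMem (show k₀ ∉ I g from hk₀)] at h1
      have h2 := hmax g₂ ⟨hg₂M, hline⟩
      omega
  -- but the kernel of `φ` is too big
  have : Finite V := Module.finite_of_finite K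
  let ψ : LinearMap.ker φ → K := fun h => (key h h.2).choose
  have hψ : Function.Injective ψ := by
    intro h h' e
    have e1 := (key h h.2).choose_spec
    have e2 := (key h' h'.2).choose_spec
    change (key h h.2).choose = (key h' h'.2).choose at e
    rw [e, e2] at e1
    exact Subtype.ext (smul_right_injective V hk₁ (add_left_cancel e1)).symm
  have h1 := Nat.card_le_card_of_injective ψ hψ
  rw [Module.natCard_eq_pow_finrank (K := K) (V := LinearMap.ker φ)] at h1
  have h2 := LinearMap.finrank_range_add_finrank_ker φ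
  have h3 : Module.finrank K (LinearMap.range φ) ≤ 1 := by
    simpa using Submodule.finrank_le (LinearMap.range φ)
  have h4 : Nat.card K ^ 1 < Nat.card K ^ Module.finrank K (LinearMap.ker φ) :=
    Nat.pow_lt_pow_right Finite.one_lt_card (by omega)
  rw [pow_one] at h4
  omega

/-- a root element outside the `K`-linear ones -/
theorem exists_nonscalar [Finite K] [Module.Finite K V] [Module.Finite F K]
    (hM : ExtHyp K M) (hd : 3 ≤ Module.finrank K V) (hg : ∃ g ∈ M, ¬ KSemi K g) :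
    ∃ (φ : V →ₗ[K] K) (a : V) (f : K →ₗ[F] K), φ ≠ 0 ∧ a ≠ 0 ∧ φ a = 0 ∧ InExt M φ a f ∧
      ∀ μ : K, f ≠ LinearMap.mulLeft F μ := by
  classical
  have : Finite V := Module.finite_of_finite K
  obtain ⟨g, hgM, v, φ₀, hline, hφ₀, hkill⟩ := exists_hyperplane hM hd hg
  have hv0 : v ≠ 0 := by rintro rfl; exact hline fun k => ⟨0, by simp⟩
  set w := g v with hw
  have hw0 : w ≠ 0 := fun e => hv0 (g.map_eq_zero_iff.mp e)
  have hφw : φ₀ w = 0 := by simpa using hkill 1
  by_contra hcon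
  simp only [not_exists, not_and] at hcon
  let D : V →ₗ[F] V := (g⁻¹ : V ≃ₗ[F] V).toLinearMap ∘ₗ
    ((φ₀.smulRight w).restrictScalars F) ∘ₗ g.toLinearMap
  have hD : ∀ x, D x = g⁻¹ (φ₀ (g x) • w) := fun x => rfl
  have hDv : ∀ s : K, D (s • v) = 0 := fun s => by rw [hD, hkill, zero_smul, map_zero]
  have hDD : ∀ x, D (D x) = 0 := fun x => by
    rw [hD (D x), hD x, apply_inv_apply, show φ₀ (φ₀ (g x) • w) = 0 by simp [hφw], zero_smul,
      map_zero]
  obtain ⟨t, ht, htx⟩ := transvection_mem hM (φ := φ₀) (a := w) hφw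
  set g₂ := g⁻¹ * t * g with hg₂
  have hg₂M : g₂ ∈ M := mul_mem (mul_mem (inv_mem hgM) ht) hgM
  have hg₂x : ∀ x, g₂ x = x + D x := fun x => by
    show g⁻¹ (t (g x)) = _
    rw [htx, map_add, inv_apply_apply, hD]
  have hg₂i : ∀ x, g₂⁻¹ x = x - D x := fun x => g₂.injective (by
    rw [apply_inv_apply, hg₂x, map_sub, hDD, sub_zero, sub_add_cancel])
  have hlin : ∀ (ψ : V →ₗ[K] K), ψ v = 0 → ∀ (b : V) (s : K),
      ψ (D (s • b)) = s * ψ (D b) := by
    intro ψ hψ b s
    obtain ⟨u, hu, hux⟩ := transvection_mem hM (φ := ψ) (a := v) hψ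
    have hui : ∀ x, u⁻¹ x = x - ψ x • v := fun x => u.injective (by
      rw [apply_inv_apply, hux, map_sub, map_smul, hψ, smul_zero, sub_zero, sub_add_cancel])
    set c := u * g₂ * u⁻¹ * g₂⁻¹ with hc
    have hcM : c ∈ M := mul_mem (mul_mem (mul_mem hu hg₂M) (inv_mem hu)) (inv_mem hg₂M)
    have hcx : ∀ x, c x = x + ψ (D x) • v := fun x => by
      show u (g₂ (u⁻¹ (g₂⁻¹ x))) = _
      rw [hg₂i, hui, hg₂x, hux]
      simp only [map_sub, map_add, map_smul, hψ, hDD, hDv, smul_eq_mul, mul_zero, sub_zero,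
        sub_smul, add_smul, zero_smul]
      abel
    have hci : ∀ x, c⁻¹ x = x - ψ (D x) • v := fun x => c.injective (by
      rw [apply_inv_apply, hcx, map_sub, hDv, sub_zero, sub_add_cancel])
    obtain ⟨x₀, hx₀⟩ := exists_notMem_kspan_pair hd v b
    obtain ⟨φ₂, hφ₂x, hφ₂⟩ := exists_dual_one hx₀
    have hφ₂v : φ₂ v = 0 := hφ₂ _ (Submodule.subset_span (Set.mem_insert _ _))
    have hφ₂b : φ₂ b = 0 := hφ₂ _ (Submodule.subset_span (Set.mem_insert_of_mem _ rfl))
    obtain ⟨t₂, ht₂, ht₂x⟩ := transvection_mem hM (φ := φ₂) (a := b) hφ₂b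
    have ht₂i : ∀ x, t₂⁻¹ x = x - φ₂ x • b := fun x => t₂.injective (by
      rw [apply_inv_apply, ht₂x, map_sub, map_smul, hφ₂b, smul_zero, sub_zero, sub_add_cancel])
    let f : K →ₗ[F] K := (ψ.restrictScalars F) ∘ₗ D ∘ₗ ((LinearMap.toSpanSingleton K V b).restrictScalars F)
    have hf : InExt M φ₂ v f := by
      refine ⟨c * t₂ * c⁻¹ * t₂⁻¹,
        mul_mem (mul_mem (mul_mem hcM ht₂) (inv_mem hcM)) (inv_mem ht₂), fun x => ?_⟩
      show c (t₂ (c⁻¹ (t₂⁻¹ x))) = x + ψ (D (φ₂ x • b)) • v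
      rw [ht₂i, hci, ht₂x, hcx]
      simp only [map_sub, map_add, map_smul, hφ₂b, hφ₂v, hDv, smul_eq_mul, mul_zero, sub_zero,
        add_zero, sub_smul]
      abel
    have := hcon φ₂ v f (fun e => by simp [e] at hφ₂x) hv0 hφ₂v hf
    obtain ⟨μ, hμ⟩ : ∃ μ, f = LinearMap.mulLeft F μ := by
      by_contra hne
      exact this fun μ e => hne ⟨μ, e⟩
    have h1 := LinearMap.congr_fun hμ 1
    have h2 := LinearMap.congr_fun hμ s
    simp only [f, LinearMap.comp_apply, LinearMap.restrictScalars_apply,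
      LinearMap.toSpanSingleton_apply, LinearMap.mulLeft_apply, one_smul, mul_one] at h1 h2
    rw [h2, h1, mul_comm]
  have hmod : ∀ (b : V) (s : K), D (s • b) - s • D b ∈ Submodule.span K {v} := by
    intro b s
    by_contra hn
    obtain ⟨ψ, hψ1, hψ0⟩ := exists_dual_one hn
    have := hlin ψ (hψ0 _ (Submodule.mem_span_singleton_self v)) b s
    rw [map_sub ψ, LinearMap.map_smul ψ, this, smul_eq_mul, sub_self] at hψ1
    exact zero_ne_one hψ1
  obtain ⟨k', hk'⟩ : ∃ k' : K, g⁻¹ (k' • w) ∉ Submodule.span K {v} := by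
    by_contra hall
    simp only [not_exists, not_not] at hall
    apply hline
    choose σ hσ using fun k => Submodule.mem_span_singleton.mp (hall k)
    have hinj : Function.Injective σ := fun a b hab => by
      have : g⁻¹ (a • w) = g⁻¹ (b • w) := by rw [← hσ, ← hσ, hab]
      exact smul_left_injective K hw0 ((g⁻¹).injective this)
    intro k
    obtain ⟨j, rfl⟩ := Finite.surjective_of_injective hinj k
    exact ⟨j, by rw [hσ, apply_inv_apply]⟩
  obtain ⟨z, hz⟩ := exists_apply_ne_zero hφ₀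
  have hrange : ∀ s : K, ∃ p : K × K, g⁻¹ (p.1 • w) + p.2 • v = s • g⁻¹ (k' • w) := by
    intro s
    set x := g⁻¹ ((k' * (φ₀ z)⁻¹) • z) with hx
    have hDx : D x = g⁻¹ (k' • w) := by
      rw [hD, hx, apply_inv_apply, φ₀.map_smul, smul_eq_mul, inv_mul_cancel_right₀ hz]
    obtain ⟨c, hc⟩ := Submodule.mem_span_singleton.mp (hmod x s)
    refine ⟨(φ₀ (g (s • x)), -c), ?_⟩
    rw [← hD (s • x), ← hDx, neg_smul, hc]
    abel
  choose p hp using hrange
  let Θ : K × K → V := fun q => g⁻¹ (q.1 • w) + q.2 • v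
  have hsub : ∀ q : K × K, ∃ q', Θ q' = q.1 • g⁻¹ (k' • w) + q.2 • v := fun q =>
    ⟨((p q.1).1, (p q.1).2 + q.2), by
      show g⁻¹ _ + _ = _
      rw [← hp q.1, add_smul, add_assoc]⟩
  choose Q hQ using hsub
  have hQinj : Function.Injective Q := by
    intro q q' e
    have h := (hQ q).symm.trans ((congrArg Θ e).trans (hQ q'))
    have e1 : (q.1 - q'.1) • g⁻¹ (k' • w) = (q'.2 - q.2) • v := by
      rw [sub_smul, sub_smul, sub_eq_sub_iff_add_eq_add, h, add_comm]
    have hq1 : q.1 - q'.1 = 0 := by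
      by_contra hne
      exact hk' (Submodule.mem_span_singleton.mpr ⟨(q.1 - q'.1)⁻¹ * (q'.2 - q.2), by
        rw [mul_smul, ← e1, inv_smul_smul₀ hne]⟩)
    rw [hq1, zero_smul, eq_comm, smul_eq_zero, or_iff_left hv0, sub_eq_zero] at e1
    exact Prod.ext (sub_eq_zero.mp hq1) e1.symm
  have hQsurj := Finite.surjective_of_injective hQinj
  obtain ⟨q, hq⟩ := hQsurj (1, -1)
  obtain ⟨q', hq'⟩ := hQsurj (0, 0)
  have h1 := hQ q
  have h2 := hQ q'
  rw [hq] at h1
  rw [hq'] at h2
  have hΘ : Θ (1, -1) = Θ (0, 0) := by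
    show g⁻¹ ((1 : K) • w) + (-1 : K) • v = g⁻¹ ((0 : K) • w) + (0 : K) • v
    rw [one_smul, hw, inv_apply_apply]
    simp
  have h3 : q.1 • g⁻¹ (k' • w) + q.2 • v = q'.1 • g⁻¹ (k' • w) + q'.2 • v := by
    rw [← h1, ← h2, hΘ]
  have hqq : q ≠ q' := fun e => by
    rw [e, hq'] at hq
    exact zero_ne_one (congrArg Prod.fst hq)
  apply hqq
  have e1 : (q.1 - q'.1) • g⁻¹ (k' • w) = (q'.2 - q.2) • v := by
    rw [sub_smul, sub_smul, sub_eq_sub_iff_add_eq_add, h3, add_comm]
  have hq1 : q.1 - q'.1 = 0 := by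
    by_contra hne
    exact hk' (Submodule.mem_span_singleton.mpr ⟨(q.1 - q'.1)⁻¹ * (q'.2 - q.2), by
      rw [mul_smul, ← e1, inv_smul_smul₀ hne]⟩)
  rw [hq1, zero_smul, eq_comm, smul_eq_zero, or_iff_left hv0, sub_eq_zero] at e1
  exact Prod.ext (sub_eq_zero.mp hq1) e1.symm

/-- change of functional -/
theorem exists_move_dual [Module.Finite K V] [Module.Finite F K] (hM : ExtHyp K M)
    (hd : 3 ≤ Module.finrank K V) {a : V} {φ φ' : V →ₗ[K] K} (hφ : φ ≠ 0) (hφ' : φ' ≠ 0)
    (h : φ a = 0) (h' : φ' a = 0) :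
    ∃ t : V ≃ₗ[K] V, t.restrictScalars F ∈ M ∧ t a = a ∧
      φ ∘ₗ (t.symm : V →ₗ[K] V) = φ' := by
  have key : ∀ ψ ψ' : V →ₗ[K] K, ψ a = 0 → ψ' a = 0 →
      (∃ y, ψ y = 0 ∧ ψ' y ≠ 0) → (∃ z, ψ' z = 0 ∧ ψ z ≠ 0) →
      ∃ t : V ≃ₗ[K] V, t.restrictScalars F ∈ M ∧ t a = a ∧
        ψ ∘ₗ (t.symm : V →ₗ[K] V) = ψ' := by
    rintro ψ ψ' ha ha' ⟨y, hy, hy'⟩ ⟨z, hz', hz⟩
    set b := (ψ' y)⁻¹ • y + (ψ z)⁻¹ • z with hb
    have hb1 : ψ b = 1 := by simp [b, hy, hz]
    have hb2 : ψ' b = 1 := by simp [b, hy', hz']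
    have h0 : (ψ - ψ') b = 0 := by simp [hb1, hb2]
    obtain ⟨u, hu, hux⟩ := transvection_mem hM (φ := ψ - ψ') h0
    refine ⟨LinearEquiv.transvection (f := ψ - ψ') (v := b) h0, ?_, ?_, ?_⟩
    · convert hu using 1
      exact LinearEquiv.ext fun x => (hux x).symm
    · show a + (ψ - ψ') a • b = a
      simp [ha, ha']
    · ext x
      obtain ⟨x, rfl⟩ := (LinearEquiv.transvection (f := ψ - ψ') (v := b) h0).surjective x
      simp only [LinearMap.comp_apply, LinearEquiv.coe_coe, LinearEquiv.symm_apply_apply]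
      show ψ x = ψ' (x + (ψ - ψ') x • b)
      simp [hb2]
  have indep : ∀ ψ ψ' : V →ₗ[K] K, ψ ≠ 0 → (∀ c : K, ψ' ≠ c • ψ) →
      ∃ y, ψ y = 0 ∧ ψ' y ≠ 0 := by
    intro ψ ψ' hψ hne
    by_contra hall
    simp only [not_exists, not_and, not_not] at hall
    obtain ⟨b, hb⟩ := exists_apply_ne_zero hψ
    refine hne (ψ' b / ψ b) (LinearMap.ext fun x => ?_)
    have := hall (x - (ψ x / ψ b) • b) (by simp [hb])
    simp only [map_sub, map_smul, smul_eq_mul, sub_eq_zero] at this
    rw [this]; simp; ring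
  by_cases hdep : ∃ c : K, φ' = c • φ
  · obtain ⟨c, rfl⟩ := hdep
    have hc : c ≠ 0 := fun e => hφ' (by rw [e, zero_smul])
    obtain ⟨b, hb⟩ := exists_apply_ne_zero hφ
    obtain ⟨x, hx⟩ := exists_notMem_kspan_pair hd a b
    obtain ⟨χ, hχx, hχ⟩ := exists_dual_one hx
    have hχa : χ a = 0 := hχ _ (Submodule.subset_span (Set.mem_insert _ _))
    have hχb : χ b = 0 := hχ _ (Submodule.subset_span (Set.mem_insert_of_mem _ rfl))
    have hne : ∀ d : K, χ ≠ d • φ := fun d e => by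
      have h1 := LinearMap.congr_fun e b
      rw [hχb, LinearMap.smul_apply, smul_eq_mul, zero_eq_mul, or_iff_left hb] at h1
      rw [h1, zero_smul] at e
      simp [e] at hχx
    have hne' : ∀ d : K, χ ≠ d • c • φ := fun d => by rw [smul_smul]; exact hne _
    have hne2 : ∀ d : K, φ ≠ d • χ := fun d e => hb (by simp [e, hχb])
    have hne2' : ∀ d : K, c • φ ≠ d • χ := fun d e => hb (by
      have := LinearMap.congr_fun e b
      simpa [hχb, hc] using this)
    have hχ0 : χ ≠ 0 := fun e => by simp [e] at hχx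
    obtain ⟨t₁, ht₁, h1a, h1φ⟩ := key φ χ h hχa (indep _ _ hφ hne) (indep _ _ hχ0 hne2)
    obtain ⟨t₂, ht₂, h2a, h2φ⟩ := key χ (c • φ) hχa h' (indep _ _ hχ0 hne2')
      (indep _ _ hφ' hne')
    refine ⟨t₁.trans t₂, mul_mem ht₂ ht₁, by simp [h1a, h2a], ?_⟩
    rw [← h2φ, ← h1φ]
    rfl
  · simp only [not_exists] at hdep
    refine key φ φ' h h' (indep _ _ hφ hdep) (indep _ _ hφ' fun c e => ?_)
    have hc : c ≠ 0 := fun e' => hφ (by rw [e, e', zero_smul])
    exact hdep c⁻¹ (by rw [e, smul_smul, inv_mul_cancel₀ hc, one_smul])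

/-- all root elements belong to `M` (dimension at least three) -/
theorem inExt_big [Finite K] [Module.Finite K V] [Module.Finite F K]
    (hM : ExtHyp K M) (hp : (Module.finrank F K).Prime) (hd : 3 ≤ Module.finrank K V)
    (hg : ∃ g ∈ M, ¬ KSemi K g) (φ : V →ₗ[K] K) (a : V) (ha : φ a = 0) (f : K →ₗ[F] K) :
    InExt M φ a f := by
  rcases eq_or_ne φ 0 with rfl | hφ0
  · exact ⟨1, one_mem M, fun x => by simp⟩
  rcases eq_or_ne a 0 with rfl | ha0
  · exact ⟨1, one_mem M, fun x => by simp⟩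
  obtain ⟨φ₁, a₁, f₁, hφ₁, ha₁, h₁, hf₁, hne⟩ := exists_nonscalar hM hd hg
  have move : ∀ {φ φ' : V →ₗ[K] K} {a a' : V} {f : K →ₗ[F] K}, φ ≠ 0 → φ' ≠ 0 → a ≠ 0 → a' ≠ 0 →
      φ a = 0 → φ' a' = 0 → InExt M φ a f → InExt M φ' a' f := by
    intro φ φ' a a' f hφ hφ' ha ha' h h' hf
    obtain ⟨h₀, hh₀, h₀a⟩ := exists_move hM (by omega) ha ha'
    have h1 := hf.conj hh₀
    rw [h₀a] at h1
    have hne0 : φ ∘ₗ (h₀.symm : V →ₗ[K] V) ≠ 0 := fun e => hφ (LinearMap.ext fun x => by
      have := LinearMap.congr_fun e (h₀ x)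
      simpa using this)
    obtain ⟨t, ht, hta, htφ⟩ := exists_move_dual hM hd hne0 hφ'
      (by rw [← h₀a]; simpa using h) h'
    have h2 := h1.conj ht
    rwa [hta, htφ] at h2
  let P : (K →ₗ[F] K) → Prop := fun f => InExt M φ a f
  have hl : ∀ (μ : K) f, P f → P (LinearMap.mulLeft F μ ∘ₗ f) := by
    intro μ f hf
    rcases eq_or_ne μ 0 with rfl | hμ
    · simpa [P] using InExt.zero (M := M) (φ := φ) (a := a)
    · exact (inExt_smul_left μ).mp
        (move hφ0 hφ0 ha0 (smul_ne_zero hμ ha0) ha (by simp [ha]) hf)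
  have hr : ∀ (μ : K) f, P f → P (f ∘ₗ LinearMap.mulLeft F μ) := by
    intro μ f hf
    rcases eq_or_ne μ 0 with rfl | hμ
    · simpa [P] using InExt.zero (M := M) (φ := φ) (a := a)
    · exact (inExt_smul_right μ).mp
        (move hφ0 (smul_ne_zero hμ hφ0) ha0 ha0 ha (by simp [ha]) hf)
  have hcomp : ∀ f g, P f → P g → P (f ∘ₗ g) := by
    intro f g hf hg'
    obtain ⟨b, hb⟩ := exists_notMem_of_ne_top (p := Submodule.span K {a}) fun e => by
      have := congrArg (fun p : Submodule K V => Module.finrank K p) e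
      simp only [finrank_span_singleton ha0, finrank_top] at this
      omega
    obtain ⟨ψ, hψb, hψ⟩ := exists_dual_one hb
    have hψa : ψ a = 0 := hψ _ (Submodule.mem_span_singleton_self a)
    obtain ⟨x, hx⟩ := exists_notMem_kspan_pair hd a b
    obtain ⟨χ, hχx, hχ⟩ := exists_dual_one hx
    have hχa : χ a = 0 := hχ _ (Submodule.subset_span (Set.mem_insert _ _))
    have hχb : χ b = 0 := hχ _ (Submodule.subset_span (Set.mem_insert_of_mem _ rfl))
    have hψ0 : ψ ≠ 0 := fun e => by simp [e] at hψb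
    have hχ0 : χ ≠ 0 := fun e => by simp [e] at hχx
    have hb0 : b ≠ 0 := fun e => hb (e ▸ zero_mem _)
    exact move hχ0 hφ0 ha0 ha0 hχa ha ((move hφ0 hψ0 ha0 ha0 ha hψa hf).comm
      (move hφ0 hχ0 ha0 hb0 ha hχb hg') hψa hψb hχa hχb)
  obtain ⟨τ, c, hτ, hc, hR⟩ := exists_rankOne hp P (fun f g hf hg' => hf.sub hg' ha) hcomp
    (fun μ => InExt.scalar hM ha μ) (move hφ₁ hφ0 ha₁ ha0 h₁ ha hf₁) hne
  exact forall_of_rankOne P InExt.zero (fun f g hf hg' => hf.add hg' ha) hl hr τ hτ c hc hR f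

end CfsgLib.MaxSub
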