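import Cfsg.Agent.Lib.MaxSub.ExtMatrix

/-!
The normaliser of a field of matrices of composite degree lies in that of an intermediate field of prime degree.
-/

set_option autoImplicit false
set_option linter.unusedSectionVars false

namespace CfsgLib.MaxSub

open Matrix
open scoped MatrixGroups

variable {F : Type*} [Field F] [Fintype F] {n r : ℕ}

theorem composite_facts_aux {E : Type*} [Field E] [Algebra F E] [Finite E] [Module E (Fin n → F)]
    [IsScalarTower F E (Fin n → F)] (hr1 : 1 < r) (hrp : ¬ r.Prime) (hlt : r < n)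
    (K : Subalgebra F (Matrix (Fin n) (Fin n) F)) (ι : E →ₐ[F] Matrix (Fin n) (Fin n) F)
    (hι : ∀ k, ι k ∈ K) (hsurj : ∀ m ∈ K, ∃ k, ι k = m) (hinj : Function.Injective ι)
    (hsmul : ∀ (k : E) (x : Fin n → F), k • x = ι k *ᵥ x) (hfr : Module.finrank F E = r) :
    ∃ L : Subalgebra F (Matrix (Fin n) (Fin n) F), ∃ ℓ : ℕ, ℓ.Prime ∧ ℓ < n ∧
      Cfsg.Geo.IsFieldSubalgebra ℓ L ∧
      Cfsg.Geo.subalgebraNormalizer K ≤ Cfsg.Geo.subalgebraNormalizer L ∧
      ∃ g ∈ Cfsg.Geo.subalgebraNormalizer L, g ∈ Cfsg.Geo.specialLinear (Fin n) F ∧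
        g ∉ Cfsg.Geo.subalgebraNormalizer K := by
  classical
  haveI : NeZero n := ⟨by omega⟩
  haveI : Module.Finite F E := Module.Finite.of_finite
  set ℓ := r.minFac
  have hℓ : ℓ.Prime := Nat.minFac_prime (by omega)
  have hℓr : ℓ ∣ r := Nat.minFac_dvd r
  have hℓlt : ℓ < r := lt_of_le_of_ne (Nat.minFac_le (by omega)) fun h => hrp (h ▸ hℓ)
  let φ := FiniteField.frobeniusAlgEquivOfAlgebraic F E ^ ℓ
  let L₀ : IntermediateField F E := IntermediateField.fixedField (Subgroup.zpowers φ)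
  have hφ : ∀ x : E, φ x = x ^ (Fintype.card F ^ ℓ) := fun x => by
    show (FiniteField.frobeniusAlgEquivOfAlgebraic F E ^ ℓ) x = _
    rw [AlgEquiv.coe_pow, FiniteField.coe_frobeniusAlgEquivOfAlgebraic_iterate]
  have hL₀ : ∀ x : E, x ∈ L₀ ↔ x ^ (Fintype.card F ^ ℓ) = x := fun x => by
    refine ⟨fun h => by rw [← hφ]; exact h ⟨φ, Subgroup.mem_zpowers φ⟩, fun h => ?_⟩
    rintro ⟨ψ, hψ⟩
    have hle : Subgroup.zpowers φ ≤ MulAction.stabilizer (E ≃ₐ[F] E) x :=
      Subgroup.zpowers_le.2 (show φ x = x by rw [hφ]; exact h)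
    exact hle hψ
  have hdim : Module.finrank L₀ E = r / ℓ := by
    rw [IntermediateField.finrank_fixedField_eq_card, Nat.card_zpowers, orderOf_pow,
      FiniteField.orderOf_frobeniusAlgEquivOfAlgebraic, hfr, Nat.gcd_eq_right hℓr]
  have hdimL : Module.finrank F L₀ = ℓ := by
    have h := Module.finrank_mul_finrank F L₀ E
    rw [hdim, hfr] at h
    have h2 : r / ℓ * ℓ = r := Nat.div_mul_cancel hℓr
    have h3 : 0 < r / ℓ := Nat.div_pos hℓlt.le hℓ.pos
    nlinarith
  let L : Subalgebra F (Matrix (Fin n) (Fin n) F) := L₀.toSubalgebra.map ι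
  have hmemL : ∀ m, m ∈ L ↔ m ∈ K ∧ m ^ (Fintype.card F ^ ℓ) = m := fun m => by
    constructor
    · rintro ⟨x, hx, rfl⟩
      exact ⟨hι x, by
        show ι x ^ _ = ι x
        rw [← map_pow, (hL₀ x).1 hx]⟩
    · rintro ⟨hm, hpow⟩
      obtain ⟨x, rfl⟩ := hsurj m hm
      exact ⟨x, (hL₀ x).2 (hinj (by rw [map_pow, hpow])), rfl⟩
  refine ⟨L, ℓ, hℓ, lt_trans hℓlt hlt, ⟨?_, ?_, ?_⟩, ?_, ?_⟩
  · rintro _ ⟨x, -, rfl⟩ _ ⟨y, -, rfl⟩
    show ι x * ι y = ι y * ι x
    rw [← map_mul, ← map_mul, mul_comm]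
  · rintro _ ⟨x, hx, rfl⟩ h0
    have hx0 : x ≠ 0 := fun e => h0 (by rw [e]; exact map_zero ι)
    exact ⟨ι x⁻¹, ⟨x⁻¹, L₀.inv_mem hx, rfl⟩, by
      show ι x * ι x⁻¹ = 1
      rw [← map_mul, mul_inv_cancel₀ hx0, map_one]⟩
  · exact (Subalgebra.equivMapOfInjective _ ι hinj).toLinearEquiv.finrank_eq.symm.trans hdimL
  · intro g hg m
    rw [hmemL, hmemL, ← hg m, Units.conj_pow g m]
    refine and_congr_right fun _ => ⟨fun h => by rw [h], fun h => ?_⟩
    exact g.isUnit.mul_left_cancel ((g⁻¹).isUnit.mul_right_cancel h)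
  · haveI : IsScalarTower F L₀ (Fin n → F) := ⟨fun c x v => smul_assoc c (x : E) v⟩
    haveI : Module.Finite E (Fin n → F) := Module.Finite.of_finite
    haveI : Module.Finite L₀ (Fin n → F) := Module.Finite.of_finite
    haveI : Module.Finite L₀ E := Module.Finite.of_finite
    have hr2 : 1 < Module.finrank L₀ E := by
      rw [hdim]
      have h2 : r / ℓ * ℓ = r := Nat.div_mul_cancel hℓr
      by_contra h
      have : r / ℓ * ℓ ≤ 1 * ℓ := Nat.mul_le_mul_right ℓ (by omega)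
      omega
    have hmul : Module.finrank F E * Module.finrank E (Fin n → F) = n := by
      rw [Module.finrank_mul_finrank, Module.finrank_fin_fun]
    have hd : 2 ≤ Module.finrank E (Fin n → F) := by
      by_contra h
      rw [hfr] at hmul
      have : r * Module.finrank E (Fin n → F) ≤ r * 1 := Nat.mul_le_mul_left r (by omega)
      omega
    obtain ⟨Φ, a, -, hΦa, hnot⟩ := exists_not_kSemi (F := L₀) (K := E) (V := Fin n → F) hr2 hd
    let T : (Fin n → F) ≃ₗ[L₀] (Fin n → F) :=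
      LinearEquiv.transvection (f := Φ) (v := a) hΦa
    have hT : ∀ x, T x = x + Φ x • a := fun x => LinearEquiv.transvection.apply hΦa x
    let g := (glEquiv n F).symm (T.restrictScalars F)
    have hgx : ∀ x, (g : Matrix (Fin n) (Fin n) F) *ᵥ x = T x := fun x => by
      rw [← glEquiv_apply, MulEquiv.apply_symm_apply]; rfl
    have hcomm : ∀ m ∈ L, (g : Matrix (Fin n) (Fin n) F) * m = m * g := by
      rintro _ ⟨x, hx, rfl⟩
      refine Matrix.ext_of_mulVec_single fun i => ?_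
      show ((g : Matrix (Fin n) (Fin n) F) * ι x) *ᵥ _ = (ι x * (g : Matrix (Fin n) (Fin n) F)) *ᵥ _
      rw [← mulVec_mulVec, ← mulVec_mulVec, ← hsmul, ← hsmul, hgx, hgx]
      exact T.map_smul (⟨x, hx⟩ : L₀) _
    refine ⟨g, fun m => ⟨fun hm => ?_, fun hm => ?_⟩, ?_, fun h => hnot T hT fun k => ?_⟩
    · rw [hcomm m hm, mul_assoc, ← Units.val_mul, mul_inv_cancel, Units.val_one, mul_one]; exact hm
    · have e := hcomm _ hm
      have e2 : (g : Matrix (Fin n) (Fin n) F) * m * ((g⁻¹ : GL (Fin n) F) : Matrix (Fin n) (Fin n) F) = m := by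
        refine g.isUnit.mul_left_cancel (e.trans ?_)
        rw [mul_assoc, ← Units.val_mul, inv_mul_cancel, Units.val_one, mul_one]
      rwa [e2] at hm
    · rw [mem_specialLinear_iff_det, ← det_glEquiv, MulEquiv.apply_symm_apply]
      show LinearMap.det ((T : (Fin n → F) →ₗ[L₀] (Fin n → F)).restrictScalars F) = 1
      rw [LinearMap.det_restrictScalars,
        show (T : (Fin n → F) →ₗ[L₀] (Fin n → F)) = LinearMap.transvection Φ a from
          LinearMap.ext fun x => by rw [LinearMap.transvection.apply]; exact hT x,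
        LinearMap.transvection.det]
      simp [hΦa]
    · obtain ⟨k', hk'⟩ := hsurj _ ((h (ι k)).1 (hι k))
      refine ⟨k', fun x => ?_⟩
      rw [← hgx, ← hgx, hsmul, hsmul, mulVec_mulVec, mulVec_mulVec, hk', mul_assoc _ _ (g : Matrix (Fin n) (Fin n) F),
        ← Units.val_mul, inv_mul_cancel, Units.val_one, mul_one]

theorem composite_facts (hr1 : 1 < r) (hrp : ¬ r.Prime) (hlt : r < n)
    (K : Subalgebra F (Matrix (Fin n) (Fin n) F)) (hK : Cfsg.Geo.IsFieldSubalgebra r K) :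
    ∃ L : Subalgebra F (Matrix (Fin n) (Fin n) F), ∃ ℓ : ℕ, ℓ.Prime ∧ ℓ < n ∧
      Cfsg.Geo.IsFieldSubalgebra ℓ L ∧
      Cfsg.Geo.subalgebraNormalizer K ≤ Cfsg.Geo.subalgebraNormalizer L ∧
      ∃ g ∈ Cfsg.Geo.subalgebraNormalizer L, g ∈ Cfsg.Geo.specialLinear (Fin n) F ∧
        g ∉ Cfsg.Geo.subalgebraNormalizer K := by
  letI : Field (MatField K) := (isField_matField (by omega) K hK).toField
  letI : Algebra F (MatField K) := (inferInstance : Algebra F ↥K)
  letI : Module (MatField K) (Fin n → F) := Module.compHom (Fin n → F)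
    (((Matrix.toLinAlgEquiv' : Matrix (Fin n) (Fin n) F ≃ₐ[F] _).toRingEquiv.toRingHom.comp
      K.val.toRingHom : ↥K →+* Module.End F (Fin n → F)) :
      MatField K →+* Module.End F (Fin n → F))
  haveI : Finite (MatField K) := (inferInstance : Finite ↥K)
  haveI : IsScalarTower F (MatField K) (Fin n → F) := ⟨fun c k x => by
    show (c • (k : ↥K) : ↥K).1 *ᵥ x = c • ((k : ↥K).1 *ᵥ x)
    exact Matrix.smul_mulVec c (k : ↥K).1 x⟩
  exact composite_facts_aux (E := MatField K) hr1 hrp hlt K K.val (fun k => (k : ↥K).2)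
    (fun m hm => ⟨(⟨m, hm⟩ : ↥K), rfl⟩) Subtype.val_injective (fun k x => rfl) hK.finrank_eq

end CfsgLib.MaxSub
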