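import Cfsg.Agent.Lib.MaxSub.ExtTiny
import Cfsg.Agent.Lib.MaxSub.Transvection

/-!
The semilinear group of a field extension of prime degree is maximal in the special linear group.
-/

set_option autoImplicit false
set_option linter.unusedSectionVars false

namespace CfsgLib.MaxSub

variable {F K V : Type*} [Field F] [Field K] [Algebra F K] [AddCommGroup V] [Module K V]
  [Module F V] [IsScalarTower F K V] {M : Subgroup (V ≃ₗ[F] V)}

theorem inExt_all [Finite F] [Finite K] [Module.Finite K V] [Module.Finite F K]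
    [Module.Finite F V] (hM : ExtHyp K M) (hp : (Module.finrank F K).Prime)
    (hd : 2 ≤ Module.finrank K V) (hg : ∃ g ∈ M, ¬ KSemi K g) (φ : V →ₗ[K] K) (a : V)
    (ha : φ a = 0) (f : K →ₗ[F] K) : InExt M φ a f := by
  rcases Nat.lt_or_ge 2 (Module.finrank K V) with h3 | h2
  · exact inExt_big hM hp h3 hg φ a ha f
  have hd2 : Module.finrank K V = 2 := le_antisymm h2 hd
  rcases eq_or_ne φ 0 with rfl | hφ0
  · exact ⟨1, one_mem M, fun x => by simp⟩
  rcases eq_or_ne a 0 with rfl | ha0
  · exact ⟨1, one_mem M, fun x => by simp⟩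
  obtain ⟨b, φ₀, ψ, hφ₀v, hφ₀b, hψv, -, hco⟩ := exists_coords hd2 ha0
  have hall : ∀ f, InExt M φ₀ a f := by
    rcases inExt_plane_or hM hp hd2 hg ha0 hφ₀v hφ₀b hψv hco with h | ⟨hF, hK⟩
    · exact h
    · exact inExt_tiny hM hp hd2 hF hK hg ha0 hφ₀v hψv hco
  obtain ⟨c, hc⟩ : ∃ c, φ b = c := ⟨_, rfl⟩
  have hφe : φ = c • φ₀ := LinearMap.ext fun x => by
    conv_lhs => rw [hco x, map_add, map_smul, map_smul, ha, hc]
    simp [mul_comm]
  rw [hφe, inExt_smul_right]
  exact hall _

/-- every `F`-functional is the composite of a fixed one with a `K`-functional -/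
theorem exists_lift_functional [FiniteDimensional F K] {τ : K →ₗ[F] F} (hτ : τ ≠ 0)
    (Φ : V →ₗ[F] F) : ∃ φ : V →ₗ[K] K, ∀ (s : K) (x : V), τ (s * φ x) = Φ (s • x) := by
  let e : K →ₗ[F] (K →ₗ[F] F) :=
    { toFun := fun μ => τ ∘ₗ LinearMap.mulLeft F μ
      map_add' := fun μ ν => by ext x; simp [add_mul]
      map_smul' := fun s μ => by ext x; simp }
  have hinj : Function.Injective e := by
    rw [← LinearMap.ker_eq_bot, LinearMap.ker_eq_bot']
    intro μ hμ
    by_contra h
    refine hτ (LinearMap.ext fun x => ?_)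
    have := LinearMap.congr_fun hμ (μ⁻¹ * x)
    simpa [e, mul_inv_cancel_left₀ h] using this
  have hsurj : Function.Surjective e :=
    (LinearMap.injective_iff_surjective_of_finrank_eq_finrank
      (Subspace.dual_finrank_eq (K := F) (V := K)).symm).mp hinj
  choose φ hφ using fun x : V =>
    hsurj (Φ ∘ₗ ((LinearMap.toSpanSingleton K V x).restrictScalars F))
  have key : ∀ (x : V) (s : K), τ (φ x * s) = Φ (s • x) := fun x s =>
    LinearMap.congr_fun (hφ x) s
  refine ⟨{ toFun := φ, map_add' := fun x y => ?_, map_smul' := fun k x => ?_ }, fun s x => ?_⟩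
  · refine hinj (LinearMap.ext fun s => ?_)
    show τ (φ (x + y) * s) = τ ((φ x + φ y) * s)
    rw [key, add_mul, map_add, key, key, smul_add, map_add]
  · refine hinj (LinearMap.ext fun s => ?_)
    show τ (φ (k • x) * s) = τ ((k * φ x) * s)
    rw [key, smul_smul, mul_comm k (φ x), mul_assoc, key, mul_comm k s]
  · show τ (s * φ x) = _
    rw [mul_comm, key]

/-- all transvections lie in `M` -/
theorem ftv_mem [Finite F] [Finite K] [Module.Finite K V] [Module.Finite F K]
    [Module.Finite F V] (hM : ExtHyp K M) (hp : (Module.finrank F K).Prime)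
    (hd : 2 ≤ Module.finrank K V) (hg : ∃ g ∈ M, ¬ KSemi K g) (Φ : V →ₗ[F] F) (a : V)
    (ha : Φ a = 0) : ∃ g ∈ M, ∀ x, g x = x + Φ x • a := by
  rcases eq_or_ne a 0 with rfl | ha0
  · exact ⟨1, one_mem M, fun x => by simp⟩
  obtain ⟨τ, hτ1, -⟩ := exists_dual_one (K := F) (V := K) (p := ⊥) (x := (1 : K)) (by simp)
  have hτ : τ ≠ 0 := fun e => by simp [e] at hτ1
  have easy : ∀ (Φ : V →ₗ[F] F) (a : V), (∀ k : K, Φ (k • a) = 0) →
      ∃ g ∈ M, ∀ x, g x = x + Φ x • a := by
    intro Φ a hΦ
    obtain ⟨φ, hφ⟩ := exists_lift_functional hτ Φ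
    have hφa : φ a = 0 := by
      by_contra h
      have := hφ (φ a)⁻¹ a
      rw [inv_mul_cancel₀ h, hτ1, hΦ] at this
      exact one_ne_zero this
    obtain ⟨g, hg', hgx⟩ := inExt_all hM hp hd hg φ a hφa (τ.smulRight (1 : K))
    refine ⟨g, hg', fun x => ?_⟩
    rw [hgx, LinearMap.smulRight_apply, ← one_mul (φ x), hφ, one_smul, smul_assoc, one_smul]
  by_cases hK : ∀ k : K, Φ (k • a) = 0
  · exact easy Φ a hK
  obtain ⟨φ, hφ⟩ := exists_lift_functional hτ Φ
  have hφa : φ a ≠ 0 := fun e => hK fun k => by rw [← hφ, e, mul_zero, map_zero]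
  obtain ⟨x₀, hx₀⟩ := exists_notMem_of_ne_top (p := Submodule.span K {a}) fun e => by
    have := congrArg (fun p : Submodule K V => Module.finrank K p) e
    simp only [finrank_span_singleton ha0, finrank_top] at this
    omega
  set e := x₀ - (φ x₀ / φ a) • a with he
  have hφe : φ e = 0 := by simp [he, hφa]
  have hea : e ∉ (Submodule.span K {a}).restrictScalars F := fun h => hx₀ (by
    have h' : e ∈ Submodule.span K {a} := h
    rw [he] at h'
    simpa using (Submodule.sub_mem_iff_left _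
      (Submodule.smul_mem _ _ (Submodule.mem_span_singleton_self a))).mp h')
  obtain ⟨ψ, hψe, hψ⟩ := exists_dual_one hea
  have hψk : ∀ k : K, ψ (k • a) = 0 := fun k =>
    hψ _ (Submodule.smul_mem (Submodule.span K {a}) k (Submodule.mem_span_singleton_self a))
  have hψa : ψ a = 0 := by simpa using hψk 1
  have hΦe : Φ e = 0 := by rw [← one_smul K e, ← hφ, hφe, mul_zero, map_zero]
  obtain ⟨u, hu, hux⟩ := easy Φ e fun k => by rw [← hφ, hφe, mul_zero, map_zero]
  obtain ⟨v, hv, hvx⟩ := easy ψ a hψk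
  have hu' : ∀ x, u⁻¹ x = x - Φ x • e := fun x => u.injective (by
    rw [apply_inv_apply, hux, map_sub, map_smul, hΦe, smul_zero, sub_zero, sub_add_cancel])
  have hv' : ∀ x, v⁻¹ x = x - ψ x • a := fun x => v.injective (by
    rw [apply_inv_apply, hvx, map_sub, map_smul, hψa, smul_zero, sub_zero, sub_add_cancel])
  refine ⟨v * u * v⁻¹ * u⁻¹, mul_mem (mul_mem (mul_mem hv hu) (inv_mem hv)) (inv_mem hu),
    fun x => ?_⟩
  show v (u (v⁻¹ (u⁻¹ x))) = _
  rw [hu', hv', hux, hvx]
  simp only [map_sub, map_add, map_smul, ha, hψe, hψa, hΦe, smul_eq_mul, mul_zero, mul_one,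
    sub_zero, add_zero, sub_smul]
  abel

/-- a transvection that is not semilinear -/
theorem exists_not_kSemi [Module.Finite K V] [FiniteDimensional F K]
    (hr : 1 < Module.finrank F K) (hd : 2 ≤ Module.finrank K V) :
    ∃ (Φ : V →ₗ[F] F) (a : V), a ≠ 0 ∧ Φ a = 0 ∧
      ∀ g : V ≃ₗ[F] V, (∀ x, g x = x + Φ x • a) → ¬ KSemi K g := by
  have : Nontrivial V := Module.nontrivial_of_finrank_pos (by omega : 0 < Module.finrank K V)
  obtain ⟨a, ha⟩ := exists_ne (0 : V)
  obtain ⟨y, hy⟩ := exists_notMem_of_ne_top (p := Submodule.span K {a}) fun e => by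
    have := congrArg (fun p : Submodule K V => Module.finrank K p) e
    simp only [finrank_span_singleton ha, finrank_top] at this
    omega
  obtain ⟨k, hk⟩ : ∃ k : K, k ∉ Set.range (algebraMap F K) := by
    by_contra hall
    simp only [not_exists, not_not] at hall
    have h1 : Function.Surjective (Algebra.linearMap F K) := fun k => hall k
    have h2 := LinearMap.finrank_range_of_inj (f := Algebra.linearMap F K)
      (algebraMap F K).injective
    rw [LinearMap.range_eq_top.mpr h1, finrank_top, Module.finrank_self] at h2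
    omega
  have hnot : k • a ∉ Submodule.span F ({a, y, k • y} : Set V) := by
    intro h
    obtain ⟨α, β, γ, hh⟩ := Submodule.mem_span_triple.mp h
    have h1 : (k - algebraMap F K α) • a = (algebraMap F K β + algebraMap F K γ * k) • y := by
      rw [sub_smul, add_smul, mul_smul, algebraMap_smul, algebraMap_smul, algebraMap_smul, ← hh]
      abel
    rcases eq_or_ne (algebraMap F K β + algebraMap F K γ * k) 0 with e | e
    · rw [e, zero_smul, smul_eq_zero, or_iff_left ha, sub_eq_zero] at h1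
      exact hk ⟨α, h1.symm⟩
    · exact hy (Submodule.mem_span_singleton.mpr ⟨_ * (k - algebraMap F K α),
        by rw [mul_smul, h1, inv_smul_smul₀ e]⟩)
  obtain ⟨Φ, hΦ1, hΦ⟩ := exists_dual_one hnot
  have hΦa : Φ a = 0 := hΦ _ (Submodule.subset_span (by simp))
  have hΦy : Φ y = 0 := hΦ _ (Submodule.subset_span (by simp))
  have hΦky : Φ (k • y) = 0 := hΦ _ (Submodule.subset_span (by simp))
  refine ⟨Φ, a, ha, hΦa, fun g hg hs => ?_⟩
  obtain ⟨k', hk'⟩ := hs k
  have h1 := hk' y
  rw [hg, hg, hΦy, hΦky, zero_smul, add_zero, add_zero] at h1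
  have hy0 : y ≠ 0 := fun e => hy (e ▸ zero_mem _)
  have hkk : k = k' := smul_left_injective K hy0 h1
  have h2 := hk' a
  rw [hg, hg, hΦ1, hΦa, one_smul, zero_smul, add_zero, ← hkk, add_eq_left] at h2
  exact ha h2

end CfsgLib.MaxSub
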