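import Cfsg.Agent.Lib.MaxSub.IsoPerp
import Cfsg.Agent.Lib.Geom.SympSpace
import Cfsg.Agent.Lib.MaxSub.ExtMain
import Cfsg.Agent.Lib.Classical.AltOrder
import Mathlib.Algebra.Algebra.Subalgebra.IsSimpleOrder
import Mathlib.FieldTheory.Finite.Basic
import Mathlib.RingTheory.Trace.Basic

/-!
A vector space over an extension field `K/F` of prime degree with an alternating `F`-form for which `K` is
self-adjoint: dimensions of invariant non-degenerate subspaces, fixed spaces of semilinear maps, the form over `K`.
-/

set_option autoImplicit false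

namespace CfsgLib.MaxSub.ExtFixed

open CfsgLib.MaxSub CfsgLib.MaxSub.IsoSemi CfsgLib.Geom

universe u v w

variable {F : Type u} [Field F] [Finite F] {K : Type v} [Field K] [Algebra F K] [FiniteDimensional F K]
  {V : Type w} [AddCommGroup V] [Module F V] [Module K V] [IsScalarTower F K V] [FiniteDimensional F V]

/-- The fixed vectors of a semilinear map with a non-trivial twist are few. -/
theorem finrank_semi_fix (hk : (Module.finrank F K).Prime) {σ : K →ₐ[F] K} (hσ : σ ≠ AlgHom.id F K)
    {T : Module.End F V} (hT : ∀ (a : K) v, T (a • v) = σ a • T v) :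
    Module.finrank F K * Module.finrank F ↥(LinearMap.ker (T - 1)) ≤ Module.finrank F V := by
  classical
  haveI : FiniteDimensional K V := Module.Finite.of_restrictScalars_finite F K V
  obtain ⟨P, hP⟩ : ∃ P, P = LinearMap.ker (T - 1) := ⟨_, rfl⟩
  rw [← hP]
  have hfix : ∀ a : K, σ a = a → ∃ c : F, algebraMap F K c = a := fun a ha => by
    rcases (Subalgebra.isSimpleOrder_of_finrank_prime F K hk).eq_bot_or_eq_top
      (AlgHom.equalizer σ (AlgHom.id F K)) with h | h
    · have ha' : a ∈ AlgHom.equalizer σ (AlgHom.id F K) := ha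
      rw [h, Algebra.mem_bot] at ha'
      exact ha'
    · refine absurd (AlgHom.ext fun x => ?_) hσ
      exact (h ▸ Algebra.mem_top : x ∈ AlgHom.equalizer σ (AlgHom.id F K))
  let b := Module.finBasis F P
  have hTb : ∀ i, T (b i : V) = (b i : V) := fun i => by
    have h : (b i : V) ∈ LinearMap.ker (T - 1) := hP ▸ (b i).2
    rwa [LinearMap.mem_ker, LinearMap.sub_apply, sub_eq_zero] at h
  have hli : LinearIndependent K fun i => (b i : V) := by
    rw [linearIndependent_iff']
    intro s
    induction s using Finset.induction_on with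
    | empty => intro g _ i hi; exact absurd hi (Finset.notMem_empty i)
    | insert i s hi ih =>
      intro g hg
      rw [Finset.sum_insert hi] at hg
      by_cases hgi : g i = 0
      · rw [hgi, zero_smul, zero_add] at hg
        intro j hj
        rcases Finset.mem_insert.1 hj with rfl | hj
        · exact hgi
        · exact ih g hg j hj
      exfalso
      have h1 : (b i : V) + ∑ j ∈ s, ((g i)⁻¹ * g j) • (b j : V) = 0 := by
        have := congrArg ((g i)⁻¹ • ·) hg
        simpa [smul_add, Finset.smul_sum, smul_smul, hgi] using this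
      have h2 : (b i : V) + ∑ j ∈ s, σ ((g i)⁻¹ * g j) • (b j : V) = 0 := by
        have := congrArg T h1
        simpa [map_sum, hT, hTb] using this
      have h3 : ∑ j ∈ s, (σ ((g i)⁻¹ * g j) - (g i)⁻¹ * g j) • (b j : V) = 0 := by
        simp only [sub_smul, Finset.sum_sub_distrib]
        rw [← sub_eq_zero.2 ((add_left_cancel (h2.trans h1.symm)))]
      choose! c hc using fun j (hj : j ∈ s) => hfix _ (sub_eq_zero.1 (ih _ h3 j hj))
      have h4 : b i + ∑ j ∈ s, c j • b j = 0 := Subtype.ext (by
        rw [Submodule.coe_add, Submodule.coe_sum, Submodule.coe_zero, ← h1]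
        congr 1
        refine Finset.sum_congr rfl fun j hj => ?_
        rw [Submodule.coe_smul, ← algebraMap_smul K (c j), hc j hj])
      have h5 := congrArg (fun x => b.repr x i) h4
      simp [Finsupp.single_apply, hi] at h5
  have h := hli.fintype_card_le_finrank
  rw [Fintype.card_fin] at h
  rw [← Module.finrank_mul_finrank F K V]
  exact Nat.mul_le_mul_left _ h

omit [Finite F] [FiniteDimensional F V] in
/-- An `F`-subspace stable under `K` has dimension divisible by the degree. -/
theorem dvd_finrank {W : Submodule F V} (hW : ∀ (a : K), ∀ v ∈ W, a • v ∈ W) :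
    Module.finrank F K ∣ Module.finrank F W := by
  let W' : Submodule K V := { W with smul_mem' := fun a v hv => hW a v hv }
  exact ⟨Module.finrank K W', ((Module.finrank_mul_finrank F K W').trans rfl).symm⟩

variable {B : V →ₗ[F] V →ₗ[F] F} (hG : Geom B) (halt : ∀ (a : K) v, B (a • v) v = 0)
  (hsa : ∀ (a : K) u v, B (a • u) v = B u (a • v))

include hG halt hsa in
/-- Non-degenerate stable subspaces have even dimension over `K`. -/
theorem two_mul_dvd_finrank {W : Submodule F V} (hW : ∀ (a : K), ∀ v ∈ W, a • v ∈ W) (hnd : ND B W) :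
    2 * Module.finrank F K ∣ Module.finrank F W := by
  classical
  haveI : FiniteDimensional K V := Module.Finite.of_restrictScalars_finite F K V
  haveI : Finite V := Module.finite_of_finite F
  haveI : Finite (Submodule K V) := Finite.of_injective _ SetLike.coe_injective
  haveI := Fintype.ofFinite (Submodule K V)
  obtain ⟨L, hL, hmax⟩ := (Finset.univ.filter fun L : Submodule K V =>
      L.restrictScalars F ≤ W ∧ TI B (L.restrictScalars F)).exists_max_image
    (fun L => Module.finrank F ↥(L.restrictScalars F))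
    ⟨⊥, by simp [TI]⟩
  simp only [Finset.mem_filter, Finset.mem_univ, true_and] at hL hmax
  have heq : W ⊓ perp B (L.restrictScalars F) ≤ L.restrictScalars F := by
    rintro w ⟨hwW, hwp⟩
    by_contra hwL
    have h := hmax (L ⊔ Submodule.span K {w}) ?_
    · refine absurd h (not_le.2 (Submodule.finrank_lt_finrank_of_lt
        (SetLike.lt_iff_le_and_exists.2 ⟨fun x hx => (le_sup_left (b := Submodule.span K {w})) hx, w,
          (le_sup_right (a := L)) (Submodule.mem_span_singleton_self w), hwL⟩)))
    · have hmem : ∀ x ∈ L ⊔ Submodule.span K {w}, ∃ l ∈ L, ∃ a : K, l + a • w = x := fun x hx => by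
        obtain ⟨l, hl, y, hy, rfl⟩ := Submodule.mem_sup.1 hx
        obtain ⟨a, rfl⟩ := Submodule.mem_span_singleton.1 hy
        exact ⟨l, hl, a, rfl⟩
      refine ⟨fun x hx => ?_, fun x hx y hy => ?_⟩
      · obtain ⟨l, hl, a, rfl⟩ := hmem x hx
        exact W.add_mem (hL.1 hl) (hW a w hwW)
      · obtain ⟨l, hl, a, rfl⟩ := hmem x hx
        obtain ⟨l', hl', a', rfl⟩ := hmem y hy
        have h1 : ∀ z ∈ L, ∀ c : K, B z (c • w) = 0 := fun z hz c => by
          rw [← hsa]; exact hwp _ (L.smul_mem c hz)
        have h2 : ∀ z ∈ L, ∀ c : K, B (c • w) z = 0 := fun z hz c => hG.refl _ _ (h1 z hz c)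
        rw [map_add, map_add, LinearMap.add_apply, LinearMap.add_apply, hL.2 l hl l' hl', h1 l hl, h2 l' hl', hsa,
          smul_smul, ← hsa, halt]
        simp
  have h1 := finrank_inf_perp hG hnd hL.1
  rw [le_antisymm heq (le_inf hL.1 (ti_iff_le_perp.1 hL.2))] at h1
  obtain ⟨t, ht⟩ := dvd_finrank (K := K) (W := L.restrictScalars F) fun a v hv => L.smul_mem a hv
  exact ⟨t, by rw [← h1, ht]; ring⟩

include hG halt hsa in
/-- The form over `K`: the trace of a non-degenerate alternating `K`-form. -/
theorem exists_phi : ∃ φ : V →ₗ[K] V →ₗ[K] K, (∀ u v, Algebra.trace F K (φ u v) = B u v) ∧ (∀ v, φ v v = 0) ∧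
    ∀ x, (∀ y, φ x y = 0) → x = 0 := by
  have hτ : Algebra.trace F K ≠ 0 := Algebra.trace_ne_zero F K
  have hinjτ : ∀ a b : K, (∀ s, Algebra.trace F K (s * a) = Algebra.trace F K (s * b)) → a = b := by
    intro a b h
    by_contra hne
    refine hτ (LinearMap.ext fun x => ?_)
    have := h (x * (a - b)⁻¹)
    rw [← sub_eq_zero, ← map_sub, ← mul_sub, inv_mul_cancel_right₀ (sub_ne_zero.2 hne)] at this
    exact this
  choose ψ hψ using fun v : V => exists_lift_functional (K := K) hτ (B.flip v)
  have hψ' : ∀ v (s : K) x, Algebra.trace F K (s * ψ v x) = B (s • x) v := fun v s x => by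
    rw [hψ, LinearMap.flip_apply]
  let φ : V →ₗ[K] V →ₗ[K] K :=
    LinearMap.mk₂ K (fun x v => ψ v x) (fun x y v => map_add _ x y) (fun k x v => map_smul _ k x)
      (fun x v w => hinjτ _ _ fun s => by rw [hψ', mul_add, map_add, map_add, hψ', hψ'])
      (fun k x v => hinjτ _ _ fun s => by
        rw [hψ', smul_eq_mul, ← mul_assoc, hψ', ← hsa, smul_smul, mul_comm])
  have hφ : ∀ x v, Algebra.trace F K (φ x v) = B x v := fun x v => by
    have := hψ' v 1 x
    rwa [one_mul, one_smul] at this
  refine ⟨φ, hφ, fun v => hinjτ _ _ fun s => ?_, fun x hx => hG.sep x fun y => by rw [← hφ, hx, map_zero]⟩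
  rw [show φ v v = ψ v v from rfl, hψ', mul_zero, map_zero]
  exact halt s v

include hG halt hsa in
/-- The stabiliser of the `K`-structure contains a symplectic group over `K`. -/
theorem card_dvd_isoms [Fintype K] (H : Subgroup (V ≃ₗ[F] V))
    (hH : ∀ g : V ≃ₗ[F] V, (∀ u v, B (g u) (g v) = B u v) → (∀ (a : K) v, g (a • v) = a • g v) → g ∈ H) :
    ∃ e, Module.finrank F V = Module.finrank F K * (2 * e) ∧
      Fintype.card K ^ (e ^ 2) * ∏ i ∈ Finset.range e, (Fintype.card K ^ (2 * (i + 1)) - 1) ∣ Nat.card H := by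
  classical
  haveI : FiniteDimensional K V := Module.Finite.of_restrictScalars_finite F K V
  obtain ⟨φ, hφ, hφa, hφs⟩ := exists_phi (K := K) hG halt hsa
  obtain ⟨e, he, hcard⟩ := CfsgLib.Classical.card_formIsoms_alt_aux _ φ hφa hφs rfl
  refine ⟨e, by rw [← he, Module.finrank_mul_finrank F K V], ?_⟩
  rw [← hcard]
  let ψ : formIsoms φ →* H :=
    { toFun := fun g => ⟨g.1.restrictScalars F, hH _ (fun u v => by
        rw [← hφ, ← hφ]; exact congrArg _ (g.2 u v)) fun a v => map_smul g.1 a v⟩
      map_one' := Subtype.ext (LinearEquiv.ext fun _ => rfl)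
      map_mul' := fun _ _ => Subtype.ext (LinearEquiv.ext fun _ => rfl) }
  exact Subgroup.card_dvd_of_injective ψ fun g h hgh => Subtype.ext (LinearEquiv.ext fun v =>
    LinearEquiv.congr_fun (congrArg Subtype.val hgh) v)

include hG halt hsa in
/-- In `K`-dimension two, a semilinear involution and a linear square root of `-1`. -/
theorem exists_two (hdim : Module.finrank F V = Module.finrank F K * 2) (σ : K ≃ₐ[F] K) (hσ : σ ≠ AlgEquiv.refl)
    (hσ2 : ∀ a, σ (σ a) = a) (hK : Module.finrank F K = 2) :
    (∃ y : V ≃ₗ[F] V, (∀ u v, B (y u) (y v) = B u v) ∧ (∀ (a : K) v, y (a • v) = σ a • y v) ∧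
      (∀ v, y (y v) = v) ∧ Module.finrank F ↥(LinearMap.ker (y.toLinearMap - 1)) = 2) ∧
    ∃ y : V ≃ₗ[F] V, (∀ u v, B (y u) (y v) = B u v) ∧ (∀ (a : K) v, y (a • v) = a • y v) ∧
      ∀ v, y (y v) = -v := by
  classical
  haveI : FiniteDimensional K V := Module.Finite.of_restrictScalars_finite F K V
  obtain ⟨φ, hφ, hφa, hφs⟩ := exists_phi (K := K) hG halt hsa
  have hK2 : Module.finrank K V = 2 := by
    have := Module.finrank_mul_finrank F K V
    rw [hdim, hK] at this
    omega
  haveI : Nontrivial V := Module.nontrivial_of_finrank_pos (R := K) (by omega)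
  obtain ⟨u, v, huv⟩ := exists_hyperbolic φ hφs
  have hvu : φ v u = -1 := by
    have h := hφa (u + v)
    simp only [map_add, LinearMap.add_apply, hφa, huv, zero_add, add_zero] at h
    linear_combination h
  let L : (K × K) →ₗ[K] V := (LinearMap.toSpanSingleton K V u).coprod (LinearMap.toSpanSingleton K V v)
  have hL : ∀ w, L w = w.1 • u + w.2 • v := fun w => rfl
  have hLi : Function.Injective L := (injective_iff_map_eq_zero L).2 fun w hw => by
    have h1 := congrArg (fun z => φ z v) hw
    have h2 := congrArg (fun z => φ u z) hw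
    simp only [hL, map_add, map_smul, LinearMap.add_apply, LinearMap.smul_apply, hφa, huv, smul_eq_mul, mul_one,
      mul_zero, add_zero, zero_add, map_zero, LinearMap.zero_apply] at h1 h2
    exact Prod.ext h1 h2
  let e : (K × K) ≃ₗ[K] V := LinearEquiv.ofBijective L ⟨hLi,
    (LinearMap.injective_iff_surjective_of_finrank_eq_finrank (by rw [hK2]; simp)).1 hLi⟩
  have he : ∀ w, e w = w.1 • u + w.2 • v := hL
  have hform : ∀ w z : K × K, φ (e w) (e z) = w.1 * z.2 - w.2 * z.1 := fun w z => by
    simp only [he, map_add, map_smul, LinearMap.add_apply, LinearMap.smul_apply, hφa, huv, hvu, smul_eq_mul]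
    ring
  constructor
  · let s : (K × K) ≃ₗ[F] (K × K) := σ.toLinearEquiv.prodCongr σ.toLinearEquiv
    have hs : ∀ w, s w = (σ w.1, σ w.2) := fun w => rfl
    obtain ⟨y, hy⟩ : ∃ y : V ≃ₗ[F] V, ∀ w, y (e w) = e (s w) :=
      ⟨((e.restrictScalars F).symm.trans s).trans (e.restrictScalars F), fun w => by simp⟩
    refine ⟨y, fun a b => ?_, fun a b => ?_, fun b => ?_, ?_⟩
    · obtain ⟨w, rfl⟩ := e.surjective a
      obtain ⟨z, rfl⟩ := e.surjective b
      rw [hy, hy, ← hφ, ← hφ, hform, hform, hs, hs]
      simp only [← map_mul, ← map_sub]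
      exact Algebra.trace_eq_of_algEquiv σ _
    · obtain ⟨w, rfl⟩ := e.surjective b
      rw [← map_smul, hy, hy, ← map_smul, hs, hs]
      simp
    · obtain ⟨w, rfl⟩ := e.surjective b
      rw [hy, hy, hs, hs, hσ2, hσ2]
    · let j : (F × F) →ₗ[F] V := (e.toLinearMap.restrictScalars F) ∘ₗ
        (Algebra.linearMap F K).prodMap (Algebra.linearMap F K)
      have hj : Function.Injective j := e.injective.comp fun a b h => by
        simp only [LinearMap.prodMap_apply, Algebra.linearMap_apply, Prod.mk.injEq] at h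
        exact Prod.ext ((algebraMap F K).injective h.1) ((algebraMap F K).injective h.2)
      have hr : LinearMap.ker (y.toLinearMap - 1) = LinearMap.range j := by
        refine le_antisymm (fun b hb => ?_) ?_
        · rw [LinearMap.mem_ker, LinearMap.sub_apply, sub_eq_zero, Module.End.one_apply] at hb
          obtain ⟨w, rfl⟩ := e.surjective b
          rw [LinearEquiv.coe_coe, hy, e.injective.eq_iff, hs] at hb
          have hfix : ∀ a : K, σ a = a → ∃ c : F, algebraMap F K c = a := fun a ha => by
            rcases (Subalgebra.isSimpleOrder_of_finrank_prime F K (hK ▸ Nat.prime_two)).eq_bot_or_eq_top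
              (AlgHom.equalizer σ.toAlgHom (AlgHom.id F K)) with h | h
            · have ha' : a ∈ AlgHom.equalizer σ.toAlgHom (AlgHom.id F K) := ha
              rw [h, Algebra.mem_bot] at ha'
              exact ha'
            · refine absurd (AlgEquiv.ext fun x => ?_) hσ
              exact (h ▸ Algebra.mem_top : x ∈ AlgHom.equalizer σ.toAlgHom (AlgHom.id F K))
          obtain ⟨c₁, h₁⟩ := hfix _ (congrArg Prod.fst hb)
          obtain ⟨c₂, h₂⟩ := hfix _ (congrArg Prod.snd hb)
          exact ⟨(c₁, c₂), congrArg e (Prod.ext h₁ h₂)⟩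
        · rintro _ ⟨w, rfl⟩
          rw [LinearMap.mem_ker, LinearMap.sub_apply, sub_eq_zero, Module.End.one_apply, LinearEquiv.coe_coe]
          show y (e _) = e _
          rw [hy, hs]
          simp
      rw [hr, LinearMap.finrank_range_of_inj hj, Module.finrank_prod, Module.finrank_self]
  · let s : (K × K) →ₗ[K] (K × K) := (-LinearMap.snd K K K).prod (LinearMap.fst K K K)
    have hs : ∀ w, s w = (-w.2, w.1) := fun w => rfl
    let s' : (K × K) ≃ₗ[K] (K × K) := LinearEquiv.ofBijective s
      ⟨fun a b h => by simp only [hs, Prod.mk.injEq, neg_inj] at h; exact Prod.ext h.2 h.1,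
        fun a => ⟨(a.2, -a.1), by simp [hs]⟩⟩
    obtain ⟨y, hy⟩ : ∃ y : V ≃ₗ[K] V, ∀ w, y (e w) = e (s w) :=
      ⟨(e.symm.trans s').trans e, fun w => by simp only [LinearEquiv.trans_apply, LinearEquiv.symm_apply_apply]; rfl⟩
    refine ⟨y.restrictScalars F, fun a b => ?_, fun a b => map_smul y a b, fun b => ?_⟩
    · obtain ⟨w, rfl⟩ := e.surjective a
      obtain ⟨z, rfl⟩ := e.surjective b
      rw [LinearEquiv.restrictScalars_apply, LinearEquiv.restrictScalars_apply, hy, hy, ← hφ, ← hφ, hform, hform,
        hs, hs]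
      congr 1
      ring
    · obtain ⟨w, rfl⟩ := e.surjective b
      rw [LinearEquiv.restrictScalars_apply, LinearEquiv.restrictScalars_apply, hy, hy, hs, hs, ← map_neg]
      rfl

end CfsgLib.MaxSub.ExtFixed
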