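import Cfsg.Agent.Lib.MaxSub.ExtMain
import Cfsg.Prelude.Def_GeometricClasses

/-!
Matrix form: the normaliser of a subfield of the matrix algebra is maximal.
-/

set_option autoImplicit false
set_option linter.unusedSectionVars false

namespace CfsgLib.MaxSub

open Matrix
open scoped MatrixGroups

variable {F : Type*} [Field F] [Fintype F] {n r : ℕ}

/-- matrices as linear automorphisms of `Fin n → F` -/
noncomputable def glEquiv (n : ℕ) (F : Type*) [Field F] :
    GL (Fin n) F ≃* ((Fin n → F) ≃ₗ[F] (Fin n → F)) :=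
  (Matrix.GeneralLinearGroup.toLin (n := Fin n) (R := F)).trans
    (LinearMap.GeneralLinearGroup.generalLinearEquiv F (Fin n → F))

theorem glEquiv_apply (g : GL (Fin n) F) (x : Fin n → F) :
    glEquiv n F g x = (g : Matrix (Fin n) (Fin n) F) *ᵥ x := rfl

theorem det_glEquiv (g : GL (Fin n) F) :
    LinearMap.det ((glEquiv n F g : (Fin n → F) ≃ₗ[F] (Fin n → F)) : (Fin n → F) →ₗ[F] Fin n → F)
      = (g : Matrix (Fin n) (Fin n) F).det := by
  rw [show ((glEquiv n F g : (Fin n → F) ≃ₗ[F] (Fin n → F)) : (Fin n → F) →ₗ[F] Fin n → F)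
    = Matrix.toLin' (g : Matrix (Fin n) (Fin n) F) from LinearMap.ext fun x => rfl,
    LinearMap.det_toLin']

theorem mem_specialLinear_iff_det {g : GL (Fin n) F} :
    g ∈ Cfsg.Geo.specialLinear (Fin n) F ↔ (g : Matrix (Fin n) (Fin n) F).det = 1 :=
  ⟨fun h => by
    have : Matrix.GeneralLinearGroup.det g = 1 := h
    simpa using congrArg Units.val this,
   fun h => show Matrix.GeneralLinearGroup.det g = 1 from Units.ext h⟩

/-- the facts about a field of matrices, abstractly -/
theorem extField_facts_aux {L : Type*} [Field L] [Algebra F L] [Finite L]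
    [Module L (Fin n → F)] [IsScalarTower F L (Fin n → F)] (hr : r.Prime) (hlt : r < n)
    (K : Subalgebra F (Matrix (Fin n) (Fin n) F)) (ι : L → Matrix (Fin n) (Fin n) F)
    (hι : ∀ k, ι k ∈ K) (hιinj : Function.Injective ι) (hιsurj : ∀ m ∈ K, ∃ k, ι k = m)
    (hsmul : ∀ (k : L) (x : Fin n → F), k • x = ι k *ᵥ x) (hfr : Module.finrank F L = r) :
    (∀ M : Subgroup (GL (Fin n) F),
      Cfsg.Geo.subalgebraNormalizer K ⊓ Cfsg.Geo.specialLinear (Fin n) F ≤ M →
      (∃ g ∈ M, g ∉ Cfsg.Geo.subalgebraNormalizer K) → Cfsg.Geo.specialLinear (Fin n) F ≤ M) ∧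
    (∃ g ∈ Cfsg.Geo.specialLinear (Fin n) F, g ∉ Cfsg.Geo.subalgebraNormalizer K) ∧
    (∀ c : Fˣ, ∃ g ∈ Cfsg.Geo.subalgebraNormalizer K, Matrix.GeneralLinearGroup.det g = c) := by
  classical
  have : NeZero n := ⟨by omega⟩
  have : Module.Finite F L := Module.Finite.of_finite
  have : Module.Finite L (Fin n → F) := Module.Finite.of_finite
  have hp : (Module.finrank F L).Prime := by rw [hfr]; exact hr
  have hmul : Module.finrank F L * Module.finrank L (Fin n → F) = n := by
    rw [Module.finrank_mul_finrank, Module.finrank_fin_fun]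
  have hd : 2 ≤ Module.finrank L (Fin n → F) := by
    by_contra h
    rw [hfr] at hmul
    have : r * Module.finrank L (Fin n → F) ≤ r * 1 := Nat.mul_le_mul_left r (by omega)
    omega
  -- semilinear maps are the normaliser
  have hiff : ∀ g : GL (Fin n) F,
      g ∈ Cfsg.Geo.subalgebraNormalizer K ↔ KSemi L (glEquiv n F g) := by
    intro g
    constructor
    · intro hg k
      obtain ⟨k', hk'⟩ := hιsurj _ ((hg (ι k)).mp (hι k))
      refine ⟨k', fun x => ?_⟩
      rw [glEquiv_apply, glEquiv_apply, hsmul, hsmul, mulVec_mulVec, mulVec_mulVec]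
      rw [hk', mul_assoc _ _ (g : Matrix (Fin n) (Fin n) F), ← Units.val_mul, inv_mul_cancel,
        Units.val_one, mul_one]
    · intro hg
      have hmem : ∀ k : L, (g : Matrix (Fin n) (Fin n) F) * ι k *
          ((g⁻¹ : GL (Fin n) F) : Matrix (Fin n) (Fin n) F) ∈ K := by
        intro k
        obtain ⟨k', hk'⟩ := hg k
        have : (g : Matrix (Fin n) (Fin n) F) * ι k = ι k' * g := by
          refine Matrix.ext_of_mulVec_single fun i => ?_
          have := hk' (Pi.single i 1)
          rw [glEquiv_apply, glEquiv_apply, hsmul, hsmul, mulVec_mulVec, mulVec_mulVec] at this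
          exact this
        rw [this, mul_assoc, ← Units.val_mul, mul_inv_cancel, Units.val_one, mul_one]
        exact hι k'
      choose f hf using fun k => hιsurj _ (hmem k)
      have hinj : Function.Injective f := by
        intro a b hab
        have := congrArg ι hab
        rw [hf, hf] at this
        apply hιinj
        have := congrArg (fun z => ((g⁻¹ : GL (Fin n) F) : Matrix (Fin n) (Fin n) F) *
          z * (g : Matrix (Fin n) (Fin n) F)) this
        simpa [mul_assoc] using this
      intro k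
      refine ⟨fun hk => ?_, fun hk => ?_⟩
      · obtain ⟨k₀, rfl⟩ := hιsurj k hk
        exact hmem k₀
      · obtain ⟨k₁, hk₁⟩ := hιsurj _ hk
        obtain ⟨k₀, rfl⟩ := Finite.surjective_of_injective hinj k₁
        rw [hf] at hk₁
        have := congrArg (fun z => ((g⁻¹ : GL (Fin n) F) : Matrix (Fin n) (Fin n) F) *
          z * (g : Matrix (Fin n) (Fin n) F)) hk₁
        simp [mul_assoc] at this
        exact this ▸ hι k₀
  refine ⟨?_, ?_, ?_⟩
  · intro M hNM ⟨g, hgM, hgN⟩
    set M' := M.map (glEquiv n F).toMonoidHom with hM'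
    have hM : ExtHyp L M' := by
      intro g' hg' hdet
      refine ⟨(glEquiv n F).symm g', hNM ⟨?_, ?_⟩, (glEquiv n F).apply_symm_apply g'⟩
      · show (glEquiv n F).symm g' ∈ Cfsg.Geo.subalgebraNormalizer K
        rw [hiff, MulEquiv.apply_symm_apply]; exact hg'
      · show (glEquiv n F).symm g' ∈ Cfsg.Geo.specialLinear (Fin n) F
        rw [mem_specialLinear_iff_det, ← det_glEquiv, MulEquiv.apply_symm_apply]
        exact hdet
    have hex : ∃ g' ∈ M', ¬ KSemi L g' :=
      ⟨glEquiv n F g, ⟨g, hgM, rfl⟩, fun h => hgN ((hiff g).mpr h)⟩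
    refine specialLinear_le_of_forall_center fun a φ _ hφa => ?_
    let Φ : (Fin n → F) →ₗ[F] F :=
      { toFun := fun x => φ ⬝ᵥ x
        map_add' := fun x y => dotProduct_add _ _ _
        map_smul' := fun c x => dotProduct_smul c _ _ }
    obtain ⟨g', ⟨g₀, hg₀, rfl⟩, hgx⟩ := ftv_mem (K := L) hM hp hd hex Φ a hφa
    refine ⟨hφa, g₀, hg₀, Matrix.ext_of_mulVec_single fun i => ?_⟩
    rw [tvMat_mulVec]
    exact hgx (Pi.single i 1)
  · obtain ⟨Φ, a, -, hΦa, hnot⟩ := exists_not_kSemi (F := F) (K := L) (V := Fin n → F)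
      hp.one_lt hd
    set φ : Fin n → F := fun i => Φ (Pi.single i 1) with hφ
    have hΦ : ∀ x, φ ⬝ᵥ x = Φ x := fun x => by
      conv_rhs => rw [pi_eq_sum_univ' x, map_sum]
      refine Finset.sum_congr rfl fun i _ => ?_
      rw [map_smul, smul_eq_mul, mul_comm, hφ]
    have h0 : φ ⬝ᵥ a = 0 := by rw [hΦ, hΦa]
    refine ⟨tvGL a φ h0, tvGL_mem_specialLinear a φ h0, fun h => hnot _ (fun x => ?_) ((hiff _).mp h)⟩
    rw [glEquiv_apply, coe_tvGL, tvMat_mulVec, hΦ]
  · intro c
    obtain ⟨ν, hν⟩ := FiniteField.norm_surjective F L (c : F)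
    have hν0 : ν ≠ 0 := fun e => c.ne_zero (by rw [← hν, e, Algebra.norm_zero])
    have : Nontrivial (Fin n → F) := inferInstance
    obtain ⟨a, ha⟩ := exists_ne (0 : Fin n → F)
    obtain ⟨ψ, hψ, -⟩ := exists_dual_one (K := L) (p := ⊥) (x := a) (by simpa using ha)
    let T := LinearMap.transvection ((ν - 1) • ψ) a
    have hdetK : LinearMap.det T = ν := by
      rw [LinearMap.transvection.det]
      simp [hψ]
    have hdetF : LinearMap.det (T.restrictScalars F) = (c : F) := by
      rw [LinearMap.det_restrictScalars, hdetK, hν]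
    have hA : (LinearMap.toMatrix' (T.restrictScalars F)).det = (c : F) := by
      rw [LinearMap.det_toMatrix', hdetF]
    refine ⟨Matrix.GeneralLinearGroup.mkOfDetNeZero _ (hA ▸ c.ne_zero), ?_, Units.ext hA⟩
    rw [hiff]
    refine fun k => ⟨k, fun x => ?_⟩
    rw [glEquiv_apply, glEquiv_apply, Matrix.GeneralLinearGroup.val_mkOfDetNeZero,
      LinearMap.toMatrix'_mulVec, LinearMap.toMatrix'_mulVec]
    exact T.map_smul k x

/-- the field structure on a field subalgebra lives on this copy -/
def MatField (K : Subalgebra F (Matrix (Fin n) (Fin n) F)) : Type _ := ↥K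

theorem isField_matField (hlt : 0 < n) (K : Subalgebra F (Matrix (Fin n) (Fin n) F))
    (hK : Cfsg.Geo.IsFieldSubalgebra r K) : IsField K := by
  have : NeZero n := ⟨by omega⟩
  exact
    { exists_pair_ne := ⟨0, 1, zero_ne_one⟩
      mul_comm := fun x y => Subtype.ext (hK.comm x x.2 y y.2)
      mul_inv_cancel := fun {a} ha => by
        obtain ⟨y, hy, hxy⟩ := hK.inv a a.2 fun e => ha (Subtype.ext e)
        exact ⟨⟨y, hy⟩, Subtype.ext hxy⟩ }

/-- the facts about a subfield of the matrix algebra of prime degree, below the dimension -/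
theorem extField_facts (hr : r.Prime) (hlt : r < n)
    (K : Subalgebra F (Matrix (Fin n) (Fin n) F)) (hK : Cfsg.Geo.IsFieldSubalgebra r K) :
    (∀ M : Subgroup (GL (Fin n) F),
      Cfsg.Geo.subalgebraNormalizer K ⊓ Cfsg.Geo.specialLinear (Fin n) F ≤ M →
      (∃ g ∈ M, g ∉ Cfsg.Geo.subalgebraNormalizer K) → Cfsg.Geo.specialLinear (Fin n) F ≤ M) ∧
    (∃ g ∈ Cfsg.Geo.specialLinear (Fin n) F, g ∉ Cfsg.Geo.subalgebraNormalizer K) ∧
    (∀ c : Fˣ, ∃ g ∈ Cfsg.Geo.subalgebraNormalizer K, Matrix.GeneralLinearGroup.det g = c) := by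
  letI : Field (MatField K) := (isField_matField (by omega) K hK).toField
  letI : Algebra F (MatField K) := (inferInstance : Algebra F ↥K)
  letI : Module (MatField K) (Fin n → F) := Module.compHom (Fin n → F)
    (((Matrix.toLinAlgEquiv' : Matrix (Fin n) (Fin n) F ≃ₐ[F] _).toRingEquiv.toRingHom.comp
      K.val.toRingHom : ↥K →+* Module.End F (Fin n → F)) :
      MatField K →+* Module.End F (Fin n → F))
  have : Finite (MatField K) := (inferInstance : Finite ↥K)
  have : IsScalarTower F (MatField K) (Fin n → F) := ⟨fun c k x => by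
    show (c • (k : ↥K) : ↥K).1 *ᵥ x = c • ((k : ↥K).1 *ᵥ x)
    exact Matrix.smul_mulVec c (k : ↥K).1 x⟩
  exact extField_facts_aux (L := MatField K) hr hlt K (fun k => (k : ↥K).1) (fun k => (k : ↥K).2)
    (fun a b h => Subtype.ext h) (fun m hm => ⟨(⟨m, hm⟩ : ↥K), rfl⟩) (fun k x => rfl)
    hK.finrank_eq

end CfsgLib.MaxSub
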