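import Cfsg.Agent.Lib.MaxSub.ExtBig

/-!
Overgroups of the semilinear group of a field extension: dimension two, generic case.
-/

set_option autoImplicit false
set_option linter.unusedSectionVars false

namespace CfsgLib.MaxSub

variable {F K V : Type*} [Field F] [Field K] [Algebra F K] [AddCommGroup V] [Module K V]
  [Module F V] [IsScalarTower F K V] {M : Subgroup (V ≃ₗ[F] V)}

/-- in dimension two the kernel of a non-zero functional is a line -/
theorem exists_coords [Module.Finite K V] (hd : Module.finrank K V = 2) {v : V} (hv : v ≠ 0) :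
    ∃ (b : V) (φ ψ : V →ₗ[K] K), φ v = 0 ∧ φ b = 1 ∧ ψ v = 1 ∧ ψ b = 0 ∧
      ∀ x, x = ψ x • v + φ x • b := by
  have hne : Submodule.span K {v} ≠ ⊤ := fun e => by
    have := congrArg (fun p : Submodule K V => Module.finrank K p) e
    simp only [finrank_span_singleton hv, finrank_top] at this
    omega
  obtain ⟨b, hb⟩ := exists_notMem_of_ne_top hne
  obtain ⟨φ, hφb, hφ⟩ := exists_dual_one hb
  have hb0 : b ≠ 0 := fun e => hb (e ▸ zero_mem _)
  have hv' : v ∉ Submodule.span K {b} := by
    intro h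
    obtain ⟨c, hc⟩ := Submodule.mem_span_singleton.mp h
    have hc0 : c ≠ 0 := fun e => hv (by rw [← hc, e, zero_smul])
    exact hb (Submodule.mem_span_singleton.mpr ⟨c⁻¹, by rw [← hc, inv_smul_smul₀ hc0]⟩)
  obtain ⟨ψ, hψv, hψ⟩ := exists_dual_one hv'
  have hφv := hφ _ (Submodule.mem_span_singleton_self v)
  have hψb := hψ _ (Submodule.mem_span_singleton_self b)
  refine ⟨b, φ, ψ, hφv, hφb, hψv, hψb, fun x => ?_⟩
  have htop : Submodule.span K ({v, b} : Set V) = ⊤ := by
    apply Submodule.eq_top_of_finrank_eq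
    have hlt : Submodule.span K {v} < Submodule.span K ({v, b} : Set V) :=
      lt_of_le_of_ne (Submodule.span_mono (by simp)) fun e =>
        hb (e ▸ Submodule.subset_span (by simp))
    have h1 := Submodule.finrank_lt_finrank_of_lt hlt
    have h2 := Submodule.finrank_le (Submodule.span K ({v, b} : Set V))
    rw [finrank_span_singleton hv] at h1
    omega
  obtain ⟨α, β, rfl⟩ := Submodule.mem_span_pair.mp (htop.symm ▸ Submodule.mem_top (x := x))
  simp [hφv, hφb, hψv, hψb]

/-- an element stabilising a line transports root elements -/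
theorem conj_line [Module.Finite K V] [Module.Finite F K] [Finite K] (hM : ExtHyp K M)
    {v b : V} {φ ψ : V →ₗ[K] K} (hv : v ≠ 0) (hφv : φ v = 0) (hφb : φ b = 1)
    (hco : ∀ x, x = ψ x • v + φ x • b) {g : V ≃ₗ[F] V} (hg : g ∈ M)
    (A : K →ₗ[F] K) (hA : ∀ s : K, g (s • v) = A s • v) :
    ∃ D : K →ₗ[F] K, Function.Bijective D ∧ (∀ s, D s = φ (g⁻¹ (s • b))) ∧
      ∀ k : K, InExt M φ v (A ∘ₗ LinearMap.mulLeft F k ∘ₗ D) := by
  let D : K →ₗ[F] K := (φ.restrictScalars F) ∘ₗ (g⁻¹ : V ≃ₗ[F] V).toLinearMap ∘ₗ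
    ((LinearMap.toSpanSingleton K V b).restrictScalars F)
  have hD : ∀ s, D s = φ (g⁻¹ (s • b)) := fun s => rfl
  have hAinj : Function.Injective A := fun s t e => by
    have : g (s • v) = g (t • v) := by rw [hA, hA, e]
    exact smul_left_injective K hv (g.injective this)
  have hinv : ∀ s : K, φ (g⁻¹ (s • v)) = 0 := by
    intro s
    obtain ⟨t, rfl⟩ := Finite.surjective_of_injective hAinj s
    rw [← hA, inv_apply_apply, map_smul, hφv, smul_zero]
  have hDinj : Function.Injective D := by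
    rw [← LinearMap.ker_eq_bot, LinearMap.ker_eq_bot']
    intro s hs
    have h1 := hco (g⁻¹ (s • b))
    rw [← hD, hs, zero_smul, add_zero] at h1
    have h2 := congrArg (fun x => φ (g x)) h1
    simp only [apply_inv_apply, map_smul, hφb, hA, hφv, smul_eq_mul, mul_one, mul_zero] at h2
    exact h2
  refine ⟨D, ⟨hDinj, Finite.surjective_of_injective hDinj⟩, hD, fun k => ?_⟩
  obtain ⟨u, hu, hux⟩ := transvection_mem hM (φ := k • φ) (a := v) (by simp [hφv])
  refine ⟨g * u * g⁻¹, mul_mem (mul_mem hg hu) (inv_mem hg), fun x => ?_⟩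
  show g (u (g⁻¹ x)) = _
  rw [hux, map_add, apply_inv_apply, hA]
  congr 2
  show A ((k • φ) (g⁻¹ x)) = A (k * D (φ x))
  rw [LinearMap.smul_apply, smul_eq_mul, hD]
  congr 2
  conv_lhs => rw [hco x, map_add, map_add, hinv, zero_add]

/-- the subfield generated by the elements of norm one -/
theorem eq_top_of_norm_one [Finite K] [Fintype F] [Module.Finite F K]
    (hp : (Module.finrank F K).Prime) (L : Subring K)
    (h : ∀ x : K, x ≠ 0 → x ^ (Fintype.card F - 1) ∈ L) : L = ⊤ := by
  classical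
  have : Fintype K := Fintype.ofFinite K
  let L' : Subfield K :=
    { toSubring := L
      inv_mem' := fun x hx => by
        rcases eq_or_ne x 0 with rfl | hx0
        · rw [inv_zero]; exact zero_mem L
        · have h1 := FiniteField.pow_card_sub_one_eq_one x hx0
          have h2 : 2 ≤ Fintype.card K := Fintype.one_lt_card
          rw [show Fintype.card K - 1 = Fintype.card K - 2 + 1 by omega, pow_succ] at h1
          rw [← eq_inv_of_mul_eq_one_left h1]
          exact (pow_mem (show x ∈ L from hx) _ : _ ∈ L) }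
  by_contra hne
  have hcardK : Nat.card K = Nat.card L' ^ Module.finrank L' K := Module.natCard_eq_pow_finrank
  have hm2 : 2 ≤ Module.finrank L' K := by
    by_contra hlt
    have h1 : Module.finrank L' K = 1 := by
      have := Module.finrank_pos (R := L') (M := K)
      omega
    rw [h1, pow_one] at hcardK
    apply hne
    have : (L : Set K) = Set.univ := by
      refine Set.eq_of_subset_of_ncard_le (Set.subset_univ _) ?_
      rw [Set.ncard_univ, hcardK, ← Nat.card_coe_set_eq]
      rfl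
    exact SetLike.coe_injective (by simpa using this)
  have hQ : Nat.card L' ^ 2 ≤ Nat.card K := by
    rw [hcardK]; exact Nat.pow_le_pow_right Nat.card_pos hm2
  have hq : Fintype.card F ^ 2 ≤ Nat.card K := by
    rw [Module.natCard_eq_pow_finrank (K := F), Nat.card_eq_fintype_card]
    exact Nat.pow_le_pow_right Fintype.card_pos hp.two_le
  set S : Finset K := Finset.univ.filter (· ≠ 0) with hS
  have hcount : S.card ≤ (Fintype.card F - 1) * (S.image (· ^ (Fintype.card F - 1))).card := by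
    refine Finset.card_le_mul_card_image S _ fun y _ => ?_
    calc (S.filter fun x => x ^ (Fintype.card F - 1) = y).card
        ≤ (Polynomial.nthRoots (Fintype.card F - 1) y).toFinset.card := by
          refine Finset.card_le_card fun x hx => ?_
          have := (Finset.mem_filter.mp hx).2
          rw [Multiset.mem_toFinset, Polynomial.mem_nthRoots]
          · exact this
          · have : 2 ≤ Fintype.card F := Fintype.one_lt_card
            omega
      _ ≤ _ := (Multiset.toFinset_card_le _).trans (Polynomial.card_nthRoots _ _)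
  have himg : (S.image (· ^ (Fintype.card F - 1))).card ≤ Nat.card L' - 1 := by
    have hsub : S.image (· ^ (Fintype.card F - 1)) ⊆
        (Finset.univ.filter (fun y => y ∈ L')).erase 0 := by
      intro y hy
      obtain ⟨x, hx, rfl⟩ := Finset.mem_image.mp hy
      have hx0 : x ≠ 0 := (Finset.mem_filter.mp hx).2
      exact Finset.mem_erase.mpr ⟨pow_ne_zero _ hx0,
        Finset.mem_filter.mpr ⟨Finset.mem_univ _, h x hx0⟩⟩
    refine (Finset.card_le_card hsub).trans (le_of_eq ?_)
    rw [Finset.card_erase_of_mem (by simp), Nat.card_eq_fintype_card, Fintype.card_subtype]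
  have hScard : S.card = Nat.card K - 1 := by
    rw [hS, Finset.filter_ne', Finset.card_erase_of_mem (Finset.mem_univ _), Finset.card_univ,
      Nat.card_eq_fintype_card]
  have h3 := hcount.trans (Nat.mul_le_mul_left _ himg)
  rw [hScard] at h3
  have hL2 : 2 ≤ Nat.card L' := Finite.one_lt_card
  have hF2 : 2 ≤ Fintype.card F := Fintype.one_lt_card
  obtain ⟨a, ha⟩ : ∃ a, Fintype.card F = a + 2 := ⟨_, (Nat.sub_add_cancel hF2).symm⟩
  obtain ⟨c, hc⟩ : ∃ c, Nat.card L' = c + 2 := ⟨_, (Nat.sub_add_cancel hL2).symm⟩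
  rw [ha, hc, show a + 2 - 1 = a + 1 from rfl, show c + 2 - 1 = c + 1 from rfl] at h3
  rw [ha] at hq
  rw [hc] at hQ
  have h4 : (a + 1) * (c + 1) + 2 ≤ Nat.card K := by
    rcases le_total a c with hac | hac <;> nlinarith
  omega

/-- left multiplications preserve the root elements on a line -/
theorem InExt.mul_left_plane [Finite K] [Finite F] [Module.Finite K V] [Module.Finite F K]
    (hM : ExtHyp K M) (hp : (Module.finrank F K).Prime) {v b : V} {φ ψ : V →ₗ[K] K}
    (hφv : φ v = 0) (hψv : ψ v = 1) (μ : K) {f : K →ₗ[F] K} (hf : InExt M φ v f) :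
    InExt M φ v (LinearMap.mulLeft F μ ∘ₗ f) := by
  classical
  have : Fintype F := Fintype.ofFinite F
  let L : Subring K :=
    { carrier := {ν | ∀ f, InExt M φ v f → InExt M φ v (LinearMap.mulLeft F ν ∘ₗ f)}
      mul_mem' := fun {x y} hx hy f hf => by
        have : LinearMap.mulLeft F (x * y) ∘ₗ f =
            LinearMap.mulLeft F x ∘ₗ (LinearMap.mulLeft F y ∘ₗ f) := by
          ext s; simp [mul_assoc]
        rw [this]; exact hx _ (hy _ hf)
      one_mem' := fun f hf => by
        rwa [show LinearMap.mulLeft F (1 : K) ∘ₗ f = f by ext s; simp]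
      add_mem' := fun {x y} hx hy f hf => by
        rw [show LinearMap.mulLeft F (x + y) ∘ₗ f =
          LinearMap.mulLeft F x ∘ₗ f + LinearMap.mulLeft F y ∘ₗ f by ext s; simp [add_mul]]
        exact (hx _ hf).add (hy _ hf) hφv
      zero_mem' := fun f hf => by
        rw [show LinearMap.mulLeft F (0 : K) ∘ₗ f = 0 by ext s; simp]
        exact InExt.zero
      neg_mem' := fun {x} hx f hf => by
        rw [show LinearMap.mulLeft F (-x) ∘ₗ f = -(LinearMap.mulLeft F x ∘ₗ f) by ext s; simp]
        exact (hx _ hf).neg hφv }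
  suffices L = ⊤ from (this ▸ Subring.mem_top μ : μ ∈ L) f hf
  refine eq_top_of_norm_one hp L fun x hx f hf => ?_
  set ν := x ^ (Fintype.card F - 1) with hν
  have hν0 : ν ≠ 0 := pow_ne_zero _ hx
  let h : V ≃ₗ[K] V := LinearEquiv.ofLinear (LinearMap.transvection ((ν - 1) • ψ) v)
    (LinearMap.transvection ((ν⁻¹ - 1) • ψ) v)
    (LinearMap.ext fun y => by
      simp only [LinearMap.comp_apply, LinearMap.id_apply, LinearMap.transvection.apply,
        LinearMap.smul_apply, smul_eq_mul, map_add, map_smul, hψv, add_assoc, ← add_smul]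
      match_scalars <;> field_simp <;> ring)
    (LinearMap.ext fun y => by
      simp only [LinearMap.comp_apply, LinearMap.id_apply, LinearMap.transvection.apply,
        LinearMap.smul_apply, smul_eq_mul, map_add, map_smul, hψv, add_assoc, ← add_smul]
      match_scalars <;> field_simp <;> ring)
  have hh : h.restrictScalars F ∈ M := by
    refine memK hM h ?_
    show Algebra.norm F (LinearMap.det (LinearMap.transvection ((ν - 1) • ψ) v)) = 1
    rw [LinearMap.transvection.det, LinearMap.smul_apply, hψv, smul_eq_mul, mul_one,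
      add_sub_cancel, hν, map_pow]
    refine FiniteField.pow_card_sub_one_eq_one _ ?_
    rw [Ne, Algebra.norm_eq_zero_iff]
    exact hx
  have h1 := hf.conj hh
  have e1 : h v = ν • v := by
    show v + (((ν - 1) • ψ) v) • v = ν • v
    rw [LinearMap.smul_apply, hψv, smul_eq_mul, mul_one, sub_smul, one_smul, add_sub_cancel]
  have e2 : φ ∘ₗ (h.symm : V →ₗ[K] V) = φ := LinearMap.ext fun y => by
    show φ (y + ((ν⁻¹ - 1) • ψ) y • v) = φ y
    simp [hφv]
  rw [e1, e2] at h1
  exact (inExt_smul_left ν).mp h1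

/-- generic plane case at a single line: either all root elements, or the tiny case -/
theorem inExt_plane_or [Finite K] [Finite F] [Module.Finite K V] [Module.Finite F K]
    (hM : ExtHyp K M) (hp : (Module.finrank F K).Prime) (hd : Module.finrank K V = 2)
    (hg : ∃ g ∈ M, ¬ KSemi K g) {v b : V} {φ ψ : V →ₗ[K] K} (hv : v ≠ 0) (hφv : φ v = 0)
    (hφb : φ b = 1) (hψv : ψ v = 1) (hco : ∀ x, x = ψ x • v + φ x • b) :
    (∀ f : K →ₗ[F] K, InExt M φ v f) ∨ (Nat.card F = 2 ∧ Nat.card K = 4) := by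
  classical
  have : Finite V := Module.finite_of_finite K
  obtain ⟨g₀, hg₀, hns⟩ := hg
  obtain ⟨v₀, hv₀⟩ : ∃ v₀, ¬ LineTo K g₀ v₀ := by
    by_contra hall
    simp only [not_exists, not_not] at hall
    exact hns (kSemi_of_lineTo (by omega) hall)
  have hv₀0 : v₀ ≠ 0 := by rintro rfl; exact hv₀ fun k => ⟨0, by simp⟩
  obtain ⟨h₁, hh₁, h1v⟩ := exists_move hM (by omega) hv hv₀0
  obtain ⟨h₂, hh₂, h2v⟩ := exists_move hM (by omega)
    (show g₀ v₀ ≠ 0 from fun e => hv₀0 (g₀.map_eq_zero_iff.mp e)) hv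
  set g₁ := h₂.restrictScalars F * g₀ * h₁.restrictScalars F with hg₁
  have hg₁M : g₁ ∈ M := mul_mem (mul_mem hh₂ hg₀) hh₁
  have hg₁v : g₁ v = v := by show h₂ (g₀ (h₁ v)) = v; rw [h1v, h2v]
  have hg₁l : ¬ LineTo K g₁ v := by
    intro hl
    apply hv₀
    intro k
    obtain ⟨k', hk'⟩ := hl k
    refine ⟨k', h₂.injective ?_⟩
    rw [hg₁v] at hk'
    rw [h₂.map_smul, h2v, ← h1v, ← h₁.map_smul]
    exact hk'
  let I : (V ≃ₗ[F] V) → Set K := fun g => {k | φ (g (k • v)) = 0}
  obtain ⟨g, ⟨hgM, hgl, k₀, hk₀0, hk₀⟩, hmax⟩ := Set.exists_max_image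
    {g : V ≃ₗ[F] V | g ∈ M ∧ ¬ LineTo K g v ∧ ∃ k : K, k ≠ 0 ∧ φ (g (k • v)) = 0}
    (fun g => (I g).ncard) (by
      have : Finite (V ≃ₗ[F] V) :=
        Finite.of_injective (fun g => (g : V → V)) DFunLike.coe_injective
      exact Set.toFinite _) ⟨g₁, hg₁M, hg₁l, 1, one_ne_zero, by rw [one_smul, hg₁v, hφv]⟩
  have honline : ∀ x, φ x = 0 → x = ψ x • v := fun x hx => by
    conv_lhs => rw [hco x, hx, zero_smul, add_zero]
  let θ : K →ₗ[F] K := (φ.restrictScalars F) ∘ₗ g.toLinearMap ∘ₗ
    ((LinearMap.toSpanSingleton K V v).restrictScalars F)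
  have hθ : ∀ k : K, θ k = φ (g (k • v)) := fun k => rfl
  let W : Submodule F K := LinearMap.ker ((φ.restrictScalars F) ∘ₗ
    (g⁻¹ : V ≃ₗ[F] V).toLinearMap ∘ₗ ((LinearMap.toSpanSingleton K V v).restrictScalars F))
  have hW : ∀ w : K, w ∈ W ↔ φ (g⁻¹ (w • v)) = 0 := fun w => Iff.rfl
  have hIW : ∀ k : K, φ (g (k • v)) = 0 → ∃ w ∈ W, g⁻¹ (w • v) = k • v := by
    intro k hk
    refine ⟨ψ (g (k • v)), ?_, ?_⟩
    · rw [hW, ← honline _ hk, inv_apply_apply, map_smul, hφv, smul_zero]
    · rw [← honline _ hk, inv_apply_apply]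
  obtain ⟨w₀, hw₀W, hw₀⟩ := hIW k₀ hk₀
  have hW0 : W ≠ ⊥ := by
    intro e
    have : w₀ = 0 := by rw [e] at hw₀W; simpa using hw₀W
    rw [this, zero_smul, map_zero, eq_comm, smul_eq_zero] at hw₀
    exact hw₀.elim hk₀0 hv
  have hWtop : W ≠ ⊤ := by
    intro e
    apply hgl
    have hall : ∀ w : K, ∃ k, g⁻¹ (w • v) = k • v := fun w =>
      ⟨_, honline _ ((hW w).mp (e ▸ Submodule.mem_top))⟩
    choose σ hσ using hall
    have hinj : Function.Injective σ := fun s t hst => by
      have : g⁻¹ (s • v) = g⁻¹ (t • v) := by rw [hσ, hσ, hst]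
      exact smul_left_injective K hv ((g⁻¹).injective this)
    have hfwd : ∀ k : K, ∃ w : K, g (k • v) = w • v := fun k => by
      obtain ⟨w, rfl⟩ := Finite.surjective_of_injective hinj k
      exact ⟨w, by rw [← hσ, apply_inv_apply]⟩
    intro k
    obtain ⟨w, hw⟩ := hfwd k
    obtain ⟨w₁, hw₁⟩ := hfwd 1
    rw [one_smul] at hw₁
    have hw₁0 : w₁ ≠ 0 := fun e' => hv (g.map_eq_zero_iff.mp (by rw [hw₁, e', zero_smul]))
    exact ⟨w * w₁⁻¹, by rw [hw₁, smul_smul, inv_mul_cancel_right₀ hw₁0, hw]⟩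
  obtain ⟨k₁, hk₁⟩ : ∃ k₁, θ k₁ ≠ 0 := by
    by_contra hall
    simp only [not_exists, not_not] at hall
    apply hgl
    intro k
    have hg1 := honline (g ((1 : K) • v)) (hall 1)
    rw [one_smul] at hg1
    have h10 : ψ (g v) ≠ 0 := fun e => hv (g.map_eq_zero_iff.mp (by rw [hg1, e, zero_smul]))
    refine ⟨ψ (g (k • v)) * (ψ (g v))⁻¹, ?_⟩
    calc g (k • v) = ψ (g (k • v)) • v := honline _ (hall k)
      _ = (ψ (g (k • v)) * (ψ (g v))⁻¹) • ψ (g v) • v := by
          rw [smul_smul, inv_mul_cancel_right₀ h10]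
      _ = _ := by rw [← hg1]
  -- the elements fixing the line
  have helem : ∀ w ∈ W, ∃ g₂ ∈ M, ∀ k : K,
      g₂ (k • v) = k • v + g⁻¹ ((θ k * (w / θ k₁)) • v) ∧
      φ (g₂ (k • v)) = 0 := by
    intro w hw
    obtain ⟨t, ht, htx⟩ := transvection_mem hM (φ := φ) (a := (w / θ k₁) • v) (by simp [hφv])
    refine ⟨g⁻¹ * t * g, mul_mem (mul_mem (inv_mem hgM) ht) hgM, ?_⟩
    set g₂ := g⁻¹ * t * g with hg₂
    have hval : ∀ k : K, g₂ (k • v) = k • v + g⁻¹ ((θ k * (w / θ k₁)) • v) := fun k => by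
      show g⁻¹ (t (g (k • v))) = _
      rw [htx, map_add, inv_apply_apply, smul_smul, ← hθ]
    intro k
    refine ⟨hval k, ?_⟩
    have hk0v : g₂ (k₀ • v) = k₀ • v := by
      rw [hval, show θ k₀ = 0 from hk₀, zero_mul, zero_smul, map_zero, add_zero]
    by_contra hk
    have hline : ¬ LineTo K g₂ v := by
      intro hl
      obtain ⟨c₀, hc₀⟩ := hl k₀
      obtain ⟨c, hc⟩ := hl k
      rw [hk0v] at hc₀
      have h0 : φ (g₂ v) = 0 := by
        have := congrArg φ hc₀
        rw [map_smul, hφv, smul_zero, map_smul, smul_eq_mul, eq_comm, mul_eq_zero] at this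
        refine this.resolve_left fun e => ?_
        rw [e, zero_smul, smul_eq_zero] at hc₀
        exact hc₀.elim hk₀0 hv
      exact hk (by rw [hc, map_smul, h0, smul_zero])
    have hsub : insert k₁ (I g) ⊆ I g₂ := by
      rintro j (rfl | hj)
      · show φ (g₂ (j • v)) = 0
        rw [hval, mul_div_cancel₀ w hk₁, map_add, map_smul, hφv, smul_zero, zero_add]
        exact (hW w).mp hw
      · show φ (g₂ (j • v)) = 0
        rw [hval, show θ j = 0 from hj, zero_mul, zero_smul, map_zero, add_zero, map_smul, hφv,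
          smul_zero]
    have h1 := Set.ncard_le_ncard hsub
    rw [Set.ncard_insert_of_notMem (show k₁ ∉ I g from hk₁)] at h1
    have h2 := hmax g₂ ⟨mul_mem (mul_mem (inv_mem hgM) ht) hgM, hline, k₀, hk₀0, by
      rw [hk0v, map_smul, hφv, smul_zero]⟩
    omega
  -- the functional has rank one
  have hrk : ∀ k, ∃ c : F, θ k = c • θ k₁ := by
    intro k
    by_contra hne
    refine hWtop (eq_top_of_stable hp hW0 (x := θ k / θ k₁) ?_ fun w hw => ?_)
    · rintro ⟨c, hc⟩
      exact hne ⟨c, by rw [Algebra.smul_def, hc, div_mul_cancel₀ _ hk₁]⟩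
    · obtain ⟨g₂, -, hg₂⟩ := helem w hw
      obtain ⟨h1, h2⟩ := hg₂ k
      rw [h1, map_add, map_smul, hφv, smul_zero, zero_add] at h2
      rw [hW, show θ k / θ k₁ * w = θ k * (w / θ k₁) by ring]
      exact h2
  obtain ⟨ρ, hρ, -⟩ := exists_dual_one (K := F) (p := ⊥) (x := θ k₁) (by simpa using hk₁)
  set τ := ρ ∘ₗ θ with hτdef
  have hτ : ∀ k, θ k = τ k • θ k₁ := fun k => by
    obtain ⟨c, hc⟩ := hrk k
    show θ k = ρ (θ k) • θ k₁
    rw [hc, map_smul, hρ, smul_eq_mul, mul_one]
  have hτ0 : τ ≠ 0 := fun e => hk₁ (by simpa [e] using hτ k₁)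
  have hker : ∀ k : K, τ k = 0 → φ (g (k • v)) = 0 := fun k hk => by
    rw [← hθ, hτ k, hk, zero_smul]
  -- root elements from the elements fixing the line
  have hroot : ∀ a, τ a = 0 → ∃ D : K →ₗ[F] K, Function.Bijective D ∧
      ∀ k : K, InExt M φ v ((LinearMap.id + τ.smulRight a) ∘ₗ LinearMap.mulLeft F k ∘ₗ D) := by
    intro a ha
    obtain ⟨w, hw, hwa⟩ := hIW a (hker a ha)
    obtain ⟨g₂, hg₂M, hg₂⟩ := helem w hw
    obtain ⟨D, hD, -, hDk⟩ := conj_line hM hv hφv hφb hco hg₂M (LinearMap.id + τ.smulRight a)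
      (fun s => by
        rw [(hg₂ s).1, hτ s, smul_mul_assoc, mul_div_cancel₀ w hk₁, smul_assoc, map_smul, hwa,
          LinearMap.add_apply, LinearMap.id_apply, LinearMap.smulRight_apply, add_smul, smul_assoc])
    exact ⟨D, hD, hDk⟩
  by_cases hpair : ∃ a a' : K, τ a = 0 ∧ τ a' = 0 ∧ a ≠ 0 ∧ a' ≠ 0 ∧ a ≠ a'
  · left
    obtain ⟨a, a', ha, ha', ha0, ha'0, hne⟩ := hpair
    let R : K → (K →ₗ[F] K) := fun c => τ.smulRight c
    let X : K → AddSubgroup (K →ₗ[F] K) := fun c => AddSubgroup.closure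
      {f | ∃ μ ν : K, f = LinearMap.mulLeft F μ ∘ₗ (LinearMap.id + R c) ∘ₗ LinearMap.mulLeft F ν}
    have hXin : ∀ c, τ c = 0 → (∀ f, f ∈ X c) → ∀ f, InExt M φ v f := by
      intro c hc hall f
      obtain ⟨D, hD, hDk⟩ := hroot c hc
      have hB : ∀ f ∈ X c, InExt M φ v (f ∘ₗ D) := by
        intro f hf
        induction hf using AddSubgroup.closure_induction with
        | mem f hf =>
          obtain ⟨μ, ν, rfl⟩ := hf
          rw [LinearMap.comp_assoc, LinearMap.comp_assoc]
          exact InExt.mul_left_plane hM hp (b := b) hφv hψv μ (hDk ν)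
        | zero => rw [LinearMap.zero_comp]; exact InExt.zero
        | add f f' _ _ h h' => rw [LinearMap.add_comp]; exact h.add h' hφv
        | neg f _ h => rw [LinearMap.neg_comp]; exact h.neg hφv
      let e := LinearEquiv.ofBijective D hD
      have := hB (f ∘ₗ (e.symm : K →ₗ[F] K)) (hall _)
      convert this using 1
      ext s
      simp only [LinearMap.comp_apply, LinearEquiv.coe_coe]
      exact congrArg f (e.symm_apply_apply s).symm
    let Y : AddSubgroup (K →ₗ[F] K) := AddSubgroup.closure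
      {f | ∃ μ ν ρ : K, f = LinearMap.mulLeft F μ ∘ₗ (LinearMap.mulLeft F ν ∘ₗ R a -
        R a ∘ₗ LinearMap.mulLeft F ν) ∘ₗ LinearMap.mulLeft F ρ}
    have hYbi : ∀ f ∈ Y, ∀ α β : K,
        LinearMap.mulLeft F α ∘ₗ f ∘ₗ LinearMap.mulLeft F β ∈ Y := by
      intro f hf α β
      induction hf using AddSubgroup.closure_induction with
      | mem f hf =>
        obtain ⟨μ, ν, ρ', rfl⟩ := hf
        refine AddSubgroup.subset_closure ⟨α * μ, ν, ρ' * β, ?_⟩
        ext s; simp [mul_assoc]
      | zero => simp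
      | add f f' _ _ h h' => rw [LinearMap.add_comp, LinearMap.comp_add]; exact add_mem h h'
      | neg f _ h => rw [LinearMap.neg_comp, LinearMap.comp_neg]; exact neg_mem h
    have hXbi : ∀ c, ∀ f ∈ X c, ∀ α β : K,
        LinearMap.mulLeft F α ∘ₗ f ∘ₗ LinearMap.mulLeft F β ∈ X c := by
      intro c f hf α β
      induction hf using AddSubgroup.closure_induction with
      | mem f hf =>
        obtain ⟨μ, ν, rfl⟩ := hf
        refine AddSubgroup.subset_closure ⟨α * μ, ν * β, ?_⟩
        ext s; simp [mul_assoc]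
      | zero => simp
      | add f f' _ _ h h' => rw [LinearMap.add_comp, LinearMap.comp_add]; exact add_mem h h'
      | neg f _ h => rw [LinearMap.neg_comp, LinearMap.comp_neg]; exact neg_mem h
    have hXall : ∀ c, c ≠ 0 → R c ∈ X c → ∀ f, f ∈ X c := fun c hc hR f =>
      forall_of_rankOne (fun f => f ∈ X c) (zero_mem _) (fun f g => add_mem)
        (fun μ f hf => by
          have := hXbi c f hf μ 1
          rwa [show LinearMap.mulLeft F μ ∘ₗ f ∘ₗ LinearMap.mulLeft F (1 : K) =
            LinearMap.mulLeft F μ ∘ₗ f by ext s; simp] at this)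
        (fun μ f hf => by
          have := hXbi c f hf 1 μ
          rwa [show LinearMap.mulLeft F (1 : K) ∘ₗ f ∘ₗ LinearMap.mulLeft F μ =
            f ∘ₗ LinearMap.mulLeft F μ by ext s; simp] at this)
        τ hτ0 c hc hR f
    have hYX : ∀ c, c ≠ 0 → ∀ f ∈ Y, f ∈ X c := by
      intro c hc f hf
      induction hf using AddSubgroup.closure_induction with
      | mem f hf =>
        obtain ⟨μ, ν, ρ', rfl⟩ := hf
        have h1 : LinearMap.mulLeft F (μ * a * c⁻¹ * ν) ∘ₗ (LinearMap.id + R c) ∘ₗ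
            LinearMap.mulLeft F ρ' ∈ X c := AddSubgroup.subset_closure ⟨_, _, rfl⟩
        have h2 : LinearMap.mulLeft F (μ * a * c⁻¹) ∘ₗ (LinearMap.id + R c) ∘ₗ
            LinearMap.mulLeft F (ν * ρ') ∈ X c := AddSubgroup.subset_closure ⟨_, _, rfl⟩
        convert sub_mem h1 h2 using 1
        ext s
        simp [R, mul_assoc, Algebra.smul_def, mul_add]
        field_simp
      | zero => exact zero_mem _
      | add f f' _ _ h h' => exact add_mem h h'
      | neg f _ h => exact neg_mem h
    -- everything is `Y` plus multiples of the rank one map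
    have hZ : ∀ f : K →ₗ[F] K, ∃ e : K, f - LinearMap.mulLeft F e ∘ₗ R a ∈ Y := by
      refine forall_of_rankOne (fun f => ∃ e : K, f - LinearMap.mulLeft F e ∘ₗ R a ∈ Y)
        ⟨0, by simp⟩ ?_ ?_ ?_ τ hτ0 a ha0 ⟨1, by simp [R]⟩
      · rintro f f' ⟨e, he⟩ ⟨e', he'⟩
        refine ⟨e + e', ?_⟩
        convert add_mem he he' using 1
        ext s; simp [add_mul]; ring
      · rintro μ f ⟨e, he⟩
        refine ⟨μ * e, ?_⟩
        convert hYbi _ he μ 1 using 1
        ext s; simp [mul_assoc, mul_sub]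
      · rintro μ f ⟨e, he⟩
        refine ⟨e * μ, ?_⟩
        have h1 := hYbi _ he 1 μ
        have h2 : LinearMap.mulLeft F e ∘ₗ (LinearMap.mulLeft F μ ∘ₗ R a -
            R a ∘ₗ LinearMap.mulLeft F μ) ∘ₗ LinearMap.mulLeft F (1 : K) ∈ Y :=
          AddSubgroup.subset_closure ⟨_, _, _, rfl⟩
        convert sub_mem h1 h2 using 1
        ext s; simp [mul_assoc]; ring
    obtain ⟨e, he⟩ := hZ LinearMap.id
    have hA : ∀ c, c ≠ 0 → (¬ ∀ f, f ∈ X c) → LinearMap.id + R c ∈ Y := by
      intro c hc hnot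
      have hAX : LinearMap.id + R c ∈ X c :=
        AddSubgroup.subset_closure ⟨1, 1, by ext s; simp⟩
      have h1 : LinearMap.mulLeft F (1 + e * a / c) ∘ₗ R c ∈ X c := by
        convert sub_mem hAX (hYX c hc _ he) using 1
        ext s
        simp [R, Algebra.smul_def]
        field_simp
      rcases eq_or_ne (1 + e * a / c) 0 with h0 | h0
      · convert he using 1
        have hec : e * a = -c := by
          field_simp at h0
          linear_combination h0
        ext s
        simp [R, Algebra.smul_def]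
        linear_combination (algebraMap F K (τ s)) * hec
      · refine absurd (hXall c hc ?_) hnot
        convert hXbi c _ h1 (1 + e * a / c)⁻¹ 1 using 1
        ext s; simp [h0]
    by_cases h1 : ∀ f, f ∈ X a
    · exact hXin a ha h1
    by_cases h2 : ∀ f, f ∈ X a'
    · exact hXin a' ha' h2
    exfalso
    apply h1
    refine hXall a ha0 (hYX a ha0 _ ?_)
    have hd' : (a - a') / a ≠ 0 := div_ne_zero (sub_ne_zero.mpr hne) ha0
    have h3 := hYbi _ (sub_mem (hA a ha0 h1) (hA a' ha'0 h2)) ((a - a') / a)⁻¹ 1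
    convert h3 using 1
    ext s
    simp [R, Algebra.smul_def]
    field_simp [sub_ne_zero.mpr hne]
  · right
    simp only [not_exists, not_and] at hpair
    have hfin := LinearMap.finrank_range_add_finrank_ker τ
    have hr1 : Module.finrank F (LinearMap.range τ) ≤ 1 := by
      simpa using Submodule.finrank_le (LinearMap.range τ)
    have hcard : Nat.card (LinearMap.ker τ) ≤ 2 := by
      by_contra hgt
      have : Fintype (LinearMap.ker τ) := Fintype.ofFinite _
      rw [Nat.card_eq_fintype_card, not_le, Fintype.two_lt_card_iff] at hgt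
      obtain ⟨⟨x, hx⟩, ⟨y, hy⟩, ⟨z, hz⟩, hxy, hxz, hyz⟩ := hgt
      simp only [Ne, Subtype.mk.injEq] at hxy hxz hyz
      rcases eq_or_ne x 0 with rfl | hx0
      · exact hpair y z hy hz (Ne.symm hxy) (Ne.symm hxz) hyz
      rcases eq_or_ne y 0 with rfl | hy0
      · exact hpair x z hx hz hx0 (Ne.symm hyz) hxz
      · exact hpair x y hx hy hx0 hy0 hxy
    rw [Module.natCard_eq_pow_finrank (K := F)] at hcard
    have h2 : 2 ≤ Nat.card F := Finite.one_lt_card
    have hr := hp.two_le
    have h1 : Nat.card F ^ 1 ≤ Nat.card F ^ Module.finrank F (LinearMap.ker τ) :=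
      Nat.pow_le_pow_right (by omega) (by omega)
    rw [pow_one] at h1
    have hF : Nat.card F = 2 := by omega
    refine ⟨hF, ?_⟩
    rw [hF] at hcard
    have : Module.finrank F (LinearMap.ker τ) ≤ 1 :=
      (Nat.pow_le_pow_iff_right (le_refl 2)).mp (by simpa using hcard)
    rw [Module.natCard_eq_pow_finrank (K := F), hF, show Module.finrank F K = 2 by omega]
    norm_num

end CfsgLib.MaxSub
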