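import Cfsg.Agent.Lib.MaxSub.ExtPlane

/-!
Overgroups of the semilinear group of a field extension: the case of `ΓL₂(4)` in `GL₄(2)`.
-/

set_option autoImplicit false
set_option linter.unusedSectionVars false

namespace CfsgLib.MaxSub

variable {F K V : Type*} [Field F] [Field K] [Algebra F K] [AddCommGroup V] [Module K V]
  [Module F V] [IsScalarTower F K V] {M : Subgroup (V ≃ₗ[F] V)}

theorem eq_one_of_card_two [Finite F] (hF : Nat.card F = 2) {c : F} (hc : c ≠ 0) : c = 1 := by
  have : Fintype F := Fintype.ofFinite F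
  have := FiniteField.pow_card_sub_one_eq_one c hc
  rwa [← Nat.card_eq_fintype_card, hF, pow_one] at this

theorem mem_of_card_two [Finite F] [Module.Finite F V] (hM : ExtHyp K M) (hF : Nat.card F = 2)
    {g : V ≃ₗ[F] V} (hg : KSemi K g) : g ∈ M :=
  hM g hg (eq_one_of_card_two hF (LinearEquiv.isUnit_det' g).ne_zero)

/-- root elements on one line determine those on every line -/
theorem inExt_all_transfer [Module.Finite K V] [Module.Finite F K] (hM : ExtHyp K M)
    (hd : Module.finrank K V = 2) {v v' b : V} {φ φ' ψ : V →ₗ[K] K} (hv : v ≠ 0) (hv' : v' ≠ 0)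
    (hφv : φ v = 0) (hco : ∀ x, x = ψ x • v + φ x • b) (hφ'v : φ' v' = 0) (hφ' : φ' ≠ 0)
    (hall : ∀ f : K →ₗ[F] K, InExt M φ' v' f) (f : K →ₗ[F] K) : InExt M φ v f := by
  obtain ⟨h, hh, hhv⟩ := exists_move hM (by omega) hv' hv
  set χ := φ' ∘ₗ (h.symm : V →ₗ[K] V) with hχ
  have hχv : χ v = 0 := by
    rw [← hhv, hχ]
    simpa using hφ'v
  have hχb : ∀ x, χ x = χ b * φ x := fun x => by
    conv_lhs => rw [hco x, map_add, map_smul, map_smul, hχv]
    simp [mul_comm]
  obtain ⟨c, hcdef⟩ : ∃ c, χ b = c := ⟨_, rfl⟩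
  simp only [hcdef] at hχb
  have hc : c ≠ 0 := fun e => hφ' (LinearMap.ext fun x => by
    have := hχb (h x)
    rw [e, zero_mul] at this
    simpa [hχ] using this)
  have h1 := (hall (f ∘ₗ LinearMap.mulLeft F c⁻¹)).conj hh
  rw [← hχ, hhv] at h1
  have e : χ = c • φ := LinearMap.ext fun x => hχb x
  rw [e, inExt_smul_right] at h1
  convert h1 using 1
  ext s
  simp [hc]

/-- in `GL₄(2)` one non-scalar root element gives all -/
theorem inExt_all_of_one [Finite F] [Finite K] [Module.Finite K V] [Module.Finite F K]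
    (hM : ExtHyp K M) (hp : (Module.finrank F K).Prime) (hF : Nat.card F = 2)
    (hK : Nat.card K = 4) {v b : V} {φ ψ : V →ₗ[K] K} (hφv : φ v = 0) (hψv : ψ v = 1)
    {f₀ : K →ₗ[F] K} (hf₀ : InExt M φ v f₀) (hne : ∀ μ : K, f₀ ≠ LinearMap.mulLeft F μ)
    (f : K →ₗ[F] K) : InExt M φ v f := by
  let Φ : K × K → (K →ₗ[F] K) := fun p => LinearMap.mulLeft F p.1 + LinearMap.mulLeft F p.2 ∘ₗ f₀
  have hinj : Function.Injective Φ := by
    rintro ⟨μ, ν⟩ ⟨μ', ν'⟩ e
    have h : ∀ s, μ * s + ν * f₀ s = μ' * s + ν' * f₀ s := fun s => LinearMap.congr_fun e s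
    rcases eq_or_ne ν ν' with rfl | hν
    · have := h 1
      simp only [mul_one, add_left_inj] at this
      rw [this]
    · refine absurd (LinearMap.ext fun s => ?_) (hne ((μ' - μ) / (ν - ν')))
      rw [LinearMap.mulLeft_apply, div_mul_eq_mul_div, eq_div_iff (sub_ne_zero.mpr hν)]
      linear_combination h s
  have : Finite (K →ₗ[F] K) :=
    Finite.of_injective (fun f => (f : K → K)) DFunLike.coe_injective
  have : Fintype (K →ₗ[F] K) := Fintype.ofFinite _
  have : Fintype (K × K) := Fintype.ofFinite _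
  have hcard : Fintype.card (K × K) = Fintype.card (K →ₗ[F] K) := by
    rw [← Nat.card_eq_fintype_card, ← Nat.card_eq_fintype_card, Nat.card_prod, hK,
      Module.natCard_eq_pow_finrank (K := F) (V := K →ₗ[F] K), hF,
      Module.finrank_linearMap (R := F) (S := F)]
    have : Module.finrank F K = 2 := by
      have := Module.natCard_eq_pow_finrank (K := F) (V := K)
      rw [hF, hK] at this
      exact (Nat.pow_right_injective (le_refl 2) (show 2 ^ 2 = 2 ^ _ from this)).symm
    rw [this]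
    norm_num
  obtain ⟨⟨μ, ν⟩, rfl⟩ := ((Fintype.bijective_iff_injective_and_card Φ).mpr ⟨hinj, hcard⟩).2 f
  exact (InExt.scalar hM hφv μ).add (hf₀.mul_left_plane hM hp (b := b) hφv hψv ν) hφv

/-- the semilinear group is its own line stabiliser -/
theorem kSemi_of_fix_line [Finite F] [Finite K] [Module.Finite K V] [Module.Finite F K]
    [Module.Finite F V]
    (hM : ExtHyp K M) (hd : Module.finrank K V = 2) (hF : Nat.card F = 2) (hK : Nat.card K = 4)
    (hS : ∀ (φ : V →ₗ[K] K) (v : V) (f : K →ₗ[F] K), φ ≠ 0 → v ≠ 0 → φ v = 0 → InExt M φ v f →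
      ∃ μ : K, f = LinearMap.mulLeft F μ)
    {g : V ≃ₗ[F] V} (hg : g ∈ M) {v : V} (hv : v ≠ 0) (hgl : LineTo K g v) : KSemi K g := by
  classical
  obtain ⟨h₀, hh₀, h₀v⟩ := exists_move hM (by omega)
    (show g v ≠ 0 from fun e => hv (g.map_eq_zero_iff.mp e)) hv
  suffices KSemi K (h₀.restrictScalars F * g) by
    intro k
    obtain ⟨k', hk'⟩ := this k
    refine ⟨k', fun x => h₀.injective ?_⟩
    rw [h₀.map_smul]
    exact hk' x
  have hmem : h₀.restrictScalars F * g ∈ M := mul_mem hh₀ hg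
  have hline : ∀ s : K, ∃ s' : K, (h₀.restrictScalars F * g) (s • v) = s' • v := fun s => by
    obtain ⟨s', hs'⟩ := hgl s
    exact ⟨s', by show h₀ (g (s • v)) = _; rw [hs', h₀.map_smul, h₀v]⟩
  generalize h₀.restrictScalars F * g = g at hmem hline
  obtain ⟨b, φ, ψ, hφv, hφb, hψv, hψb, hco⟩ := exists_coords hd hv
  let A : K →ₗ[F] K := (ψ.restrictScalars F) ∘ₗ g.toLinearMap ∘ₗ
    ((LinearMap.toSpanSingleton K V v).restrictScalars F)
  have hA : ∀ s : K, g (s • v) = A s • v := fun s => by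
    obtain ⟨s', hs'⟩ := hline s
    show _ = ψ (g (s • v)) • v
    rw [hs', map_smul, hψv, smul_eq_mul, mul_one]
  obtain ⟨D, hD, hDval, hconj⟩ := conj_line hM hv hφv hφb hco hmem A hA
  have hφ0 : φ ≠ 0 := fun e => by simp [e] at hφb
  choose c hc using fun k => hS φ v _ hφ0 hv hφv (hconj k)
  have hck : ∀ k t, A (k * D t) = c k * t := fun k t => LinearMap.congr_fun (hc k) t
  have hAinj : Function.Injective A := fun s t e => by
    have : g (s • v) = g (t • v) := by rw [hA, hA, e]
    exact smul_left_injective K hv (g.injective this)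
  have hc1 : c 1 ≠ 0 := by
    intro e
    have h1 := hck 1 1
    rw [e, one_mul, zero_mul] at h1
    have := hAinj (h1.trans (map_zero A).symm)
    exact one_ne_zero (hD.1 (this.trans (map_zero D).symm))
  let σ : K → K := fun k => c k / c 1
  have hAσ : ∀ k s, A (k * s) = σ k * A s := by
    intro k s
    obtain ⟨t, rfl⟩ := hD.2 s
    have := hck 1 t
    rw [one_mul] at this
    rw [hck, this]
    simp only [σ]
    field_simp
  have hDσ : ∀ k t, D (σ k * t) = k * D t := by
    intro k t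
    apply hAinj
    have h1 := hck 1 (σ k * t)
    have h2 := hck 1 t
    rw [one_mul] at h1 h2
    rw [h1, hAσ, h2]
    ring
  have hinv : ∀ s : K, ∃ t : K, g⁻¹ (s • v) = t • v := fun s => by
    obtain ⟨t, rfl⟩ := Finite.surjective_of_injective hAinj s
    exact ⟨t, by rw [← hA, inv_apply_apply]⟩
  have hφD : ∀ y, φ (g⁻¹ y) = D (φ y) := fun y => by
    obtain ⟨t, ht⟩ := hinv (ψ y)
    conv_lhs => rw [hco y, map_add, map_add, ht, map_smul, hφv, smul_zero, zero_add]
    rw [hDval]
  have hquot : ∀ (k : K) (y : V), φ (g (k • g⁻¹ y)) = σ k * φ y := fun k y => by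
    apply hD.1
    rw [← hφD, inv_apply_apply, map_smul, hDσ, smul_eq_mul, hφD]
  have hsub : ∀ (k s : K), g (k • g⁻¹ (s • v)) = (σ k * s) • v := fun k s => by
    obtain ⟨t, ht⟩ := hinv s
    rw [ht, smul_smul, hA, hAσ, ← smul_smul, ← hA, ← ht, apply_inv_apply, smul_smul]
  have : Fintype K := Fintype.ofFinite K
  have h20 : (2 : K) = 0 := by
    have : Fintype F := Fintype.ofFinite F
    have h := congrArg (algebraMap F K) (FiniteField.cast_card_eq_zero F)
    rw [← Nat.card_eq_fintype_card, hF, map_natCast, map_zero] at h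
    simpa using h
  -- a generator
  obtain ⟨ω, hω⟩ : ∃ ω : K, ω ∉ ({0, 1} : Finset K) := by
    classical
    by_contra hall
    simp only [not_exists, not_not] at hall
    have := Finset.card_le_card (fun x _ => hall x : (Finset.univ : Finset K) ⊆ {0, 1})
    have := Finset.card_le_two (a := (0 : K)) (b := 1)
    rw [Finset.card_univ, ← Nat.card_eq_fintype_card, hK] at *
    omega
  simp only [Finset.mem_insert, Finset.mem_singleton, not_or] at hω
  have hcube : ∀ x : K, x ≠ 0 → x * (x * x) = 1 := fun x hx => by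
    have := FiniteField.pow_card_sub_one_eq_one x hx
    rw [← Nat.card_eq_fintype_card, hK] at this
    rw [← this]; ring
  have hw0 : σ ω ≠ 0 := by
    intro e
    have := hAσ ω 1
    rw [e, zero_mul, mul_one] at this
    exact hω.1 (hAinj (this.trans (map_zero A).symm))
  set w := σ ω with hw
  -- conjugate of the scalar, made unipotent
  let z : V ≃ₗ[F] V := (LinearEquiv.smulOfUnit (Units.mk0 ω hω.1) : V ≃ₗ[K] V).restrictScalars F
  let zw : V ≃ₗ[F] V :=
    (LinearEquiv.smulOfUnit (Units.mk0 w⁻¹ (inv_ne_zero hw0)) : V ≃ₗ[K] V).restrictScalars F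
  have hz : ∀ x, z x = ω • x := fun x => rfl
  have hzw : ∀ x, zw x = w⁻¹ • x := fun x => rfl
  have hzM : z ∈ M := mem_of_card_two hM hF fun k => ⟨k, fun x => by
    rw [hz, hz, smul_comm]⟩
  have hzwM : zw ∈ M := mem_of_card_two hM hF fun k => ⟨k, fun x => by
    rw [hzw, hzw, smul_comm]⟩
  set h' := g * z * g⁻¹ * zw with hh'
  have hh'x : ∀ x, h' x = g (ω • g⁻¹ (w⁻¹ • x)) := fun x => rfl
  let η : K →ₗ[F] K := (ψ.restrictScalars F) ∘ₗ h'.toLinearMap ∘ₗ
    ((LinearMap.toSpanSingleton K V b).restrictScalars F)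
  have hηx : ∀ x, h' x = x + η (φ x) • v := by
    intro x
    have h1 : h' (ψ x • v) = ψ x • v := by
      rw [hh'x, smul_smul, hsub, ← hw, mul_inv_cancel_left₀ hw0]
    have h2 : h' (φ x • b) = η (φ x) • v + φ x • b := by
      have h3 : φ (h' (φ x • b)) = φ x := by
        rw [hh'x, hquot, map_smul, map_smul, hφb, ← hw]
        simp [hw0]
      conv_lhs => rw [hco (h' (φ x • b)), h3]
      rfl
    calc h' x = h' (ψ x • v + φ x • b) := by rw [← hco x]
      _ = (ψ x • v + φ x • b) + η (φ x) • v := by rw [map_add, h1, h2]; abel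
      _ = _ := by rw [← hco x]
  obtain ⟨d, hd'⟩ := hS φ v η hφ0 hv hφv
    ⟨h', mul_mem (mul_mem (mul_mem hmem hzM) (inv_mem hmem)) hzwM, hηx⟩
  have hh : ∀ x, g (ω • g⁻¹ x) = w • x + (d * (w * φ x)) • v := fun x => by
    have := hηx (w • x)
    rw [hh'x, inv_smul_smul₀ hw0, hd', LinearMap.mulLeft_apply, φ.map_smul, smul_eq_mul] at this
    exact this
  have hd0 : d = 0 := by
    have h3 : g (ω • g⁻¹ (g (ω • g⁻¹ (g (ω • g⁻¹ b))))) = b := by
      rw [inv_apply_apply, inv_apply_apply, smul_smul, smul_smul, mul_assoc, hcube ω hω.1,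
        one_smul, apply_inv_apply]
    rw [hh, hh, hh] at h3
    simp only [map_add, map_smul, hφb, hφv, smul_eq_mul, mul_one, mul_zero, add_zero] at h3
    have h4 := congrArg ψ h3
    simp only [map_add, map_smul, hψv, hψb, smul_eq_mul, mul_one, mul_zero, add_zero, zero_add,
      smul_add] at h4
    have h5 : w * (w * w) = 1 := hcube w hw0
    linear_combination h4 - d * h20 * (w * (w * w)) - d * h5
  have hgω : ∀ x, g (ω • x) = w • g x := fun x => by
    have := hh (g x)
    rwa [inv_apply_apply, hd0, zero_mul, zero_smul, add_zero] at this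
  intro k
  classical
  have huniv : ({0, 1, ω, ω + 1} : Finset K) = Finset.univ := by
    refine Finset.eq_univ_of_card _ ?_
    rw [← Nat.card_eq_fintype_card, hK, Finset.card_eq_four.mpr]
    refine ⟨0, 1, ω, ω + 1, zero_ne_one, Ne.symm hω.1, ?_, Ne.symm hω.2, ?_, ?_, rfl⟩
    · intro e; exact hω.2 (by linear_combination e.symm - h20)
    · intro e; exact hω.1 (by linear_combination e.symm)
    · intro e; exact one_ne_zero (α := K) (by linear_combination e.symm)
  have hk : k ∈ ({0, 1, ω, ω + 1} : Finset K) := huniv ▸ Finset.mem_univ k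
  simp only [Finset.mem_insert, Finset.mem_singleton] at hk
  rcases hk with rfl | rfl | rfl | rfl
  · exact ⟨0, fun x => by simp⟩
  · exact ⟨1, fun x => by simp⟩
  · exact ⟨w, hgω⟩
  · exact ⟨w + 1, fun x => by rw [add_smul, add_smul, map_add, hgω, one_smul, one_smul]⟩

/-- `ΓL₂(4)` is maximal in `GL₄(2)` -/
theorem inExt_tiny [Finite F] [Finite K] [Module.Finite K V] [Module.Finite F K]
    [Module.Finite F V]
    (hM : ExtHyp K M) (hp : (Module.finrank F K).Prime) (hd : Module.finrank K V = 2)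
    (hF : Nat.card F = 2) (hK : Nat.card K = 4) (hg : ∃ g ∈ M, ¬ KSemi K g)
    {v b : V} {φ ψ : V →ₗ[K] K} (hv : v ≠ 0) (hφv : φ v = 0) (hψv : ψ v = 1)
    (hco : ∀ x, x = ψ x • v + φ x • b) (f : K →ₗ[F] K) : InExt M φ v f := by
  classical
  by_cases hS : ∀ (φ : V →ₗ[K] K) (v : V) (f : K →ₗ[F] K), φ ≠ 0 → v ≠ 0 → φ v = 0 →
      InExt M φ v f → ∃ μ : K, f = LinearMap.mulLeft F μ
  swap
  · simp only [not_forall, not_exists] at hS
    obtain ⟨φ', v', f', hφ', hv', hφ'v', hf', hne⟩ := hS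
    obtain ⟨b₁, φ₁, ψ₁, hφ₁v, hφ₁b, hψ₁v, -, hco₁⟩ := exists_coords hd hv'
    have hφ'e : φ' = φ' b₁ • φ₁ := LinearMap.ext fun x => by
      conv_lhs => rw [hco₁ x, map_add, map_smul, map_smul, hφ'v']
      simp [mul_comm]
    have hc : φ' b₁ ≠ 0 := fun e => hφ' (by rw [hφ'e, e, zero_smul])
    have hall : ∀ f, InExt M φ' v' f := by
      intro f
      rw [hφ'e, inExt_smul_right]
      rw [hφ'e, inExt_smul_right] at hf'
      refine inExt_all_of_one hM hp hF hK (b := b₁) hφ₁v hψ₁v hf' (fun μ e => ?_) _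
      refine hne (μ * (φ' b₁)⁻¹) (LinearMap.ext fun s => ?_)
      have := LinearMap.congr_fun e ((φ' b₁)⁻¹ * s)
      simp only [LinearMap.comp_apply, LinearMap.mulLeft_apply, mul_inv_cancel_left₀ hc] at this
      rw [this, LinearMap.mulLeft_apply, mul_assoc]
    exact inExt_all_transfer hM hd hv hv' hφv hco hφ'v' hφ' hall f
  exfalso
  obtain ⟨g, hgM, hns⟩ := hg
  have hfix : ∀ g ∈ M, ∀ v : V, v ≠ 0 → LineTo K g v → KSemi K g :=
    fun g hg v hv hl => kSemi_of_fix_line hM hd hF hK hS hg hv hl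
  have : Fintype K := Fintype.ofFinite K
  have h20 : (2 : K) = 0 := by
    have : Fintype F := Fintype.ofFinite F
    have h := congrArg (algebraMap F K) (FiniteField.cast_card_eq_zero F)
    rw [← Nat.card_eq_fintype_card, hF, map_natCast, map_zero] at h
    simpa using h
  obtain ⟨ω, hω0, hω1⟩ : ∃ ω : K, ω ≠ 0 ∧ ω ≠ 1 := by
    by_contra hall
    have hs : (Finset.univ : Finset K) ⊆ {0, 1} := fun x _ => by
      by_contra hx
      simp only [Finset.mem_insert, Finset.mem_singleton, not_or] at hx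
      exact hall ⟨x, hx⟩
    have := Finset.card_le_card hs
    have := Finset.card_le_two (a := (0 : K)) (b := 1)
    rw [Finset.card_univ, ← Nat.card_eq_fintype_card, hK] at *
    omega
  have hωsq : ω * ω = ω + 1 := by
    have h := FiniteField.pow_card_sub_one_eq_one ω hω0
    rw [← Nat.card_eq_fintype_card, hK] at h
    have : (ω - 1) * (ω * ω + ω + 1) = 0 := by linear_combination h
    have := (mul_eq_zero.mp this).resolve_left (sub_ne_zero.mpr hω1)
    linear_combination this - (ω + 1) * h20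
  have huniv : ∀ k : K, k = 0 ∨ k = 1 ∨ k = ω ∨ k = ω + 1 := by
    intro k
    have h4 := FiniteField.pow_card k
    rw [← Nat.card_eq_fintype_card, hK] at h4
    have : k * (k - 1) * (k - ω) * (k - (ω + 1)) = 0 := by
      linear_combination h4 + (k ^ 2 - k) * hωsq + (-(ω + 1) * k ^ 3 + (2 * ω + 1) * k ^ 2 - ω * k) * h20
    simp only [mul_eq_zero, sub_eq_zero] at this
    tauto
  -- the image of a line
  set p₁ := g v with hp₁
  set p₂ := g (ω • v) with hp₂
  have hp₁0 : p₁ ≠ 0 := fun e => hv (g.map_eq_zero_iff.mp e)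
  have hgadd : g ((ω + 1) • v) = p₂ + p₁ := by rw [add_smul, one_smul, map_add]
  have hnline : ∀ c : K, p₂ ≠ c • p₁ := by
    intro c hc
    refine hns (hfix g hgM v hv fun k => ?_)
    rcases huniv k with hk' | hk' | hk' | hk' <;> rw [hk']
    · exact ⟨0, by simp⟩
    · exact ⟨1, by simp⟩
    · exact ⟨c, hc⟩
    · exact ⟨c + 1, by rw [hgadd, hc, add_smul, one_smul]⟩
  obtain ⟨b₁, φ₀, ψ₀, hφ₀, hφb, hψ₀, hψb, hco₀⟩ := exists_coords hd hp₁0
  have hβ : φ₀ p₂ ≠ 0 := fun e => hnline (ψ₀ p₂) (by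
    conv_lhs => rw [hco₀ p₂, e, zero_smul, add_zero])
  let χ₂ : V →ₗ[K] K := (φ₀ p₂)⁻¹ • φ₀
  let χ₁ : V →ₗ[K] K := ψ₀ - ψ₀ p₂ • χ₂
  have e11 : χ₁ p₁ = 1 := by simp [χ₁, χ₂, hφ₀, hψ₀]
  have e12 : χ₁ p₂ = 0 := by simp [χ₁, χ₂, hβ]
  have e21 : χ₂ p₁ = 0 := by simp [χ₂, hφ₀]
  have e22 : χ₂ p₂ = 1 := by simp [χ₂, hβ]
  have hcoP : ∀ x, x = χ₁ x • p₁ + χ₂ x • p₂ := by
    intro x
    have h2 := hco₀ p₂
    conv_lhs => rw [hco₀ x]
    conv_rhs => arg 2; arg 2; rw [h2]
    simp only [χ₁, χ₂, LinearMap.sub_apply, LinearMap.smul_apply, smul_eq_mul]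
    match_scalars <;> field_simp <;> ring
  let s : V ≃ₗ[K] V := LinearEquiv.ofLinear
    (χ₂.smulRight p₁ + (χ₁ + χ₂).smulRight p₂)
    ((χ₁ + χ₂).smulRight p₁ + χ₁.smulRight p₂)
    (LinearMap.ext fun x => by
      simp [e11, e12, e21, e22]
      conv_rhs => rw [hcoP x]
      match_scalars <;> first | ring1 | linear_combination χ₁ x * h20 | linear_combination -(χ₁ x) * h20)
    (LinearMap.ext fun x => by
      simp [e11, e12, e21, e22]
      conv_rhs => rw [hcoP x]
      match_scalars <;> first | ring1 | linear_combination χ₂ x * h20 | linear_combination -(χ₂ x) * h20)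
  have hs : ∀ x, s x = χ₂ x • p₁ + (χ₁ x + χ₂ x) • p₂ := fun x => rfl
  have hsM : s.restrictScalars F ∈ M :=
    mem_of_card_two hM hF fun k => ⟨k, fun x => s.map_smul k x⟩
  have hfour : ∀ k : K, k * k * (k * k) = k := fun k => by
    have h4 := FiniteField.pow_card k
    rw [← Nat.card_eq_fintype_card, hK] at h4
    linear_combination h4
  have hadd2 : ∀ a b : K, (a + b) * (a + b) = a * a + b * b := fun a b => by
    linear_combination (a * b) * h20
  have hFsq : ∀ c : F, algebraMap F K c * algebraMap F K c = algebraMap F K c := fun c => by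
    rcases eq_or_ne c 0 with rfl | hc
    · simp
    · rw [eq_one_of_card_two hF hc, map_one, one_mul]
  let fr : V →ₗ[F] V :=
    { toFun := fun x => (χ₁ x * χ₁ x) • p₁ + (χ₂ x * χ₂ x) • p₂
      map_add' := fun x y => by
        rw [map_add, map_add, hadd2, hadd2, add_smul, add_smul]; abel
      map_smul' := fun c x => by
        rw [← algebraMap_smul K c x, map_smul, map_smul, RingHom.id_apply,
          ← algebraMap_smul K c ((χ₁ x * χ₁ x) • p₁ + (χ₂ x * χ₂ x) • p₂), smul_eq_mul,
          smul_eq_mul, smul_add, smul_smul, smul_smul]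
        congr 2
        · linear_combination (χ₁ x * χ₁ x) * hFsq c
        · linear_combination (χ₂ x * χ₂ x) * hFsq c }
  have hfr2 : ∀ x, fr (fr x) = x := fun x => by
    show (_ • p₁ + _ • p₂ : V) = x
    simp [fr, e11, e12, e21, e22, hfour]
    exact (hcoP x).symm
  let σ₀ : V ≃ₗ[F] V := LinearEquiv.ofLinear fr fr (LinearMap.ext hfr2) (LinearMap.ext hfr2)
  have hσ : ∀ x, σ₀ x = (χ₁ x * χ₁ x) • p₁ + (χ₂ x * χ₂ x) • p₂ := fun x => rfl
  have hσM : σ₀ ∈ M := mem_of_card_two hM hF fun k => ⟨k * k, fun x => by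
    rw [hσ, hσ, map_smul, map_smul, smul_add, smul_smul, smul_smul, smul_eq_mul, smul_eq_mul]
    congr 2 <;> ring⟩
  -- the conjugate of the scalar commutes with both
  set Z : V → V := fun x => g (ω • g⁻¹ x) with hZdef
  have hZ1 : Z p₁ = p₂ := by rw [hZdef]; simp only; rw [hp₁, inv_apply_apply]
  have hZ2 : Z p₂ = p₂ + p₁ := by
    rw [hZdef]; simp only; rw [hp₂, inv_apply_apply, smul_smul, hωsq, hgadd]
  have hZadd : ∀ x y, Z (x + y) = Z x + Z y := fun x y => by simp [hZdef, smul_add]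
  have hZZ : ∀ x, Z (Z x) = Z x + x := fun x => by
    simp only [hZdef, inv_apply_apply, smul_smul, hωsq, add_smul, one_smul, map_add,
      apply_inv_apply]
  have hcomm : ∀ h : V ≃ₗ[F] V, h ∈ M → (∀ k : K, ∃ k' : K, h (g (k • v)) = g (k' • v)) →
      h p₂ = Z (h p₁) → h p₁ ≠ 0 → ∀ x, h (Z x) = Z (h x) := by
    intro h hh hP h12 hne x
    obtain ⟨c, hc⟩ := hP 1
    rw [one_smul] at hc
    have hl : LineTo K (g⁻¹ * h * g) v := by
      intro k
      obtain ⟨k', hk'⟩ := hP k
      have hc0 : c ≠ 0 := fun e => hne (by rw [hp₁, hc, e, zero_smul, map_zero])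
      refine ⟨k' * c⁻¹, ?_⟩
      show g⁻¹ (h (g (k • v))) = _ • g⁻¹ (h (g v))
      rw [hk', hc, inv_apply_apply, inv_apply_apply, smul_smul, inv_mul_cancel_right₀ hc0]
    obtain ⟨ω', hω'⟩ := hfix _ (mul_mem (mul_mem (inv_mem hgM) hh) hgM) v hv hl ω
    have key : ∀ y, h (Z y) = g (ω' • g⁻¹ (h y)) := fun y => by
      have := congrArg g (hω' (g⁻¹ y))
      simp only [LinearEquiv.mul_apply, apply_inv_apply] at this
      exact this
    have h1 := key p₁
    rw [hZ1, h12] at h1
    have hωω : ω' = ω := by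
      have h2 : g⁻¹ (h p₁) ≠ 0 := fun e => hne ((g⁻¹).map_eq_zero_iff.mp e)
      exact (smul_left_injective K h2 (g.injective h1)).symm
    rw [key, hωω]
  have hsp1 : s p₁ = p₂ := by simp [hs, e11, e21]
  have hsp2 : s p₂ = p₁ + p₂ := by simp [hs, e12, e22]
  have hσp1 : σ₀ p₁ = p₁ := by simp [hσ, e11, e21]
  have hσp2 : σ₀ p₂ = p₂ := by simp [hσ, e12, e22]
  have hZs : ∀ x, s (Z x) = Z (s x) := by
    refine hcomm (s.restrictScalars F) hsM (fun k => ?_) ?_ ?_
    · rcases huniv k with hk' | hk' | hk' | hk' <;> rw [hk']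
      · exact ⟨0, by simp⟩
      · exact ⟨ω, by rw [one_smul]; exact hsp1⟩
      · exact ⟨ω + 1, by rw [hgadd, add_comm p₂]; exact hsp2⟩
      · refine ⟨1, ?_⟩
        rw [hgadd, one_smul]
        show s (p₂ + p₁) = p₁
        rw [map_add, hsp1, hsp2, ← one_smul K p₁, ← one_smul K p₂]
        match_scalars <;> first | ring1 | linear_combination h20 | linear_combination -h20
    · show s p₂ = Z (s p₁)
      rw [hsp1, hsp2, hZ2, add_comm]
    · show s p₁ ≠ 0
      rw [hsp1]; exact fun e => hnline 0 (by rw [e, zero_smul])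
  have hZσ : ∀ x, σ₀ (Z x) = Z (σ₀ x) := by
    refine hcomm σ₀ hσM (fun k => ⟨k, ?_⟩) ?_ ?_
    · rcases huniv k with hk' | hk' | hk' | hk' <;> rw [hk']
      · simp
      · rw [one_smul]; exact hσp1
      · exact hσp2
      · rw [hgadd, map_add, hσp1, hσp2]
    · rw [hσp1, hσp2, hZ1]
    · rw [hσp1]; exact hp₁0
  -- compute the conjugate on the rest of the space
  set y := Z (ω • p₁) with hy
  set α := χ₁ y with hα
  set β := χ₂ y with hβ'
  have hyco : y = α • p₁ + β • p₂ := hcoP y
  have hy2 : Z (ω • p₂) = s y := by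
    rw [hy, hZs, s.map_smul, hsp1]
  have hzero : Z 0 = 0 := by simp [hZdef]
  have hαβ : α * α = α ∧ β * β = β + 1 := by
    have h1 := hZσ (ω • p₁)
    rw [← hy, hσ y, ← hα, ← hβ', hσ (ω • p₁), map_smul χ₁, map_smul χ₂, e11, e21, smul_eq_mul, smul_eq_mul,
      mul_one, mul_zero, mul_zero, zero_smul, add_zero, hωsq, add_smul, one_smul, hZadd, ← hy,
      hZ1, hyco] at h1
    have h2 := congrArg χ₁ h1
    have h3 := congrArg χ₂ h1
    simp only [map_add, map_smul, e11, e12, e21, e22, smul_eq_mul, mul_one, mul_zero, add_zero,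
      zero_add, ← hα, ← hβ'] at h2 h3
    exact ⟨h2, h3⟩
  have hy0 : α = 0 ∧ β = ω := by
    have hα' : α = 0 ∨ α = 1 := by
      have : α * (α - 1) = 0 := by linear_combination hαβ.1
      rcases mul_eq_zero.mp this with h | h
      · exact .inl h
      · exact .inr (sub_eq_zero.mp h)
    have hβ2 : β = ω ∨ β = ω + 1 := by
      rcases huniv β with h | h | h | h
      · exfalso; have := hαβ.2; rw [h] at this; simp at this
      · exfalso; have := hαβ.2; rw [h] at this; simp at this
      · exact .inl h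
      · exact .inr h
    have h1 := hZZ (ω • p₁)
    rw [← hy] at h1
    conv_lhs at h1 => rw [hyco, hZadd]
    have h2 := congrArg χ₁ h1
    have h3 := congrArg χ₂ h1
    rcases hα' with ha | ha <;> rcases hβ2 with hb | hb <;>
      simp [ha, hb, hzero, add_smul, hZadd, hZ1, hZ2, hy2, hsp1, hsp2, e11, e12, e21, e22, hyco] at h2 h3
    · exact ⟨ha, hb⟩
    all_goals exfalso
    all_goals first
      | exact one_ne_zero (α := K) (by linear_combination h2)
      | exact one_ne_zero (α := K) (by linear_combination h3)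
      | exact one_ne_zero (α := K) (by linear_combination h2 + h20)
      | exact one_ne_zero (α := K) (by linear_combination h3 + h20)
      | exact one_ne_zero (α := K) (by linear_combination h2 - h20)
      | exact one_ne_zero (α := K) (by linear_combination h3 - h20)
  rw [hy0.1, hy0.2, zero_smul, zero_add] at hyco
  -- an eigenvector gives a line mapped to a line
  set e := p₁ + ω • p₂ with he
  have hZe : Z e = ω • e := by
    rw [he, hZadd, hZ1, hy2, hyco, s.map_smul, hsp2, smul_add, smul_add, smul_smul, hωsq,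
      add_smul, one_smul]
    abel
  have he0 : e ≠ 0 := fun h => by
    have := congrArg χ₁ h
    simp [he, e11, e12] at this
  set v' := g⁻¹ e with hv'
  refine hns (hfix g hgM v' (fun h => he0 ((g⁻¹).map_eq_zero_iff.mp h)) fun k => ?_)
  have hgv' : g v' = e := apply_inv_apply g e
  have hgωv' : g (ω • v') = ω • e := hZe
  rcases huniv k with hk' | hk' | hk' | hk' <;> rw [hk']
  · exact ⟨0, by simp⟩
  · exact ⟨1, by simp⟩
  · exact ⟨ω, by rw [hgωv', hgv']⟩
  · exact ⟨ω + 1, by rw [add_smul, map_add, hgωv', one_smul, add_smul, one_smul, hgv']⟩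

end CfsgLib.MaxSub
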