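import Cfsg.Agent.Lib.MaxSub.IsoWitness
import Mathlib.LinearAlgebra.Eigenspace.Zero

/-!
Symplectic elements of prime order with a fixed space of prescribed dimension.
-/

set_option autoImplicit false

namespace CfsgLib.MaxSub.FixExact

open Polynomial CfsgLib.Classical CfsgLib.MaxSub.IsoWitness

universe u v

variable {F : Type u} [Field F]

/-- An operator of order prime to the characteristic has no second step over a fixed vector. -/
theorem fix_mov_zero {V : Type v} [AddCommGroup V] [Module F V] {T : Module.End F V} {r : ℕ} (hrF : (r : F) ≠ 0)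
    (hT : T ^ r = 1) (w : V) (h : (T - 1) ((T - 1) w) = 0) : (T - 1) w = 0 := by
  obtain ⟨u, hu⟩ : ∃ u, u = (T - 1) w := ⟨_, rfl⟩
  rw [← hu] at h ⊢
  rw [LinearMap.sub_apply, Module.End.one_apply, sub_eq_zero] at h
  have key : ∀ j : ℕ, (T ^ j) w = w + (j : F) • u := by
    intro j
    induction j with
    | zero => simp
    | succ j ih =>
      rw [pow_succ', Module.End.mul_apply, ih, map_add, map_smul, h, Nat.cast_succ, add_smul, one_smul]
      rw [hu, LinearMap.sub_apply, Module.End.one_apply]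
      abel
  have h1 := key r
  rw [hT, Module.End.one_apply, left_eq_add, smul_eq_zero] at h1
  exact h1.resolve_left hrF

variable [Fintype F] {p : ℕ} [Fact p.Prime] [CharP F p] {r d : ℕ} [hr : Fact r.Prime]

include p in
/-- An element of order dividing `r` with a fixed space of prescribed dimension. -/
theorem exists_block (hr2 : r ≠ 2) (hrp : r ≠ p) {i c : ℕ} (hi : i = orderOf (Fintype.card F : ZMod r))
    (hc : c = if Even i then i else 2 * i) {e M : ℕ} (hed : e + c * M = 2 * d) (he : Even e) :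
    ∃ A : ↥(Matrix.symplecticGroup (Fin d) F), A ^ r = 1 ∧
      Module.finrank F ↥(LinearMap.ker
        (Matrix.toLinAlgEquiv' (A : Matrix (Fin d ⊕ Fin d) (Fin d ⊕ Fin d) F) - 1)) = e := by
  have hipos : 0 < i := SympOrderR.i_pos (F := F) (p := p) rfl hr.out hrp hi
  have hdvd : i ∣ r - 1 := hi ▸ orderOf_dvd_of_pow_eq_one (ZMod.pow_card_sub_one_eq_one fun h0 => by
    rw [h0] at hi; simp at hi; omega)
  obtain ⟨g, hg⟩ : (SympOrderR.factors F r).Nonempty := by
    rw [← Finset.card_pos, SympOrderR.card_factors (F := F) (p := p) rfl hr.out hrp hi]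
    exact Nat.div_pos (Nat.le_of_dvd (by have := hr.out.two_le; omega) hdvd) hipos
  obtain ⟨hgm, hgi, -⟩ := SympOrderR.mem_factors.1 hg
  obtain ⟨hgne, hgx, hg0⟩ := SympOrderR.facts (F := F) hr.out hrp hg
  have hg1 : ∀ {h : F[X]}, h ∈ SympOrderR.factors F r → ¬ (X - C (1 : F)) ∣ h := fun {h} hh hd =>
    (SympOrderR.facts (F := F) hr.out hrp hh).1 (eq_of_monic_of_associated (SympOrderR.mem_factors.1 hh).1
      (monic_X_sub_C 1) ((irreducible_X_sub_C 1).associated_of_dvd (SympOrderR.mem_factors.1 hh).2.1 hd).symm)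
  obtain ⟨B, hBm, hBd, hBr, hBall, hB1⟩ : ∃ B : F[X], B.Monic ∧ B.natDegree = c ∧ B.reverse = B ∧
      (∀ Q : F[X], Irreducible Q → Q ∣ B → Q ∣ X ^ r - 1) ∧ ¬ (X - C (1 : F)) ∣ B := by
    have hdeg := SympOrderR.natDegree_factor (F := F) (p := p) rfl hr.out hrp hi hg
    by_cases hev : Even i
    · rw [if_pos hev] at hc
      exact ⟨g, hgm, hdeg.trans hc.symm, SympOrderR.reverse_of_star (F := F) hr.out hrp hg
        ((SympOrderR.star_eq_iff (F := F) (p := p) rfl hr.out hrp hi hr2 hg).2 hev),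
        fun Q _ hQ => hQ.trans hgx, hg1 hg⟩
    · rw [if_neg hev] at hc
      obtain ⟨hs, hss⟩ := SympOrderR.star_mem (F := F) hr.out hrp hg
      obtain ⟨hsm, -, -⟩ := SympOrderR.mem_factors.1 hs
      refine ⟨g * SympOrderR.star g, hgm.mul hsm, ?_, SympOrderR.reverse_eq_of_star ?_ ?_,
        fun Q hQ hd => (hQ.prime.dvd_or_dvd hd).elim (fun h => h.trans hgx)
          fun h => h.trans (SympOrderR.facts (F := F) hr.out hrp hs).2.1,
        fun hd => ((irreducible_X_sub_C (1 : F)).prime.dvd_or_dvd hd).elim (hg1 hg) (hg1 hs)⟩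
      · rw [hgm.natDegree_mul hsm, hdeg, SympOrderR.natDegree_factor (F := F) (p := p) rfl hr.out hrp hi hs, hc,
          two_mul]
      · rw [mul_coeff_zero, show (SympOrderR.star g).coeff 0 = _ from (SemiPalin.tilde_facts _ hgm hg0).2.2,
          RingHom.id_apply, mul_inv_cancel₀ hg0]
      · rw [SympOrderR.star_mul, hss, mul_comm]
  obtain ⟨f, hfdef⟩ : ∃ f, f = (X - C (1 : F)) ^ e * B ^ M := ⟨_, rfl⟩
  have hf : f.Monic := hfdef ▸ ((monic_X_sub_C 1).pow e).mul (hBm.pow M)
  obtain ⟨A, hA, hAf⟩ := exists_symp_isom (p := p) (d := d) hr.out hf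
    (by rw [hfdef, reverse_mul_of_domain, PalinCount.reverse_pow', PalinCount.reverse_pow', PalinCount.reverse_X_sub_one,
      he.neg_pow, hBr])
    (by rw [hfdef, ((monic_X_sub_C 1).pow e).natDegree_mul (hBm.pow M), (monic_X_sub_C 1).natDegree_pow,
      natDegree_X_sub_C, hBm.natDegree_pow, hBd, ← hed, mul_one, mul_comm c])
    (fun Q _ hQ hd => (hQ.prime.dvd_or_dvd (hfdef ▸ hd)).elim
      (fun h => (hQ.prime.dvd_of_dvd_pow h).trans PalinCount.X_sub_one_dvd)
      fun h => hBall Q hQ (hQ.prime.dvd_of_dvd_pow h))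
  have hT := coe_pow_eq_one hA
  have hrF : (r : F) ≠ 0 := SympOrderR.r_ne_zero hr.out hrp
  refine ⟨A, hA, le_antisymm (finrank_fix_lt hrF hT fun hd => ?_) ?_⟩
  · rw [hAf, hfdef, pow_succ, mul_dvd_mul_iff_left (pow_ne_zero _ (X_sub_C_ne_zero 1))] at hd
    exact hB1 ((irreducible_X_sub_C (1 : F)).prime.dvd_of_dvd_pow hd)
  · obtain ⟨T, hTdef⟩ : ∃ T, T = Matrix.toLinAlgEquiv' (A : Matrix (Fin d ⊕ Fin d) (Fin d ⊕ Fin d) F) := ⟨_, rfl⟩
    rw [← hTdef] at hT hAf ⊢
    refine le_trans ?_ (Submodule.finrank_mono (s := Module.End.maxGenEigenspace T 1) fun v hv => ?_)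
    · rw [LinearMap.finrank_maxGenEigenspace_eq, Polynomial.le_rootMultiplicity_iff
        (LinearMap.charpoly_monic T).ne_zero, hAf, hfdef]
      exact dvd_mul_right _ _
    · rw [Module.End.mem_maxGenEigenspace, one_smul] at hv
      obtain ⟨k, hk⟩ := hv
      have key : ∀ (k : ℕ) w, ((T - 1) ^ k) w = 0 → (T - 1) w = 0 := by
        intro k
        induction k with
        | zero => intro w h; rw [show w = 0 from h, map_zero]
        | succ k ih =>
          intro w h
          rw [pow_succ, Module.End.mul_apply] at h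
          exact fix_mov_zero hrF hT w (ih _ h)
      exact key k v hk

end CfsgLib.MaxSub.FixExact
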