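import Cfsg.Agent.Lib.MaxSub.IsoType
import Cfsg.Agent.Lib.Geom.OmegaMax

/-!
Quadratic forms in characteristic two with a given polar form: forms invariant under an involution, both types
among them, isometry of forms of the same type, and fixed-point-free automorphisms of odd prime order.
-/

set_option autoImplicit false

namespace CfsgLib.MaxSub.FormsTwo

open CfsgLib.Classical CfsgLib.MaxSub.IsoSemi CfsgLib.MaxSub.IsoType CfsgLib.KnownC CfsgLib.KnownC.OrthType
open QuadraticMap (polar)

universe u v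

variable {F : Type u} [Field F] [Fintype F] {V : Type v} [AddCommGroup V] [Module F V] [FiniteDimensional F V]

omit [Fintype F] [FiniteDimensional F V] in
theorem polar_add_sq (h2 : (2 : F) = 0) (Q : QuadraticForm F V) (l : V →ₗ[F] F) (u v : V) :
    polar (Q + QuadraticMap.linMulLin l l) u v = polar Q u v := by
  simp only [QuadraticMap.polar, QuadraticMap.add_apply, QuadraticMap.linMulLin_apply, map_add]
  linear_combination (l u * l v) * h2

omit [FiniteDimensional F V] in
theorem exists_root (h2 : (2 : F) = 0) (x : F) : ∃ c : F, c ^ 2 = x := by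
  have hinj : Function.Injective fun c : F => c ^ 2 := fun a b hab => by
    simp only at hab
    exact sub_eq_zero.1 ((pow_eq_zero_iff (two_ne_zero (α := ℕ))).1
      (show (a - b) ^ 2 = 0 by linear_combination hab + (b ^ 2 - a * b) * h2))
  exact Finite.injective_iff_surjective.1 hinj x

/-- An isometry of the polar form of order two leaves a form with this polar form invariant. -/
theorem exists_invariant (h2 : (2 : F) = 0) (Q : QuadraticForm F V) (T : Module.End F V) (hT : T * T = 1)
    (hiso : ∀ u v, polar Q (T u) (T v) = polar Q u v) :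
    ∃ Q' : QuadraticForm F V, (∀ u v, polar Q' u v = polar Q u v) ∧ ∀ v, Q' (T v) = Q' v := by
  have hinj : ∀ a b : F, a ^ 2 = b ^ 2 → a = b := fun a b hab =>
    sub_eq_zero.1 ((pow_eq_zero_iff (two_ne_zero (α := ℕ))).1
      (show (a - b) ^ 2 = 0 by linear_combination hab + (b ^ 2 - a * b) * h2))
  choose s hs using exists_root (F := F) h2
  let μ : V →ₗ[F] F :=
    { toFun := fun v => s (Q (T v) + Q v)
      map_add' := fun u v => hinj _ _ (by
        rw [hs, map_add, QuadraticMap.map_add Q, QuadraticMap.map_add Q, hiso]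
        linear_combination -hs (Q (T u) + Q u) - hs (Q (T v) + Q v)
          + (polar Q u v - s (Q (T u) + Q u) * s (Q (T v) + Q v)) * h2)
      map_smul' := fun c v => hinj _ _ (by
        simp only [smul_eq_mul, mul_pow, hs, map_smul, QuadraticMap.map_smul, RingHom.id_apply]
        ring) }
  have hμ : μ ∈ (LinearMap.ker (T - 1)).dualAnnihilator := by
    rw [Submodule.mem_dualAnnihilator]
    intro v hv
    rw [LinearMap.mem_ker, LinearMap.sub_apply, sub_eq_zero, Module.End.one_apply] at hv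
    exact hinj _ _ (by rw [show μ v = s (Q (T v) + Q v) from rfl, hs, hv]; linear_combination (Q v) * h2)
  rw [← LinearMap.range_dualMap_eq_dualAnnihilator_ker] at hμ
  obtain ⟨l, hl⟩ := hμ
  refine ⟨Q + QuadraticMap.linMulLin l l, polar_add_sq h2 Q l, fun v => ?_⟩
  have h : l (T v - v) = s (Q (T v) + Q v) := LinearMap.congr_fun hl v
  have h' := hs (Q (T v) + Q v)
  rw [← h, map_sub] at h'
  simp only [QuadraticMap.add_apply, QuadraticMap.linMulLin_apply]
  linear_combination h' + (Q (T v) - l v * l v + l (T v) * l v) * h2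

/-- Adding squares of the functional of a non-singular vector reaches both types. -/
theorem exists_flip (h2 : (2 : F) = 0) (Q : QuadraticForm F V) (hQ : ∀ x, (∀ y, polar Q x y = 0) → x = 0) {k : ℕ}
    (hk : Module.finrank F V = 2 * k) {a : V} (ha : Q a ≠ 0) :
    ∃ c : F, ¬(HasHalf (Q + QuadraticMap.linMulLin (c • Q.polarBilin a) (c • Q.polarBilin a)) ⊤ ↔
      HasHalf Q ⊤) := by
  classical
  have ha0 : a ≠ 0 := fun h => ha (by rw [h, map_zero])
  obtain ⟨b', hb'⟩ : ∃ b', polar Q a b' ≠ 0 := by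
    by_contra h; push Not at h; exact ha0 (hQ a h)
  obtain ⟨b, hb⟩ : ∃ b, polar Q a b = 1 := ⟨(polar Q a b')⁻¹ • b', by
    rw [QuadraticMap.polar_smul_right, smul_eq_mul, inv_mul_cancel₀ hb']⟩
  have haa : polar Q a a = 0 := by
    rw [QuadraticMap.polar_self, nsmul_eq_mul, Nat.cast_two, h2, zero_mul]
  have hba : polar Q b a = 1 := by rw [QuadraticMap.polar_comm]; exact hb
  obtain ⟨E, hE⟩ : ∃ E, E = Submodule.span F {a, b} := ⟨_, rfl⟩
  have haE : a ∈ E := hE ▸ Submodule.subset_span (by simp)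
  have hbE : b ∈ E := hE ▸ Submodule.subset_span (by simp)
  have hmem : ∀ v ∈ E, ∃ x y : F, x • a + y • b = v := fun v hv => by
    rw [hE, Submodule.mem_span_pair] at hv; exact hv
  have hEnd : ND Q.polarBilin E := fun v hv h => by
    obtain ⟨x, y, rfl⟩ := hmem v hv
    have h1 : polar Q (x • a + y • b) a = 0 := h a haE
    have h3 : polar Q (x • a + y • b) b = 0 := h b hbE
    rw [QuadraticMap.polar_add_left, QuadraticMap.polar_smul_left, QuadraticMap.polar_smul_left, haa, hba,
      smul_eq_mul, smul_eq_mul] at h1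
    rw [QuadraticMap.polar_add_left, QuadraticMap.polar_smul_left, QuadraticMap.polar_smul_left, hb,
      smul_eq_mul, smul_eq_mul] at h3
    have hy : y = 0 := by linear_combination h1
    rw [hy, zero_mul, add_zero, mul_one] at h3
    rw [h3, hy, zero_smul, zero_smul, add_zero]
  have hG := IsoOrth.geom hQ
  have hE2 : Module.finrank F E = 2 := by
    let L : (F × F) →ₗ[F] V := (LinearMap.toSpanSingleton F V a).coprod (LinearMap.toSpanSingleton F V b)
    have hL : ∀ w, L w = w.1 • a + w.2 • b := fun w => rfl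
    have hi : Function.Injective L := (injective_iff_map_eq_zero L).2 fun w hw => by
      have h1 := congrArg (fun z => polar Q z a) hw
      have h3 := congrArg (fun z => polar Q z b) hw
      simp only [hL, QuadraticMap.polar_add_left, QuadraticMap.polar_smul_left, haa, hb, hba,
        QuadraticMap.polar_zero_left, smul_eq_mul, mul_zero, zero_add, mul_one] at h1 h3
      rw [h1, zero_mul, add_zero] at h3
      exact Prod.ext h3 h1
    have hr : E = LinearMap.range L := le_antisymm
      (fun v hv => by obtain ⟨x, y, rfl⟩ := hmem v hv; exact ⟨(x, y), rfl⟩)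
      (by rintro _ ⟨w, rfl⟩; exact E.add_mem (E.smul_mem _ haE) (E.smul_mem _ hbE))
    rw [hr, LinearMap.finrank_range_of_inj hi, Module.finrank_prod, Module.finrank_self]
  obtain ⟨R, hR⟩ : ∃ R, R = perp Q.polarBilin E := ⟨_, rfl⟩
  have hsum := finrank_perp hG E
  have hRnd : ND Q.polarBilin R := hR ▸ nd_perp hG hEnd
  have hRd : Module.finrank F R = 2 * (k - 1) := by rw [hR]; omega
  have htop : E ⊔ R = ⊤ := by
    refine Submodule.eq_top_of_finrank_eq ?_
    rw [(finrank_sum hQ hEnd hR.le).2, hE2, hRd]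
    omega
  have hRa : ∀ w ∈ R, polar Q a w = 0 := fun w hw => (hR ▸ hw : w ∈ perp Q.polarBilin E) a haE
  -- the type for each `c`
  have htype : ∀ c : F, HasHalf (Q + QuadraticMap.linMulLin (c • Q.polarBilin a) (c • Q.polarBilin a)) ⊤ ↔
      (HasHalf (Q + QuadraticMap.linMulLin (c • Q.polarBilin a) (c • Q.polarBilin a)) E ↔ HasHalf Q R) := by
    intro c
    obtain ⟨Q', hQ'⟩ : ∃ Q', Q' = Q + QuadraticMap.linMulLin (c • Q.polarBilin a) (c • Q.polarBilin a) := ⟨_, rfl⟩
    rw [← hQ']
    have hp : ∀ u v, polar Q' u v = polar Q u v := hQ' ▸ polar_add_sq h2 Q _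
    have hB : Q'.polarBilin = Q.polarBilin := LinearMap.ext fun u => LinearMap.ext fun v => hp u v
    have hR' : HasHalf Q' R ↔ HasHalf Q R := by
      have h0 : ∀ w ∈ R, Q' w = Q w := fun w hw => by
        simp [hQ', hRa w hw]
      exact ⟨fun ⟨W, hW, hz, hd⟩ => ⟨W, hW, fun w hw => h0 w (hW hw) ▸ hz w hw, hd⟩,
        fun ⟨W, hW, hz, hd⟩ => ⟨W, hW, fun w hw => (h0 w (hW hw)).trans (hz w hw), hd⟩⟩
    rw [← hR', ← htop, hasHalf_sum_iff (fun x hx => hQ x fun y => (hp x y).symm.trans (hx y)) (hB ▸ hEnd)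
      (hB ▸ hRnd) (hB ▸ hR.le) (k₁ := 1) (by rw [hE2]) hRd]
  have hval : ∀ (c x y : F), (Q + QuadraticMap.linMulLin (c • Q.polarBilin a) (c • Q.polarBilin a)) (x • a + y • b) =
      Q a * x ^ 2 + x * y + (Q b + c ^ 2) * y ^ 2 := fun c x y => by
    simp only [QuadraticMap.add_apply, QuadraticMap.linMulLin_apply, LinearMap.smul_apply, map_add, map_smul,
      QuadraticMap.polarBilin_apply_apply, haa, hb, smul_eq_mul, QuadraticMap.map_add Q, QuadraticMap.map_smul,
      QuadraticMap.polar_smul_left, QuadraticMap.polar_smul_right]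
    ring
  -- an isotropic plane
  obtain ⟨c₀, hc₀⟩ := exists_root h2 (Q b)
  have hiso : HasHalf (Q + QuadraticMap.linMulLin (c₀ • Q.polarBilin a) (c₀ • Q.polarBilin a)) E := by
    refine ⟨Submodule.span F {b}, (Submodule.span_singleton_le_iff_mem b E).2 hbE, fun w hw => ?_, ?_⟩
    · obtain ⟨y, rfl⟩ := Submodule.mem_span_singleton.1 hw
      rw [show y • b = (0 : F) • a + y • b by rw [zero_smul, zero_add], hval, hc₀]
      linear_combination (y ^ 2 * Q b) * h2
    · rw [finrank_span_singleton (fun h => by simp [h] at hb), hE2]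
  -- an anisotropic plane
  obtain ⟨t, ht⟩ : ∃ t, ∀ z : F, Q a * z ^ 2 + z + t ≠ 0 := by
    have hns : ¬ Function.Surjective (fun z : F => Q a * z ^ 2 + z) := fun h => by
      have h0 := Finite.injective_iff_surjective.2 h (a₁ := (0 : F)) (a₂ := -(Q a)⁻¹) (by field_simp; ring)
      simp [ha] at h0
    simp only [Function.Surjective, not_forall, not_exists] at hns
    obtain ⟨w, hw⟩ := hns
    exact ⟨-w, fun z hz => hw z (by linear_combination hz)⟩
  obtain ⟨c₁, hc₁⟩ := exists_root h2 (t - Q b)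
  have haniso : ¬ HasHalf (Q + QuadraticMap.linMulLin (c₁ • Q.polarBilin a) (c₁ • Q.polarBilin a)) E := by
    rintro ⟨W, hW, hz, hd⟩
    rw [hE2] at hd
    obtain ⟨v, hv, hv0⟩ := W.exists_mem_ne_zero_of_ne_bot fun h => by rw [h, finrank_bot] at hd; omega
    obtain ⟨x, y, rfl⟩ := hmem v (hW hv)
    have h := hz _ hv
    rw [hval, hc₁, add_sub_cancel] at h
    by_cases hy : y = 0
    · rw [hy, mul_zero, add_zero, zero_pow two_ne_zero, mul_zero, add_zero, mul_eq_zero, or_iff_right ha,
        pow_eq_zero_iff two_ne_zero] at h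
      exact hv0 (by rw [h, hy, zero_smul, zero_smul, add_zero])
    · refine ht (x / y) ?_
      field_simp
      linear_combination h
  by_cases hcase : HasHalf Q ⊤ ↔ (True ↔ HasHalf Q R)
  · exact ⟨c₁, fun h => haniso (by rw [htype] at h; tauto)⟩
  · exact ⟨c₀, fun h => hcase (by rw [htype, iff_true_intro hiso] at h; exact h.symm)⟩

/-- An involutory isometry of the polar form leaves forms of both types invariant, or only hyperbolic ones in
even index. -/
theorem exists_types (h2 : (2 : F) = 0) (Q : QuadraticForm F V) (hQ : ∀ x, (∀ y, polar Q x y = 0) → x = 0) {k : ℕ}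
    (hk : Module.finrank F V = 2 * k) (T : Module.End F V) (hT : T * T = 1)
    (hiso : ∀ u v, polar Q (T u) (T v) = polar Q u v) :
    (∀ ε : Prop, ∃ Q' : QuadraticForm F V,
        (∀ u v, polar Q' u v = polar Q u v) ∧ (∀ v, Q' (T v) = Q' v) ∧ (HasHalf Q' ⊤ ↔ ε)) ∨
      (∃ Q' : QuadraticForm F V, (∀ u v, polar Q' u v = polar Q u v) ∧ (∀ v, Q' (T v) = Q' v) ∧
        HasHalf Q' ⊤ ∧ ∀ v, T v = v → Q' v = 0) := by
  obtain ⟨Q₁, hp, hinv⟩ := exists_invariant h2 Q T hT hiso
  by_cases hts : ∀ v, T v = v → Q₁ v = 0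
  · refine Or.inr ⟨Q₁, hp, hinv, ?_, hts⟩
    have hsep : ∀ x, (∀ y, polar Q₁ x y = 0) → x = 0 := fun x hx => hQ x fun y => (hp x y).symm.trans (hx y)
    have hK : ∀ w ∈ LinearMap.ker (T - 1), Q₁ w = 0 := fun w hw => hts w (by
      rwa [LinearMap.mem_ker, LinearMap.sub_apply, sub_eq_zero] at hw)
    have hle : LinearMap.range (T - 1) ≤ LinearMap.ker (T - 1) := by
      rintro _ ⟨v, rfl⟩
      have h4 : (T - 1) * (T - 1) = 0 := LinearMap.ext fun v => by
        have hneg : (-1 : F) = 1 := by linear_combination -h2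
        have h5 : T (T v) = v := LinearMap.congr_fun hT v
        simp only [Module.End.mul_apply, LinearMap.sub_apply, Module.End.one_apply, map_sub, h5,
          LinearMap.zero_apply]
        rw [show v - T v - (T v - v) = (2 : F) • (v - T v) by rw [two_smul]; abel, h2, zero_smul]
      exact LinearMap.congr_fun h4 v
    have h1 := (T - 1).finrank_range_add_finrank_ker
    have h3 := Submodule.finrank_mono hle
    have h4 := two_mul_ti_le (IsoOrth.geom hsep) (U := ⊤) (fun u _ h => hsep u fun v => h v trivial) le_top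
      (IsoOrth.ti_of_ts hK)
    rw [finrank_top] at h4
    exact ⟨LinearMap.ker (T - 1), le_top, hK, by rw [finrank_top]; omega⟩
  · push Not at hts
    obtain ⟨a, hTa, ha⟩ := hts
    refine Or.inl fun ε => ?_
    by_cases hε : HasHalf Q₁ ⊤ ↔ ε
    · exact ⟨Q₁, hp, hinv, hε⟩
    obtain ⟨c, hc⟩ := exists_flip h2 Q₁ (fun x hx => hQ x fun y => (hp x y).symm.trans (hx y)) hk ha
    refine ⟨Q₁ + QuadraticMap.linMulLin (c • Q₁.polarBilin a) (c • Q₁.polarBilin a),
      fun u v => (polar_add_sq h2 Q₁ _ u v).trans (hp u v), fun v => ?_, by tauto⟩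
    have h : polar Q₁ a (T v) = polar Q₁ a v := by
      rw [hp, hp]; nth_rewrite 1 [← hTa]; exact hiso a v
    simp [QuadraticMap.linMulLin_apply, hinv, h]

/-- Two non-degenerate forms of the same type are isometric. -/
theorem exists_isometry (Q₁ Q₂ : QuadraticForm F V) (h₁ : ∀ x, (∀ y, polar Q₁ x y = 0) → x = 0)
    (h₂ : ∀ x, (∀ y, polar Q₂ x y = 0) → x = 0) {k : ℕ} (hk : Module.finrank F V = 2 * k)
    (h : HasHalf Q₁ ⊤ ↔ HasHalf Q₂ ⊤) : ∃ e : V ≃ₗ[F] V, ∀ v, Q₁ (e v) = Q₂ v := by
  rw [← isPlus_iff_hasHalf Q₁ h₁ hk, ← isPlus_iff_hasHalf Q₂ h₂ hk] at h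
  by_cases hP : IsPlus Q₁ k
  · obtain ⟨e₁, he₁⟩ := hP
    obtain ⟨e₂, he₂⟩ := h.1 ⟨e₁, he₁⟩
    exact ⟨e₂.symm.trans e₁, fun v => by
      rw [LinearEquiv.trans_apply, he₁, ← he₂, e₂.apply_symm_apply]⟩
  · obtain ⟨l, rfl, hM₁⟩ := (dichotomy Q₁ h₁ hk).resolve_left hP
    obtain ⟨l', hl', hM₂⟩ := (dichotomy Q₂ h₂ hk).resolve_left (mt h.2 hP)
    obtain rfl : l' = l := by omega
    obtain ⟨a, b, hab⟩ := exists_anisotropic_binary (F := F)
    obtain ⟨e₁, he₁⟩ := hM₁ a b hab
    obtain ⟨e₂, he₂⟩ := hM₂ a b hab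
    exact ⟨e₂.symm.trans e₁, fun v => by
      rw [LinearEquiv.trans_apply, he₁, ← he₂, e₂.apply_symm_apply]⟩

omit [Fintype F] [FiniteDimensional F V] in
/-- The zeros of an invariant form of an automorphism of prime order without fixed vectors. -/
theorem card_zeros_modEq [Finite V] {r : ℕ} [Fact r.Prime] (Q : QuadraticForm F V) (f : V ≃ₗ[F] V)
    (hfr : f ^ r = 1) (hfix : ∀ v, f v = v → v = 0) (hinv : ∀ v, Q (f v) = Q v) :
    Nat.card {v : V // Q v = 0} ≡ 1 [MOD r] := by
  classical
  haveI := Fintype.ofFinite {v : V // Q v = 0}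
  let σ : Equiv.Perm {v : V // Q v = 0} := f.toEquiv.subtypeEquiv fun v => by
    show Q v = 0 ↔ Q (f v) = 0
    rw [hinv]
  have hσ : ∀ (j : ℕ) (v : {v : V // Q v = 0}), ((σ ^ j) v).1 = (f ^ j) v.1 := by
    intro j
    induction j with
    | zero => intro v; rfl
    | succ j ih => intro v; rw [pow_succ', Equiv.Perm.mul_apply, pow_succ', LinearEquiv.mul_apply, ← ih v]; rfl
  have h1 : σ ^ r ^ 1 = 1 := Equiv.ext fun v => Subtype.ext (by rw [pow_one, hσ, hfr]; rfl)
  have h := Equiv.Perm.card_compl_support_modEq h1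
  have hs : σ.supportᶜ = {(⟨0, map_zero Q⟩ : {v : V // Q v = 0})} := by
    ext v
    rw [Finset.mem_compl, Equiv.Perm.mem_support, not_not, Finset.mem_singleton]
    exact ⟨fun hv => Subtype.ext (hfix _ (congrArg Subtype.val hv)), fun hv => by subst hv; exact Subtype.ext (map_zero f)⟩
  rw [hs, Finset.card_singleton, ← Nat.card_eq_fintype_card] at h
  exact h.symm

end CfsgLib.MaxSub.FormsTwo
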