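import Cfsg.Agent.Lib.MaxSub.SlFourSympl

/-!
Transfer of maximality for the normaliser of a group of symplectic type of order 64 along a double cover of a
six-dimensional `Ω` over a prime field.
-/

set_option autoImplicit false
set_option linter.unusedSectionVars false

namespace CfsgLib.MaxSub.FourCover

open scoped MatrixGroups
open Cfsg.Geo Matrix CfsgLib.Classical CfsgLib.Geom CfsgLib.MaxSub.SymFour
open CfsgLib.MaxSub.OMono (sq Mono conjHom conjHom_commutator flipQ flipQ_mem_commutator flipQ_single flipQ_apply)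
open CfsgLib.MaxSub.OSix (ev Diag)
open CfsgLib.MaxSub.SlFour.Sympl (diag_conj)
open QuadraticMap (polar)

variable {K : Type*} [Field K] [Fintype K] {F : Type*} [Field F] [Fintype F] {κ : Type} [Fintype κ] [DecidableEq κ]
  {Q : QuadraticForm F (κ → F)} {S : Subgroup (GL (Fin 4) K)}

local notation "G4" => GL (Fin 4) K
local notation "M4" => Matrix (Fin 4) (Fin 4) K

/-- a double cover of the commutator subgroup of the isometry group -/
structure Cover (phi : S →* quadIsoms Q) : Prop where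
  range_eq : phi.range = commutator (quadIsoms Q)
  ker : ∀ g : S, phi g = 1 ↔ ((g : G4) = 1 ∨ (g : G4) = -1)

variable {phi : S →* quadIsoms Q}

theorem Cover.eq_or_neg (C : Cover phi) {g h : S} (e : phi g = phi h) : (g : G4) = h ∨ (g : G4) = -h := by
  rcases (C.ker (g * h⁻¹)).1 (by rw [map_mul, map_inv, e, mul_inv_cancel]) with hgh | hgh
  · left
    rwa [Subgroup.coe_mul, Subgroup.coe_inv, mul_inv_eq_one] at hgh
  · right
    rw [Subgroup.coe_mul, Subgroup.coe_inv, mul_inv_eq_iff_eq_mul, neg_one_mul] at hgh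
    exact hgh

theorem Cover.eq_of_neg (C : Cover phi) {g h : S} (e : (g : G4) = -(h : G4)) : phi g = phi h := by
  have h1 : phi (g * h⁻¹) = 1 :=
    (C.ker _).2 (Or.inr (by rw [Subgroup.coe_mul, Subgroup.coe_inv, e, neg_mul, mul_inv_cancel]))
  rwa [map_mul, map_inv, mul_inv_eq_one] at h1

/-- maximality in the cover from a dichotomy in the six-dimensional group -/
theorem Cover.isMaximalIn_of (C : Cover phi) (H : Subgroup G4) (P : quadIsoms Q → Prop)
    (hiff : ∀ g : S, (g : G4) ∈ H ↔ P (phi g))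
    (hmove : ∃ k ∈ commutator (quadIsoms Q), ¬ P k)
    (hdich : ∀ M : Subgroup (quadIsoms Q),
      (∀ k ∈ commutator (quadIsoms Q), P k → k ∈ M) →
      ∀ k ∈ M, k ∈ commutator (quadIsoms Q) → ¬ P k → commutator (quadIsoms Q) ≤ M) :
    IsMaximalIn S (H ⊓ S) := by
  have hr := C.range_eq
  refine ⟨lt_of_le_not_ge inf_le_right fun hle => ?_, fun M hHM hMK => ?_⟩
  · obtain ⟨k, hk, hkP⟩ := hmove
    obtain ⟨g, rfl⟩ := hr.ge hk
    exact hkP ((hiff g).1 (hle g.2).1)
  by_cases hex : ∀ m ∈ M, m ∈ H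
  · exact Or.inl (le_antisymm (fun m hm => ⟨hex m hm, hMK hm⟩) hHM)
  push Not at hex
  obtain ⟨m, hm, hmH⟩ := hex
  obtain ⟨M', hM'⟩ : ∃ M', M' = (M.subgroupOf S).map phi := ⟨_, rfl⟩
  have hle := hdich M'
    (fun k hk hkP => by
      obtain ⟨g, rfl⟩ := hr.ge hk
      rw [hM']
      exact Subgroup.mem_map_of_mem _ (Subgroup.mem_subgroupOf.2 (hHM ⟨(hiff g).2 hkP, g.2⟩)))
    (phi ⟨m, hMK hm⟩) (by rw [hM']; exact Subgroup.mem_map_of_mem _ (Subgroup.mem_subgroupOf.2 hm))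
    (hr.le ⟨_, rfl⟩) fun h => hmH ((hiff _).2 h)
  refine Or.inr (le_antisymm hMK fun x hx => ?_)
  have hx' := hle (hr.le ⟨⟨x, hx⟩, rfl⟩)
  rw [hM'] at hx'
  obtain ⟨y, hy, hyx⟩ := hx'
  obtain ⟨d, hd⟩ : ∃ d : S, d = ⟨x, hx⟩ * y⁻¹ := ⟨_, rfl⟩
  have hd1 : phi d = 1 := by rw [hd, map_mul, map_inv, hyx, mul_inv_cancel]
  have hdP : P (phi d) := by rw [hd1, ← map_one phi]; exact (hiff 1).1 (one_mem H)
  have hdM : (d : G4) ∈ M := hHM ⟨(hiff d).2 hdP, d.2⟩
  have e : x = (d : G4) * (y : G4) := by rw [hd]; simp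
  rw [e]
  exact mul_mem hdM (Subgroup.mem_subgroupOf.1 hy)

/-- The normaliser of a group of symplectic type of order 64 is maximal in a double cover of six-dimensional `Ω`. -/
theorem Cover.sympType_maximal (C : Cover phi) (hp : (Fintype.card F).Prime) (h2 : (2 : F) ≠ 0)
    (hκ : Fintype.card κ = 6) (hQ : ∀ x, (∀ y, polar Q x y = 0) → x = 0) {R : Subgroup G4} (hP : Pauli R)
    (h64 : Nat.card R = 64) (hle : R ≤ S) : IsMaximalIn S (subgroupNormalizer R ⊓ S) := by
  classical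
  obtain ⟨f, hf⟩ : ∃ f : R →* quadIsoms (Q), f = phi.comp (Subgroup.inclusion hle) := ⟨_, rfl⟩
  have hfa : ∀ y : R, f y = phi ⟨y, hle y.2⟩ := fun y => by rw [hf]; rfl
  obtain ⟨A, hA⟩ : ∃ A, A = f.range := ⟨_, rfl⟩
  have hAle : A ≤ commutator (quadIsoms (Q)) := by
    rintro a ha
    obtain ⟨y, rfl⟩ := hA.le ha
    rw [hfa]
    exact C.range_eq.le ⟨_, rfl⟩
  have hsq : ∀ a ∈ A, a * a = 1 := fun a ha => by
    obtain ⟨y, rfl⟩ := hA.le ha
    rw [hfa, ← map_mul]
    exact (C.ker _).2 (hP.sq y y.2)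
  have hab : ∀ a ∈ A, ∀ b ∈ A, a * b = b * a := fun a ha b hb => by
    obtain ⟨x, rfl⟩ := hA.le ha
    obtain ⟨y, rfl⟩ := hA.le hb
    rw [hfa, hfa, ← map_mul, ← map_mul]
    rcases hP.comm x x.2 y y.2 with h | h
    · exact congrArg phi (Subtype.ext h)
    · exact C.eq_of_neg h
  haveI := CfsgLib.MaxSub.OLines.finite_quadIsoms (Pi.basisFun F κ) (Q := Q)
  have hcard : 32 ≤ Nat.card A := by
    obtain ⟨hk, -⟩ := card_le_of_scalar f.ker (fun y => ((y : G4) : M4))
      (fun a b e => Subtype.ext (Units.ext e)) fun y hy => by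
        rcases (C.ker _).1 ((hfa y).symm.trans (MonoidHom.mem_ker.1 hy)) with h | h
        · exact ⟨1, one_mul 1, by rw [one_smul, show (y : G4) = 1 from h, Units.val_one]⟩
        · exact ⟨-1, by ring, by rw [neg_smul, one_smul, show (y : G4) = -1 from h, Units.val_neg, Units.val_one]⟩
    have hH : Nat.card R = Nat.card f.range * Nat.card f.ker := by
      rw [Subgroup.card_eq_card_quotient_mul_card_subgroup f.ker,
        Nat.card_congr (QuotientGroup.quotientKerEquivRange f).toEquiv]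
    have := Nat.mul_le_mul_left (Nat.card f.range) hk
    rw [hA]
    omega
  obtain ⟨ψ, c, hc, hψ, hframe⟩ := OSix.exists_frame h2 hκ Q hQ A hAle hsq hab hcard
  obtain ⟨Φ, hΦ⟩ : ∃ Φ, Φ = conjHom (Q) ψ hc hψ := ⟨_, rfl⟩
  rw [← hΦ] at hframe
  have hcomm : ∀ g : quadIsoms (Q), g ∈ commutator (quadIsoms (Q)) ↔
      Φ g ∈ commutator (quadIsoms (sq (Fin 6) F)) := fun g => by
    rw [← conjHom_commutator (Q) ψ hc hψ, hΦ]
    exact (Subgroup.mem_map_iff_mem (f := (conjHom (Q) ψ hc hψ).toMonoidHom)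
      (conjHom (Q) ψ hc hψ).injective).symm
  have hback : ∀ g : S, Mono (Φ (phi g)) → ∀ y ∈ R, (g : G4) * y * (g : G4)⁻¹ ∈ R := by
    intro g hg y hy
    have hy' : phi ⟨y, hle hy⟩ ∈ A := hA ▸ ⟨⟨y, hy⟩, hfa _⟩
    have hmem : phi g * phi ⟨y, hle hy⟩ * (phi g)⁻¹ ∈ A := by
      refine (hframe _ ?_).2 ?_
      · rw [← map_mul, ← map_inv, ← map_mul]
        exact C.range_eq.le ⟨_, rfl⟩
      · rw [map_mul, map_mul, map_inv]
        exact diag_conj h2 hg ((hframe _ (hAle hy')).1 hy')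
    obtain ⟨z, hz⟩ := hA.le hmem
    rw [hfa, ← map_mul, ← map_inv, ← map_mul] at hz
    rcases C.eq_or_neg hz.symm with e | e
    · simp only [Subgroup.coe_mul, Subgroup.coe_inv] at e
      rw [e]; exact z.2
    · simp only [Subgroup.coe_mul, Subgroup.coe_inv] at e
      rw [e, ← neg_one_mul]
      exact R.mul_mem hP.negMem z.2
  refine C.isMaximalIn_of (subgroupNormalizer R) (fun k => Mono (Φ k)) (fun g => ⟨fun hg => ?_, fun hg => ?_⟩) ?_ ?_
  · intro i
    have hflip : ∀ m l : Fin 6, m ≠ l → ∃ d : F,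
        (flipQ (F := F) {m, l}).1 ((Φ (phi g)).1 (ev i)) = d • (Φ (phi g)).1 (ev i) := by
      intro m l hml
      obtain ⟨a, ha⟩ := Φ.surjective (flipQ {m, l})
      have hac : a ∈ commutator (quadIsoms (Q)) := (hcomm a).2 (ha ▸ flipQ_mem_commutator hml)
      have haA : a ∈ A := (hframe a hac).2 (fun j => by
        rw [ha, flipQ_single]
        exact ⟨_, OSix.single_smul_ev j _⟩)
      obtain ⟨y, hy⟩ := hA.le haA
      have hy' : ((g : G4)⁻¹ * y * (g : G4)) ∈ R := by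
        have := (Subgroup.mem_normalizer_iff.1 (inv_mem hg) (y : G4)).1 y.2
        rwa [inv_inv] at this
      have hmem : (phi g)⁻¹ * a * phi g ∈ A := by
        rw [hA]
        refine ⟨⟨_, hy'⟩, ?_⟩
        rw [hfa, ← hy, hfa, ← map_inv, ← map_mul, ← map_mul]
        rfl
      obtain ⟨d, hd⟩ := (hframe _ (hAle hmem)).1 hmem i
      refine ⟨d, ?_⟩
      rw [map_mul, map_mul, map_inv, ha, OSix.mul_app, OSix.mul_app] at hd
      rw [← OSix.app_inv (Φ (phi g)) ((flipQ (F := F) {m, l}).1 _), hd, map_smul]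
    obtain ⟨v, hv⟩ : ∃ v, v = (Φ (phi g)).1 (ev i) := ⟨_, rfl⟩
    have hv0 : v ≠ 0 := hv ▸ fun e => by
      simpa [ev] using congrFun ((LinearEquiv.map_eq_zero_iff _).1 e) i
    obtain ⟨m, hm⟩ := Function.ne_iff.1 hv0
    refine ⟨m, v m, hv.symm.trans (OSix.of_one fun n hnm => ?_)⟩
    by_contra hn
    obtain ⟨l, hlm, hln⟩ := OSix.exists_third m n
    obtain ⟨d, hd⟩ := hflip m l (Ne.symm hlm)
    rw [← hv] at hd
    have e1 := congrFun hd m
    have e2 := congrFun hd n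
    rw [flipQ_apply, Pi.smul_apply, smul_eq_mul] at e1 e2
    simp [hnm, Ne.symm hln] at e1 e2
    have hd1 : d = 1 := (mul_eq_right₀ hn).1 e2.symm
    subst hd1
    exact hm ((mul_eq_zero.1 (show (2 : F) * v m = 0 by linear_combination -e1)).resolve_left h2)
  · rw [subgroupNormalizer, Subgroup.mem_normalizer_iff]
    refine fun y => ⟨hback g hg y, fun hy => ?_⟩
    have hg' : Mono (Φ (phi g⁻¹)) := by rw [map_inv, map_inv]; exact OSix.mono_inv h2 hg
    have := hback g⁻¹ hg' _ hy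
    rw [Subgroup.coe_inv, inv_inv] at this
    rwa [show (g : G4)⁻¹ * ((g : G4) * y * (g : G4)⁻¹) * (g : G4) = y by group] at this
  · obtain ⟨k, hk, hkm⟩ := CfsgLib.MaxSub.OMono.exists_not_mono (ι := Fin 6) (F := F) h2 (by simp)
    obtain ⟨g, rfl⟩ := Φ.surjective k
    exact ⟨g, (hcomm g).2 hk, hkm⟩
  · intro M hM k hkM hkc hkP x hx
    have hle' := OSix.commutator_le_of_not_mono (by rwa [Nat.card_eq_fintype_card]) h2 (by simp)
      (M.map Φ.toMonoidHom) (fun z hz' hzm => ?_) (Subgroup.mem_map_of_mem _ hkM) ((hcomm k).1 hkc) hkP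
    · obtain ⟨y, hy, hyx⟩ := hle' ((hcomm x).1 hx)
      rwa [← Φ.injective hyx]
    · obtain ⟨y, rfl⟩ := Φ.surjective z
      exact Subgroup.mem_map_of_mem _ (hM y ((hcomm y).2 hz') hzm)

end CfsgLib.MaxSub.FourCover
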