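import Cfsg.Agent.Lib.MaxSub.DecompCoord
import Cfsg.Agent.Lib.MaxSub.OrthPolar
import Cfsg.Agent.Lib.MaxSub.OmegaGen

/-!
Decompositions into small orthogonal pieces whose stabiliser preserves a finer frame: never maximal in `Ω`.
-/

set_option autoImplicit false

namespace CfsgLib.MaxSub.Frame

open Cfsg.Geo CfsgLib.Classical CfsgLib.Geom CfsgLib.MaxSub CfsgLib.MaxSub.Decomp
open QuadraticMap (polar)

variable {ι : Type} [Fintype ι] [DecidableEq ι] {F : Type*} [Field F] [Fintype F]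

/-- forward preservation of a set suffices on a finite space -/
theorem keep_of_fwd (X : Set (ι → F)) (g : GL ι F)
    (h : ∀ x ∈ X, (g : Matrix ι ι F).mulVec x ∈ X) : g ∈ keep (fun x => x ∈ X) := by
  have hinj : Function.Injective (fun x : X => (⟨(g : Matrix ι ι F).mulVec x.1, h x.1 x.2⟩ : X)) := fun x y e => by
    have h1 := congrArg (fun z : X => ((g⁻¹ : GL ι F) : Matrix ι ι F).mulVec z.1) e
    exact Subtype.ext (by simpa [Matrix.mulVec_mulVec] using h1)
  intro x
  refine propext ⟨fun hx => ?_, h x⟩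
  obtain ⟨⟨y, hy⟩, e⟩ := Finite.surjective_of_injective hinj ⟨_, hx⟩
  have h1 := congrArg (fun z : X => ((g⁻¹ : GL ι F) : Matrix ι ι F).mulVec z.1) e
  have h2 : y = x := by simpa [Matrix.mulVec_mulVec] using h1
  exact h2 ▸ hy

/-- a non-degenerate piece has an anisotropic vector -/
theorem exists_anisotropic (Q : QuadraticForm F (ι → F)) {W : Submodule F (ι → F)} (hW : W ≠ ⊥)
    (hnd : IsNondegenerateOn (polar Q) W) : ∃ a ∈ W, Q a ≠ 0 := by
  by_contra hno
  push Not at hno
  obtain ⟨w, hw, hw0⟩ := W.exists_mem_ne_zero_of_ne_bot hW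
  obtain ⟨x, hx, hxw⟩ := (hnd w hw hw0).1
  exact hxw (polar_of_singular hno hx hw)

/-- the orthogonal of an anisotropic vector in a piece -/
theorem exists_orth_anisotropic (Q : QuadraticForm F (ι → F)) {W : Submodule F (ι → F)}
    (hnd : IsNondegenerateOn (polar Q) W) (h2 : (2 : F) ≠ 0) {a : ι → F} (ha : a ∈ W) (hqa : Q a ≠ 0)
    {U : Submodule F (ι → F)} (hUW : U ≤ W) (hU : U ≠ ⊥) (hmem : ∀ y ∈ U, polar Q y a = 0)
    (hmax : ∀ x ∈ W, ∃ s : F, ∃ y ∈ U, x = s • a + y) : ∃ b ∈ U, Q b ≠ 0 := by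
  by_contra hno
  push Not at hno
  obtain ⟨w, hw, hw0⟩ := U.exists_mem_ne_zero_of_ne_bot hU
  obtain ⟨x, hx, hxw⟩ := (hnd w (hUW hw) hw0).1
  obtain ⟨s, y, hy, rfl⟩ := hmax x hx
  refine hxw ?_
  rw [QuadraticMap.polar_add_left, QuadraticMap.polar_smul_left, QuadraticMap.polar_comm Q a w, hmem w hw, smul_zero,
    zero_add]
  exact polar_of_singular hno hy hw

/-- splitting off an anisotropic vector -/
theorem split (Q : QuadraticForm F (ι → F)) (h2 : (2 : F) ≠ 0) {W : Submodule F (ι → F)} {a : ι → F}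
    (ha : a ∈ W) (hqa : Q a ≠ 0) :
    (∀ x ∈ W, ∃ s : F, ∃ y ∈ W ⊓ LinearMap.ker (pLin Q a), x = s • a + y) ∧
      Module.finrank F W ≤ Module.finrank F (W ⊓ LinearMap.ker (pLin Q a) : Submodule F (ι → F)) + 1 := by
  refine ⟨fun x hx => ⟨polar Q x a / (2 * Q a), x - (polar Q x a / (2 * Q a)) • a,
    ⟨sub_mem hx (W.smul_mem _ ha), ?_⟩, by abel⟩, finrank_le_inf_ker W (pLin Q a)⟩
  show polar Q _ a = 0
  rw [QuadraticMap.polar_sub_left, QuadraticMap.polar_smul_left, polar_self_two, smul_eq_mul]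
  field_simp
  ring

/-- the two-reflection swap lies in the commutator subgroup -/
theorem swap_mem_commutator (Q : QuadraticForm F (ι → F)) {a₀ a₁ a₂ a₃ : ι → F} {c : F}
    (h0 : Q a₀ = c) (h1 : Q a₁ = c) (h2 : Q a₂ = c) (h3 : Q a₃ = c) (h2c : 2 * c ≠ 0)
    (o01 : polar Q a₀ a₁ = 0) (o02 : polar Q a₀ a₂ = 0) (o03 : polar Q a₀ a₃ = 0) (o12 : polar Q a₁ a₂ = 0)
    (o13 : polar Q a₁ a₃ = 0) (o23 : polar Q a₂ a₃ = 0) :
    ∃ g ∈ commutator (quadIsoms Q), ∀ z, g.1 z = z - ((2 * c)⁻¹ * polar Q (a₁ - a₀) z) • (a₁ - a₀)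
      - ((2 * c)⁻¹ * polar Q (a₃ - a₂) z) • (a₃ - a₂) := by
  have hq : ∀ x y : ι → F, Q x = c → Q y = c → polar Q x y = 0 → Q (y - x) = 2 * c := fun x y hx hy h => by
    have := QuadraticMap.map_add Q (y - x) x
    rw [sub_add_cancel, hx, hy, QuadraticMap.polar_sub_left, polar_self_two, QuadraticMap.polar_comm Q y x, h,
      hx] at this
    linear_combination -this
  have hu : Q (a₁ - a₀) ≠ 0 := by rw [hq _ _ h0 h1 o01]; exact h2c
  have hv : Q (a₃ - a₂) ≠ 0 := by rw [hq _ _ h2 h3 o23]; exact h2c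
  have hw : Q (a₂ - a₀) ≠ 0 := by rw [hq _ _ h0 h2 o02]; exact h2c
  have hw' : Q (a₃ - a₁) ≠ 0 := by rw [hq _ _ h1 h3 o13]; exact h2c
  let R : ∀ v, Q v ≠ 0 → quadIsoms Q := fun v hv => ⟨reflEquiv Q v hv, reflEquiv_mem Q v hv⟩
  let g := R _ hw * R _ hw'
  have hgu : g.1 (a₁ - a₀) = a₃ - a₂ := by
    show (reflEquiv Q _ hw) ((reflEquiv Q _ hw') (a₁ - a₀)) = _
    have e1 : reflEquiv Q _ hw' a₁ = a₃ := reflEquiv_sub Q (h1.trans h3.symm) hw'
    have e2 : reflEquiv Q _ hw' a₀ = a₀ := reflEquiv_fix Q _ hw' (by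
      rw [QuadraticMap.polar_sub_left, QuadraticMap.polar_comm Q a₃, QuadraticMap.polar_comm Q a₁, o03, o01, sub_zero])
    have e3 : reflEquiv Q _ hw a₃ = a₃ := reflEquiv_fix Q _ hw (by
      rw [QuadraticMap.polar_sub_left, o23, o03, sub_zero])
    have e4 : reflEquiv Q _ hw a₀ = a₂ := reflEquiv_sub Q (h0.trans h2.symm) hw
    rw [map_sub, e1, e2, map_sub, e3, e4]
  refine ⟨g * R _ hu * g⁻¹ * (R _ hu)⁻¹,
    Subgroup.commutator_mem_commutator (Subgroup.mem_top g) (Subgroup.mem_top (R _ hu)), fun z => ?_⟩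
  show ((g.1 * reflEquiv Q _ hu * g.1⁻¹) * (reflEquiv Q _ hu)⁻¹) z = _
  rw [conj_reflEquiv Q g.2 _ hu, reflEquiv_inv]
  show reflEquiv Q (g.1 (a₁ - a₀)) (by rw [g.2]; exact hu) (reflEquiv Q (a₁ - a₀) hu z) = _
  have hq' : Q (g.1 (a₁ - a₀)) = 2 * c := by rw [g.2, hq _ _ h0 h1 o01]
  have ho : polar Q (a₃ - a₂) (a₁ - a₀) = 0 := by
    rw [QuadraticMap.polar_sub_left, QuadraticMap.polar_sub_right, QuadraticMap.polar_sub_right,
      QuadraticMap.polar_comm Q a₃, QuadraticMap.polar_comm Q a₃, QuadraticMap.polar_comm Q a₂,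
      QuadraticMap.polar_comm Q a₂, o13, o03, o12, o02]; ring
  rw [reflEquiv_apply, reflEquiv_apply, hq', hq _ _ h0 h1 o01, hgu, QuadraticMap.polar_sub_right,
    QuadraticMap.polar_smul_right, ho, smul_zero, sub_zero]

/-- a finer frame invariant gives a proper overgroup -/
theorem exists_between {t k : ℕ} (Q : QuadraticForm F (ι → F)) {f : (ι → F) → F} (hf : ⇑Q = f)
    (hsep : ∀ x, (∀ y, polar Q x y = 0) → x = 0) (h5 : 5 ≤ Module.finrank F (ι → F))
    {D : Fin t → Submodule F (ι → F)} (hD : IsNondegenerateMDecomposition (polar Q) k D) (ht : 4 ≤ t)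
    (P : F → Prop) (c : F) (hc : 2 * c ≠ 0) (hPc : P c) (hs : ∃ s r : F, 1 + s * s + r * r = 0)
    (a b : Fin t → ι → F) (ha : ∀ i, a i ∈ D i) (hqa : ∀ i, Q (a i) = c)
    (hb : ∀ i, b i ∈ D i ∧ b i ≠ 0 ∧ polar Q (b i) (a i) = 0)
    (hX : ∀ i, ∀ x ∈ D i, P (Q x) → polar Q x (a i) = 0 ∨ x = a i ∨ x = -a i) :
    ∃ K : Subgroup (GL ι F), decompositionStabilizer D ⊓ omegaGL f < K ∧ K < omegaGL f := by
  classical
  subst hf
  let X : Set (ι → F) := {x | P (Q x) ∧ ∃ i, x ∈ D i}
  have horth : ∀ i j, i ≠ j → ∀ x ∈ D i, polar Q x (a j) = 0 := fun i j hij x hx =>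
    hD.orthogonal i j hij x hx _ (ha j)
  have ha0 : ∀ i, a i ≠ 0 := fun i e => hc (by rw [← hqa i, e, QuadraticMap.map_zero, mul_zero])
  have hdisj : ∀ i j, i ≠ j → ∀ x, x ∈ D i → x ∈ D j → x = 0 := fun i j hij x hx hx' =>
    (Submodule.mem_bot F).1 ((hD.decomp.indep.pairwiseDisjoint hij).le_bot ⟨hx, hx'⟩)
  refine ⟨keep (fun x => x ∈ X) ⊓ omegaGL ⇑Q, lt_of_le_of_ne ?_ ?_, lt_of_le_of_ne inf_le_right ?_⟩
  · rintro g ⟨⟨σ, hσ⟩, hgO⟩
    refine ⟨keep_of_fwd X g fun x hx => ?_, hgO⟩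
    obtain ⟨g', -, rfl⟩ := (omegaGL_eq_map Q ▸ hgO : g ∈ (commutator (quadIsoms Q)).map (isomsToGL Q))
    obtain ⟨j, hj⟩ := hx.2
    exact ⟨by rw [isomsToGL_mulVec]; exact (g'.2 x).symm ▸ hx.1, σ j, hσ j ▸ Submodule.mem_map_of_mem hj⟩
  · let i : ℕ → Fin t := fun j => ⟨j % t, Nat.mod_lt _ (by omega)⟩
    have hi : ∀ p r, p < 4 → r < 4 → p ≠ r → i p ≠ i r := fun p r hp hr hpr e => by
      have := congrArg Fin.val e
      simp [i, Nat.mod_eq_of_lt (show p < t by omega), Nat.mod_eq_of_lt (show r < t by omega)] at this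
      exact hpr this
    have o : ∀ p r, p < 4 → r < 4 → p ≠ r → polar Q (a (i p)) (a (i r)) = 0 := fun p r hp hr hpr =>
      horth _ _ (hi p r hp hr hpr) _ (ha _)
    obtain ⟨g, hgc, hgv⟩ := swap_mem_commutator Q (hqa (i 0)) (hqa (i 1)) (hqa (i 2)) (hqa (i 3)) hc
      (o 0 1 (by omega) (by omega) (by omega)) (o 0 2 (by omega) (by omega) (by omega))
      (o 0 3 (by omega) (by omega) (by omega)) (o 1 2 (by omega) (by omega) (by omega))
      (o 1 3 (by omega) (by omega) (by omega)) (o 2 3 (by omega) (by omega) (by omega))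
    -- the image of a point of the frame
    have himg : ∀ j, ∀ x ∈ D j, P (Q x) → (isomsToGL Q g : Matrix ι ι F).mulVec x ∈ X := by
      intro j x hx hP
      refine ⟨by rw [isomsToGL_mulVec]; exact (g.2 x).symm ▸ hP, ?_⟩
      rw [isomsToGL_mulVec, hgv]
      have hz : ∀ p r, p < 4 → r < 4 → p ≠ r → j ≠ i p → j ≠ i r → polar Q (a (i r) - a (i p)) x = 0 :=
        fun p r _ _ _ h h' => by
          rw [QuadraticMap.polar_comm, QuadraticMap.polar_sub_right, horth _ _ h _ hx, horth _ _ h' _ hx, sub_zero]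
      have one : ∀ p r, p < 4 → r < 4 → p ≠ r → (j = i p ∨ j = i r) → polar Q (a (i r) - a (i p)) x ≠ 0 →
          ∃ l, x - ((2 * c)⁻¹ * polar Q (a (i r) - a (i p)) x) • (a (i r) - a (i p)) ∈ D l := by
        intro p r hp hr hpr hj hne
        rw [QuadraticMap.polar_comm, QuadraticMap.polar_sub_right] at hne ⊢
        rcases hj with rfl | rfl
        · rw [horth _ _ (hi p r hp hr hpr) x hx, zero_sub, neg_ne_zero] at hne
          rw [horth _ _ (hi p r hp hr hpr) x hx]
          rcases (hX _ x hx hP).resolve_left hne with rfl | rfl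
          · refine ⟨i r, ?_⟩
            rw [polar_self_two, hqa, zero_sub, mul_neg, inv_mul_cancel₀ hc, neg_one_smul, sub_neg_eq_add,
              add_sub_cancel]
            exact ha _
          · refine ⟨i r, ?_⟩
            rw [QuadraticMap.polar_neg_left, polar_self_two, hqa, zero_sub, neg_neg, inv_mul_cancel₀ hc, one_smul,
              show -a (i p) - (a (i r) - a (i p)) = -a (i r) by abel]
            exact neg_mem (ha _)
        · rw [horth _ _ (hi r p hr hp hpr.symm) x hx, sub_zero] at hne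
          rw [horth _ _ (hi r p hr hp hpr.symm) x hx, sub_zero]
          rcases (hX _ x hx hP).resolve_left hne with rfl | rfl
          · refine ⟨i p, ?_⟩
            rw [polar_self_two, hqa, inv_mul_cancel₀ hc, one_smul, sub_sub_cancel]
            exact ha _
          · refine ⟨i p, ?_⟩
            rw [QuadraticMap.polar_neg_left, polar_self_two, hqa, mul_neg, inv_mul_cancel₀ hc, neg_one_smul,
              sub_neg_eq_add, show -a (i r) + (a (i r) - a (i p)) = -a (i p) by abel]
            exact neg_mem (ha _)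
      by_cases hA : polar Q (a (i 1) - a (i 0)) x = 0
      · rw [hA, mul_zero, zero_smul, sub_zero]
        by_cases hB : polar Q (a (i 3) - a (i 2)) x = 0
        · exact ⟨j, by rw [hB, mul_zero, zero_smul, sub_zero]; exact hx⟩
        · refine one 2 3 (by omega) (by omega) (by omega) ?_ hB
          by_contra h; simp only [not_or] at h
          exact hB (hz 2 3 (by omega) (by omega) (by omega) h.1 h.2)
      · have hj : j = i 0 ∨ j = i 1 := by
          by_contra h; simp only [not_or] at h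
          exact hA (hz 0 1 (by omega) (by omega) (by omega) h.1 h.2)
        have hB : polar Q (a (i 3) - a (i 2)) x = 0 := by
          rcases hj with rfl | rfl
          · exact hz 2 3 (by omega) (by omega) (by omega) (hi 0 2 (by omega) (by omega) (by omega))
              (hi 0 3 (by omega) (by omega) (by omega))
          · exact hz 2 3 (by omega) (by omega) (by omega) (hi 1 2 (by omega) (by omega) (by omega))
              (hi 1 3 (by omega) (by omega) (by omega))
        rw [hB, mul_zero, zero_smul, sub_zero]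
        exact one 0 1 (by omega) (by omega) (by omega) hj hA
    have hgK : isomsToGL Q g ∈ keep (fun x => x ∈ X) ⊓ omegaGL ⇑Q :=
      ⟨keep_of_fwd X _ fun x ⟨hP, j, hj⟩ => himg j x hj hP, omegaGL_eq_map Q ▸ Subgroup.mem_map_of_mem _ hgc⟩
    intro e
    obtain ⟨σ, hσ⟩ := ((e.symm ▸ hgK : isomsToGL Q g ∈ decompositionStabilizer D ⊓ omegaGL ⇑Q)).1
    have hval : ∀ v, v ∈ D (i 0) → g.1 v ∈ D (σ (i 0)) := fun v hv => by
      rw [← hσ]; exact ⟨v, hv, by rw [Matrix.toLin'_apply, isomsToGL_mulVec]⟩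
    have ea : g.1 (a (i 0)) = a (i 1) := by
      rw [hgv, QuadraticMap.polar_sub_left, QuadraticMap.polar_sub_left, polar_self_two, hqa,
        o 1 0 (by omega) (by omega) (by omega), o 3 0 (by omega) (by omega) (by omega),
        o 2 0 (by omega) (by omega) (by omega), sub_self, mul_zero, zero_smul, sub_zero, zero_sub, mul_neg,
        inv_mul_cancel₀ hc, neg_one_smul, sub_neg_eq_add, add_sub_cancel]
    have eb : g.1 (b (i 0)) = b (i 0) := by
      have hz : ∀ p, p < 4 → polar Q (a (i p)) (b (i 0)) = 0 := fun p hp => by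
        rw [QuadraticMap.polar_comm]
        by_cases h : p = 0
        · subst h; exact (hb _).2.2
        · exact horth _ _ (hi 0 p (by omega) hp (Ne.symm h)) _ (hb _).1
      rw [hgv, QuadraticMap.polar_sub_left, QuadraticMap.polar_sub_left, hz 1 (by omega), hz 0 (by omega),
        hz 3 (by omega), hz 2 (by omega)]
      simp
    have h1 := hval _ (ha (i 0))
    have h2 := hval _ (hb (i 0)).1
    rw [ea] at h1
    rw [eb] at h2
    by_cases h : σ (i 0) = i 0
    · rw [h] at h1
      exact ha0 _ (hdisj _ _ (hi 1 0 (by omega) (by omega) (by omega)) _ (ha _) h1)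
    · exact (hb _).2.1 (hdisj _ _ (Ne.symm h) _ (hb _).1 h2)
  · -- a Siegel transformation spreading a frame vector
    obtain ⟨s, r, hsr⟩ := hs
    let i : ℕ → Fin t := fun j => ⟨j % t, Nat.mod_lt _ (by omega)⟩
    have hi : ∀ p r, p < 4 → r < 4 → p ≠ r → i p ≠ i r := fun p r hp hr hpr e => by
      have := congrArg Fin.val e
      simp [i, Nat.mod_eq_of_lt (show p < t by omega), Nat.mod_eq_of_lt (show r < t by omega)] at this
      exact hpr this
    have o : ∀ p r, p < 4 → r < 4 → p ≠ r → polar Q (a (i p)) (a (i r)) = 0 := fun p r hp hr hpr =>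
      horth _ _ (hi p r hp hr hpr) _ (ha _)
    set u := a (i 0) + s • a (i 1) + r • a (i 2) with hu
    have hu3 : ∀ x, polar Q u x = polar Q (a (i 0)) x + s * polar Q (a (i 1)) x + r * polar Q (a (i 2)) x := fun x => by
      rw [hu, QuadraticMap.polar_add_left, QuadraticMap.polar_add_left, QuadraticMap.polar_smul_left,
        QuadraticMap.polar_smul_left, smul_eq_mul, smul_eq_mul]
    have hqu : Q u = 0 := by
      rw [hu, QuadraticMap.map_add Q, QuadraticMap.map_add Q, QuadraticMap.polar_add_left,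
        QuadraticMap.polar_smul_right, QuadraticMap.polar_smul_right, QuadraticMap.polar_smul_right,
        QuadraticMap.polar_smul_left, quad_smul, quad_smul, hqa, hqa, hqa,
        o 0 1 (by omega) (by omega) (by omega), o 0 2 (by omega) (by omega) (by omega),
        o 1 2 (by omega) (by omega) (by omega)]
      simp only [smul_zero, add_zero]
      linear_combination c * hsr
    have huy : polar Q u (a (i 3)) = 0 := by
      rw [hu3, o 0 3 (by omega) (by omega) (by omega), o 1 3 (by omega) (by omega) (by omega),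
        o 2 3 (by omega) (by omega) (by omega)]; ring
    intro e
    have hg : isomsToGL Q (siegel Q u (a (i 3))) ∈ keep (fun x => x ∈ X) ⊓ omegaGL ⇑Q := by
      rw [e, omegaGL_eq_map]
      exact Subgroup.mem_map_of_mem _ (OrthSub.siegel_mem_commutator hsep h5 _ _)
    obtain ⟨-, l, hl⟩ := (iff_of_eq (hg.1 (a (i 3)))).2
      (show a (i 3) ∈ X from ⟨(hqa _).symm ▸ hPc, i 3, ha _⟩)
    rw [isomsToGL_mulVec, siegel_apply Q hqu huy] at hl
    simp only [huy, zero_smul, add_zero, mul_zero, polar_self_two, hqa] at hl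
    have hk : ∀ p, p < 4 → polar Q (a (i 3) - (2 * c) • u) (a (i p)) ≠ 0 → l = i p := fun p _ hne => by
      by_contra h
      exact hne (horth _ _ h _ hl)
    have h3 : l = i 3 := hk 3 (by omega) (by
      rw [QuadraticMap.polar_sub_left, QuadraticMap.polar_smul_left, huy, polar_self_two, hqa, smul_zero, sub_zero]
      exact hc)
    have h0 : l = i 0 := hk 0 (by omega) (by
      rw [QuadraticMap.polar_sub_left, QuadraticMap.polar_smul_left, o 3 0 (by omega) (by omega) (by omega), hu3,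
        polar_self_two, hqa, o 1 0 (by omega) (by omega) (by omega), o 2 0 (by omega) (by omega) (by omega),
        mul_zero, mul_zero, add_zero, add_zero, smul_eq_mul, zero_sub, neg_ne_zero]
      exact mul_ne_zero hc hc)
    exact hi 3 0 (by omega) (by omega) (by omega) (h3.symm.trans h0)

end CfsgLib.MaxSub.Frame
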