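import Cfsg.Agent.Lib.MaxSub.FrameNonMax
import Mathlib.FieldTheory.Finite.Basic

/-!
Orthogonal pieces of dimension two or three over three elements carry an invariant frame.
-/

set_option autoImplicit false

namespace CfsgLib.MaxSub.Frame

open Cfsg.Geo CfsgLib.Classical CfsgLib.Geom CfsgLib.MaxSub
open QuadraticMap (polar)

variable {ι : Type} [Fintype ι] [DecidableEq ι] {F : Type*} [Field F] [Fintype F]

theorem three_facts (hq : Fintype.card F = 3) :
    (3 : F) = 0 ∧ (2 : F) ≠ 0 ∧ (∀ a : F, a ≠ 0 → a * a = 1) ∧ ∀ a : F, a ≠ 0 → a = 1 ∨ a = -1 := by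
  have h3 : (3 : F) = 0 := by
    have h := FiniteField.cast_card_eq_zero F
    rw [hq] at h
    exact_mod_cast h
  have hsq : ∀ a : F, a ≠ 0 → a * a = 1 := fun a ha => by
    have := FiniteField.pow_card_sub_one_eq_one a ha
    rwa [hq, pow_two] at this
  refine ⟨h3, fun h => one_ne_zero (α := F) (by linear_combination h3 - h), hsq, fun a ha => ?_⟩
  have : (a - 1) * (a + 1) = 0 := by linear_combination hsq a ha
  exact (mul_eq_zero.1 this).imp sub_eq_zero.1 eq_neg_of_add_eq_zero_left

theorem nondeg_split (Q : QuadraticForm F (ι → F)) (h2 : (2 : F) ≠ 0) {W : Submodule F (ι → F)}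
    (hnd : IsNondegenerateOn (polar Q) W) {a : ι → F} (ha : a ∈ W) (hqa : Q a ≠ 0) :
    IsNondegenerateOn (polar Q) (W ⊓ LinearMap.ker (pLin Q a)) := by
  intro y hy hy0
  obtain ⟨x, hx, hxy⟩ := (hnd y hy.1 hy0).1
  obtain ⟨s, z, hz, rfl⟩ := (split Q h2 ha hqa).1 x hx
  have hay : polar Q a y = 0 := by rw [QuadraticMap.polar_comm]; exact hy.2
  rw [QuadraticMap.polar_add_left, QuadraticMap.polar_smul_left, hay, smul_zero, zero_add] at hxy
  exact ⟨⟨z, hz, hxy⟩, z, hz, by rw [QuadraticMap.polar_comm]; exact hxy⟩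

/-- a vector whose orthogonal in the piece is anisotropic -/
theorem exists_pick (hq : Fintype.card F = 3) (Q : QuadraticForm F (ι → F)) {W : Submodule F (ι → F)} {k : ℕ}
    (hk : k = 2 ∨ k = 3) (hW : Module.finrank F W = k) (hnd : IsNondegenerateOn (polar Q) W) :
    ∃ a ∈ W, Q a ≠ 0 ∧ ∀ y ∈ W, polar Q y a = 0 → y ≠ 0 → Q y ≠ 0 := by
  obtain ⟨h3, h2, hsq, hpm⟩ := three_facts hq
  have hWb : W ≠ ⊥ := fun e => by rw [e, finrank_bot] at hW; omega
  obtain ⟨a, ha, hqa⟩ := exists_anisotropic Q hWb hnd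
  set U := W ⊓ LinearMap.ker (pLin Q a) with hU
  obtain ⟨hsplit, hdimU⟩ := split Q h2 ha hqa
  rw [← hU, hW] at hdimU
  have hUb : U ≠ ⊥ := fun e => by rw [e, finrank_bot] at hdimU; omega
  have hndU := nondeg_split Q h2 hnd ha hqa
  obtain ⟨b, hb, hqb⟩ := exists_anisotropic Q hUb hndU
  have hdimU' : Module.finrank F U + 1 ≤ k := by
    rw [← hW]
    exact Submodule.finrank_lt_finrank_of_lt (lt_of_le_of_ne inf_le_left fun e => by
      have h := (e.symm ▸ ha : a ∈ U).2
      have h' : polar Q a a = 0 := h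
      rw [polar_self_two] at h'
      exact mul_ne_zero h2 hqa h')
  rcases hk with rfl | rfl
  · refine ⟨a, ha, hqa, fun y hy hya hy0 => ?_⟩
    have hbb : b ≠ 0 := fun e => hqb (by rw [e, QuadraticMap.map_zero])
    have hspan : Submodule.span F {b} = U := Submodule.eq_of_le_of_finrank_le
      (Submodule.span_le.2 (Set.singleton_subset_iff.2 hb)) (by rw [finrank_span_singleton hbb]; omega)
    obtain ⟨s, rfl⟩ := Submodule.mem_span_singleton.1 (hspan.symm ▸ (⟨hy, hya⟩ : y ∈ U) : y ∈ Submodule.span F {b})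
    rw [quad_smul]
    exact mul_ne_zero (mul_ne_zero (fun e => hy0 (by rw [e, zero_smul])) (fun e => hy0 (by rw [e, zero_smul]))) hqb
  · obtain ⟨hsplit', hdim''⟩ := split Q h2 hb hqb
    have hd3 : U ⊓ LinearMap.ker (pLin Q b) ≠ ⊥ := fun e => by rw [e, finrank_bot] at hdim''; omega
    obtain ⟨d, hd, hqd⟩ := exists_anisotropic Q hd3 (nondeg_split Q h2 hndU hb hqb)
    have hd0 : d ≠ 0 := fun e => hqd (by rw [e, QuadraticMap.map_zero])
    have hdim3 : Module.finrank F (U ⊓ LinearMap.ker (pLin Q b) : Submodule F (ι → F)) ≤ 1 := by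
      have : Module.finrank F (U ⊓ LinearMap.ker (pLin Q b) : Submodule F (ι → F)) < Module.finrank F U :=
        Submodule.finrank_lt_finrank_of_lt (lt_of_le_of_ne inf_le_left fun e => by
          have h' : polar Q b b = 0 := (e.symm ▸ hb : b ∈ U ⊓ LinearMap.ker (pLin Q b)).2
          rw [polar_self_two] at h'
          exact mul_ne_zero h2 hqb h')
      omega
    have hspan : Submodule.span F {d} = U ⊓ LinearMap.ker (pLin Q b) := Submodule.eq_of_le_of_finrank_le
      (Submodule.span_le.2 (Set.singleton_subset_iff.2 hd)) (by rw [finrank_span_singleton hd0]; omega)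
    have hab : polar Q a b = 0 := by rw [QuadraticMap.polar_comm]; exact hb.2
    have had : polar Q a d = 0 := by rw [QuadraticMap.polar_comm]; exact hd.1.2
    have hbd : polar Q b d = 0 := by rw [QuadraticMap.polar_comm]; exact hd.2
    have hrep : ∀ y ∈ W, ∃ s u v : F, y = s • a + u • b + v • d := fun y hy => by
      obtain ⟨s, z, hz, rfl⟩ := hsplit y hy
      obtain ⟨u, w, hw, rfl⟩ := hsplit' z hz
      obtain ⟨v, rfl⟩ := Submodule.mem_span_singleton.1 (hspan.symm ▸ hw : w ∈ Submodule.span F {d})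
      exact ⟨s, u, v, (add_assoc _ _ _).symm⟩
    have hQ : ∀ s u v : F, Q (s • a + u • b + v • d) = s * s * Q a + u * u * Q b + v * v * Q d := fun s u v => by
      rw [QuadraticMap.map_add Q, QuadraticMap.map_add Q, QuadraticMap.polar_add_left,
        QuadraticMap.polar_smul_left, QuadraticMap.polar_smul_left, QuadraticMap.polar_smul_left,
        QuadraticMap.polar_smul_right, QuadraticMap.polar_smul_right, QuadraticMap.polar_smul_right,
        hab, had, hbd, quad_smul, quad_smul, quad_smul]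
      simp
    have hBa : ∀ s u v : F, polar Q (s • a + u • b + v • d) a = s * (2 * Q a) := fun s u v => by
      rw [QuadraticMap.polar_add_left, QuadraticMap.polar_add_left, QuadraticMap.polar_smul_left,
        QuadraticMap.polar_smul_left, QuadraticMap.polar_smul_left, polar_self_two,
        QuadraticMap.polar_comm Q b a, hab, QuadraticMap.polar_comm Q d a, had]
      simp
    have hBb : ∀ s u v : F, polar Q (s • a + u • b + v • d) b = u * (2 * Q b) := fun s u v => by
      rw [QuadraticMap.polar_add_left, QuadraticMap.polar_add_left, QuadraticMap.polar_smul_left,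
        QuadraticMap.polar_smul_left, QuadraticMap.polar_smul_left, polar_self_two,
        hab, QuadraticMap.polar_comm Q d b, hbd]
      simp
    have hBd : ∀ s u v : F, polar Q (s • a + u • b + v • d) d = v * (2 * Q d) := fun s u v => by
      rw [QuadraticMap.polar_add_left, QuadraticMap.polar_add_left, QuadraticMap.polar_smul_left,
        QuadraticMap.polar_smul_left, QuadraticMap.polar_smul_left, polar_self_two, had, hbd]
      simp
    have hsum : ∀ x y p : F, p ≠ 0 → ¬ (x = 0 ∧ y = 0) → x * x * p + y * y * p ≠ 0 := fun x y p hp h e => by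
      have e' : (x * x + y * y) * p = 0 := by linear_combination e
      have e'' := (mul_eq_zero.1 e').resolve_right hp
      by_cases hx : x = 0
      · exact h ⟨hx, mul_self_eq_zero.1 (by rw [hx] at e''; linear_combination e'')⟩
      · by_cases hy : y = 0
        · exact hx (mul_self_eq_zero.1 (by rw [hy] at e''; linear_combination e''))
        · rw [hsq x hx, hsq y hy] at e''
          exact h2 (by linear_combination e'')
    have hzero : ∀ {s p : F}, p ≠ 0 → s * (2 * p) = 0 → s = 0 := fun hp h =>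
      (mul_eq_zero.1 h).resolve_right (mul_ne_zero h2 hp)
    by_cases hbd' : Q b = Q d
    · refine ⟨a, ha, hqa, fun y hy hya hy0 => ?_⟩
      obtain ⟨s, u, v, rfl⟩ := hrep y hy
      rw [hBa] at hya
      have hs := hzero hqa hya
      subst hs
      rw [hQ, hbd', zero_mul, zero_mul, zero_add]
      exact hsum u v _ hqd fun h => hy0 (by rw [h.1, h.2]; simp)
    · have hor : Q a = Q b ∨ Q a = Q d := by
        rcases hpm _ hqa with e | e <;> rcases hpm _ hqb with e' | e' <;> rcases hpm _ hqd with e'' | e'' <;>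
          simp [e, e', e''] at hbd' ⊢
      rcases hor with hab' | had'
      · refine ⟨d, hd.1.1, hqd, fun y hy hyd hy0 => ?_⟩
        obtain ⟨s, u, v, rfl⟩ := hrep y hy
        rw [hBd] at hyd
        have hv := hzero hqd hyd
        subst hv
        rw [hQ, hab', zero_mul, zero_mul, add_zero]
        exact hsum s u _ hqb fun h => hy0 (by rw [h.1, h.2]; simp)
      · refine ⟨b, hb.1, hqb, fun y hy hyb hy0 => ?_⟩
        obtain ⟨s, u, v, rfl⟩ := hrep y hy
        rw [hBb] at hyb
        have hu := hzero hqb hyb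
        subst hu
        rw [hQ, had', zero_mul, zero_mul, add_zero]
        exact hsum s v _ hqd fun h => hy0 (by rw [h.1, h.2]; simp)

/-- isometric small pieces over three elements: never maximal -/
theorem exists_between_three (hq : Fintype.card F = 3) {t k : ℕ} (Q : QuadraticForm F (ι → F)) {f : (ι → F) → F}
    (hf : ⇑Q = f) (hsep : ∀ x, (∀ y, polar Q x y = 0) → x = 0) (h5 : 5 ≤ Module.finrank F (ι → F)) (hk : k = 2 ∨ k = 3)
    {D : Fin t → Submodule F (ι → F)} (hD : IsOrthogonalMDecomposition f k D) (ht : 4 ≤ t) :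
    ∃ K : Subgroup (GL ι F), decompositionStabilizer D ⊓ omegaGL f < K ∧ K < omegaGL f := by
  subst hf
  obtain ⟨h3, h2, hsq, hpm⟩ := three_facts hq
  obtain ⟨hDn, hiso⟩ := hD
  let i₀ : Fin t := ⟨0, by omega⟩
  obtain ⟨a₀, ha₀, hqa₀, han⟩ := exists_pick hq Q hk (hDn.decomp.finrank_eq i₀) (hDn.nondegenerate i₀)
  choose e he using fun i => hiso i₀ i
  have hpol : ∀ i, ∀ x y : D i₀, polar Q ((e i x : D i) : ι → F) ((e i y : D i) : ι → F) = polar Q (x : ι → F) y :=
    fun i x y => by
      simp only [polar]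
      rw [← Submodule.coe_add, ← map_add, he, he, he, Submodule.coe_add]
  obtain ⟨b₀, hb₀, hb₀0⟩ : ∃ b ∈ D i₀ ⊓ LinearMap.ker (pLin Q a₀), b ≠ 0 := by
    refine Submodule.exists_mem_ne_zero_of_ne_bot fun h => ?_
    have := (split Q h2 ha₀ hqa₀).2
    rw [h, finrank_bot, hDn.decomp.finrank_eq] at this
    omega
  refine exists_between Q rfl hsep h5 hDn ht (fun v => v = Q a₀) (Q a₀) (mul_ne_zero h2 hqa₀) rfl
    ⟨1, 1, by linear_combination h3⟩ (fun i => (e i ⟨a₀, ha₀⟩ : D i)) (fun i => (e i ⟨b₀, hb₀.1⟩ : D i))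
    (fun i => Subtype.property _) (fun i => he i _)
    (fun i => ⟨Subtype.property _, fun h => hb₀0 ?_, by rw [hpol]; exact hb₀.2⟩) fun i x hx hPx => ?_
  · exact congrArg Subtype.val ((e i).map_eq_zero_iff.1 (Subtype.ext h) : (⟨b₀, hb₀.1⟩ : D i₀) = 0)
  obtain ⟨z, hz⟩ := (e i).surjective ⟨x, hx⟩
  have hxz : ((e i z : D i) : ι → F) = x := congrArg Subtype.val hz
  rw [← hxz, he] at hPx
  obtain ⟨s, y, hy, hzy⟩ := (split Q h2 ha₀ hqa₀).1 z.1 z.2
  have hza : polar Q (z : ι → F) a₀ = s * (2 * Q a₀) := by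
    rw [hzy, QuadraticMap.polar_add_left, QuadraticMap.polar_smul_left, polar_self_two,
      show polar Q y a₀ = 0 from hy.2]
    simp
  by_cases hs : s = 0
  · left
    rw [← hxz, hpol]
    show polar Q (z : ι → F) a₀ = 0
    rw [hza, hs, zero_mul]
  right
  have hy0 : y = 0 := by
    by_contra hne
    have hqy := han y hy.1 hy.2 hne
    rw [hzy, QuadraticMap.map_add Q, QuadraticMap.polar_smul_left, quad_smul,
      show polar Q a₀ y = 0 by rw [QuadraticMap.polar_comm]; exact hy.2, hsq s hs, one_mul, smul_zero, add_zero,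
      add_eq_left] at hPx
    exact hqy hPx
  have hz1 : z = s • (⟨a₀, ha₀⟩ : D i₀) := Subtype.ext (by rw [hzy, hy0, add_zero]; rfl)
  rw [← hxz, hz1, map_smul]
  rcases hpm s hs with rfl | rfl
  · exact Or.inl (by rw [one_smul])
  · exact Or.inr (by rw [Submodule.coe_smul, neg_one_smul])

end CfsgLib.MaxSub.Frame
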