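import Cfsg.Agent.Lib.MaxSub.FrameNonMax
import Mathlib.FieldTheory.Finite.Basic

/-!
Decompositions into small plus pieces over fields with two or four elements: never maximal in `Ω`.
-/

set_option autoImplicit false

namespace CfsgLib.MaxSub.Frame

open Cfsg.Geo CfsgLib.Classical CfsgLib.Geom CfsgLib.MaxSub CfsgLib.MaxSub.Decomp
open QuadraticMap (polar)

variable {ι : Type} [Fintype ι] [DecidableEq ι] {F : Type*} [Field F] [Fintype F]

/-- a singular vector with a singular partner -/
theorem exists_pair (Q : QuadraticForm F (ι → F)) {W : Submodule F (ι → F)}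
    (hnd : IsNondegenerateOn (polar Q) W) {e : ι → F} (he : e ∈ W) (he0 : e ≠ 0) (hqe : Q e = 0) :
    ∃ f ∈ W, Q f = 0 ∧ polar Q e f = 1 := by
  obtain ⟨x, hx, hex⟩ := (hnd e he he0).2
  obtain ⟨y, hyW, hey⟩ : ∃ y ∈ W, polar Q e y = 1 := ⟨(polar Q e x)⁻¹ • x, W.smul_mem _ hx, by
    rw [QuadraticMap.polar_smul_right, smul_eq_mul, inv_mul_cancel₀ hex]⟩
  refine ⟨y + (-Q y) • e, add_mem hyW (W.smul_mem _ he), ?_, ?_⟩
  · rw [QuadraticMap.map_add Q, QuadraticMap.polar_smul_right, QuadraticMap.polar_comm Q y e, hey, quad_smul, hqe,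
      smul_eq_mul]
    ring
  · rw [QuadraticMap.polar_add_right, QuadraticMap.polar_smul_right, hey, polar_self_two, hqe]
    simp

/-- the invariant additive closure of the vectors of value one in the pieces -/
def latt (Q : QuadraticForm F (ι → F)) {t : ℕ} (D : Fin t → Submodule F (ι → F)) : AddSubgroup (ι → F) :=
  AddSubgroup.closure {x | Q x = 1 ∧ ∃ i, x ∈ D i}

/-- a hyperbolic plane decomposition: the values of the polar form on the distinguished vectors are small -/
theorem exists_between_latt {t : ℕ} (Q : QuadraticForm F (ι → F)) {f : (ι → F) → F} (hf : ⇑Q = f)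
    (hsep : ∀ x, (∀ y, polar Q x y = 0) → x = 0) (h5 : 5 ≤ Module.finrank F (ι → F)) (h2 : (2 : F) = 0)
    {D : Fin t → Submodule F (ι → F)} (hD : IsNondegenerateMDecomposition (polar Q) 2 D) (ht : 4 ≤ t)
    (e e' : Fin t → ι → F) (he : ∀ i, e i ∈ D i ∧ e' i ∈ D i ∧ Q (e i) = 0 ∧ Q (e' i) = 0 ∧ polar Q (e i) (e' i) = 1)
    (Λ : F → Prop) (h0 : Λ 0) (hadd : ∀ x y, Λ x → Λ y → Λ (x + y)) (hsmall : ∀ x, Λ x → x = 0 ∨ x = 1)
    (ζ : F) (hζ : ¬ Λ ζ)
    (hΛ : ∀ i, ∀ x ∈ D i, ∀ y ∈ D i, Q x = 1 → Q y = 1 → Λ (polar Q x y)) :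
    ∃ K : Subgroup (GL ι F), decompositionStabilizer D ⊓ omegaGL f < K ∧ K < omegaGL f := by
  classical
  subst hf
  let R : Set (ι → F) := (latt Q D : Set (ι → F))
  obtain ⟨a, hA⟩ : ∃ a : Fin t → ι → F, ∀ i, a i = e i + e' i := ⟨_, fun _ => rfl⟩
  have horth : ∀ i j, i ≠ j → ∀ x ∈ D i, ∀ y ∈ D j, polar Q x y = 0 := fun i j hij x hx y hy =>
    hD.orthogonal i j hij x hx y hy
  have haD : ∀ i, a i ∈ D i := fun i => hA i ▸ add_mem (he i).1 (he i).2.1
  have hqa : ∀ i, Q (a i) = 1 := fun i => by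
    rw [hA]
    rw [QuadraticMap.map_add Q, (he i).2.2.1, (he i).2.2.2.1, (he i).2.2.2.2]; ring
  have haR : ∀ i, a i ∈ latt Q D := fun i => AddSubgroup.subset_closure ⟨hqa i, i, haD i⟩
  have hbil : ∀ x ∈ latt Q D, ∀ y ∈ latt Q D, Λ (polar Q x y) := by
    have hneg : ∀ z, Λ z → Λ (-z) := fun z hz => by
      rwa [show -z = z by linear_combination -z * h2]
    intro x hx
    induction hx using AddSubgroup.closure_induction with
    | mem x hx =>
      intro y hy
      induction hy using AddSubgroup.closure_induction with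
      | mem y hy =>
        obtain ⟨hqx, i, hxi⟩ := hx
        obtain ⟨hqy, j, hyj⟩ := hy
        by_cases hij : i = j
        · subst hij; exact hΛ i x hxi y hyj hqx hqy
        · rw [horth i j hij x hxi y hyj]; exact h0
      | zero => rw [QuadraticMap.polar_zero_right]; exact h0
      | add y z _ _ h h' => rw [QuadraticMap.polar_add_right]; exact hadd _ _ h h'
      | neg y _ h => rw [QuadraticMap.polar_neg_right]; exact hneg _ h
    | zero => intro y _; rw [QuadraticMap.polar_zero_left]; exact h0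
    | add x z _ _ h h' => intro y hy; rw [QuadraticMap.polar_add_left]; exact hadd _ _ (h y hy) (h' y hy)
    | neg x _ h => intro y hy; rw [QuadraticMap.polar_neg_left]; exact hneg _ (h y hy)
  have hscal : ∀ s, Λ s → ∀ y ∈ latt Q D, s • y ∈ latt Q D := fun s hs y hy => by
    rcases hsmall s hs with rfl | rfl
    · rw [zero_smul]; exact zero_mem _
    · rwa [one_smul]
  let i : ℕ → Fin t := fun j => ⟨j % t, Nat.mod_lt _ (by omega)⟩
  have hi : ∀ p r, p < 4 → r < 4 → p ≠ r → i p ≠ i r := fun p r hp hr hpr e => by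
    have := congrArg Fin.val e
    simp [i, Nat.mod_eq_of_lt (show p < t by omega), Nat.mod_eq_of_lt (show r < t by omega)] at this
    exact hpr this
  refine ⟨keep (fun x => x ∈ R) ⊓ omegaGL ⇑Q, lt_of_le_of_ne ?_ ?_, lt_of_le_of_ne inf_le_right ?_⟩
  · rintro g ⟨⟨σ, hσ⟩, hgO⟩
    refine ⟨keep_of_fwd R g fun x hx => ?_, hgO⟩
    obtain ⟨g', -, rfl⟩ := (omegaGL_eq_map Q ▸ hgO : g ∈ (commutator (quadIsoms Q)).map (isomsToGL Q))
    rw [isomsToGL_mulVec]
    induction hx using AddSubgroup.closure_induction with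
    | mem x hx =>
      obtain ⟨hqx, j, hj⟩ := hx
      refine AddSubgroup.subset_closure ⟨(g'.2 x).trans hqx, σ j, ?_⟩
      rw [← hσ j]; exact ⟨x, hj, by rw [Matrix.toLin'_apply, isomsToGL_mulVec]⟩
    | zero => rw [map_zero]; exact zero_mem _
    | add y z _ _ h h' => rw [map_add]; exact add_mem h h'
    | neg y _ h => rw [map_neg]; exact neg_mem h
  · -- a Siegel transformation with lattice vectors
    set u := a (i 0) + a (i 1) with hu
    set y := a (i 2) + a (i 3) with hy
    have hqu : Q u = 0 := by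
      rw [hu, QuadraticMap.map_add Q, hqa, hqa, horth _ _ (hi 0 1 (by omega) (by omega) (by omega)) _ (haD _) _ (haD _)]
      linear_combination h2
    have hqy : Q y = 0 := by
      rw [hy, QuadraticMap.map_add Q, hqa, hqa, horth _ _ (hi 2 3 (by omega) (by omega) (by omega)) _ (haD _) _ (haD _)]
      linear_combination h2
    have huy : polar Q u y = 0 := by
      rw [hu, hy, QuadraticMap.polar_add_left, QuadraticMap.polar_add_right, QuadraticMap.polar_add_right,
        horth _ _ (hi 0 2 (by omega) (by omega) (by omega)) _ (haD _) _ (haD _),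
        horth _ _ (hi 0 3 (by omega) (by omega) (by omega)) _ (haD _) _ (haD _),
        horth _ _ (hi 1 2 (by omega) (by omega) (by omega)) _ (haD _) _ (haD _),
        horth _ _ (hi 1 3 (by omega) (by omega) (by omega)) _ (haD _) _ (haD _)]
      ring
    have hgK : isomsToGL Q (siegel Q u y) ∈ keep (fun x => x ∈ R) ⊓ omegaGL ⇑Q := by
      refine ⟨keep_of_fwd R _ fun x hx => ?_,
        omegaGL_eq_map Q ▸ Subgroup.mem_map_of_mem _ (OrthSub.siegel_mem_commutator hsep h5 _ _)⟩
      rw [isomsToGL_mulVec, siegel_apply Q hqu huy, hqy, zero_mul, add_zero]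
      have huR : u ∈ latt Q D := add_mem (haR _) (haR _)
      have hyR : y ∈ latt Q D := add_mem (haR _) (haR _)
      exact sub_mem (add_mem hx (hscal _ (hbil _ huR x hx) _ hyR)) (hscal _ (hbil _ hyR x hx) _ huR)
    intro h
    obtain ⟨σ, hσ⟩ := ((h.symm ▸ hgK : isomsToGL Q (siegel Q u y) ∈ decompositionStabilizer D ⊓ omegaGL ⇑Q)).1
    have hz : (siegel Q u y).1 (e (i 0)) ∈ D (σ (i 0)) := by
      rw [← hσ]; exact ⟨_, (he _).1, by rw [Matrix.toLin'_apply, isomsToGL_mulVec]⟩
    have hue : polar Q u (e (i 0)) = 1 := by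
      rw [hu, QuadraticMap.polar_add_left, horth _ _ (hi 1 0 (by omega) (by omega) (by omega)) _ (haD _) _ (he _).1,
        add_zero]
      rw [hA]
      rw [QuadraticMap.polar_add_left, polar_self_two, (he _).2.2.1, mul_zero, zero_add, QuadraticMap.polar_comm]
      exact (he _).2.2.2.2
    have hye : polar Q y (e (i 0)) = 0 := by
      rw [hy, QuadraticMap.polar_add_left, horth _ _ (hi 2 0 (by omega) (by omega) (by omega)) _ (haD _) _ (he _).1,
        horth _ _ (hi 3 0 (by omega) (by omega) (by omega)) _ (haD _) _ (he _).1, add_zero]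
    rw [siegel_apply Q hqu huy, hqy, zero_mul, add_zero, hue, hye, one_smul, zero_smul, sub_zero] at hz
    have h3 : σ (i 0) = i 0 := by
      by_contra hne
      have := horth _ _ hne _ hz _ (he (i 0)).2.1
      rw [QuadraticMap.polar_add_left, (he _).2.2.2.2, hy, QuadraticMap.polar_add_left,
        horth _ _ (hi 2 0 (by omega) (by omega) (by omega)) _ (haD _) _ (he _).2.1,
        horth _ _ (hi 3 0 (by omega) (by omega) (by omega)) _ (haD _) _ (he _).2.1, add_zero, add_zero] at this
      exact one_ne_zero this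
    rw [h3] at hz
    have := horth _ _ (hi 0 2 (by omega) (by omega) (by omega)) _ hz _ (he (i 2)).2.1
    rw [QuadraticMap.polar_add_left, horth _ _ (hi 0 2 (by omega) (by omega) (by omega)) _ (he _).1 _ (he _).2.1,
      zero_add, hy, QuadraticMap.polar_add_left,
      horth _ _ (hi 3 2 (by omega) (by omega) (by omega)) _ (haD _) _ (he _).2.1, add_zero] at this
    apply one_ne_zero (α := F)
    rw [← this]
    rw [hA]
    rw [QuadraticMap.polar_add_left, (he _).2.2.2.2, polar_self_two, (he _).2.2.2.1, mul_zero, add_zero]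
  · -- a Siegel transformation leaving the lattice
    have h01 := hi 0 1 (by omega) (by omega) (by omega)
    have hqe : Q (ζ • e (i 1)) = 0 := by rw [quad_smul, (he _).2.2.1, mul_zero]
    have hu : polar Q (e (i 0)) (ζ • e (i 1)) = 0 := by
      rw [QuadraticMap.polar_smul_right, horth _ _ h01 _ (he _).1 _ (he _).1, smul_zero]
    intro h
    have hg : isomsToGL Q (siegel Q (e (i 0)) (ζ • e (i 1))) ∈ keep (fun x => x ∈ R) ⊓ omegaGL ⇑Q := by
      rw [h, omegaGL_eq_map]
      exact Subgroup.mem_map_of_mem _ (OrthSub.siegel_mem_commutator hsep h5 _ _)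
    have h1 := (iff_of_eq (hg.1 (a (i 0)))).2 (haR _)
    rw [isomsToGL_mulVec, siegel_apply Q (he _).2.2.1 hu, hqe, zero_mul, add_zero] at h1
    have he0 : polar Q (e (i 0)) (a (i 0)) = 1 := by
      rw [hA]
      rw [QuadraticMap.polar_add_right, polar_self_two, (he _).2.2.1, mul_zero, zero_add]
      exact (he _).2.2.2.2
    have he1 : polar Q (ζ • e (i 1)) (a (i 0)) = 0 := by
      rw [QuadraticMap.polar_smul_left, horth _ _ h01.symm _ (he _).1 _ (haD _), smul_zero]
    rw [he0, he1, one_smul, zero_smul, sub_zero] at h1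
    apply hζ
    have h3 := hbil _ h1 _ (haR (i 1))
    rw [QuadraticMap.polar_add_left, horth _ _ h01 _ (haD _) _ (haD _), zero_add, QuadraticMap.polar_smul_left] at h3
    have he2 : polar Q (e (i 1)) (a (i 1)) = 1 := by
      rw [hA]
      rw [QuadraticMap.polar_add_right, polar_self_two, (he _).2.2.1, mul_zero, zero_add]
      exact (he _).2.2.2.2
    rwa [he2, smul_eq_mul, mul_one] at h3

/-- plus pieces of dimension four over two elements -/
theorem exists_between_four {t : ℕ} (Q : QuadraticForm F (ι → F)) {f : (ι → F) → F} (hf : ⇑Q = f)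
    (hsep : ∀ x, (∀ y, polar Q x y = 0) → x = 0) (h5 : 5 ≤ Module.finrank F (ι → F))
    (hq : Fintype.card F = 2) {D : Fin t → Submodule F (ι → F)}
    (hD : IsNondegenerateMDecomposition (polar Q) 4 D) (hplus : ∀ i, IsPlusTypeOn (⇑Q) (D i)) (ht : 4 ≤ t) :
    ∃ K : Subgroup (GL ι F), decompositionStabilizer D ⊓ omegaGL f < K ∧ K < omegaGL f := by
  classical
  subst hf
  have hb : ∀ a : F, a = 0 ∨ a = 1 := fun a => by
    rcases eq_or_ne a 0 with h | h
    · exact Or.inl h
    · refine Or.inr ?_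
      simpa [hq] using FiniteField.pow_card_sub_one_eq_one a h
  have h2 : (2 : F) = 0 := by
    have h := FiniteField.cast_card_eq_zero F
    rw [hq] at h
    exact_mod_cast h
  -- two minus planes in each piece
  have hex : ∀ i, ∃ p q p' q' : ι → F, (p ∈ D i ∧ q ∈ D i ∧ p' ∈ D i ∧ q' ∈ D i) ∧
      (Q p = 1 ∧ Q q = 1 ∧ Q p' = 1 ∧ Q q' = 1 ∧ polar Q p q = 1 ∧ polar Q p' q' = 1) ∧
      (polar Q p p' = 0 ∧ polar Q p q' = 0 ∧ polar Q q p' = 0 ∧ polar Q q q' = 0) ∧
      ∀ x ∈ D i, Q x = 1 → (polar Q x p = 0 ∧ polar Q x q = 0) ∨ x = p ∨ x = q ∨ x = p + q := by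
    intro i
    obtain ⟨U, hUD, hU, hdim⟩ := hplus i
    rw [hD.decomp.finrank_eq] at hdim
    obtain ⟨e1, he1, he10⟩ := U.exists_mem_ne_zero_of_ne_bot (by intro h; rw [h, finrank_bot] at hdim; omega)
    obtain ⟨f1, hf1, hqf1, hef1⟩ := exists_pair Q (hD.nondegenerate i) (hUD he1) he10 (hU e1 he1)
    obtain ⟨e2, he2, he2f, he20⟩ : ∃ e2 ∈ U, polar Q e2 f1 = 0 ∧ e2 ≠ 0 := by
      have h1 := finrank_le_inf_ker U (pLin Q f1)
      obtain ⟨e2, he2, h⟩ := (U ⊓ LinearMap.ker (pLin Q f1)).exists_mem_ne_zero_of_ne_bot (by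
        intro h; rw [h, finrank_bot] at h1; omega)
      exact ⟨e2, he2.1, he2.2, h⟩
    obtain ⟨g, hg, hqg, heg⟩ := exists_pair Q (hD.nondegenerate i) (hUD he2) he20 (hU e2 he2)
    have he12 : polar Q e1 e2 = 0 := polar_of_singular hU he1 he2
    -- make the second partner orthogonal to the first pair
    set g' := g - polar Q g f1 • e1 - polar Q g e1 • f1 with hg'
    have hg'D : g' ∈ D i := sub_mem (sub_mem hg ((D i).smul_mem _ (hUD he1))) ((D i).smul_mem _ hf1)
    have hg'e : polar Q g' e1 = 0 := by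
      rw [hg', QuadraticMap.polar_sub_left, QuadraticMap.polar_sub_left, QuadraticMap.polar_smul_left,
        QuadraticMap.polar_smul_left, polar_self_two, QuadraticMap.polar_comm Q f1 e1, hef1, hU e1 he1]
      simp
    have hg'f : polar Q g' f1 = 0 := by
      rw [hg', QuadraticMap.polar_sub_left, QuadraticMap.polar_sub_left, QuadraticMap.polar_smul_left,
        QuadraticMap.polar_smul_left, polar_self_two, hef1, hqf1]
      simp
    have hg'2 : polar Q e2 g' = 1 := by
      rw [hg', QuadraticMap.polar_sub_right, QuadraticMap.polar_sub_right, QuadraticMap.polar_smul_right,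
        QuadraticMap.polar_smul_right, heg, QuadraticMap.polar_comm Q e2 e1, he12, he2f]
      simp
    set f2 := g' + (-Q g') • e2 with hf2
    have hf2D : f2 ∈ D i := add_mem hg'D ((D i).smul_mem _ (hUD he2))
    have hqf2 : Q f2 = 0 := by
      rw [hf2, QuadraticMap.map_add Q, QuadraticMap.polar_smul_right, QuadraticMap.polar_comm Q g' e2, hg'2, quad_smul,
        hU e2 he2, smul_eq_mul]
      ring
    have hef2 : polar Q e2 f2 = 1 := by
      rw [hf2, QuadraticMap.polar_add_right, QuadraticMap.polar_smul_right, hg'2, polar_self_two, hU e2 he2]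
      simp
    have hf2e : polar Q f2 e1 = 0 := by
      rw [hf2, QuadraticMap.polar_add_left, QuadraticMap.polar_smul_left, hg'e, QuadraticMap.polar_comm Q e2 e1, he12]
      simp
    have hf2f : polar Q f2 f1 = 0 := by
      rw [hf2, QuadraticMap.polar_add_left, QuadraticMap.polar_smul_left, hg'f, he2f]
      simp
    have P : ∀ a b c d a' b' c' d' : F, polar Q (a • e1 + b • f1 + c • e2 + d • f2) (a' • e1 + b' • f1 + c' • e2 + d' • f2) =
        a * b' + b * a' + c * d' + d * c' := fun a b c d a' b' c' d' => by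
      simp only [QuadraticMap.polar_add_left, QuadraticMap.polar_add_right, QuadraticMap.polar_smul_left,
        QuadraticMap.polar_smul_right, smul_eq_mul, polar_self_two, hU e1 he1, hU e2 he2, hqf1, hqf2, hef1, hef2,
        he12, QuadraticMap.polar_comm Q e2 e1, QuadraticMap.polar_comm Q f1 e1, QuadraticMap.polar_comm Q f2 e2,
        he2f, QuadraticMap.polar_comm Q f1 e2, hf2e, QuadraticMap.polar_comm Q e1 f2, hf2f,
        QuadraticMap.polar_comm Q f1 f2]
      ring
    have Qv : ∀ a b c d : F, Q (a • e1 + b • f1 + c • e2 + d • f2) = a * b + c * d := fun a b c d => by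
      simp only [QuadraticMap.map_add Q, QuadraticMap.polar_add_left, QuadraticMap.polar_smul_left,
        QuadraticMap.polar_smul_right, smul_eq_mul, quad_smul, hU e1 he1, hU e2 he2, hqf1, hqf2, hef1, hef2,
        he12, he2f, QuadraticMap.polar_comm Q f1 e2, QuadraticMap.polar_comm Q e1 f2, hf2e,
        QuadraticMap.polar_comm Q f1 f2, hf2f]
      ring
    have hli : LinearIndependent F ![e1, f1, e2, f2] := by
      rw [Fintype.linearIndependent_iff]
      intro w hw
      rw [Fin.sum_univ_four] at hw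
      have hw' : w 0 • e1 + w 1 • f1 + w 2 • e2 + w 3 • f2 = 0 := by simpa using hw
      have hP : ∀ a' b' c' d', w 0 * b' + w 1 * a' + w 2 * d' + w 3 * c' = 0 := fun a' b' c' d' => by
        rw [← P, hw', QuadraticMap.polar_zero_left]
      intro k
      fin_cases k
      · simpa using hP 0 1 0 0
      · simpa using hP 1 0 0 0
      · simpa using hP 0 0 0 1
      · simpa using hP 0 0 1 0
    have hspan : Submodule.span F (Set.range ![e1, f1, e2, f2]) = D i := Submodule.eq_of_le_of_finrank_eq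
      (Submodule.span_le.2 (by
        rintro _ ⟨k, rfl⟩
        fin_cases k
        · exact hUD he1
        · exact hf1
        · exact hUD he2
        · exact hf2D))
      (by rw [finrank_span_eq_card hli, hD.decomp.finrank_eq, Fintype.card_fin])
    have hrep : ∀ x ∈ D i, ∃ a b c d : F, x = a • e1 + b • f1 + c • e2 + d • f2 := fun x hx => by
      rw [← hspan] at hx
      obtain ⟨w, hw⟩ := (Submodule.mem_span_range_iff_exists_fun F).1 hx
      exact ⟨w 0, w 1, w 2, w 3, by rw [← hw, Fin.sum_univ_four]; simp⟩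
    have hmemD : ∀ a b c d : F, a • e1 + b • f1 + c • e2 + d • f2 ∈ D i := fun a b c d =>
      add_mem (add_mem (add_mem ((D i).smul_mem _ (hUD he1)) ((D i).smul_mem _ hf1))
        ((D i).smul_mem _ (hUD he2))) ((D i).smul_mem _ hf2D)
    refine ⟨(1 : F) • e1 + (1 : F) • f1 + (0 : F) • e2 + (0 : F) • f2, (1 : F) • e1 + (0 : F) • f1 + (1 : F) • e2 + (1 : F) • f2,
      (0 : F) • e1 + (0 : F) • f1 + (1 : F) • e2 + (1 : F) • f2, (1 : F) • e1 + (1 : F) • f1 + (1 : F) • e2 + (0 : F) • f2,
      ⟨hmemD .., hmemD .., hmemD .., hmemD ..⟩, ?_, ?_, ?_⟩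
    · simp only [Qv, P]
      refine ⟨?_, ?_, ?_, ?_, ?_, ?_⟩ <;> first | ring1 | linear_combination h2 | linear_combination -h2
    · simp only [P]
      refine ⟨?_, ?_, ?_, ?_⟩ <;> first | ring1 | linear_combination h2 | linear_combination -h2
    · intro x hx hqx
      obtain ⟨a, b, c, d, rfl⟩ := hrep x hx
      rw [Qv] at hqx
      rw [P, P]
      rcases hb a with rfl | rfl <;> rcases hb b with rfl | rfl <;> rcases hb c with rfl | rfl <;>
        rcases hb d with rfl | rfl
      all_goals first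
        | (exfalso; apply one_ne_zero (α := F); linear_combination hqx)
        | (exfalso; apply one_ne_zero (α := F); linear_combination hqx + h2)
        | (left; constructor <;> first | ring1 | linear_combination h2)
        | (right; left; rfl)
        | (right; right; left; rfl)
        | (right; right; right
           simp only [one_smul, zero_smul, zero_add, add_zero]
           funext k
           simp only [Pi.add_apply]
           first | ring1 | linear_combination -(e1 k) * h2)
  choose p q p' q' hmem hval horth' hchar using hex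
  let X : Set (ι → F) := {x | Q x = 1 ∧ ∃ i, x ∈ D i}
  have horth : ∀ i j, i ≠ j → ∀ x ∈ D i, ∀ y ∈ D j, polar Q x y = 0 := fun i j hij x hx y hy =>
    hD.orthogonal i j hij x hx y hy
  let i : ℕ → Fin t := fun j => ⟨j % t, Nat.mod_lt _ (by omega)⟩
  have hi : ∀ a b, a < 4 → b < 4 → a ≠ b → i a ≠ i b := fun a b ha hb' hab e => by
    have := congrArg Fin.val e
    simp [i, Nat.mod_eq_of_lt (show a < t by omega), Nat.mod_eq_of_lt (show b < t by omega)] at this
    exact hab this
  have hsum : ∀ (a b : Fin t) (r s : ι → F), a ≠ b → r ∈ D a → s ∈ D b → Q r = 1 → Q s = 1 → Q (r + s) = 0 :=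
    fun a b r s hab hr hs h h' => by
      rw [QuadraticMap.map_add Q, h, h', horth a b hab r hr s hs]; linear_combination h2
  refine ⟨keep (fun x => x ∈ X) ⊓ omegaGL ⇑Q, lt_of_le_of_ne ?_ ?_, lt_of_le_of_ne inf_le_right ?_⟩
  · rintro g ⟨⟨σ, hσ⟩, hgO⟩
    refine ⟨keep_of_fwd X g fun x hx => ?_, hgO⟩
    obtain ⟨g', -, rfl⟩ := (omegaGL_eq_map Q ▸ hgO : g ∈ (commutator (quadIsoms Q)).map (isomsToGL Q))
    obtain ⟨hqx, j, hj⟩ := hx
    rw [isomsToGL_mulVec]
    exact ⟨(g'.2 x).trans hqx, σ j, hσ j ▸ ⟨x, hj, by rw [Matrix.toLin'_apply, isomsToGL_mulVec]⟩⟩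
  · -- interchange a plane of the first piece with one of the second
    have h01 := hi 0 1 (by omega) (by omega) (by omega)
    set u := p (i 0) + p (i 1) with hu
    set y := q (i 0) + q (i 1) with hy
    have hqu : Q u = 0 := hsum _ _ _ _ h01 (hmem _).1 (hmem _).1 (hval _).1 (hval _).1
    have hqy : Q y = 0 := hsum _ _ _ _ h01 (hmem _).2.1 (hmem _).2.1 (hval _).2.1 (hval _).2.1
    have huy : polar Q u y = 0 := by
      rw [hu, hy, QuadraticMap.polar_add_left, QuadraticMap.polar_add_right, QuadraticMap.polar_add_right,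
        (hval _).2.2.2.2.1, (hval _).2.2.2.2.1, horth _ _ h01 _ (hmem _).1 _ (hmem _).2.1,
        horth _ _ h01.symm _ (hmem _).1 _ (hmem _).2.1]
      linear_combination h2
    have hact : ∀ z, (siegel Q u y).1 z = z + polar Q u z • y - polar Q y z • u := fun z => by
      rw [siegel_apply Q hqu huy, hqy, zero_mul, add_zero]
    have hself : ∀ r : ι → F, polar Q r r = 0 := fun r => by rw [polar_self_two, h2, zero_mul]
    -- the three vectors of either plane
    have hmove : ∀ a b : Fin t, (a = i 0 ∧ b = i 1) ∨ (a = i 1 ∧ b = i 0) →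
        (siegel Q u y).1 (p a) = p b ∧ (siegel Q u y).1 (q a) = q b := by
      intro a b hab
      have hu' : u = p a + p b := by rcases hab with ⟨rfl, rfl⟩ | ⟨rfl, rfl⟩ <;> rw [hu]; rw [add_comm]
      have hy' : y = q a + q b := by rcases hab with ⟨rfl, rfl⟩ | ⟨rfl, rfl⟩ <;> rw [hy]; rw [add_comm]
      have hne : a ≠ b := by rcases hab with ⟨rfl, rfl⟩ | ⟨rfl, rfl⟩ <;> [exact h01; exact h01.symm]
      rw [hact, hact, hu', hy', QuadraticMap.polar_add_left, QuadraticMap.polar_add_left, QuadraticMap.polar_add_left,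
        QuadraticMap.polar_add_left, hself, hself, (hval _).2.2.2.2.1, QuadraticMap.polar_comm Q (q a) (p a),
        (hval _).2.2.2.2.1, horth _ _ hne.symm _ (hmem _).1 _ (hmem _).1,
        horth _ _ hne.symm _ (hmem _).1 _ (hmem _).2.1, horth _ _ hne.symm _ (hmem _).2.1 _ (hmem _).1,
        horth _ _ hne.symm _ (hmem _).2.1 _ (hmem _).2.1]
      constructor <;> funext k <;> simp only [Pi.add_apply, Pi.sub_apply, Pi.smul_apply, smul_eq_mul, add_zero]
      · linear_combination -(p b k) * h2
      · linear_combination (q a k) * h2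
    have hfix : ∀ a, ∀ x ∈ D a, (a ≠ i 0 ∧ a ≠ i 1) → (siegel Q u y).1 x = x := fun a x hx ha => by
      rw [hact, hu, hy, QuadraticMap.polar_add_left, QuadraticMap.polar_add_left,
        horth _ _ ha.1.symm _ (hmem _).1 x hx, horth _ _ ha.2.symm _ (hmem _).1 x hx,
        horth _ _ ha.1.symm _ (hmem _).2.1 x hx, horth _ _ ha.2.symm _ (hmem _).2.1 x hx]
      simp
    have hgK : isomsToGL Q (siegel Q u y) ∈ keep (fun x => x ∈ X) ⊓ omegaGL ⇑Q := by
      refine ⟨keep_of_fwd X _ fun x hx => ?_,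
        omegaGL_eq_map Q ▸ Subgroup.mem_map_of_mem _ (OrthSub.siegel_mem_commutator hsep h5 _ _)⟩
      obtain ⟨hqx, a, ha⟩ := hx
      rw [isomsToGL_mulVec]
      refine ⟨((siegel Q u y).2 x).trans hqx, ?_⟩
      by_cases ha' : a ≠ i 0 ∧ a ≠ i 1
      · exact ⟨a, by rw [hfix a x ha ha']; exact ha⟩
      obtain ⟨b, hab⟩ : ∃ b, (a = i 0 ∧ b = i 1) ∨ (a = i 1 ∧ b = i 0) := by
        rcases not_and_or.1 ha' with h | h
        · exact ⟨i 1, Or.inl ⟨not_not.1 h, rfl⟩⟩
        · exact ⟨i 0, Or.inr ⟨not_not.1 h, rfl⟩⟩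
      rcases hchar a x ha hqx with ⟨h, h'⟩ | rfl | rfl | rfl
      · refine ⟨a, ?_⟩
        have hpo : ∀ c, c ≠ a → polar Q (p c) x = 0 ∧ polar Q (q c) x = 0 := fun c hc =>
          ⟨horth c a hc _ (hmem c).1 x ha, horth c a hc _ (hmem c).2.1 x ha⟩
        have h1 : polar Q (p a) x = 0 ∧ polar Q (q a) x = 0 :=
          ⟨(QuadraticMap.polar_comm Q _ _).trans h, (QuadraticMap.polar_comm Q _ _).trans h'⟩
        have hz : ∀ c, polar Q (p c) x = 0 ∧ polar Q (q c) x = 0 := fun c => by
          by_cases hc : c = a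
          · subst hc; exact h1
          · exact hpo c hc
        rw [hact, hu, hy, QuadraticMap.polar_add_left, QuadraticMap.polar_add_left, (hz _).1, (hz _).1, (hz _).2,
          (hz _).2]
        simpa using ha
      · exact ⟨b, by rw [(hmove a b hab).1]; exact (hmem b).1⟩
      · exact ⟨b, by rw [(hmove a b hab).2]; exact (hmem b).2.1⟩
      · exact ⟨b, by rw [map_add, (hmove a b hab).1, (hmove a b hab).2]; exact add_mem (hmem b).1 (hmem b).2.1⟩
    intro h
    obtain ⟨σ, hσ⟩ := ((h.symm ▸ hgK : isomsToGL Q (siegel Q u y) ∈ decompositionStabilizer D ⊓ omegaGL ⇑Q)).1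
    have hv : ∀ v ∈ D (i 0), (siegel Q u y).1 v ∈ D (σ (i 0)) := fun v hv => by
      rw [← hσ]; exact ⟨v, hv, by rw [Matrix.toLin'_apply, isomsToGL_mulVec]⟩
    have h1 := hv _ (hmem (i 0)).1
    rw [(hmove (i 0) (i 1) (Or.inl ⟨rfl, rfl⟩)).1] at h1
    have h2' := hv _ (hmem (i 0)).2.2.1
    rw [hact, hu, hy, QuadraticMap.polar_add_left, QuadraticMap.polar_add_left, (horth' _).1, (horth' _).2.2.1,
      horth _ _ h01.symm _ (hmem _).1 _ (hmem _).2.2.1, horth _ _ h01.symm _ (hmem _).2.1 _ (hmem _).2.2.1] at h2'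
    simp only [add_zero, zero_smul, sub_zero] at h2'
    by_cases hs : σ (i 0) = i 1
    · rw [hs] at h2'
      have := horth _ _ h01.symm _ h2' _ (hmem (i 0)).2.2.2
      rw [(hval _).2.2.2.2.2] at this
      exact one_ne_zero this
    · have := horth _ _ hs _ h1 _ (hmem (i 1)).2.1
      rw [(hval _).2.2.2.2.1] at this
      exact one_ne_zero this
  · -- spread one vector over three pieces
    set u := p (i 0) + p (i 1) with hu
    set y := p (i 2) + p (i 3) with hy
    have hqu : Q u = 0 := hsum _ _ _ _ (hi 0 1 (by omega) (by omega) (by omega)) (hmem _).1 (hmem _).1 (hval _).1 (hval _).1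
    have huy : polar Q u y = 0 := by
      rw [hu, hy, QuadraticMap.polar_add_left, QuadraticMap.polar_add_right, QuadraticMap.polar_add_right,
        horth _ _ (hi 0 2 (by omega) (by omega) (by omega)) _ (hmem _).1 _ (hmem _).1,
        horth _ _ (hi 0 3 (by omega) (by omega) (by omega)) _ (hmem _).1 _ (hmem _).1,
        horth _ _ (hi 1 2 (by omega) (by omega) (by omega)) _ (hmem _).1 _ (hmem _).1,
        horth _ _ (hi 1 3 (by omega) (by omega) (by omega)) _ (hmem _).1 _ (hmem _).1]
      ring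
    intro h
    have hg : isomsToGL Q (siegel Q u y) ∈ keep (fun x => x ∈ X) ⊓ omegaGL ⇑Q := by
      rw [h, omegaGL_eq_map]
      exact Subgroup.mem_map_of_mem _ (OrthSub.siegel_mem_commutator hsep h5 _ _)
    obtain ⟨-, l, hl⟩ := (iff_of_eq (hg.1 (q (i 0)))).2 (show q (i 0) ∈ X from ⟨(hval _).2.1, i 0, (hmem _).2.1⟩)
    have hyq : polar Q y (q (i 0)) = 0 := by
      rw [hy, QuadraticMap.polar_add_left, horth _ _ (hi 2 0 (by omega) (by omega) (by omega)) _ (hmem _).1 _ (hmem _).2.1,
        horth _ _ (hi 3 0 (by omega) (by omega) (by omega)) _ (hmem _).1 _ (hmem _).2.1, add_zero]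
    have huq : polar Q u (q (i 0)) = 1 := by
      rw [hu, QuadraticMap.polar_add_left, (hval _).2.2.2.2.1,
        horth _ _ (hi 1 0 (by omega) (by omega) (by omega)) _ (hmem _).1 _ (hmem _).2.1, add_zero]
    have hqy : Q y = 0 := hsum _ _ _ _ (hi 2 3 (by omega) (by omega) (by omega)) (hmem _).1 (hmem _).1 (hval _).1 (hval _).1
    rw [isomsToGL_mulVec, siegel_apply Q hqu huy, hqy, zero_mul, add_zero, huq, hyq, one_smul, zero_smul, sub_zero] at hl
    have hl0 : l = i 0 := by
      by_contra hne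
      have := horth _ _ hne _ hl _ (hmem (i 0)).1
      rw [QuadraticMap.polar_add_left, QuadraticMap.polar_comm Q (q _) (p _), (hval _).2.2.2.2.1, hy,
        QuadraticMap.polar_add_left, horth _ _ (hi 2 0 (by omega) (by omega) (by omega)) _ (hmem _).1 _ (hmem _).1,
        horth _ _ (hi 3 0 (by omega) (by omega) (by omega)) _ (hmem _).1 _ (hmem _).1, add_zero, add_zero] at this
      exact one_ne_zero this
    rw [hl0] at hl
    have := horth _ _ (hi 0 2 (by omega) (by omega) (by omega)) _ hl _ (hmem (i 2)).2.1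
    rw [QuadraticMap.polar_add_left, horth _ _ (hi 0 2 (by omega) (by omega) (by omega)) _ (hmem _).2.1 _ (hmem _).2.1,
      hy, QuadraticMap.polar_add_left, (hval _).2.2.2.2.1,
      horth _ _ (hi 3 2 (by omega) (by omega) (by omega)) _ (hmem _).1 _ (hmem _).2.1, add_zero, zero_add] at this
    exact one_ne_zero this

end CfsgLib.MaxSub.Frame
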