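import Cfsg.Agent.Lib.MaxSub.Transvection
import Cfsg.Agent.Lib.MaxSub.Dual
import Cfsg.Agent.Lib.KnownC.HermCongr

/-!
Hermitian forms on coordinate spaces over finite fields: isotropic and anisotropic vectors.
-/

set_option autoImplicit false
set_option linter.unusedSectionVars false

namespace CfsgLib.MaxSub

open Matrix

variable {n : ℕ} {F : Type*} [Field F] {σ : F ≃+* F} {f : (Fin n → F) → (Fin n → F) → F}

/-- the functional `f(·, v)` as a coordinate vector -/
def hDual (f : (Fin n → F) → (Fin n → F) → F) (v : Fin n → F) : Fin n → F :=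
  fun i => f (Pi.single i 1) v

/-- the kernel of the functional of a coordinate vector -/
def dotKer (χ : Fin n → F) : Submodule F (Fin n → F) where
  carrier := {y | χ ⬝ᵥ y = 0}
  add_mem' {a b} ha hb := by
    show χ ⬝ᵥ (a + b) = 0
    rw [dotProduct_add, show χ ⬝ᵥ a = 0 from ha, show χ ⬝ᵥ b = 0 from hb, add_zero]
  zero_mem' := dotProduct_zero χ
  smul_mem' c a ha := by
    show χ ⬝ᵥ (c • a) = 0
    rw [dotProduct_smul, show χ ⬝ᵥ a = 0 from ha, smul_zero]

theorem mem_dotKer {χ y : Fin n → F} : y ∈ dotKer χ ↔ χ ⬝ᵥ y = 0 := Iff.rfl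

theorem finrank_le_inf_dotKer (U : Submodule F (Fin n → F)) (χ : Fin n → F) :
    Module.finrank F U ≤ Module.finrank F (U ⊓ dotKer χ : Submodule F (Fin n → F)) + 1 := by
  let L : U →ₗ[F] F :=
    { toFun := fun y => χ ⬝ᵥ (y : Fin n → F)
      map_add' := fun a b => dotProduct_add _ _ _
      map_smul' := fun c a => dotProduct_smul c _ _ }
  have h1 := LinearMap.finrank_range_add_finrank_ker L
  have h2 : Module.finrank F (LinearMap.range L) ≤ 1 :=
    (Submodule.finrank_le _).trans (le_of_eq (Module.finrank_self F))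
  have h3 : (LinearMap.ker L).map U.subtype = U ⊓ dotKer χ := by
    ext y
    simp only [Submodule.mem_map, LinearMap.mem_ker, Submodule.mem_inf, mem_dotKer]
    constructor
    · rintro ⟨z, hz, rfl⟩; exact ⟨z.2, hz⟩
    · rintro ⟨hy, hy'⟩; exact ⟨⟨y, hy⟩, hy', rfl⟩
  have h4 : Module.finrank F (LinearMap.ker L) =
      Module.finrank F (U ⊓ dotKer χ : Submodule F (Fin n → F)) := by
    rw [← h3, Submodule.finrank_map_subtype_eq]
  omega

theorem finrank_dotKer_ge (χ : Fin n → F) : n ≤ Module.finrank F (dotKer χ) + 1 := by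
  have := finrank_le_inf_dotKer (⊤ : Submodule F (Fin n → F)) χ
  rw [finrank_top, Module.finrank_fin_fun, top_inf_eq] at this
  exact this

theorem exists_dot_of_notMem {P : Submodule F (Fin n → F)} {x : Fin n → F} (hx : x ∉ P) :
    ∃ χ : Fin n → F, χ ⬝ᵥ x = 1 ∧ ∀ y ∈ P, χ ⬝ᵥ y = 0 := by
  obtain ⟨φ, hφ, hp⟩ := Submodule.exists_le_ker_of_notMem hx
  have key : ∀ y, (fun i => φ (Pi.single i 1)) ⬝ᵥ y = φ y := fun y => by
    conv_rhs => rw [pi_eq_sum_univ' y, map_sum]
    refine Finset.sum_congr rfl fun i _ => ?_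
    rw [map_smul, smul_eq_mul, mul_comm]
  refine ⟨(φ x)⁻¹ • fun i => φ (Pi.single i 1), ?_, fun y hy => ?_⟩
  · rw [smul_dotProduct, key, smul_eq_mul, inv_mul_cancel₀ hφ]
  · rw [smul_dotProduct, key, LinearMap.mem_ker.mp (hp hy), smul_zero]

variable (hf : Cfsg.Geo.IsUnitaryForm σ f)
include hf

theorem herm_add_right (x u v : Fin n → F) : f x (u + v) = f x u + f x v := by
  rw [hf.herm x (u + v), hf.add_left, map_add, ← hf.herm, ← hf.herm]

theorem herm_smul_right (c : F) (x v : Fin n → F) : f x (c • v) = σ c * f x v := by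
  rw [hf.herm x (c • v), hf.smul_left, map_mul, ← hf.herm]

theorem herm_zero_left (v : Fin n → F) : f 0 v = 0 := by
  have := hf.smul_left 0 0 v
  rwa [zero_smul, zero_mul] at this

theorem herm_zero_right (v : Fin n → F) : f v 0 = 0 := by
  rw [hf.herm, herm_zero_left hf, map_zero]

theorem herm_eq_zero_comm {u v : Fin n → F} (h : f u v = 0) : f v u = 0 := by
  rw [hf.herm, h, map_zero]

theorem hDual_dot (x v : Fin n → F) : hDual f v ⬝ᵥ x = f x v := by
  let L : (Fin n → F) →ₗ[F] F :=
    { toFun := fun y => f y v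
      map_add' := fun a b => hf.add_left a b v
      map_smul' := fun c a => hf.smul_left c a v }
  show _ = L x
  conv_rhs => rw [pi_eq_sum_univ' x, map_sum]
  refine Finset.sum_congr rfl fun i _ => ?_
  rw [map_smul, smul_eq_mul, mul_comm]
  rfl

theorem hDual_add (u v : Fin n → F) : hDual f (u + v) = hDual f u + hDual f v :=
  funext fun _ => herm_add_right hf _ _ _

theorem hDual_smul (c : F) (v : Fin n → F) : hDual f (c • v) = σ c • hDual f v :=
  funext fun _ => herm_smul_right hf _ _ _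

theorem hDual_ne_zero {v : Fin n → F} (hv : v ≠ 0) : hDual f v ≠ 0 := fun h => by
  obtain ⟨x, hx⟩ := (hf.nondegenerate v hv).1
  exact hx (by rw [← hDual_dot hf, h, zero_dotProduct])

theorem hDual_zero : hDual f (0 : Fin n → F) = 0 := funext fun _ => herm_zero_right hf _

theorem hDual_injective : Function.Injective (hDual f) := by
  intro u v h
  by_contra hne
  have h1 : hDual f (u - v) + hDual f v = hDual f u := by rw [← hDual_add hf, sub_add_cancel]
  rw [h, add_eq_right] at h1
  exact hDual_ne_zero hf (sub_ne_zero.mpr hne) h1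

theorem hDual_surjective [Finite F] : Function.Surjective (hDual f) :=
  Finite.surjective_of_injective (hDual_injective hf)

theorem mem_span_of_hDual {u v : Fin n → F} (h : hDual f u ∈ Submodule.span F {hDual f v}) :
    u ∈ Submodule.span F {v} := by
  obtain ⟨c, hc⟩ := Submodule.mem_span_singleton.mp h
  refine Submodule.mem_span_singleton.mpr ⟨σ c, hDual_injective hf ?_⟩
  rw [hDual_smul hf, hf.involutive, hc]

theorem exists_trace_ne : ∃ s : F, s + σ s ≠ 0 := by
  by_contra hno
  push Not at hno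
  refine hf.ne_refl (RingEquiv.ext fun x => ?_)
  have h1 := hno 1
  rw [map_one] at h1
  show σ x = x
  linear_combination hno x - x * h1

theorem exists_trace_zero : ∃ c : F, c ≠ 0 ∧ c + σ c = 0 := by
  obtain ⟨x, hx⟩ : ∃ x, σ x ≠ x := by
    by_contra hall
    simp only [not_exists, not_not] at hall
    exact hf.ne_refl (RingEquiv.ext hall)
  refine ⟨x - σ x, sub_ne_zero.mpr (Ne.symm hx), ?_⟩
  rw [map_sub, hf.involutive]; ring

theorem exists_norm_eq [Finite F] {e : F} (he : σ e = e) : ∃ t : F, t * σ t = e := by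
  rcases eq_or_ne e 0 with rfl | h
  · exact ⟨0, by simp⟩
  have : Fintype F := Fintype.ofFinite F
  obtain ⟨c, -, hc⟩ := CfsgLib.KnownC.exists_mul_apply_eq σ
    (orderOf_eq_prime (by ext x; exact hf.involutive x) (fun h => hf.ne_refl (h.trans rfl))) h he
  exact ⟨c, hc⟩

theorem herm_self_fixed (v : Fin n → F) : σ (f v v) = f v v := (hf.herm v v).symm

theorem herm_add_smul_self {x z : Fin n → F} (t : F) (h : f z x = 0) :
    f (x + t • z) (x + t • z) = f x x + t * σ t * f z z := by
  simp only [hf.add_left, hf.smul_left, herm_add_right hf, herm_smul_right hf, h,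
    herm_eq_zero_comm hf h]
  ring

/-- a subspace of more than half the dimension has an anisotropic vector -/
theorem exists_anisotropic {U : Submodule F (Fin n → F)} (hU : n < 2 * Module.finrank F U) :
    ∃ x ∈ U, f x x ≠ 0 := by
  by_contra hall
  simp only [not_exists, not_and, not_not] at hall
  have hti : ∀ x ∈ U, ∀ y ∈ U, f x y = 0 := by
    intro x hx y hy
    by_contra hxy
    obtain ⟨s, hs⟩ := exists_trace_ne hf
    have h := hall ((s / f x y) • x + y) (add_mem (U.smul_mem _ hx) hy)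
    simp only [hf.add_left, hf.smul_left, herm_add_right hf, herm_smul_right hf,
      hall x hx, hall y hy, mul_zero, zero_add, add_zero] at h
    rw [div_mul_cancel₀ _ hxy, hf.herm y x, ← map_mul, div_mul_cancel₀ _ hxy] at h
    exact hs h
  -- `U` lies in its orthogonal
  let k := Module.finrank F U
  let b := Module.finBasis F U
  let L : (Fin n → F) →ₗ[F] (Fin k → F) :=
    { toFun := fun x i => f x (b i)
      map_add' := fun x y => funext fun i => hf.add_left _ _ _
      map_smul' := fun c x => funext fun i => hf.smul_left _ _ _ }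
  have hker : U ≤ LinearMap.ker L := fun x hx =>
    LinearMap.mem_ker.mpr (funext fun i => hti x hx (b i) (b i).2)
  have hsurj : LinearMap.range L = ⊤ := by
    by_contra hne
    obtain ⟨φ, hφ, hle⟩ := Submodule.exists_le_ker_of_lt_top _ (lt_top_iff_ne_top.mpr hne)
    apply hφ
    let y : U := ∑ i, σ (φ (Pi.single i 1)) • b i
    have hy : ∀ x, f x y = φ (L x) := by
      intro x
      let R : U → F := fun u => f x u
      have hadd : ∀ u v : U, R (u + v) = R u + R v := fun u v => herm_add_right hf _ _ _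
      have hR : R y = ∑ i, R (σ (φ (Pi.single i 1)) • b i) :=
        map_sum (AddMonoidHom.mk' R hadd) _ _
      show R y = _
      rw [hR, pi_eq_sum_univ' (L x), map_sum]
      refine Finset.sum_congr rfl fun i _ => ?_
      rw [map_smul, smul_eq_mul]
      show f x ((σ (φ (Pi.single i 1)) • b i : U) : Fin n → F) = _
      rw [Submodule.coe_smul, herm_smul_right hf, hf.involutive, mul_comm]
      rfl
    have hy0 : (y : Fin n → F) = 0 := by
      by_contra h0
      obtain ⟨x, hx⟩ := (hf.nondegenerate _ h0).1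
      exact hx (by rw [hy]; exact LinearMap.mem_ker.mp (hle ⟨x, rfl⟩))
    have hzero := Fintype.linearIndependent_iff.mp b.linearIndependent _
      (show ∑ i, σ (φ (Pi.single i 1)) • b i = 0 from Subtype.ext hy0)
    refine (Pi.basisFun F (Fin k)).ext fun i => ?_
    rw [Pi.basisFun_apply, LinearMap.zero_apply, ← σ.map_eq_zero_iff]
    exact hzero i
  have h1 := LinearMap.finrank_range_add_finrank_ker L
  rw [hsurj, finrank_top, Module.finrank_fin_fun, Module.finrank_fin_fun] at h1
  have h2 := Submodule.finrank_mono hker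
  omega

/-- a subspace of dimension two has an isotropic vector -/
theorem exists_isotropic [Finite F] {U : Submodule F (Fin n → F)} (hU : 2 ≤ Module.finrank F U) :
    ∃ x ∈ U, x ≠ 0 ∧ f x x = 0 := by
  by_contra hall
  simp only [not_exists, not_and] at hall
  obtain ⟨x, hx, hx0⟩ := U.exists_mem_ne_zero_of_ne_bot (by
    rintro rfl
    rw [finrank_bot] at hU
    omega)
  have h1 := finrank_le_inf_dotKer U (hDual f x)
  obtain ⟨z, hz, hz0⟩ := (U ⊓ dotKer (hDual f x)).exists_mem_ne_zero_of_ne_bot (by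
    intro e
    rw [e, finrank_bot] at h1
    omega)
  have hzx : f z x = 0 := by rw [← hDual_dot hf]; exact hz.2
  have hzz : f z z ≠ 0 := hall z hz.1 hz0
  obtain ⟨t, ht⟩ := exists_norm_eq hf (e := -(f x x / f z z)) (by
    rw [map_neg, map_div₀, herm_self_fixed hf, herm_self_fixed hf])
  refine hall (x + t • z) (add_mem hx (U.smul_mem t hz.1)) ?_ ?_
  · intro e
    have : x = -(t • z) := eq_neg_of_add_eq_zero_left e
    have h' : f x x = f (-(t • z)) x := congrArg (f · x) this
    rw [show -(t • z) = (-t) • z by rw [neg_smul], hf.smul_left, hzx, mul_zero] at h'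
    exact hall x hx hx0 h'
  · rw [herm_add_smul_self hf t hzx, ht, neg_mul, div_mul_cancel₀ _ hzz, add_neg_cancel]

/-- an isotropic vector of a large subspace avoiding two hyperplanes -/
theorem exists_isotropic_avoid [Finite F] {U : Submodule F (Fin n → F)}
    (hU : n + 2 < 2 * Module.finrank F U) {χ₁ χ₂ : Fin n → F}
    (h₁ : ∃ y ∈ U, χ₁ ⬝ᵥ y ≠ 0) (h₂ : ∃ y ∈ U, χ₂ ⬝ᵥ y ≠ 0) :
    ∃ x ∈ U, f x x = 0 ∧ χ₁ ⬝ᵥ x ≠ 0 ∧ χ₂ ⬝ᵥ x ≠ 0 := by
  obtain ⟨x, hx, hx1, hx2⟩ : ∃ x ∈ U, χ₁ ⬝ᵥ x ≠ 0 ∧ χ₂ ⬝ᵥ x ≠ 0 := by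
    obtain ⟨y, hy, hy1⟩ := h₁
    obtain ⟨z, hz, hz2⟩ := h₂
    by_cases hy2 : χ₂ ⬝ᵥ y = 0
    · by_cases hz1 : χ₁ ⬝ᵥ z = 0
      · exact ⟨y + z, add_mem hy hz, by simp [dotProduct_add, hz1, hy1],
          by simp [dotProduct_add, hy2, hz2]⟩
      · exact ⟨z, hz, hz1, hz2⟩
    · exact ⟨y, hy, hy1, hy2⟩
  classical
  rcases eq_or_ne (f x x) 0 with hxx | hxx
  · exact ⟨x, hx, hxx, hx1, hx2⟩
  have h1 := finrank_le_inf_dotKer U (hDual f x)
  obtain ⟨z, hz, hzz⟩ := exists_anisotropic hf (U := U ⊓ dotKer (hDual f x)) (by omega)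
  obtain ⟨hzU, hzx'⟩ := hz
  have hzx : f z x = 0 := by rw [← hDual_dot hf]; exact hzx'
  obtain ⟨t₀, ht₀⟩ := exists_norm_eq hf (e := -(f x x / f z z)) (by
    rw [map_neg, map_div₀, herm_self_fixed hf, herm_self_fixed hf])
  -- three solutions of the norm equation
  obtain ⟨y, hy⟩ : ∃ y, σ y ≠ y := by
    by_contra hall
    simp only [not_exists, not_not] at hall
    exact hf.ne_refl (RingEquiv.ext hall)
  have hy0 : y ≠ 0 := fun e => hy (by rw [e, map_zero])
  have hy1 : y + 1 ≠ 0 := fun e => hy (by rw [eq_neg_of_add_eq_zero_left e, map_neg, map_one])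
  have hsy : σ y ≠ 0 := fun e => hy0 (σ.map_eq_zero_iff.1 e)
  have hsy1 : σ y + 1 ≠ 0 := fun e => hy1 (σ.map_eq_zero_iff.1 (by rw [map_add, map_one]; exact e))
  have ht₀' : t₀ ≠ 0 := fun e => by
    rw [e, zero_mul, eq_comm, neg_eq_zero, div_eq_zero_iff] at ht₀
    exact ht₀.elim hxx hzz
  let S : Finset F := {t₀, t₀ * (y / σ y), t₀ * ((y + 1) / (σ y + 1))}
  have hn1 : y / σ y * σ (y / σ y) = 1 := by rw [map_div₀, hf.involutive]; field_simp
  have hn2 : (y + 1) / (σ y + 1) * σ ((y + 1) / (σ y + 1)) = 1 := by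
    rw [map_div₀, map_add, map_add, map_one, hf.involutive]; field_simp
  have hS : ∀ t ∈ S, t * σ t = -(f x x / f z z) := by
    intro t ht
    simp only [S, Finset.mem_insert, Finset.mem_singleton] at ht
    rcases ht with rfl | rfl | rfl
    · exact ht₀
    · rw [map_mul, mul_mul_mul_comm, hn1, mul_one, ht₀]
    · rw [map_mul, mul_mul_mul_comm, hn2, mul_one, ht₀]
  have hcard : S.card = 3 := by
    have e1 : (1 : F) ≠ y / σ y := fun e => hy ((div_eq_one_iff_eq hsy).1 e.symm).symm
    have e2 : (1 : F) ≠ (y + 1) / (σ y + 1) := fun e =>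
      hy (add_right_cancel ((div_eq_one_iff_eq hsy1).1 e.symm)).symm
    have e3 : y / σ y ≠ (y + 1) / (σ y + 1) := fun e => by
      rw [div_eq_div_iff hsy hsy1] at e
      exact hy (by linear_combination -e)
    refine Finset.card_eq_three.2 ⟨_, _, _, ?_, ?_, ?_, rfl⟩
    · exact fun e => e1 (mul_left_cancel₀ ht₀' (by rw [mul_one]; exact e))
    · exact fun e => e2 (mul_left_cancel₀ ht₀' (by rw [mul_one]; exact e))
    · exact fun e => e3 (mul_left_cancel₀ ht₀' e)
  -- each functional excludes at most one of them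
  have hbad : ∀ {χ : Fin n → F}, χ ⬝ᵥ x ≠ 0 →
      (S.filter fun t => χ ⬝ᵥ (x + t • z) = 0).card ≤ 1 := by
    intro χ hχ
    refine Finset.card_le_one.2 fun t ht t' ht' => ?_
    have e := (Finset.mem_filter.1 ht).2
    have e' := (Finset.mem_filter.1 ht').2
    rw [dotProduct_add, dotProduct_smul, smul_eq_mul] at e e'
    refine mul_right_cancel₀ (fun h0 : χ ⬝ᵥ z = 0 => hχ ?_) (add_left_cancel (e.trans e'.symm))
    rw [h0, mul_zero, add_zero] at e
    exact e
  obtain ⟨t, ht, htn⟩ := Finset.exists_mem_notMem_of_card_lt_card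
    (s := (S.filter fun t => χ₁ ⬝ᵥ (x + t • z) = 0) ∪ S.filter fun t => χ₂ ⬝ᵥ (x + t • z) = 0)
    (t := S) (lt_of_le_of_lt (Finset.card_union_le _ _) (by
      have := hbad hx1; have := hbad hx2; omega))
  simp only [Finset.mem_union, Finset.mem_filter, ht, true_and, not_or] at htn
  refine ⟨x + t • z, add_mem hx (U.smul_mem t hzU), ?_, htn.1, htn.2⟩
  rw [herm_add_smul_self hf t hzx, hS t ht, neg_mul, div_mul_cancel₀ _ hzz, add_neg_cancel]

/-- isotropic vectors span large subspaces -/
theorem le_of_isotropic_mem [Finite F] {U P : Submodule F (Fin n → F)}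
    (hU : n + 2 < 2 * Module.finrank F U) (h : ∀ x ∈ U, f x x = 0 → x ∈ P) : U ≤ P := by
  intro y hy
  by_contra hyP
  obtain ⟨χ, hχy, hχ⟩ := exists_dot_of_notMem hyP
  have hex : ∃ z ∈ U, χ ⬝ᵥ z ≠ 0 := ⟨y, hy, by rw [hχy]; exact one_ne_zero⟩
  obtain ⟨x, hx, hxx, hx1, -⟩ := exists_isotropic_avoid hf hU hex hex
  exact hx1 (hχ x (h x hx hxx))

end CfsgLib.MaxSub
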