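import Cfsg.Agent.Lib.MaxSub.IsoHerm
import Mathlib.LinearAlgebra.Determinant

/-!
Pairs of complementary totally isotropic subspaces of a hermitian space.
-/

set_option autoImplicit false

namespace CfsgLib.MaxSub.HermPair

open CfsgLib.MaxSub CfsgLib.MaxSub.IsoSemi CfsgLib.Classical

universe u v

variable {F : Type u} [Field F] {V : Type v} [AddCommGroup V] [Module F V] {σ : F →+* F}

/-- A pair of complementary totally isotropic `m`-spaces. -/
structure Pair (B : V →ₛₗ[σ] V →ₗ[F] F) (m : ℕ) (D E : Submodule F V) : Prop where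
  tiD : TI B D
  tiE : TI B E
  dimD : Module.finrank F D = m
  dimE : Module.finrank F E = m
  compl : IsCompl D E

variable {B : V →ₛₗ[σ] V →ₗ[F] F} (hS : ∀ u v, σ (B u v) = B v u) (hsep : ∀ u, (∀ v, B u v = 0) → u = 0)
  {m : ℕ} {D E D' E' : Submodule F V}

theorem pair_symm (P : Pair B m D E) : Pair B m E D := ⟨P.tiE, P.tiD, P.dimE, P.dimD, P.compl.symm⟩

theorem sum_parts (P : Pair B m D E) (x : V) : ∃ a ∈ D, ∃ b ∈ E, a + b = x :=
  Submodule.mem_sup.1 (P.compl.sup_eq_top ▸ Submodule.mem_top)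

include hS in
theorem iso_of_parts {g : V →ₗ[F] V} (P : Pair B m D E) (P' : Pair B m D' E')
    (hD : ∀ u ∈ D, g u ∈ D') (hE : ∀ u ∈ E, g u ∈ E')
    (h : ∀ u ∈ D, ∀ v ∈ E, B (g u) (g v) = B u v) (x y : V) : B (g x) (g y) = B x y := by
  obtain ⟨a, ha, b, hb, rfl⟩ := sum_parts P x
  obtain ⟨c, hc, e, he, rfl⟩ := sum_parts P y
  simp only [map_add, LinearMap.add_apply, P.tiD a ha c hc, P.tiE b hb e he, P'.tiD _ (hD a ha) _ (hD c hc),
    P'.tiE _ (hE b hb) _ (hE e he), h a ha e he]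
  rw [← hS (g c) (g b), h c hc b hb, hS]

variable [FiniteDimensional F V]

include hS hsep in
/-- The second space is the dual of the first one. -/
theorem exists_dual (P : Pair B m D E) (b : Module.Basis (Fin m) F D) :
    ∃ e : E ≃ₗ[F] (Fin m → F), ∀ (v : E) i, e v i = B (b i : V) (v : V) := by
  let f : E →ₗ[F] (Fin m → F) := LinearMap.pi fun i => (B (b i : V)).comp E.subtype
  have hf : Function.Injective f := (injective_iff_map_eq_zero f).2 fun v hv => Subtype.ext (hsep _ fun x => by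
    obtain ⟨a, ha, c, hc, rfl⟩ := sum_parts P x
    rw [map_add, P.tiE _ v.2 c hc, add_zero]
    have h0 : (B (v : V)).comp D.subtype = 0 := b.ext fun i => by
      have h := congrFun hv i
      show B (v : V) (b i : V) = 0
      rw [← hS, show B (b i : V) (v : V) = 0 from h, map_zero]
    exact LinearMap.congr_fun h0 ⟨a, ha⟩)
  exact ⟨LinearEquiv.ofBijective f ⟨hf, (LinearMap.injective_iff_surjective_of_finrank_eq_finrank
    (by rw [P.dimE, Module.finrank_fin_fun])).1 hf⟩, fun v i => rfl⟩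

omit [FiniteDimensional F V] in
include hS in
/-- Agreement on a basis of the first space is agreement. -/
theorem form_ext {u : Submodule F V} {v v' : V} (b : Module.Basis (Fin m) F u) (f : u →ₗ[F] V)
    (h : ∀ i, B (f (b i)) v' = B (b i : V) v) (x : u) : B (f x) v' = B (x : V) v := by
  have h0 : (B v').comp f = (B v).comp u.subtype := b.ext fun i => by
    show B v' (f (b i)) = B v (b i : V)
    rw [← hS, h, hS]
  rw [← hS v', ← hS v, show B v' (f x) = B v (x : V) from LinearMap.congr_fun h0 x]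

include hS hsep in
/-- An isometry extending a given map between first spaces. -/
theorem exists_isom (P : Pair B m D E) (P' : Pair B m D' E') (α : D ≃ₗ[F] D') :
    ∃ g : V ≃ₗ[F] V, (∀ u v, B (g u) (g v) = B u v) ∧ (∀ u : D, g (u : V) = (α u : V)) ∧ (∀ v ∈ E, g v ∈ E') ∧
      ∀ b : Module.Basis (Fin m) F D, ∀ v : E, ∀ i, B (α (b i) : V) (g (v : V)) = B (b i : V) (v : V) := by
  let b := Module.finBasisOfFinrankEq F D P.dimD
  obtain ⟨e, he⟩ := exists_dual hS hsep P b
  obtain ⟨e', he'⟩ := exists_dual hS hsep P' (b.map α)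
  let β : E ≃ₗ[F] E' := e.trans e'.symm
  have hβ : ∀ (v : E) i, B (α (b i) : V) (β v : V) = B (b i : V) (v : V) := fun v i => by
    rw [← he v i]
    show B (α (b i) : V) (e'.symm (e v) : V) = _
    rw [← Module.Basis.map_apply b α i, ← he' (e'.symm (e v)) i, e'.apply_symm_apply]
  let g : V ≃ₗ[F] V := (Submodule.prodEquivOfIsCompl D E P.compl).symm.trans
    ((α.prodCongr β).trans (Submodule.prodEquivOfIsCompl D' E' P'.compl))
  have hgD : ∀ u : D, g (u : V) = (α u : V) := fun u => by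
    simp [g, Submodule.prodEquivOfIsCompl_symm_apply_left]
  have hgE : ∀ v : E, g (v : V) = (β v : V) := fun v => by
    simp [g, Submodule.prodEquivOfIsCompl_symm_apply_right]
  have hcross : ∀ (u : D) (v : E), B (g (u : V)) (g (v : V)) = B (u : V) (v : V) := fun u v => by
    rw [hgD, hgE]
    exact form_ext hS b (D'.subtype.comp α.toLinearMap) (fun i => hβ v i) u
  refine ⟨g, fun u v => ?_, hgD, fun v hv => ?_, fun b' v i => ?_⟩
  · exact iso_of_parts hS P P' (g := g.toLinearMap) (fun u hu => by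
      show g u ∈ D'; rw [hgD ⟨u, hu⟩]; exact (α _).2) (fun u hu => by
      show g u ∈ E'; rw [hgE ⟨u, hu⟩]; exact (β _).2) (fun u hu v hv => hcross ⟨u, hu⟩ ⟨v, hv⟩) u v
  · rw [hgE ⟨v, hv⟩]; exact (β _).2
  · rw [← hgD]; exact hcross (b' i) v

include hS hsep in
/-- A stabilising isometry with determinant `a / σ a`. -/
theorem exists_det (P : Pair B m D E) (hm : 0 < m) {a : F} (ha : a ≠ 0) :
    ∃ g : V ≃ₗ[F] V, (∀ u v, B (g u) (g v) = B u v) ∧ (∀ u ∈ D, g u ∈ D) ∧ (∀ v ∈ E, g v ∈ E) ∧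
      LinearMap.det (g : V →ₗ[F] V) = a * (σ a)⁻¹ := by
  classical
  let b := Module.finBasisOfFinrankEq F D P.dimD
  let c : Fin m → F := fun i => if i = ⟨0, hm⟩ then a else 1
  have hc : ∀ i, c i ≠ 0 := fun i => by dsimp only [c]; split_ifs <;> simp [ha]
  let L : (Fin m → F) ≃ₗ[F] (Fin m → F) := 
    { toFun := fun f i => c i * f i
      map_add' := fun f f' => funext fun i => mul_add _ _ _
      map_smul' := fun t f => funext fun i => mul_left_comm _ _ _
      invFun := fun f i => (c i)⁻¹ * f i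
      left_inv := fun f => funext fun i => inv_mul_cancel_left₀ (hc i) _
      right_inv := fun f => funext fun i => mul_inv_cancel_left₀ (hc i) _ }
  let α : D ≃ₗ[F] D := b.equivFun.trans (L.trans b.equivFun.symm)
  have hαb : ∀ i, α (b i) = c i • b i := fun i => by
    refine b.equivFun.injective (funext fun k => ?_)
    by_cases hk : k = i
    · subst hk; simp [α, L, Finsupp.single_apply]
    · simp [α, L, Finsupp.single_apply, Ne.symm hk]
  obtain ⟨g, hg, hgD, hgE, hgb⟩ := exists_isom hS hsep P P α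
  obtain ⟨e, he⟩ := exists_dual hS hsep P b
  have hgD' : ∀ u ∈ D, g u ∈ D := fun u hu => by rw [hgD ⟨u, hu⟩]; exact (α _).2
  refine ⟨g, hg, hgD', hgE, ?_⟩
  let β : E →ₗ[F] E := (g : V →ₗ[F] V).restrict hgE
  have hβ : β = (e.symm : (Fin m → F) →ₗ[F] E) ∘ₗ
      (Matrix.toLin' (Matrix.diagonal fun i => (σ (c i))⁻¹)) ∘ₗ (e : E →ₗ[F] (Fin m → F)) := by
    refine LinearMap.ext fun v => e.injective (funext fun i => ?_)
    rw [LinearMap.comp_apply, LinearMap.comp_apply, LinearEquiv.coe_coe, LinearEquiv.coe_coe, e.apply_symm_apply,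
      Matrix.toLin'_apply, Matrix.mulVec_diagonal, he, he, eq_inv_mul_iff_mul_eq₀ ((map_ne_zero σ).2 (hc i))]
    rw [← hgb b v i, hαb, Submodule.coe_smul, LinearMap.map_smulₛₗ, LinearMap.smul_apply, smul_eq_mul]
    rfl
  have hgg : (g : V →ₗ[F] V) = (Submodule.prodEquivOfIsCompl D E P.compl : (D × E) →ₗ[F] V) ∘ₗ
      ((α : D →ₗ[F] D).prodMap β) ∘ₗ
        ((Submodule.prodEquivOfIsCompl D E P.compl).symm : V →ₗ[F] (D × E)) := by
    refine LinearMap.ext fun x => ?_
    obtain ⟨⟨u, v⟩, rfl⟩ := (Submodule.prodEquivOfIsCompl D E P.compl).surjective x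
    rw [LinearMap.comp_apply, LinearMap.comp_apply, LinearEquiv.coe_coe, LinearEquiv.coe_coe,
      LinearEquiv.coe_coe, LinearEquiv.symm_apply_apply]
    simp only [Submodule.coe_prodEquivOfIsCompl', LinearMap.prodMap_apply, map_add, hgD, LinearEquiv.coe_coe]
    rfl
  have hα : LinearMap.det (α : D →ₗ[F] D) = ∏ i, c i := by
    rw [show (α : D →ₗ[F] D) = (b.equivFun.symm : (Fin m → F) →ₗ[F] D) ∘ₗ Matrix.toLin' (Matrix.diagonal c) ∘ₗ
      (b.equivFun : D →ₗ[F] (Fin m → F)) from LinearMap.ext fun x => by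
        simp only [α, L, LinearMap.comp_apply, LinearEquiv.coe_coe, LinearEquiv.trans_apply]
        congr 1
        funext i
        simp [Matrix.mulVec_diagonal]]
    rw [show (b.equivFun : D →ₗ[F] (Fin m → F)) = (b.equivFun.symm.symm : D →ₗ[F] (Fin m → F)) from rfl,
      LinearMap.det_conj, LinearMap.det_toLin', Matrix.det_diagonal]
  have hβd : LinearMap.det β = ∏ i, (σ (c i))⁻¹ := by
    rw [hβ, show (e : E →ₗ[F] (Fin m → F)) = (e.symm.symm : E →ₗ[F] (Fin m → F)) from rfl,
      LinearMap.det_conj, LinearMap.det_toLin', Matrix.det_diagonal]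
  rw [hgg, LinearMap.det_conj, LinearMap.det_prodMap, hα, hβd, ← Finset.prod_mul_distrib,
    Finset.prod_eq_single ⟨0, hm⟩ (fun i _ hi => by simp [c, hi]) (by simp)]
  simp [c]

variable (hG : Geom B) [Finite F]

include hG in
/-- A map fixing both members has even moving dimension. -/
theorem even_mov (P : Pair B m D E) {y : V ≃ₗ[F] V} (hy : ∀ u v, B (y u) (y v) = B u v)
    (hyD : D.map (y : V →ₗ[F] V) = D) (hyE : E.map (y : V →ₗ[F] V) = E) :
    Even (Module.finrank F ↥(LinearMap.range ((y : Module.End F V) - 1))) := by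
  obtain ⟨S, hS⟩ : ∃ S : Module.End F V, S = (y : Module.End F V) - 1 := ⟨_, rfl⟩
  rw [← hS]
  have hSa : ∀ x, S x = y x - x := fun x => by rw [hS]; rfl
  obtain ⟨R, hR⟩ : ∃ R, R = D.map S := ⟨_, rfl⟩
  have hRD : R ≤ D := by
    rw [hR]; rintro _ ⟨x, hx, rfl⟩
    rw [hSa]; exact D.sub_mem (hyD ▸ ⟨x, hx, rfl⟩) hx
  have hSE : ∀ x ∈ E, S x ∈ E := fun x hx => by rw [hSa]; exact E.sub_mem (hyE ▸ ⟨x, hx, rfl⟩) hx
  have hker : ∀ x ∈ E, (S x = 0 ↔ x ∈ perp B R) := by
    intro x hx
    rw [mem_perp, hR]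
    constructor
    · rintro h _ ⟨u, -, rfl⟩
      have hxy : y x = x := by rw [← sub_eq_zero, ← hSa]; exact h
      rw [hSa, map_sub, LinearMap.sub_apply, sub_eq_zero]
      conv_lhs => rw [← hxy]
      rw [hy]
    · intro h
      refine hG.sep _ fun z => hG.refl _ _ ?_
      obtain ⟨a, ha, b, hb, rfl⟩ := sum_parts P z
      rw [map_add, LinearMap.add_apply, P.tiE b hb _ (hSE x hx), add_zero]
      rw [← hyD] at ha
      obtain ⟨u, hu, rfl⟩ := ha
      have h1 := h _ ⟨u, hu, rfl⟩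
      rw [hSa, map_sub, LinearMap.sub_apply] at h1
      rw [LinearEquiv.coe_coe, hSa, map_sub, hy]
      linear_combination -h1
  have h1 := (S.comp E.subtype).finrank_range_add_finrank_ker
  rw [P.dimE, LinearMap.range_comp, Submodule.range_subtype] at h1
  have h2 : Module.finrank F ↥(LinearMap.ker (S.comp E.subtype)) = Module.finrank F ↥(E ⊓ perp B R) := by
    rw [← (Submodule.equivMapOfInjective E.subtype E.injective_subtype _).symm.finrank_eq]
    refine congrArg (fun W : Submodule F V => Module.finrank F ↥W) ?_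
    ext x
    constructor
    · rintro ⟨⟨x, hx⟩, hx0, rfl⟩; exact ⟨hx, (hker x hx).1 hx0⟩
    · rintro ⟨hx, hxp⟩; exact ⟨⟨x, hx⟩, (hker x hx).2 hxp, rfl⟩
  have h3 := Submodule.finrank_sup_add_finrank_inf_eq E (perp B R)
  have htop : E ⊔ perp B R = ⊤ := eq_top_iff.2 (P.compl.symm.sup_eq_top ▸
    sup_le_sup_left ((ti_iff_le_perp.1 P.tiD).trans (perp_antitone hRD)) E)
  have h4 := finrank_perp hG R
  rw [htop, finrank_top, P.dimE] at h3
  have hsup : LinearMap.range S = R ⊔ E.map S := by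
    rw [hR, ← Submodule.map_sup, P.compl.sup_eq_top, Submodule.map_top]
  have h5 := Submodule.finrank_sup_add_finrank_inf_eq R (E.map S)
  have hinf : R ⊓ E.map S = ⊥ := le_bot_iff.1 (P.compl.inf_eq_bot ▸ inf_le_inf hRD (by
    rintro _ ⟨x, hx, rfl⟩; exact hSE x hx))
  rw [← hsup, hinf, finrank_bot, add_zero] at h5
  exact ⟨Module.finrank F R, by omega⟩

include hS hG in
/-- A hermitian space of even dimension splits into two totally isotropic halves. -/
theorem exists_pair_in (htr : ∃ t, t + σ t = 1) {U W : Submodule F V} (hU : ND B U) (hWU : W ≤ U) (hW : TI B W)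
    {k : ℕ} (hk : Module.finrank F U = 2 * k) (hWk : Module.finrank F W = k) :
    ∃ W' : Submodule F V, W' ≤ U ∧ TI B W' ∧ Module.finrank F W' = k ∧ W ⊓ W' = ⊥ := by
  obtain ⟨C₀, hC₀⟩ := W.exists_isCompl
  obtain ⟨C, hC⟩ : ∃ C, C = U ⊓ C₀ := ⟨_, rfl⟩
  have hsup : W ⊔ C = U := by
    rw [hC, inf_comm U C₀, ← sup_inf_assoc_of_le C₀ hWU, hC₀.sup_eq_top, top_inf_eq]
  have hinf : W ⊓ C = ⊥ := le_bot_iff.1 (hC₀.inf_eq_bot ▸ inf_le_inf_left W (hC ▸ inf_le_right))
  have hCk : Module.finrank F C = k := by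
    have h := Submodule.finrank_sup_add_finrank_inf_eq W C
    rw [hsup, hinf, finrank_bot, hk, hWk] at h
    omega
  have hperp : U ⊓ perp B W = W := by
    refine (Submodule.eq_of_le_of_finrank_le (le_inf hWU (ti_iff_le_perp.1 hW)) ?_).symm
    have h := finrank_inf_perp hG hU hWU
    omega
  let w := Module.finBasisOfFinrankEq F W hWk
  let f : C →ₗ[F] (Fin k → F) := LinearMap.pi fun i => (B (w i : V)).comp C.subtype
  have hf : Function.Injective f := (injective_iff_map_eq_zero f).2 fun c hc => by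
    have hc' : (c : V) ∈ U ⊓ perp B W := ⟨(hC ▸ c.2 : (c : V) ∈ U ⊓ C₀).1, fun z hz => by
      have h0 : (B (c : V)).comp W.subtype = 0 := w.ext fun i => by
        show B (c : V) (w i : V) = 0
        rw [← hS, show B (w i : V) (c : V) = 0 from congrFun hc i, map_zero]
      rw [← hS, show B (c : V) z = 0 from LinearMap.congr_fun h0 ⟨z, hz⟩, map_zero]⟩
    rw [hperp] at hc'
    exact Subtype.ext ((Submodule.mem_bot F).1 (hinf ▸ ⟨hc', c.2⟩))
  obtain ⟨e, he⟩ : ∃ e : C ≃ₗ[F] (Fin k → F), ∀ c i, e c i = B (w i : V) (c : V) :=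
    ⟨LinearEquiv.ofBijective f ⟨hf, (LinearMap.injective_iff_surjective_of_finrank_eq_finrank
      (by rw [hCk, Module.finrank_fin_fun])).1 hf⟩, fun c i => rfl⟩
  obtain ⟨t, ht⟩ := htr
  let ε : Fin k → V := fun i => (e.symm (Pi.single i 1) : V)
  have hexp : ∀ c : C, (c : V) = ∑ i, B (w i : V) (c : V) • ε i := fun c => by
    have h : c = ∑ i, B (w i : V) (c : V) • e.symm (Pi.single i 1) := e.injective (by
      rw [map_sum]
      funext j
      simp [map_smul, Finset.sum_apply, Pi.single_apply, he])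
    conv_lhs => rw [h]
    simp [ε]
  let φ : C →ₗ[F] V := (-(σ t)) • (W.subtype.comp ((w.equivFun.symm : (Fin k → F) →ₗ[F] W).comp
    (LinearMap.pi fun i => (B (ε i)).comp C.subtype)))
  have hφW : ∀ c, φ c ∈ W := fun c => W.smul_mem _ (Subtype.mem _)
  have htt : ∀ a, σ (σ (B a a)) = B a a := fun a => by rw [hS, hS]
  have hφ : ∀ c c' : C, σ (B (φ c) (c' : V)) = -σ t * σ (B (c : V) (c' : V)) := fun c c' => by
    rw [hS, hS]
    show B (c' : V) (-(σ t) • ((w.equivFun.symm fun i => B (ε i) (c : V) : W) : V)) = _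
    rw [map_smul, Module.Basis.equivFun_symm_apply, Submodule.coe_sum, map_sum, smul_eq_mul]
    conv_rhs => rw [hexp c']
    rw [map_sum, LinearMap.sum_apply]
    refine congrArg _ (Finset.sum_congr rfl fun i _ => ?_)
    rw [Submodule.coe_smul, map_smul, LinearMap.map_smulₛₗ, LinearMap.smul_apply, smul_eq_mul, smul_eq_mul,
      ← hS (w i : V) (c' : V)]
    ring
  refine ⟨LinearMap.range (C.subtype + φ), ?_, ?_, ?_, (Submodule.eq_bot_iff _).2 ?_⟩
  · rintro _ ⟨c, rfl⟩
    exact U.add_mem (hC ▸ c.2 : (c : V) ∈ U ⊓ C₀).1 (hWU (hφW c))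
  · rintro _ ⟨c, rfl⟩ _ ⟨c', rfl⟩
    simp only [LinearMap.add_apply, Submodule.subtype_apply, map_add, hW _ (hφW c) _ (hφW c'), add_zero]
    have h1 : B (φ c) (c' : V) = -t * B (c : V) (c' : V) := σ.injective (by rw [hφ, map_mul, map_neg])
    have h2 : B (c : V) (φ c') = -σ t * B (c : V) (c' : V) := by
      rw [← hS (φ c'), hφ, hS]
    rw [h1, h2]
    linear_combination (-(B (c : V) (c' : V))) * ht
  · rw [LinearMap.finrank_range_of_inj ((injective_iff_map_eq_zero _).2 fun c hc => ?_), hCk]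
    have hcW : (c : V) ∈ W := by
      rw [show (c : V) = -φ c from eq_neg_of_add_eq_zero_left hc]; exact W.neg_mem (hφW c)
    exact Subtype.ext ((Submodule.mem_bot F).1 (hinf ▸ ⟨hcW, c.2⟩))
  · rintro _ ⟨hx, c, rfl⟩
    have hcW : (c : V) ∈ W := by simpa using W.sub_mem hx (hφW c)
    have hc0 : c = 0 := Subtype.ext ((Submodule.mem_bot F).1 (hinf ▸ ⟨hcW, c.2⟩))
    rw [hc0, map_zero]

end CfsgLib.MaxSub.HermPair
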