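import Cfsg.Agent.Lib.MaxSub.HermPerp

/-!
Pairs of complementary maximal totally isotropic subspaces of a Hermitian space.
-/

set_option autoImplicit false
set_option linter.unusedSectionVars false

namespace CfsgLib.MaxSub

open Matrix
open scoped MatrixGroups

variable {F : Type*} [Field F] {n k : ℕ} {σ : F ≃+* F} {f : (Fin n → F) → (Fin n → F) → F}

theorem glExt_mulVec {g h : GL (Fin n) F}
    (e : ∀ x, (g : Matrix (Fin n) (Fin n) F) *ᵥ x = (h : Matrix (Fin n) (Fin n) F) *ᵥ x) : g = h :=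
  Units.ext (Matrix.ext_of_mulVec_single fun i => e _)

section
variable (hf : Cfsg.Geo.IsUnitaryForm σ f)
include hf

theorem hEich_mul {u y y' : (Fin n → F)} (hu : f u u = 0) (h : f u y = 0) (h' : f u y' = 0) (c c' : F) (x : (Fin n → F)) :
    ((hEich hf u y c hu h * hEich hf u y' c' hu h' : GL (Fin n) F) : Matrix (Fin n) (Fin n) F) *ᵥ x =
      x + (f x (y + y') + (c + c' - f y' y) * f x u) • u + (-f x u) • (y + y') := by
  rw [Units.val_mul, ← mulVec_mulVec, hEich_mulVec hf, hEich_mulVec hf, hf.add_left, hf.add_left,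
    hf.add_left, hf.add_left, hf.smul_left, hf.smul_left, hf.smul_left, hf.smul_left, hu, h,
    herm_eq_zero_comm hf h', herm_add_right hf]
  module

theorem hEich_conj {g : GL (Fin n) F}
    (hg : ∀ x y, f ((g : Matrix (Fin n) (Fin n) F) *ᵥ x) ((g : Matrix (Fin n) (Fin n) F) *ᵥ y) = f x y)
    {u y : (Fin n → F)} (hu : f u u = 0) (h : f u y = 0) (c : F) :
    g * hEich hf u y c hu h * g⁻¹ =
      hEich hf ((g : Matrix (Fin n) (Fin n) F) *ᵥ u) ((g : Matrix (Fin n) (Fin n) F) *ᵥ y) c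
        ((hg u u).trans hu) ((hg u y).trans h) := by
  refine glExt_mulVec fun x => ?_
  have e : ∀ v, f (((g⁻¹ : GL (Fin n) F) : Matrix (Fin n) (Fin n) F) *ᵥ x) v =
      f x ((g : Matrix (Fin n) (Fin n) F) *ᵥ v) := fun v => by
    rw [← hg, mulVec_mulVec_inv]
  rw [Units.val_mul, Units.val_mul, ← mulVec_mulVec, ← mulVec_mulVec, hEich_mulVec hf, hEich_mulVec hf,
    mulVec_add, mulVec_add, mulVec_smul, mulVec_smul, mulVec_mulVec_inv, e, e]

end

/-- `A`, `B` are complementary totally isotropic subspaces of dimension `k`. -/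
structure HPolar (σ : F ≃+* F) (f : (Fin n → F) → (Fin n → F) → F) (k : ℕ)
    (A B : Submodule F (Fin n → F)) : Prop where
  form : Cfsg.Geo.IsUnitaryForm σ f
  isoA : ∀ u ∈ A, ∀ v ∈ A, f u v = 0
  isoB : ∀ u ∈ B, ∀ v ∈ B, f u v = 0
  inf_eq : A ⊓ B = ⊥
  sup_eq : A ⊔ B = ⊤
  dimA : Module.finrank F A = k
  dimB : Module.finrank F B = k

namespace HPolar

variable {A B : Submodule F (Fin n → F)} (P : HPolar σ f k A B)
include P

theorem symm : HPolar σ f k B A :=
  ⟨P.form, P.isoB, P.isoA, by rw [inf_comm, P.inf_eq], by rw [sup_comm, P.sup_eq], P.dimB, P.dimA⟩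

theorem zero_of_mem {x : (Fin n → F)} (ha : x ∈ A) (hb : x ∈ B) : x = 0 :=
  (Submodule.eq_bot_iff _).1 P.inf_eq x ⟨ha, hb⟩

theorem decomp (x : (Fin n → F)) : ∃ a ∈ A, ∃ b ∈ B, a + b = x :=
  Submodule.mem_sup.1 (by rw [P.sup_eq]; trivial)

theorem zero_of_orth {x : (Fin n → F)} (hA : ∀ a ∈ A, f x a = 0) (hB : ∀ b ∈ B, f x b = 0) : x = 0 := by
  by_contra hx
  obtain ⟨y, hy⟩ := (P.form.nondegenerate x hx).2
  obtain ⟨a, ha, b, hb, rfl⟩ := P.decomp y
  exact hy (by rw [herm_add_right P.form, hA a ha, hB b hb, add_zero])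

theorem mem_of_orth {x : (Fin n → F)} (hB : ∀ b ∈ B, f x b = 0) : x ∈ B := by
  obtain ⟨a, ha, b, hb, rfl⟩ := P.decomp x
  have : a = 0 := P.zero_of_orth (fun a' ha' => P.isoA a ha a' ha') fun b' hb' => by
    have := hB b' hb'
    rwa [P.form.add_left, P.isoB b hb b' hb', add_zero] at this
  rwa [this, zero_add]

theorem exists_sep [Finite F] {x w u : (Fin n → F)} (hx : x ∈ A) (hw : w ∈ A) (hu : u ∈ A)
    (h : x ∉ Submodule.span F {w, u}) :
    ∃ α ∈ B, f α w = 0 ∧ f α u = 0 ∧ f α x ≠ 0 := by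
  obtain ⟨y, hy, hxy⟩ := exists_hPerp_of_notMem P.form (W := B ⊔ Submodule.span F {w, u}) (x := x)
    (fun hm => by
      obtain ⟨b, hb, s, hs, rfl⟩ := Submodule.mem_sup.1 hm
      have hsA : s ∈ A := Submodule.span_le.2 (by
        rintro _ (rfl | rfl)
        · exact hw
        · exact hu) hs
      have hb0 : b = 0 := P.zero_of_mem (by simpa using sub_mem hx hsA) hb
      rw [hb0, zero_add] at h
      exact h hs)
  refine ⟨y, P.mem_of_orth fun b hb => hy b (Submodule.mem_sup_left hb), ?_, ?_, ?_⟩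
  · exact hy w (Submodule.mem_sup_right (Submodule.subset_span (by simp)))
  · exact hy u (Submodule.mem_sup_right (Submodule.subset_span (by simp)))
  · exact fun e => hxy (herm_eq_zero_comm P.form e)

variable {M : Subgroup (GL (Fin n) F)}
  (hM : ∀ u (hu : u ∈ A) (α : (Fin n → F)), α ∈ B → ∀ h : f u α = 0,
    hEich P.form u α 0 (P.isoA u hu u hu) h ∈ M)
include hM

theorem radical_move [Finite F] {x y z : (Fin n → F)} (hx : x ∈ A) (hy : y ∈ A) (hz : z ∈ A)
    (hS : hEich P.form x y 0 (P.isoA x hx x hx) (P.isoA x hx y hy) ∈ M)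
    (hind : y ∉ Submodule.span F {x, z - y}) :
    hEich P.form x z 0 (P.isoA x hx x hx) (P.isoA x hx z hz) ∈ M := by
  have hf := P.form
  have hd := sub_mem hz hy
  obtain ⟨α, hα, hαx, hαd, hαy⟩ := P.exists_sep hy hx hd hind
  have hyα : f y α ≠ 0 := fun e => hαy (herm_eq_zero_comm hf e)
  set β := σ ((f y α)⁻¹) • α with hβ
  have hβy : f y β = 1 := by rw [herm_smul_right hf, hf.involutive, inv_mul_cancel₀ hyα]
  have hβx : f x β = 0 := by rw [herm_smul_right hf, herm_eq_zero_comm hf hαx, mul_zero]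
  have hβd : f (z - y) β = 0 := by rw [herm_smul_right hf, herm_eq_zero_comm hf hαd, mul_zero]
  have hT := hM _ hd β (B.smul_mem _ hα) hβd
  have hββ : f β β = 0 := P.isoB β (B.smul_mem _ hα) β (B.smul_mem _ hα)
  have h1 := mul_mem (mul_mem hT hS) (inv_mem hT)
  rw [hEich_conj hf (hEich_isometry hf _ _ _ (P.isoA _ hd _ hd) hβd
    (by rw [map_zero, add_zero, hββ, neg_zero]))] at h1
  simp only [hEich_mulVec hf, hβy, hβx, P.isoA x hx _ hd, P.isoA y hy _ hd, mul_zero, add_zero,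
    zero_smul, neg_zero, one_smul, add_sub_cancel] at h1
  exact h1

/-- One element of the unipotent radical of `A` gives all unitary transvections centred in `A`. -/
theorem uFull_of_radical [Finite F] (h3 : 3 ≤ k) {u w : (Fin n → F)} (hu : u ∈ A) (hw : w ∈ A)
    (hind : w ∉ Submodule.span F {u}) (hu0 : u ≠ 0)
    (hS : hEich P.form u w 0 (P.isoA u hu u hu) (P.isoA u hu w hw) ∈ M) :
    ∀ x ∈ A, UFull σ f M x := by
  have hf := P.form
  have all : ∀ a b : (Fin n → F), ∀ (ha : a ∈ A) (hb : b ∈ A), a ≠ 0 → b ∉ Submodule.span F {a} →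
      hEich hf a b 0 (P.isoA a ha a ha) (P.isoA a ha b hb) ∈ M → ∀ c, ∀ hc : c ∈ A,
        c ∉ Submodule.span F {a} → hEich hf a c 0 (P.isoA a ha a ha) (P.isoA a ha c hc) ∈ M := by
    intro a b ha hb ha0 hba hab c hc hca
    obtain ⟨p, hp, hpb, hpc⟩ : ∃ p ∈ A, p ∉ Submodule.span F {a, b} ∧
        p ∉ Submodule.span F {a, c} := by
      by_contra hno
      push Not at hno
      rcases le_or_le_of_forall_mem (U := A) (A := Submodule.span F {a, b})
        (B := Submodule.span F {a, c}) fun x hx => or_iff_not_imp_left.2 (hno x hx) with h | h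
      · obtain ⟨x, hx, hx'⟩ := exists_notMem_span_pair (U := A) a b (by rw [P.dimA]; omega)
        exact hx' (h hx)
      · obtain ⟨x, hx, hx'⟩ := exists_notMem_span_pair (U := A) a c (by rw [P.dimA]; omega)
        exact hx' (h hx)
    have key : ∀ r s : (Fin n → F), r ∉ Submodule.span F {a} → s ∉ Submodule.span F {a, r} →
        r ∉ Submodule.span F {a, s - r} := by
      intro r s hr hs hm
      obtain ⟨i, j, e⟩ := Submodule.mem_span_pair.1 hm
      rcases eq_or_ne j 0 with rfl | hj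
      · exact hr (Submodule.mem_span_singleton.2 ⟨i, by simpa using e⟩)
      · refine hs (Submodule.mem_span_pair.2 ⟨-(j⁻¹ * i), j⁻¹ * (1 + j), ?_⟩)
        refine smul_right_injective (Fin n → F) hj ?_
        simp only [smul_add, smul_smul, mul_neg, ← mul_assoc, mul_inv_cancel₀ hj, one_mul]
        linear_combination (norm := module) -e
    refine radical_move P hM ha hp hc (radical_move P hM ha hb hp hab (key b p hba hpb)) ?_
    intro hm
    obtain ⟨i, j, e⟩ := Submodule.mem_span_pair.1 hm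
    by_cases hj : 1 + j = 0
    · refine hca (Submodule.mem_span_singleton.2 ⟨i, ?_⟩)
      obtain rfl : j = -1 := by linear_combination hj
      linear_combination (norm := module) e
    · refine hpc (Submodule.mem_span_pair.2 ⟨(1 + j)⁻¹ * i, (1 + j)⁻¹ * j, ?_⟩)
      refine smul_right_injective (Fin n → F) hj ?_
      simp only [smul_add, smul_smul, ← mul_assoc, mul_inv_cancel₀ hj, one_mul]
      linear_combination (norm := module) e
  have hnotspan : ∀ a b : (Fin n → F), a ≠ 0 → b ∉ Submodule.span F {a} → a ∉ Submodule.span F {b} := by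
    intro a b ha hb hm
    obtain ⟨s, hs⟩ := Submodule.mem_span_singleton.1 hm
    have hs0 : s ≠ 0 := fun e => ha (by rw [← hs, e, zero_smul])
    exact hb (Submodule.mem_span_singleton.2 ⟨s⁻¹, by rw [← hs, inv_smul_smul₀ hs0]⟩)
  -- change of sign and of order
  have hflip : ∀ (a b : (Fin n → F)) (ha : a ∈ A) (hb : b ∈ A),
      hEich hf a b 0 (P.isoA a ha a ha) (P.isoA a ha b hb) ∈ M →
      hEich hf b a 0 (P.isoA b hb b hb) (P.isoA b hb a ha) ∈ M := by
    intro a b ha hb h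
    convert inv_mem h using 1
    rw [eq_comm]
    refine inv_eq_of_mul_eq_one_right (glExt_mulVec fun x => ?_)
    rw [Units.val_mul, ← mulVec_mulVec, hEich_mulVec hf, hEich_mulVec hf, Units.val_one, one_mulVec]
    simp only [hf.add_left, hf.smul_left, P.isoA a ha a ha, P.isoA b hb b hb, P.isoA a ha b hb,
      P.isoA b hb a ha]
    module
  have pairs : ∀ a c, ∀ (ha : a ∈ A) (hc : c ∈ A), a ≠ 0 → c ∉ Submodule.span F {a} →
      hEich hf a c 0 (P.isoA a ha a ha) (P.isoA a ha c hc) ∈ M := by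
    intro a c ha hc ha0 hca
    obtain ⟨p, hp, hpu, hpa⟩ : ∃ p ∈ A, p ∉ Submodule.span F {u} ∧ p ∉ Submodule.span F {a} := by
      obtain ⟨p, hp, hp'⟩ := exists_notMem_span_pair (U := A) u a (by rw [P.dimA]; omega)
      exact ⟨p, hp, fun h => hp' (Submodule.span_mono (by simp) h),
        fun h => hp' (Submodule.span_mono (by simp) h)⟩
    have h1 := hflip _ _ hu hp (all u w hu hw hu0 hind hS p hp hpu)
    have hp0 : p ≠ 0 := by rintro rfl; exact hpa (Submodule.zero_mem _)
    have h2 := hflip _ _ hp ha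
      (all p u hp hu hp0 (hnotspan u p hu0 hpu) h1 a ha (hnotspan a p ha0 hpa))
    exact all a p ha hp ha0 hpa h2 c hc hca
  intro x hx
  rcases eq_or_ne x 0 with rfl | hx0
  · exact uFull_zero hf
  refine ⟨P.isoA x hx x hx, fun c hc => ?_⟩
  have h0 : (c • hDual f x) ⬝ᵥ x = 0 := by rw [smul_dotProduct, hDual_dot hf, P.isoA x hx x hx, smul_zero]
  refine (hasTv_iff h0).2 ?_
  obtain ⟨y, hy, hy'⟩ := exists_notMem_span_pair (U := A) x x (by rw [P.dimA]; omega)
  have hyx : y ∉ Submodule.span F {x} := by simpa using hy'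
  obtain ⟨s, hs⟩ := exists_trace_eq hf (a := -1) (by rw [map_neg, map_one])
  have hyt : y + (c * s) • x ∉ Submodule.span F {x} := fun h =>
    hyx (by simpa using sub_mem h (Submodule.smul_mem _ (c * s) (Submodule.mem_span_singleton_self x)))
  have h1 := pairs x (y + (c * s) • x) hx (add_mem hy (A.smul_mem _ hx)) hx0 hyt
  have h2 := pairs x y hx hy hx0 hyx
  convert mul_mem h1 (inv_mem h2) using 1
  rw [eq_mul_inv_iff_mul_eq]
  refine glExt_mulVec fun z => ?_
  rw [Units.val_mul, ← mulVec_mulVec, coe_tvGL, uTv_mulVec hf, hEich_mulVec hf, hEich_mulVec hf]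
  simp only [herm_add_right hf, herm_smul_right hf, hf.add_left, hf.smul_left, P.isoA x hx x hx,
    P.isoA y hy x hx, map_mul, mul_zero, add_zero]
  have hσc : σ c = -c := by linear_combination hc
  have hσs : σ s = -1 - s := by linear_combination hs
  rw [hσc, hσs]
  module

/-- A conjugate pair with a vector of `A` orthogonal to it outside the plane of its components. -/
theorem uFull_of_pair_perp [Finite F] (h3 : 3 ≤ k)
    {a b a₁ a₂ b₁ b₂ u : (Fin n → F)}
    (ha₁ : a₁ ∈ A) (ha₂ : a₂ ∈ B) (ha : a₁ + a₂ = a) (hb₁ : b₁ ∈ A) (hb₂ : b₂ ∈ B)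
    (hb : b₁ + b₂ = b) (haa : f a a = 0) (hbb : f b b = 0) (hab : f a b = 0)
    (hS : hEich P.form a b 0 haa hab ∈ M)
    (hb10 : b₁ ≠ 0) (hind : a₁ ∉ Submodule.span F {b₁}) (huA : u ∈ A) (hua : f u a = 0) (hub : f u b = 0)
    (hu' : u ∉ Submodule.span F {b₁, a₁}) : ∀ x ∈ A, UFull σ f M x := by
  have hf := P.form
  have hub₂ : f u b₂ = 0 := by
    rw [← hb, herm_add_right hf, P.isoA u huA b₁ hb₁, zero_add] at hub
    exact hub
  obtain ⟨α, hα, hαb, hαu, hαa⟩ := P.exists_sep ha₁ hb₁ huA (by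
    intro hm
    obtain ⟨i, j, e⟩ := Submodule.mem_span_pair.1 hm
    rcases eq_or_ne j 0 with rfl | hj
    · exact hind (Submodule.mem_span_singleton.2 ⟨i, by simpa using e⟩)
    · refine hu' (Submodule.mem_span_pair.2 ⟨-(j⁻¹ * i), j⁻¹, ?_⟩)
      refine smul_right_injective (Fin n → F) hj ?_
      simp only [smul_add, smul_smul, mul_neg, ← mul_assoc, mul_inv_cancel₀ hj, one_mul]
      linear_combination (norm := module) -e)
  have hαb' : f α b = 0 := by rw [← hb, herm_add_right hf, hαb, P.isoB α hα b₂ hb₂, add_zero]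
  set κ := -f α a with hκ
  have hκ0 : κ ≠ 0 := by
    rw [hκ, ← ha, herm_add_right hf, P.isoB α hα a₂ ha₂, add_zero]
    exact neg_ne_zero.2 hαa
  have huu : f u u = 0 := P.isoA u huA u huA
  have huα : f u α = 0 := herm_eq_zero_comm hf hαu
  have hukb : f u (κ • b) = 0 := by rw [herm_smul_right hf, hub, mul_zero]
  have h1 : hEich hf u (κ • b) 0 huu hukb ∈ M := by
    have hUα := hM u huA α hα huα
    have := mul_mem (inv_mem hUα) (mul_mem (mul_mem hS hUα) (inv_mem hS))
    convert this using 1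
    rw [eq_inv_mul_iff_mul_eq, hEich_conj hf (hEich_isometry hf _ _ _ haa hab
      (by rw [map_zero, add_zero, hbb, neg_zero]))]
    refine glExt_mulVec fun x => ?_
    rw [hEich_mul hf, hEich_mulVec hf]
    simp only [hEich_mulVec hf, hua, hub, hαb', ← hκ, hf.smul_left, herm_eq_zero_comm hf hαb',
      zero_mul, mul_zero, add_zero, sub_zero, zero_smul, neg_zero]
  -- split off the part in `B`
  obtain ⟨s, hs⟩ := exists_trace_eq hf (a := -1) (by rw [map_neg, map_one])
  set c₀ := f (κ • b₁) (κ • b₂) with hc₀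
  have hc₀' : c₀ + σ c₀ = 0 := by
    have h' : f b₁ b₂ + f b₂ b₁ = 0 := by
      rw [← hb] at hbb
      simp only [hf.add_left, herm_add_right hf, P.isoA b₁ hb₁ b₁ hb₁, P.isoB b₂ hb₂ b₂ hb₂] at hbb
      linear_combination hbb
    rw [hc₀, ← hf.herm (κ • b₂) (κ • b₁)]
    simp only [hf.smul_left, herm_smul_right hf]
    linear_combination (κ * σ κ) * h'
  have hw : κ • b₁ + (c₀ * s) • u ∈ A := add_mem (A.smul_mem _ hb₁) (A.smul_mem _ huA)
  have hu0 : u ≠ 0 := by rintro rfl; exact hu' (Submodule.zero_mem _)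
  refine uFull_of_radical P hM (by omega) huA hw ?_ hu0 ?_
  · intro hm
    have h' : κ • b₁ ∈ Submodule.span F {u} := by
      simpa using sub_mem hm (Submodule.smul_mem _ (c₀ * s) (Submodule.mem_span_singleton_self u))
    obtain ⟨r, hr⟩ := Submodule.mem_span_singleton.1 ((Submodule.smul_mem_iff _ hκ0).1 h')
    have hr0 : r ≠ 0 := fun e => hb10 (by rw [← hr, e, zero_smul])
    exact hu' (Submodule.mem_span_pair.2 ⟨r⁻¹, 0, by rw [← hr, inv_smul_smul₀ hr0]; simp⟩)
  · have h2' := hM u huA (κ • b₂) (B.smul_mem _ hb₂) (by rw [herm_smul_right hf, hub₂, mul_zero])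
    have := mul_mem (inv_mem h2') h1
    convert this using 1
    rw [eq_inv_mul_iff_mul_eq]
    refine glExt_mulVec fun x => ?_
    rw [hEich_mul hf, hEich_mulVec hf, ← hb, smul_add]
    have hub₂' : f u (κ • b₂) = 0 := by rw [herm_smul_right hf, hub₂, mul_zero]
    have hσc : σ c₀ = -c₀ := by linear_combination hc₀'
    have hσs : σ s = -1 - s := by linear_combination hs
    have hσt : σ (c₀ * s) = c₀ + c₀ * s := by rw [map_mul, hσc, hσs]; ring
    rw [hf.add_left (κ • b₁) ((c₀ * s) • u) (κ • b₂), hf.smul_left (c₀ * s) u, hub₂', ← hc₀]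
    simp only [herm_add_right hf, herm_smul_right hf, hσt]
    module

/-- A conjugate pair off both subspaces gives the transvections centred in `A`. -/
theorem uFull_of_pair [Finite F] (h5 : 5 ≤ k)
    {a b a₁ a₂ b₁ b₂ : (Fin n → F)}
    (ha₁ : a₁ ∈ A) (ha₂ : a₂ ∈ B) (ha : a₁ + a₂ = a) (hb₁ : b₁ ∈ A) (hb₂ : b₂ ∈ B)
    (hb : b₁ + b₂ = b) (haa : f a a = 0) (hbb : f b b = 0) (hab : f a b = 0)
    (hS : hEich P.form a b 0 haa hab ∈ M)
    (hb10 : b₁ ≠ 0) (hind : a₁ ∉ Submodule.span F {b₁}) : ∀ x ∈ A, UFull σ f M x := by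
  have hf := P.form
  have d1 := finrank_le_inf_ker A (hLin hf a)
  have d2 := finrank_le_inf_ker (A ⊓ LinearMap.ker (hLin hf a)) (hLin hf b)
  rw [P.dimA] at d1
  obtain ⟨u, hu, hu'⟩ := exists_notMem_span_pair
    (U := A ⊓ LinearMap.ker (hLin hf a) ⊓ LinearMap.ker (hLin hf b)) b₁ a₁ (by omega)
  exact uFull_of_pair_perp P hM (by omega) ha₁ ha₂ ha hb₁ hb₂ hb haa hbb hab hS hb10 hind hu.1.1 hu.1.2 hu.2 hu'

/-- A pair one of whose members has a component orthogonal to the pair. -/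
theorem uFull_of_pair_radical [Finite F]
    {a b a₁ a₂ b₁ b₂ : (Fin n → F)}
    (ha₁ : a₁ ∈ A) (ha₂ : a₂ ∈ B) (ha : a₁ + a₂ = a) (hb₁ : b₁ ∈ A) (hb₂ : b₂ ∈ B)
    (hb : b₁ + b₂ = b) (haa : f a a = 0) (hbb : f b b = 0) (hab : f a b = 0)
    (hS : hEich P.form a b 0 haa hab ∈ M)
    (hb10 : b₁ ≠ 0) (hind : a₁ ∉ Submodule.span F {b₁}) (hra : f b₁ a = 0) (hrb : f b₁ b = 0) :
    ∀ x ∈ A, UFull σ f M x := by
  have hf := P.form
  obtain ⟨α₀, hα₀, hαb, -, hαa⟩ := P.exists_sep ha₁ hb₁ hb₁ (by simpa using hind)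
  have hb₁b₁ : f b₁ b₁ = 0 := P.isoA b₁ hb₁ b₁ hb₁
  have hrb₂ : f b₁ b₂ = 0 := by
    rw [← hb, herm_add_right hf, hb₁b₁, zero_add] at hrb
    exact hrb
  have hαa' : f α₀ a ≠ 0 := by rwa [← ha, herm_add_right hf, P.isoB α₀ hα₀ a₂ ha₂, add_zero]
  -- every transvection centred at `b₁`
  have hfull : UFull σ f M b₁ := by
    refine ⟨hb₁b₁, fun c hc => ?_⟩
    have h0 : (c • hDual f b₁) ⬝ᵥ b₁ = 0 := by rw [smul_dotProduct, hDual_dot hf, hb₁b₁, smul_zero]
    refine (hasTv_iff h0).2 ?_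
    obtain ⟨s, hs⟩ := exists_trace_eq hf (a := -1) (by rw [map_neg, map_one])
    have hσc : σ c = -c := by linear_combination hc
    have hσs : σ s = -1 - s := by linear_combination hs
    obtain ⟨κ, hκ⟩ : ∃ κ, κ = c * s := ⟨_, rfl⟩
    have hκc : σ κ - κ = c := by rw [hκ, map_mul, hσc, hσs]; ring
    obtain ⟨α, hαdef⟩ : ∃ α, α = (-κ / f α₀ a) • α₀ := ⟨_, rfl⟩
    have hα : α ∈ B := hαdef ▸ B.smul_mem _ hα₀
    have hκ' : f α a = -κ := by rw [hαdef, hf.smul_left, div_mul_cancel₀ _ hαa']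
    have hαb' : f α b = 0 := by
      rw [hαdef, hf.smul_left, ← hb, herm_add_right hf, hαb, P.isoB α₀ hα₀ b₂ hb₂, add_zero, mul_zero]
    have hb₁α : f b₁ α = 0 := by
      rw [hαdef, herm_smul_right hf, herm_eq_zero_comm hf hαb, mul_zero]
    have hrκb : f b₁ (κ • b) = 0 := by rw [herm_smul_right hf, hrb, mul_zero]
    have h1 : hEich hf b₁ (κ • b) 0 hb₁b₁ hrκb ∈ M := by
      have hUα := hM b₁ hb₁ α hα hb₁α
      have := mul_mem (inv_mem hUα) (mul_mem (mul_mem hS hUα) (inv_mem hS))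
      convert this using 1
      rw [eq_inv_mul_iff_mul_eq, hEich_conj hf (hEich_isometry hf _ _ _ haa hab
        (by rw [map_zero, add_zero, hbb, neg_zero]))]
      refine glExt_mulVec fun x => ?_
      rw [hEich_mul hf, hEich_mulVec hf]
      simp only [hEich_mulVec hf, hra, hrb, hαb', hκ', hf.smul_left, herm_eq_zero_comm hf hαb',
        zero_mul, mul_zero, add_zero, sub_zero, zero_smul, neg_zero, neg_neg]
    have h2 := hM b₁ hb₁ (κ • b₂) (B.smul_mem _ hb₂) (by rw [herm_smul_right hf, hrb₂, mul_zero])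
    convert mul_mem (inv_mem h2) h1 using 1
    rw [eq_inv_mul_iff_mul_eq]
    refine glExt_mulVec fun x => ?_
    rw [Units.val_mul, ← mulVec_mulVec, coe_tvGL, uTv_mulVec hf, hEich_mulVec hf, hEich_mulVec hf, ← hb,
      smul_add]
    simp only [herm_add_right hf, herm_smul_right hf, hf.add_left, hf.smul_left, hb₁b₁, hrb₂, mul_zero,
      add_zero, ← hκc]
    module
  -- the Eichler maps move `b₁` to every vector of `A`
  have move : ∀ y x, y ∈ A → x ∈ A → UFull σ f M y → y ∉ Submodule.span F {x - y} → UFull σ f M x := by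
    intro y x hy hx hY hne
    obtain ⟨α, hα, hαd, -, hαy⟩ := P.exists_sep hy (sub_mem hx hy) (sub_mem hx hy) (by simpa using hne)
    have hyα : f y α ≠ 0 := fun e => hαy (herm_eq_zero_comm hf e)
    obtain ⟨β, hβdef⟩ : ∃ β, β = σ ((f y α)⁻¹) • α := ⟨_, rfl⟩
    have hβy : f y β = 1 := by rw [hβdef, herm_smul_right hf, hf.involutive, inv_mul_cancel₀ hyα]
    have hβd : f (x - y) β = 0 := by rw [hβdef, herm_smul_right hf, herm_eq_zero_comm hf hαd, mul_zero]
    have hβB : β ∈ B := hβdef ▸ B.smul_mem _ hα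
    have hT := hM _ (sub_mem hx hy) β hβB hβd
    have := hY.conj hf hT (hEich_isometry hf _ _ _ (P.isoA _ (sub_mem hx hy) _ (sub_mem hx hy)) hβd
      (by rw [map_zero, add_zero, P.isoB β hβB β hβB, neg_zero]))
    simpa [hEich_mulVec hf, hβy, P.isoA y hy _ (sub_mem hx hy)] using this
  intro x hx
  rcases eq_or_ne x 0 with rfl | hx0
  · exact uFull_zero hf
  by_cases hxb : x ∈ Submodule.span F {b₁}
  · obtain ⟨r, rfl⟩ := Submodule.mem_span_singleton.1 hxb
    exact hfull.smul hf r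
  refine move b₁ x hb₁ hx hfull fun hm => ?_
  obtain ⟨r, hr⟩ := Submodule.mem_span_singleton.1 hm
  rcases eq_or_ne r 0 with rfl | hr0
  · exact hb10 (by rw [← hr, zero_smul])
  refine hxb (Submodule.mem_span_singleton.2 ⟨1 + r⁻¹, ?_⟩)
  rw [add_smul, one_smul, ← hr, inv_smul_smul₀ hr0, hr]
  abel

/-- A conjugate pair off both subspaces gives the transvections centred in `A`, also in dimension three. -/
theorem uFull_of_pair_three [Finite F] (h3 : 3 ≤ k)
    {a b a₁ a₂ b₁ b₂ : (Fin n → F)}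
    (ha₁ : a₁ ∈ A) (ha₂ : a₂ ∈ B) (ha : a₁ + a₂ = a) (hb₁ : b₁ ∈ A) (hb₂ : b₂ ∈ B)
    (hb : b₁ + b₂ = b) (haa : f a a = 0) (hbb : f b b = 0) (hab : f a b = 0)
    (hS : ∀ r : F, ∀ (h : f (r • a) (r • a) = 0) (h' : f (r • a) b = 0), hEich P.form (r • a) b 0 h h' ∈ M)
    (hb10 : b₁ ≠ 0) (hind : a₁ ∉ Submodule.span F {b₁}) : ∀ x ∈ A, UFull σ f M x := by
  have hf := P.form
  have hS1 : hEich hf a b 0 haa hab ∈ M := by
    simpa using hS 1 (by simpa using haa) (by simpa using hab)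
  have d1 := finrank_le_inf_ker A (hLin hf a)
  have d2 := finrank_le_inf_ker (A ⊓ LinearMap.ker (hLin hf a)) (hLin hf b)
  rw [P.dimA] at d1
  by_cases hout : ∃ u ∈ A ⊓ LinearMap.ker (hLin hf a) ⊓ LinearMap.ker (hLin hf b),
      u ∉ Submodule.span F {b₁, a₁}
  · obtain ⟨u, hu, hu'⟩ := hout
    exact uFull_of_pair_perp P hM h3 ha₁ ha₂ ha hb₁ hb₂ hb haa hbb hab hS1 hb10 hind hu.1.1 hu.1.2 hu.2 hu'
  push Not at hout
  obtain ⟨u, hu, hu0⟩ := (A ⊓ LinearMap.ker (hLin hf a) ⊓
    LinearMap.ker (hLin hf b)).exists_mem_ne_zero_of_ne_bot fun e => by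
      rw [e, finrank_bot] at d2
      omega
  have hua : f u a = 0 := hu.1.2
  have hub : f u b = 0 := hu.2
  obtain ⟨i, j, e⟩ := Submodule.mem_span_pair.1 (hout u hu)
  -- reversing a pair
  have hrev : ∀ a b (haa : f a a = 0) (hbb : f b b = 0) (hab : f a b = 0) (hba : f b a = 0),
      hEich hf a b 0 haa hab ∈ M → hEich hf b a 0 hbb hba ∈ M := by
    intro a b haa hbb hab hba h
    convert inv_mem h using 1
    rw [eq_comm]
    refine inv_eq_of_mul_eq_one_right (glExt_mulVec fun x => ?_)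
    rw [Units.val_mul, ← mulVec_mulVec, hEich_mulVec hf, hEich_mulVec hf, Units.val_one, one_mulVec]
    simp only [hf.add_left, hf.smul_left, haa, hbb, hab, hba]
    module
  rcases eq_or_ne j 0 with rfl | hj
  · rw [zero_smul, add_zero] at e
    have hi : i ≠ 0 := fun h => hu0 (by rw [← e, h, zero_smul])
    rw [← e, hf.smul_left] at hua hub
    exact uFull_of_pair_radical P hM ha₁ ha₂ ha hb₁ hb₂ hb haa hbb hab hS1 hb10 hind
      ((mul_eq_zero.1 hua).resolve_left hi) ((mul_eq_zero.1 hub).resolve_left hi)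
  obtain ⟨l, hl⟩ : ∃ l, l = i / j := ⟨_, rfl⟩
  have hc : j • (a₁ + l • b₁) = u := by
    rw [smul_add, smul_smul, hl, mul_div_cancel₀ _ hj, ← e, add_comm]
  rw [← hc, hf.smul_left] at hua hub
  have hca := (mul_eq_zero.1 hua).resolve_left hj
  have hcb := (mul_eq_zero.1 hub).resolve_left hj
  have hba : f b a = 0 := herm_eq_zero_comm hf hab
  rcases eq_or_ne l 0 with rfl | hl0
  · rw [zero_smul, add_zero] at hca hcb
    refine uFull_of_pair_radical P hM hb₁ hb₂ hb ha₁ ha₂ ha hbb haa hba (hrev a b haa hbb hab hba hS1)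
      (fun h => hind (h ▸ Submodule.zero_mem _)) (fun hm => ?_) hcb hca
    obtain ⟨r, hr⟩ := Submodule.mem_span_singleton.1 hm
    rcases eq_or_ne r 0 with rfl | hr0
    · exact hb10 (by rw [← hr, zero_smul])
    · exact hind (Submodule.mem_span_singleton.2 ⟨r⁻¹, by rw [← hr, inv_smul_smul₀ hr0]⟩)
  -- a member with orthogonal component
  obtain ⟨r, hr⟩ : ∃ r, r = l⁻¹ := ⟨_, rfl⟩
  have hr0 : r ≠ 0 := hr ▸ inv_ne_zero hl0
  have hrl : r * l = 1 := hr ▸ inv_mul_cancel₀ hl0
  have hc₁ : r • (a₁ + l • b₁) = r • a₁ + b₁ := by rw [smul_add, smul_smul, hrl, one_smul]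
  have hcc : f (r • a + b) (r • a + b) = 0 := by
    simp [hf.add_left, hf.smul_left, herm_add_right hf, herm_smul_right hf, haa, hbb, hab, hba]
  have hcb' : f (r • a + b) b = 0 := by simp [hf.add_left, hf.smul_left, hbb, hab]
  have hS' : hEich hf (r • a + b) b 0 hcc hcb' ∈ M := by
    convert hS r (by simp [hf.smul_left, herm_smul_right hf, haa]) (by simp [hf.smul_left, hab]) using 1
    refine glExt_mulVec fun x => ?_
    rw [hEich_mulVec hf, hEich_mulVec hf]
    simp only [herm_add_right hf]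
    module
  have hbc : f b (r • a + b) = 0 := herm_eq_zero_comm hf hcb'
  refine uFull_of_pair_radical P hM hb₁ hb₂ hb (add_mem (A.smul_mem r ha₁) hb₁)
    (add_mem (B.smul_mem r ha₂) hb₂) (by rw [← ha, ← hb]; module) hbb hcc hbc
    (hrev _ b hcc hbb hcb' hbc hS') (fun h => ?_) (fun hm => ?_) ?_ ?_
  · refine hind (Submodule.mem_span_singleton.2 ⟨-r⁻¹, smul_right_injective (Fin n → F) hr0 ?_⟩)
    simp only [smul_smul, mul_neg, mul_inv_cancel₀ hr0]
    linear_combination (norm := module) -h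
  · obtain ⟨s, hs⟩ := Submodule.mem_span_singleton.1 hm
    by_cases hs1 : s = 1
    · rw [hs1, one_smul, add_eq_right, smul_eq_zero] at hs
      exact hind ((hs.resolve_left hr0) ▸ Submodule.zero_mem _)
    rcases eq_or_ne s 0 with rfl | hs0
    · exact hb10 (by rw [← hs, zero_smul])
    refine hind (Submodule.mem_span_singleton.2 ⟨(s * r)⁻¹ * (1 - s),
      smul_right_injective (Fin n → F) (mul_ne_zero hs0 hr0) ?_⟩)
    simp only [smul_smul, ← mul_assoc, mul_inv_cancel₀ (mul_ne_zero hs0 hr0), one_mul]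
    linear_combination (norm := module) -hs
  · rw [← hc₁, hf.smul_left, hcb, mul_zero]
  · rw [← hc₁, hf.smul_left, herm_add_right hf, herm_smul_right hf, hca, hcb]
    ring

end HPolar

end CfsgLib.MaxSub
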