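import Cfsg.Prelude.Def_GeometricClasses
import Mathlib.LinearAlgebra.Dimension.Constructions
import Mathlib.LinearAlgebra.FiniteDimensional.Lemmas
import Mathlib.Tactic.Ring
import Mathlib.Tactic.LinearCombination
import Mathlib.Tactic.Module

/-!
Projective involutions permute some basis up to scalars; grouping that basis gives equidimensional decompositions
permuted by them.
-/

set_option autoImplicit false

namespace CfsgLib.MaxSub.InvolPairs

variable {F V : Type*} [Field F] [AddCommGroup V] [Module F V] [FiniteDimensional F V]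

/-- The pairs `v k, L (v k)`. -/
def pairFam (L : V →ₗ[F] V) {r : ℕ} (v : Fin r → V) : Fin r × Bool → V :=
  fun p => if p.2 then L (v p.1) else v p.1

theorem nonsquare_pairs (L : V →ₗ[F] V) {z : F} (hL : ∀ x, L (L x) = z • x) (hz : ∀ c : F, c * c ≠ z) :
    ∃ (r : ℕ) (B : Module.Basis (Fin r × Bool) F V), ∀ k, L (B (k, false)) = B (k, true) := by
  suffices h : ∃ (r : ℕ) (v : Fin r → V), LinearIndependent F (pairFam L v) ∧
      ⊤ ≤ Submodule.span F (Set.range (pairFam L v)) by
    obtain ⟨r, v, hi, hs⟩ := h
    exact ⟨r, Module.Basis.mk hi hs, fun k => by simp [pairFam]⟩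
  by_contra hno
  have key : ∀ r, ∃ v : Fin r → V, LinearIndependent F (pairFam L v) := by
    intro r
    induction r with
    | zero => exact ⟨Fin.elim0, linearIndependent_empty_type⟩
    | succ r ih =>
      obtain ⟨v, hi⟩ := ih
      obtain ⟨P, hP⟩ : ∃ P, P = Submodule.span F (Set.range (pairFam L v)) := ⟨_, rfl⟩
      have hLP : ∀ x ∈ P, L x ∈ P := by
        have : P.map L ≤ P := by
          rw [hP, Submodule.map_span_le]
          rintro _ ⟨⟨k, b⟩, rfl⟩
          cases b
          · exact Submodule.subset_span ⟨(k, true), rfl⟩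
          · simp only [pairFam, if_true, hL]
            exact Submodule.smul_mem _ _ (Submodule.subset_span ⟨(k, false), rfl⟩)
        exact fun x hx => this (Submodule.mem_map_of_mem hx)
      obtain ⟨w, hw⟩ : ∃ w, w ∉ P := by
        by_contra hall
        push Not at hall
        exact hno ⟨r, v, hi, fun x _ => hP ▸ hall x⟩
      have hdis : ∀ s t : F, s • w + t • L w ∈ P → s = 0 ∧ t = 0 := by
        intro s t h
        have h2 := hLP _ h
        rw [map_add, map_smul, map_smul, hL] at h2
        have h3 : (t * t * z - s * s) • w ∈ P := by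
          convert sub_mem (P.smul_mem t h2) (P.smul_mem s h) using 1
          module
        by_cases h0 : t * t * z - s * s = 0
        · by_cases ht : t = 0
          · subst ht
            simp only [mul_zero, zero_mul, zero_sub, neg_eq_zero, mul_self_eq_zero] at h0
            exact ⟨h0, rfl⟩
          · exact absurd (by field_simp; linear_combination -h0) (hz (s / t))
        · exact absurd ((P.smul_mem_iff h0).1 h3) hw
      refine ⟨Fin.snoc v w, ?_⟩
      let f : Fin (r + 1) × Bool → (Fin r × Bool) ⊕ Bool := fun p =>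
        if h : p.1.val < r then Sum.inl (⟨p.1.val, h⟩, p.2) else Sum.inr p.2
      have hf : Function.Injective f := by
        rintro ⟨i, b⟩ ⟨j, c⟩ h
        simp only [f] at h
        split_ifs at h with h1 h2 h3 <;>
          simp only [Sum.inl.injEq, Sum.inr.injEq, reduceCtorEq, Prod.mk.injEq, Fin.mk.injEq] at h
        · exact Prod.ext (Fin.ext h.1) h.2
        · exact Prod.ext (Fin.ext (by have := i.isLt; have := j.isLt; dsimp only at *; omega)) h
      have hw2 : LinearIndependent F (fun b : Bool => if b then L w else w) := by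
        rw [Fintype.linearIndependent_iff]
        intro g hg
        have h := hdis (g false) (g true) (by
          simp only [Fintype.sum_bool, if_true, Bool.false_eq_true, if_false] at hg
          rw [add_comm, hg]; exact zero_mem _)
        intro b; cases b
        exacts [h.1, h.2]
      have hd : Disjoint (Submodule.span F (Set.range (pairFam L v)))
          (Submodule.span F (Set.range (fun b : Bool => if b then L w else w))) := by
        rw [Submodule.disjoint_def]
        intro x hx hx'
        rw [Submodule.mem_span_range_iff_exists_fun] at hx'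
        obtain ⟨g, rfl⟩ := hx'
        have h := hdis (g false) (g true) (by
          simpa [Fintype.sum_bool, add_comm, hP] using hx)
        simp [Fintype.sum_bool, h.1, h.2]
      have e : pairFam L (Fin.snoc v w) = Sum.elim (pairFam L v) (fun b : Bool => if b then L w else w) ∘ f := by
        funext ⟨i, b⟩
        simp only [Function.comp, f]
        split_ifs with h
        · simp [pairFam, Fin.snoc, h]; rfl
        · simp [pairFam, Fin.snoc, h]
      rw [e]
      exact (hi.sum_type hw2 hd).comp f hf
  obtain ⟨v, hi⟩ := key (Module.finrank F V + 1)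
  have := hi.fintype_card_le_finrank
  simp at this
  omega

/-- a projective involution permutes the lines of some basis -/
theorem exists_basis (L : V →ₗ[F] V) {z : F} (hz : z ≠ 0) (hL : ∀ x, L (L x) = z • x) :
    ∃ (r s : ℕ) (B : Module.Basis ((Fin r × Bool) ⊕ Fin s) F V), 2 * r + s = Module.finrank F V ∧
      (∀ k, L (B (.inl (k, false))) = B (.inl (k, true))) ∧ ∀ l, ∃ c : F, L (B (.inr l)) = c • B (.inr l) := by
  have fin : ∀ {r s : ℕ} (B : Module.Basis ((Fin r × Bool) ⊕ Fin s) F V), 2 * r + s = Module.finrank F V :=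
    fun {r s} B => by rw [Module.finrank_eq_card_basis B]; simp; ring
  by_cases hsq : ∃ c : F, c * c = z
  swap
  · push Not at hsq
    obtain ⟨r, B, hB⟩ := nonsquare_pairs L hL hsq
    let B' : Module.Basis ((Fin r × Bool) ⊕ Fin 0) F V := B.reindex (Equiv.sumEmpty (Fin r × Bool) (Fin 0)).symm
    refine ⟨r, 0, B', fin B', fun k => ?_, fun l => l.elim0⟩
    simpa [B'] using hB k
  obtain ⟨c, rfl⟩ := hsq
  have hc : c ≠ 0 := fun h => hz (by rw [h, mul_zero])
  by_cases h2 : (2 : F) = 0
  swap
  · let S : Set V := {x | ∃ e : F, L x = e • x}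
    have hspan : Submodule.span F S = ⊤ := by
      rw [eq_top_iff]
      intro x _
      have hp : L x + c • x ∈ S := ⟨c, by rw [map_add, map_smul, hL]; module⟩
      have hm : L x - c • x ∈ S := ⟨-c, by rw [map_sub, map_smul, hL]; module⟩
      convert Submodule.smul_mem _ (2 * c)⁻¹ (sub_mem (Submodule.subset_span hp) (Submodule.subset_span hm)) using 1
      rw [show L x + c • x - (L x - c • x) = (2 * c) • x by module, inv_smul_smul₀ (mul_ne_zero h2 hc)]
    obtain ⟨b, hbS, hbspan, hbi⟩ := exists_linearIndependent F S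
    let B₀ : Module.Basis b F V := Module.Basis.mk hbi (by rw [Subtype.range_coe, hbspan, hspan])
    haveI : Fintype b := FiniteDimensional.fintypeBasisIndex B₀
    let B₁ := B₀.reindex (Fintype.equivFin b)
    let B' : Module.Basis ((Fin 0 × Bool) ⊕ Fin (Fintype.card b)) F V :=
      B₁.reindex (Equiv.emptySum (Fin 0 × Bool) _).symm
    refine ⟨0, Fintype.card b, B', fin B', fun k => k.elim0, fun l => ?_⟩
    obtain ⟨e, he⟩ := hbS ((Fintype.equivFin b).symm l).2
    exact ⟨e, by simpa [B', B₁, B₀] using he⟩
  obtain ⟨N, hN⟩ : ∃ N : V →ₗ[F] V, ∀ x, N x = L x - c • x := ⟨L - c • LinearMap.id, fun x => rfl⟩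
  have hNN : ∀ x, N (N x) = 0 := fun x => by
    have hm : (c * c + c * c) • x - (c + c) • L x = 0 := by
      rw [show c * c + c * c = 2 * (c * c) by ring, show c + c = 2 * c by ring, h2, zero_mul, zero_mul, zero_smul,
        zero_smul, sub_zero]
    rw [hN, hN, map_sub, map_smul, hL, ← hm]
    module
  obtain ⟨U, hU⟩ := Submodule.exists_isCompl (LinearMap.ker N)
  have hRK : LinearMap.range N ≤ LinearMap.ker N := by rintro _ ⟨x, rfl⟩; exact hNN x
  obtain ⟨C, hC⟩ := Submodule.exists_isCompl ((LinearMap.range N).comap (LinearMap.ker N).subtype)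
  let bU := Module.finBasis F U
  let bC := Module.finBasis F C
  let fam : (Fin (Module.finrank F U) × Bool) ⊕ Fin (Module.finrank F C) → V :=
    Sum.elim (pairFam L fun k => (bU k : V)) fun l => ((bC l : LinearMap.ker N) : V)
  let T := Submodule.span F (Set.range fam)
  have hUT : ∀ u ∈ U, u ∈ T ∧ L u ∈ T := by
    intro u hu
    have hx : ∑ k, bU.repr ⟨u, hu⟩ k • (bU k : V) = u := by
      have := congrArg U.subtype (bU.sum_repr ⟨u, hu⟩)
      rwa [map_sum] at this
    constructor
    · rw [← hx]; exact sum_mem fun k _ => T.smul_mem _ (Submodule.subset_span ⟨.inl (k, false), rfl⟩)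
    · rw [← hx, map_sum]
      exact sum_mem fun k _ => by
        rw [map_smul]; exact T.smul_mem _ (Submodule.subset_span ⟨.inl (k, true), rfl⟩)
  have hCT : ∀ y : LinearMap.ker N, y ∈ C → (y : V) ∈ T := by
    intro y hy
    have hx : ∑ l, bC.repr ⟨y, hy⟩ l • ((bC l : LinearMap.ker N) : V) = y := by
      have := congrArg ((LinearMap.ker N).subtype ∘ₗ C.subtype) (bC.sum_repr ⟨y, hy⟩)
      rwa [map_sum] at this
    rw [← hx]
    exact sum_mem fun l _ => T.smul_mem _ (Submodule.subset_span ⟨.inr l, rfl⟩)
  have hall : ⊤ ≤ T := by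
    intro x _
    obtain ⟨w, hw, u, hu, rfl⟩ := Submodule.mem_sup.1 (hU.sup_eq_top ▸ Submodule.mem_top : x ∈ LinearMap.ker N ⊔ U)
    obtain ⟨a, ha, e, he, hae⟩ := Submodule.mem_sup.1 (hC.sup_eq_top ▸ Submodule.mem_top :
      (⟨w, hw⟩ : LinearMap.ker N) ∈ _ ⊔ C)
    obtain ⟨y, hy⟩ := (Submodule.mem_comap.1 ha : (a : V) ∈ LinearMap.range N)
    obtain ⟨w', hw', u', hu', rfl⟩ := Submodule.mem_sup.1 (hU.sup_eq_top ▸ Submodule.mem_top : y ∈ LinearMap.ker N ⊔ U)
    refine add_mem ?_ (hUT u hu).1
    have hwe : w = N u' + (e : V) := by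
      rw [map_add, LinearMap.mem_ker.1 hw', zero_add, Submodule.subtype_apply] at hy
      rw [hy]; exact (congrArg Subtype.val hae).symm
    rw [hwe, hN]
    exact add_mem (sub_mem (hUT u' hu').2 (T.smul_mem c (hUT u' hu').1)) (hCT e he)
  have hcard : Fintype.card ((Fin (Module.finrank F U) × Bool) ⊕ Fin (Module.finrank F C)) = Module.finrank F V := by
    have h1 := Submodule.finrank_add_eq_of_isCompl hU
    have h2' := Submodule.finrank_add_eq_of_isCompl hC
    have h3 := LinearMap.finrank_range_add_finrank_ker N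
    have h4 : Module.finrank F ((LinearMap.range N).comap (LinearMap.ker N).subtype) =
        Module.finrank F (LinearMap.range N) := (Submodule.comapSubtypeEquivOfLe hRK).finrank_eq
    simp
    omega
  let B := basisOfTopLeSpanOfCardEqFinrank fam hall hcard
  refine ⟨_, _, B, fin B, fun k => ?_, fun l => ⟨c, ?_⟩⟩
  · simp [B, fam, pairFam]
  · have : N (B (.inr l)) = 0 := by simp [B, fam]
    rwa [hN, sub_eq_zero] at this

theorem exists_assign (a : ℕ) (ha : 0 < a) : ∀ t r s : ℕ, 2 * r + s = a * t →
    ∃ (f : (Fin r × Bool) ⊕ Fin s → Fin t) (σ : Equiv.Perm (Fin t)), (∀ i, Nat.card {p // f p = i} = a) ∧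
      (∀ k b, σ (f (.inl (k, b))) = f (.inl (k, !b))) ∧ ∀ l, σ (f (.inr l)) = f (.inr l) := by
  intro t
  induction t using Nat.strong_induction_on with
  | _ t ih =>
    intro r s h
    rcases Nat.eq_zero_or_pos t with rfl | ht
    · have : r = 0 ∧ s = 0 := by omega
      obtain ⟨rfl, rfl⟩ := this
      exact ⟨fun p => (p.elim (fun q => q.1.elim0) fun l => l.elim0), 1, fun i => i.elim0, fun k => k.elim0,
        fun l => l.elim0⟩
    -- split off `c` new blocks, using `r₁` pairs and `s₁` singles
    have glue : ∀ c t' r₁ r₂ s₁ s₂ : ℕ, c + t' = t → r₁ + r₂ = r → s₁ + s₂ = s →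
        (∃ (f : (Fin r₁ × Bool) ⊕ Fin s₁ → Fin c) (σ : Equiv.Perm (Fin c)), (∀ i, Nat.card {p // f p = i} = a) ∧
          (∀ k b, σ (f (.inl (k, b))) = f (.inl (k, !b))) ∧ ∀ l, σ (f (.inr l)) = f (.inr l)) →
        (∃ (f : (Fin r₂ × Bool) ⊕ Fin s₂ → Fin t') (σ : Equiv.Perm (Fin t')), (∀ i, Nat.card {p // f p = i} = a) ∧
          (∀ k b, σ (f (.inl (k, b))) = f (.inl (k, !b))) ∧ ∀ l, σ (f (.inr l)) = f (.inr l)) →
        ∃ (f : (Fin r × Bool) ⊕ Fin s → Fin t) (σ : Equiv.Perm (Fin t)), (∀ i, Nat.card {p // f p = i} = a) ∧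
          (∀ k b, σ (f (.inl (k, b))) = f (.inl (k, !b))) ∧ ∀ l, σ (f (.inr l)) = f (.inr l) := by
      rintro c t' r₁ r₂ s₁ s₂ rfl rfl rfl ⟨f, σ, h1, h2, h3⟩ ⟨g, τ, g1, g2, g3⟩
      let e : ((Fin (r₁ + r₂) × Bool) ⊕ Fin (s₁ + s₂)) ≃
          ((Fin r₁ × Bool) ⊕ Fin s₁) ⊕ ((Fin r₂ × Bool) ⊕ Fin s₂) :=
        (Equiv.sumCongr ((finSumFinEquiv.symm.prodCongr (Equiv.refl Bool)).trans (Equiv.sumProdDistrib _ _ _))
          finSumFinEquiv.symm).trans (Equiv.sumSumSumComm _ _ _ _)
      let E : Fin c ⊕ Fin t' ≃ Fin (c + t') := finSumFinEquiv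
      refine ⟨fun p => E (Sum.map f g (e p)), E.permCongr (Equiv.sumCongr σ τ), fun i => ?_, fun k b => ?_,
        fun l => ?_⟩
      · obtain ⟨j, rfl⟩ := E.surjective i
        rw [Nat.card_congr (e.subtypeEquiv (q := fun q => Sum.map f g q = j) fun p => E.injective.eq_iff)]
        rcases j with j | j
        · rw [← h1 j]
          exact (Nat.card_congr
            { toFun := fun p => ⟨.inl p.1, congrArg Sum.inl p.2⟩
              invFun := fun q => match q with
                | ⟨.inl p, hp⟩ => ⟨p, Sum.inl_injective hp⟩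
                | ⟨.inr p, hp⟩ => nomatch hp
              left_inv := fun p => rfl
              right_inv := fun q => match q with
                | ⟨.inl p, hp⟩ => rfl
                | ⟨.inr p, hp⟩ => nomatch hp }).symm
        · rw [← g1 j]
          exact (Nat.card_congr
            { toFun := fun p => ⟨.inr p.1, congrArg Sum.inr p.2⟩
              invFun := fun q => match q with
                | ⟨.inr p, hp⟩ => ⟨p, Sum.inr_injective hp⟩
                | ⟨.inl p, hp⟩ => nomatch hp
              left_inv := fun p => rfl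
              right_inv := fun q => match q with
                | ⟨.inr p, hp⟩ => rfl
                | ⟨.inl p, hp⟩ => nomatch hp }).symm
      · obtain ⟨k', rfl⟩ := finSumFinEquiv.surjective k
        rcases k' with k' | k' <;> simp [e, E, Equiv.permCongr_apply, h2, g2]
      · obtain ⟨l', rfl⟩ := finSumFinEquiv.surjective l
        rcases l' with l' | l' <;> simp [e, E, Equiv.permCongr_apply, h3, g3]
    by_cases hodd : s = 0 ∧ Odd a
    · obtain ⟨rfl, hao⟩ := hodd
      have ht2 : 2 ≤ t := by
        by_contra hc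
        obtain rfl : t = 1 := by omega
        obtain ⟨m, hm⟩ := hao
        omega
      have hra : a ≤ r := by have := Nat.mul_le_mul_left a ht2; omega
      refine glue 2 (t - 2) a (r - a) 0 0 (by omega) (by omega) rfl ?_ (ih _ (by omega) _ _ ?_)
      · refine ⟨Sum.elim (fun p => if p.2 then 1 else 0) fun l => l.elim0, Equiv.swap 0 1, fun i => ?_,
          fun k b => ?_, fun l => l.elim0⟩
        · have he : a = Nat.card (Fin a) := by simp
          refine (Nat.card_congr ⟨fun p => match p with
              | ⟨.inl q, _⟩ => q.1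
              | ⟨.inr l, _⟩ => l.elim0,
            fun k => ⟨.inl (k, decide (i = 1)), by fin_cases i <;> simp⟩, ?_, fun k => rfl⟩).trans he.symm
          rintro ⟨⟨k, b⟩ | l, hp⟩
          · cases b <;> simp at hp <;> subst hp <;> simp
          · exact l.elim0
        · cases b <;> simp
      · have hsub : a * (t - 2) = a * t - a * 2 := Nat.mul_sub a t 2
        omega
    · have hat : a ≤ a * t := Nat.le_mul_of_pos_right a ht
      refine glue 1 (t - 1) (min r (a / 2)) (r - min r (a / 2)) (a - 2 * min r (a / 2))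
        (s - (a - 2 * min r (a / 2))) (by omega) (by omega) ?_ ?_ (ih _ (by omega) _ _ ?_)
      rotate_left
      · refine ⟨fun _ => 0, 1, fun i => ?_, fun k b => rfl, fun l => rfl⟩
        have hi : i = 0 := Subsingleton.elim _ _
        subst hi
        rw [Nat.card_congr (Equiv.subtypeUnivEquiv fun _ => rfl)]
        simp
        omega
      · have hsub : a * (t - 1) = a * t - a * 1 := Nat.mul_sub a t 1
        rw [not_and_or, Nat.not_odd_iff_even, even_iff_two_dvd] at hodd
        omega
      · rw [not_and_or, Nat.not_odd_iff_even, even_iff_two_dvd] at hodd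
        omega

variable {ι : Type} [Fintype ι] [DecidableEq ι] {K : Type*} [Field K]

/-- equidimensional decompositions permuted by a projective involution -/
theorem exists_decomposition (L : (ι → K) →ₗ[K] (ι → K)) {z : K} (hz : z ≠ 0) (hL : ∀ x, L (L x) = z • x)
    {a t : ℕ} (ha : 0 < a) (ht : 2 ≤ t) (hdim : Fintype.card ι = a * t) :
    ∃ D : Fin t → Submodule K (ι → K), Cfsg.Geo.IsMDecomposition a D ∧
      ∃ σ : Equiv.Perm (Fin t), ∀ j, (D j).map L = D (σ j) := by
  classical
  obtain ⟨r, s, B, hrs, hB1, hB2⟩ := exists_basis L hz hL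
  rw [Module.finrank_fintype_fun_eq_card, hdim] at hrs
  obtain ⟨f, σ, hf, hσ1, hσ2⟩ := exists_assign a ha t r s hrs
  let D : Fin t → Submodule K (ι → K) := fun i => Submodule.span K (B '' {p | f p = i})
  have hfin : ∀ i, Module.finrank K (D i) = a := fun i => by
    have h := finrank_span_eq_card (B.linearIndependent.comp (fun p : {p // f p = i} => p.1) Subtype.val_injective)
    rw [← hf i, Nat.card_eq_fintype_card, ← h, Set.range_comp, Subtype.range_coe_subtype]
  have hindep : iSupIndep D := by
    intro i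
    have hle : (⨆ (j : Fin t) (_ : j ≠ i), D j) ≤ Submodule.span K (B '' {p | f p ≠ i}) :=
      iSup₂_le fun j hj => Submodule.span_mono (Set.image_mono fun p hp h => hj (hp.symm.trans h))
    exact (B.linearIndependent.disjoint_span_image (show Disjoint {p | f p = i} {p | f p ≠ i} from Set.disjoint_left.2 fun p h1 h2 => h2 h1)).mono_right hle
  have htop : iSup D = ⊤ := by
    rw [eq_top_iff, ← B.span_eq, Submodule.span_le]
    rintro _ ⟨p, rfl⟩
    exact Submodule.mem_iSup_of_mem (f p) (Submodule.subset_span ⟨p, rfl, rfl⟩)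
  refine ⟨D, ⟨ht, ha, hfin, hindep, htop⟩, σ, fun j => ?_⟩
  have hinj : Function.Injective L := fun x y h => by
    have := congrArg L h
    rw [hL, hL] at this
    exact smul_right_injective _ hz this
  refine Submodule.eq_of_le_of_finrank_eq ?_
    ((Submodule.equivMapOfInjective L hinj (D j)).finrank_eq.symm.trans ((hfin j).trans (hfin _).symm))
  rw [Submodule.map_span_le]
  rintro _ ⟨⟨k, b⟩ | l, hp, rfl⟩
  · have hb : f (.inl (k, !b)) = σ j := by rw [← hσ1, show f (.inl (k, b)) = j from hp]
    cases b
    · rw [hB1]; exact Submodule.subset_span ⟨_, hb, rfl⟩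
    · rw [← hB1, hL]; exact Submodule.smul_mem _ _ (Submodule.subset_span ⟨_, hb, rfl⟩)
  · obtain ⟨c, hc⟩ := hB2 l
    have hl : f (.inr l) = σ j := by rw [← hσ2, show f (.inr l) = j from hp]
    rw [hc]; exact Submodule.smul_mem _ _ (Submodule.subset_span ⟨_, hl, rfl⟩)

end CfsgLib.MaxSub.InvolPairs
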