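import Cfsg.Prelude.Def_GeometricClasses
import Cfsg.Agent.Lib.MaxSub.InvolPairs
import Cfsg.Agent.Lib.Geom.SympSpace
import Mathlib.FieldTheory.Finite.Basic
import Mathlib.Tactic

/-!
Projective involutions of determinant one and symplectic similitudes.
-/

set_option autoImplicit false

namespace CfsgLib.MaxSub.InvolAlt

open Matrix

variable {F : Type*} [Field F] {n : ℕ}

/-- `L` is conjugate by a map of determinant one to a similitude of `f`. -/
def SimConj (f : (Fin n → F) → (Fin n → F) → F) (L : (Fin n → F) →ₗ[F] (Fin n → F)) : Prop :=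
  ∃ (E : (Fin n → F) ≃ₗ[F] (Fin n → F)) (μ : F), LinearMap.det (E : (Fin n → F) →ₗ[F] (Fin n → F)) = 1 ∧
    ∀ u v, f (E (L (E.symm u))) (E (L (E.symm v))) = μ * f u v

theorem simConj_of_blocks {f : (Fin n → F) → (Fin n → F) → F} (hf : Cfsg.Geo.IsSymplecticForm f)
    (L : (Fin n → F) →ₗ[F] (Fin n → F)) {m : ℕ} (β : Module.Basis (Fin 2 × Fin m) F (Fin n → F))
    (M : Fin m → Matrix (Fin 2) (Fin 2) F) (hM : ∀ k b, L (β (b, k)) = ∑ b', M k b' b • β (b', k))
    {μ : F} (hμ : ∀ k, (M k).det = μ) (k₀ : Fin m)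
    (hN : ∀ δ : F, δ ≠ 0 → ∃ N : Matrix (Fin 2) (Fin 2) F, N * M k₀ = M k₀ * N ∧ N.det = δ) :
    SimConj f L := by
  classical
  let X : Matrix (Fin 2 × Fin m) (Fin 2 × Fin m) F := blockDiagonal M
  have hX : LinearMap.toMatrix β β L = X := by
    ext ⟨b', k'⟩ ⟨b, k⟩
    rw [LinearMap.toMatrix_apply, hM, map_sum, Finsupp.finsetSum_apply]
    simp only [X, Matrix.blockDiagonal_apply, map_smul, Module.Basis.repr_self, Finsupp.smul_apply, smul_eq_mul, Finsupp.single_apply,
      Prod.mk.injEq]
    by_cases hk : k' = k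
    · subst hk; simp
    · simp [hk, Ne.symm hk]
  let J2 : Matrix (Fin 2) (Fin 2) F := !![0, 1; -1, 0]
  let J : Matrix (Fin 2 × Fin m) (Fin 2 × Fin m) F := blockDiagonal fun _ => J2
  let B : (Fin n → F) →ₗ[F] (Fin n → F) →ₗ[F] F := Matrix.toLinearMap₂ β β J
  have hJv : ∀ u v, B u v = ∑ k, (β.repr u (0, k) * β.repr v (1, k) - β.repr u (1, k) * β.repr v (0, k)) := by
    intro u v
    simp only [B, Matrix.toLinearMap₂_apply, smul_eq_mul, J, Matrix.blockDiagonal_apply, Fintype.sum_prod_type,
      ite_mul, mul_ite, zero_mul, mul_zero, Finset.sum_ite_eq, Finset.mem_univ, if_true, Fin.sum_univ_two,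
      RingHom.id_apply]
    simp [J2, sub_eq_add_neg, Finset.sum_add_distrib, Finset.sum_neg_distrib]
  have hA : ∀ v, B v v = 0 := fun v => by rw [hJv]; exact Finset.sum_eq_zero fun k _ => by ring
  have hB : ∀ x, (∀ y, B x y = 0) → x = 0 := by
    intro x hx
    apply β.repr.injective
    rw [map_zero]
    refine Finsupp.ext fun p => ?_
    obtain ⟨b, k⟩ := p
    fin_cases b
    · have := hx (β (1, k))
      simpa [hJv, Finsupp.single_apply] using this
    · have := hx (β (0, k))
      simpa [hJv, Finsupp.single_apply] using this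
  let B' : (Fin n → F) →ₗ[F] (Fin n → F) →ₗ[F] F := LinearMap.mk₂ F f hf.bilinear.add_left hf.bilinear.smul_left
    (fun v x y => hf.bilinear.add_right v x y) (fun c v x => hf.bilinear.smul_right c v x)
  obtain ⟨e, he⟩ := CfsgLib.Geom.exists_symp_isometry n B B' hA hB hf.alternating
    (fun x hx => by
      by_contra h
      obtain ⟨w, hw⟩ := (hf.nondegenerate x h).2
      exact hw (hx w)) (Module.finrank_fin_fun F) (Module.finrank_fin_fun F)
  have hrep : ∀ u, ∀ b k, β.repr (L u) (b, k) = ∑ b', M k b b' * β.repr u (b', k) := fun u b k => by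
    have := congrFun (LinearMap.toMatrix_mulVec_repr β β L u) (b, k)
    rw [hX] at this
    rw [← this]
    simp [Matrix.mulVec, dotProduct, X, Matrix.blockDiagonal_apply, Fintype.sum_prod_type, ite_mul]
  have hLB : ∀ u v, B (L u) (L v) = μ * B u v := fun u v => by
    rw [hJv, hJv, Finset.mul_sum]
    refine Finset.sum_congr rfl fun k _ => ?_
    rw [hrep, hrep, hrep, hrep, ← hμ k, Matrix.det_fin_two, Fin.sum_univ_two, Fin.sum_univ_two, Fin.sum_univ_two,
      Fin.sum_univ_two]
    ring
  have he0 : LinearMap.det (e : (Fin n → F) →ₗ[F] (Fin n → F)) ≠ 0 := (LinearEquiv.isUnit_det' e).ne_zero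
  obtain ⟨N, hNc, hNd⟩ := hN _ (inv_ne_zero he0)
  let Y : Matrix (Fin 2 × Fin m) (Fin 2 × Fin m) F := blockDiagonal (Function.update (fun _ => 1) k₀ N)
  let C : (Fin n → F) →ₗ[F] (Fin n → F) := Matrix.toLin β β Y
  have hCd : LinearMap.det C = (LinearMap.det (e : (Fin n → F) →ₗ[F] (Fin n → F)))⁻¹ := by
    rw [← hNd, LinearMap.det_toLin, Matrix.det_blockDiagonal, Finset.prod_eq_single k₀]
    · rw [Function.update_self]
    · intro k _ hk; rw [Function.update_of_ne hk, Matrix.det_one]
    · intro h; exact absurd (Finset.mem_univ k₀) h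
  have hCL : C ∘ₗ L = L ∘ₗ C := by
    apply (LinearMap.toMatrix β β).injective
    rw [LinearMap.toMatrix_comp β β β, LinearMap.toMatrix_comp β β β, hX, LinearMap.toMatrix_toLin,
      ← Matrix.blockDiagonal_mul, ← Matrix.blockDiagonal_mul]
    congr 1
    funext k
    rcases eq_or_ne k k₀ with rfl | hk
    · rw [Function.update_self]; exact hNc
    · rw [Function.update_of_ne hk, one_mul, mul_one]
  let C' : (Fin n → F) ≃ₗ[F] (Fin n → F) :=
    LinearMap.equivOfDetNeZero C (by rw [hCd]; exact inv_ne_zero he0)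
  refine ⟨C'.trans e, μ, ?_, fun u v => ?_⟩
  · show LinearMap.det ((e : (Fin n → F) →ₗ[F] (Fin n → F)) ∘ₗ C) = 1
    rw [LinearMap.det_comp, hCd, mul_inv_cancel₀ he0]
  · have key : ∀ u, (C'.trans e) (L ((C'.trans e).symm u)) = e (L (e.symm u)) := fun u => by
      show e (C (L (C'.symm (e.symm u)))) = _
      have := LinearMap.congr_fun hCL (C'.symm (e.symm u))
      simp only [LinearMap.comp_apply] at this
      rw [this]
      congr 2
      exact C'.apply_symm_apply _
    rw [key, key]
    have h1 := he (L (e.symm u)) (L (e.symm v))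
    have h2 := he (e.symm u) (e.symm v)
    simp only [B', LinearMap.mk₂_apply, LinearEquiv.apply_symm_apply] at h1 h2
    rw [h1, hLB, h2]

theorem eigen_basis {V : Type*} [AddCommGroup V] [Module F V] [FiniteDimensional F V] (h2 : (2 : F) ≠ 0)
    (L : V →ₗ[F] V) {c : F} (hc : c ≠ 0) (hL : ∀ x, L (L x) = (c * c) • x) :
    ∃ (s : ℕ) (B : Module.Basis (Fin s) F V), ∀ l, L (B l) = c • B l ∨ L (B l) = (-c) • B l := by
  let S : Set V := {x | L x = c • x ∨ L x = (-c) • x}
  have hspan : Submodule.span F S = ⊤ := by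
    rw [eq_top_iff]
    intro x _
    have hp : L x + c • x ∈ S := .inl (by rw [map_add, map_smul, hL]; module)
    have hm : L x - c • x ∈ S := .inr (by rw [map_sub, map_smul, hL]; module)
    convert Submodule.smul_mem _ (2 * c)⁻¹ (sub_mem (Submodule.subset_span hp) (Submodule.subset_span hm)) using 1
    rw [show L x + c • x - (L x - c • x) = (2 * c) • x by module, inv_smul_smul₀ (mul_ne_zero h2 hc)]
  obtain ⟨b, hbS, hbspan, hbi⟩ := exists_linearIndependent F S
  let B₀ : Module.Basis b F V := Module.Basis.mk hbi (by rw [Subtype.range_coe, hbspan, hspan])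
  haveI : Fintype b := FiniteDimensional.fintypeBasisIndex B₀
  exact ⟨_, B₀.reindex (Fintype.equivFin b), fun l => by simpa [B₀, S] using hbS ((Fintype.equivFin b).symm l).2⟩

/-- the criterion's condition makes `c ^ n ≠ -1` -/
theorem pow_ne_neg_one [Fintype F] (h2 : (2 : F) ≠ 0) {n : ℕ}
    (hv : padicValNat 2 (Fintype.card F - 1) ≤ padicValNat 2 n) {c : F} (hc : c ≠ 0) :
    c ^ n ≠ -1 := by
  intro h
  obtain ⟨N, hN⟩ : ∃ N, Fintype.card F - 1 = N := ⟨_, rfl⟩
  have hN0 : N ≠ 0 := by have := Fintype.one_lt_card (α := F); omega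
  rw [hN] at hv
  obtain ⟨l, hl⟩ : 2 ^ padicValNat 2 N ∣ N := pow_padicValNat_dvd
  have hlodd : Odd l := by
    by_contra he
    obtain ⟨l', rfl⟩ := even_iff_two_dvd.1 (Nat.not_odd_iff_even.1 he)
    exact pow_succ_padicValNat_not_dvd (p := 2) hN0 ⟨l', by rw [pow_succ, mul_assoc, ← hl]⟩
  obtain ⟨n', hn'⟩ : 2 ^ padicValNat 2 N ∣ n := (pow_dvd_pow 2 hv).trans pow_padicValNat_dvd
  have h1 : c ^ (n * l) = 1 := by
    have hnl : n * l = N * n' :=
      calc n * l = 2 ^ padicValNat 2 N * n' * l := by rw [← hn']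
        _ = 2 ^ padicValNat 2 N * l * n' := by ring
        _ = N * n' := by rw [← hl]
    rw [hnl, pow_mul, ← hN,
      FiniteField.pow_card_sub_one_eq_one c hc, one_pow]
  rw [pow_mul, h, hlodd.neg_one_pow] at h1
  exact h2 (by linear_combination -h1)

theorem simConj [Fintype F] {f : (Fin n → F) → (Fin n → F) → F} (hf : Cfsg.Geo.IsSymplecticForm f)
    (hn : 2 ≤ n) (he : Even n) (L : (Fin n → F) →ₗ[F] (Fin n → F)) {z : F} (hz : z ≠ 0)
    (hL : ∀ x, L (L x) = z • x) (hdet : LinearMap.det L = 1)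
    (hv : padicValNat 2 (Fintype.card F - 1) ≤ padicValNat 2 n) : SimConj f L := by
  classical
  obtain ⟨m, hm⟩ := he
  by_cases hsq : ∃ c : F, c * c = z
  swap
  · push Not at hsq
    obtain ⟨r, B, hB⟩ := InvolPairs.nonsquare_pairs L hL hsq
    have hr : 2 * r = n := by
      have := Module.finrank_eq_card_basis B
      rw [Module.finrank_fin_fun] at this
      simp at this; omega
    have h2 : ringChar F ≠ 2 := fun h => by
      obtain ⟨c, hc⟩ := FiniteField.isSquare_of_char_two h z
      exact hsq c hc.symm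
    let e : Fin r × Bool ≃ Fin 2 × Fin r := (Equiv.prodComm _ _).trans (finTwoEquiv.symm.prodCongr (Equiv.refl _))
    refine simConj_of_blocks hf L (B.reindex e) (fun _ => !![0, z; 1, 0]) (fun k b => ?_) (μ := -z)
      (fun k => by simp [Matrix.det_fin_two]) ⟨0, by omega⟩ fun δ _ => ?_
    · fin_cases b <;> simp [Fin.sum_univ_two, e, finTwoEquiv, hB]
      rw [← hB, hL]
    · obtain ⟨a, b, hab⟩ := FiniteField.exists_root_sum_quadratic (f := Polynomial.X ^ 2 - Polynomial.C δ)
        (g := Polynomial.C (-z) * Polynomial.X ^ 2) (Polynomial.degree_X_pow_sub_C (by norm_num) δ)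
        (by rw [Polynomial.degree_C_mul_X_pow 2 (neg_ne_zero.2 hz)]; rfl)
        (Nat.mod_two_ne_zero.1 fun h => h2 (FiniteField.even_card_iff_char_two.2 h))
      refine ⟨!![a, z * b; b, a], ?_, ?_⟩
      · ext i j; fin_cases i <;> fin_cases j <;> simp [Matrix.mul_apply, Fin.sum_univ_two] <;> ring
      · simp at hab
        rw [Matrix.det_fin_two]; simp
        linear_combination hab
  obtain ⟨c, rfl⟩ := hsq
  have hc : c ≠ 0 := fun h => hz (by rw [h, mul_zero])
  by_cases h2 : (2 : F) = 0
  · obtain ⟨r, s, B, hrs, hB1, hB2⟩ := InvolPairs.exists_basis L hz hL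
    rw [Module.finrank_fin_fun] at hrs
    have hsing : ∀ l, L (B (.inr l)) = c • B (.inr l) := fun l => by
      obtain ⟨d, hd⟩ := hB2 l
      have h := hL (B (.inr l))
      rw [hd, map_smul, hd, smul_smul] at h
      have hdc : d * d = c * c := smul_left_injective F (B.ne_zero _) h
      have : (d - c) * (d - c) = 0 := by linear_combination hdc + (c * c - d * c) * h2
      rw [hd, sub_eq_zero.1 (mul_self_eq_zero.1 this)]
    obtain ⟨s', rfl⟩ : ∃ s', s = 2 * s' := ⟨s / 2, by omega⟩
    let e : (Fin r × Bool) ⊕ Fin (2 * s') ≃ Fin 2 × Fin (r + s') :=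
      ((Equiv.sumCongr ((Equiv.prodComm _ _).trans (finTwoEquiv.symm.prodCongr (Equiv.refl _))) finProdFinEquiv.symm).trans
        (Equiv.prodSumDistrib _ _ _).symm).trans ((Equiv.refl _).prodCongr finSumFinEquiv)
    refine simConj_of_blocks hf L (B.reindex e) (fun k => Sum.elim (fun _ => !![0, c * c; 1, 0])
      (fun _ => !![c, 0; 0, c]) (finSumFinEquiv.symm k)) (fun k b => ?_) (μ := c * c) (fun k => ?_) ⟨0, by omega⟩
      fun δ _ => ?_
    · obtain ⟨k', rfl⟩ := finSumFinEquiv.surjective k
      rcases k' with k' | k' <;> fin_cases b <;> simp [e, finTwoEquiv, Fin.sum_univ_two, hB1, hsing]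
      rw [← hB1, hL]
    · rcases finSumFinEquiv.symm k with k' | k' <;> simp [Matrix.det_fin_two]
      linear_combination (-(c * c)) * h2
    · obtain ⟨a, ha⟩ := FiniteField.isSquare_of_char_two (F := F) (by
        refine CharP.ringChar_of_prime_eq_zero Nat.prime_two ?_
        exact_mod_cast h2) δ
      exact ⟨a • 1, by simp, by rw [Matrix.det_smul, Matrix.det_one, Fintype.card_fin, ha]; ring⟩
  obtain ⟨s, B, hB⟩ := eigen_basis h2 L hc hL
  have hs : s = n := by
    have := Module.finrank_eq_card_basis B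
    rw [Module.finrank_fin_fun, Fintype.card_fin] at this
    exact this.symm
  let p : Fin s → Prop := fun l => L (B l) = c • B l
  have hneg : ∀ l, ¬ p l → L (B l) = (-c) • B l := fun l h => (hB l).resolve_left h
  have hd : LinearMap.det L = ∏ l, if p l then c else -c := by
    rw [← LinearMap.det_toMatrix B, show LinearMap.toMatrix B B L = Matrix.diagonal (fun l => if p l then c else -c) from ?_,
      Matrix.det_diagonal]
    ext i j
    rw [LinearMap.toMatrix_apply, Matrix.diagonal_apply]
    by_cases hp : p j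
    · rw [show L (B j) = c • B j from hp]
      by_cases hij : i = j <;> simp [Finsupp.single_apply, hij, Ne.symm, hp]
    · rw [hneg j hp]
      by_cases hij : i = j <;> simp [Finsupp.single_apply, hij, Ne.symm, hp]
  have hbeven : Even (Fintype.card {l // ¬ p l}) := by
    by_contra hodd
    rw [hdet, Finset.prod_ite, Finset.prod_const, Finset.prod_const, neg_pow, ← Fintype.card_subtype,
      ← Fintype.card_subtype, (Nat.not_even_iff_odd.1 hodd).neg_one_pow] at hd
    refine pow_ne_neg_one h2 hv hc ?_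
    have hsum : Fintype.card {l // p l} + Fintype.card {l // ¬ p l} = n := by
      rw [← Fintype.card_sum, Fintype.card_congr (Equiv.sumCompl p), Fintype.card_fin, hs]
    rw [← hsum, pow_add]
    linear_combination hd
  obtain ⟨b', hb'⟩ := hbeven
  obtain ⟨a', ha'⟩ : ∃ a', Fintype.card {l // p l} = 2 * a' := by
    refine ⟨m - b', ?_⟩
    have hsum : Fintype.card {l // p l} + Fintype.card {l // ¬ p l} = n := by
      rw [← Fintype.card_sum, Fintype.card_congr (Equiv.sumCompl p), Fintype.card_fin, hs]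
    omega
  let ep : {l // p l} ≃ Fin 2 × Fin a' := (Fintype.equivFinOfCardEq ha').trans finProdFinEquiv.symm
  let en : {l // ¬ p l} ≃ Fin 2 × Fin b' := (Fintype.equivFinOfCardEq (show _ = 2 * b' by omega)).trans finProdFinEquiv.symm
  let e : Fin s ≃ Fin 2 × Fin (a' + b') :=
    (((Equiv.sumCompl p).symm.trans (Equiv.sumCongr ep en)).trans
      (Equiv.prodSumDistrib _ _ _).symm).trans ((Equiv.refl _).prodCongr finSumFinEquiv)
  refine simConj_of_blocks hf L (B.reindex e) (fun k => Sum.elim (fun _ => !![c, 0; 0, c])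
    (fun _ => !![-c, 0; 0, -c]) (finSumFinEquiv.symm k)) (fun k b => ?_) (μ := c * c) (fun k => ?_) ⟨0, ?_⟩
    fun δ _ => ⟨!![δ, 0; 0, 1], ?_, by simp [Matrix.det_fin_two]⟩
  · obtain ⟨k', rfl⟩ := finSumFinEquiv.surjective k
    rcases k' with k' | k'
    · have h := (ep.symm (b, k')).2
      fin_cases b <;> simp [e, Fin.sum_univ_two] <;> exact h
    · have h := hneg _ (en.symm (b, k')).2
      rw [neg_smul] at h
      fin_cases b <;> simp [e, Fin.sum_univ_two] <;> exact h
  · rcases finSumFinEquiv.symm k with k' | k' <;> simp [Matrix.det_fin_two]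
  · have := Fintype.card_congr e
    simp at this; omega
  · rcases finSumFinEquiv.symm (⟨0, _⟩ : Fin (a' + b')) with k' | k' <;>
      · ext i j; fin_cases i <;> fin_cases j <;> simp [Matrix.mul_apply, Fin.sum_univ_two, mul_comm]

end CfsgLib.MaxSub.InvolAlt
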