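import Cfsg.Prelude.Def_GeometricClasses
import Cfsg.Agent.Lib.MaxSub.InvolAlt
import Mathlib.LinearAlgebra.Matrix.GeneralLinearGroup.Defs
import Mathlib.Tactic

/-!
Projective involutions of determinant one inside normalisers of quadratic fields of matrices.
-/

set_option autoImplicit false

namespace CfsgLib.MaxSub.InvolField

open Matrix

variable {F : Type*} [Field F] {n : ℕ}

/-- conjugation with determinant one between maps with equal block matrices -/
theorem conj_of_blocks (L T : (Fin n → F) →ₗ[F] (Fin n → F)) {m : ℕ}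
    (β β' : Module.Basis (Fin 2 × Fin m) F (Fin n → F))
    (M : Fin m → Matrix (Fin 2) (Fin 2) F) (hM : ∀ k b, L (β (b, k)) = ∑ b', M k b' b • β (b', k))
    (hM' : ∀ k b, T (β' (b, k)) = ∑ b', M k b' b • β' (b', k)) (k₀ : Fin m)
    (hN : ∀ δ : F, δ ≠ 0 → ∃ N : Matrix (Fin 2) (Fin 2) F, N * M k₀ = M k₀ * N ∧ N.det = δ) :
    ∃ E : (Fin n → F) ≃ₗ[F] (Fin n → F), LinearMap.det (E : (Fin n → F) →ₗ[F] (Fin n → F)) = 1 ∧
      ∀ v, E (L v) = T (E v) := by
  classical
  let e := β.equiv β' (Equiv.refl _)
  have he : ∀ p, e (β p) = β' p := fun p => by simp [e]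
  have heL : ∀ v, e (L v) = T (e v) := by
    have : (e : (Fin n → F) →ₗ[F] (Fin n → F)) ∘ₗ L = T ∘ₗ (e : (Fin n → F) →ₗ[F] (Fin n → F)) := by
      apply β.ext
      rintro ⟨b, k⟩
      simp only [LinearMap.comp_apply, LinearEquiv.coe_coe, hM, map_sum, map_smul, he, hM']
    exact fun v => LinearMap.congr_fun this v
  have he0 : LinearMap.det (e : (Fin n → F) →ₗ[F] (Fin n → F)) ≠ 0 := (LinearEquiv.isUnit_det' e).ne_zero
  obtain ⟨N, hNc, hNd⟩ := hN _ (inv_ne_zero he0)
  have hX : LinearMap.toMatrix β β L = blockDiagonal M := by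
    ext ⟨b', k'⟩ ⟨b, k⟩
    rw [LinearMap.toMatrix_apply, hM, map_sum, Finsupp.finsetSum_apply]
    simp only [Matrix.blockDiagonal_apply, map_smul, Module.Basis.repr_self, Finsupp.smul_apply, smul_eq_mul,
      Finsupp.single_apply, Prod.mk.injEq]
    by_cases hk : k' = k
    · subst hk; simp
    · simp [hk, Ne.symm hk]
  let C : (Fin n → F) →ₗ[F] (Fin n → F) := Matrix.toLin β β (blockDiagonal (Function.update (fun _ => 1) k₀ N))
  have hCd : LinearMap.det C = (LinearMap.det (e : (Fin n → F) →ₗ[F] (Fin n → F)))⁻¹ := by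
    rw [← hNd, LinearMap.det_toLin, Matrix.det_blockDiagonal, Finset.prod_eq_single k₀]
    · rw [Function.update_self]
    · intro k _ hk; rw [Function.update_of_ne hk, Matrix.det_one]
    · intro h; exact absurd (Finset.mem_univ k₀) h
  have hCL : C ∘ₗ L = L ∘ₗ C := by
    apply (LinearMap.toMatrix β β).injective
    rw [LinearMap.toMatrix_comp β β β, LinearMap.toMatrix_comp β β β, hX, LinearMap.toMatrix_toLin,
      ← Matrix.blockDiagonal_mul, ← Matrix.blockDiagonal_mul]
    congr 1
    funext k
    rcases eq_or_ne k k₀ with rfl | hk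
    · rw [Function.update_self]; exact hNc
    · rw [Function.update_of_ne hk, one_mul, mul_one]
  refine ⟨(LinearMap.equivOfDetNeZero C (by rw [hCd]; exact inv_ne_zero he0)).trans e, ?_, fun v => ?_⟩
  · show LinearMap.det ((e : (Fin n → F) →ₗ[F] (Fin n → F)) ∘ₗ C) = 1
    rw [LinearMap.det_comp, hCd, mul_inv_cancel₀ he0]
  · show e (C (L v)) = T (e (C v))
    rw [← heL]
    exact congrArg e (LinearMap.congr_fun hCL v)

variable [Fintype F] {K : Subalgebra F (Matrix (Fin n) (Fin n) F)}

/-- a normal form for a generator of a quadratic field of matrices -/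
theorem exists_gen (hn : 0 < n) (hK : Cfsg.Geo.IsFieldSubalgebra 2 K) :
    ∃ ω ∈ K, (∀ k ∈ K, ∃ a b : F, k = a • 1 + b • ω) ∧ (∀ s : F, ω ≠ s • 1) ∧
      (((2 : F) ≠ 0 ∧ ∃ e, ω * ω = e • 1 ∧ ∀ t : F, t * t ≠ e) ∨ ((2 : F) = 0 ∧ ∃ d : F, ω * ω = ω + d • 1)) := by
  haveI hne : Nonempty (Fin n) := ⟨⟨0, hn⟩⟩
  have hmz : ∀ x ∈ K, ∀ y ∈ K, x * y = 0 → x = 0 ∨ y = 0 := fun x hx y hy h => or_iff_not_imp_left.2 fun hx0 => by
    obtain ⟨x', hx', hxx⟩ := hK.inv x hx hx0
    rw [hK.comm x hx x' hx'] at hxx
    rw [← one_mul y, ← hxx, mul_assoc, h, mul_zero]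
  obtain ⟨ω, hω, hωs⟩ : ∃ ω ∈ K, ∀ s : F, ω ≠ s • 1 := by
    by_contra h
    push Not at h
    have hle : K ≤ (⊥ : Subalgebra F (Matrix (Fin n) (Fin n) F)) := fun x hx => by
      obtain ⟨s, rfl⟩ := h x hx
      exact Algebra.mem_bot.2 ⟨s, Algebra.algebraMap_eq_smul_one s⟩
    have h1 := Submodule.finrank_mono (show Subalgebra.toSubmodule K ≤ Subalgebra.toSubmodule ⊥ from hle)
    rw [Subalgebra.finrank_toSubmodule, Subalgebra.finrank_toSubmodule, hK.finrank_eq, Subalgebra.finrank_bot] at h1
    omega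
  have hspan : ∀ k ∈ K, ∀ w ∈ K, (∀ s : F, w ≠ s • 1) → ∃ a b : F, k = a • 1 + b • w := fun k hk w hw hws => by
    have hi : LinearIndependent F ![(1 : Matrix (Fin n) (Fin n) F), w] := by
      rw [LinearIndependent.pair_iff]
      intro s t h
      by_cases ht : t = 0
      · subst ht
        refine ⟨?_, rfl⟩
        rw [zero_smul, add_zero, smul_eq_zero] at h
        exact h.resolve_right one_ne_zero
      · refine absurd ?_ (hws (-(t⁻¹ * s)))
        rw [neg_smul, ← smul_smul, eq_neg_of_add_eq_zero_left h, smul_neg, inv_smul_smul₀ ht, neg_neg]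
    have hle : Submodule.span F (Set.range ![(1 : Matrix (Fin n) (Fin n) F), w]) ≤ Subalgebra.toSubmodule K := by
      rw [Submodule.span_le]
      rintro _ ⟨i, rfl⟩
      fin_cases i
      · exact one_mem K
      · exact hw
    have heq := Submodule.eq_of_le_of_finrank_eq hle (by
      rw [finrank_span_eq_card hi, Subalgebra.finrank_toSubmodule, hK.finrank_eq, Fintype.card_fin])
    have hk' : k ∈ Submodule.span F (Set.range ![(1 : Matrix (Fin n) (Fin n) F), w]) := by rw [heq]; exact hk
    obtain ⟨c, hc⟩ := (Submodule.mem_span_range_iff_exists_fun F).1 hk'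
    exact ⟨c 0, c 1, by rw [← hc]; simp [Fin.sum_univ_two]⟩
  obtain ⟨d, a, hsq⟩ := hspan _ (mul_mem hω hω) ω hω hωs
  by_cases h2 : (2 : F) = 0
  · have ha : a ≠ 0 := by
      rintro rfl
      obtain ⟨s, hs⟩ := FiniteField.isSquare_of_char_two (F := F) (CharP.ringChar_of_prime_eq_zero Nat.prime_two
        (by exact_mod_cast h2)) d
      rw [zero_smul, add_zero] at hsq
      refine hωs s (sub_eq_zero.1 ((hmz _ (sub_mem hω (K.smul_mem (one_mem K) s)) _
        (sub_mem hω (K.smul_mem (one_mem K) s)) ?_).elim id id))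
      simp only [sub_mul, mul_sub, hsq, Algebra.mul_smul_comm, Algebra.smul_mul_assoc, one_mul, mul_one,
        smul_smul, ← hs]
      rw [smul_sub, smul_smul, ← hs, show d • (1 : Matrix (Fin n) (Fin n) F) - s • ω - (s • ω - d • 1) = (2 * d) • 1 - (2 * s) • ω by module, h2]
      simp
    refine ⟨a⁻¹ • ω, K.smul_mem hω _, fun k hk => hspan k hk _ (K.smul_mem hω _) fun s h => hωs (a * s) ?_,
      fun s h => hωs (a * s) ?_, .inr ⟨h2, a⁻¹ * a⁻¹ * d, ?_⟩⟩
    · rw [← smul_smul, ← h, smul_inv_smul₀ ha]
    · rw [← smul_smul, ← h, smul_inv_smul₀ ha]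
    · rw [Algebra.smul_mul_assoc, Algebra.mul_smul_comm, hsq, smul_smul, smul_add, smul_smul, smul_smul, add_comm,
        show a⁻¹ * a⁻¹ * a = a⁻¹ by field_simp]
  · obtain ⟨w, hw⟩ : ∃ w, w = ω + (-(a / 2)) • 1 := ⟨_, rfl⟩
    have hwK : w ∈ K := hw ▸ add_mem hω (K.smul_mem (one_mem K) _)
    have hws : ∀ s : F, w ≠ s • 1 := fun s h => hωs (s + a / 2) (by
      rw [hw] at h; rw [add_smul, ← h]; module)
    have hww : w * w = (d + a / 2 * (a / 2)) • 1 := by
      rw [hw, add_mul, mul_add, mul_add, hsq, Algebra.mul_smul_comm, Algebra.smul_mul_assoc, Algebra.smul_mul_assoc,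
        one_mul, one_mul, mul_one]
      match_scalars <;> field_simp <;> ring
    refine ⟨w, hwK, fun k hk => hspan k hk w hwK hws, hws, .inl ⟨h2, _, hww, fun t ht => ?_⟩⟩
    rcases hmz _ (sub_mem hwK (K.smul_mem (one_mem K) t)) _ (add_mem hwK (K.smul_mem (one_mem K) t)) (by
      rw [sub_mul, mul_add, mul_add, hww, Algebra.mul_smul_comm, Algebra.smul_mul_assoc, Algebra.smul_mul_assoc,
        one_mul, one_mul, mul_one, smul_smul, ht]
      abel) with h | h
    · exact hws t (sub_eq_zero.1 h)
    · exact hws (-t) (by rw [neg_smul]; exact eq_neg_of_add_eq_zero_left h)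

omit [Fintype F] in
/-- criterion for membership in the normaliser -/
theorem mem_normalizer [Finite F] {ω : Matrix (Fin n) (Fin n) F} (hω : ∀ k ∈ K, ∃ a b : F, k = a • 1 + b • ω)
    (g : GL (Fin n) F) {ω' : Matrix (Fin n) (Fin n) F} (hω' : ω' ∈ K)
    (h : (g : Matrix (Fin n) (Fin n) F) * ω = ω' * g) : g ∈ Cfsg.Geo.subalgebraNormalizer K := by
  have hto : ∀ k ∈ K, (g : Matrix (Fin n) (Fin n) F) * k * ((g⁻¹ : GL (Fin n) F) : Matrix (Fin n) (Fin n) F) ∈ K := by
    intro k hk
    obtain ⟨a, b, rfl⟩ := hω k hk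
    rw [mul_add, Algebra.mul_smul_comm, Algebra.mul_smul_comm, h, mul_one, add_mul, Algebra.smul_mul_assoc,
      Algebra.smul_mul_assoc, mul_assoc, ← Units.val_mul, mul_inv_cancel, Units.val_one, mul_one]
    exact add_mem (K.smul_mem (one_mem K) a) (K.smul_mem hω' b)
  intro k
  refine ⟨hto k, fun hk => ?_⟩
  let f : K → K := fun x => ⟨_, hto x x.2⟩
  have hinj : Function.Injective f := fun x y hxy => by
    have := congrArg (fun z => ((g⁻¹ : GL (Fin n) F) : Matrix (Fin n) (Fin n) F) * z.1 *
      (g : Matrix (Fin n) (Fin n) F)) hxy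
    exact Subtype.ext (by simpa [f, mul_assoc] using this)
  obtain ⟨x, hx⟩ := Finite.surjective_of_injective hinj ⟨_, hk⟩
  have := congrArg (fun z => ((g⁻¹ : GL (Fin n) F) : Matrix (Fin n) (Fin n) F) * z.1 *
    (g : Matrix (Fin n) (Fin n) F)) hx
  simp [f, mul_assoc] at this
  exact this ▸ x.2

omit [Fintype F] in
theorem toLin_mul (A B : Matrix (Fin n) (Fin n) F) (v : Fin n → F) :
    Matrix.toLin' (A * B) v = Matrix.toLin' A (Matrix.toLin' B v) := by
  rw [Matrix.toLin'_mul]; rfl

/-- the positive half of the criterion -/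
theorem exists_conj (hn : 2 ≤ n) (he : Even n) (hK : Cfsg.Geo.IsFieldSubalgebra 2 K)
    (L : (Fin n → F) →ₗ[F] (Fin n → F)) {z : F} (hz : z ≠ 0) (hL : ∀ x, L (L x) = z • x)
    (hdet : LinearMap.det L = 1) (hns : ∀ s : F, L ≠ s • LinearMap.id)
    (hcond : n = 2 ∨ ((2 : F) ≠ 0 ∧ padicValNat 2 (Fintype.card F - 1) ≤ padicValNat 2 n)) :
    ∃ (E : (Fin n → F) ≃ₗ[F] (Fin n → F)) (T : Matrix (Fin n) (Fin n) F) (ω' : Matrix (Fin n) (Fin n) F),
      LinearMap.det (E : (Fin n → F) →ₗ[F] (Fin n → F)) = 1 ∧ (∀ v, E (L v) = Matrix.toLin' T (E v)) ∧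
      ∃ ω, (∀ k ∈ K, ∃ a b : F, k = a • 1 + b • ω) ∧ ω' ∈ K ∧ T * ω = ω' * T := by
  classical
  obtain ⟨ω, hωK, hgen, hωs, hω⟩ := exists_gen (by omega) hK
  obtain ⟨m, hm⟩ := he
  let e2 : ∀ r, Fin r × Bool ≃ Fin 2 × Fin r := fun r =>
    (Equiv.prodComm _ _).trans (finTwoEquiv.symm.prodCongr (Equiv.refl _))
  have wbasis : ∀ (w : Matrix (Fin n) (Fin n) F) (e : F), w * w = e • 1 → (∀ t : F, t * t ≠ e) →
      ∃ β : Module.Basis (Fin 2 × Fin m) F (Fin n → F), ∀ k, Matrix.toLin' w (β (0, k)) = β (1, k) ∧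
        Matrix.toLin' w (β (1, k)) = e • β (0, k) := by
    intro w e hw ht
    have hL' : ∀ x, Matrix.toLin' w (Matrix.toLin' w x) = e • x := fun x => by
      rw [← toLin_mul, hw, map_smul, Matrix.toLin'_one]; rfl
    obtain ⟨r, B, hB⟩ := InvolPairs.nonsquare_pairs _ hL' ht
    have hr : r = m := by
      have := Module.finrank_eq_card_basis B
      rw [Module.finrank_fin_fun] at this
      simp at this; omega
    subst hr
    refine ⟨B.reindex (e2 r), fun k => ⟨by simp [e2, finTwoEquiv, hB], ?_⟩⟩
    simp [e2, finTwoEquiv]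
    rw [← hB]; simpa using hL' (B (k, false))
  rcases hω with ⟨h2, e, he, hte⟩ | ⟨h2, d, hd⟩
  · have hsq : ringChar F ≠ 2 := fun h => h2 (by
      have := ringChar.Nat.cast_ringChar (R := F); rw [h] at this; exact_mod_cast this)
    by_cases hzs : ∃ c : F, c * c = z
    swap
    · push Not at hzs
      -- the scaled generator has the same square
      obtain ⟨t, ht⟩ : IsSquare (z / e) := by
        have hmul : ∀ x : F, quadraticChar F x = -1 ↔ ¬ IsSquare x := fun x => quadraticChar_neg_one_iff_not_isSquare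
        have he0 : e ≠ 0 := fun h => hte 0 (by rw [mul_zero, h])
        have h1 : quadraticChar F z = -1 := (hmul z).2 fun ⟨c, hc⟩ => hzs c hc.symm
        have h3 : quadraticChar F e = -1 := (hmul e).2 fun ⟨c, hc⟩ => hte c hc.symm
        refine (quadraticChar_one_iff_isSquare (div_ne_zero hz he0)).1 ?_
        have h4 : quadraticChar F (z / e) * quadraticChar F e = quadraticChar F z := by
          rw [← map_mul, div_mul_cancel₀ z he0]
        rw [h1, h3] at h4
        linear_combination -h4
      have hee : (t • ω) * (t • ω) = z • 1 := by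
        rw [Algebra.smul_mul_assoc, Algebra.mul_smul_comm, he, smul_smul, smul_smul, ← ht, div_mul_cancel₀]
        exact fun h => hte 0 (by rw [mul_zero, h])
      obtain ⟨β', hβ'⟩ := wbasis _ z hee hzs
      obtain ⟨r, B, hB⟩ := InvolPairs.nonsquare_pairs L hL hzs
      have hr : r = m := by
        have := Module.finrank_eq_card_basis B
        rw [Module.finrank_fin_fun] at this
        simp at this; omega
      subst hr
      obtain ⟨E, hE1, hE2⟩ := conj_of_blocks L (Matrix.toLin' (t • ω)) (B.reindex (e2 r)) β' (fun _ => !![0, z; 1, 0])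
        (fun k b => by
          fin_cases b <;> simp [Fin.sum_univ_two, e2, finTwoEquiv, hB]
          rw [← hB, hL])
        (fun k b => by
          obtain ⟨h0, h1⟩ := hβ' k
          fin_cases b <;> simp [Fin.sum_univ_two] at h0 h1 ⊢ <;> simp [h0, h1])
        ⟨0, by omega⟩ (fun δ _ => by
          obtain ⟨a, b, hab⟩ := FiniteField.exists_root_sum_quadratic (f := Polynomial.X ^ 2 - Polynomial.C δ)
            (g := Polynomial.C (-z) * Polynomial.X ^ 2) (Polynomial.degree_X_pow_sub_C (by norm_num) δ)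
            (by rw [Polynomial.degree_C_mul_X_pow 2 (neg_ne_zero.2 hz)]; rfl)
            (Nat.mod_two_ne_zero.1 fun h => hsq (FiniteField.even_card_iff_char_two.2 h))
          refine ⟨!![a, z * b; b, a], ?_, ?_⟩
          · ext i j; fin_cases i <;> fin_cases j <;> simp [Matrix.mul_apply, Fin.sum_univ_two] <;> ring
          · simp at hab
            rw [Matrix.det_fin_two]; simp
            linear_combination hab)
      exact ⟨E, t • ω, ω, hE1, hE2, ω, hgen, hωK, by rw [Algebra.smul_mul_assoc, Algebra.mul_smul_comm]⟩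
    obtain ⟨c, rfl⟩ := hzs
    have hc : c ≠ 0 := fun h => hz (by rw [h, mul_zero])
    obtain ⟨s, B, hB⟩ := InvolAlt.eigen_basis h2 L hc hL
    have hs : s = n := by
      have := Module.finrank_eq_card_basis B
      rw [Module.finrank_fin_fun, Fintype.card_fin] at this
      exact this.symm
    subst hs
    obtain ⟨β', hβ'⟩ := wbasis ω e he hte
    let p : Fin s → Prop := fun l => L (B l) = c • B l
    have hneg : ∀ l, ¬ p l → L (B l) = (-c) • B l := fun l h => (hB l).resolve_left h
    obtain ⟨M, β, sg, hsg, hM, hN, hMd⟩ : ∃ (M : Fin m → Matrix (Fin 2) (Fin 2) F)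
        (β : Module.Basis (Fin 2 × Fin m) F (Fin s → F)) (sg : F), sg * sg = 1 ∧
        (∀ k b, L (β (b, k)) = ∑ b', M k b' b • β (b', k)) ∧
        (∀ k, M k 1 0 = 0 ∧ M k 0 1 = 0) ∧ ∀ k, M k 1 1 = sg * M k 0 0 := by
      by_cases hn2 : s = 2
      · subst hn2
        obtain rfl : m = 1 := by omega
        have hpair : (p 0 ∧ ¬ p 1) ∨ (¬ p 0 ∧ p 1) := by
          have hall : ∀ u : F, L (B 0) = u • B 0 → L (B 1) = u • B 1 → False := fun u h0 h1 =>
            hns u (B.ext fun i => by fin_cases i <;> simp [h0, h1])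
          by_cases h0 : p 0
          · exact .inl ⟨h0, fun h1 => hall c h0 h1⟩
          · exact .inr ⟨h0, by_contra fun h1 => hall (-c) (hneg 0 h0) (hneg 1 h1)⟩
        rcases hpair with ⟨h0, h1⟩ | ⟨h0, h1⟩
        · refine ⟨fun _ => !![c, 0; 0, -c], B.reindex (Equiv.prodUnique (Fin 2) (Fin 1)).symm, -1, by ring, fun k b => ?_,
            fun k => by simp, fun k => by simp⟩
          have h1' := hneg 1 h1
          fin_cases b <;> simp [Fin.sum_univ_two] <;> first | exact h0 | (rw [h1', neg_smul])
        · refine ⟨fun _ => !![-c, 0; 0, c], B.reindex (Equiv.prodUnique (Fin 2) (Fin 1)).symm, -1, by ring, fun k b => ?_,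
            fun k => by simp, fun k => by simp⟩
          have h0' := hneg 0 h0
          fin_cases b <;> simp [Fin.sum_univ_two] <;> first | exact h1 | (rw [h0', neg_smul])
      · obtain ⟨-, hv⟩ := hcond.resolve_left hn2
        have hd : LinearMap.det L = ∏ l, if p l then c else -c := by
          rw [← LinearMap.det_toMatrix B, show LinearMap.toMatrix B B L = Matrix.diagonal (fun l => if p l then c else -c) from ?_,
            Matrix.det_diagonal]
          ext i j
          rw [LinearMap.toMatrix_apply, Matrix.diagonal_apply]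
          by_cases hp : p j
          · rw [show L (B j) = c • B j from hp]
            by_cases hij : i = j <;> simp [Finsupp.single_apply, hij, Ne.symm, hp]
          · rw [hneg j hp]
            by_cases hij : i = j <;> simp [Finsupp.single_apply, hij, Ne.symm, hp]
        have hsum : Fintype.card {l // p l} + Fintype.card {l // ¬ p l} = s := by
          rw [← Fintype.card_sum, Fintype.card_congr (Equiv.sumCompl p), Fintype.card_fin]
        have hbeven : Even (Fintype.card {l // ¬ p l}) := by
          by_contra hodd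
          rw [hdet, Finset.prod_ite, Finset.prod_const, Finset.prod_const, neg_pow, ← Fintype.card_subtype,
            ← Fintype.card_subtype, (Nat.not_even_iff_odd.1 hodd).neg_one_pow] at hd
          refine InvolAlt.pow_ne_neg_one h2 hv hc ?_
          rw [← hsum, pow_add]
          linear_combination hd
        obtain ⟨b', hb'⟩ := hbeven
        obtain ⟨a', ha'⟩ : ∃ a', Fintype.card {l // p l} = 2 * a' := ⟨m - b', by omega⟩
        obtain rfl : m = a' + b' := by omega
        let ep : {l // p l} ≃ Fin 2 × Fin a' := (Fintype.equivFinOfCardEq ha').trans finProdFinEquiv.symm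
        let en : {l // ¬ p l} ≃ Fin 2 × Fin b' :=
          (Fintype.equivFinOfCardEq (show _ = 2 * b' by omega)).trans finProdFinEquiv.symm
        let e' : Fin s ≃ Fin 2 × Fin (a' + b') :=
          (((Equiv.sumCompl p).symm.trans (Equiv.sumCongr ep en)).trans
            (Equiv.prodSumDistrib _ _ _).symm).trans ((Equiv.refl _).prodCongr finSumFinEquiv)
        refine ⟨fun k => Sum.elim (fun _ => !![c, 0; 0, c]) (fun _ => !![-c, 0; 0, -c]) (finSumFinEquiv.symm k),
          B.reindex e', 1, by ring, fun k b => ?_, fun k => ?_, fun k => ?_⟩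
        · obtain ⟨k', rfl⟩ := finSumFinEquiv.surjective k
          rcases k' with k' | k'
          · have h := (ep.symm (b, k')).2
            fin_cases b <;> simp [e', Fin.sum_univ_two] <;> exact h
          · have h := hneg _ (en.symm (b, k')).2
            rw [neg_smul] at h
            fin_cases b <;> simp [e', Fin.sum_univ_two] <;> exact h
        · obtain ⟨k', rfl⟩ := finSumFinEquiv.surjective k
          rcases k' with k' | k' <;> simp
        · obtain ⟨k', rfl⟩ := finSumFinEquiv.surjective k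
          rcases k' with k' | k' <;> simp
    let T := LinearMap.toMatrix' (Matrix.toLin β' β' (blockDiagonal M))
    have hT : ∀ k b, Matrix.toLin' T (β' (b, k)) = ∑ b', M k b' b • β' (b', k) := fun k b => by
      rw [show Matrix.toLin' T = Matrix.toLin β' β' (blockDiagonal M) from Matrix.toLin'_toMatrix' _, Matrix.toLin_self,
        Fintype.sum_prod_type]
      simp [Matrix.blockDiagonal_apply, ite_smul]
    obtain ⟨E, hE1, hE2⟩ := conj_of_blocks L (Matrix.toLin' T) β β' M hM hT ⟨0, by omega⟩ fun δ _ =>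
      ⟨!![δ, 0; 0, 1], by
        obtain ⟨h10, h01⟩ := hN ⟨0, by omega⟩
        ext i j; fin_cases i <;> fin_cases j <;> simp [Matrix.mul_apply, Fin.sum_univ_two, h10, h01, mul_comm],
        by simp [Matrix.det_fin_two]⟩
    refine ⟨E, T, sg • ω, hE1, hE2, ω, hgen, K.smul_mem hωK _, Matrix.toLin'.injective (β'.ext fun ⟨b, k⟩ => ?_)⟩
    obtain ⟨h0, h1⟩ := hβ' k
    obtain ⟨h10, h01⟩ := hN k
    have hT0 : Matrix.toLin' T (β' (0, k)) = M k 0 0 • β' (0, k) := by
      rw [hT, Fin.sum_univ_two, h10, zero_smul, add_zero]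
    have hT1 : Matrix.toLin' T (β' (1, k)) = (sg * M k 0 0) • β' (1, k) := by
      rw [hT, Fin.sum_univ_two, h01, zero_smul, zero_add, hMd]
    rw [toLin_mul, toLin_mul, map_smul, LinearMap.smul_apply]
    fin_cases b
    · simp only [Fin.zero_eta] at *
      rw [h0, hT1, hT0, map_smul, h0, smul_smul]
    · simp only [Fin.mk_one] at *
      rw [h1, map_smul, hT0, hT1, map_smul, h1, smul_smul, smul_smul, smul_smul]
      congr 1
      linear_combination (-(e * M k 0 0)) * hsg
  · obtain rfl : n = 2 := hcond.resolve_right fun h => h.1 h2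
    obtain rfl : m = 1 := by omega
    obtain ⟨r, s, B, hrs, hB1, hB2⟩ := InvolPairs.exists_basis L hz hL
    rw [Module.finrank_fin_fun] at hrs
    obtain ⟨c, rfl⟩ := FiniteField.isSquare_of_char_two (F := F)
      (CharP.ringChar_of_prime_eq_zero Nat.prime_two (by exact_mod_cast h2)) z
    have hc : c ≠ 0 := fun h => hz (by rw [h, mul_zero])
    have hr : r ≠ 0 := by
      rintro rfl
      refine hns c (B.ext fun i => ?_)
      rcases i with ⟨k, _⟩ | l
      · exact k.elim0
      obtain ⟨u, hu⟩ := hB2 l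
      have h := hL (B (.inr l))
      rw [hu, map_smul, hu, smul_smul] at h
      have hdc : u * u = c * c := smul_left_injective F (B.ne_zero _) h
      have : (u - c) * (u - c) = 0 := by linear_combination hdc + (c * c - u * c) * h2
      rw [hu, sub_eq_zero.1 (mul_self_eq_zero.1 this)]; rfl
    obtain rfl : r = 1 := by omega
    obtain rfl : s = 0 := by omega
    let v : Fin 2 → F := Pi.single 0 1
    let w := Matrix.toLin' ω
    have hww : ∀ x, w (w x) = w x + d • x := fun x => by
      rw [← toLin_mul, hd, map_add, map_smul, Matrix.toLin'_one]; rfl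
    have hind : LinearIndependent F ![w v, c • (w v + v)] := by
      rw [LinearIndependent.pair_iff]
      intro a b h
      have h' : (a + b * c) • w v + (b * c) • v = 0 := by rw [← h]; module
      by_cases hab : a + b * c = 0
      · rw [hab, zero_smul, zero_add, smul_eq_zero] at h'
        have hb : b = 0 := (mul_eq_zero.1 (h'.resolve_right (by simp [v]))).resolve_right hc
        exact ⟨by rw [hb, zero_mul, add_zero] at hab; exact hab, hb⟩
      · exfalso
        obtain ⟨u, hu⟩ : ∃ u : F, w v = u • v := ⟨-((a + b * c)⁻¹ * (b * c)), by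
          rw [neg_smul, ← smul_smul, eq_neg_of_add_eq_zero_right h', smul_neg, inv_smul_smul₀ hab, neg_neg]⟩
        have h3 := hww v
        rw [hu, map_smul, hu, smul_smul, ← add_smul] at h3
        have h4 : u * u = u + d := smul_left_injective F (by simp [v]) h3
        have hmz : (ω - u • 1) * (ω - (u + 1) • 1) = 0 := by
          rw [sub_mul, mul_sub, mul_sub, hd, Algebra.mul_smul_comm, Algebra.smul_mul_assoc, Algebra.smul_mul_assoc,
            one_mul, one_mul, mul_one, smul_smul]
          rw [show ω + d • (1 : Matrix (Fin 2) (Fin 2) F) - (u + 1) • ω - (u • ω - (u * (u + 1)) • 1) =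
            ((d + u * (u + 1)) : F) • 1 + (-(2 * u)) • ω by module, h2,
            show d + u * (u + 1) = 0 by linear_combination h4 + (u + d) * h2]
          simp
        have hk1 : ω - u • 1 ∈ K := sub_mem hωK (K.smul_mem (one_mem K) u)
        obtain ⟨y, hy, hyy⟩ := hK.inv _ hk1 (sub_ne_zero.2 (hωs u))
        rw [hK.comm _ hk1 y hy] at hyy
        have h5 := congrArg (fun x => y * x) hmz
        simp only [← mul_assoc, hyy, one_mul, mul_zero] at h5
        exact hωs (u + 1) (sub_eq_zero.1 h5)
    let β₀ := basisOfLinearIndependentOfCardEqFinrank hind (by simp)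
    let β' : Module.Basis (Fin 2 × Fin 1) F (Fin 2 → F) := β₀.reindex (Equiv.prodUnique (Fin 2) (Fin 1)).symm
    have hb0 : ∀ k, β' (0, k) = w v := fun k => by simp [β', β₀]
    have hb1 : ∀ k, β' (1, k) = c • (w v + v) := fun k => by simp [β', β₀]
    let T := LinearMap.toMatrix' (Matrix.toLin β' β' (blockDiagonal fun _ : Fin 1 => !![0, c * c; 1, 0]))
    have hT : ∀ k b, Matrix.toLin' T (β' (b, k)) = ∑ b', (!![0, c * c; 1, 0] : Matrix (Fin 2) (Fin 2) F) b' b • β' (b', k) :=
      fun k b => by
      rw [show Matrix.toLin' T = Matrix.toLin β' β' (blockDiagonal fun _ : Fin 1 => !![0, c * c; 1, 0]) from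
        Matrix.toLin'_toMatrix' _, Matrix.toLin_self, Fintype.sum_prod_type]
      simp [Matrix.blockDiagonal_apply, Fin.eq_zero]
    have hTw : Matrix.toLin' T (w v) = c • (w v + v) := by
      have := hT 0 0
      rw [hb0, Fin.sum_univ_two, hb0, hb1] at this
      simpa using this
    have hTv : Matrix.toLin' T v = c • v := by
      have h := hT 0 1
      rw [hb1, Fin.sum_univ_two, hb0, hb1, map_smul, map_add, hTw] at h
      simp only [Matrix.of_apply, Matrix.cons_val', Matrix.cons_val_zero, Matrix.cons_val_one, Matrix.cons_val_fin_one,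
        zero_smul, add_zero, smul_add, smul_smul] at h
      have h1 : c • Matrix.toLin' T v = -((c * c) • v) := by
        rw [← sub_eq_zero, ← sub_eq_zero.2 h]; module
      apply smul_right_injective (Fin 2 → F) hc
      show c • Matrix.toLin' T v = c • c • v
      rw [h1, smul_smul, ← neg_smul]
      congr 1
      linear_combination (-(c * c)) * h2
    obtain ⟨E, hE1, hE2⟩ := conj_of_blocks L (Matrix.toLin' T)
      (B.reindex ((Equiv.sumEmpty _ (Fin 0)).trans (e2 1))) β' (fun _ => !![0, c * c; 1, 0])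
      (fun k b => by
        fin_cases b <;> simp [Fin.sum_univ_two, e2, finTwoEquiv, hB1]
        rw [← hB1, hL])
      hT 0 fun δ _ => by
        obtain ⟨a, ha⟩ := FiniteField.isSquare_of_char_two (F := F) (CharP.ringChar_of_prime_eq_zero Nat.prime_two
          (by exact_mod_cast h2)) δ
        exact ⟨a • 1, by simp, by rw [Matrix.det_smul, Matrix.det_one, Fintype.card_fin, ha]; ring⟩
    refine ⟨E, T, ω + 1, hE1, hE2, ω, hgen, add_mem hωK (one_mem K), Matrix.toLin'.injective (β₀.ext fun i => ?_)⟩
    rw [toLin_mul, toLin_mul, map_add, Matrix.toLin'_one, LinearMap.add_apply, LinearMap.id_apply]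
    have hcoe : ⇑β₀ = ![w v, c • (w v + v)] := coe_basisOfLinearIndependentOfCardEqFinrank hind _
    fin_cases i <;> simp only [hcoe, Matrix.cons_val_zero, Matrix.cons_val_one, Fin.zero_eta, Fin.mk_one]
    · show Matrix.toLin' T (w (w v)) = w (Matrix.toLin' T (w v)) + Matrix.toLin' T (w v)
      rw [hww, map_add, map_smul, hTw, hTv, map_smul, map_add, hww]
      match_scalars <;> first | ring1 | linear_combination (-c) * h2 | linear_combination c * h2
    · show Matrix.toLin' T (w (c • (w v + v))) = w (Matrix.toLin' T (c • (w v + v))) + Matrix.toLin' T (c • (w v + v))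
      simp only [map_smul, map_add, hww, hTw, hTv]
      match_scalars <;> first | ring1 | linear_combination (-(c * c)) * h2 | linear_combination (c * c) * h2

/-- the negative half: a map with an eigenspace of codimension one is in no normaliser -/
theorem not_mem_normalizer {g : GL (Fin n) F} (hn : 3 ≤ n) (hne : Even n) (hK : Cfsg.Geo.IsFieldSubalgebra 2 K)
    (hg : g ∈ Cfsg.Geo.subalgebraNormalizer K) (W : Submodule F (Fin n → F)) (hW : Module.finrank F W + 1 = n) {c : F}
    (hc : c ≠ 0) (hmem : ∀ w, w ∈ W ↔ (g : Matrix (Fin n) (Fin n) F) *ᵥ w = c • w) : False := by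
  obtain ⟨ω, hωK, hgen, hωs, -⟩ := exists_gen (by omega) hK
  obtain ⟨k', hk', hk'eq⟩ : ∃ k' ∈ K, (g : Matrix (Fin n) (Fin n) F) * ω = k' * g :=
    ⟨_, (hg ω).1 hωK, by rw [mul_assoc _ _ (g : Matrix (Fin n) (Fin n) F), ← Units.val_mul, inv_mul_cancel,
      Units.val_one, mul_one]⟩
  have hinv : ∀ k ∈ K, k ≠ 0 → Function.Injective (fun v => k *ᵥ v) := fun k hk h0 a b hab => by
    obtain ⟨y, hy, hyy⟩ := hK.inv k hk h0
    rw [hK.comm k hk y hy] at hyy
    have := congrArg (y *ᵥ ·) hab
    simpa [mulVec_mulVec, hyy] using this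
  have hω0 : ω ≠ 0 := fun h => hωs 0 (by rw [h, zero_smul])
  by_cases hcomm : k' = ω
  · -- `W` is a `K`-space
    rw [hcomm] at hk'eq
    have hstab : ∀ w ∈ W, ω *ᵥ w ∈ W := fun w hw => by
      rw [hmem, mulVec_mulVec, hk'eq, ← mulVec_mulVec, (hmem w).1 hw, mulVec_smul]
    let f : W →ₗ[F] W := (Matrix.toLin' ω).restrict fun w hw => by rw [Matrix.toLin'_apply]; exact hstab w hw
    obtain ⟨a, b, hab⟩ := hgen _ (mul_mem hωK hωK)
    have key : ∀ u : F, u * u ≠ a + b * u := fun u h => by
      have hmz : (ω - u • 1) * (ω - (b - u) • 1) = 0 := by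
        rw [sub_mul, mul_sub, mul_sub, hab, Algebra.mul_smul_comm, Algebra.smul_mul_assoc, Algebra.smul_mul_assoc,
          one_mul, one_mul, mul_one, smul_smul]
        rw [show a • (1 : Matrix (Fin n) (Fin n) F) + b • ω - (b - u) • ω - (u • ω - (u * (b - u)) • 1) =
          (a + u * (b - u) : F) • 1 by module, show a + u * (b - u) = 0 by linear_combination -h, zero_smul]
      obtain ⟨y, hy, hyy⟩ := hK.inv (ω - u • 1) (sub_mem hωK (K.smul_mem (one_mem K) u)) (sub_ne_zero.2 (hωs u))
      rw [hK.comm _ (sub_mem hωK (K.smul_mem (one_mem K) u)) y hy] at hyy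
      have h5 := congrArg (fun x => y * x) hmz
      simp only [← mul_assoc, hyy, one_mul, mul_zero] at h5
      exact hωs (b - u) (sub_eq_zero.1 h5)
    -- pairs `v, ω v` exhaust `W`
    have hff : ∀ w, f (f w) = a • w + b • f w := fun w => Subtype.ext (by
      show Matrix.toLin' ω (Matrix.toLin' ω w.1) = _
      rw [← toLin_mul, hab, map_add, map_smul, map_smul, Matrix.toLin'_one]
      rfl)
    have heven : ∀ d, ∀ P : Submodule F W, Module.finrank F P = d → (∀ w ∈ P, f w ∈ P) → Even d := by
      intro d P hd hP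
      have hgrow : ∀ j, ∃ R : Submodule F W, R ≤ P ∧ (∀ w ∈ R, f w ∈ R) ∧
          (Module.finrank F R = 2 * j ∨ (R = P ∧ Even (Module.finrank F R))) := by
        intro j
        induction j with
        | zero => exact ⟨⊥, bot_le, fun w hw => by simp [(Submodule.mem_bot F).1 hw], .inl (by simp)⟩
        | succ j ihj =>
          obtain ⟨R, hRP, hRs, hR⟩ := ihj
          rcases hR with hR | hR
          swap
          · exact ⟨R, hRP, hRs, .inr hR⟩
          by_cases hRe : R = P
          · exact ⟨R, hRP, hRs, .inr ⟨hRe, ⟨j, by omega⟩⟩⟩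
          obtain ⟨x, hx, hxR⟩ := SetLike.exists_of_lt (lt_of_le_of_ne hRP hRe)
          have hfx : ∀ s : F, f x - s • x ∉ R := fun s h => by
            have h' := hRs _ h
            rw [map_sub, map_smul, hff] at h'
            have h6 : (a + b * s - s * s) • x ∈ R := by
              convert add_mem h' (R.smul_mem (s - b) h) using 1
              module
            exact hxR ((R.smul_mem_iff (fun h0 => key s (by linear_combination -h0))).1 h6)
          refine ⟨R ⊔ (F ∙ x) ⊔ (F ∙ f x), sup_le (sup_le hRP ((Submodule.span_singleton_le_iff_mem _ _).2 hx))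
            ((Submodule.span_singleton_le_iff_mem _ _).2 (hP x hx)), fun w hw => ?_, .inl ?_⟩
          · obtain ⟨y, hy, z', hz', rfl⟩ := Submodule.mem_sup.1 hw
            obtain ⟨y1, hy1, y2, hy2, rfl⟩ := Submodule.mem_sup.1 hy
            obtain ⟨s, rfl⟩ := Submodule.mem_span_singleton.1 hy2
            obtain ⟨t, rfl⟩ := Submodule.mem_span_singleton.1 hz'
            rw [map_add, map_add, map_smul, map_smul, hff, smul_add, smul_smul, smul_smul,
              show f y1 + s • f x + ((t * a) • x + (t * b) • f x) = (f y1 + (t * a) • x) + (s + t * b) • f x by module]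
            exact add_mem (Submodule.mem_sup_left (add_mem (Submodule.mem_sup_left (hRs _ hy1))
              (Submodule.mem_sup_right (Submodule.smul_mem _ _ (Submodule.mem_span_singleton_self x)))))
              (Submodule.mem_sup_right (Submodule.smul_mem _ _ (Submodule.mem_span_singleton_self _)))
          · rw [Submodule.finrank_sup_span_singleton, Submodule.finrank_sup_span_singleton hxR, hR]
            · ring
            · intro h
              obtain ⟨y, hy, z', hz', he'⟩ := Submodule.mem_sup.1 h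
              obtain ⟨s, rfl⟩ := Submodule.mem_span_singleton.1 hz'
              exact hfx s (by rw [← he', add_sub_cancel_right]; exact hy)
      obtain ⟨R, hRP, -, hR⟩ := hgrow (d + 1)
      rcases hR with hR | ⟨rfl, hR⟩
      · have := Submodule.finrank_mono hRP; omega
      · rwa [hd] at hR
    obtain ⟨k, hk⟩ := heven _ ⊤ rfl fun w _ => trivial
    obtain ⟨l, hl⟩ := hne
    rw [finrank_top] at hk
    omega
  · have hsubne : k' - ω ≠ 0 := sub_ne_zero.2 hcomm
    obtain ⟨w, hw, hωw, hw0⟩ : ∃ w, w ∈ W ∧ ω *ᵥ w ∈ W ∧ w ≠ 0 := by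
      have hinj : Function.Injective (Matrix.toLin' ω) := fun a b h => hinv ω hωK hω0
        (by simpa [Matrix.toLin'_apply] using h)
      have h1 := Submodule.finrank_sup_add_finrank_inf_eq W (W.comap (Matrix.toLin' ω))
      have h2 : Module.finrank F (W.comap (Matrix.toLin' ω)) = Module.finrank F W := by
        let ew : (Fin n → F) ≃ₗ[F] (Fin n → F) := LinearEquiv.ofInjectiveEndo _ hinj
        rw [show W.comap (Matrix.toLin' ω) = W.map (ew.symm : (Fin n → F) →ₗ[F] (Fin n → F)) from
          by rw [Submodule.map_equiv_eq_comap_symm]; rfl]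
        exact LinearEquiv.finrank_map_eq ew.symm W
      have h3 : Module.finrank F ↥(W ⊔ W.comap (Matrix.toLin' ω)) ≤ n :=
        (Submodule.finrank_le _).trans (le_of_eq (Module.finrank_fin_fun F))
      obtain ⟨w, hw, hw0⟩ := (W ⊓ W.comap (Matrix.toLin' ω)).exists_mem_ne_zero_of_ne_bot fun h => by
        rw [h, finrank_bot] at h1; omega
      exact ⟨w, hw.1, by simpa using hw.2, hw0⟩
    refine hw0 (hinv _ (sub_mem hk' hωK) hsubne (show (k' - ω) *ᵥ w = (k' - ω) *ᵥ 0 from ?_))
    rw [mulVec_zero, sub_mulVec, sub_eq_zero]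
    apply smul_right_injective (Fin n → F) hc
    show c • (k' *ᵥ w) = c • (ω *ᵥ w)
    rw [← mulVec_smul, ← (hmem w).1 hw, mulVec_mulVec, ← hk'eq, ← mulVec_mulVec, (hmem _).1 hωw]

end CfsgLib.MaxSub.InvolField
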