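import Cfsg.Prelude.Def_GeometricClasses
import Cfsg.Agent.Lib.MaxSub.InvolPairs
import Mathlib.LinearAlgebra.BilinearMap
import Mathlib.Tactic

/-!
A symplectic projective involution permutes the planes of some orthogonal decomposition into planes.
-/

set_option autoImplicit false

namespace CfsgLib.MaxSub.InvolPlanes

variable {F V : Type*} [Field F] [AddCommGroup V] [Module F V]

/-- A family of pairwise orthogonal hyperbolic pairs spanning `P`, permuted by `L` as planes. -/
structure PlaneSystem (B : V →ₗ[F] V →ₗ[F] F) (L : V →ₗ[F] V) (P : Submodule F V) (r s : ℕ) where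
  U : (Fin r × Bool) ⊕ Fin s → V
  W : (Fin r × Bool) ⊕ Fin s → V
  memU : ∀ i, U i ∈ P
  memW : ∀ i, W i ∈ P
  span : ∀ v ∈ P, v ∈ Submodule.span F (Set.range U ∪ Set.range W)
  uu : ∀ i j, B (U i) (U j) = 0
  ww : ∀ i j, B (W i) (W j) = 0
  uw : ∀ i j, B (U i) (W j) = if i = j then 1 else 0
  mapU : ∀ k b, L (U (.inl (k, b))) = U (.inl (k, !b))
  mapW : ∀ k b, L (W (.inl (k, b))) = W (.inl (k, !b))
  stab : ∀ l, L (U (.inr l)) ∈ Submodule.span F {U (.inr l), W (.inr l)} ∧
    L (W (.inr l)) ∈ Submodule.span F {U (.inr l), W (.inr l)}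

theorem exists_planeSystem [FiniteDimensional F V] (B : V →ₗ[F] V →ₗ[F] F) (L : V →ₗ[F] V) (hA : ∀ v, B v v = 0)
    (hiso : ∀ a b, B (L a) (L b) = B a b) {z : F} (hz : z ≠ 0) (hL : ∀ v, L (L v) = z • v) :
    ∀ d, ∀ P : Submodule F V, Module.finrank F P = d → (∀ v ∈ P, L v ∈ P) →
      (∀ v ∈ P, v ≠ 0 → ∃ v' ∈ P, B v v' ≠ 0) → ∃ r s, Nonempty (PlaneSystem B L P r s) := by
  have sk : ∀ a b, B b a = -B a b := fun a b => by
    have h := hA (a + b)
    simp only [map_add, LinearMap.add_apply, hA] at h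
    linear_combination h
  classical
  intro d
  induction d using Nat.strong_induction_on with
  | _ d ih =>
    intro P hd hinv hnd
    by_cases hP : P = ⊥
    · exact ⟨0, 0, ⟨⟨fun i => i.elim (fun p => p.1.elim0) fun l => l.elim0,
        fun i => i.elim (fun p => p.1.elim0) fun l => l.elim0, fun i => i.elim (fun p => p.1.elim0) fun l => l.elim0,
        fun i => i.elim (fun p => p.1.elim0) fun l => l.elim0,
        fun v hv => by rw [hP] at hv; rw [(Submodule.mem_bot F).1 hv]; exact zero_mem _,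
        fun i => i.elim (fun p => p.1.elim0) fun l => l.elim0, fun i => i.elim (fun p => p.1.elim0) fun l => l.elim0,
        fun i => i.elim (fun p => p.1.elim0) fun l => l.elim0, fun k => k.elim0, fun k => k.elim0, fun l => l.elim0⟩⟩⟩
    -- split off an invariant set of hyperbolic pairs
    have split : ∀ (S : Finset (V × V)), (∀ p ∈ S, p.1 ∈ P ∧ p.2 ∈ P) → S.Nonempty →
        (∀ p ∈ S, ∀ p' ∈ S, B p.1 p'.1 = 0 ∧ B p.2 p'.2 = 0) →
        (∀ p ∈ S, B p.1 p.2 = 1) → (∀ p ∈ S, ∀ p' ∈ S, p ≠ p' → B p.1 p'.2 = 0) →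
        (∀ p ∈ S, L p.1 ∈ Submodule.span F (↑(S.image Prod.fst) ∪ ↑(S.image Prod.snd) : Set V) ∧
          L p.2 ∈ Submodule.span F (↑(S.image Prod.fst) ∪ ↑(S.image Prod.snd) : Set V)) →
        ∃ P' : Submodule F V, (∃ r s, Nonempty (PlaneSystem B L P' r s)) ∧ (∀ v ∈ P', v ∈ P ∧ ∀ p ∈ S, B p.1 v = 0 ∧ B p.2 v = 0) ∧
          ∀ v ∈ P, ∃ w ∈ Submodule.span F (↑(S.image Prod.fst) ∪ ↑(S.image Prod.snd) : Set V), v - w ∈ P' := by
      intro S hSP hSne huu hone huw hSL
      classical
      obtain ⟨P', hP'⟩ : ∃ P', P' = P ⊓ ⨅ p ∈ S, (LinearMap.ker (B p.1) ⊓ LinearMap.ker (B p.2)) := ⟨_, rfl⟩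
      have hmem : ∀ v, v ∈ P' ↔ v ∈ P ∧ ∀ p ∈ S, B p.1 v = 0 ∧ B p.2 v = 0 := fun v => by
        rw [hP']; simp [Submodule.mem_iInf, LinearMap.mem_ker]
      obtain ⟨w, hw⟩ : ∃ w : V → V, ∀ v, w v = ∑ p ∈ S, ((-B p.2 v) • p.1 + B p.1 v • p.2) := ⟨_, fun v => rfl⟩
      have hwspan : ∀ v, w v ∈ Submodule.span F (↑(S.image Prod.fst) ∪ ↑(S.image Prod.snd) : Set V) := fun v => by
        rw [hw]
        refine sum_mem fun p hp => add_mem (Submodule.smul_mem _ _ ?_) (Submodule.smul_mem _ _ ?_)
        · exact Submodule.subset_span (.inl (by simpa using ⟨p.2, hp⟩))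
        · exact Submodule.subset_span (.inr (by simpa using ⟨p.1, hp⟩))
      have hsplit : ∀ v ∈ P, v - w v ∈ P' := fun v hv => by
        rw [hmem, hw]
        refine ⟨sub_mem hv (sum_mem fun p hp => add_mem (P.smul_mem _ (hSP p hp).1) (P.smul_mem _ (hSP p hp).2)),
          fun p hp => ⟨?_, ?_⟩⟩
        · rw [map_sub, map_sum, Finset.sum_eq_single p]
          · rw [map_add, map_smul, map_smul, hA, hone p hp]; simp
          · intro p' hp' hne
            rw [map_add, map_smul, map_smul, (huu p hp p' hp').1, huw p hp p' hp' hne.symm]; simp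
          · exact fun h => absurd hp h
        · rw [map_sub, map_sum, Finset.sum_eq_single p]
          · rw [map_add, map_smul, map_smul, hA, sk p.1 p.2, hone p hp]; simp
          · intro p' hp' hne
            rw [map_add, map_smul, map_smul, (huu p hp p' hp').2, sk p'.1 p.2, huw p' hp' p hp hne]; simp
          · exact fun h => absurd hp h
      have hlt : Module.finrank F P' < d := by
        rw [← hd]
        refine Submodule.finrank_lt_finrank_of_lt (lt_of_le_of_ne (fun v hv => ((hmem v).1 hv).1) fun e => ?_)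
        obtain ⟨p, hp⟩ := hSne
        have := (((hmem p.2).1 (e.symm ▸ (hSP p hp).2)).2 p hp).1
        rw [hone p hp] at this
        exact one_ne_zero this
      refine ⟨P', ih _ hlt P' rfl (fun v hv => ?_) (fun v hv hv0 => ?_), fun v hv => (hmem v).1 hv,
        fun v hv => ⟨w v, hwspan v, hsplit v hv⟩⟩
      · obtain ⟨hvP, hvS⟩ := (hmem v).1 hv
        have hperp : ∀ y ∈ Submodule.span F (↑(S.image Prod.fst) ∪ ↑(S.image Prod.snd) : Set V), B y v = 0 := by
          intro y hy
          refine (show Submodule.span F (↑(S.image Prod.fst) ∪ ↑(S.image Prod.snd) : Set V) ≤ LinearMap.ker (B.flip v) from ?_) hy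
          rw [Submodule.span_le]
          rintro y (hy | hy) <;> simp only [Finset.coe_image, Set.mem_image, Finset.mem_coe] at hy <;>
            obtain ⟨p, hp, rfl⟩ := hy
          exacts [(hvS p hp).1, (hvS p hp).2]
        refine (hmem _).2 ⟨hinv v hvP, fun p hp => ?_⟩
        have key : ∀ y, L y ∈ Submodule.span F (↑(S.image Prod.fst) ∪ ↑(S.image Prod.snd) : Set V) → B y (L v) = 0 := by
          intro y hy
          have h := hiso y (L v)
          rw [hL, map_smul, smul_eq_mul, hperp _ hy, mul_zero] at h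
          exact h.symm
        exact ⟨key _ (hSL p hp).1, key _ (hSL p hp).2⟩
      · obtain ⟨h1, h2⟩ := (hmem v).1 hv
        obtain ⟨v', hv', hne⟩ := hnd v h1 hv0
        refine ⟨_, hsplit v' hv', ?_⟩
        rw [map_sub, hw, map_sum, Finset.sum_eq_zero fun p hp => ?_, sub_zero]
        · exact hne
        · rw [map_add, map_smul, map_smul, sk p.1 v, sk p.2 v, (h2 p hp).1, (h2 p hp).2]; simp
    classical
    -- one invariant plane
    have single : ∀ u w, u ∈ P → w ∈ P → B u w = 1 → L u ∈ Submodule.span F {u, w} → L w ∈ Submodule.span F {u, w} →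
        ∃ r s, Nonempty (PlaneSystem B L P r s) := by
      intro u w hu hw huw hLu hLw
      obtain ⟨P', ⟨r, s, ⟨T⟩⟩, hP', hsp⟩ := split {(u, w)} (by simp [hu, hw]) (by simp) (by simp [hA]) (by simp [huw])
        (by simp) (by
          intro p hp
          obtain rfl := Finset.mem_singleton.1 hp
          simp [Set.pair_comm u w] at hLu hLw ⊢
          exact ⟨hLu, hLw⟩)
      have oT : ∀ v ∈ P', B u v = 0 ∧ B w v = 0 ∧ B v u = 0 ∧ B v w = 0 := fun v hv => by
        obtain ⟨h1, h2⟩ := (hP' v hv).2 (u, w) (by simp)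
        exact ⟨h1, h2, by rw [sk u, h1, neg_zero], by rw [sk w, h2, neg_zero]⟩
      refine ⟨r, s + 1, ⟨⟨Sum.elim (fun q => T.U (.inl q)) (Fin.cases u fun l => T.U (.inr l)),
        Sum.elim (fun q => T.W (.inl q)) (Fin.cases w fun l => T.W (.inr l)), ?_, ?_, ?_, ?_, ?_, ?_, ?_, ?_, ?_⟩⟩⟩
      · rintro (q | l)
        · exact (hP' _ (T.memU _)).1
        · refine Fin.cases hu (fun l => (hP' _ (T.memU _)).1) l
      · rintro (q | l)
        · exact (hP' _ (T.memW _)).1
        · refine Fin.cases hw (fun l => (hP' _ (T.memW _)).1) l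
      · intro v hv
        obtain ⟨y, hy, hyv⟩ := hsp v hv
        rw [← sub_add_cancel v y]
        refine add_mem (Submodule.span_mono ?_ (T.span _ hyv)) (Submodule.span_mono ?_ hy)
        · rintro x (⟨i, rfl⟩ | ⟨i, rfl⟩) <;> [refine .inl ⟨Sum.map id Fin.succ i, ?_⟩; refine .inr ⟨Sum.map id Fin.succ i, ?_⟩] <;>
            rcases i with q | l <;> rfl
        · rintro x (hx | hx) <;> simp at hx <;> subst hx
          exacts [.inl ⟨.inr 0, rfl⟩, .inr ⟨.inr 0, rfl⟩]
      · rintro (q | l) (q' | l')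
        · exact T.uu _ _
        · exact Fin.cases (oT _ (T.memU _)).2.2.1 (fun l' => T.uu _ _) l'
        · exact Fin.cases (oT _ (T.memU _)).1 (fun l => T.uu _ _) l
        · exact Fin.cases (Fin.cases (hA u) (fun l' => (oT _ (T.memU _)).1) l')
            (fun l => Fin.cases (oT _ (T.memU _)).2.2.1 (fun l' => T.uu _ _) l') l
      · rintro (q | l) (q' | l')
        · exact T.ww _ _
        · exact Fin.cases (oT _ (T.memW _)).2.2.2 (fun l' => T.ww _ _) l'
        · exact Fin.cases (oT _ (T.memW _)).2.1 (fun l => T.ww _ _) l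
        · exact Fin.cases (Fin.cases (hA w) (fun l' => (oT _ (T.memW _)).2.1) l')
            (fun l => Fin.cases (oT _ (T.memW _)).2.2.2 (fun l' => T.ww _ _) l') l
      · rintro (q | l) (q' | l')
        · simpa using T.uw (.inl q) (.inl q')
        · refine Fin.cases ?_ (fun l' => ?_) l'
          · simpa using (oT _ (T.memU (.inl q))).2.2.2
          · simpa using T.uw (.inl q) (.inr l')
        · refine Fin.cases ?_ (fun l => ?_) l
          · simpa using (oT _ (T.memW (.inl q'))).1
          · simpa using T.uw (.inr l) (.inl q')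
        · refine Fin.cases ?_ (fun l => ?_) l <;> refine Fin.cases ?_ (fun l' => ?_) l'
          · simpa using huw
          · simpa [(Fin.succ_ne_zero l').symm] using (oT _ (T.memW (.inr l'))).1
          · simpa [Fin.succ_ne_zero l] using (oT _ (T.memU (.inr l))).2.2.2
          · simpa using T.uw (.inr l) (.inr l')
      · exact T.mapU
      · exact T.mapW
      · exact Fin.cases ⟨hLu, hLw⟩ T.stab
    by_cases h : ∃ u ∈ P, B u (L u) ≠ 0
    · obtain ⟨u, hu, hne⟩ := h
      have hw : L u ∈ Submodule.span F {u, (B u (L u))⁻¹ • L u} := by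
        rw [Submodule.mem_span_pair]
        exact ⟨0, B u (L u), by rw [zero_smul, zero_add, smul_inv_smul₀ hne]⟩
      refine single u ((B u (L u))⁻¹ • L u) hu (P.smul_mem _ (hinv u hu))
        (by rw [map_smul, smul_eq_mul, inv_mul_cancel₀ hne]) hw ?_
      rw [map_smul, hL, smul_smul]
      exact Submodule.smul_mem _ _ (Submodule.subset_span (by simp))
    push Not at h
    have hsym : ∀ a ∈ P, ∀ b ∈ P, B a (L b) + B b (L a) = 0 := fun a ha b hb => by
      have h1 := h _ (add_mem ha hb)
      simp only [map_add, LinearMap.add_apply, h a ha, h b hb] at h1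
      linear_combination h1
    obtain ⟨u₀, hu₀, hu₀0⟩ := P.exists_mem_ne_zero_of_ne_bot hP
    by_cases hscal : ∀ v ∈ P, ∃ e : F, L v = e • v
    · obtain ⟨v, hv, hne⟩ := hnd u₀ hu₀ hu₀0
      obtain ⟨e, he⟩ := hscal u₀ hu₀
      obtain ⟨e', he'⟩ := hscal v hv
      refine single u₀ ((B u₀ v)⁻¹ • v) hu₀ (P.smul_mem _ hv) (by rw [map_smul, smul_eq_mul, inv_mul_cancel₀ hne]) ?_ ?_
      · rw [he]; exact Submodule.smul_mem _ _ (Submodule.subset_span (by simp))
      · rw [map_smul, he', smul_comm]; exact Submodule.smul_mem _ _ (Submodule.subset_span (by simp))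
    push Not at hscal
    obtain ⟨u, hu, hune⟩ := hscal
    -- a vector orthogonal to `L u` pairing with `u`
    obtain ⟨v, hv, hv1, hv2⟩ : ∃ v ∈ P, B u v = 1 ∧ B (L u) v = 0 := by
      by_contra hno
      push Not at hno
      have hu0 : u ≠ 0 := fun e => hune 0 (by rw [e, map_zero, zero_smul])
      obtain ⟨b, hb, hbne⟩ := hnd (L u) (hinv u hu) fun e => hune 0 (by rw [e, zero_smul])
      have hvan : ∀ y ∈ P, B (L u) y = 0 → B u y = 0 := fun y hy h0 => by
        by_contra h1
        exact hno _ (P.smul_mem (B u y)⁻¹ hy) (by rw [map_smul, smul_eq_mul, inv_mul_cancel₀ h1])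
          (by rw [map_smul, h0, smul_zero])
      obtain ⟨c, hc⟩ : ∃ c, c = B u b / B (L u) b := ⟨_, rfl⟩
      have hall : ∀ y ∈ P, B (u - c • L u) y = 0 := fun y hy => by
        have h1 := hvan (y - (B (L u) y / B (L u) b) • b) (sub_mem hy (P.smul_mem _ hb))
          (by rw [map_sub, map_smul, smul_eq_mul, div_mul_cancel₀ _ hbne, sub_self])
        rw [map_sub, map_smul, smul_eq_mul] at h1
        rw [map_sub, LinearMap.sub_apply, map_smul, LinearMap.smul_apply, smul_eq_mul, hc]
        linear_combination h1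
      have hz0 : u - c • L u = 0 := by
        by_contra hne0
        obtain ⟨y, hy, hyne⟩ := hnd _ (sub_mem hu (P.smul_mem c (hinv u hu))) hne0
        exact hyne (hall y hy)
      have hc0 : c ≠ 0 := fun e => hu0 (by rw [e, zero_smul, sub_zero] at hz0; exact hz0)
      exact hune c⁻¹ (by rw [sub_eq_zero] at hz0; nth_rewrite 2 [hz0]; rw [inv_smul_smul₀ hc0])
    have hz1 : z = 1 := by
      have h1 := hiso (L u) (L v)
      rw [hL, hL, hiso, map_smul, map_smul, LinearMap.smul_apply, smul_eq_mul, smul_eq_mul, hv1] at h1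
      have h2 : z * z = 1 := by linear_combination h1
      by_contra hne
      obtain ⟨b, hb, hbne⟩ := hnd (L u) (hinv u hu) fun e => hune 0 (by rw [e, zero_smul])
      have h3 := hsym b hb u hu
      have h4 : B b (L u) = z * B (L b) u := by rw [← hiso b (L u), hL, map_smul, smul_eq_mul]
      have h5 : (1 - z) * B (L u) b = 0 := by
        linear_combination (1 - z) * sk (L u) b - z * sk (L b) u + z * h3 - h4
      exact hbne ((mul_eq_zero.1 h5).resolve_left (sub_ne_zero.2 (Ne.symm hne)))
    subst hz1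
    have huv' : B u (L v) = 0 := by rw [← hiso, hL, one_smul, hv2]
    have hvu' : B v (L u) = 0 := by linear_combination hsym u hu v hv - huv'
    have hLL : ∀ a, L (L a) = a := fun a => by rw [hL, one_smul]
    obtain ⟨P', ⟨r, s, ⟨T⟩⟩, hP', hsp⟩ := split {(u, v), (L u, L v)} (by simp [hu, hv, hinv u hu, hinv v hv]) (by simp)
      (by simp [hA, h u hu, h v hv, sk u (L u), sk v (L v)]) (by simp [hv1, hiso])
      (by simp [huv', sk v (L u), hvu']) (by
        intro p hp
        simp only [Finset.mem_insert, Finset.mem_singleton] at hp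
        rcases hp with rfl | rfl <;> simp only [hLL] <;>
          exact ⟨Submodule.subset_span (by simp), Submodule.subset_span (by simp)⟩)
    have oT : ∀ a ∈ P', ∀ b, b = u ∨ b = v ∨ b = L u ∨ b = L v → B b a = 0 ∧ B a b = 0 := fun a ha b hb => by
      have h1 := (hP' a ha).2 (u, v) (by simp)
      have h2 := (hP' a ha).2 (L u, L v) (by simp)
      have h3 : B b a = 0 := by rcases hb with rfl | rfl | rfl | rfl; exacts [h1.1, h1.2, h2.1, h2.2]
      exact ⟨h3, by rw [sk b, h3, neg_zero]⟩
    have bU : ∀ b : Bool, (if b then L u else u) = u ∨ (if b then L u else u) = v ∨ (if b then L u else u) = L u ∨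
        (if b then L u else u) = L v := fun b => by cases b <;> simp
    have bW : ∀ b : Bool, (if b then L v else v) = u ∨ (if b then L v else v) = v ∨ (if b then L v else v) = L u ∨
        (if b then L v else v) = L v := fun b => by cases b <;> simp
    refine ⟨r + 1, s, ⟨⟨Sum.elim (fun q => Fin.cases (if q.2 then L u else u) (fun k => T.U (.inl (k, q.2))) q.1) fun l => T.U (.inr l),
      Sum.elim (fun q => Fin.cases (if q.2 then L v else v) (fun k => T.W (.inl (k, q.2))) q.1) fun l => T.W (.inr l),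
      ?_, ?_, ?_, ?_, ?_, ?_, ?_, ?_, T.stab⟩⟩⟩
    · rintro (⟨k, b⟩ | l)
      · refine Fin.cases ?_ (fun k => (hP' _ (T.memU _)).1) k
        cases b
        exacts [hu, hinv u hu]
      · exact (hP' _ (T.memU _)).1
    · rintro (⟨k, b⟩ | l)
      · refine Fin.cases ?_ (fun k => (hP' _ (T.memW _)).1) k
        cases b
        exacts [hv, hinv v hv]
      · exact (hP' _ (T.memW _)).1
    · intro a ha
      obtain ⟨y, hy, hya⟩ := hsp a ha
      rw [← sub_add_cancel a y]
      refine add_mem (Submodule.span_mono ?_ (T.span _ hya)) (Submodule.span_mono ?_ hy)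
      · rintro x (⟨i, rfl⟩ | ⟨i, rfl⟩) <;> [refine .inl ⟨Sum.map (Prod.map Fin.succ id) id i, ?_⟩; refine .inr ⟨Sum.map (Prod.map Fin.succ id) id i, ?_⟩] <;>
          rcases i with q | l <;> rfl
      · rintro x (hx | hx) <;> simp at hx <;> rcases hx with rfl | rfl
        exacts [.inl ⟨.inl (0, false), rfl⟩, .inl ⟨.inl (0, true), rfl⟩, .inr ⟨.inl (0, false), rfl⟩, .inr ⟨.inl (0, true), rfl⟩]
    · rintro (⟨k, b⟩ | l) (⟨k', b'⟩ | l')
      · refine Fin.cases (Fin.cases ?_ (fun k' => (oT _ (T.memU _) _ (bU b)).1) k')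
          (fun k => Fin.cases (oT _ (T.memU _) _ (bU b')).2 (fun k' => T.uu _ _) k') k
        cases b <;> cases b' <;> simp [hA, hiso, h u hu, sk u (L u)]
      · exact Fin.cases (oT _ (T.memU _) _ (bU b)).1 (fun k => T.uu _ _) k
      · exact Fin.cases (oT _ (T.memU _) _ (bU b')).2 (fun k' => T.uu _ _) k'
      · exact T.uu _ _
    · rintro (⟨k, b⟩ | l) (⟨k', b'⟩ | l')
      · refine Fin.cases (Fin.cases ?_ (fun k' => (oT _ (T.memW _) _ (bW b)).1) k')
          (fun k => Fin.cases (oT _ (T.memW _) _ (bW b')).2 (fun k' => T.ww _ _) k') k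
        cases b <;> cases b' <;> simp [hA, hiso, h v hv, sk v (L v)]
      · exact Fin.cases (oT _ (T.memW _) _ (bW b)).1 (fun k => T.ww _ _) k
      · exact Fin.cases (oT _ (T.memW _) _ (bW b')).2 (fun k' => T.ww _ _) k'
      · exact T.ww _ _
    · rintro (⟨k, b⟩ | l) (⟨k', b'⟩ | l')
      · refine Fin.cases ?_ (fun k => ?_) k <;> refine Fin.cases ?_ (fun k' => ?_) k'
        · cases b <;> cases b' <;> simp [hv1, hiso, huv', sk v (L u), hvu']
        · simpa [(Fin.succ_ne_zero k').symm] using (oT _ (T.memW (.inl (k', b'))) _ (bU b)).1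
        · simpa [Fin.succ_ne_zero k] using (oT _ (T.memU (.inl (k, b))) _ (bW b')).2
        · simpa using T.uw (.inl (k, b)) (.inl (k', b'))
      · refine Fin.cases ?_ (fun k => ?_) k
        · simpa using (oT _ (T.memW (.inr l')) _ (bU b)).1
        · simpa using T.uw (.inl (k, b)) (.inr l')
      · refine Fin.cases ?_ (fun k' => ?_) k'
        · simpa using (oT _ (T.memU (.inr l)) _ (bW b')).2
        · simpa using T.uw (.inr l) (.inl (k', b'))
      · simpa using T.uw (.inr l) (.inr l')
    · intro k b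
      refine Fin.cases ?_ (fun k => T.mapU k b) k
      cases b <;> simp [hLL]
    · intro k b
      refine Fin.cases ?_ (fun k => T.mapW k b) k
      cases b <;> simp [hLL]

variable {ι : Type} [Fintype ι] [DecidableEq ι] {K : Type*} [Field K]

/-- orthogonal decompositions into nondegenerate subspaces of equal even dimension, permuted by `L` -/
theorem exists_decomposition (B : (ι → K) →ₗ[K] (ι → K) →ₗ[K] K) (L : (ι → K) →ₗ[K] (ι → K))
    (hA : ∀ v, B v v = 0) (hB : ∀ v, (∀ v', B v v' = 0) → v = 0) (hiso : ∀ a b, B (L a) (L b) = B a b)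
    {z : K} (hz : z ≠ 0) (hL : ∀ v, L (L v) = z • v) {c t : ℕ} (hc : 0 < c) (ht : 2 ≤ t)
    (hdim : Fintype.card ι = 2 * c * t) :
    ∃ D : Fin t → Submodule K (ι → K), Cfsg.Geo.IsMDecomposition (2 * c) D ∧
      (∀ j, ∀ u ∈ D j, u ≠ 0 → ∃ v ∈ D j, B u v ≠ 0) ∧
      (∀ j j', j ≠ j' → ∀ u ∈ D j, ∀ v ∈ D j', B u v = 0) ∧
      ∃ σ : Equiv.Perm (Fin t), ∀ j, (D j).map L = D (σ j) := by
  classical
  obtain ⟨r, s, ⟨T⟩⟩ := exists_planeSystem B L hA hiso hz hL _ ⊤ rfl (fun v _ => trivial) fun v _ hv => by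
    by_contra hno
    push Not at hno
    exact hv (hB v fun v' => hno v' trivial)
  have sk : ∀ a b, B b a = -B a b := fun a b => by
    have h := hA (a + b)
    simp only [map_add, LinearMap.add_apply, hA] at h
    linear_combination h
  let f : ((Fin r × Bool) ⊕ Fin s) ⊕ ((Fin r × Bool) ⊕ Fin s) → (ι → K) := Sum.elim T.U T.W
  have hspan : ⊤ ≤ Submodule.span K (Set.range f) := fun v _ => by
    rw [Set.Sum.elim_range]; exact T.span v trivial
  have hli : LinearIndependent K f := by
    rw [Fintype.linearIndependent_iff]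
    intro g hg i
    rw [Fintype.sum_sum_type] at hg
    rcases i with i | i
    · have h1 := congrArg (fun v => B v (T.W i)) hg
      simp only [f, Sum.elim_inl, Sum.elim_inr, map_add, map_sum, map_smul, LinearMap.add_apply, LinearMap.coe_sum,
        Finset.sum_apply, LinearMap.smul_apply, T.ww, T.uw, map_zero, LinearMap.zero_apply] at h1
      simpa using h1
    · have h1 := congrArg (fun v => B (T.U i) v) hg
      simp only [f, Sum.elim_inl, Sum.elim_inr, map_add, map_sum, map_smul, T.uu, T.uw, map_zero] at h1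
      simpa using h1
  let β := Module.Basis.mk hli hspan
  have hcard : 2 * r + s = c * t := by
    have h := Module.finrank_eq_card_basis β
    rw [Module.finrank_fintype_fun_eq_card, hdim] at h
    simp at h
    have e : 2 * c * t = 2 * (c * t) := by ring
    omega
  obtain ⟨g, σ, hg, hσ1, hσ2⟩ := InvolPairs.exists_assign c hc t r s hcard
  let G : ((Fin r × Bool) ⊕ Fin s) ⊕ ((Fin r × Bool) ⊕ Fin s) → Fin t := Sum.elim g g
  let D : Fin t → Submodule K (ι → K) := fun i => Submodule.span K (β '' {p | G p = i})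
  have hDU : ∀ i p, g p = i → T.U p ∈ D i := fun i p h => Submodule.subset_span ⟨.inl p, h, by simp [β, f]⟩
  have hDW : ∀ i p, g p = i → T.W p ∈ D i := fun i p h => Submodule.subset_span ⟨.inr p, h, by simp [β, f]⟩
  have hfin : ∀ i, Module.finrank K (D i) = 2 * c := fun i => by
    have h := finrank_span_eq_card (β.linearIndependent.comp (fun p : {p // G p = i} => p.1) Subtype.val_injective)
    rw [Set.range_comp, Subtype.range_coe_subtype] at h
    refine h.trans ?_
    rw [← Nat.card_eq_fintype_card, Nat.card_congr (Equiv.subtypeSum (p := fun p => G p = i)), Nat.card_sum]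
    show Nat.card {p // g p = i} + Nat.card {p // g p = i} = 2 * c
    rw [hg]; ring
  have hindep : iSupIndep D := by
    intro i
    have hle : (⨆ (j : Fin t) (_ : j ≠ i), D j) ≤ Submodule.span K (β '' {p | G p ≠ i}) :=
      iSup₂_le fun j hj => Submodule.span_mono (Set.image_mono fun p hp h => hj (hp.symm.trans h))
    exact (β.linearIndependent.disjoint_span_image
      (show Disjoint {p | G p = i} {p | G p ≠ i} from Set.disjoint_left.2 fun p h1 h2 => h2 h1)).mono_right hle
  have htop : iSup D = ⊤ := by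
    rw [eq_top_iff, ← β.span_eq, Submodule.span_le]
    rintro _ ⟨p, rfl⟩
    exact Submodule.mem_iSup_of_mem (G p) (Submodule.subset_span ⟨p, rfl, rfl⟩)
  have horth : ∀ j j', j ≠ j' → ∀ u ∈ D j, ∀ v ∈ D j', B u v = 0 := by
    intro j j' hjj u hu v hv
    refine (show D j ≤ LinearMap.ker (B.flip v) from ?_) hu
    rw [Submodule.span_le]
    rintro _ ⟨p, hp, rfl⟩
    show B (β p) v = 0
    refine (show D j' ≤ LinearMap.ker (B (β p)) from ?_) hv
    rw [Submodule.span_le]
    rintro _ ⟨p', hp', rfl⟩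
    have hne : ∀ a b, g a = j → g b = j' → a ≠ b := fun a b ha hb h => hjj (ha.symm.trans (h ▸ hb))
    rcases p with a | a <;> rcases p' with b | b <;> simp only [β, Module.Basis.mk_apply, SetLike.mem_coe, LinearMap.mem_ker, f, Sum.elim_inl, Sum.elim_inr]
    · exact T.uu _ _
    · rw [T.uw, if_neg (hne a b hp hp')]
    · rw [sk, T.uw, if_neg (hne a b hp hp').symm, neg_zero]
    · exact T.ww _ _
  refine ⟨D, ⟨ht, by omega, hfin, hindep, htop⟩, fun j u hu hu0 => ?_, horth, σ, fun j => ?_⟩
  · by_contra hno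
    push Not at hno
    refine hu0 (hB u fun v => ?_)
    refine (show (⊤ : Submodule K (ι → K)) ≤ LinearMap.ker (B u) from ?_) (Submodule.mem_top : v ∈ _)
    rw [← htop, iSup_le_iff]
    intro j' v hv
    by_cases hjj : j' = j
    · exact hno v (hjj ▸ hv)
    · exact horth j j' (Ne.symm hjj) u hu v hv
  · have hinj : Function.Injective L := fun x y h => by
      have := congrArg L h
      rw [hL, hL] at this
      exact smul_right_injective _ hz this
    refine Submodule.eq_of_le_of_finrank_eq ?_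
      ((Submodule.equivMapOfInjective L hinj (D j)).finrank_eq.symm.trans ((hfin j).trans (hfin _).symm))
    rw [Submodule.map_span_le]
    rintro _ ⟨p, hp, rfl⟩
    rcases p with (⟨k, b⟩ | l) | (⟨k, b⟩ | l) <;>
      simp only [β, Module.Basis.mk_apply, f, Sum.elim_inl, Sum.elim_inr]
    · rw [T.mapU]; exact hDU _ _ (by rw [← hσ1]; exact congrArg σ hp)
    · have hl : g (.inr l) = σ j := by rw [← hσ2]; exact congrArg σ hp
      exact Submodule.span_le.2 (by rintro x (rfl | rfl); exacts [hDU _ _ hl, hDW _ _ hl]) (T.stab l).1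
    · rw [T.mapW]; exact hDW _ _ (by rw [← hσ1]; exact congrArg σ hp)
    · have hl : g (.inr l) = σ j := by rw [← hσ2]; exact congrArg σ hp
      exact Submodule.span_le.2 (by rintro x (rfl | rfl); exacts [hDU _ _ hl, hDW _ _ hl]) (T.stab l).2

end CfsgLib.MaxSub.InvolPlanes
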