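import Mathlib.LinearAlgebra.BilinearMap
import Mathlib.LinearAlgebra.Dimension.Constructions
import Mathlib.LinearAlgebra.FiniteDimensional.Lemmas
import Mathlib.Tactic.Ring
import Mathlib.Tactic.LinearCombination
import Mathlib.Tactic.Module

/-!
Projective involutions of symplectic spaces in odd characteristic stabilise polar pairs.
-/

set_option autoImplicit false

namespace CfsgLib.MaxSub.InvolPolar

variable {F V : Type*} [Field F] [AddCommGroup V] [Module F V] [FiniteDimensional F V]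
  (B : V →ₗ[F] V →ₗ[F] F) (L : V →ₗ[F] V)

theorem exists_polar_pair_in (hA : ∀ v, B v v = 0) (Φ : Submodule F V → Submodule F V → Prop) (h0 : Φ ⊥ ⊥)
    (hsup : ∀ U W U' W', Φ U W → Φ U' W' → Φ (U ⊔ U') (W ⊔ W'))
    (hstep : ∀ P : Submodule F V, P ≠ ⊥ → (∀ v ∈ P, L v ∈ P) → (∀ v ∈ P, v ≠ 0 → ∃ v' ∈ P, B v v' ≠ 0) →
      ∃ u ∈ P, ∃ w ∈ P, B u w = 1 ∧ Φ (F ∙ u) (F ∙ w) ∧ ∀ v, B u v = 0 → B w v = 0 → B u (L v) = 0 ∧ B w (L v) = 0) :
    ∀ d, ∀ P : Submodule F V, Module.finrank F P = d → (∀ v ∈ P, L v ∈ P) →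
      (∀ v ∈ P, v ≠ 0 → ∃ v' ∈ P, B v v' ≠ 0) →
      ∃ U W : Submodule F V, U ⊔ W = P ∧ (∀ a ∈ U, ∀ b ∈ U, B a b = 0) ∧ (∀ a ∈ W, ∀ b ∈ W, B a b = 0) ∧ Φ U W := by
  have sk : ∀ a b, B b a = -B a b := fun a b => by
    have h := hA (a + b)
    simp only [map_add, LinearMap.add_apply, hA] at h
    linear_combination h
  intro d
  induction d using Nat.strong_induction_on with
  | _ d ih =>
    intro P hd hinv hnd
    by_cases hP : P = ⊥
    · exact ⟨⊥, ⊥, by simp [hP], by simp, by simp, h0⟩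
    obtain ⟨u, hu, w, hw, huw, hΦ, hkeep⟩ := hstep P hP hinv hnd
    obtain ⟨P', hP'⟩ : ∃ P', P' = P ⊓ (LinearMap.ker (B u) ⊓ LinearMap.ker (B w)) := ⟨_, rfl⟩
    have hmem : ∀ v, v ∈ P' ↔ v ∈ P ∧ B u v = 0 ∧ B w v = 0 := fun v => by rw [hP']; rfl
    have hsplit : ∀ v ∈ P, v - (-B w v) • u - B u v • w ∈ P' := fun v hv => by
      rw [hmem]
      refine ⟨sub_mem (sub_mem hv (P.smul_mem _ hu)) (P.smul_mem _ hw), ?_, ?_⟩ <;>
        simp only [map_sub, map_smul, hA, huw, sk u w, smul_eq_mul] <;> ring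
    have hlt : Module.finrank F P' < d := by
      rw [← hd]
      refine Submodule.finrank_lt_finrank_of_lt (lt_of_le_of_ne (fun v hv => ((hmem v).1 hv).1) fun e => ?_)
      have := ((hmem w).1 (e.symm ▸ hw)).2.1
      rw [huw] at this
      exact one_ne_zero this
    obtain ⟨U, W, hUW, hU, hW, hΦ'⟩ := ih _ hlt P' rfl
      (fun v hv => by
        obtain ⟨h1, h2, h3⟩ := (hmem v).1 hv
        exact (hmem _).2 ⟨hinv v h1, hkeep v h2 h3⟩)
      (fun v hv hv0 => by
        obtain ⟨h1, h2, h3⟩ := (hmem v).1 hv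
        obtain ⟨v', hv', hne⟩ := hnd v h1 hv0
        refine ⟨_, hsplit v' hv', ?_⟩
        simp only [map_sub, map_smul, smul_eq_mul, sk u v, sk w v, h2, h3]
        simpa using hne)
    have hle : ∀ v, v ∈ U ∨ v ∈ W → v ∈ P' := fun v h => hUW ▸
      h.elim (fun h => Submodule.mem_sup_left h) fun h => Submodule.mem_sup_right h
    refine ⟨(F ∙ u) ⊔ U, (F ∙ w) ⊔ W, ?_, ?_, ?_, hsup _ _ _ _ hΦ hΦ'⟩
    · rw [sup_sup_sup_comm, hUW]
      refine le_antisymm (sup_le (sup_le ((Submodule.span_singleton_le_iff_mem _ _).2 hu)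
        ((Submodule.span_singleton_le_iff_mem _ _).2 hw)) fun v hv => ((hmem v).1 hv).1) fun v hv => ?_
      rw [show v = ((-B w v) • u + B u v • w) + (v - (-B w v) • u - B u v • w) by module]
      exact add_mem (Submodule.mem_sup_left (add_mem
        (Submodule.mem_sup_left (Submodule.smul_mem _ _ (Submodule.mem_span_singleton_self u)))
        (Submodule.mem_sup_right (Submodule.smul_mem _ _ (Submodule.mem_span_singleton_self w)))))
        (Submodule.mem_sup_right (hsplit v hv))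
    · intro a ha b hb
      obtain ⟨a1, ha1, a2, ha2, rfl⟩ := Submodule.mem_sup.1 ha
      obtain ⟨b1, hb1, b2, hb2, rfl⟩ := Submodule.mem_sup.1 hb
      obtain ⟨s, rfl⟩ := Submodule.mem_span_singleton.1 ha1
      obtain ⟨s', rfl⟩ := Submodule.mem_span_singleton.1 hb1
      simp [hA, ((hmem _).1 (hle _ (.inl hb2))).2.1, sk u a2, ((hmem _).1 (hle _ (.inl ha2))).2.1, hU _ ha2 _ hb2]
    · intro a ha b hb
      obtain ⟨a1, ha1, a2, ha2, rfl⟩ := Submodule.mem_sup.1 ha
      obtain ⟨b1, hb1, b2, hb2, rfl⟩ := Submodule.mem_sup.1 hb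
      obtain ⟨s, rfl⟩ := Submodule.mem_span_singleton.1 ha1
      obtain ⟨s', rfl⟩ := Submodule.mem_span_singleton.1 hb1
      simp [hA, ((hmem _).1 (hle _ (.inr hb2))).2.2, sk w a2, ((hmem _).1 (hle _ (.inr ha2))).2.2, hW _ ha2 _ hb2]

theorem exists_polar_pair (h2 : (2 : F) ≠ 0) (hA : ∀ v, B v v = 0) (hB : ∀ v, (∀ v', B v v' = 0) → v = 0)
    (hiso : ∀ a b, B (L a) (L b) = B a b) {z : F} (hL : ∀ v, L (L v) = z • v) :
    ∃ U W : Submodule F V, IsCompl U W ∧ (∀ a ∈ U, ∀ b ∈ U, B a b = 0) ∧ (∀ a ∈ W, ∀ b ∈ W, B a b = 0) ∧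
      ((U.map L = U ∧ W.map L = W) ∨ (U.map L = W ∧ W.map L = U)) := by
  have sk : ∀ a b, B b a = -B a b := fun a b => by
    have h := hA (a + b)
    simp only [map_add, LinearMap.add_apply, hA] at h
    linear_combination h
  have hinj : Function.Injective L := fun a b h => by
    rw [← sub_eq_zero]
    refine hB _ fun v' => ?_
    rw [← hiso, map_sub, h, sub_self, map_zero, LinearMap.zero_apply]
  have finish : ∀ (Φ : Submodule F V → Submodule F V → Prop), Φ ⊥ ⊥ →
      (∀ U W U' W', Φ U W → Φ U' W' → Φ (U ⊔ U') (W ⊔ W')) →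
      (∀ P : Submodule F V, P ≠ ⊥ → (∀ v ∈ P, L v ∈ P) → (∀ v ∈ P, v ≠ 0 → ∃ v' ∈ P, B v v' ≠ 0) →
        ∃ u ∈ P, ∃ w ∈ P, B u w = 1 ∧ Φ (F ∙ u) (F ∙ w) ∧
          ∀ v, B u v = 0 → B w v = 0 → B u (L v) = 0 ∧ B w (L v) = 0) →
      ∃ U W : Submodule F V, IsCompl U W ∧ (∀ a ∈ U, ∀ b ∈ U, B a b = 0) ∧ (∀ a ∈ W, ∀ b ∈ W, B a b = 0) ∧ Φ U W := by
    intro Φ h0 hsup hstep
    obtain ⟨U, W, hUW, hU, hW, hΦ⟩ := exists_polar_pair_in B L hA Φ h0 hsup hstep _ ⊤ rfl (fun v _ => trivial)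
      (fun v _ hv => by
        by_contra hno
        push Not at hno
        exact hv (hB v fun v' => hno v' trivial))
    refine ⟨U, W, ⟨?_, codisjoint_iff.2 hUW⟩, hU, hW, hΦ⟩
    rw [Submodule.disjoint_def]
    intro a haU haW
    refine hB a fun v' => ?_
    obtain ⟨c, hc, d, hd, rfl⟩ := Submodule.mem_sup.1 (hUW ▸ Submodule.mem_top : v' ∈ U ⊔ W)
    rw [map_add, hU a haU c hc, hW a haW d hd, add_zero]
  have hmap : ∀ (u u' : V) (c : F), L u = c • u' → (F ∙ u).map L ≤ F ∙ u' := fun u u' c h => by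
    rw [Submodule.map_le_iff_le_comap, Submodule.span_singleton_le_iff_mem, Submodule.mem_comap, h]
    exact Submodule.smul_mem _ _ (Submodule.mem_span_singleton_self u')
  by_cases hz : ∃ c : F, c * c = z
  · obtain ⟨c, rfl⟩ := hz
    obtain ⟨U, W, hc, hU, hW, h1, h2⟩ := finish (fun U W => U.map L ≤ U ∧ W.map L ≤ W) (by simp)
      (fun U W U' W' h h' => ⟨(Submodule.map_sup _ _ _).trans_le (sup_le_sup h.1 h'.1),
        (Submodule.map_sup _ _ _).trans_le (sup_le_sup h.2 h'.2)⟩) (by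
      intro P hP hinv hnd
      obtain ⟨v₀, hv₀, hv₀0⟩ := P.exists_mem_ne_zero_of_ne_bot hP
      have hc0 : c ≠ 0 := fun h => hv₀0 (hinj (hinj (by rw [hL, h, mul_zero, zero_smul, map_zero, map_zero])))
      have heig : ∀ v, L (L v + c • v) = c • (L v + c • v) ∧ L (L v - c • v) = (-c) • (L v - c • v) := fun v => by
        constructor <;> simp only [map_add, map_sub, map_smul, hL] <;> module
      obtain ⟨u, hu, hu0, e, hue⟩ : ∃ u ∈ P, u ≠ 0 ∧ ∃ e : F, L u = e • u := by
        by_cases h : L v₀ + c • v₀ = 0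
        · exact ⟨v₀, hv₀, hv₀0, -c, by rw [neg_smul, eq_neg_iff_add_eq_zero]; exact h⟩
        · exact ⟨_, add_mem (hinv _ hv₀) (P.smul_mem c hv₀), h, c, (heig v₀).1⟩
      obtain ⟨v, hv, hne⟩ := hnd u hu hu0
      obtain ⟨w, hw, hne', e', hwe⟩ : ∃ w ∈ P, B u w ≠ 0 ∧ ∃ e : F, L w = e • w := by
        by_cases h : B u (L v + c • v) = 0
        · refine ⟨_, sub_mem (hinv _ hv) (P.smul_mem c hv), fun h' => hne ?_, -c, (heig v).2⟩
          simp only [map_add, map_sub, map_smul, smul_eq_mul] at h h'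
          exact (mul_eq_zero.1 (show (2 * c) * B u v = 0 by linear_combination h - h')).resolve_left
            (mul_ne_zero h2 hc0)
        · exact ⟨_, add_mem (hinv _ hv) (P.smul_mem c hv), h, c, (heig v).1⟩
      refine ⟨u, hu, (B u w)⁻¹ • w, P.smul_mem _ hw, by rw [map_smul, smul_eq_mul, inv_mul_cancel₀ hne'],
        ⟨hmap u u e hue, hmap _ _ e' (by rw [map_smul, hwe, smul_comm])⟩, fun v' h3 h4 => ?_⟩
      have key : ∀ a (d : F), a ≠ 0 → L a = d • a → B a v' = 0 → B a (L v') = 0 := fun a d ha had h => by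
        have h5 := hiso a v'
        rw [had, map_smul, LinearMap.smul_apply, smul_eq_mul, h, mul_eq_zero] at h5
        refine h5.resolve_left fun hd => ha (hinj ?_)
        rw [had, hd, zero_smul, map_zero]
      refine ⟨key u e hu0 hue h3, key _ e' (smul_ne_zero (inv_ne_zero hne') fun hw0 => hne' ?_)
        (by rw [map_smul, hwe, smul_comm]) h4⟩
      rw [hw0, map_zero])
    exact ⟨U, W, hc, hU, hW, .inl ⟨Submodule.eq_of_le_of_finrank_eq h1
      (Submodule.equivMapOfInjective L hinj U).finrank_eq.symm, Submodule.eq_of_le_of_finrank_eq h2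
      (Submodule.equivMapOfInjective L hinj W).finrank_eq.symm⟩⟩
  push Not at hz
  obtain ⟨U, W, hc, hU, hW, h1, h2⟩ := finish (fun U W => U.map L ≤ W ∧ W.map L ≤ U) (by simp)
    (fun U W U' W' h h' => ⟨(Submodule.map_sup _ _ _).trans_le (sup_le_sup h.1 h'.1),
      (Submodule.map_sup _ _ _).trans_le (sup_le_sup h.2 h'.2)⟩) (by
    intro P hP hinv hnd
    have hzz : ∀ a b, B a b ≠ 0 → z * z = 1 := fun a b h => by
      have h' := hiso (L a) (L b)
      rw [hL, hL, hiso, map_smul, map_smul, LinearMap.smul_apply, smul_eq_mul, smul_eq_mul] at h'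
      exact mul_right_cancel₀ h (by linear_combination h')
    obtain ⟨u, hu, hne⟩ : ∃ u ∈ P, B u (L u) ≠ 0 := by
      by_contra hno
      push Not at hno
      obtain ⟨a, ha, ha0⟩ := P.exists_mem_ne_zero_of_ne_bot hP
      obtain ⟨b, hb, hab⟩ := hnd (L a) (hinv a ha) fun h => ha0 (hinj (by rw [h, map_zero]))
      have hz1 : z = -1 := by
        have h1 := hzz _ _ hab
        have : (z + 1) * (z - 1) = 0 := by linear_combination h1
        exact (mul_eq_zero.1 this).elim eq_neg_of_add_eq_zero_left fun h => absurd ((one_mul (1:F)).trans (sub_eq_zero.1 h).symm) (hz 1)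
      have h := hno (a + b) (add_mem ha hb)
      have h' : B a (L b) = -B b (L a) := by
        simp only [map_add, LinearMap.add_apply, hno a ha, hno b hb] at h
        linear_combination h
      have h'' : B a (L b) = z * B (L a) b := by
        rw [← hiso a (L b), hL, map_smul, smul_eq_mul]
      exact hab (mul_left_cancel₀ h2 (by rw [mul_zero]; linear_combination h'' - h' + sk (L a) b + hz1 * B (L a) b))
    refine ⟨u, hu, (B u (L u))⁻¹ • L u, P.smul_mem _ (hinv u hu),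
      by rw [map_smul, smul_eq_mul, inv_mul_cancel₀ hne],
      ⟨hmap _ _ (B u (L u)) (by rw [smul_inv_smul₀ hne]),
        hmap _ _ ((B u (L u))⁻¹ * z) (by rw [map_smul, hL, smul_smul])⟩,
      fun v h3 h4 => ?_⟩
    have h5 : B (L u) v = 0 := by
      rw [map_smul, LinearMap.smul_apply, smul_eq_mul] at h4
      exact (mul_eq_zero.1 h4).resolve_left (inv_ne_zero hne)
    have h6 := hiso (L u) v
    rw [hL, map_smul, LinearMap.smul_apply, smul_eq_mul, h5, mul_eq_zero] at h6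
    refine ⟨h6.resolve_left fun h => ?_, ?_⟩
    · exact hz 0 (by rw [mul_zero, h])
    · rw [map_smul, LinearMap.smul_apply, hiso, h3, smul_zero])
  have e1 := Submodule.finrank_mono h1
  have e2 := Submodule.finrank_mono h2
  have f1 := (Submodule.equivMapOfInjective L hinj U).finrank_eq
  have f2 := (Submodule.equivMapOfInjective L hinj W).finrank_eq
  exact ⟨U, W, hc, hU, hW, .inr ⟨Submodule.eq_of_le_of_finrank_eq h1 (by omega),
    Submodule.eq_of_le_of_finrank_eq h2 (by omega)⟩⟩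

end CfsgLib.MaxSub.InvolPolar
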