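import Mathlib
import Cfsg.Agent.Lib.Classical.SemiNorm

/-!
Two invariant sesquilinear forms of the same symmetry of an automorphism `f` with `f - f⁻¹` invertible differ by an
element commuting with `f`.
-/

set_option autoImplicit false

namespace CfsgLib.MaxSub.IsoComm

universe u v

variable {F : Type u} [Field F] [Finite F] {V : Type v} [AddCommGroup V] [Module F V] [FiniteDimensional F V]
  {σ : F →+* F}

theorem exists_rel (B₁ B₂ : V →ₛₗ[σ] V →ₗ[F] F) (h₁ : ∀ x, (∀ y, B₁ x y = 0) → x = 0) :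
    ∃ S : V →ₗ[F] V, ∀ u v, B₁ (S u) v = B₂ u v := by
  haveI : Finite V := Module.finite_of_finite F
  haveI : Finite (Module.Dual F V) := Module.finite_of_finite F
  have hinj : Function.Injective B₁ := fun x y h =>
    sub_eq_zero.1 (h₁ _ fun z => by rw [map_sub, LinearMap.sub_apply, h, sub_self])
  have hbij : Function.Bijective B₁ := hinj.bijective_of_nat_card_le (by
    rw [Module.natCard_eq_pow_finrank (K := F), Module.natCard_eq_pow_finrank (K := F) (V := V),
      Subspace.dual_finrank_eq])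
  let s : V → V := fun u => Function.surjInv hbij.2 (B₂ u)
  have hs : ∀ u, B₁ (s u) = B₂ u := fun u => Function.surjInv_eq hbij.2 _
  refine ⟨{ toFun := s
            map_add' := fun x y => hinj (by rw [map_add, hs, hs, hs, map_add])
            map_smul' := fun c x => hinj (by rw [RingHom.id_apply, map_smulₛₗ, hs, hs, map_smulₛₗ]) },
    fun u v => LinearMap.congr_fun (hs u) v⟩

theorem exists_comm (B₁ B₂ : V →ₛₗ[σ] V →ₗ[F] F) (f : V ≃ₗ[F] V) {ε : F} (hε : ε * σ ε = 1)
    (hσ : ∀ a, σ (σ a) = a) (s₁ : ∀ u v, B₁ v u = ε * σ (B₁ u v)) (s₂ : ∀ u v, B₂ v u = ε * σ (B₂ u v))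
    (h₁ : ∀ x, (∀ y, B₁ x y = 0) → x = 0) (h₂ : ∀ x, (∀ y, B₂ x y = 0) → x = 0)
    (i₁ : ∀ u v, B₁ (f u) (f v) = B₁ u v) (i₂ : ∀ u v, B₂ (f u) (f v) = B₂ u v)
    (hf : ∀ v, f v = f.symm v → v = 0) :
    ∃ e : V ≃ₗ[F] V, (∀ v, e (f v) = f (e v)) ∧ ∀ u v, B₁ (e u) (e v) = B₂ u v := by
  haveI : Finite V := Module.finite_of_finite F
  haveI : Finite (Module.End F V) := Finite.of_injective _ DFunLike.coe_injective
  obtain ⟨S, hS⟩ := exists_rel B₁ B₂ h₁
  have hext : ∀ X Y : Module.End F V, (∀ u v, B₁ (X u) v = B₁ (Y u) v) → X = Y := fun X Y h =>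
    LinearMap.ext fun u => sub_eq_zero.1 (h₁ _ fun v => by
      rw [map_sub, LinearMap.sub_apply, h, sub_self])
  have hex : ∀ X : Module.End F V, ∃ Y : Module.End F V, ∀ u v, B₁ (Y u) v = B₁ u (X v) := fun X =>
    exists_rel B₁ (B₁.compl₂ X) h₁
  choose t ht using hex
  let τ : Module.End F V →+ Module.End F V := AddMonoidHom.mk' t fun X Y => hext _ _ fun u v => by
    rw [ht, LinearMap.add_apply, map_add, ← ht X, ← ht Y, LinearMap.add_apply, map_add, LinearMap.add_apply]
  have hτ : ∀ X u v, B₁ (τ X u) v = B₁ u (X v) := ht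
  let fe : Module.End F V := f.toLinearMap
  let fi : Module.End F V := f.symm.toLinearMap
  have hunit : ∀ X : Module.End F V, (∀ v, X v = 0 → v = 0) → IsUnit X := fun X h => by
    have hi : Function.Injective X := (injective_iff_map_eq_zero X).2 h
    exact (Module.End.isUnit_iff X).2 ⟨hi, LinearMap.injective_iff_surjective.1 hi⟩
  have hSu : IsUnit (S : Module.End F V) := hunit S fun v hv => h₂ v fun w => by
    rw [← hS, hv, map_zero, LinearMap.zero_apply]
  have hτS : τ S = S := hext _ _ fun u v => by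
    rw [hτ, s₁ (S v) u, hS, hS, s₂ u v, map_mul, hσ, ← mul_assoc, hε, one_mul]
  have hτf : τ fe = fi := hext _ _ fun u v => by
    rw [hτ]
    show B₁ u (f v) = B₁ (f.symm u) v
    rw [← i₁ (f.symm u) v, f.apply_symm_apply]
  have hτfi : τ fi = fe := hext _ _ fun u v => by
    rw [hτ]
    show B₁ u (f.symm v) = B₁ (f u) v
    rw [← i₁ u (f.symm v), f.apply_symm_apply]
  have hSf : Commute (S : Module.End F V) fe := hext _ _ fun u v => by
    show B₁ (S (f u)) v = B₁ (f (S u)) v
    rw [hS]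
    conv_rhs => rw [← f.apply_symm_apply v, i₁, hS]
    conv_lhs => rw [← f.apply_symm_apply v, i₂]
  have hff : fe * fi = 1 := LinearMap.ext fun v => f.apply_symm_apply v
  have hff' : fi * fe = 1 := LinearMap.ext fun v => f.symm_apply_apply v
  have hθ : Commute fe fi := hff.trans hff'.symm
  have hSfi : Commute (S : Module.End F V) fi := Commute.units_inv_right (u := ⟨fe, fi, hff, hff'⟩) hSf
  obtain ⟨e, he, hc⟩ := CfsgLib.Classical.SemiNorm.exists_star_mul τ
    (hext _ _ fun u v => by rw [hτ]; rfl)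
    (fun X Y => hext _ _ fun u v => by
      show B₁ (τ (X * Y) u) v = B₁ (τ Y (τ X u)) v
      rw [hτ, hτ, hτ]; rfl)
    hSu hτS hτf hτfi hSf hSfi hθ (hunit _ fun v hv => hf v (sub_eq_zero.1 hv))
  have hB : ∀ u v, B₁ (e u) (e v) = B₂ u v := fun u v => by
    rw [← hτ, ← hS u v, ← he]; rfl
  have hinj : Function.Injective e := (injective_iff_map_eq_zero e).2 fun v hv => h₂ v fun w => by
    rw [← hB, hv, map_zero, LinearMap.zero_apply]
  refine ⟨LinearEquiv.ofInjectiveEndo e hinj, fun v => ?_, fun u v => hB u v⟩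
  exact (LinearMap.congr_fun (hc fe hSf.symm (Commute.refl _) hθ).eq v).symm

end CfsgLib.MaxSub.IsoComm
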