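import Cfsg.Agent.Lib.MaxSub.IsoPieces
import Cfsg.Agent.Lib.Geom.IsoStabHerm
import Cfsg.Agent.Lib.Geom.IsoCount
import Cfsg.Agent.Lib.KnownC.GUPrimeOrderClasses

/-!
Hermitian spaces: totally isotropic subspaces of every dimension, self-duality in terms of the order of `q`, primes
dividing the number of totally isotropic subspaces, unitary elements of order `r` with prescribed types.
-/

set_option autoImplicit false

namespace CfsgLib.MaxSub.IsoHerm

open Polynomial CfsgLib.Classical CfsgLib.Geom CfsgLib.MaxSub.IsoSemi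
open CfsgLib.KnownC (GUPrime.pow_eq_one_of_dvd)

universe u v

variable {F : Type u} [Field F] [Fintype F] {q : ℕ}

theorem geom (hF : Fintype.card F = q ^ 2) (n : ℕ) : Geom (hermB hF n) :=
  ⟨hermB_sep hF, fun x y h => by rw [← hermB_conj hF, h, map_zero]⟩

/-- The norm is onto the fixed field. -/
theorem exists_norm (hF : Fintype.card F = q ^ 2) {a : F} (ha : qFrob hF a = a) : ∃ t : F, qFrob hF t * t = a := by
  rcases eq_or_ne a 0 with rfl | h0
  · exact ⟨0, by simp⟩
  have hq := two_le_of_card_sq hF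
  obtain ⟨g, hg⟩ := IsCyclic.exists_generator (α := Fˣ)
  obtain ⟨k, hk⟩ := (mem_powers_iff_mem_zpowers (x := g)).2 (hg (Units.mk0 a h0))
  have ho : orderOf g = (q - 1) * (q + 1) := by rw [orderOf_eq_card_of_forall_mem_zpowers hg, units_card_sq hF]
  have h1 : (g ^ k) ^ (q - 1) = 1 := by
    rw [show g ^ k = Units.mk0 a h0 from hk]
    refine Units.ext ?_
    rw [qFrob_apply] at ha
    rw [Units.val_pow_eq_pow_val, Units.val_mk0, Units.val_one]
    refine mul_left_cancel₀ h0 ?_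
    rw [← pow_succ', Nat.sub_add_cancel (by omega), ha, mul_one]
  rw [← pow_mul, ← orderOf_dvd_iff_pow_eq_one, ho, mul_comm k] at h1
  obtain ⟨j, hj⟩ := Nat.dvd_of_mul_dvd_mul_left (by omega) h1
  refine ⟨((g ^ j : Fˣ) : F), ?_⟩
  rw [qFrob_apply, ← pow_succ, ← Units.val_pow_eq_pow_val, ← pow_mul, mul_comm, ← hj,
    show g ^ k = Units.mk0 a h0 from hk, Units.val_mk0]

/-- Totally isotropic subspaces of every dimension up to half. -/
theorem exists_ti (hF : Fintype.card F = q ^ 2) {V : Type v} [AddCommGroup V] [Module F V] [FiniteDimensional F V]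
    {B : V →ₛₗ[qFrob hF] V →ₗ[F] F} (hG : Geom B) (hS : ∀ u v, qFrob hF (B u v) = B v u)
    {U : Submodule F V} (hU : ND B U) :
    ∀ k, 2 * k ≤ Module.finrank F U → ∃ W ≤ U, TI B W ∧ Module.finrank F W = k := by
  intro k
  induction k with
  | zero => intro _; exact ⟨⊥, bot_le, ti_bot, finrank_bot F V⟩
  | succ k ih =>
    intro hk
    obtain ⟨W, hWU, hW, hWd⟩ := ih (by omega)
    have h := finrank_inf_perp hG hU hWU
    obtain ⟨C, hC⟩ := W.exists_isCompl
    obtain ⟨Y, hY⟩ : ∃ Y, Y = (U ⊓ perp B W) ⊓ C := ⟨_, rfl⟩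
    have h1 := Submodule.finrank_sup_add_finrank_inf_eq W Y
    have hsup : W ⊔ Y = U ⊓ perp B W := by
      rw [hY, inf_comm _ C, ← sup_inf_assoc_of_le C (le_inf hWU (ti_iff_le_perp.1 hW)), hC.sup_eq_top, top_inf_eq]
    have hWY : W ⊓ Y = ⊥ := le_bot_iff.1 (hC.disjoint.eq_bot ▸ inf_le_inf_left W (hY ▸ inf_le_right))
    rw [hsup, hWY, finrank_bot] at h1
    obtain ⟨v, hv, hv0, hvv⟩ : ∃ v ∈ Y, v ≠ 0 ∧ B v v = 0 := by
      by_contra hno
      push Not at hno
      obtain ⟨u, hu, hu0⟩ := Submodule.exists_mem_ne_zero_of_ne_bot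
        (fun hb => by rw [hb, finrank_bot] at h1; omega : Y ≠ ⊥)
      let L : Y →ₗ[F] F := (B u) ∘ₗ Y.subtype
      have h2 := L.finrank_range_add_finrank_ker
      have h3 := (LinearMap.range L).finrank_le
      rw [Module.finrank_self] at h3
      obtain ⟨w, hw, hw0⟩ := Submodule.exists_mem_ne_zero_of_ne_bot
        (fun hb => by rw [hb, finrank_bot] at h2; omega : LinearMap.ker L ≠ ⊥)
      have huw : B u (w : V) = 0 := hw
      have hwu : B (w : V) u = 0 := hG.refl _ _ huw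
      have hww := hno w w.2 fun e => hw0 (Subtype.ext e)
      have huu := hno u hu hu0
      obtain ⟨t, ht⟩ := exists_norm hF (a := -(B u u / B (w : V) w)) (by rw [map_neg, map_div₀, hS, hS])
      refine hno (u + t • (w : V)) (Y.add_mem hu (Y.smul_mem _ w.2)) (fun h0 => huu ?_) ?_
      · have := congrArg (B u) h0
        rwa [map_add, map_smul, huw, smul_zero, add_zero, map_zero] at this
      · simp only [map_add, LinearMap.add_apply, LinearMap.map_smulₛₗ, LinearMap.smul_apply, map_smul, smul_eq_mul,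
          huw, hwu, mul_zero, add_zero, zero_add, RingHom.id_apply]
        field_simp at ht
        linear_combination ht
    have hv' : v ∈ U ⊓ perp B W ∧ v ∈ C := hY.le hv
    refine ⟨W ⊔ Submodule.span F {v}, sup_le hWU ((Submodule.span_singleton_le_iff_mem _ _).2 hv'.1.1),
      ti_sup_span hG hW hv'.1.2 hvv, ?_⟩
    have h2 := Submodule.finrank_sup_add_finrank_inf_eq W (Submodule.span F {v})
    have hinf : W ⊓ Submodule.span F {v} = ⊥ := le_bot_iff.1
      (hC.disjoint.eq_bot ▸ inf_le_inf_left W ((Submodule.span_singleton_le_iff_mem _ _).2 hv'.2))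
    rw [hinf, finrank_bot, finrank_span_singleton hv0, hWd] at h2
    omega

variable {p : ℕ} [Fact p.Prime] [CharP F p] {r : ℕ}

include p in
omit [Fintype F] in
theorem exists_pow_of_card (hF : Nat.card F = q ^ 2) [Finite F] : ∃ a, q = p ^ a := by
  haveI := Fintype.ofFinite F
  obtain ⟨f, -, hf⟩ := FiniteField.card F p
  obtain ⟨a, -, ha⟩ := (Nat.dvd_prime_pow (Fact.out : p.Prime)).1
    (⟨q, by rw [← sq, ← hF, Nat.card_eq_fintype_card, hf]⟩ : q ∣ p ^ (f : ℕ))
  exact ⟨a, ha⟩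

include p in
omit [Fintype F] in
theorem q_ne_zero (hF : Nat.card F = q ^ 2) [Finite F] [hr : Fact r.Prime] (hrp : r ≠ p) :
    (q : ZMod r) ≠ 0 := by
  obtain ⟨a, rfl⟩ := exists_pow_of_card (p := p) (F := F) hF
  rw [Nat.cast_pow]
  exact pow_ne_zero _ fun h => hrp ((Nat.prime_dvd_prime_iff_eq hr.out Fact.out).1
    ((ZMod.natCast_eq_zero_iff p r).1 h))

section

variable [hr : Fact r.Prime] {i b : ℕ}

omit [Fintype F] in
theorem ord_pos_of_ne_zero (hq0 : (q : ZMod r) ≠ 0) (hi : i = orderOf (q : ZMod r)) : 0 < i :=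
  hi ▸ (isOfFinOrder_iff_pow_eq_one.2
    ⟨r - 1, by have := hr.out.two_le; omega, ZMod.pow_card_sub_one_eq_one hq0⟩).orderOf_pos

/-- `b` is the order of `q ^ 2`. -/
theorem b_eq_order (hF : Fintype.card F = q ^ 2) (hi : i = orderOf (q : ZMod r))
    (hb : b = if Even i then i / 2 else i) : b = orderOf (Fintype.card F : ZMod r) := by
  rw [hF, Nat.cast_pow, orderOf_pow' _ two_ne_zero, ← hi, hb]
  split_ifs with h
  · rw [Nat.gcd_eq_right (Nat.dvd_of_mod_eq_zero (Nat.even_iff.1 h))]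
  · rw [(Nat.coprime_two_right.2 (Nat.not_even_iff_odd.1 h)).gcd_eq_one, Nat.div_one]

/-- Self-duality for the Hermitian form. -/
theorem sd_iff (hF : Fintype.card F = q ^ 2) (hr2 : r ≠ 2) (hq0 : (q : ZMod r) ≠ 0)
    (hi : i = orderOf (q : ZMod r)) : SelfDual (Fintype.card F) q r ↔ i % 4 = 2 := by
  have h2 : (2 : ZMod r) ≠ 0 := fun h => hr2 ((Nat.prime_dvd_prime_iff_eq hr.out Nat.prime_two).1
    ((ZMod.natCast_eq_zero_iff 2 r).1 (by exact_mod_cast h)))
  have hfin : IsOfFinOrder (q : ZMod r) := isOfFinOrder_iff_pow_eq_one.2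
    ⟨r - 1, by have := hr.out.two_le; omega, ZMod.pow_card_sub_one_eq_one hq0⟩
  have hi0 : 0 < i := hi ▸ hfin.orderOf_pos
  have key : ∀ j, r ∣ q * Fintype.card F ^ j + 1 ↔ (q : ZMod r) ^ (2 * j + 1) = -1 := fun j => by
    rw [← ZMod.natCast_eq_zero_iff, hF, Nat.cast_add, Nat.cast_mul, Nat.cast_pow, Nat.cast_pow, Nat.cast_one,
      ← pow_mul, ← pow_succ', eq_neg_iff_add_eq_zero]
  have hhalf : Even i → (q : ZMod r) ^ (i / 2) = -1 := fun hev => by
    obtain ⟨u, hu⟩ := hev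
    have h1 : (q : ZMod r) ^ (i / 2) * (q : ZMod r) ^ (i / 2) = 1 := by
      rw [← pow_add, show i / 2 + i / 2 = i by omega, hi, pow_orderOf_eq_one]
    refine (mul_self_eq_one_iff.1 h1).resolve_left fun h => ?_
    have := orderOf_le_of_pow_eq_one (by omega) h
    omega
  constructor
  · rintro ⟨j, hj⟩
    rw [key] at hj
    have hev : Even i := by
      by_contra hodd
      rw [Nat.not_even_iff_odd] at hodd
      have h1 : ((q : ZMod r) ^ (2 * j + 1)) ^ i = 1 := by
        rw [← pow_mul, mul_comm, pow_mul, hi, pow_orderOf_eq_one, one_pow]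
      rw [hj, hodd.neg_one_pow] at h1
      exact h2 (by linear_combination -h1)
    rw [← hhalf hev, hfin.pow_eq_pow_iff_modEq, ← hi] at hj
    obtain ⟨u, hu⟩ := hev
    have h4 : (2 * j + 1) % 2 = (i / 2) % 2 := hj.of_dvd ⟨u, by omega⟩
    omega
  · intro h
    refine ⟨(i / 2) / 2, (key _).2 ?_⟩
    rw [show 2 * ((i / 2) / 2) + 1 = i / 2 by omega, hhalf (Nat.even_iff.2 (by omega))]

include p in
/-- The primes dividing the number of totally isotropic `m`-subspaces. -/
theorem dvd_count_herm (hF : Fintype.card F = q ^ 2) {n m : ℕ} (hm : 2 * m ≤ n)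
    (h : r ∣ Nat.card {W : Submodule F (Fin n → F) //
      Module.finrank F ↥W = m ∧ (∀ u ∈ W, ∀ v ∈ W, Cfsg.hermForm n F q u v = 0)}) :
    r ≠ p ∧ ∃ j < 2 * m, (q : ZMod r) ^ (n - j) = (-1) ^ (n - j) := by
  classical
  have hq := two_le_of_card_sq hF
  have heqv : Nat.card {W : Submodule F (Fin n → F) //
      Module.finrank F ↥W = m ∧ (∀ u ∈ W, ∀ v ∈ W, Cfsg.hermForm n F q u v = 0)} =
      Nat.card {W : Submodule F (Fin n → F) //
      Module.finrank F ↥W = m ∧ (∀ u ∈ W, ∀ v ∈ W, hermB hF n u v = 0)} := by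
    refine Nat.card_congr (Equiv.subtypeEquivRight fun W => ?_)
    simp only [hermB_apply]
    exact ⟨fun h => ⟨h.1, fun u hu v hv => h.2 v hv u hu⟩, fun h => ⟨h.1, fun u hu v hv => h.2 v hv u hu⟩⟩
  rw [heqv] at h
  obtain ⟨W, -, hW, hWm⟩ := exists_ti hF (geom hF n) (hermB_conj hF) (U := ⊤)
    (fun u _ hu => hermB_sep hF u fun v => hu v trivial) m (by simpa using hm)
  have hcount := card_isotropic_mul (hermB hF n) (hasWittExt_hermB hF n) W hWm hW
  rw [card_isomStab_herm hF n m hm W hWm hW, ← Nat.card_congr (guEquiv hF n).toEquiv, card_gu hF] at hcount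
  obtain ⟨G, hG⟩ : ∃ G : ℕ → ℕ, G = fun i => if Even i then q ^ (i + 1) + 1 else q ^ (i + 1) - 1 := ⟨_, rfl⟩
  have hG' : ∀ i, G i = if Even i then q ^ (i + 1) + 1 else q ^ (i + 1) - 1 := fun i => by rw [hG]
  simp only [← hG'] at hcount
  obtain ⟨P, hP⟩ : ∃ P, P = ∏ i ∈ Finset.range (n - 2 * m), G i := ⟨_, rfl⟩
  have hP0 : P ≠ 0 := by
    rw [hP, Finset.prod_ne_zero_iff]
    intro i _
    have : 1 < q ^ (i + 1) := Nat.one_lt_pow (by omega) (by omega)
    rw [hG']
    split_ifs <;> omega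
  have hsplit : ∏ i ∈ Finset.range n, G i = P * ∏ i ∈ Finset.range (2 * m), G (n - 2 * m + i) := by
    rw [hP, ← Finset.prod_range_add, Nat.sub_add_cancel hm]
  have hGL : ∏ i : Fin m, ((q ^ 2) ^ m - (q ^ 2) ^ (i : ℕ)) =
      q ^ (2 * ∑ i ∈ Finset.range m, i) * ∏ i ∈ Finset.range m, ((q ^ 2) ^ (m - i) - 1) := by
    rw [Fin.prod_univ_eq_prod_range (fun i => (q ^ 2) ^ m - (q ^ 2) ^ i), pow_mul,
      ← Finset.prod_pow_eq_pow_sum, ← Finset.prod_mul_distrib]
    refine Finset.prod_congr rfl fun i hi => ?_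
    rw [Finset.mem_range] at hi
    rw [Nat.mul_sub, mul_one, ← pow_add, Nat.add_sub_cancel' hi.le]
  have hexp : 2 * (∑ i ∈ Finset.range m, i) + m * (2 * n - 3 * m) + (n - 2 * m) * (n - 2 * m - 1) / 2 =
      n * (n - 1) / 2 := by
    obtain ⟨l, rfl⟩ : ∃ l, n = 2 * m + l := ⟨n - 2 * m, by omega⟩
    rw [Nat.add_sub_cancel_left, show 2 * (2 * m + l) - 3 * m = m + 2 * l by omega]
    have e1 := Finset.sum_range_id_mul_two m
    rw [← Finset.sum_range_id l, ← Finset.sum_range_id (2 * m + l)]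
    have e2 := Finset.sum_range_id_mul_two l
    have e3 := Finset.sum_range_id_mul_two (2 * m + l)
    rcases Nat.eq_zero_or_pos m with rfl | hm0
    · simp
    obtain ⟨m', rfl⟩ : ∃ m', m = m' + 1 := ⟨m - 1, by omega⟩
    rcases Nat.eq_zero_or_pos l with rfl | hl
    · simp only [Finset.range_zero, Finset.sum_empty, add_zero, mul_zero] at *
      rw [show 2 * (m' + 1) - 1 = 2 * m' + 1 by omega] at e3
      rw [Nat.add_sub_cancel] at e1
      nlinarith
    obtain ⟨l', rfl⟩ : ∃ l', l = l' + 1 := ⟨l - 1, by omega⟩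
    rw [show 2 * (m' + 1) + (l' + 1) - 1 = 2 * m' + l' + 2 by omega] at e3
    rw [Nat.add_sub_cancel] at e1 e2
    nlinarith
  rw [← hP, hsplit, hGL] at hcount
  obtain ⟨N, hN⟩ := h
  rw [hN] at hcount
  have hq0 : q ^ (n * (n - 1) / 2) ≠ 0 := pow_ne_zero _ (by omega)
  have h5 : r ∣ ∏ i ∈ Finset.range (2 * m), G (n - 2 * m + i) := by
    refine ⟨N * ∏ i ∈ Finset.range m, ((q ^ 2) ^ (m - i) - 1),
      Nat.eq_of_mul_eq_mul_right (Nat.pos_of_ne_zero (mul_ne_zero hP0 hq0)) ?_⟩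
    calc _ = q ^ (n * (n - 1) / 2) * (P * ∏ i ∈ Finset.range (2 * m), G (n - 2 * m + i)) := by ring
      _ = _ := by
        rw [← hcount]
        conv_rhs => rw [← hexp, pow_add, pow_add]
        ring
  obtain ⟨i, hi, hdi⟩ := hr.out.prime.exists_mem_finset_dvd h5
  rw [Finset.mem_range] at hi
  have hrp : r ≠ p := by
    rintro rfl
    obtain ⟨a, ha⟩ := exists_pow_of_card (p := r) (F := F) (by rw [Nat.card_eq_fintype_card, hF])
    have hrq : r ∣ q ^ (n - 2 * m + i + 1) := dvd_pow (by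
      rcases Nat.eq_zero_or_pos a with rfl | ha0
      · simp at ha; omega
      · rw [ha]; exact dvd_pow_self r ha0.ne') (by omega)
    rw [hG'] at hdi
    refine hr.out.not_dvd_one ?_
    split_ifs at hdi
    · exact (Nat.dvd_add_right hrq).1 hdi
    · simpa [Nat.sub_sub_self (Nat.one_le_pow _ _ (by omega : 0 < q))] using Nat.dvd_sub hrq hdi
  refine ⟨hrp, 2 * m - 1 - i, by omega, ?_⟩
  rw [show n - (2 * m - 1 - i) = n - 2 * m + i + 1 by omega]
  rw [hG', ← ZMod.natCast_eq_zero_iff] at hdi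
  split_ifs at hdi with hev
  · rw [Nat.cast_add, Nat.cast_pow, Nat.cast_one] at hdi
    rw [hev.add_one.neg_one_pow]
    linear_combination hdi
  · rw [Nat.cast_sub (Nat.one_le_pow _ _ (by omega)), Nat.cast_pow, Nat.cast_one] at hdi
    rw [(Nat.not_even_iff_odd.1 hev).add_one.neg_one_pow]
    linear_combination hdi

include p in
/-- A unitary element with `A ^ r = 1` and given allowed characteristic polynomial. -/
theorem exists_su (hF : Fintype.card F = q ^ 2) (hcop : r.Coprime (q + 1)) {n : ℕ} {f : F[X]} (hf : f.Monic)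
    (hd : f.natDegree = n) (ht : SemiPalin.tilde (qFrob hF) f = f)
    (hall : ∀ Q : F[X], Irreducible Q → Q ∣ f → Q ∣ X ^ r - 1) :
    ∃ A : Matrix.SpecialLinearGroup (Fin n) F, A ∈ Cfsg.SU n F q ∧ A ^ r = 1 ∧
      (Matrix.toLinAlgEquiv' (A : Matrix (Fin n) (Fin n) F)).charpoly = f := by
  have h0 : f.coeff 0 ≠ 0 := fun h0 => by
    have := Polynomial.X_dvd_iff.1 (hall X irreducible_X (Polynomial.X_dvd_iff.2 h0))
    simp [coeff_X_pow, hr.out.ne_zero.symm] at this
  obtain ⟨B, hB, hBo, hBc⟩ := SemiUnitaryExists.exists_gu hF p hf hd h0 ht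
  have hBr : B ^ r = 1 := KnownC.GUPrime.pow_eq_one_of_dvd hBo fun Q _ h2 h3 => hall Q h2 (hBc ▸ h3)
  have hdet : (B : Matrix (Fin n) (Fin n) F).det = 1 := by
    obtain ⟨δ, hδ⟩ : ∃ δ, δ = (B : Matrix (Fin n) (Fin n) F).det := ⟨_, rfl⟩
    have h1 : δ ^ r = 1 := by
      rw [hδ, ← Matrix.det_pow, ← Units.val_pow_eq_pow_val, hBr, Units.val_one, Matrix.det_one]
    have h2 : δ ^ (q + 1) = 1 := by
      have h := congrArg Matrix.det ((SemiUnitary.mem_gu_iff hF B).1 hB)
      rw [Matrix.det_mul, Matrix.det_transpose, Matrix.det_one] at h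
      rw [← RingHom.mapMatrix_apply, ← RingHom.map_det, ← hδ, qFrob_apply] at h
      rw [pow_succ]
      linear_combination h
    rw [← hδ]
    have h3 := pow_gcd_eq_one.2 ⟨h1, h2⟩
    rwa [hcop.gcd_eq_one, pow_one] at h3
  let A : Matrix.SpecialLinearGroup (Fin n) F := ⟨(B : Matrix (Fin n) (Fin n) F), hdet⟩
  refine ⟨A, ?_, ?_, ?_⟩
  · exact hB
  · exact Subtype.ext (by rw [Matrix.SpecialLinearGroup.coe_pow]; exact congrArg Units.val hBr)
  · exact (Matrix.charpoly_toLin' _).trans hBc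

end

end CfsgLib.MaxSub.IsoHerm
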