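import Cfsg.Agent.Lib.MaxSub.IsoType
import Cfsg.Agent.Lib.Geom.FormClass
import Cfsg.Agent.Lib.Geom.WittQuad

/-!
Non-degenerate subspaces of prescribed isometry type, and invariant ones for isometries of odd prime order.
-/

set_option autoImplicit false

namespace CfsgLib.MaxSub.IsoND

open CfsgLib CfsgLib.Classical CfsgLib.Geom CfsgLib.MaxSub.IsoSemi CfsgLib.MaxSub.IsoType CfsgLib.KnownC
  CfsgLib.KnownC.OrthType
open QuadraticMap (polar)

universe u v w

variable {F : Type u} [Field F] [Fintype F] {V : Type v} [AddCommGroup V] [Module F V] [FiniteDimensional F V]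
  {Q : QuadraticForm F V}

omit [Fintype F] [FiniteDimensional F V] in
theorem polar_pres {X : Type w} [AddCommGroup X] [Module F X] {Q₀ : QuadraticForm F X} {φ : X →ₗ[F] V}
    (hφ : ∀ x, Q (φ x) = Q₀ x) (x y : X) : polar Q (φ x) (φ y) = polar Q₀ x y := by
  simp only [QuadraticMap.polar, ← map_add, hφ]

omit [FiniteDimensional F V] in
/-- The image of a separating form under an isometric map. -/
theorem nd_range {X : Type w} [AddCommGroup X] [Module F X] [FiniteDimensional F X] {Q₀ : QuadraticForm F X}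
    (h₀ : ∀ x, (∀ y, polar Q₀ x y = 0) → x = 0) (φ : X →ₗ[F] V) (hφ : ∀ x, Q (φ x) = Q₀ x) :
    ND Q.polarBilin (LinearMap.range φ) ∧ Module.finrank F ↥(LinearMap.range φ) = Module.finrank F X ∧
      ∃ e : X ≃ₗ[F] LinearMap.range φ, ∀ x, Q (e x : V) = Q₀ x := by
  have hinj := injective_of_preserving h₀ φ hφ
  refine ⟨?_, LinearMap.finrank_range_of_inj hinj, LinearEquiv.ofInjective φ hinj, hφ⟩
  rintro _ ⟨x, rfl⟩ h
  rw [h₀ x fun y => (polar_pres hφ x y).symm.trans (h _ ⟨y, rfl⟩), map_zero]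

omit [Fintype F] in
/-- Isometric parts have the same type. -/
theorem hasHalf_congr {X : Type w} [AddCommGroup X] [Module F X] [FiniteDimensional F X] {Q₀ : QuadraticForm F X}
    {W : Submodule F V} (e : X ≃ₗ[F] W) (he : ∀ x, Q (e x : V) = Q₀ x) :
    HasHalf Q W ↔ HasHalf Q₀ ⊤ := by
  constructor
  · rintro ⟨L, hL, hLQ, hLd⟩
    refine ⟨(L.comap W.subtype).map e.symm.toLinearMap, le_top, ?_, ?_⟩
    · rintro _ ⟨y, hy, rfl⟩
      rw [← he]
      exact (congrArg (fun z : W => Q (z : V)) (e.apply_symm_apply y)).trans (hLQ _ hy)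
    · rw [LinearEquiv.finrank_map_eq, (Submodule.comapSubtypeEquivOfLe hL).finrank_eq, hLd, finrank_top, e.finrank_eq]
  · rintro ⟨L, -, hLQ, hLd⟩
    refine ⟨(L.map e.toLinearMap).map W.subtype, Submodule.map_subtype_le W _, ?_, ?_⟩
    · rintro _ ⟨_, ⟨x, hx, rfl⟩, rfl⟩
      exact (he x).trans (hLQ x hx)
    · rw [← (Submodule.equivMapOfInjective W.subtype W.injective_subtype _).finrank_eq, LinearEquiv.finrank_map_eq,
        hLd, finrank_top, e.finrank_eq]

/-- A standard model of either type in dimension `2 k`. -/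
theorem exists_model_type {k : ℕ} (hk : 1 ≤ k) (η : Prop) : ∃ Q₀ : QuadraticForm F (Fin k ⊕ Fin k → F),
    (∀ x, (∀ y, polar Q₀ x y = 0) → x = 0) ∧ (HasHalf Q₀ ⊤ ↔ η) := by
  by_cases hη : η
  · refine ⟨qfPlus k F, qfPlus_sep k, iff_of_true ((isPlus_iff_hasHalf _ (qfPlus_sep k)
      (OrthPrime.finrank_two k)).1 ⟨LinearEquiv.refl F _, fun _ => rfl⟩) hη⟩
  · obtain ⟨l, rfl⟩ : ∃ l, k = l + 1 := ⟨k - 1, by omega⟩
    obtain ⟨a, b, hab⟩ := exists_anisotropic_binary (F := F)
    let e : (Fin (l + 1) ⊕ Fin (l + 1) → F) ≃ₗ[F] ((Fin l ⊕ Fin l) ⊕ Fin 2 → F) :=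
      LinearEquiv.ofFinrankEq _ _ (by simp; omega)
    refine ⟨(qfMinus l F a b).comp e.toLinearMap, fun x hx => ?_, iff_of_false (fun h => ?_) hη⟩
    · refine e.map_eq_zero_iff.1 (qfMinus_sep l hab _ fun y => ?_)
      have := hx (e.symm y)
      simpa [QuadraticMap.polar] using this
    · obtain ⟨W, -, hW, hWd⟩ := h
      rw [finrank_top, OrthPrime.finrank_two] at hWd
      have := OmegaElem.minus_ts_le l hab (W := W.map e.toLinearMap) (by
        rintro _ ⟨w, hw, rfl⟩; exact hW w hw)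
      rw [LinearEquiv.finrank_map_eq] at this
      omega

variable (hQ : ∀ x, (∀ y, polar Q x y = 0) → x = 0)

omit [Fintype F] in
include hQ in
/-- A subspace of a non-degenerate part and its orthogonal in it. -/
theorem split_in {U W : Submodule F V} [Finite F] (hU : ND Q.polarBilin U) (hW : ND Q.polarBilin W) (hWU : W ≤ U) :
    ND Q.polarBilin (U ⊓ perp Q.polarBilin W) ∧ W ⊔ (U ⊓ perp Q.polarBilin W) = U ∧
      Module.finrank F W + Module.finrank F ↥(U ⊓ perp Q.polarBilin W) = Module.finrank F U := by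
  haveI := Fintype.ofFinite F
  have hG := IsoOrth.geom hQ
  refine ⟨nd_inf_perp hG hU hW hWU, ?_, ?_⟩
  · rw [inf_comm, ← sup_inf_assoc_of_le _ hWU, (isCompl_perp hG hW).sup_eq_top, top_inf_eq]
  · have := finrank_inf_perp hG hU hWU
    omega

include hQ in
/-- Subspaces of either type strictly inside a part of even dimension. -/
theorem exists_typed_even {U : Submodule F V} (hU : ND Q.polarBilin U) {d k : ℕ}
    (hd : Module.finrank F U = 2 * d) (hk : 1 ≤ k) (hkd : k < d) (η : Prop) :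
    ∃ W ≤ U, ND Q.polarBilin W ∧ Module.finrank F W = 2 * k ∧ (HasHalf Q W ↔ η) := by
  have hsep := sep_comp hU
  obtain ⟨Q₀, h₀, hη⟩ := exists_model_type (F := F) hk η
  obtain ⟨φ, hφ⟩ : ∃ φ : (Fin k ⊕ Fin k → F) →ₗ[F] U, ∀ x, (Q.comp U.subtype) (φ x) = Q₀ x := by
    obtain ⟨a, b, hab⟩ := exists_anisotropic_binary (F := F)
    rcases dichotomy Q₀ h₀ (OrthPrime.finrank_two k) with ⟨e, he⟩ | ⟨l, rfl, hM⟩
    · rcases dichotomy _ hsep hd with ⟨f, hf⟩ | ⟨L, rfl, hN⟩
      · obtain ⟨ψ, hψ⟩ := embed_plus_plus (F := F) hkd.le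
        exact ⟨f.toLinearMap ∘ₗ ψ ∘ₗ e.symm.toLinearMap, fun x => by
          rw [LinearMap.comp_apply, LinearMap.comp_apply, LinearEquiv.coe_coe, hf, hψ, ← he]
          exact congrArg Q₀ (e.apply_symm_apply x)⟩
      · obtain ⟨f, hf⟩ := hN a b hab
        obtain ⟨ψ, hψ⟩ := embed_plus_minus (F := F) (show k ≤ L by omega) a b
        exact ⟨f.toLinearMap ∘ₗ ψ ∘ₗ e.symm.toLinearMap, fun x => by
          rw [LinearMap.comp_apply, LinearMap.comp_apply, LinearEquiv.coe_coe, hf, hψ, ← he]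
          exact congrArg Q₀ (e.apply_symm_apply x)⟩
    · obtain ⟨e, he⟩ := hM a b hab
      rcases dichotomy _ hsep hd with ⟨f, hf⟩ | ⟨L, rfl, hN⟩
      · obtain ⟨ψ, hψ⟩ := embed_minus_plus (F := F) (show l + 2 ≤ d by omega) a b
        exact ⟨f.toLinearMap ∘ₗ ψ ∘ₗ e.symm.toLinearMap, fun x => by
          rw [LinearMap.comp_apply, LinearMap.comp_apply, LinearEquiv.coe_coe, hf, hψ, ← he]
          exact congrArg Q₀ (e.apply_symm_apply x)⟩
      · obtain ⟨f, hf⟩ := hN a b hab
        obtain ⟨ψ, hψ⟩ := embed_minus_minus (F := F) (show l ≤ L by omega) a b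
        exact ⟨f.toLinearMap ∘ₗ ψ ∘ₗ e.symm.toLinearMap, fun x => by
          rw [LinearMap.comp_apply, LinearMap.comp_apply, LinearEquiv.coe_coe, hf, hψ, ← he]
          exact congrArg Q₀ (e.apply_symm_apply x)⟩
  obtain ⟨hnd, hdim, e, he⟩ := nd_range h₀ (U.subtype ∘ₗ φ) hφ
  exact ⟨_, (LinearMap.range_comp_le_range _ _).trans (Submodule.range_subtype U).le, hnd,
    hdim.trans (OrthPrime.finrank_two k), (hasHalf_congr e he).trans hη⟩

/-- In odd characteristic every smaller form occurs. -/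
theorem embed_small (h2 : (2 : F) ≠ 0) {X : Type w} [AddCommGroup X] [Module F X] [FiniteDimensional F X]
    {Q₀ : QuadraticForm F X} (h₀ : ∀ x, (∀ y, polar Q₀ x y = 0) → x = 0) {U : Submodule F V} (hU : ND Q.polarBilin U) (h : Module.finrank F X < Module.finrank F U) :
    ∃ φ : X →ₗ[F] V, (∀ x, φ x ∈ U) ∧ ∀ x, Q (φ x) = Q₀ x := by
  classical
  rcases Nat.eq_zero_or_pos (Module.finrank F X) with h0 | hpos
  · haveI := (Module.finrank_zero_iff (R := F) (M := X)).1 h0
    exact ⟨0, fun x => U.zero_mem, fun x => by rw [Subsingleton.elim x 0, map_zero, map_zero, map_zero]⟩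
  obtain ⟨k, hk⟩ : ∃ k, Module.finrank F X = k + 1 := ⟨_, (Nat.sub_add_cancel hpos).symm⟩
  obtain ⟨N, hN⟩ : ∃ N, Module.finrank F U = k + 1 + (N + 1) := ⟨Module.finrank F U - (k + 2), by omega⟩
  obtain ⟨bX, dX, hdX, hbX, hbXv⟩ := exists_normal_basis Q₀ h2 h₀ hk
  obtain ⟨bU, dU, hdU, hbU, hbUv⟩ := exists_normal_basis (Q.comp U.subtype) h2 (sep_comp hU)
    (n := k + 1 + N) (by omega)
  let g : Fin k → U := fun j => bU ⟨j, by omega⟩
  obtain ⟨i₀, hi₀⟩ : ∃ i : Fin (k + 1 + N + 1), (i : ℕ) = k := ⟨⟨k, by omega⟩, rfl⟩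
  obtain ⟨i₁, hi₁⟩ : ∃ i : Fin (k + 1 + N + 1), i = Fin.last _ := ⟨_, rfl⟩
  have hne : i₀ ≠ i₁ := fun e => by rw [e, hi₁, Fin.val_last] at hi₀; omega
  have h1 : (Q.comp U.subtype) (bU i₀) = 1 := by
    rw [hbUv, if_neg fun e => hne (e.trans hi₁.symm)]
  have h1' : (Q.comp U.subtype) (bU i₁) = dU := by rw [hbUv, if_pos hi₁]
  obtain ⟨x, y, hxy⟩ := exists_binary_eq (F := F) h2 one_ne_zero hdU dX
  let last : U := x • bU i₀ + y • bU i₁
  have hlast : (Q.comp U.subtype) last = dX := by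
    rw [QuadraticMap.map_add (Q.comp U.subtype), QuadraticMap.map_smul, QuadraticMap.map_smul,
      QuadraticMap.polar_smul_left, QuadraticMap.polar_smul_right, h1, h1', hbU i₀ i₁ hne]
    simp only [smul_eq_mul]
    linear_combination hxy
  let v : Fin (k + 1) → U := Fin.snoc g last
  have hv : ∀ i, (Q.comp U.subtype) (v i) = Q₀ (bX i) := fun i => by
    rw [hbXv]
    refine Fin.lastCases ?_ (fun j => ?_) i
    · simp [v, hlast]
    · rw [if_neg (Fin.castSucc_ne_last j)]
      simp only [v, Fin.snoc_castSucc, g]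
      rw [hbUv, if_neg fun e => by have := congrArg Fin.val e; simp at this; omega]
  have hvp : ∀ i j, i ≠ j → polar (Q.comp U.subtype) (v i) (v j) = 0 := by
    have hg : ∀ j : Fin k, polar (Q.comp U.subtype) (g j) last = 0 := fun j => by
      rw [QuadraticMap.polar_add_right, QuadraticMap.polar_smul_right, QuadraticMap.polar_smul_right,
        hbU _ i₀ (fun e => by have := congrArg Fin.val e; simp at this; omega),
        hbU _ i₁ (fun e => by have := congrArg Fin.val e; rw [hi₁] at this; simp at this; omega), smul_zero,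
        smul_zero, add_zero]
    intro i j hij
    induction i using Fin.lastCases with
    | last =>
      induction j using Fin.lastCases with
      | last => exact absurd rfl hij
      | cast j => simp only [v, Fin.snoc_last, Fin.snoc_castSucc]; rw [QuadraticMap.polar_comm]; exact hg j
    | cast i =>
      induction j using Fin.lastCases with
      | last => simp only [v, Fin.snoc_last, Fin.snoc_castSucc]; exact hg i
      | cast j =>
        simp only [v, Fin.snoc_castSucc, g]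
        exact hbU _ _ fun e => hij (congrArg Fin.castSucc (Fin.ext (congrArg Fin.val e :)))
  obtain ⟨ψ, hψ⟩ : ∃ ψ : X →ₗ[F] U, ψ = bX.constr F v := ⟨_, rfl⟩
  refine ⟨U.subtype ∘ₗ ψ, fun x => (ψ x).2, fun z => ?_⟩
  have hpol : (Q.comp U.subtype).polarBilin.compl₁₂ ψ ψ = Q₀.polarBilin := bX.ext fun i => bX.ext fun j => by
    rw [LinearMap.compl₁₂_apply, hψ, Module.Basis.constr_basis, Module.Basis.constr_basis,
      QuadraticMap.polarBilin_apply_apply, QuadraticMap.polarBilin_apply_apply]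
    by_cases hij : i = j
    · rw [hij, polar_self_two, polar_self_two, hv]
    · rw [hvp i j hij, hbX i j hij]
  have h := LinearMap.congr_fun (LinearMap.congr_fun hpol z) z
  rw [LinearMap.compl₁₂_apply, QuadraticMap.polarBilin_apply_apply, QuadraticMap.polarBilin_apply_apply,
    polar_self_two, polar_self_two] at h
  exact mul_left_cancel₀ h2 h

include hQ in
/-- Filling a prescribed form from two orthogonal parts. -/
theorem fill (h2 : (2 : F) ≠ 0) {X : Type w} [AddCommGroup X] [Module F X] [FiniteDimensional F X]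
    {Q₀ : QuadraticForm F X} (h₀ : ∀ x, (∀ y, polar Q₀ x y = 0) → x = 0) {U₁ : Submodule F V}
    (hU₁ : ND Q.polarBilin U₁) {W₂ : Submodule F V} (hW₂ : ND Q.polarBilin W₂)
    (hperp : U₁ ≤ perp Q.polarBilin W₂) (hlt : Module.finrank F W₂ < Module.finrank F X)
    (h1 : Module.finrank F X < Module.finrank F W₂ + Module.finrank F U₁) :
    ∃ W₁ ≤ U₁, ND Q.polarBilin W₁ ∧ Module.finrank F W₁ + Module.finrank F W₂ = Module.finrank F X ∧
      ∃ e : X ≃ₗ[F] ↥(W₂ ⊔ W₁), ∀ x, Q (e x : V) = Q₀ x := by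
  have hG₀ := IsoOrth.geom h₀
  have htop : ND Q₀.polarBilin (⊤ : Submodule F X) := fun u _ hu => hG₀.sep u fun y => hu y trivial
  obtain ⟨ψ, -, hψ⟩ := embed_small h2 (sep_comp hW₂) htop (by rw [finrank_top]; exact hlt)
  obtain ⟨hS, hSd, e₂, he₂⟩ := nd_range (sep_comp hW₂) ψ hψ
  obtain ⟨Y, hY⟩ : ∃ Y, Y = perp Q₀.polarBilin (LinearMap.range ψ) := ⟨_, rfl⟩
  have hYd : Module.finrank F Y + Module.finrank F W₂ = Module.finrank F X := by
    have := finrank_perp hG₀ (LinearMap.range ψ)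
    rw [← hY, hSd] at this
    omega
  have hYnd : ND Q₀.polarBilin Y := hY ▸ nd_perp hG₀ hS
  obtain ⟨φ, hφU, hφ⟩ := embed_small (Q := Q) h2 (sep_comp hYnd) hU₁ (by omega)
  obtain ⟨hW₁, hW₁d, e₁, he₁⟩ := nd_range (sep_comp hYnd) φ hφ
  have hle : LinearMap.range φ ≤ U₁ := by rintro _ ⟨y, rfl⟩; exact hφU y
  refine ⟨_, hle, hW₁, by rw [hW₁d]; exact hYd, ?_⟩
  have hc : IsCompl (LinearMap.range ψ) Y := hY ▸ isCompl_perp hG₀ hS
  let χ : X →ₗ[F] V :=
    (W₂.subtype ∘ₗ e₂.symm.toLinearMap).coprod φ ∘ₗ (Submodule.prodEquivOfIsCompl _ _ hc).symm.toLinearMap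
  have hχ : ∀ x, Q (χ x) = Q₀ x := fun x => by
    obtain ⟨⟨s, y⟩, rfl⟩ := (Submodule.prodEquivOfIsCompl _ _ hc).surjective x
    simp only [χ, LinearMap.comp_apply, LinearEquiv.coe_coe, LinearEquiv.symm_apply_apply, LinearMap.coprod_apply,
      Submodule.coe_subtype]
    rw [show (Submodule.prodEquivOfIsCompl _ _ hc) (s, y) = (s : X) + (y : X) from
      Submodule.coe_prodEquivOfIsCompl' _ _ _ _]
    have hs : Q₀ (s : X) = Q ((e₂.symm s : W₂) : V) := by
      have := he₂ (e₂.symm s)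
      rwa [LinearEquiv.apply_symm_apply] at this
    have hp : polar Q ((e₂.symm s : W₂) : V) (φ y) = 0 := hperp (hφU y) _ (e₂.symm s).2
    have hy : (y : X) ∈ perp Q₀.polarBilin (LinearMap.range ψ) := hY.le y.2
    have hp' : polar Q₀ (s : X) (y : X) = 0 := hy _ s.2
    rw [QuadraticMap.map_add Q, QuadraticMap.map_add Q₀, hp, hp', hφ, hs]
    rfl
  have hrange : LinearMap.range χ = W₂ ⊔ LinearMap.range φ := by
    simp only [χ]
    rw [LinearMap.range_comp, LinearEquiv.range, Submodule.map_top, LinearMap.range_coprod, LinearMap.range_comp,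
      LinearEquiv.range, Submodule.map_top, Submodule.range_subtype]
  obtain ⟨-, -, e, he⟩ := nd_range h₀ χ hχ
  exact ⟨e.trans (LinearEquiv.ofEq _ _ hrange), fun x => he x⟩

section

variable {p : ℕ} [Fact p.Prime] [CharP F p] {r : ℕ} {T : Module.End F V} (hC : Ctx Q.polarBilin T r)
  (hT : ∀ v, Q (T v) = Q v)
include hQ hC hT

include p in
/-- The type of an invariant non-degenerate part of the moving space. -/
theorem part_type {U : Submodule F V} (hU : ND Q.polarBilin U) (hUi : U.map T ≤ U)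
    (hUR : U ≤ LinearMap.range (T - 1)) {c b : ℕ}
    (hc : c = if Even (orderOf (Fintype.card F : ZMod r)) then orderOf (Fintype.card F : ZMod r)
      else 2 * orderOf (Fintype.card F : ZMod r))
    (hd : Module.finrank F U = c * b) :
    HasHalf Q U ↔ (Odd (orderOf (Fintype.card F : ZMod r)) ∨ Even b) := by
  haveI : Fact r.Prime := ⟨hC.prime⟩
  obtain ⟨i, hi⟩ : ∃ i, i = orderOf (Fintype.card F : ZMod r) := ⟨_, rfl⟩
  rw [← hi] at hc ⊢
  have hipos : 0 < i := hi ▸ ord_pos hC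
  rcases Nat.even_or_odd i with hev | ho
  swap
  · refine iff_of_true ?_ (Or.inl ho)
    have hnsd : ¬ SelfDual (Fintype.card F) (p ^ 0) r := fun h => Nat.not_even_iff_odd.2 ho
      ((IsoOrth.sd_iff hi hC.rne2 hipos).1 h)
    obtain ⟨W, hWU, hWi, hW, -, hWe⟩ := exists_max (p := p) (c := 0) hC (fun x => by simp) hU hUi hUR
    exact ⟨W, hWU, IsoOrth.ts_of_ti_mov hT hC hWi (hWU.trans hUR) hW, by rw [hWe hnsd]⟩
  rw [if_pos hev] at hc
  subst hc
  rw [or_iff_right (Nat.not_odd_iff_even.2 hev)]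
  have hi2 : 2 ≤ c := by obtain ⟨k, hk⟩ := hev; omega
  obtain ⟨s, hs⟩ := hev
  rcases Nat.eq_zero_or_pos b with rfl | hbpos
  · rw [mul_zero] at hd
    rw [Submodule.finrank_eq_zero.1 hd]
    exact iff_of_true (hasHalf_bot Q) Even.zero
  have hdU : Module.finrank F U = 2 * (s * b) := by rw [hd, hs]; ring
  let g₀ : Module.End F U := T.restrict fun x hx => apply_mem hUi hx
  have hinj : Function.Injective g₀ := (injective_iff_map_eq_zero g₀).2 fun x hx =>
    Subtype.ext (eq_zero_of_apply hC (congrArg Subtype.val hx))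
  let g : U ≃ₗ[F] U := LinearEquiv.ofBijective g₀ ⟨hinj, LinearMap.injective_iff_surjective.1 hinj⟩
  have hgpow : ∀ (j : ℕ) (x : U), (((g ^ j) x : U) : V) = (T ^ j) (x : V) := fun j x => by
    induction j with
    | zero => rfl
    | succ j ih => rw [pow_succ', pow_succ', LinearEquiv.mul_apply, Module.End.mul_apply, ← ih]; rfl
  have hq : (Fintype.card F : ZMod r) ^ s = -1 := by
    have h1 : ((Fintype.card F : ZMod r) ^ s) ^ 2 = 1 := by
      rw [← pow_mul, show s * 2 = c by omega, hi, pow_orderOf_eq_one]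
    refine (sq_eq_one_iff.1 h1).resolve_left fun h => ?_
    have h2 := Nat.le_of_dvd (by omega) (orderOf_dvd_of_pow_eq_one h)
    omega
  have hty := OrthPrime.type_of_no_fixed (p := p) hC.prime hC.rne2
    (fun h => hC.rne (by rw [h]; exact CharP.cast_eq_zero F p))
    (fun h1 => by rw [h1, orderOf_one] at hi; omega) (Q.comp U.subtype) (sep_comp hU)
    (g := g) (fun x => hT (x : V))
    (LinearEquiv.ext fun x => Subtype.ext (by rw [hgpow, hC.pow]; rfl))
    (fun x hx => Subtype.ext (no_fix hC hUR x.2 (congrArg Subtype.val hx)))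
    (k := s * b) (Nat.mul_pos (by omega) hbpos) hdU
  rw [← isPlus_comp_iff hU hdU]
  rw [pow_mul, hq] at hty
  rcases Nat.even_or_odd b with h | h
  · exact iff_of_true (hty.2 h.neg_one_pow) h
  · exact iff_of_false (hty.1 h.neg_one_pow) (Nat.not_even_iff_odd.2 h)

omit [Fact p.Prime] [CharP F p] hT in
/-- An invariant non-degenerate subspace splits. -/
theorem parts {W : Submodule F V} (hW : ND Q.polarBilin W) (hWi : W.map T ≤ W) :
    ND Q.polarBilin (W ⊓ LinearMap.ker (T - 1)) ∧ ND Q.polarBilin (W ⊓ LinearMap.range (T - 1)) ∧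
      (W ⊓ LinearMap.ker (T - 1)) ⊔ (W ⊓ LinearMap.range (T - 1)) = W ∧
      W ⊓ LinearMap.range (T - 1) ≤ perp Q.polarBilin (W ⊓ LinearMap.ker (T - 1)) := by
  have hG := IsoOrth.geom hQ
  have hperp : W ⊓ LinearMap.range (T - 1) ≤ perp Q.polarBilin (W ⊓ LinearMap.ker (T - 1)) :=
    inf_le_right.trans ((fix_le_perp hC).trans (perp_antitone inf_le_right))
  have hs : (W ⊓ LinearMap.ker (T - 1)) ⊔ (W ⊓ LinearMap.range (T - 1)) = W := by
    refine Submodule.eq_of_le_of_finrank_le (sup_le inf_le_left inf_le_left) ?_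
    have h := Submodule.finrank_sup_add_finrank_inf_eq (W ⊓ LinearMap.ker (T - 1)) (W ⊓ LinearMap.range (T - 1))
    have hb : (W ⊓ LinearMap.ker (T - 1)) ⊓ (W ⊓ LinearMap.range (T - 1)) = ⊥ :=
      le_bot_iff.1 ((inf_le_inf inf_le_right inf_le_right).trans (disjoint_fix_mov hC).le)
    rw [hb, finrank_bot, finrank_split hC hWi] at h
    omega
  refine ⟨fun x hx h => ?_, fun x hx h => ?_, hs, hperp⟩
  · refine hW x hx.1 fun v hv => ?_
    rw [← hs] at hv
    obtain ⟨a, ha, b, hb, rfl⟩ := Submodule.mem_sup.1 hv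
    rw [map_add, h a ha, hperp hb x hx, add_zero]
  · refine hW x hx.1 fun v hv => ?_
    rw [← hs] at hv
    obtain ⟨a, ha, b, hb, rfl⟩ := Submodule.mem_sup.1 hv
    rw [map_add, h b hb, hG.refl _ _ (hperp hx a ha), zero_add]

end

end CfsgLib.MaxSub.IsoND
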