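import Cfsg.Agent.Lib.MaxSub.IsoNDMain

/-!
Primes dividing the number of non-degenerate subspaces of given dimension and type.
-/

set_option autoImplicit false

namespace CfsgLib.MaxSub.IsoNDCount

open Matrix CfsgLib CfsgLib.Classical CfsgLib.Geom CfsgLib.MaxSub.IsoSemi CfsgLib.MaxSub.IsoType
  CfsgLib.MaxSub.IsoNDMain CfsgLib.KnownC CfsgLib.KnownC.OrthType
open QuadraticMap (polar)
open scoped Pointwise

universe u v w

variable {F : Type u} [Field F] [Fintype F] {V : Type v} [AddCommGroup V] [Module F V] [FiniteDimensional F V]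
  {Q : QuadraticForm F V} (hQ : ∀ x, (∀ y, polar Q x y = 0) → x = 0)

/-- The set of non-degenerate subspaces of given dimension and type. -/
def Member (Q : QuadraticForm F V) (m : ℕ) (η : Prop) (W : Submodule F V) : Prop :=
  Module.finrank F W = m ∧ ND Q.polarBilin W ∧ (HasHalf Q W ↔ η)

omit [Fintype F] [FiniteDimensional F V] in
theorem smul_eq_map (g : V ≃ₗ[F] V) (W : Submodule F V) : g • W = W.map g.toLinearMap := rfl

omit [Fintype F] in
theorem member_smul {m : ℕ} {η : Prop} {g : V ≃ₗ[F] V} (hg : g ∈ quadIsoms Q) {W : Submodule F V}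
    (hW : Member Q m η W) : Member Q m η (W.map g.toLinearMap) := by
  obtain ⟨hd, hn, ht⟩ := hW
  refine ⟨by rw [LinearEquiv.finrank_map_eq, hd], ?_, ?_⟩
  · rintro _ ⟨x, hx, rfl⟩ h
    rw [hn x hx fun y hy => (polar_quadIsom hg x y).symm.trans (h _ ⟨y, hy, rfl⟩), map_zero]
  · refine Iff.trans ?_ ht
    refine ⟨fun ⟨L, hL, hLQ, hLd⟩ => ⟨L.map g.symm.toLinearMap, ?_, ?_, ?_⟩,
      fun ⟨L, hL, hLQ, hLd⟩ => ⟨L.map g.toLinearMap, Submodule.map_mono hL, ?_, ?_⟩⟩
    · rintro _ ⟨x, hx, rfl⟩
      obtain ⟨y, hy, rfl⟩ := hL hx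
      simpa using hy
    · rintro _ ⟨x, hx, rfl⟩
      rw [← hg]; exact (congrArg Q (g.apply_symm_apply x)).trans (hLQ x hx)
    · rw [LinearEquiv.finrank_map_eq, hLd, LinearEquiv.finrank_map_eq]
    · rintro _ ⟨x, hx, rfl⟩; exact (hg x).trans (hLQ x hx)
    · rw [LinearEquiv.finrank_map_eq, hLd, LinearEquiv.finrank_map_eq]

include hQ in
/-- The members form one orbit. -/
theorem exists_move {m : ℕ} {η : Prop} (hm : Even m) {W W' : Submodule F V} (hW : Member Q m η W)
    (hW' : Member Q m η W') : ∃ g ∈ quadIsoms Q, W.map g.toLinearMap = W' := by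
  obtain ⟨k, rfl⟩ := hm
  have hd : Module.finrank F W = 2 * k := hW.1.trans (two_mul k).symm
  have hd' : Module.finrank F W' = 2 * k := hW'.1.trans (two_mul k).symm
  obtain ⟨e, he⟩ : ∃ e : W ≃ₗ[F] W', ∀ x : W, Q (e x : V) = Q (x : V) := by
    obtain ⟨a, b, hab⟩ := exists_anisotropic_binary (F := F)
    by_cases hη : η
    · obtain ⟨f, hf⟩ := (isPlus_comp_iff hW.2.1 hd).2 (hW.2.2.2 hη)
      obtain ⟨f', hf'⟩ := (isPlus_comp_iff hW'.2.1 hd').2 (hW'.2.2.2 hη)
      exact ⟨f.symm.trans f', fun x => (hf' _).trans ((hf _).symm.trans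
        (congrArg (Q.comp W.subtype) (f.apply_symm_apply x)))⟩
    · obtain ⟨l, rfl, hM⟩ := (dichotomy _ (sep_comp hW.2.1) hd).resolve_left fun h =>
        hη (hW.2.2.1 ((isPlus_comp_iff hW.2.1 hd).1 h))
      obtain ⟨l', hl', hM'⟩ := (dichotomy _ (sep_comp hW'.2.1) hd').resolve_left fun h =>
        hη (hW'.2.2.1 ((isPlus_comp_iff hW'.2.1 hd').1 h))
      obtain rfl : l = l' := by omega
      obtain ⟨f, hf⟩ := hM a b hab
      obtain ⟨f', hf'⟩ := hM' a b hab
      exact ⟨f.symm.trans f', fun x => (hf' _).trans ((hf _).symm.trans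
        (congrArg (Q.comp W.subtype) (f.apply_symm_apply x)))⟩
  obtain ⟨g, hg, hgx⟩ := witt_quadratic Q hQ W (W'.subtype ∘ₗ e.toLinearMap)
    (W'.injective_subtype.comp e.injective) he
  refine ⟨g, hg, Submodule.eq_of_le_of_finrank_eq ?_ (by rw [LinearEquiv.finrank_map_eq, hd, hd'])⟩
  rintro _ ⟨x, hx, rfl⟩
  rw [show g.toLinearMap x = g x from rfl, hgx ⟨x, hx⟩]
  exact (e ⟨x, hx⟩).2

include hQ in
/-- A prime dividing the number of members divides the order of the isometry group. -/
theorem dvd_card_isoms {m : ℕ} {η : Prop} (hm : Even m) {W₀ : Submodule F V} (hW₀ : Member Q m η W₀) :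
    Nat.card {W : Submodule F V // Member Q m η W} ∣ Nat.card (quadIsoms Q) := by
  have horb : MulAction.orbit (quadIsoms Q) W₀ = {W | Member Q m η W} := by
    refine Set.ext fun W => ⟨?_, fun hW => ?_⟩
    · rintro ⟨⟨g, hg⟩, rfl⟩
      exact member_smul hg hW₀
    · obtain ⟨g, hg, rfl⟩ := exists_move hQ hm hW₀ hW
      exact ⟨⟨g, hg⟩, rfl⟩
  rw [show Nat.card {W : Submodule F V // Member Q m η W} = Set.ncard (MulAction.orbit (quadIsoms Q) W₀) by
    rw [horb, ← Nat.card_coe_set_eq]; rfl, ← MulAction.index_stabilizer]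
  exact Subgroup.index_dvd_card _

variable {p : ℕ} [Fact p.Prime] [CharP F p] {r : ℕ} [hr : Fact r.Prime]

include p hQ in
/-- An isometry of order `r` needs `c` dimensions. -/
theorem le_finrank {i c : ℕ} (hr2 : r ≠ 2) (hrp : r ≠ p) (hi : i = orderOf (Fintype.card F : ZMod r))
    (hc : c = if Even i then i else 2 * i) (h : r ∣ Nat.card (quadIsoms Q)) : c ≤ Module.finrank F V := by
  haveI : Finite V := Module.finite_of_finite F
  haveI : Finite (V ≃ₗ[F] V) := Finite.of_injective (fun e => (e : V → V)) DFunLike.coe_injective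
  obtain ⟨g, hg⟩ := exists_prime_orderOf_dvd_card' r h
  have hg1 : (g : V ≃ₗ[F] V) ≠ 1 := fun e => by
    rw [show g = 1 from Subtype.ext e, orderOf_one] at hg; exact hr.out.one_lt.ne hg
  have hgr : (g : V ≃ₗ[F] V) ^ r = 1 := by
    rw [← SubmonoidClass.coe_pow, ← hg, pow_orderOf_eq_one]; rfl
  have hj : ∀ (j : ℕ) v, ((g : V ≃ₗ[F] V).toLinearMap ^ j) v = ((g : V ≃ₗ[F] V) ^ j) v := fun j v => by
    induction j with
    | zero => rfl
    | succ j ih => rw [pow_succ', pow_succ', LinearEquiv.mul_apply, Module.End.mul_apply, ih]; rfl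
  have hrF : (r : F) ≠ 0 := SympOrderR.r_ne_zero (p := p) hr.out hrp
  have hipos : 0 < i := SympOrderR.i_pos (F := F) (p := p) rfl hr.out hrp hi
  have hC := IsoOrth.ctx hQ hr.out hr2 hrF (fun v => g.2 v) (LinearMap.ext fun v => by rw [hj, hgr]; rfl)
  obtain ⟨⟨a, ha⟩, -⟩ := nd_dims (p := p) (c := 0) hC (fun x => by simp) (d := c)
    ⟨fun h => by rw [hc, if_pos ((IsoOrth.sd_iff hi hr2 hipos).1 h), hi],
      fun h => by rw [hc, if_neg (mt (IsoOrth.sd_iff (p := p) hi hr2 hipos).2 h), hi]⟩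
    (nd_mov hC) (inv_mov _) le_rfl
  have ha0 : a ≠ 0 := fun h0 => by
    rw [h0, mul_zero] at ha
    have h1 := LinearMap.range_eq_bot.1 (Submodule.finrank_eq_zero.1 ha)
    exact hg1 (LinearEquiv.ext fun v => LinearMap.congr_fun (sub_eq_zero.1 h1) v)
  exact (Nat.le_mul_of_pos_right c (Nat.pos_of_ne_zero ha0)).trans (ha ▸ Submodule.finrank_le _)

include p hQ in
/-- `r` dividing the number of members gives `c ≤ dim V`. -/
theorem le_of_dvd_count {i c m : ℕ} {η : Prop} (hr2 : r ≠ 2) (hrp : r ≠ p)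
    (hi : i = orderOf (Fintype.card F : ZMod r)) (hc : c = if Even i then i else 2 * i) (hm : Even m)
    {W₀ : Submodule F V} (hW₀ : Member Q m η W₀) (h : r ∣ Nat.card {W : Submodule F V // Member Q m η W}) :
    c ≤ Module.finrank F V :=
  le_finrank hQ hr2 hrp hi hc (h.trans (dvd_card_isoms hQ hm hW₀))

include p hQ in
/-- An isometry with few fixed vectors moves some member, unless `c ≤ m`. -/
theorem le_of_fixed {i c m : ℕ} {η : Prop} (hr2 : r ≠ 2) (hrp : r ≠ p)
    (hi : i = orderOf (Fintype.card F : ZMod r)) (hc : c = if Even i then i else 2 * i) (hm : Even m)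
    {T : Module.End F V} (hC : Ctx Q.polarBilin T r) (hT : ∀ v, Q (T v) = Q v)
    (hfix : Module.finrank F ↥(LinearMap.ker (T - 1)) < c)
    (h : r ∣ Nat.card {W : Submodule F V // Member Q m η W}) {W₀ : Submodule F V} (hW₀ : Member Q m η W₀)
    (hW₀i : W₀.map T ≤ W₀) : c ≤ m := by
  classical
  by_contra hcm
  push Not at hcm
  haveI : Finite V := Module.finite_of_finite F
  haveI : Finite (Submodule F V) := Finite.of_injective _ SetLike.coe_injective
  haveI := Fintype.ofFinite {W : Submodule F V // Member Q m η W}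
  have hipos : 0 < i := SympOrderR.i_pos (F := F) (p := p) rfl hr.out hrp hi
  obtain ⟨E, hE⟩ : ∃ E, E = LinearMap.ker (T - 1) := ⟨_, rfl⟩
  have hin : ∀ W : Submodule F V, Member Q m η W → W.map T ≤ W → W ≤ E := fun W hW hWi => by
    obtain ⟨-, hR, hs, -⟩ := IsoND.parts hQ hC hW.2.1 hWi
    obtain ⟨⟨b, hb⟩, -⟩ := nd_dims (p := p) (c := 0) hC (fun x => by simp) (d := c)
      ⟨fun h => by rw [hc, if_pos ((IsoOrth.sd_iff hi hr2 hipos).1 h), hi],
        fun h => by rw [hc, if_neg (mt (IsoOrth.sd_iff (p := p) hi hr2 hipos).2 h), hi]⟩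
      hR (inv_inf hWi (inv_mov T)) inf_le_right
    have h1 := Submodule.finrank_mono (inf_le_left : W ⊓ LinearMap.range (T - 1) ≤ W)
    rw [hW.1, hb] at h1
    obtain rfl : b = 0 := by
      rcases Nat.eq_zero_or_pos b with hb0 | hb0
      · exact hb0
      · have := Nat.le_mul_of_pos_right c hb0; omega
    rw [mul_zero] at hb
    rw [← hs, Submodule.finrank_eq_zero.1 hb, sup_bot_eq, hE]
    exact inf_le_right
  have hbij := SympOrderR.i_pos (F := F) (p := p) rfl hr.out hrp hi
  have hinj : Function.Injective T := (injective_iff_map_eq_zero T).2 fun x hx => eq_zero_of_apply hC hx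
  let g : V ≃ₗ[F] V := LinearEquiv.ofBijective T ⟨hinj, LinearMap.injective_iff_surjective.1 hinj⟩
  have hg : g ∈ quadIsoms Q := hT
  let σ : Equiv.Perm {W : Submodule F V // Member Q m η W} :=
    { toFun := fun W => ⟨W.1.map g.toLinearMap, member_smul hg W.2⟩
      invFun := fun W => ⟨W.1.map (g⁻¹ : V ≃ₗ[F] V).toLinearMap, member_smul (inv_mem hg) W.2⟩
      left_inv := fun W => Subtype.ext (by
        show (W.1.map g.toLinearMap).map (g⁻¹ : V ≃ₗ[F] V).toLinearMap = W.1
        rw [← Submodule.map_comp]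
        convert Submodule.map_id W.1
        exact LinearMap.ext g.symm_apply_apply)
      right_inv := fun W => Subtype.ext (by
        show (W.1.map (g⁻¹ : V ≃ₗ[F] V).toLinearMap).map g.toLinearMap = W.1
        rw [← Submodule.map_comp]
        convert Submodule.map_id W.1
        exact LinearMap.ext g.apply_symm_apply) }
  have hpow : ∀ (j : ℕ) (W : {W : Submodule F V // Member Q m η W}), ((σ ^ j) W).1 = W.1.map (T ^ j) := by
    intro j W
    induction j with
    | zero => exact (Submodule.map_id W.1).symm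
    | succ j ih =>
      rw [pow_succ', Equiv.Perm.mul_apply, pow_succ', Module.End.mul_eq_comp, Submodule.map_comp, ← ih]
      rfl
  have hσ : σ ^ r ^ 1 = 1 := Equiv.ext fun W => Subtype.ext (by
    rw [pow_one, hpow, hC.pow]; exact Submodule.map_id W.1)
  have hmod := Equiv.Perm.card_compl_support_modEq (p := r) hσ
  rw [← Nat.card_eq_fintype_card] at hmod
  have hfixset : σ.supportᶜ.card = Nat.card {U : Submodule F E // Member (Q.comp E.subtype) m η U} := by
    rw [← Fintype.card_coe, ← Nat.card_eq_fintype_card]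
    have key : ∀ W : {W : Submodule F V // Member Q m η W}, W ∈ σ.supportᶜ ↔ W.1 ≤ E := fun W => by
      rw [Finset.mem_compl, Equiv.Perm.mem_support, not_not]
      refine ⟨fun h => hin W.1 W.2 (le_of_eq (congrArg Subtype.val h)), fun h => Subtype.ext ?_⟩
      show W.1.map g.toLinearMap = W.1
      refine le_antisymm ?_ fun x hx => ⟨x, hx, ?_⟩
      · rintro _ ⟨x, hx, rfl⟩
        have h' := h hx
        rw [hE] at h'
        rwa [show g.toLinearMap x = x from sub_eq_zero.1 h']
      · have h' := h hx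
        rw [hE] at h'
        exact sub_eq_zero.1 h'
    have hconv : ∀ U : Submodule F E, Member Q m η (U.map E.subtype) ↔ Member (Q.comp E.subtype) m η U := fun U => by
      have hd := (Submodule.equivMapOfInjective E.subtype E.injective_subtype U).finrank_eq
      refine and_congr (by rw [hd]) (and_congr ⟨fun h x hx h' => ?_, fun h => ?_⟩ (iff_congr ⟨?_, ?_⟩ Iff.rfl))
      · refine Subtype.ext (h _ ⟨x, hx, rfl⟩ ?_)
        rintro _ ⟨y, hy, rfl⟩
        have := h' y hy
        simpa [QuadraticMap.polar] using this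
      · rintro _ ⟨x, hx, rfl⟩ h'
        rw [h x hx fun y hy => by
          have := h' _ ⟨y, hy, rfl⟩
          simpa [QuadraticMap.polar] using this, map_zero]
      · rintro ⟨L, hL, hLQ, hLd⟩
        have hLE : L ≤ E := hL.trans (Submodule.map_subtype_le E U)
        refine ⟨L.comap E.subtype, fun x hx => ?_, fun x hx => hLQ _ hx, ?_⟩
        · obtain ⟨y, hy, hy'⟩ := hL hx
          rwa [E.injective_subtype hy'] at hy
        · rw [(Submodule.comapSubtypeEquivOfLe hLE).finrank_eq, hLd, hd]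
      · rintro ⟨L, hL, hLQ, hLd⟩
        refine ⟨L.map E.subtype, Submodule.map_mono hL, ?_, ?_⟩
        · rintro _ ⟨x, hx, rfl⟩; exact hLQ x hx
        · rw [← (Submodule.equivMapOfInjective E.subtype E.injective_subtype L).finrank_eq, hLd, hd]
    refine Nat.card_congr
      { toFun := fun W => ⟨W.1.1.comap E.subtype, (hconv _).1 (by
          rw [Submodule.map_comap_subtype, inf_eq_right.2 ((key _).1 W.2)]; exact W.1.2)⟩
        invFun := fun U => ⟨⟨U.1.map E.subtype, (hconv _).2 U.2⟩, (key _).2 (Submodule.map_subtype_le E _)⟩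
        left_inv := fun W => Subtype.ext (Subtype.ext (by
          show (W.1.1.comap E.subtype).map E.subtype = W.1.1
          rw [Submodule.map_comap_subtype, inf_eq_right.2 ((key _).1 W.2)]))
        right_inv := fun U => Subtype.ext (Submodule.comap_map_eq_of_injective E.injective_subtype _) }
  rw [hfixset] at hmod
  have hdvd : r ∣ Nat.card {U : Submodule F E // Member (Q.comp E.subtype) m η U} :=
    (Nat.ModEq.dvd_iff hmod dvd_rfl).2 h
  have hW₀E := hin W₀ hW₀ hW₀i
  have hmemb : Member (Q.comp E.subtype) m η (W₀.comap E.subtype) := by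
    refine ⟨(Submodule.comapSubtypeEquivOfLe hW₀E).finrank_eq.trans hW₀.1, fun x hx h' => ?_, ?_⟩
    · refine Subtype.ext (hW₀.2.1 _ hx fun y hy => ?_)
      have := h' ⟨y, hW₀E hy⟩ hy
      simpa [QuadraticMap.polar] using this
    · refine Iff.trans ⟨?_, ?_⟩ hW₀.2.2
      · rintro ⟨L, hL, hLQ, hLd⟩
        refine ⟨L.map E.subtype, ?_, ?_, ?_⟩
        · rintro _ ⟨x, hx, rfl⟩; exact hL hx
        · rintro _ ⟨x, hx, rfl⟩; exact hLQ x hx
        · rw [← (Submodule.equivMapOfInjective E.subtype E.injective_subtype L).finrank_eq, hLd,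
            (Submodule.comapSubtypeEquivOfLe hW₀E).finrank_eq]
      · rintro ⟨L, hL, hLQ, hLd⟩
        refine ⟨L.comap E.subtype, Submodule.comap_mono hL, fun x hx => hLQ _ hx, ?_⟩
        rw [(Submodule.comapSubtypeEquivOfLe (hL.trans hW₀E)).finrank_eq,
          (Submodule.comapSubtypeEquivOfLe hW₀E).finrank_eq, hLd]
  have := le_of_dvd_count (p := p) (sep_comp (hE ▸ nd_fix hC)) hr2 hrp hi hc hm hmemb hdvd
  rw [hE] at this
  omega

end CfsgLib.MaxSub.IsoNDCount
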