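import Cfsg.Agent.Lib.MaxSub.IsoNDCount

/-!
Primes dividing the number of non-degenerate subspaces of a given isometry class.
-/

set_option autoImplicit false

namespace CfsgLib.MaxSub.IsoNDCountIso

open Matrix CfsgLib CfsgLib.Classical CfsgLib.Geom CfsgLib.MaxSub.IsoSemi CfsgLib.MaxSub.IsoType
  CfsgLib.KnownC CfsgLib.KnownC.OrthType
open QuadraticMap (polar)
open scoped Pointwise

universe u v w

variable {F : Type u} [Field F] [Fintype F] {V : Type v} [AddCommGroup V] [Module F V] [FiniteDimensional F V]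
  {Q : QuadraticForm F V} (hQ : ∀ x, (∀ y, polar Q x y = 0) → x = 0)
  {X : Type w} [AddCommGroup X] [Module F X] [FiniteDimensional F X] {Q₀ : QuadraticForm F X}

/-- The non-degenerate subspaces isometric to a given space. -/
def MemberIso {V : Type v} [AddCommGroup V] [Module F V] (Q : QuadraticForm F V) (Q₀ : QuadraticForm F X)
    (W : Submodule F V) : Prop :=
  ND Q.polarBilin W ∧ ∃ e : X ≃ₗ[F] W, ∀ x, Q (e x : V) = Q₀ x

omit [Fintype F] [FiniteDimensional F V] [FiniteDimensional F X] in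
theorem finrank_eq {W : Submodule F V} (hW : MemberIso Q Q₀ W) : Module.finrank F W = Module.finrank F X := by
  obtain ⟨-, e, -⟩ := hW
  exact e.finrank_eq.symm

omit [Fintype F] [FiniteDimensional F V] [FiniteDimensional F X] in
theorem member_smul {g : V ≃ₗ[F] V} (hg : g ∈ quadIsoms Q) {W : Submodule F V} (hW : MemberIso Q Q₀ W) :
    MemberIso Q Q₀ (W.map g.toLinearMap) := by
  obtain ⟨hn, e, he⟩ := hW
  refine ⟨?_, e.trans (g.submoduleMap W), fun x => (hg _).trans (he x)⟩
  rintro _ ⟨x, hx, rfl⟩ h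
  rw [hn x hx fun y hy => (polar_quadIsom hg x y).symm.trans (h _ ⟨y, hy, rfl⟩), map_zero]

omit [FiniteDimensional F X] in
include hQ in
/-- The members form one orbit. -/
theorem exists_move {W W' : Submodule F V} (hW : MemberIso Q Q₀ W) (hW' : MemberIso Q Q₀ W') :
    ∃ g ∈ quadIsoms Q, W.map g.toLinearMap = W' := by
  obtain ⟨-, f, hf⟩ := hW
  obtain ⟨-, f', hf'⟩ := hW'
  have he : ∀ x : W, Q ((f.symm.trans f') x : V) = Q (x : V) := fun x => by
    rw [LinearEquiv.trans_apply, hf', ← hf, f.apply_symm_apply]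
  obtain ⟨g, hg, hgx⟩ := witt_quadratic Q hQ W (W'.subtype ∘ₗ (f.symm.trans f').toLinearMap)
    (W'.injective_subtype.comp (f.symm.trans f').injective) he
  refine ⟨g, hg, Submodule.eq_of_le_of_finrank_eq ?_ (by rw [LinearEquiv.finrank_map_eq, (f.symm.trans f').finrank_eq])⟩
  rintro _ ⟨x, hx, rfl⟩
  rw [show g.toLinearMap x = g x from rfl, hgx ⟨x, hx⟩]
  exact ((f.symm.trans f') ⟨x, hx⟩).2

omit [FiniteDimensional F X] in
include hQ in
theorem dvd_card_isoms {W₀ : Submodule F V} (hW₀ : MemberIso Q Q₀ W₀) :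
    Nat.card {W : Submodule F V // MemberIso Q Q₀ W} ∣ Nat.card (quadIsoms Q) := by
  have horb : MulAction.orbit (quadIsoms Q) W₀ = {W | MemberIso Q Q₀ W} := by
    refine Set.ext fun W => ⟨?_, fun hW => ?_⟩
    · rintro ⟨⟨g, hg⟩, rfl⟩
      exact member_smul hg hW₀
    · obtain ⟨g, hg, rfl⟩ := exists_move hQ hW₀ hW
      exact ⟨⟨g, hg⟩, rfl⟩
  rw [show Nat.card {W : Submodule F V // MemberIso Q Q₀ W} = Set.ncard (MulAction.orbit (quadIsoms Q) W₀) by
    rw [horb, ← Nat.card_coe_set_eq]; rfl, ← MulAction.index_stabilizer]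
  exact Subgroup.index_dvd_card _

variable {p : ℕ} [Fact p.Prime] [CharP F p] {r : ℕ} [hr : Fact r.Prime]

omit [FiniteDimensional F X] in
include p hQ in
/-- `r` dividing the number of members gives `c ≤ dim V`. -/
theorem le_of_dvd_count {i c : ℕ} (hr2 : r ≠ 2) (hrp : r ≠ p)
    (hi : i = orderOf (Fintype.card F : ZMod r)) (hc : c = if Even i then i else 2 * i)
    {W₀ : Submodule F V} (hW₀ : MemberIso Q Q₀ W₀) (h : r ∣ Nat.card {W : Submodule F V // MemberIso Q Q₀ W}) :
    c ≤ Module.finrank F V :=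
  IsoNDCount.le_finrank hQ hr2 hrp hi hc (h.trans (dvd_card_isoms hQ hW₀))

omit [FiniteDimensional F X] in
include p hQ in
/-- An isometry with few fixed vectors moves some member, unless `c ≤ m`. -/
theorem le_of_fixed {i c : ℕ} (hr2 : r ≠ 2) (hrp : r ≠ p)
    (hi : i = orderOf (Fintype.card F : ZMod r)) (hc : c = if Even i then i else 2 * i)
    {T : Module.End F V} (hC : Ctx Q.polarBilin T r) (hT : ∀ v, Q (T v) = Q v)
    (hfix : Module.finrank F ↥(LinearMap.ker (T - 1)) < c)
    (h : r ∣ Nat.card {W : Submodule F V // MemberIso Q Q₀ W}) {W₀ : Submodule F V} (hW₀ : MemberIso Q Q₀ W₀)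
    (hW₀i : W₀.map T ≤ W₀) : c ≤ Module.finrank F X := by
  classical
  by_contra hcm
  push Not at hcm
  haveI : Finite V := Module.finite_of_finite F
  haveI : Finite (Submodule F V) := Finite.of_injective _ SetLike.coe_injective
  haveI := Fintype.ofFinite {W : Submodule F V // MemberIso Q Q₀ W}
  have hipos : 0 < i := SympOrderR.i_pos (F := F) (p := p) rfl hr.out hrp hi
  obtain ⟨E, hE⟩ : ∃ E, E = LinearMap.ker (T - 1) := ⟨_, rfl⟩
  have hin : ∀ W : Submodule F V, MemberIso Q Q₀ W → W.map T ≤ W → W ≤ E := fun W hW hWi => by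
    obtain ⟨-, hR, hs, -⟩ := IsoND.parts hQ hC hW.1 hWi
    obtain ⟨⟨b, hb⟩, -⟩ := nd_dims (p := p) (c := 0) hC (fun x => by simp) (d := c)
      ⟨fun h => by rw [hc, if_pos ((IsoOrth.sd_iff hi hr2 hipos).1 h), hi],
        fun h => by rw [hc, if_neg (mt (IsoOrth.sd_iff (p := p) hi hr2 hipos).2 h), hi]⟩
      hR (inv_inf hWi (inv_mov T)) inf_le_right
    have h1 := Submodule.finrank_mono (inf_le_left : W ⊓ LinearMap.range (T - 1) ≤ W)
    rw [finrank_eq hW, hb] at h1
    obtain rfl : b = 0 := by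
      rcases Nat.eq_zero_or_pos b with hb0 | hb0
      · exact hb0
      · have := Nat.le_mul_of_pos_right c hb0; omega
    rw [mul_zero] at hb
    rw [← hs, Submodule.finrank_eq_zero.1 hb, sup_bot_eq, hE]
    exact inf_le_right
  have hbij := SympOrderR.i_pos (F := F) (p := p) rfl hr.out hrp hi
  have hinj : Function.Injective T := (injective_iff_map_eq_zero T).2 fun x hx => eq_zero_of_apply hC hx
  let g : V ≃ₗ[F] V := LinearEquiv.ofBijective T ⟨hinj, LinearMap.injective_iff_surjective.1 hinj⟩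
  have hg : g ∈ quadIsoms Q := hT
  let σ : Equiv.Perm {W : Submodule F V // MemberIso Q Q₀ W} :=
    { toFun := fun W => ⟨W.1.map g.toLinearMap, member_smul hg W.2⟩
      invFun := fun W => ⟨W.1.map (g⁻¹ : V ≃ₗ[F] V).toLinearMap, member_smul (inv_mem hg) W.2⟩
      left_inv := fun W => Subtype.ext (by
        show (W.1.map g.toLinearMap).map (g⁻¹ : V ≃ₗ[F] V).toLinearMap = W.1
        rw [← Submodule.map_comp]
        convert Submodule.map_id W.1
        exact LinearMap.ext g.symm_apply_apply)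
      right_inv := fun W => Subtype.ext (by
        show (W.1.map (g⁻¹ : V ≃ₗ[F] V).toLinearMap).map g.toLinearMap = W.1
        rw [← Submodule.map_comp]
        convert Submodule.map_id W.1
        exact LinearMap.ext g.apply_symm_apply) }
  have hpow : ∀ (j : ℕ) (W : {W : Submodule F V // MemberIso Q Q₀ W}), ((σ ^ j) W).1 = W.1.map (T ^ j) := by
    intro j W
    induction j with
    | zero => exact (Submodule.map_id W.1).symm
    | succ j ih =>
      rw [pow_succ', Equiv.Perm.mul_apply, pow_succ', Module.End.mul_eq_comp, Submodule.map_comp, ← ih]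
      rfl
  have hσ : σ ^ r ^ 1 = 1 := Equiv.ext fun W => Subtype.ext (by
    rw [pow_one, hpow, hC.pow]; exact Submodule.map_id W.1)
  have hmod := Equiv.Perm.card_compl_support_modEq (p := r) hσ
  rw [← Nat.card_eq_fintype_card] at hmod
  have hfixset : σ.supportᶜ.card = Nat.card {U : Submodule F E // MemberIso (Q.comp E.subtype) Q₀ U} := by
    rw [← Fintype.card_coe, ← Nat.card_eq_fintype_card]
    have key : ∀ W : {W : Submodule F V // MemberIso Q Q₀ W}, W ∈ σ.supportᶜ ↔ W.1 ≤ E := fun W => by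
      rw [Finset.mem_compl, Equiv.Perm.mem_support, not_not]
      refine ⟨fun h => hin W.1 W.2 (le_of_eq (congrArg Subtype.val h)), fun h => Subtype.ext ?_⟩
      show W.1.map g.toLinearMap = W.1
      refine le_antisymm ?_ fun x hx => ⟨x, hx, ?_⟩
      · rintro _ ⟨x, hx, rfl⟩
        have h' := h hx
        rw [hE] at h'
        rwa [show g.toLinearMap x = x from sub_eq_zero.1 h']
      · have h' := h hx
        rw [hE] at h'
        exact sub_eq_zero.1 h'
    have hconv : ∀ U : Submodule F E, MemberIso Q Q₀ (U.map E.subtype) ↔ MemberIso (Q.comp E.subtype) Q₀ U := fun U => by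
      let θ := Submodule.equivMapOfInjective E.subtype E.injective_subtype U
      refine and_congr ⟨fun h x hx h' => ?_, fun h => ?_⟩ ⟨fun ⟨e, he⟩ => ?_, fun ⟨e, he⟩ => ?_⟩
      · refine Subtype.ext (h _ ⟨x, hx, rfl⟩ ?_)
        rintro _ ⟨y, hy, rfl⟩
        have := h' y hy
        simpa [QuadraticMap.polar] using this
      · rintro _ ⟨x, hx, rfl⟩ h'
        rw [h x hx fun y hy => by
          have := h' _ ⟨y, hy, rfl⟩
          simpa [QuadraticMap.polar] using this, map_zero]
      · exact ⟨e.trans θ.symm, fun x => by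
          have h := congrArg Subtype.val (θ.apply_symm_apply (e x))
          exact (congrArg Q h).trans (he x)⟩
      · exact ⟨e.trans θ, fun x => he x⟩
    refine Nat.card_congr
      { toFun := fun W => ⟨W.1.1.comap E.subtype, (hconv _).1 (by
          rw [Submodule.map_comap_subtype, inf_eq_right.2 ((key _).1 W.2)]; exact W.1.2)⟩
        invFun := fun U => ⟨⟨U.1.map E.subtype, (hconv _).2 U.2⟩, (key _).2 (Submodule.map_subtype_le E _)⟩
        left_inv := fun W => Subtype.ext (Subtype.ext (by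
          show (W.1.1.comap E.subtype).map E.subtype = W.1.1
          rw [Submodule.map_comap_subtype, inf_eq_right.2 ((key _).1 W.2)]))
        right_inv := fun U => Subtype.ext (Submodule.comap_map_eq_of_injective E.injective_subtype _) }
  rw [hfixset] at hmod
  have hdvd : r ∣ Nat.card {U : Submodule F E // MemberIso (Q.comp E.subtype) Q₀ U} :=
    (Nat.ModEq.dvd_iff hmod dvd_rfl).2 h
  have hW₀E := hin W₀ hW₀ hW₀i
  obtain ⟨hnd₀, e₀, he₀⟩ := hW₀
  have hmemb : MemberIso (Q.comp E.subtype) Q₀ (W₀.comap E.subtype) := by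
    refine ⟨fun x hx h' => ?_, e₀.trans (Submodule.comapSubtypeEquivOfLe hW₀E).symm, fun x => he₀ x⟩
    refine Subtype.ext (hnd₀ _ hx fun y hy => ?_)
    have := h' ⟨y, hW₀E hy⟩ hy
    simpa [QuadraticMap.polar] using this
  have := le_of_dvd_count (p := p) (sep_comp (hE ▸ nd_fix hC)) hr2 hrp hi hc hmemb hdvd
  rw [hE] at this
  omega

end CfsgLib.MaxSub.IsoNDCountIso
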