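import Cfsg.Agent.Lib.MaxSub.IsoNDCount

/-!
The arithmetic of elements fixing non-degenerate subspaces.
-/

set_option autoImplicit false

namespace CfsgLib.MaxSub.IsoNDCrit

open Matrix CfsgLib CfsgLib.Classical CfsgLib.Geom CfsgLib.MaxSub.IsoSemi CfsgLib.MaxSub.IsoType
  CfsgLib.MaxSub.IsoNDMain CfsgLib.MaxSub.IsoNDCount CfsgLib.KnownC CfsgLib.KnownC.OrthType
open QuadraticMap (polar)

universe u

theorem ptype_pred {i a : ℕ} (ha : 1 ≤ a) : PType i (a - 1) ↔ (Odd i ∨ ¬ Even a) := by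
  obtain ⟨b, rfl⟩ : ∃ b, a = b + 1 := ⟨a - 1, by omega⟩
  simp [PType, Nat.even_add_one]

/-- The criterion in odd dimension. -/
theorem odd_arith {i c n m : ℕ} {ε η : Prop} (hc0 : 0 < c) (hce : Even c) (hn : Odd n) (hme : Even m) (hmn : m < n)
    (hcn : c ≤ n) :
    (∀ a, Allowed i c n ε a → Fits i c n m ε η a) ↔
      m % c ≤ n % c ∧ (m % c = 0 → (η ↔ PType i (m / c))) := by
  have hn' : 1 ≤ n / c := (Nat.one_le_div_iff hc0).2 hcn
  have hnd := Nat.div_add_mod n c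
  have hmd := Nat.div_add_mod m c
  have hpar : ∀ a z, z + c * a = n → ¬ Even z := fun a z h hz =>
    Nat.not_even_iff_odd.2 hn (h ▸ hz.add (hce.mul_right a))
  constructor
  · intro h
    obtain ⟨b, z, hb, hbz, hzn, hz0, -⟩ := h (n / c) ⟨hn', Nat.mul_div_le n c, fun he =>
      absurd (Even.zero) (hpar (n / c) 0 (by omega))⟩
    have hzlt : z < c := by have := Nat.mod_lt n hc0; omega
    obtain ⟨rfl, rfl⟩ : m / c = b ∧ m % c = z := (Nat.div_mod_unique hc0).2 ⟨by omega, hzlt⟩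
    exact ⟨by omega, hz0⟩
  · rintro ⟨hle, hη⟩ a ⟨ha1, han, -⟩
    have hane : a ≤ n / c := (Nat.le_div_iff_mul_le hc0).2 (by rw [mul_comm]; exact han)
    have hcan := Nat.mul_le_mul_left c hane
    rcases le_or_gt (m / c) a with h | h
    · refine ⟨m / c, m % c, h, hmd, by omega, hη, fun he => absurd ?_ (hpar _ _ he)⟩
      exact Nat.even_iff.2 (by rw [Nat.mod_mod_of_dvd _ hce.two_dvd]; exact Nat.even_iff.1 hme)
    · have hcam := Nat.mul_le_mul_left c h
      rw [Nat.mul_succ] at hcam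
      exact ⟨a, m - c * a, le_rfl, by omega, by omega, fun he => absurd he (by omega),
        fun he => absurd he (by omega)⟩

/-- The criterion in even dimension. -/
theorem even_arith {i c n m : ℕ} {ε η : Prop} (hc0 : 0 < c) (hm0 : 0 < m) (hmn : m < n)
    (hcn : c ≤ n) :
    (∀ a, Allowed i c n ε a → Fits i c n m ε η a) ↔
      (n % c = 0 ∧ ¬ (ε ↔ PType i (n / c))) ∨ (m % c ≤ n % c ∧ (m % c = 0 → (η ↔ PType i (m / c))) ∧
        (0 < m % c → m % c = n % c → ((η ↔ PType i (m / c)) ↔ (ε ↔ PType i (n / c))))) := by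
  have hn' : 1 ≤ n / c := (Nat.one_le_div_iff hc0).2 hcn
  have hnd := Nat.div_add_mod n c
  have hmd := Nat.div_add_mod m c
  have hkc := Nat.mod_lt n hc0
  have hlc := Nat.mod_lt m hc0
  constructor
  · intro h
    by_cases hX : n % c = 0 ∧ ¬ (ε ↔ PType i (n / c))
    · exact Or.inl hX
    obtain ⟨b, z, hb, hbz, hzn, hz0, hze⟩ := h (n / c) ⟨hn', Nat.mul_div_le n c, fun he =>
      of_not_not fun h' => hX ⟨by omega, h'⟩⟩
    obtain ⟨rfl, rfl⟩ : m / c = b ∧ m % c = z := (Nat.div_mod_unique hc0).2 ⟨by omega, by omega⟩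
    exact Or.inr ⟨by omega, hz0, fun _ he => hze (by omega)⟩
  · intro h a ⟨ha1, han, hat⟩
    have hane : a ≤ n / c := (Nat.le_div_iff_mul_le hc0).2 (by rw [mul_comm]; exact han)
    have hcan := Nat.mul_le_mul_left c hane
    rcases le_or_gt (m / c) a with hma | hma
    swap
    · have hcam := Nat.mul_le_mul_left c hma
      rw [Nat.mul_succ] at hcam
      exact ⟨a, m - c * a, le_rfl, by omega, by omega, fun he => absurd he (by omega),
        fun he => absurd he (by omega)⟩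
    rcases h with ⟨hk0, hne⟩ | ⟨hle, hη, hεη⟩
    · have halt : a < n / c := lt_of_le_of_ne hane fun e => hne (by
        have := hat (by rw [e]; omega)
        rwa [e] at this)
      have hcalt : c * a + c ≤ n := by
        have := Nat.mul_le_mul_left c halt
        rw [Nat.mul_succ] at this
        omega
      by_cases hη : m % c = 0 → (η ↔ PType i (m / c))
      · exact ⟨m / c, m % c, hma, hmd, by omega, hη, fun he => absurd he (by omega)⟩
      obtain ⟨hl0, hηne⟩ := Classical.not_imp.1 hη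
      have hm' : 1 ≤ m / c := by
        rcases Nat.eq_zero_or_pos (m / c) with e | e
        · rw [e, mul_zero] at hmd; omega
        · exact e
      have hmd' : c * (m / c - 1) + c = m := by
        rw [← Nat.mul_succ, Nat.succ_eq_add_one, Nat.sub_add_cancel hm']; omega
      refine ⟨m / c - 1, c, by omega, hmd', by omega, fun he => absurd he (by omega), fun he => ?_⟩
      have ha' : a = n / c - 1 := by
        have h1 : c * (a + 1) = c * (n / c) := by rw [mul_add, mul_one]; omega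
        have := Nat.eq_of_mul_eq_mul_left hc0 h1
        omega
      rw [ha', ptype_pred hn', ptype_pred hm']
      unfold PType at hne hηne
      by_cases h1 : η <;> by_cases h2 : ε <;> by_cases h3 : Odd i <;> by_cases h4 : Even (m / c) <;>
        by_cases h5 : Even (n / c) <;> simp [h1, h2, h3, h4, h5] at hne hηne ⊢
    · refine ⟨m / c, m % c, hma, hmd, by omega, hη, fun he => ?_⟩
      rcases Nat.eq_zero_or_pos (m % c) with e | e
      · exact iff_of_true (hη e) (hat (by omega))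
      · have h1 : m % c = n % c ∧ c * a = c * (n / c) := by
          rcases eq_or_lt_of_le hane with rfl | halt
          · omega
          · have := Nat.mul_le_mul_left c halt
            rw [Nat.mul_succ] at this
            omega
        have := Nat.eq_of_mul_eq_mul_left hc0 h1.2
        rw [this]
        exact hεη e h1.1

variable {F : Type u} [Field F] [Fintype F] {p : ℕ} [Fact p.Prime] [CharP F p] {ι : Type} [Fintype ι]
  [DecidableEq ι] {Q : QuadraticForm F (ι → F)} (hQ : ∀ x, (∀ y, polar Q x y = 0) → x = 0)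
  {r : ℕ} [hr : Fact r.Prime] {i c n m : ℕ} {ε η : Prop}

include p hQ in
/-- `c ≤ m` when an element with few fixed vectors fixes a member. -/
theorem le_m (hr2 : r ≠ 2) (hrp : r ≠ p) (hi : i = orderOf (Fintype.card F : ZMod r))
    (hc : c = if Even i then i else 2 * i) (hn : Fintype.card ι = n) (hn5 : 5 ≤ n) (hme : Even m)
    (hemb : ∀ k, 2 * k ≤ n → ∀ Q₀ : QuadraticForm F (Fin k ⊕ Fin k → F), (∀ x, (∀ y, polar Q₀ x y = 0) → x = 0) →
      (2 * k < n ∨ (HasHalf Q₀ ⊤ ↔ ε)) → ∃ φ : (Fin k ⊕ Fin k → F) →ₗ[F] (ι → F), ∀ v, Q (φ v) = Q₀ v)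
    (hcnt : r ∣ Nat.card {W : Submodule F (ι → F) // Member Q m η W}) {a : ℕ} (ha : Allowed i c n ε a)
    (hsmall : n < c * a + c)
    (h : ∀ x : GL ι F, x ∈ Cfsg.Geo.omegaGL (⇑Q) → x ^ r = 1 → x ≠ 1 →
      ∃ W : Submodule F (ι → F), Member Q m η W ∧ W.map (Matrix.toLin' (x : Matrix ι ι F)) ≤ W) : c ≤ m := by
  obtain ⟨x, hx, hxr, hx1, hC, hfix⟩ := exists_element (p := p) hQ hr2 hrp hi hc hn hn5 hemb ha
  obtain ⟨W, hW, hWi⟩ := h x hx hxr hx1
  exact le_of_fixed (p := p) hQ hr2 hrp hi hc hme hC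
    (fun v => by rw [Matrix.toLin'_apply]; exact iso_of_mem hx v) (by omega) hcnt hW hWi

include p hQ in
/-- Odd dimension. -/
theorem odd_dim (hr2 : r ≠ 2) (hrp : r ≠ p) (hi : i = orderOf (Fintype.card F : ZMod r))
    (hc : c = if Even i then i else 2 * i) (hn : Fintype.card ι = n) (hn5 : 5 ≤ n) (hnodd : Odd n)
    (h2 : (2 : F) ≠ 0) (hm0 : 0 < m) (hme : Even m) (hmn : m < n)
    (hcnt : r ∣ Nat.card {W : Submodule F (ι → F) // Member Q m η W}) :
    (∀ x : GL ι F, x ∈ Cfsg.Geo.omegaGL (⇑Q) → x ^ r = 1 → x ≠ 1 →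
      ∃ W : Submodule F (ι → F), Member Q m η W ∧ W.map (Matrix.toLin' (x : Matrix ι ι F)) ≤ W) ↔
      c ≤ m ∧ m % c ≤ n % c ∧ (m % c = 0 → (η ↔ PType i (m / c))) := by
  have hV : Module.finrank F (ι → F) = n := by rw [Module.finrank_fintype_fun_eq_card, hn]
  have hipos : 0 < i := SympOrderR.i_pos (F := F) (p := p) rfl hr.out hrp hi
  have hc0 : 0 < c := by rw [hc]; split_ifs <;> omega
  have hce : Even c := by rw [hc]; split_ifs with h <;> [exact h; exact even_two_mul i]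
  have htop : ND Q.polarBilin (⊤ : Submodule F (ι → F)) := fun u _ hu => hQ u fun y => hu y trivial
  have hemb : ∀ k, 2 * k ≤ n → ∀ Q₀ : QuadraticForm F (Fin k ⊕ Fin k → F),
      (∀ x, (∀ y, polar Q₀ x y = 0) → x = 0) →
      (2 * k < n ∨ (HasHalf Q₀ ⊤ ↔ True)) → ∃ φ : (Fin k ⊕ Fin k → F) →ₗ[F] (ι → F), ∀ v, Q (φ v) = Q₀ v :=
    fun k hk Q₀ h₀ _ => by
      obtain ⟨φ, -, hφ⟩ := IsoND.embed_small (Q := Q) h2 h₀ htop (by
        rw [OrthPrime.finrank_two, finrank_top, hV]; obtain ⟨t, rfl⟩ := hnodd; omega)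
      exact ⟨φ, hφ⟩
  obtain ⟨W₀, hW₀⟩ : ∃ W₀, Member Q m η W₀ := by
    obtain ⟨k, rfl⟩ := hme.two_dvd
    obtain ⟨Q₀, h₀, hη⟩ := IsoND.exists_model_type (F := F) (k := k) (by omega) η
    obtain ⟨φ, -, hφ⟩ := IsoND.embed_small (Q := Q) h2 h₀ htop (by rw [OrthPrime.finrank_two, finrank_top, hV]; omega)
    obtain ⟨hnd, hd, e, he⟩ := IsoND.nd_range h₀ φ hφ
    exact ⟨_, hd.trans (OrthPrime.finrank_two k), hnd, (IsoND.hasHalf_congr e he).trans hη⟩
  have hcn : c ≤ n := hV ▸ le_of_dvd_count (p := p) hQ hr2 hrp hi hc hme hW₀ hcnt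
  have hmain := main (p := p) hQ hr2 hrp hi hc hn hn5 hme (fun _ => h2) (ε := True) (η := η)
    (fun he => absurd he (Nat.not_even_iff_odd.2 hnodd)) hemb
  have har := odd_arith (i := i) (ε := True) (η := η) hc0 hce hnodd hme hmn hcn
  refine ⟨fun h => ⟨le_m (p := p) hQ hr2 hrp hi hc hn hn5 hme hemb hcnt (a := n / c) ⟨(Nat.one_le_div_iff hc0).2 hcn,
    Nat.mul_div_le n c, fun he => absurd (he ▸ hce.mul_right _) (Nat.not_even_iff_odd.2 hnodd)⟩ ?_ h,
    har.1 (hmain.1 h)⟩, fun h => hmain.2 (har.2 h.2)⟩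
  have := Nat.mod_lt n hc0
  have := Nat.div_add_mod n c
  omega

include p hQ in
/-- Even dimension. -/
theorem even_dim (hr2 : r ≠ 2) (hrp : r ≠ p) (hi : i = orderOf (Fintype.card F : ZMod r))
    (hc : c = if Even i then i else 2 * i) (hn : Fintype.card ι = n) (hn5 : 5 ≤ n) (hne : Even n)
    (hm0 : 0 < m) (hme : Even m) (hmn : m < n) (hε : HasHalf Q ⊤ ↔ ε)
    (hemb : ∀ k, 2 * k ≤ n → ∀ Q₀ : QuadraticForm F (Fin k ⊕ Fin k → F), (∀ x, (∀ y, polar Q₀ x y = 0) → x = 0) →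
      (2 * k < n ∨ (HasHalf Q₀ ⊤ ↔ ε)) → ∃ φ : (Fin k ⊕ Fin k → F) →ₗ[F] (ι → F), ∀ v, Q (φ v) = Q₀ v)
    (hcnt : r ∣ Nat.card {W : Submodule F (ι → F) // Member Q m η W}) :
    (∀ x : GL ι F, x ∈ Cfsg.Geo.omegaGL (⇑Q) → x ^ r = 1 → x ≠ 1 →
      ∃ W : Submodule F (ι → F), Member Q m η W ∧ W.map (Matrix.toLin' (x : Matrix ι ι F)) ≤ W) ↔
      (n % c = 0 ∧ ¬ (ε ↔ PType i (n / c))) ∨ (c ≤ m ∧ m % c ≤ n % c ∧ (m % c = 0 → (η ↔ PType i (m / c))) ∧
        (0 < m % c → m % c = n % c → ((η ↔ PType i (m / c)) ↔ (ε ↔ PType i (n / c))))) := by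
  have hV : Module.finrank F (ι → F) = n := by rw [Module.finrank_fintype_fun_eq_card, hn]
  have hipos : 0 < i := SympOrderR.i_pos (F := F) (p := p) rfl hr.out hrp hi
  have hc0 : 0 < c := by rw [hc]; split_ifs <;> omega
  have htop : ND Q.polarBilin (⊤ : Submodule F (ι → F)) := fun u _ hu => hQ u fun y => hu y trivial
  obtain ⟨W₀, hW₀⟩ : ∃ W₀, Member Q m η W₀ := by
    obtain ⟨k, rfl⟩ := hme.two_dvd
    obtain ⟨d, rfl⟩ := hne.two_dvd
    obtain ⟨W, -, hW, hWd, hWt⟩ := IsoND.exists_typed_even hQ htop (d := d) (k := k) (by rw [finrank_top, hV])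
      (by omega) (by omega) η
    exact ⟨W, hWd, hW, hWt⟩
  have hcn : c ≤ n := hV ▸ le_of_dvd_count (p := p) hQ hr2 hrp hi hc hme hW₀ hcnt
  have hmain := main (p := p) hQ hr2 hrp hi hc hn hn5 hme (fun h => absurd hne (Nat.not_even_iff_odd.2 h))
    (η := η) (fun _ => hε) hemb
  have har := even_arith (i := i) (ε := ε) (η := η) hc0 hm0 hmn hcn
  refine ⟨fun h => ?_, fun h => hmain.2 (har.2 (h.imp id And.right))⟩
  rcases har.1 (hmain.1 h) with hX | hY
  · exact Or.inl hX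
  by_cases hX : n % c = 0 ∧ ¬ (ε ↔ PType i (n / c))
  · exact Or.inl hX
  have := Nat.mod_lt n hc0
  have := Nat.div_add_mod n c
  exact Or.inr ⟨le_m (p := p) hQ hr2 hrp hi hc hn hn5 hme hemb hcnt (a := n / c) ⟨(Nat.one_le_div_iff hc0).2 hcn,
    Nat.mul_div_le n c, fun he => of_not_not fun h' => hX ⟨by omega, h'⟩⟩ (by omega) h, hY⟩

end CfsgLib.MaxSub.IsoNDCrit
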