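import Cfsg.Agent.Lib.MaxSub.IsoNDJordan
import Cfsg.Agent.Lib.Geom.HermNorm

/-!
Invariant non-degenerate subspaces of isometries of Hermitian forms.
-/

set_option autoImplicit false
set_option linter.unusedSectionVars false

namespace CfsgLib.MaxSub.IsoNDHerm

open CfsgLib CfsgLib.Geom CfsgLib.MaxSub.IsoSemi CfsgLib.MaxSub.IsoNDJordan

universe u v

variable {F : Type u} [Field F] [Fintype F] {V : Type v} [AddCommGroup V] [Module F V] [FiniteDimensional F V]
  {σ : F →+* F} (hσ : σ ≠ RingHom.id F) {B : V →ₛₗ[σ] V →ₗ[F] F} (hS : ∀ u v, σ (B u v) = B v u)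
  (hG : Geom B)

theorem nd_bot : ND B (⊥ : Submodule F V) := fun u hu _ => (Submodule.mem_bot F).1 hu

include hσ hS in
/-- A non-degenerate part has an anisotropic vector. -/
theorem exists_aniso {U : Submodule F V} (hU : ND B U) (hne : U ≠ ⊥) : ∃ v ∈ U, B v v ≠ 0 := by
  obtain ⟨u, hu, hu0⟩ := Submodule.exists_mem_ne_zero_of_ne_bot hne
  obtain ⟨v, hv, huv⟩ : ∃ v ∈ U, B u v ≠ 0 := by
    by_contra hn
    push Not at hn
    exact hu0 (hU u hu hn)
  let B' : U →ₛₗ[σ] U →ₗ[F] F :=
    LinearMap.mk₂'ₛₗ σ (RingHom.id F) (fun x y => B (x : V) (y : V)) (fun a b c => by simp)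
      (fun r a b => by simp) (fun a b c => by simp) (fun r a b => by simp)
  obtain ⟨w, hw⟩ := herm_exists_nonzero hσ B' (fun a b => hS _ _) (u := ⟨u, hu⟩) (v := ⟨v, hv⟩) huv
  exact ⟨w, w.2, hw⟩

theorem nd_line {v : V} (h : B v v ≠ 0) :
    ND B (Submodule.span F {v}) ∧ Module.finrank F ↥(Submodule.span F {v}) = 1 := by
  refine ⟨fun z hz hz0 => ?_, finrank_span_singleton fun e => h (by simp [e])⟩
  obtain ⟨x, rfl⟩ := Submodule.mem_span_singleton.1 hz
  have h1 := hz0 v (Submodule.mem_span_singleton_self v)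
  rw [LinearMap.map_smulₛₗ, LinearMap.smul_apply, smul_eq_mul, mul_eq_zero, map_eq_zero] at h1
  rw [h1.resolve_right h, zero_smul]

include hG in
theorem nd_stack {U P W : Submodule F V} (hP : ND B P) (hW : ND B W) (hWP : W ≤ U ⊓ perp B P) :
    ND B (P ⊔ W) ∧ Module.finrank F ↥(P ⊔ W) = Module.finrank F P + Module.finrank F W := by
  refine ⟨nd_sup hG hP hW (hWP.trans inf_le_right), ?_⟩
  have h1 := Submodule.finrank_sup_add_finrank_inf_eq P W
  rw [show P ⊓ W = ⊥ from le_bot_iff.1 ((inf_le_inf_left P (hWP.trans inf_le_right)).trans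
    ((nd_iff hG).1 hP).le), finrank_bot] at h1
  omega

/-- Preservation of orthogonality. -/
def Orth (B : V →ₛₗ[σ] V →ₗ[F] F) (T : Module.End F V) : Prop :=
  Function.Injective T ∧ ∀ x y, B x y = 0 → B (T x) (T y) = 0

theorem inv_perp {T : Module.End F V} (hT : Orth B T) {W : Submodule F V} (hW : W.map T ≤ W) :
    (perp B W).map T ≤ perp B W := by
  have hsurj : W.map T = W := Submodule.eq_of_le_of_finrank_le hW
    (Submodule.equivMapOfInjective T hT.1 W).finrank_eq.le
  rintro _ ⟨v, hv, rfl⟩ w hw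
  obtain ⟨w', hw', rfl⟩ : w ∈ W.map T := hsurj.symm ▸ hw
  exact hT.2 _ _ (hv w' hw')

include hG in
theorem orth_of_scale {T : Module.End F V} {s : F} (hs : s ≠ 0) (hT : ∀ x y, B (T x) (T y) = s * B x y) :
    Orth B T := by
  refine ⟨(injective_iff_map_eq_zero T).2 fun x hx => hG.sep x fun y => ?_, fun x y h => by rw [hT, h, mul_zero]⟩
  have h := hT x y
  rw [hx, map_zero, LinearMap.zero_apply, eq_comm, mul_eq_zero] at h
  exact h.resolve_left hs

include hG in
/-- Pieces of one dimension give every multiple. -/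
theorem exists_of_pieces {T : Module.End F V} (hT : Orth B T) {e : ℕ}
    (hpl : ∀ U : Submodule F V, ND B U → U.map T ≤ U → U ≠ ⊥ →
      ∃ P ≤ U, ND B P ∧ P.map T ≤ P ∧ Module.finrank F P = e) :
    ∀ (k : ℕ) (U : Submodule F V), ND B U → U.map T ≤ U → e * k ≤ Module.finrank F U →
      ∃ W ≤ U, ND B W ∧ W.map T ≤ W ∧ Module.finrank F W = e * k := by
  intro k
  induction k with
  | zero => exact fun U _ _ _ => ⟨⊥, bot_le, nd_bot, inv_bot T, by rw [finrank_bot, mul_zero]⟩
  | succ k ih =>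
    intro U hU hUi hk
    rw [Nat.mul_succ] at hk
    rcases Nat.eq_zero_or_pos e with rfl | he
    · exact ⟨⊥, bot_le, nd_bot, inv_bot T, by rw [finrank_bot, zero_mul]⟩
    obtain ⟨P, hPU, hP, hPi, hPd⟩ := hpl U hU hUi fun h => by rw [h, finrank_bot] at hk; omega
    have hdim := finrank_inf_perp hG hU hPU
    obtain ⟨W, hW, hWn, hWi, hWd⟩ := ih (U ⊓ perp B P) (nd_inf_perp hG hU hP hPU)
      (inv_inf hUi (inv_perp hT hPi)) (by omega)
    obtain ⟨h1, h2⟩ := nd_stack hG (U := U) hP hWn hW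
    exact ⟨P ⊔ W, sup_le hPU (hW.trans inf_le_left), h1, inv_sup hPi hWi, by rw [Nat.mul_succ]; omega⟩

include hσ hS hG in
/-- Non-degenerate subspaces of every dimension. -/
theorem exists_nd {U : Submodule F V} (hU : ND B U) {k : ℕ} (hk : k ≤ Module.finrank F U) :
    ∃ W ≤ U, ND B W ∧ Module.finrank F W = k := by
  obtain ⟨W, hWU, hW, -, hWd⟩ := exists_of_pieces hG (T := 1) ⟨fun x y h => h, fun x y h => h⟩ (e := 1)
    (fun U hU _ hne => by
      obtain ⟨v, hv, hvv⟩ := exists_aniso hσ hS hU hne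
      obtain ⟨h1, h2⟩ := nd_line hvv
      exact ⟨_, (Submodule.span_singleton_le_iff_mem _ _).2 hv, h1, (Submodule.map_id _).le, h2⟩)
    k U hU (Submodule.map_id _).le (by omega)
  exact ⟨W, hWU, hW, by omega⟩

section Unipotent

variable {T : Module.End F V}

include hσ hS hG in
/-- A cyclic non-degenerate piece of a unipotent isometry. -/
theorem exists_cyclic (hT : ∀ x y, B (T x) (T y) = B x y) {p : ℕ} (hN : (T - 1) ^ p = 0)
    {U : Submodule F V} (hU : ND B U) (hUi : U.map T ≤ U) (hne : U ≠ ⊥) :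
    ∃ (k : ℕ) (P : Submodule F V), 1 ≤ k ∧ k ≤ p ∧ P ≤ U ∧ ND B P ∧ P.map T ≤ P ∧ Module.finrank F P = k := by
  classical
  have hUN : U.map (T - 1) ≤ U := sub_one_map_le hUi
  have hex : ∃ k, ∀ x ∈ U, ((T - 1 : Module.End F V) ^ k) x = 0 := ⟨p, fun x _ => by rw [hN, LinearMap.zero_apply]⟩
  obtain ⟨k, hk, hmin⟩ : ∃ k, (∀ x ∈ U, ((T - 1) ^ k) x = 0) ∧ ∀ j < k, ¬ ∀ x ∈ U, ((T - 1) ^ j) x = 0 :=
    ⟨Nat.find hex, Nat.find_spec hex, fun j hj => Nat.find_min hex hj⟩
  have hkp : k ≤ p := by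
    by_contra h
    exact hmin p (by omega) fun x _ => by rw [hN, LinearMap.zero_apply]
  obtain ⟨k', rfl⟩ : ∃ k', k = k' + 1 := by
    refine ⟨k - 1, ?_⟩
    rcases Nat.eq_zero_or_pos k with rfl | h
    · refine absurd ((Submodule.eq_bot_iff U).2 fun x hx => ?_) hne
      simpa using hk x hx
    · omega
  obtain ⟨Φ, hΦ⟩ : ∃ Φ : V → V → F, Φ = fun u v => B u (((T - 1) ^ k') v) := ⟨_, rfl⟩
  obtain ⟨v, hv, hvv⟩ : ∃ v ∈ U, Φ v v ≠ 0 := by
    by_contra hall
    push Not at hall
    refine hmin k' (Nat.lt_succ_self k') fun w hw => hU _ (pow_apply_mem hUN k' hw) fun u hu => ?_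
    have hpol : ∀ a ∈ U, ∀ b ∈ U, Φ a b + Φ b a = 0 := fun a ha b hb => by
      have h := hall _ (U.add_mem ha hb)
      have h1 := hall a ha
      have h2 := hall b hb
      simp only [hΦ, map_add, LinearMap.add_apply] at h h1 h2 ⊢
      linear_combination h - h1 - h2
    obtain ⟨l, hl⟩ : ∃ l, σ l ≠ l := by
      by_contra hn
      push Not at hn
      exact hσ (RingHom.ext hn)
    have e1 := hpol u hu w hw
    have e2 := hpol (l • u) (U.smul_mem l hu) w hw
    simp only [hΦ, LinearMap.map_smulₛₗ, LinearMap.smul_apply, map_smul, smul_eq_mul] at e1 e2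
    have h3 : (σ l - l) * B u (((T - 1) ^ k') w) = 0 := by
      linear_combination e2 - l * e1
    have h4 := (mul_eq_zero.1 h3).resolve_left (sub_ne_zero.2 hl)
    exact hG.refl _ _ h4
  rw [hΦ] at hvv
  obtain ⟨f, hf⟩ : ∃ f : Fin (k' + 1) → V, f = fun i => ((T - 1 : Module.End F V) ^ i.val) v := ⟨_, rfl⟩
  have hfU : ∀ i, f i ∈ U := fun i => by rw [hf]; exact pow_apply_mem hUN _ hv
  have step : ∀ x y : V, B ((T - 1 : Module.End F V) x) y = -B x ((T - 1 : Module.End F V) y) - B ((T - 1 : Module.End F V) x) ((T - 1 : Module.End F V) y) := fun x y => by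
    simp only [LinearMap.sub_apply, Module.End.one_apply, map_sub, hT]
    ring
  have hpow : ∀ a x, ((T - 1 : Module.End F V) ^ (a + 1)) x = (T - 1 : Module.End F V) (((T - 1 : Module.End F V) ^ a) x) := fun a x => by
    rw [pow_succ', Module.End.mul_apply]
  have hvan : ∀ b, k' < b → ((T - 1 : Module.End F V) ^ b) v = 0 := fun b hb => by
    rw [show b = (b - (k' + 1)) + (k' + 1) by omega, pow_add, Module.End.mul_apply, hk v hv, map_zero]
  have high : ∀ a b, k' < a + b → B (((T - 1 : Module.End F V) ^ a) v) (((T - 1 : Module.End F V) ^ b) v) = 0 := by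
    intro a
    induction a with
    | zero => intro b hb; rw [hvan b (by omega), map_zero]
    | succ a iha =>
      suffices ∀ n b, k' < b + n → k' < a + 1 + b → B (((T - 1 : Module.End F V) ^ (a + 1)) v) (((T - 1 : Module.End F V) ^ b) v) = 0 from
        fun b hb => this (k' + 1) b (by omega) hb
      intro n
      induction n with
      | zero => intro b hb _; rw [hvan b (by omega), map_zero]
      | succ n ihn =>
        intro b hb hab
        rw [hpow a, step, ← hpow b, ← hpow a, iha (b + 1) (by omega), ihn (b + 1) (by omega) (by omega),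
          neg_zero, sub_zero]
  have exact_deg : ∀ a b, a + b = k' → B (((T - 1 : Module.End F V) ^ a) v) (((T - 1 : Module.End F V) ^ b) v) ≠ 0 := by
    intro a
    induction a with
    | zero => intro b hb; rw [zero_add] at hb; rw [hb, pow_zero, Module.End.one_apply]; exact hvv
    | succ a iha =>
      intro b hb h
      rw [hpow a, step, ← hpow b, ← hpow a, high (a + 1) (b + 1) (by omega), sub_zero, neg_eq_zero] at h
      exact iha (b + 1) (by omega) h
  have hpair : ∀ i j : Fin (k' + 1), k' ≤ (i : ℕ) + j → (B (f i) (f j) = 0 ↔ (i : ℕ) + j ≠ k') := fun i j hij => by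
    rw [hf]
    exact ⟨fun h e => exact_deg _ _ e h, fun h => high _ _ (by omega)⟩
  have hcoef : ∀ g : Fin (k' + 1) → F, (∀ i, B (∑ j, g j • f j) (f i) = 0) → ∀ i, g i = 0 := by
    intro g hg i
    induction hn : (i : ℕ) using Nat.strong_induction_on generalizing i with
    | _ n ih =>
      subst hn
      have h := hg i.rev
      rw [map_sum, LinearMap.sum_apply, Finset.sum_eq_single i] at h
      · rw [LinearMap.map_smulₛₗ, LinearMap.smul_apply, smul_eq_mul, mul_eq_zero, map_eq_zero] at h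
        refine h.resolve_right fun h0 => ?_
        exact (hpair i i.rev (by rw [Fin.val_rev]; omega)).1 h0 (by rw [Fin.val_rev]; omega)
      · intro j _ hji
        rw [LinearMap.map_smulₛₗ, LinearMap.smul_apply, smul_eq_mul]
        rcases Nat.lt_or_ge (j : ℕ) i with hlt | hge
        · rw [ih j hlt j rfl, map_zero, zero_mul]
        · have hne' : (j : ℕ) ≠ i := fun e => hji (Fin.ext e)
          rw [(hpair j i.rev (by rw [Fin.val_rev]; omega)).2 (by rw [Fin.val_rev]; omega), mul_zero]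
      · exact fun hn => absurd (Finset.mem_univ i) hn
  refine ⟨k' + 1, Submodule.span F (Set.range f), by omega, hkp, Submodule.span_le.2 ?_, ?_, ?_, ?_⟩
  · rintro _ ⟨i, rfl⟩; exact hfU i
  · intro z hz hz0
    rw [Submodule.mem_span_range_iff_exists_fun] at hz
    obtain ⟨g, rfl⟩ := hz
    simp [hcoef g fun i => hz0 _ (Submodule.subset_span ⟨i, rfl⟩)]
  · rw [Submodule.map_span_le]
    rintro _ ⟨i, rfl⟩
    rw [show T (f i) = f i + (T - 1) (f i) by simp]
    refine Submodule.add_mem _ (Submodule.subset_span ⟨i, rfl⟩) ?_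
    rw [hf]
    show (T - 1) (((T - 1) ^ (i : ℕ)) v) ∈ _
    rw [← Module.End.mul_apply, ← pow_succ']
    by_cases hi : (i : ℕ) + 1 < k' + 1
    · exact Submodule.subset_span ⟨⟨(i : ℕ) + 1, hi⟩, rfl⟩
    · rw [show (i : ℕ) + 1 = ((i : ℕ) + 1 - (k' + 1)) + (k' + 1) by omega, pow_add, Module.End.mul_apply, hk v hv,
        map_zero]
      exact Submodule.zero_mem _
  · have hli : LinearIndependent F f :=
      Fintype.linearIndependent_iff.2 fun g hg => hcoef g fun i => by rw [hg, map_zero, LinearMap.zero_apply]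
    rw [finrank_span_eq_card hli, Fintype.card_fin]

include hσ hS hG in
/-- A unipotent isometry is an orthogonal sum of cyclic pieces. -/
theorem exists_types (hT : ∀ x y, B (T x) (T y) = B x y) {p : ℕ} (hN : (T - 1) ^ p = 0) :
    ∀ (D : ℕ) (U : Submodule F V), Module.finrank F U = D → ND B U → U.map T ≤ U →
      ∃ μ : Multiset ℕ, (∀ e ∈ μ, 0 < e ∧ e ≤ p) ∧ μ.sum = D ∧
        ∀ ν : Multiset ℕ, ν ≤ μ → ∃ W ≤ U, ND B W ∧ W.map T ≤ W ∧ Module.finrank F W = ν.sum := by
  intro D
  induction D using Nat.strong_induction_on with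
  | _ D ih =>
    intro U hUd hU hUi
    rcases Nat.eq_zero_or_pos D with rfl | hD
    · refine ⟨0, by simp, by simp, fun ν hν => ⟨⊥, bot_le, nd_bot, inv_bot T, ?_⟩⟩
      rw [finrank_bot, Multiset.le_zero.1 hν, Multiset.sum_zero]
    obtain ⟨k, P, hk1, hkp, hPU, hP, hPi, hPd⟩ := exists_cyclic hσ hS hG hT hN hU hUi
      fun h => by rw [h, finrank_bot] at hUd; omega
    have hdim := finrank_inf_perp hG hU hPU
    have hTo : Orth B T := orth_of_scale hG one_ne_zero fun x y => by rw [hT, one_mul]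
    obtain ⟨μ, hμ, hμs, hμW⟩ := ih (D - k) (by omega) (U ⊓ perp B P) (by omega) (nd_inf_perp hG hU hP hPU)
      (inv_inf hUi (inv_perp hTo hPi))
    refine ⟨k ::ₘ μ, fun e he => ?_, by rw [Multiset.sum_cons, hμs]; omega, fun ν hν => ?_⟩
    · rcases Multiset.mem_cons.1 he with rfl | he
      · omega
      · exact hμ e he
    by_cases hkν : k ∈ ν
    · obtain ⟨ν', rfl⟩ := Multiset.exists_cons_of_mem hkν
      obtain ⟨W, hW, hWn, hWi, hWd⟩ := hμW ν' ((Multiset.cons_le_cons_iff k).1 hν)
      obtain ⟨h1, h2⟩ := nd_stack hG (U := U) hP hWn hW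
      exact ⟨P ⊔ W, sup_le hPU (hW.trans inf_le_left), h1, inv_sup hPi hWi, by rw [Multiset.sum_cons]; omega⟩
    · obtain ⟨W, hW, hWn, hWi, hWd⟩ := hμW ν ((Multiset.le_cons_of_notMem hkν).1 hν)
      exact ⟨W, hW.trans inf_le_left, hWn, hWi, hWd⟩

include hG in
/-- The type of an invariant non-degenerate part is a sub-partition. -/
theorem exists_sub_of_fixed (hT : ∀ x y, B (T x) (T y) = B x y) {μ : Multiset ℕ} {p : ℕ} (hμ : ∀ e ∈ μ, e ≤ p)
    (hr : ∀ j, Module.finrank F ↥(LinearMap.range ((T - 1) ^ j)) = tail μ j) {W : Submodule F V} (hW : ND B W)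
    (hWi : W.map T ≤ W) : ∃ ν : Multiset ℕ, ν ≤ μ ∧ ν.sum = Module.finrank F W := by
  have hUi := inv_perp (orth_of_scale hG one_ne_zero fun x y => by rw [hT, one_mul]) hWi
  have hc := isCompl_perp hG hW
  obtain ⟨a, ha⟩ : ∃ a : ℕ → ℕ, ∀ j, a j = Module.finrank F ↥(W.map ((T - 1) ^ j)) := ⟨_, fun _ => rfl⟩
  obtain ⟨b, hb⟩ : ∃ b : ℕ → ℕ, ∀ j, b j = Module.finrank F ↥((perp B W).map ((T - 1) ^ j)) := ⟨_, fun _ => rfl⟩
  have hab : ∀ j, a j + b j = tail μ j := fun j => by
    have h := Submodule.finrank_sup_add_finrank_inf_eq (W.map ((T - 1) ^ j)) ((perp B W).map ((T - 1) ^ j))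
    rw [← Submodule.map_sup, hc.sup_eq_top, Submodule.map_top,
      disjoint_iff.1 (hc.disjoint.mono (pow_map_le (sub_one_map_le hWi) j) (pow_map_le (sub_one_map_le hUi) j)),
      finrank_bot, hr] at h
    rw [ha, hb]
    omega
  have hca : ∀ j, 2 * a (j + 1) ≤ a j + a (j + 2) := fun j => by
    simp only [ha]; exact convex _ (sub_one_map_le hWi) j
  have hcb : ∀ j, 2 * b (j + 1) ≤ b j + b (j + 2) := fun j => by
    simp only [hb]; exact convex _ (sub_one_map_le hUi) j
  obtain ⟨c, hc⟩ : ∃ c : ℕ → ℕ, c = fun i => a i + a (i + 2) - 2 * a (i + 1) := ⟨_, rfl⟩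
  have hc' : ∀ i, c i + 2 * a (i + 1) = a i + a (i + 2) := fun i => by
    have := hca i
    simp only [hc]; omega
  obtain ⟨ν, hν⟩ : ∃ ν : ℕ → Multiset ℕ, ν = fun N => ∑ i ∈ Finset.range N, Multiset.replicate (c i) (i + 1) :=
    ⟨_, rfl⟩
  have hsum : ∀ N, (ν N).sum + (N + 1) * a N = a 0 + N * a (N + 1) := fun N => by
    induction N with
    | zero => simp [hν]
    | succ N ih =>
      have h1 : (ν (N + 1)).sum = (ν N).sum + c N * (N + 1) := by
        simp [hν, Finset.sum_range_succ, Multiset.sum_add, Multiset.sum_replicate]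
      have h := hc' N
      rw [h1]
      linear_combination ih + (N + 1) * h
  have h0 : ∀ j, p ≤ j → a j = 0 := fun j hj => by
    have := hab j
    rw [tail_eq_zero hμ hj] at this
    omega
  refine ⟨ν p, Multiset.le_iff_count.2 fun e => ?_, ?_⟩
  · rw [hν, Multiset.count_sum']
    simp only [Multiset.count_replicate]
    rw [Finset.sum_ite, Finset.sum_const_zero, add_zero]
    rcases Nat.eq_zero_or_pos e with rfl | he
    · simp
    refine (Finset.sum_le_sum_of_subset (t := {e - 1}) fun i hi => ?_).trans ?_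
    · simp only [Finset.mem_filter] at hi
      rw [Finset.mem_singleton]; omega
    · rw [Finset.sum_singleton]
      have h1 := tail_count μ he
      rw [← hab, ← hab, ← hab] at h1
      have h2 := hc' (e - 1)
      have h3 := hcb (e - 1)
      rw [show e - 1 + 1 = e by omega, show e - 1 + 2 = e + 1 by omega] at h2 h3
      omega
  · have h1 := hsum p
    rw [h0 p le_rfl, h0 (p + 1) (by omega)] at h1
    simp only [mul_zero, add_zero] at h1
    rw [h1, ha, pow_zero, Module.End.one_eq_id, Submodule.map_id]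

end Unipotent

include hσ hS hG in
/-- An isometric involution has invariant anisotropic lines. -/
theorem lines_of_invol (h2 : (2 : F) ≠ 0) {T : Module.End F V} (hT : ∀ x y, B (T x) (T y) = B x y)
    (hTT : T * T = 1) (U : Submodule F V) (hU : ND B U) (hUi : U.map T ≤ U) (hne : U ≠ ⊥) :
    ∃ P ≤ U, ND B P ∧ P.map T ≤ P ∧ Module.finrank F P = 1 := by
  have hTT' : ∀ x, T (T x) = x := fun x => LinearMap.congr_fun hTT x
  obtain ⟨v, hv, hvv⟩ := exists_aniso hσ hS hU hne
  have key : ∀ (e : V) (s : F), e ∈ U → T e = s • e → B e e ≠ 0 →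
      ∃ P ≤ U, ND B P ∧ P.map T ≤ P ∧ Module.finrank F P = 1 := fun e s he hes hee => by
    obtain ⟨h1, h3⟩ := nd_line hee
    refine ⟨_, (Submodule.span_singleton_le_iff_mem _ _).2 he, h1, ?_, h3⟩
    rw [Submodule.map_span_le]
    rintro x rfl
    rw [hes]
    exact Submodule.smul_mem _ _ (Submodule.mem_span_singleton_self _)
  have hTv := apply_mem hUi hv
  by_cases hp : B (v + T v) (v + T v) = 0
  · refine key (v - T v) (-1) (U.sub_mem hv hTv) (by rw [map_sub, hTT', neg_one_smul, neg_sub]) fun hn => hvv ?_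
    have h4 : (2 : F) * (2 * B v v) = 0 := by
      simp only [map_add, map_sub, LinearMap.add_apply, LinearMap.sub_apply, hT] at hp hn
      linear_combination hp + hn
    exact (mul_eq_zero.1 ((mul_eq_zero.1 h4).resolve_left h2)).resolve_left h2
  · exact key (v + T v) 1 (U.add_mem hv hTv) (by rw [map_add, hTT', one_smul, add_comm]) hp

include hσ hS hG in
/-- An anti-isometric involution has invariant non-degenerate planes. -/
theorem planes_of_anti (h2 : (2 : F) ≠ 0) {T : Module.End F V} (hT : ∀ x y, B (T x) (T y) = -B x y)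
    (hTT : T * T = 1) (U : Submodule F V) (hU : ND B U) (hUi : U.map T ≤ U) (hne : U ≠ ⊥) :
    ∃ P ≤ U, ND B P ∧ P.map T ≤ P ∧ Module.finrank F P = 2 := by
  have hTT' : ∀ x, T (T x) = x := fun x => LinearMap.congr_fun hTT x
  obtain ⟨v, hv, hvv⟩ := exists_aniso hσ hS hU hne
  obtain ⟨b, hb⟩ : ∃ b, b = B v (T v) := ⟨_, rfl⟩
  have hb' : B (T v) v = -b := by
    have h := hT v (T v)
    rw [hTT'] at h
    rw [hb, h]
  have hσb : σ b = -b := by rw [hb, hS, hb', hb]
  have hσc : σ (B v v) = B v v := hS v v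
  have hcoef : ∀ x y : F, σ x * B v v + σ y * B (T v) v = 0 → σ x * b + σ y * B (T v) (T v) = 0 → x = 0 ∧ y = 0 := by
    intro x y h1 h3
    rw [hb'] at h1
    rw [hT] at h3
    have h4 : σ x * (b * b - B v v * B v v) = 0 := by linear_combination b * h3 - B v v * h1
    have hbc : b * b - B v v * B v v ≠ 0 := fun h => by
      rcases mul_self_eq_mul_self_iff.1 (sub_eq_zero.1 h) with e | e <;>
      · rw [e] at hσb
        first
        | rw [hσc] at hσb
        | rw [map_neg, hσc] at hσb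
        exact hvv ((mul_eq_zero.1 (show (2 : F) * B v v = 0 by first | linear_combination hσb | linear_combination -hσb)).resolve_left h2)
    have hx := (mul_eq_zero.1 h4).resolve_right hbc
    rw [map_eq_zero] at hx
    refine ⟨hx, ?_⟩
    rw [hx, map_zero, zero_mul, zero_add, mul_neg, neg_eq_zero, mul_eq_zero, map_eq_zero] at h3
    exact h3.resolve_right hvv
  refine ⟨Submodule.span F (Set.range ![v, T v]), Submodule.span_le.2 ?_, fun z hz hz0 => ?_, ?_, ?_⟩
  · rintro _ ⟨i, rfl⟩
    fin_cases i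
    · exact hv
    · exact apply_mem hUi hv
  · rw [Submodule.mem_span_range_iff_exists_fun] at hz
    obtain ⟨g, rfl⟩ := hz
    have h1 := hz0 v (Submodule.subset_span ⟨0, rfl⟩)
    have h3 := hz0 (T v) (Submodule.subset_span ⟨1, rfl⟩)
    simp only [Fin.sum_univ_two, Matrix.cons_val_zero, Matrix.cons_val_one, map_add, LinearMap.map_smulₛₗ,
      LinearMap.add_apply, LinearMap.smul_apply, smul_eq_mul] at h1 h3
    rw [← hb] at h3
    obtain ⟨hx, hy⟩ := hcoef _ _ h1 h3
    simp [Fin.sum_univ_two, hx, hy]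
  · rw [Submodule.map_span_le]
    rintro _ ⟨i, rfl⟩
    fin_cases i
    · exact Submodule.subset_span ⟨1, rfl⟩
    · show T (T v) ∈ _
      rw [hTT']
      exact Submodule.subset_span ⟨0, rfl⟩
  · have hli : LinearIndependent F ![v, T v] := Fintype.linearIndependent_iff.2 fun g hg => by
      have h1 := congrArg (fun z => B z v) hg
      have h3 := congrArg (fun z => B z (T v)) hg
      simp only [Fin.sum_univ_two, Matrix.cons_val_zero, Matrix.cons_val_one, map_add, LinearMap.map_smulₛₗ,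
        LinearMap.add_apply, LinearMap.smul_apply, smul_eq_mul, map_zero, LinearMap.zero_apply] at h1 h3
      rw [← hb] at h3
      obtain ⟨hx, hy⟩ := hcoef _ _ h1 h3
      intro i
      fin_cases i
      · exact hx
      · exact hy
    rw [finrank_span_eq_card hli, Fintype.card_fin]

include hS hG in
/-- An anti-isometric involution has only even dimensional members. -/
theorem even_of_anti (h2 : (2 : F) ≠ 0) {T : Module.End F V} (hT : ∀ x y, B (T x) (T y) = -B x y)
    (hTT : T * T = 1) {W : Submodule F V} (hW : ND B W) (hWi : W.map T ≤ W) : Even (Module.finrank F W) := by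
  have hTT' : ∀ x, T (T x) = x := fun x => LinearMap.congr_fun hTT x
  have hti : ∀ s : F, s * s = 1 → σ s = s → TI B (LinearMap.ker (T - s • (1 : Module.End F V))) := by
    intro s hs hσs x hx y hy
    rw [LinearMap.mem_ker, LinearMap.sub_apply, sub_eq_zero, LinearMap.smul_apply, Module.End.one_apply] at hx hy
    have h := hT x y
    simp only [hx, hy, LinearMap.map_smulₛₗ, LinearMap.smul_apply, smul_eq_mul, map_smul, RingHom.id_apply, hσs,
      ← mul_assoc, hs, one_mul] at h
    exact (mul_eq_zero.1 (show (2 : F) * B x y = 0 by linear_combination h)).resolve_left h2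
  have h1 := two_mul_ti_le hG hW (inf_le_left : W ⊓ LinearMap.ker (T - (1 : F) • (1 : Module.End F V)) ≤ W)
    (ti_mono inf_le_right (hti 1 (one_mul 1) (map_one σ)))
  have h3 := two_mul_ti_le hG hW (inf_le_left : W ⊓ LinearMap.ker (T - (-1 : F) • (1 : Module.End F V)) ≤ W)
    (ti_mono inf_le_right (hti (-1) (by ring) (by rw [map_neg, map_one])))
  have hsup : W ≤ (W ⊓ LinearMap.ker (T - (1 : F) • (1 : Module.End F V))) ⊔
      (W ⊓ LinearMap.ker (T - (-1 : F) • (1 : Module.End F V))) := fun w hw => by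
    rw [show w = (2 : F)⁻¹ • (w + T w) + (2 : F)⁻¹ • (w - T w) by
      rw [← smul_add, show w + T w + (w - T w) = (2 : F) • w by rw [two_smul]; abel, smul_smul,
        inv_mul_cancel₀ h2, one_smul]]
    refine Submodule.add_mem_sup ⟨W.smul_mem _ (W.add_mem hw (apply_mem hWi hw)), ?_⟩
      ⟨W.smul_mem _ (W.sub_mem hw (apply_mem hWi hw)), ?_⟩
    · rw [SetLike.mem_coe, LinearMap.mem_ker, map_smul, LinearMap.sub_apply, LinearMap.smul_apply, Module.End.one_apply, map_add,
        hTT', one_smul, add_comm (T w), sub_self, smul_zero]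
    · rw [SetLike.mem_coe, LinearMap.mem_ker, map_smul, LinearMap.sub_apply, LinearMap.smul_apply, Module.End.one_apply, map_sub,
        hTT', neg_one_smul, neg_sub, sub_self, smul_zero]
  have h4 := Submodule.finrank_mono hsup
  have h5 := Submodule.finrank_sup_add_finrank_inf_eq (W ⊓ LinearMap.ker (T - (1 : F) • (1 : Module.End F V)))
    (W ⊓ LinearMap.ker (T - (-1 : F) • (1 : Module.End F V)))
  rw [Nat.even_iff]
  omega

include hσ hS hG in
/-- Pieces for maps without eigenvalues whose invariant subspaces have dimensions divisible by `r`. -/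
theorem pieces_of_simple {r : ℕ} (hr : 0 < r) {T : Module.End F V} {s : F} (hs : s ≠ 0)
    (hT : ∀ x y, B (T x) (T y) = s * B x y) {z : F} (hz : T ^ r = z • 1)
    (hdvd : ∀ W : Submodule F V, W.map T ≤ W → r ∣ Module.finrank F W)
    (U : Submodule F V) (hU : ND B U) (hUi : U.map T ≤ U) (hne : U ≠ ⊥) :
    ∃ P ≤ U, ND B P ∧ P.map T ≤ P ∧ Module.finrank F P = r := by
  obtain ⟨v, hv, hvv⟩ := exists_aniso hσ hS hU hne
  obtain ⟨P, hP⟩ : ∃ P, P = Submodule.span F (Set.range fun i : Fin r => (T ^ (i : ℕ)) v) := ⟨_, rfl⟩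
  have hvP : v ∈ P := hP ▸ Submodule.subset_span ⟨⟨0, hr⟩, rfl⟩
  have hPi : P.map T ≤ P := by
    rw [hP, Submodule.map_span_le]
    rintro _ ⟨i, rfl⟩
    show T ((T ^ (i : ℕ)) v) ∈ _
    rw [← Module.End.mul_apply, ← pow_succ']
    by_cases hi : (i : ℕ) + 1 < r
    · exact Submodule.subset_span ⟨⟨(i : ℕ) + 1, hi⟩, rfl⟩
    · rw [show (i : ℕ) + 1 = r by omega, hz, LinearMap.smul_apply, Module.End.one_apply]
      exact Submodule.smul_mem _ _ (Submodule.subset_span ⟨⟨0, hr⟩, rfl⟩)
  have hPd : Module.finrank F P = r := by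
    obtain ⟨t, ht⟩ := hdvd P hPi
    have hle : Module.finrank F P ≤ r := by
      rw [hP]; exact (finrank_range_le_card _).trans (Fintype.card_fin r).le
    have hv0 : v ≠ 0 := fun e => hvv (by simp [e])
    have hpos : 0 < Module.finrank F P := by
      rw [Nat.pos_iff_ne_zero]
      intro h
      rw [Submodule.finrank_eq_zero.1 h, Submodule.mem_bot] at hvP
      exact hv0 hvP
    rcases t with _ | _ | t
    · omega
    · omega
    · rw [Nat.mul_add, Nat.mul_add] at ht; omega
  refine ⟨P, hP ▸ Submodule.span_le.2 ?_, (nd_iff hG).2 ?_, hPi, hPd⟩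
  · rintro _ ⟨i, rfl⟩; exact pow_apply_mem hUi _ hv
  · obtain ⟨t, ht⟩ := hdvd _ (inv_inf hPi (inv_perp (orth_of_scale hG hs hT) hPi))
    rcases Nat.eq_zero_or_pos t with rfl | ht0
    · exact Submodule.finrank_eq_zero.1 (by rw [ht, mul_zero])
    · have hle : P ⊓ perp B P = P := Submodule.eq_of_le_of_finrank_le inf_le_left (by
        rw [hPd, ht]; exact Nat.le_mul_of_pos_right r ht0)
      exact absurd ((hle.symm ▸ hvP : v ∈ P ⊓ perp B P).2 v hvP) hvv

end CfsgLib.MaxSub.IsoNDHerm
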