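import Cfsg.Agent.Lib.MaxSub.IsoSemi

/-!
Self-duality of the minimal invariant subspaces, orthogonal pieces, maximal totally isotropic invariant subspaces.
-/

set_option autoImplicit false

namespace CfsgLib.MaxSub.IsoSemi

open Polynomial CfsgLib.Classical

universe u v

variable {F : Type u} [Field F] [Fintype F] {V : Type v} [AddCommGroup V] [Module F V] [FiniteDimensional F V]
  {σ : F →+* F} {B : V →ₛₗ[σ] V →ₗ[F] F} {T : Module.End F V} {r : ℕ} (hC : Ctx B T r)
  {p c : ℕ} [Fact p.Prime] [CharP F p]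

omit [Fintype F] in
theorem expand_map (hσp : ∀ x, σ x = x ^ p ^ c) (g : F[X]) : expand F (p ^ c) (g.map σ) = g ^ p ^ c := by
  rw [← map_expand, show σ = iterateFrobenius F p c from RingHom.ext fun x => by rw [iterateFrobenius_def, hσp],
    map_iterateFrobenius_expand]

theorem expand_card_pow (g : F[X]) (j : ℕ) :
    expand F (Fintype.card F ^ j) g = g ^ (Fintype.card F ^ j) := by
  induction j with
  | zero => rw [pow_zero, expand_one, pow_one]
  | succ j ih => rw [pow_succ', expand_mul, ih, map_pow, FiniteField.expand_card, ← pow_mul]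

section

variable (hσp : ∀ x, σ x = x ^ p ^ c)
include hC hσp

omit [FiniteDimensional F V] in
/-- In the self-dual case `g(T)` is adjoint to a power of itself. -/
theorem aeval_self_dual (hSD : SelfDual (Fintype.card F) (p ^ c) r) (g : F[X]) :
    ∃ M, 0 < M ∧ ∀ x y, B (aeval T g x) y = B x ((aeval T g ^ M) y) := by
  obtain ⟨j, hj⟩ := hSD
  refine ⟨p ^ c * Fintype.card F ^ j, Nat.mul_pos (Nat.pow_pos (Fact.out : p.Prime).pos)
    (Nat.pow_pos Fintype.card_pos), fun x y => ?_⟩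
  have hT : T ^ (r - 1) = T ^ (p ^ c * Fintype.card F ^ j) := pow_modEq hC <| by
    obtain ⟨t, ht⟩ := hj
    obtain ⟨t', rfl⟩ : ∃ t', t = t' + 1 := ⟨t - 1, by
      rcases Nat.eq_zero_or_pos t with rfl | h
      · simp at ht
      · omega⟩
    rw [Nat.mul_succ] at ht
    have := hC.prime.one_le
    rw [show p ^ c * Fintype.card F ^ j = r - 1 + r * t' by omega, Nat.add_mul_mod_self_left]
  rw [aeval_adj hC, expand_aeval, hT, ← expand_aeval, mul_comm (p ^ c), expand_mul, expand_map hσp, map_pow,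
    expand_card_pow, ← pow_mul, mul_comm, map_pow]

/-- A partner is killed by the same factor. -/
theorem partner_killed (hSD : SelfDual (Fintype.card F) (p ^ c) r) {X Y : Submodule F V}
    (hY : Module.finrank F Y = orderOf (Fintype.card F : ZMod r)) (hYR : Y ≤ LinearMap.range (T - 1))
    (hYi : Y.map T ≤ Y) (hYX : Y ⊓ perp B X = ⊥) {g : F[X]} (hgX : ∀ x ∈ X, aeval T g x = 0) :
    ∀ y ∈ Y, aeval T g y = 0 := by
  obtain ⟨M, hM, hadj⟩ := aeval_self_dual hC hσp hSD g
  have hkill : ∀ y ∈ Y, (aeval T g ^ M) y = 0 := fun y hy => by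
    refine (Submodule.mem_bot F).1 (hYX ▸ ⟨?_, fun x hx => ?_⟩)
    · rw [← map_pow]; exact aeval_apply_mem hYi _ hy
    · rw [← hadj, hgX x hx, map_zero, LinearMap.zero_apply]
  rcases simple hC hY hYR (inv_inf hYi (inv_ker_aeval T g)) inf_le_left with h | h
  · exfalso
    have hinj : ∀ y ∈ Y, aeval T g y = 0 → y = 0 := fun y hy h0 => (Submodule.mem_bot F).1 (h ▸ ⟨hy, h0⟩)
    have hall : ∀ k, ∀ y ∈ Y, (aeval T g ^ k) y = 0 → y = 0 := fun k => by
      induction k with
      | zero => intro y _ h0; exact h0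
      | succ k ih =>
        intro y hy h0
        rw [pow_succ, Module.End.mul_apply] at h0
        exact hinj y hy (ih _ (aeval_apply_mem hYi g hy) h0)
    exact ne_bot_of_finrank hC hY ((Submodule.eq_bot_iff _).2 fun y hy => hall M y hy (hkill y hy))
  · exact fun y hy => (h.symm.le hy).2

/-- In the self-dual case some minimal subspace is non-degenerate. -/
theorem exists_nd_simple (hSD : SelfDual (Fintype.card F) (p ^ c) r) {U : Submodule F V} (hU : ND B U)
    (hUi : U.map T ≤ U) (hUR : U ≤ LinearMap.range (T - 1)) (hne : U ≠ ⊥) :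
    ∃ P : Submodule F V, P ≤ U ∧ P.map T ≤ P ∧ ND B P ∧
      Module.finrank F P = orderOf (Fintype.card F : ZMod r) := by
  obtain ⟨k, hk⟩ := dvd_finrank hC hUi hUR
  have hk0 : k ≠ 0 := fun h => hne (Submodule.finrank_eq_zero.1 (by rw [hk, h, mul_zero]))
  obtain ⟨X, hXU, hXi, hXd⟩ := exists_sub hC hUi hUR 1 (by rw [hk]; exact Nat.mul_le_mul_left _ (by omega))
  rw [mul_one] at hXd
  rcases ti_or_nd hC hXd (hXU.trans hUR) hXi with hX | hX
  swap
  · exact ⟨X, hXU, hXi, hX, hXd⟩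
  obtain ⟨Y, hYU, hYi, hYd, hYX, hXY⟩ := exists_partner hC hU hUi hUR hXU hXi hXd
  rcases ti_or_nd hC hYd (hYU.trans hUR) hYi with hY | hY
  swap
  · exact ⟨Y, hYU, hYi, hY, hYd⟩
  obtain ⟨g, hg, hgX⟩ := exists_factor hC hXd (hXU.trans hUR) hXi
  obtain ⟨φ, hφ⟩ := exists_iso hC hXd hYd (hXU.trans hUR) (hYU.trans hUR) hXi hYi hg hgX
    (partner_killed hC hσp hSD hYd (hYU.trans hUR) hYi hYX hgX)
  have hgraph : ∀ ψ : X →ₗ[F] V, (∀ x, ψ x ∈ Y) → (∀ x : X, ψ ⟨T (x : V), apply_mem hXi x.2⟩ = T (ψ x)) →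
      ¬ ND B (LinearMap.range (X.subtype + ψ)) →
      (∀ P : Submodule F V, P ≤ U → P.map T ≤ P → Module.finrank F P = orderOf (Fintype.card F : ZMod r) →
        ¬ ND B P) →
      ∀ u v : X, B (u : V) (ψ v) + B (ψ u) (v : V) = 0 := by
    intro ψ hψY hψT _ hno u v
    let G := LinearMap.range (X.subtype + ψ)
    have hGU : G ≤ U := by rintro _ ⟨x, rfl⟩; exact U.add_mem (hXU x.2) (hYU (hψY x))
    have hGi : G.map T ≤ G := by
      rintro _ ⟨_, ⟨x, rfl⟩, rfl⟩
      exact ⟨⟨T (x : V), apply_mem hXi x.2⟩, by simp [hψT]⟩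
    have hGd : Module.finrank F G = orderOf (Fintype.card F : ZMod r) := by
      rw [← hXd]
      refine LinearMap.finrank_range_of_inj ((injective_iff_map_eq_zero _).2 fun x hx => ?_)
      have h1 : (x : V) = -ψ x := eq_neg_of_add_eq_zero_left hx
      have h2 : (x : V) ∈ X ⊓ perp B Y :=
        ⟨x.2, fun w hw => by rw [h1]; exact hY w hw _ (Y.neg_mem (hψY x))⟩
      rw [hXY, Submodule.mem_bot] at h2
      exact Subtype.ext h2
    have hG := ((ti_or_nd hC hGd (hGU.trans hUR) hGi).resolve_right (hno G hGU hGi hGd))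
      _ ⟨u, rfl⟩ _ ⟨v, rfl⟩
    simpa [hX _ u.2 _ v.2, hY _ (hψY u) _ (hψY v)] using hG
  by_contra hno
  push Not at hno
  have hno' : ∀ P : Submodule F V, P ≤ U → P.map T ≤ P →
      Module.finrank F P = orderOf (Fintype.card F : ZMod r) → ¬ ND B P := fun P h1 h2 h3 h4 => hno P h1 h2 h4 h3
  have h1 := hgraph (Y.subtype ∘ₗ φ.toLinearMap) (fun x => (φ x).2) hφ
  have h2 := hgraph (T ∘ₗ Y.subtype ∘ₗ φ.toLinearMap) (fun x => apply_mem hYi (φ x).2)
    (fun x => congrArg T (hφ x))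
  by_cases hN1 : ND B (LinearMap.range (X.subtype + Y.subtype ∘ₗ φ.toLinearMap))
  · refine hno' _ ?_ ?_ ?_ hN1
    · rintro _ ⟨x, rfl⟩; exact U.add_mem (hXU x.2) (hYU (φ x).2)
    · rintro _ ⟨_, ⟨x, rfl⟩, rfl⟩
      exact ⟨⟨T (x : V), apply_mem hXi x.2⟩, by simp [hφ]⟩
    · rw [← hXd]
      refine LinearMap.finrank_range_of_inj ((injective_iff_map_eq_zero _).2 fun x hx => ?_)
      have h3 : (x : V) ∈ X ⊓ perp B Y :=
        ⟨x.2, fun w hw => by
          rw [show (x : V) = -(φ x : V) from eq_neg_of_add_eq_zero_left hx]; exact hY w hw _ (Y.neg_mem (φ x).2)⟩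
      rw [hXY, Submodule.mem_bot] at h3
      exact Subtype.ext h3
  by_cases hN2 : ND B (LinearMap.range (X.subtype + T ∘ₗ Y.subtype ∘ₗ φ.toLinearMap))
  · refine hno' _ ?_ ?_ ?_ hN2
    · rintro _ ⟨x, rfl⟩; exact U.add_mem (hXU x.2) (hYU (apply_mem hYi (φ x).2))
    · rintro _ ⟨_, ⟨x, rfl⟩, rfl⟩
      exact ⟨⟨T (x : V), apply_mem hXi x.2⟩, by simp [hφ]⟩
    · rw [← hXd]
      refine LinearMap.finrank_range_of_inj ((injective_iff_map_eq_zero _).2 fun x hx => ?_)
      have h3 : (x : V) ∈ X ⊓ perp B Y :=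
        ⟨x.2, fun w hw => by
          rw [show (x : V) = -T (φ x : V) from eq_neg_of_add_eq_zero_left hx]
          exact hY w hw _ (Y.neg_mem (apply_mem hYi (φ x).2))⟩
      rw [hXY, Submodule.mem_bot] at h3
      exact Subtype.ext h3
  have e1 := h1 hN1 hno'
  have e2 := h2 hN2 hno'
  simp only [LinearMap.comp_apply, Submodule.subtype_apply, LinearEquiv.coe_coe] at e1 e2
  -- the two graphs force `T ^ 2 = 1` on `X`
  refine ne_bot_of_finrank hC hXd ((Submodule.eq_bot_iff _).2 fun x hx => ?_)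
  have key : ∀ v : X, T (T (v : V)) = (v : V) := fun v => by
    let w : X := ⟨T (v : V), apply_mem hXi v.2⟩
    let w' : X := ⟨T (w : V), apply_mem hXi w.2⟩
    have hmem : T (φ w : V) - (φ v : V) ∈ Y ⊓ perp B X :=
      ⟨Y.sub_mem (apply_mem hYi (φ w).2) (φ v).2, fun u hu => by
        have a1 := e1 ⟨u, hu⟩ v
        have a2 := e2 ⟨u, hu⟩ w
        rw [show ((w : X) : V) = T (v : V) from rfl, hC.iso] at a2
        rw [map_sub, sub_eq_zero]
        linear_combination a2 - a1⟩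
    rw [hYX, Submodule.mem_bot, sub_eq_zero, ← hφ w, SetLike.coe_eq_coe] at hmem
    exact congrArg Subtype.val (φ.injective hmem)
  refine no_fix hC (hXU.trans hUR) hx ?_
  have hodd : r % 2 = 1 := Nat.odd_iff.1 (hC.prime.odd_of_ne_two hC.rne2)
  have h5 : ∀ k, (T ^ (2 * k + 1)) x = T x := fun k => by
    induction k with
    | zero => rw [mul_zero, zero_add, pow_one]
    | succ k ih => rw [show 2 * (k + 1) + 1 = 2 * k + 1 + 1 + 1 by ring, pow_succ', pow_succ',
        Module.End.mul_apply, Module.End.mul_apply, ih, key ⟨x, hx⟩]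
  rw [← h5 (r / 2), show 2 * (r / 2) + 1 = r by omega, hC.pow, Module.End.one_apply]

/-- Outside the self-dual case the minimal subspaces are totally isotropic. -/
theorem ti_of_not_sd (hSD : ¬ SelfDual (Fintype.card F) (p ^ c) r) {X : Submodule F V} (hXi : X.map T ≤ X)
    (hXR : X ≤ LinearMap.range (T - 1)) (hXd : Module.finrank F X = orderOf (Fintype.card F : ZMod r)) :
    TI B X := by
  haveI : Fact r.Prime := ⟨hC.prime⟩
  refine (ti_or_nd hC hXd hXR hXi).resolve_right fun hN => hSD ?_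
  obtain ⟨g, hg, hgX⟩ := exists_factor hC hXd hXR hXi
  obtain ⟨hgm, hgi, -⟩ := SympOrderR.mem_factors.1 hg
  haveI : Fact (Irreducible g) := ⟨hgi⟩
  have hrp : r ≠ p := fun h => hC.rne (by rw [h]; exact CharP.cast_eq_zero F p)
  have hk : ∀ x ∈ X, aeval T (expand F (r - 1) (g.map σ)) x = 0 := fun x hx =>
    hN _ (aeval_apply_mem hXi _ hx) fun w hw => hC.refl _ _ (by
      rw [← aeval_adj hC, hgX w hw, map_zero, LinearMap.zero_apply])
  have hdvd : g ∣ expand F (r - 1) (g.map σ) := by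
    by_contra hnd
    obtain ⟨a, b, hab⟩ := hgi.coprime_iff_not_dvd.2 hnd
    refine ne_bot_of_finrank hC hXd ((Submodule.eq_bot_iff _).2 fun x hx => ?_)
    have := LinearMap.congr_fun (congrArg (aeval T) hab) x
    rw [map_add, map_mul, map_mul, map_one, LinearMap.add_apply, Module.End.mul_apply, Module.End.mul_apply,
      hgX x hx, hk x hx, map_zero, map_zero, add_zero] at this
    exact this.symm
  have hω := KnownC.SigmaFactors.root_primitive (p := p) hC.prime hrp hg
  have h0 : aeval (AdjoinRoot.root g ^ (r - 1)) (g.map σ) = 0 := by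
    rw [← expand_aeval]
    exact aeval_eq_zero_of_dvd_aeval_eq_zero hdvd (by rw [AdjoinRoot.aeval_eq, AdjoinRoot.mk_self])
  have hs : ((p ^ c : ℕ) : ZMod r) ≠ 0 := by
    rw [ne_eq, ZMod.natCast_eq_zero_iff]
    exact fun h => hrp ((Nat.prime_dvd_prime_iff_eq hC.prime Fact.out).1 (hC.prime.dvd_of_dvd_pow h))
  set t : ℕ := ((r - 1 : ℕ) * ((p ^ c : ℕ) : ZMod r)⁻¹ : ZMod r).val with ht
  have htm : (AdjoinRoot.root g ^ t) ^ p ^ c = AdjoinRoot.root g ^ (r - 1) := by
    rw [← pow_mul]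
    refine (IsOfFinOrder.pow_eq_pow_iff_modEq (hω.isOfFinOrder hC.prime.ne_zero)).2 ?_
    rw [← hω.eq_orderOf, ← ZMod.natCast_eq_natCast_iff, Nat.cast_mul, ht, ZMod.natCast_zmod_val, mul_assoc,
      inv_mul_cancel₀ hs, mul_one]
  have hy : aeval (AdjoinRoot.root g ^ t) g = 0 := by
    rw [← htm, ← expand_aeval, expand_map hσp, map_pow] at h0
    exact pow_eq_zero_iff (Nat.pow_pos (Fact.out : p.Prime).pos).ne' |>.1 h0
  obtain ⟨j, hj⟩ := (KnownC.SigmaFactors.root_iff (p := p) hC.prime hrp (e := orderOf (Fintype.card F : ZMod r))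
    rfl hg _).1 hy
  refine ⟨j, ?_⟩
  have h2 := (IsOfFinOrder.pow_eq_pow_iff_modEq (hω.isOfFinOrder hC.prime.ne_zero)).1 hj
  rw [← hω.eq_orderOf, ← ZMod.natCast_eq_natCast_iff] at h2
  rw [← ZMod.natCast_eq_zero_iff, Nat.cast_add, Nat.cast_mul, ← h2, ht, ZMod.natCast_zmod_val, Nat.cast_one,
    mul_comm, mul_assoc, inv_mul_cancel₀ hs, mul_one, ← Nat.cast_one (R := ZMod r), ← Nat.cast_add,
    Nat.sub_add_cancel hC.prime.one_le, ZMod.natCast_self]

/-- The dimensions of the non-degenerate invariant subspaces: `d = e` in the self-dual case, `2 e` otherwise. -/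
theorem exists_piece {d : ℕ} (hd : (SelfDual (Fintype.card F) (p ^ c) r → d = orderOf (Fintype.card F : ZMod r)) ∧
      (¬ SelfDual (Fintype.card F) (p ^ c) r → d = 2 * orderOf (Fintype.card F : ZMod r)))
    {U : Submodule F V} (hU : ND B U) (hUi : U.map T ≤ U) (hUR : U ≤ LinearMap.range (T - 1)) (hne : U ≠ ⊥) :
    ∃ P : Submodule F V, P ≤ U ∧ P.map T ≤ P ∧ ND B P ∧ Module.finrank F P = d := by
  by_cases hSD : SelfDual (Fintype.card F) (p ^ c) r
  · rw [hd.1 hSD]; exact exists_nd_simple hC hσp hSD hU hUi hUR hne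
  rw [hd.2 hSD]
  obtain ⟨k, hk⟩ := dvd_finrank hC hUi hUR
  have hk0 : k ≠ 0 := fun h => hne (Submodule.finrank_eq_zero.1 (by rw [hk, h, mul_zero]))
  obtain ⟨X, hXU, hXi, hXd⟩ := exists_sub hC hUi hUR 1 (by rw [hk]; exact Nat.mul_le_mul_left _ (by omega))
  rw [mul_one] at hXd
  have hX := ti_of_not_sd hC hσp hSD hXi (hXU.trans hUR) hXd
  obtain ⟨Y, hYU, hYi, hYd, hYX, hXY⟩ := exists_partner hC hU hUi hUR hXU hXi hXd
  obtain ⟨hN, hdim⟩ := nd_pair hC hYX hXY hX
  exact ⟨X ⊔ Y, sup_le hXU hYU, inv_sup hXi hYi, hN, by rw [hdim, hXd, hYd, two_mul]⟩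

/-- Non-degenerate invariant subspaces of `R` have exactly the dimensions divisible by `d`. -/
theorem nd_dims {d : ℕ} (hd : (SelfDual (Fintype.card F) (p ^ c) r → d = orderOf (Fintype.card F : ZMod r)) ∧
      (¬ SelfDual (Fintype.card F) (p ^ c) r → d = 2 * orderOf (Fintype.card F : ZMod r))) :
    ∀ {U : Submodule F V}, ND B U → U.map T ≤ U → U ≤ LinearMap.range (T - 1) →
      d ∣ Module.finrank F U ∧ ∀ k, d * k ≤ Module.finrank F U →
        ∃ W : Submodule F V, W ≤ U ∧ W.map T ≤ W ∧ ND B W ∧ Module.finrank F W = d * k := by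
  intro U
  induction h : Module.finrank F U using Nat.strong_induction_on generalizing U with
  | _ n ih =>
    intro hU hUi hUR
    have hd0 : 0 < d := by
      have := ord_pos hC
      by_cases hSD : SelfDual (Fintype.card F) (p ^ c) r
      · rw [hd.1 hSD]; omega
      · rw [hd.2 hSD]; omega
    have hz : ∃ W : Submodule F V, W ≤ U ∧ W.map T ≤ W ∧ ND B W ∧ Module.finrank F W = d * 0 :=
      ⟨⊥, bot_le, inv_bot T, fun u hu _ => (Submodule.mem_bot F).1 hu, by rw [finrank_bot, mul_zero]⟩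
    by_cases hne : U = ⊥
    · have hn : n = 0 := by rw [← h, hne, finrank_bot]
      refine ⟨hn ▸ dvd_zero d, fun k hk => ?_⟩
      obtain rfl : k = 0 := by
        rcases Nat.eq_zero_or_pos k with hk0 | hk0
        · exact hk0
        · have := Nat.mul_pos hd0 hk0; omega
      exact hz
    obtain ⟨P, hPU, hPi, hP, hPd⟩ := exists_piece hC hσp hd hU hUi hUR hne
    have hdim := finrank_inf_perp hC.toGeom hU hPU
    obtain ⟨⟨t, ht⟩, hex⟩ := ih _ (by omega) rfl (nd_inf_perp hC.toGeom hU hP hPU)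
      (inv_inf hUi (inv_perp hC hPi)) (inf_le_left.trans hUR)
    refine ⟨⟨t + 1, by rw [← h, ← hdim, ht, hPd, Nat.mul_succ]⟩, fun k hk => ?_⟩
    rcases Nat.eq_zero_or_pos k with rfl | hk0
    · exact hz
    obtain ⟨k', rfl⟩ : ∃ k', k = k' + 1 := ⟨k - 1, by omega⟩
    rw [Nat.mul_succ] at hk
    obtain ⟨W, hW, hWi, hWn, hWd⟩ := hex k' (by omega)
    refine ⟨P ⊔ W, sup_le hPU (hW.trans inf_le_left), inv_sup hPi hWi,
      nd_sup hC.toGeom hP hWn (hW.trans inf_le_right), ?_⟩
    have h1 := Submodule.finrank_sup_add_finrank_inf_eq P W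
    rw [show P ⊓ W = ⊥ from le_bot_iff.1 ((inf_le_inf_left P (hW.trans inf_le_right)).trans
      ((nd_iff hC.toGeom).1 hP).le), finrank_bot, hPd, hWd] at h1
    rw [Nat.mul_succ]
    omega

/-- Anisotropic invariant subspaces of `R` are small. -/
theorem anisotropic_bound {Y : Submodule F V} (hYi : Y.map T ≤ Y) (hYR : Y ≤ LinearMap.range (T - 1))
    (hY : ∀ X : Submodule F V, X ≤ Y → X.map T ≤ X → TI B X → X = ⊥) :
    Module.finrank F Y ≤ r - 1 ∧ (¬ SelfDual (Fintype.card F) (p ^ c) r → Y = ⊥) := by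
  classical
  haveI : Fact r.Prime := ⟨hC.prime⟩
  have hnd : ∀ Z : Submodule F V, Z ≤ Y → Z.map T ≤ Z → ND B Z := fun Z hZ hZi => by
    rw [nd_iff hC.toGeom]
    exact hY _ (inf_le_left.trans hZ) (inv_inf hZi (inv_perp hC hZi))
      fun u hu v hv => hv.2 u hu.1
  refine ⟨?_, fun hSD => by_contra fun hne => ?_⟩
  swap
  · obtain ⟨k, hk⟩ := dvd_finrank hC hYi hYR
    have hk0 : k ≠ 0 := fun h => hne (Submodule.finrank_eq_zero.1 (by rw [hk, h, mul_zero]))
    obtain ⟨X, hXY, hXi, hXd⟩ := exists_sub hC hYi hYR 1 (by rw [hk]; exact Nat.mul_le_mul_left _ (by omega))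
    rw [mul_one] at hXd
    exact ne_bot_of_finrank hC hXd (hY X hXY hXi (ti_of_not_sd hC hσp hSD hXi (hXY.trans hYR) hXd))
  have hrp : r ≠ p := fun h => hC.rne (by rw [h]; exact CharP.cast_eq_zero F p)
  have hone : ∀ g ∈ SympOrderR.factors F r,
      Module.finrank F ↥(Y ⊓ LinearMap.ker (aeval T g)) ≤ orderOf (Fintype.card F : ZMod r) := by
    intro g hg
    by_contra hlt
    push Not at hlt
    have hZi := inv_inf hYi (inv_ker_aeval T g)
    have hZR : Y ⊓ LinearMap.ker (aeval T g) ≤ LinearMap.range (T - 1) := inf_le_left.trans hYR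
    obtain ⟨k, hk⟩ := dvd_finrank hC hZi hZR
    have hk2 : 2 ≤ k := by
      by_contra hk2
      have : k = 0 ∨ k = 1 := by omega
      rcases this with rfl | rfl <;> omega
    obtain ⟨X, hXZ, hXi, hXd⟩ := exists_sub hC hZi hZR 1 (by rw [hk]; exact Nat.mul_le_mul_left _ (by omega))
    rw [mul_one] at hXd
    have hXn := hnd X (hXZ.trans inf_le_left) hXi
    have hZn := hnd _ inf_le_left hZi
    have hdim := finrank_inf_perp hC.toGeom hZn hXZ
    have hm : orderOf (Fintype.card F : ZMod r) * 2 ≤ orderOf (Fintype.card F : ZMod r) * k :=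
      Nat.mul_le_mul_left _ hk2
    obtain ⟨X', hX'Z, hX'i, hX'd⟩ := exists_sub hC (inv_inf hZi (inv_perp hC hXi)) (inf_le_left.trans hZR) 1
      (by omega)
    rw [mul_one] at hX'd
    have hX'Y : X' ≤ Y := hX'Z.trans (inf_le_left.trans inf_le_left)
    obtain ⟨φ, hφ⟩ := exists_iso hC hXd hX'd (hXZ.trans hZR) (hX'Y.trans hYR) hXi hX'i hg
      (fun x hx => (hXZ hx).2) (fun x hx => (hX'Z hx).1.2)
    obtain ⟨W, hW, hWi, hWt, hWd⟩ := exists_ti_of_pair hC hXi hX'i (hXZ.trans hZR) (hX'Y.trans hYR) hXn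
      (hnd X' hX'Y hX'i) (hX'Z.trans inf_le_right) φ hφ
    exact ne_bot_of_finrank hC (hWd.trans hXd)
      (hY W (hW.trans (sup_le (hXZ.trans inf_le_left) hX'Y)) hWi hWt)
  have key : ∀ m : F[X], m ∣ cyclotomic r F →
      Module.finrank F ↥(Y ⊓ LinearMap.ker (aeval T m)) ≤ m.natDegree := by
    intro m
    induction m using UniqueFactorizationMonoid.induction_on_prime with
    | h₁ => exact fun h => absurd (zero_dvd_iff.1 h) (cyclotomic_ne_zero r F)
    | h₂ m hm =>
      intro _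
      have : Y ⊓ LinearMap.ker (aeval T m) = ⊥ := (Submodule.eq_bot_iff _).2 fun x hx => by
        obtain ⟨u, rfl⟩ := hm
        have h1 := congrArg (aeval T ((u⁻¹ : F[X]ˣ) : F[X])) (show aeval T (u : F[X]) x = 0 from hx.2)
        rw [← Module.End.mul_apply, ← map_mul, Units.inv_mul, map_one, map_zero] at h1
        exact h1
      rw [this, finrank_bot]
      exact Nat.zero_le _
    | h₃ m g hm hg ih =>
      intro hd
      have hgd : g ∣ cyclotomic r F := (dvd_mul_right _ _).trans hd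
      have hn := normalize_mem_factors hg.irreducible hgd
      have hgker : LinearMap.ker (aeval T (normalize g)) = LinearMap.ker (aeval T g) := by
        obtain ⟨u, hu⟩ := associated_normalize g
        refine le_antisymm (fun x hx => ?_) fun x hx => ?_
        · obtain ⟨w, hw⟩ := (associated_normalize g).symm
          rw [LinearMap.mem_ker] at hx ⊢
          rw [← hw, mul_comm, map_mul, Module.End.mul_apply, hx, map_zero]
        · rw [LinearMap.mem_ker] at hx ⊢
          rw [← hu, mul_comm, map_mul, Module.End.mul_apply, hx, map_zero]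
      have h1 := hone _ hn
      rw [hgker, ← SympOrderR.natDegree_factor (F := F) (p := p) rfl hC.prime hrp rfl hn,
        natDegree_eq_of_degree_eq (Polynomial.degree_normalize (p := g))] at h1
      have h2 := ih ((dvd_mul_left _ _).trans hd)
      rw [natDegree_mul hg.ne_zero hm]
      let f : ↥(Y ⊓ LinearMap.ker (aeval T (g * m))) →ₗ[F] V := aeval T m ∘ₗ Submodule.subtype _
      have h := f.finrank_range_add_finrank_ker
      have hr : LinearMap.range f ≤ Y ⊓ LinearMap.ker (aeval T g) := by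
        rintro _ ⟨x, rfl⟩
        refine ⟨aeval_apply_mem hYi m x.2.1, ?_⟩
        show aeval T g (aeval T m x) = 0
        rw [← Module.End.mul_apply, ← map_mul]
        exact x.2.2
      have hkk : (LinearMap.ker f).map (Submodule.subtype _) ≤ Y ⊓ LinearMap.ker (aeval T m) := by
        rintro _ ⟨x, hx, rfl⟩; exact ⟨x.2.1, hx⟩
      have h3 := Submodule.finrank_mono hr
      have h4 := Submodule.finrank_mono hkk
      rw [← (Submodule.equivMapOfInjective _ (Submodule.injective_subtype _) _).finrank_eq] at h4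
      omega
  have h := key _ dvd_rfl
  rw [inf_eq_left.2 fun x hx => cyclotomic_kills hC (hYR hx), natDegree_cyclotomic,
    Nat.totient_prime hC.prime] at h
  exact h

/-- A maximal totally isotropic invariant subspace of a non-degenerate invariant part of `R`. -/
theorem exists_max {U : Submodule F V} (hU : ND B U) (hUi : U.map T ≤ U) (hUR : U ≤ LinearMap.range (T - 1)) :
    ∃ W : Submodule F V, W ≤ U ∧ W.map T ≤ W ∧ TI B W ∧
      Module.finrank F U ≤ 2 * Module.finrank F W + (r - 1) ∧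
      (¬ SelfDual (Fintype.card F) (p ^ c) r → Module.finrank F U = 2 * Module.finrank F W) := by
  obtain ⟨W, ⟨hWU, hWi, hW⟩, hmax⟩ := wellFounded_gt.has_min
    {W : Submodule F V | W ≤ U ∧ W.map T ≤ W ∧ TI B W} ⟨⊥, bot_le, inv_bot T, ti_bot⟩
  refine ⟨W, hWU, hWi, hW, ?_⟩
  obtain ⟨C, hC', hCi⟩ := SemiDims.exists_compl hC.rne (c := (1 : F)) one_ne_zero (by rw [hC.pow, one_smul]) hWi
  obtain ⟨Y, hY⟩ : ∃ Y, Y = (U ⊓ perp B W) ⊓ C := ⟨_, rfl⟩
  have hYi : Y.map T ≤ Y := hY ▸ inv_inf (inv_inf hUi (inv_perp hC hWi)) hCi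
  have hsup : W ⊔ Y = U ⊓ perp B W := by
    rw [hY, inf_comm _ C, ← sup_inf_assoc_of_le C (le_inf hWU (ti_iff_le_perp.1 hW)), hC'.sup_eq_top, top_inf_eq]
  have hYR : Y ≤ LinearMap.range (T - 1) := hY ▸ inf_le_left.trans (inf_le_left.trans hUR)
  have hY0 : ∀ X : Submodule F V, X ≤ Y → X.map T ≤ X → TI B X → X = ⊥ := fun X hX hXi hXt => by
    have hle : X ≤ U ⊓ perp B W := hX.trans (hY ▸ inf_le_left)
    have h1 : ¬ W < W ⊔ X := fun hlt => hmax _ ⟨sup_le hWU (hle.trans inf_le_left), inv_sup hWi hXi,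
      ti_sup hC.toGeom hW hXt (hle.trans inf_le_right)⟩ hlt
    have h2 : X ≤ W := by
      by_contra h3
      exact h1 (lt_of_le_of_ne le_sup_left fun e => h3 (e.symm ▸ le_sup_right))
    exact le_bot_iff.1 (hC'.disjoint.eq_bot ▸ le_inf h2 (hX.trans (hY ▸ inf_le_right)))
  obtain ⟨hb, hb'⟩ := anisotropic_bound hC hσp hYi hYR hY0
  have hdim := finrank_inf_perp hC.toGeom hU hWU
  have h1 := Submodule.finrank_sup_add_finrank_inf_eq W Y
  rw [hsup, show W ⊓ Y = ⊥ from le_bot_iff.1 (hC'.disjoint.eq_bot ▸ inf_le_inf_left W (hY ▸ inf_le_right)),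
    finrank_bot] at h1
  refine ⟨by omega, fun hSD => ?_⟩
  rw [hb' hSD, finrank_bot] at h1
  omega

/-- With at most one minimal subspace of each kind there is no totally isotropic invariant subspace in `R`. -/
theorem no_ti (hSD : SelfDual (Fintype.card F) (p ^ c) r)
    (hone : ∀ g ∈ SympOrderR.factors F r,
      Module.finrank F ↥(LinearMap.ker (aeval T g)) ≤ orderOf (Fintype.card F : ZMod r))
    {W : Submodule F V} (hWi : W.map T ≤ W) (hWR : W ≤ LinearMap.range (T - 1)) (hW : TI B W) : W = ⊥ := by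
  by_contra hne
  obtain ⟨k, hk⟩ := dvd_finrank hC hWi hWR
  have hk0 : k ≠ 0 := fun h => hne (Submodule.finrank_eq_zero.1 (by rw [hk, h, mul_zero]))
  obtain ⟨X, hXW, hXi, hXd⟩ := exists_sub hC hWi hWR 1 (by rw [hk]; exact Nat.mul_le_mul_left _ (by omega))
  rw [mul_one] at hXd
  obtain ⟨g, hg, hgX⟩ := exists_factor hC hXd (hXW.trans hWR) hXi
  obtain ⟨Y, hYR, hYi, hYd, hYX, hXY⟩ := exists_partner hC (nd_mov hC) (inv_mov T) le_rfl (hXW.trans hWR) hXi hXd
  have hgY := partner_killed hC hσp hSD hYd hYR hYi hYX hgX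
  have hX : X = LinearMap.ker (aeval T g) :=
    Submodule.eq_of_le_of_finrank_le (fun x hx => hgX x hx) (by rw [hXd]; exact hone g hg)
  have hYX' : Y ≤ X := fun y hy => hX ▸ hgY y hy
  refine ne_bot_of_finrank hC hYd ?_
  rwa [inf_eq_left.2 (hYX'.trans (ti_iff_le_perp.1 (ti_mono hXW hW)))] at hYX

end

end CfsgLib.MaxSub.IsoSemi
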