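import Cfsg.Agent.Lib.MaxSub.IsoNDHerm
import Cfsg.Agent.Lib.MaxSub.IsoPieces
import Cfsg.Agent.Lib.Geom.SplitStab

/-!
Invariant non-degenerate subspaces of Hermitian isometries of odd prime order in the cross characteristic, and the
orbit of the non-degenerate subspaces of one dimension.
-/

set_option autoImplicit false
set_option linter.unusedSectionVars false

namespace CfsgLib.MaxSub.IsoNDHermPrime

open CfsgLib CfsgLib.Geom CfsgLib.MaxSub.IsoSemi CfsgLib.MaxSub.IsoNDHerm
open scoped Pointwise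

universe u v

variable {F : Type u} [Field F] [Fintype F] {p : ℕ} [Fact p.Prime] [CharP F p] {a : ℕ}
  {V : Type v} [AddCommGroup V] [Module F V] [FiniteDimensional F V]
  {σ : F →+* F} (hσ : σ ≠ RingHom.id F) (hσ2 : ∀ x, σ (σ x) = x) (hσp : ∀ x, σ x = x ^ p ^ a)
  {B : V →ₛₗ[σ] V →ₗ[F] F} (hS : ∀ u v, σ (B u v) = B v u) (hG : Geom B)
  {r c : ℕ} (hc : (SelfDual (Fintype.card F) (p ^ a) r → c = orderOf (Fintype.card F : ZMod r)) ∧
    (¬ SelfDual (Fintype.card F) (p ^ a) r → c = 2 * orderOf (Fintype.card F : ZMod r)))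

/-- A non-degenerate subspace of given dimension. -/
def Member (B : V →ₛₗ[σ] V →ₗ[F] F) (m : ℕ) (W : Submodule F V) : Prop :=
  Module.finrank F W = m ∧ ND B W

/-- The restricted form. -/
def restr (B : V →ₛₗ[σ] V →ₗ[F] F) (W : Submodule F V) : W →ₛₗ[σ] W →ₗ[F] F :=
  LinearMap.mk₂'ₛₗ σ (RingHom.id F) (fun x y => B (x : V) (y : V)) (fun a b c => by simp)
    (fun r a b => by simp) (fun a b c => by simp) (fun r a b => by simp)

theorem restr_apply (W : Submodule F V) (x y : W) : restr B W x y = B (x : V) (y : V) := rfl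

include hS hG in
theorem restr_geom {W : Submodule F V} (hW : ND B W) :
    Geom (restr B W) ∧ ∀ x y, σ (restr B W x y) = restr B W y x :=
  ⟨⟨fun x hx => Subtype.ext (hW x x.2 fun y hy => hx ⟨y, hy⟩), fun x y h => hG.refl _ _ h⟩,
    fun x y => hS (x : V) (y : V)⟩

theorem iso_of_basis {ι : Type*} [Fintype ι] (b : Module.Basis ι F V) {g : V →ₗ[F] V}
    (h : ∀ i j, B (g (b i)) (g (b j)) = B (b i) (b j)) (u w : V) : B (g u) (g w) = B u w := by
  rw [← b.sum_repr u, ← b.sum_repr w]
  simp only [map_sum, LinearMap.sum_apply, map_smul, LinearMap.map_smulₛₗ, LinearMap.smul_apply, h]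

include hσ hσ2 hS hG in
/-- An orthonormal basis adapted to a non-degenerate subspace. -/
theorem exists_adapted {W : Submodule F V} (hW : ND B W) :
    ∃ b : Module.Basis (Fin (Module.finrank F W) ⊕ Fin (Module.finrank F ↥(perp B W))) F V,
      (∀ i j, B (b i) (b j) = if i = j then 1 else 0) ∧ Submodule.span F (Set.range (b ∘ Sum.inl)) = W := by
  have hc := isCompl_perp hG hW
  have hP : ND B (perp B W) := fun u hu h => hG.sep u fun v => by
    obtain ⟨x, hx, y, hy, rfl⟩ := Submodule.mem_sup.1 (hc.sup_eq_top.symm ▸ Submodule.mem_top : v ∈ W ⊔ perp B W)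
    rw [map_add, h y hy, add_zero]
    exact hG.refl _ _ (hu x hx)
  obtain ⟨g1, s1⟩ := restr_geom hS hG hW
  obtain ⟨g2, s2⟩ := restr_geom hS hG hP
  obtain ⟨b1, hb1⟩ := exists_orthonormal_basis hσ hσ2 _ (restr B W) s1 g1.sep rfl
  obtain ⟨b2, hb2⟩ := exists_orthonormal_basis hσ hσ2 _ (restr B (perp B W)) s2 g2.sep rfl
  simp only [restr_apply] at hb1 hb2
  refine ⟨(b1.prod b2).map (Submodule.prodEquivOfIsCompl W (perp B W) hc), ?_, ?_⟩
  · rintro (i | i) (j | j) <;>
      simp only [Module.Basis.map_apply, Module.Basis.prod_apply, Submodule.coe_prodEquivOfIsCompl',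
        Sum.elim_inl, Sum.elim_inr, Function.comp_apply, LinearMap.inl_apply, LinearMap.inr_apply,
        ZeroMemClass.coe_zero, add_zero, zero_add, Sum.inl.injEq, Sum.inr.injEq, reduceCtorEq, if_false]
    · exact hb1 i j
    · exact (b2 j).2 _ (b1 i).2
    · exact hG.refl _ _ ((b2 i).2 _ (b1 j).2)
    · exact hb2 i j
  · have h : ((b1.prod b2).map (Submodule.prodEquivOfIsCompl W (perp B W) hc)) ∘ Sum.inl = W.subtype ∘ b1 := by
      funext i
      simp [Module.Basis.prod_apply]
    rw [h, Set.range_comp, Submodule.span_image, b1.span_eq, Submodule.map_top, Submodule.range_subtype]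

include hσ hσ2 hS hG in
/-- The members form one orbit. -/
theorem dvd_card_isoms {m : ℕ} {W₀ : Submodule F V} (hW₀ : Member B m W₀) :
    Nat.card {W : Submodule F V // Member B m W} ∣ Nat.card (formIsoms B) := by
  have horb : MulAction.orbit (formIsoms B) W₀ = {W | Member B m W} := by
    refine Set.ext fun W => ⟨?_, fun hW => ?_⟩
    · rintro ⟨⟨g, hg⟩, rfl⟩
      refine ⟨(LinearEquiv.finrank_map_eq g W₀).trans hW₀.1, ?_⟩
      rintro _ ⟨x, hx, rfl⟩ h
      show g x = 0
      rw [hW₀.2 x hx fun y hy => (hg x y).symm.trans (h _ ⟨y, hy, rfl⟩), map_zero]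
    · obtain ⟨b, hb, hbW⟩ := exists_adapted hσ hσ2 hS hG hW₀.2
      obtain ⟨b', hb', hbW'⟩ := exists_adapted hσ hσ2 hS hG hW.2
      have h1 := Submodule.finrank_add_eq_of_isCompl (isCompl_perp hG hW₀.2)
      have h2 := Submodule.finrank_add_eq_of_isCompl (isCompl_perp hG hW.2)
      have e1 : Module.finrank F W₀ = Module.finrank F W := hW₀.1.trans hW.1.symm
      let e := Equiv.sumCongr (finCongr e1) (finCongr (show Module.finrank F ↥(perp B W₀) =
        Module.finrank F ↥(perp B W) by omega))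
      obtain ⟨g, hg⟩ : ∃ g, g = b.equiv b' e := ⟨_, rfl⟩
      have hgb : ∀ i, g (b i) = b' (e i) := fun i => by rw [hg, Module.Basis.equiv_apply]
      refine ⟨⟨g, fun u w => iso_of_basis b (g := g.toLinearMap) (fun i j => ?_) u w⟩, ?_⟩
      · rw [LinearEquiv.coe_coe, hgb, hgb, hb', hb]
        simp only [EmbeddingLike.apply_eq_iff_eq]
      · refine Submodule.eq_of_le_of_finrank_eq ?_ ((LinearEquiv.finrank_map_eq g W₀).trans e1)
        show W₀.map g.toLinearMap ≤ W
        conv_lhs => rw [← hbW]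
        rw [Submodule.map_span_le]
        rintro _ ⟨i, rfl⟩
        show g (b (Sum.inl i)) ∈ W
        rw [hgb]
        exact hbW'.le (Submodule.subset_span ⟨finCongr e1 i, rfl⟩)
  rw [show Nat.card {W : Submodule F V // Member B m W} = Set.ncard (MulAction.orbit (formIsoms B) W₀) by
    rw [horb, ← Nat.card_coe_set_eq]; rfl, ← MulAction.index_stabilizer]
  exact Subgroup.index_dvd_card _

include hS hσp hc in
/-- The moved and fixed parts of an invariant member. -/
theorem parts {T : Module.End F V} (hC : Ctx B T r) {W : Submodule F V} (hW : ND B W) (hWi : W.map T ≤ W) :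
    (W ⊓ LinearMap.ker (T - 1)) ⊔ (W ⊓ LinearMap.range (T - 1)) = W ∧
      c ∣ Module.finrank F ↥(W ⊓ LinearMap.range (T - 1)) ∧
      Module.finrank F ↥(W ⊓ LinearMap.ker (T - 1)) + Module.finrank F ↥(W ⊓ LinearMap.range (T - 1)) =
        Module.finrank F W := by
  have hsum := finrank_split hC hWi
  have hsup : (W ⊓ LinearMap.ker (T - 1)) ⊔ (W ⊓ LinearMap.range (T - 1)) = W := by
    refine Submodule.eq_of_le_of_finrank_le (sup_le inf_le_left inf_le_left) ?_
    have h := Submodule.finrank_sup_add_finrank_inf_eq (W ⊓ LinearMap.ker (T - 1)) (W ⊓ LinearMap.range (T - 1))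
    rw [inf_inf_inf_comm, disjoint_fix_mov hC, inf_bot_eq, finrank_bot] at h
    omega
  refine ⟨hsup, (nd_dims (p := p) hC hσp hc
    (fun x (hx : x ∈ W ⊓ LinearMap.range (T - 1)) h => hW x hx.1 fun v hv => ?_)
    (inv_inf hWi (inv_mov T)) inf_le_right).1, hsum⟩
  obtain ⟨a, ha, b, hb, rfl⟩ := Submodule.mem_sup.1 (hsup.symm ▸ hv)
  rw [map_add, h b hb, add_zero]
  exact hC.toGeom.refl _ _ (fix_le_perp hC hx.2 a ha.2)

include hσ hσp hS hc in
/-- Which dimensions occur for an element with moved part of dimension `c * d`. -/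
theorem fixes_iff {T : Module.End F V} (hC : Ctx B T r) (hcpos : 0 < c) {d : ℕ}
    (hd : Module.finrank F ↥(LinearMap.range (T - 1)) = c * d) {m : ℕ} :
    (∃ W : Submodule F V, Member B m W ∧ W.map T ≤ W) ↔
      ∃ b z, b ≤ d ∧ c * b + z = m ∧ z + c * d ≤ Module.finrank F V := by
  have hsum := (T - 1).finrank_range_add_finrank_ker
  rw [hd] at hsum
  constructor
  · rintro ⟨W, ⟨hWd, hW⟩, hWi⟩
    obtain ⟨-, ⟨b, hb⟩, hs⟩ := parts hσp hS hc hC hW hWi
    have h1 := Submodule.finrank_mono (inf_le_right : W ⊓ LinearMap.range (T - 1) ≤ _)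
    have h2 := Submodule.finrank_mono (inf_le_right : W ⊓ LinearMap.ker (T - 1) ≤ _)
    rw [hb, hd] at h1
    exact ⟨b, Module.finrank F ↥(W ⊓ LinearMap.ker (T - 1)), Nat.le_of_mul_le_mul_left h1 hcpos, by omega, by omega⟩
  · rintro ⟨b, z, hbd, hbz, hz⟩
    obtain ⟨X, hXR, hXi, hX, hXd⟩ := (nd_dims (p := p) hC hσp hc (nd_mov hC) (inv_mov T) le_rfl).2 b
      (hd ▸ Nat.mul_le_mul_left c hbd)
    obtain ⟨Z, hZ, hZn, hZd⟩ := exists_nd hσ hS hC.toGeom (nd_fix hC) (k := z) (by omega)
    have hperp : X ≤ perp B Z := (hXR.trans (fix_le_perp hC)).trans (perp_antitone hZ)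
    refine ⟨Z ⊔ X, ⟨?_, nd_sup hC.toGeom hZn hX hperp⟩, IsoSemi.inv_sup ?_ hXi⟩
    · have h := Submodule.finrank_sup_add_finrank_inf_eq Z X
      rw [show Z ⊓ X = ⊥ from le_bot_iff.1 ((inf_le_inf hZ hXR).trans (disjoint_fix_mov hC).le), finrank_bot] at h
      omega
    · rintro _ ⟨v, hv, rfl⟩
      rwa [show T v = v from sub_eq_zero.1 (show (T - 1) v = 0 from hZ hv)]

include hσ2 hσp hS hG hc in
/-- A space of dimension less than `c` has no isometry of order `r`. -/
theorem le_finrank (hr : r.Prime) (hr2 : r ≠ 2) (hrF : (r : F) ≠ 0)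
    (h : r ∣ Nat.card (formIsoms B)) : c ≤ Module.finrank F V := by
  haveI : Finite V := Module.finite_of_finite F
  haveI : Finite (V ≃ₗ[F] V) := Finite.of_injective _ DFunLike.coe_injective
  haveI : Fact r.Prime := ⟨hr⟩
  obtain ⟨g, hg⟩ := exists_prime_orderOf_dvd_card' r h
  obtain ⟨T, hT⟩ : ∃ T : Module.End F V, T = g.1.toLinearMap := ⟨_, rfl⟩
  have hpow : ∀ k : ℕ, T ^ k = (g ^ k).1.toLinearMap := fun k => by
    induction k with
    | zero => rfl
    | succ k ih => rw [pow_succ, pow_succ, ih, hT]; rfl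
  have hTr : T ^ r = 1 := by rw [hpow, ← hg, pow_orderOf_eq_one]; rfl
  have hC : Ctx B T r :=
    { toGeom := hG
      invol := hσ2
      flip := ⟨1, by simp, fun u w => by rw [one_mul, hS]⟩
      iso := fun u w => by rw [hT]; exact g.2 u w
      pow := hTr
      prime := hr
      rne := hrF
      rne2 := hr2 }
  have hne : Module.finrank F ↥(LinearMap.range (T - 1)) ≠ 0 := fun h0 => by
    rw [Submodule.finrank_eq_zero, LinearMap.range_eq_bot, sub_eq_zero] at h0
    have : g = 1 := Subtype.ext (LinearEquiv.toLinearMap_injective (by rw [← hT, h0]; rfl))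
    rw [this, orderOf_one] at hg
    exact hr.ne_one hg.symm
  exact (Nat.le_of_dvd (Nat.pos_of_ne_zero hne)
    (nd_dims (p := p) hC hσp hc (nd_mov hC) (inv_mov T) le_rfl).1).trans (Submodule.finrank_le _)

include hσ hσ2 hσp hS hc in
/-- If `r` divides the number of members, an element with few fixed vectors needs `c ≤ m`. -/
theorem le_of_fixed {T : Module.End F V} (hC : Ctx B T r) {m : ℕ}
    (hfix : Module.finrank F ↥(LinearMap.ker (T - 1)) < c)
    (h : r ∣ Nat.card {W : Submodule F V // Member B m W}) {W₀ : Submodule F V} (hW₀ : Member B m W₀)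
    (hW₀i : W₀.map T ≤ W₀) : c ≤ m := by
  classical
  by_contra hcm
  push Not at hcm
  haveI : Fact r.Prime := ⟨hC.prime⟩
  haveI : Finite V := Module.finite_of_finite F
  haveI : Finite (Submodule F V) := Finite.of_injective _ SetLike.coe_injective
  haveI := Fintype.ofFinite {W : Submodule F V // Member B m W}
  obtain ⟨E, hE⟩ : ∃ E, E = LinearMap.ker (T - 1) := ⟨_, rfl⟩
  have hin : ∀ W : Submodule F V, Member B m W → W.map T ≤ W → W ≤ E := fun W hW hWi => by
    obtain ⟨hs, ⟨b, hb⟩, hsum⟩ := parts hσp hS hc hC hW.2 hWi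
    obtain rfl : b = 0 := by
      rcases Nat.eq_zero_or_pos b with hb0 | hb0
      · exact hb0
      · have := Nat.le_mul_of_pos_right c hb0; have := hW.1; omega
    rw [mul_zero] at hb
    rw [← hs, Submodule.finrank_eq_zero.1 hb, sup_bot_eq, hE]
    exact inf_le_right
  have hinj : Function.Injective T := (injective_iff_map_eq_zero T).2 fun x hx => eq_zero_of_apply hC hx
  let g : V ≃ₗ[F] V := LinearEquiv.ofBijective T ⟨hinj, LinearMap.injective_iff_surjective.1 hinj⟩
  have hg : g ∈ formIsoms B := fun u v => hC.iso u v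
  have hmem : ∀ {g : V ≃ₗ[F] V}, g ∈ formIsoms B → ∀ {W : Submodule F V}, Member B m W →
      Member B m (W.map g.toLinearMap) := fun {g} hg {W} hW => by
    refine ⟨(LinearEquiv.finrank_map_eq g W).trans hW.1, ?_⟩
    rintro _ ⟨x, hx, rfl⟩ h
    show g x = 0
    rw [hW.2 x hx fun y hy => (hg x y).symm.trans (h _ ⟨y, hy, rfl⟩), map_zero]
  let τ : Equiv.Perm {W : Submodule F V // Member B m W} :=
    { toFun := fun W => ⟨W.1.map g.toLinearMap, hmem hg W.2⟩
      invFun := fun W => ⟨W.1.map (g⁻¹ : V ≃ₗ[F] V).toLinearMap, hmem (inv_mem hg) W.2⟩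
      left_inv := fun W => Subtype.ext (by
        show (W.1.map g.toLinearMap).map (g⁻¹ : V ≃ₗ[F] V).toLinearMap = W.1
        rw [← Submodule.map_comp]
        convert Submodule.map_id W.1
        exact LinearMap.ext g.symm_apply_apply)
      right_inv := fun W => Subtype.ext (by
        show (W.1.map (g⁻¹ : V ≃ₗ[F] V).toLinearMap).map g.toLinearMap = W.1
        rw [← Submodule.map_comp]
        convert Submodule.map_id W.1
        exact LinearMap.ext g.apply_symm_apply) }
  have hpow : ∀ (j : ℕ) (W : {W : Submodule F V // Member B m W}), ((τ ^ j) W).1 = W.1.map (T ^ j) := by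
    intro j W
    induction j with
    | zero => exact (Submodule.map_id W.1).symm
    | succ j ih =>
      rw [pow_succ', Equiv.Perm.mul_apply, pow_succ', Module.End.mul_eq_comp, Submodule.map_comp, ← ih]
      rfl
  have hτ : τ ^ r ^ 1 = 1 := Equiv.ext fun W => Subtype.ext (by
    rw [pow_one, hpow, hC.pow]; exact Submodule.map_id W.1)
  have hmod := Equiv.Perm.card_compl_support_modEq (p := r) hτ
  rw [← Nat.card_eq_fintype_card] at hmod
  have hconv : ∀ U : Submodule F E, Member B m (U.map E.subtype) ↔ Member (restr B E) m U := fun U => by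
    refine and_congr (by rw [(Submodule.equivMapOfInjective E.subtype E.injective_subtype U).finrank_eq])
      ⟨fun h x hx h' => Subtype.ext (h _ ⟨x, hx, rfl⟩ ?_), fun h => ?_⟩
    · rintro _ ⟨y, hy, rfl⟩; exact h' y hy
    · rintro _ ⟨x, hx, rfl⟩ h'
      rw [h x hx fun y hy => h' _ ⟨y, hy, rfl⟩, map_zero]
  have hfixset : τ.supportᶜ.card = Nat.card {U : Submodule F E // Member (restr B E) m U} := by
    rw [← Fintype.card_coe, ← Nat.card_eq_fintype_card]
    have key : ∀ W : {W : Submodule F V // Member B m W}, W ∈ τ.supportᶜ ↔ W.1 ≤ E := fun W => by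
      rw [Finset.mem_compl, Equiv.Perm.mem_support, not_not]
      refine ⟨fun h => hin W.1 W.2 (le_of_eq (congrArg Subtype.val h)), fun h => Subtype.ext ?_⟩
      show W.1.map g.toLinearMap = W.1
      refine le_antisymm ?_ fun x hx => ⟨x, hx, ?_⟩
      · rintro _ ⟨x, hx, rfl⟩
        have h' := h hx
        rw [hE] at h'
        rwa [show g.toLinearMap x = x from sub_eq_zero.1 h']
      · have h' := h hx
        rw [hE] at h'
        exact sub_eq_zero.1 h'
    refine Nat.card_congr
      { toFun := fun W => ⟨W.1.1.comap E.subtype, (hconv _).1 (by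
          rw [Submodule.map_comap_subtype, inf_eq_right.2 ((key _).1 W.2)]; exact W.1.2)⟩
        invFun := fun U => ⟨⟨U.1.map E.subtype, (hconv _).2 U.2⟩, (key _).2 (Submodule.map_subtype_le E _)⟩
        left_inv := fun W => Subtype.ext (Subtype.ext (by
          show (W.1.1.comap E.subtype).map E.subtype = W.1.1
          rw [Submodule.map_comap_subtype, inf_eq_right.2 ((key _).1 W.2)]))
        right_inv := fun U => Subtype.ext (Submodule.comap_map_eq_of_injective E.injective_subtype _) }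
  rw [hfixset] at hmod
  have hdvd : r ∣ Nat.card {U : Submodule F E // Member (restr B E) m U} := (Nat.ModEq.dvd_iff hmod dvd_rfl).2 h
  obtain ⟨hGE, hSE⟩ := restr_geom hS hC.toGeom (hE ▸ nd_fix hC : ND B E)
  have hmemb : Member (restr B E) m (W₀.comap E.subtype) := (hconv _).1 (by
    rw [Submodule.map_comap_subtype, inf_eq_right.2 (hin W₀ hW₀ hW₀i)]; exact hW₀)
  have := le_finrank hσ2 hσp hSE hGE hc hC.prime hC.rne2 hC.rne
    (hdvd.trans (dvd_card_isoms hσ hσ2 hSE hGE hmemb))
  rw [hE] at this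
  omega

end CfsgLib.MaxSub.IsoNDHermPrime
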