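import Mathlib

/-!
Dimensions of invariant subspaces of a linear map whose `r`-th power is scalar, `r` a prime different from the
characteristic, over a finite field.
-/

set_option autoImplicit false

namespace CfsgLib.MaxSub.SemiDims

universe u v

variable {F : Type u} [Field F]

/-- Nested subspaces of prescribed dimensions inside a given one. -/
theorem exists_between {V : Type v} [AddCommGroup V] [Module F V] [FiniteDimensional F V] {U W : Submodule F V}
    (hUW : U ≤ W) : ∀ a : ℕ, Module.finrank F U ≤ a → a ≤ Module.finrank F W →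
    ∃ S : Submodule F V, U ≤ S ∧ S ≤ W ∧ Module.finrank F S = a := by
  intro a
  induction a with
  | zero => intro h1 _; exact ⟨U, le_rfl, hUW, by omega⟩
  | succ a ih =>
    intro h1 h2
    rcases Nat.lt_or_ge a (Module.finrank F U) with h | h
    · exact ⟨U, le_rfl, hUW, by omega⟩
    obtain ⟨S, hUS, hSW, hS⟩ := ih h (by omega)
    obtain ⟨v, hvW, hvS⟩ := SetLike.exists_of_lt (lt_of_le_of_ne hSW (fun e => by rw [e] at hS; omega))
    refine ⟨S ⊔ Submodule.span F {v}, hUS.trans le_sup_left, sup_le hSW ((Submodule.span_singleton_le_iff_mem _ _).2 hvW), ?_⟩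
    have h3 := Submodule.finrank_sup_add_finrank_inf_eq S (Submodule.span F {v})
    have hv0 : v ≠ 0 := fun e => hvS (e ▸ S.zero_mem)
    rw [finrank_span_singleton hv0, hS] at h3
    have h4 : S ⊓ Submodule.span F {v} = ⊥ := by
      rw [Submodule.eq_bot_iff]
      rintro x ⟨hx, hx'⟩
      obtain ⟨t, rfl⟩ := Submodule.mem_span_singleton.1 hx'
      by_contra h0
      refine hvS ?_
      have ht : t ≠ 0 := fun e => h0 (by rw [e, zero_smul])
      simpa [smul_smul, inv_mul_cancel₀ ht] using S.smul_mem t⁻¹ hx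
    rw [h4, finrank_bot] at h3
    omega

theorem pow_smul_one {V : Type v} [AddCommGroup V] [Module F V] {T : Module.End F V} {r : ℕ} {c : F}
    (hT : T ^ r = c • (1 : Module.End F V)) (v : V) : (T ^ r) v = c • v := by
  rw [hT]; rfl

/-- A simple map with `T ^ r` scalar lives in dimension at most `r`. -/
theorem simple_le {V : Type v} [AddCommGroup V] [Module F V] [Nontrivial V] [FiniteDimensional F V]
    {T : Module.End F V} {r : ℕ} (hr : 0 < r) {c : F} (hT : T ^ r = c • (1 : Module.End F V))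
    (hs : ∀ S : Submodule F V, S.map T ≤ S → S = ⊥ ∨ S = ⊤) : Module.finrank F V ≤ r := by
  obtain ⟨v, hv⟩ := exists_ne (0 : V)
  let f : Fin r → V := fun j => (T ^ (j : ℕ)) v
  have hinv : (Submodule.span F (Set.range f)).map T ≤ Submodule.span F (Set.range f) := by
    rw [Submodule.map_span, Submodule.span_le]
    rintro _ ⟨_, ⟨j, rfl⟩, rfl⟩
    show T ((T ^ (j : ℕ)) v) ∈ Submodule.span F (Set.range f)
    rw [← Module.End.mul_apply, ← pow_succ']
    by_cases hj : (j : ℕ) + 1 < r
    · exact Submodule.subset_span ⟨⟨_, hj⟩, rfl⟩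
    · rw [show (j : ℕ) + 1 = r by omega, pow_smul_one hT]
      exact Submodule.smul_mem _ _ (Submodule.subset_span ⟨⟨0, hr⟩, by simp [f]⟩)
  rcases hs _ hinv with h | h
  · refine absurd ?_ hv
    have : f ⟨0, hr⟩ ∈ Submodule.span F (Set.range f) := Submodule.subset_span ⟨_, rfl⟩
    rw [h, Submodule.mem_bot] at this
    simpa [f] using this
  · have := finrank_range_le_card (R := F) f
    rw [Set.finrank, h, finrank_top, Fintype.card_fin] at this
    exact this

theorem card_le_of_fix {A : Type*} [CommRing A] [IsDomain A] [Fintype A] {N : ℕ} (hN : 1 < N)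
    (h : ∀ a : A, a ^ N = a) : Fintype.card A ≤ N := by
  have hmonic : (Polynomial.X ^ N - Polynomial.X : Polynomial A).Monic :=
    Polynomial.monic_X_pow_sub (by rw [Polynomial.degree_X]; exact_mod_cast hN)
  have := Polynomial.card_le_degree_of_subset_roots
    (p := (Polynomial.X ^ N - Polynomial.X : Polynomial A)) (Z := Finset.univ) (fun a _ => by
      rw [Polynomial.mem_roots hmonic.ne_zero]
      simp [h a])
  refine (Finset.card_univ (α := A) ▸ this).trans ?_
  refine (Polynomial.natDegree_sub_le _ _).trans ?_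
  rw [Polynomial.natDegree_X_pow, Polynomial.natDegree_X]
  omega

/-- A simple map of order dividing `r` lives in dimension at most the order of `q` modulo `r`. -/
theorem simple_le_ord [Fintype F] {V : Type v} [AddCommGroup V] [Module F V] [Nontrivial V] [FiniteDimensional F V]
    {T : Module.End F V} {r i : ℕ} (hi : 0 < i) (hdvd : r ∣ Fintype.card F ^ i - 1)
    (hT : T ^ r = 1) (hs : ∀ S : Submodule F V, S.map T ≤ S → S = ⊥ ∨ S = ⊤) : Module.finrank F V ≤ i := by
  classical
  obtain ⟨v, hv⟩ := exists_ne (0 : V)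
  set A := Algebra.adjoin F {T} with hA
  have hcomm : ∀ a ∈ A, Commute a T := fun a ha => by
    induction ha using Algebra.adjoin_induction with
    | mem x hx => rw [Set.mem_singleton_iff.1 hx]
    | algebraMap z => exact Algebra.commute_algebraMap_left z T
    | add x y _ _ hx hy => exact hx.add_left hy
    | mul x y _ _ hx hy => exact hx.mul_left hy
  have hcA : ∀ a b : A, a * b = b * a := fun a b => Subtype.ext (show Commute a.1 b.1 by
    have key : ∀ y ∈ A, Commute a.1 y := fun y hy => by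
      induction hy using Algebra.adjoin_induction with
      | mem x hx => rw [Set.mem_singleton_iff.1 hx]; exact hcomm _ a.2
      | algebraMap z => exact (Algebra.commute_algebraMap_left z a.1).symm
      | add x y _ _ hx hy => exact hx.add_right hy
      | mul x y _ _ hx hy => exact hx.mul_right hy
    exact key _ b.2)
  have hker : ∀ a ∈ A, a ≠ 0 → Function.Injective a := fun a ha ha0 => by
    rw [← LinearMap.ker_eq_bot]
    refine (hs _ ?_).resolve_right fun h => ha0 (LinearMap.ker_eq_top.1 h)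
    rintro _ ⟨x, hx, rfl⟩
    show a (T x) = 0
    rw [← Module.End.mul_apply, (hcomm a ha).eq, Module.End.mul_apply, LinearMap.mem_ker.1 hx, map_zero]
  let ev : A →ₗ[F] V :=
    { toFun := fun a => a.1 v, map_add' := fun _ _ => rfl, map_smul' := fun _ _ => rfl }
  have hevs : Function.Surjective ev := by
    rw [← LinearMap.range_eq_top]
    refine (hs _ ?_).resolve_left fun h => hv ?_
    · rintro _ ⟨_, ⟨a, rfl⟩, rfl⟩
      exact ⟨⟨T * a.1, mul_mem (Algebra.subset_adjoin rfl) a.2⟩, rfl⟩
    · have : ev 1 ∈ LinearMap.range ev := ⟨1, rfl⟩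
      rw [h, Submodule.mem_bot] at this
      exact this
  have hfr : Module.finrank F V ≤ Module.finrank F A := LinearMap.finrank_le_finrank_of_surjective hevs
  letI : CommRing A := { (inferInstance : Ring A) with mul_comm := hcA }
  haveI : IsDomain A :=
    { mul_left_cancel_of_ne_zero := fun {a} ha b c h => by
        refine Subtype.ext (LinearMap.ext fun x => hker a.1 a.2 (fun e => ha (Subtype.ext e)) ?_)
        exact LinearMap.congr_fun (congrArg Subtype.val h) x
      mul_right_cancel_of_ne_zero := fun {a} ha b c h => by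
        have h' : a * b = a * c := by rw [hcA a b, hcA a c]; exact h
        refine Subtype.ext (LinearMap.ext fun x => hker a.1 a.2 (fun e => ha (Subtype.ext e)) ?_)
        exact LinearMap.congr_fun (congrArg Subtype.val h') x
      exists_pair_ne := ⟨0, 1, fun e => by
        have := LinearMap.congr_fun (congrArg Subtype.val e) v
        exact hv (by simpa using this.symm)⟩ }
  haveI : Finite V := Module.finite_of_finite F
  haveI : Finite (Module.End F V) := Finite.of_injective (fun f => (f : V → V)) DFunLike.coe_injective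
  haveI : Fintype A := Fintype.ofFinite A
  have hfix : ∀ a : A, a ^ (Fintype.card F ^ i) = a := by
    rintro ⟨a, ha⟩
    induction ha using Algebra.adjoin_induction with
    | mem x hx =>
      refine Subtype.ext ?_
      show x ^ (Fintype.card F ^ i) = x
      rw [Set.mem_singleton_iff.1 hx]
      obtain ⟨t, ht⟩ := hdvd
      have h1 : 1 ≤ Fintype.card F ^ i := Nat.one_le_pow _ _ Fintype.card_pos
      rw [show Fintype.card F ^ i = r * t + 1 by omega, pow_succ, pow_mul, hT, one_pow, one_mul]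
    | algebraMap z =>
      refine Subtype.ext ?_
      show (algebraMap F (Module.End F V) z) ^ (Fintype.card F ^ i) = algebraMap F _ z
      rw [← map_pow, FiniteField.pow_card_pow]
    | add x y hx' hy' hx hy =>
      obtain ⟨p, hpc⟩ := CharP.exists F
      haveI : Fact p.Prime := ⟨CharP.char_is_prime F p⟩
      haveI : CharP A p := charP_of_injective_algebraMap (algebraMap F A).injective p
      obtain ⟨m, -, hm⟩ := FiniteField.card F p
      rw [hm, ← pow_mul] at hx hy ⊢
      rw [show (⟨x + y, add_mem hx' hy'⟩ : A) = ⟨x, hx'⟩ + ⟨y, hy'⟩ from rfl, add_pow_char_pow, hx, hy]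
    | mul x y hx' hy' hx hy =>
      rw [show (⟨x * y, mul_mem hx' hy'⟩ : A) = ⟨x, hx'⟩ * ⟨y, hy'⟩ from rfl, mul_pow, hx, hy]
  have hcard : Fintype.card A ≤ Fintype.card F ^ i :=
    card_le_of_fix (Nat.one_lt_pow (by omega) Fintype.one_lt_card) hfix
  rw [Module.card_eq_pow_finrank (K := F) (V := A)] at hcard
  exact hfr.trans ((Nat.pow_le_pow_iff_right Fintype.one_lt_card).1 hcard)

variable {V : Type v} [AddCommGroup V] [Module F V] [FiniteDimensional F V]

/-- A minimal invariant extension is small. -/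
theorem step {T : Module.End F V} {r k : ℕ} {c : F} (hT : T ^ r = c • (1 : Module.End F V))
    (hk : ∀ (Q : Type v) [AddCommGroup Q] [Module F Q] [Nontrivial Q] [FiniteDimensional F Q] (S : Module.End F Q),
      S ^ r = c • (1 : Module.End F Q) → (∀ R : Submodule F Q, R.map S ≤ R → R = ⊥ ∨ R = ⊤) → Module.finrank F Q ≤ k)
    {U W : Submodule F V} (hU : U.map T ≤ U) (hW : W.map T ≤ W) (hlt : U < W) :
    ∃ X : Submodule F V, X.map T ≤ X ∧ U < X ∧ X ≤ W ∧ Module.finrank F X ≤ Module.finrank F U + k := by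
  classical
  have hex : ∃ n, ∃ X : Submodule F V, X.map T ≤ X ∧ U < X ∧ X ≤ W ∧ Module.finrank F X = n :=
    ⟨_, W, hW, hlt, le_rfl, rfl⟩
  obtain ⟨X, hX, hUX, hXW, hXn⟩ := Nat.find_spec hex
  refine ⟨X, hX, hUX, hXW, ?_⟩
  let Tx : Module.End F X := T.restrict fun x hx => hX ⟨x, hx, rfl⟩
  let N : Submodule F X := U.comap X.subtype
  have hN : N ≤ N.comap Tx := fun x hx => hU ⟨(x : V), hx, rfl⟩
  let S : Module.End F (X ⧸ N) := N.mapQ N Tx hN
  have hSpow : ∀ (j : ℕ) (x : X), (S ^ j) (Submodule.Quotient.mk x) = Submodule.Quotient.mk ((Tx ^ j) x) := by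
    intro j
    induction j with
    | zero => intro x; rfl
    | succ j ih => intro x; rw [pow_succ', pow_succ', Module.End.mul_apply, ih]; rfl
  have hTx : ∀ (j : ℕ) (x : X), ((Tx ^ j) x : V) = (T ^ j) (x : V) := by
    intro j
    induction j with
    | zero => intro x; rfl
    | succ j ih => intro x; rw [pow_succ', pow_succ', Module.End.mul_apply, Module.End.mul_apply, ← ih]; rfl
  have hS : S ^ r = c • (1 : Module.End F (X ⧸ N)) := by
    refine LinearMap.ext fun x => ?_
    obtain ⟨x, rfl⟩ := Submodule.Quotient.mk_surjective N x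
    rw [hSpow, show (Tx ^ r) x = c • x from Subtype.ext (by rw [hTx, pow_smul_one hT]; rfl)]
    rfl
  have hdim : Module.finrank F (X ⧸ N) + Module.finrank F U = Module.finrank F X := by
    rw [← LinearEquiv.finrank_eq (Submodule.comapSubtypeEquivOfLe hUX.le), N.finrank_quotient_add_finrank]
  have hpos : Module.finrank F U < Module.finrank F X := Submodule.finrank_lt_finrank_of_lt hUX
  haveI : Nontrivial (X ⧸ N) := Module.nontrivial_of_finrank_pos (R := F) (by omega)
  have := hk (X ⧸ N) S hS fun R hR => by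
    let Y : Submodule F V := (R.comap N.mkQ).map X.subtype
    have hYX : Y ≤ X := Submodule.map_subtype_le _ _
    have hUY : U ≤ Y := fun x hx => ⟨⟨x, hUX.le hx⟩, by
      show N.mkQ ⟨x, hUX.le hx⟩ ∈ R
      rw [Submodule.mkQ_apply, (Submodule.Quotient.mk_eq_zero N).2 hx]; exact R.zero_mem, rfl⟩
    have hY : Y.map T ≤ Y := by
      rintro _ ⟨_, ⟨x, hx, rfl⟩, rfl⟩
      exact ⟨Tx x, hR ⟨_, hx, rfl⟩, rfl⟩
    rcases eq_or_lt_of_le hUY with h | h
    · left
      rw [eq_bot_iff]
      intro z hz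
      obtain ⟨x, rfl⟩ := Submodule.Quotient.mk_surjective N z
      rw [Submodule.mem_bot, Submodule.Quotient.mk_eq_zero]
      show (x : V) ∈ U
      rw [h]; exact ⟨x, hz, rfl⟩
    · right
      have h1 : Nat.find hex ≤ Module.finrank F Y := Nat.find_le ⟨Y, hY, h, hYX.trans hXW, rfl⟩
      have h2 : Y = X := Submodule.eq_of_le_of_finrank_le hYX (by omega)
      rw [eq_top_iff]
      intro z _
      obtain ⟨x, rfl⟩ := Submodule.Quotient.mk_surjective N z
      have hxY : (x : V) ∈ Y := by rw [h2]; exact x.2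
      obtain ⟨x', hx', he⟩ := hxY
      rw [← Subtype.ext he]; exact hx'
  omega

/-- Chains of invariant subspaces. -/
theorem chain {T : Module.End F V} {r k : ℕ} {c : F} (hT : T ^ r = c • (1 : Module.End F V))
    (hk : ∀ (Q : Type v) [AddCommGroup Q] [Module F Q] [Nontrivial Q] [FiniteDimensional F Q] (S : Module.End F Q),
      S ^ r = c • (1 : Module.End F Q) → (∀ R : Submodule F Q, R.map S ≤ R → R = ⊥ ∨ R = ⊤) → Module.finrank F Q ≤ k)
    {U W : Submodule F V} (hU : U.map T ≤ U) (hW : W.map T ≤ W) (hle : U ≤ W)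
    (hmod : ∀ X : Submodule F V, X.map T ≤ X → X ≤ W → k ∣ Module.finrank F X) :
    ∀ b, Module.finrank F U + k * b ≤ Module.finrank F W →
      ∃ X : Submodule F V, X.map T ≤ X ∧ U ≤ X ∧ X ≤ W ∧ Module.finrank F X = Module.finrank F U + k * b := by
  intro b
  induction b with
  | zero => intro _; exact ⟨U, hU, le_rfl, hle, by simp⟩
  | succ b ih =>
    intro hb
    rw [Nat.mul_succ] at hb
    obtain ⟨X, hX, hUX, hXW, hXd⟩ := ih (by omega)
    rcases Nat.eq_zero_or_pos k with rfl | hk0
    · exact ⟨X, hX, hUX, hXW, by simpa using hXd⟩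
    have hlt : X < W := lt_of_le_of_ne hXW fun e => by rw [e] at hXd; omega
    obtain ⟨Y, hY, hXY, hYW, hYd⟩ := step hT hk hX hW hlt
    refine ⟨Y, hY, hUX.trans hXY.le, hYW, ?_⟩
    have h1 := Submodule.finrank_lt_finrank_of_lt hXY
    obtain ⟨x, hx⟩ := hmod X hX (hXW)
    obtain ⟨y, hy⟩ := hmod Y hY hYW
    rw [Nat.mul_succ]
    have h2 : x < y := Nat.lt_of_mul_lt_mul_left (a := k) (by omega)
    have h3 : y ≤ x + 1 := Nat.le_of_mul_le_mul_left (c := k) (by rw [Nat.mul_add, Nat.mul_one]; omega) hk0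
    rw [show y = x + 1 by omega, Nat.mul_add, Nat.mul_one] at hy
    omega

/-- Averaged complements. -/
theorem exists_compl {T : Module.End F V} {r : ℕ} (hr : (r : F) ≠ 0) {c : F} (hc : c ≠ 0)
    (hT : T ^ r = c • (1 : Module.End F V)) {U : Submodule F V} (hU : U.map T ≤ U) :
    ∃ W : Submodule F V, IsCompl U W ∧ W.map T ≤ W := by
  classical
  obtain ⟨π₀, hπ₀⟩ := U.subtype.exists_leftInverse_of_injective U.ker_subtype
  let π₁ : Module.End F V := U.subtype ∘ₗ π₀
  have h1 : ∀ v, π₁ v ∈ U := fun v => (π₀ v).2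
  have h1' : ∀ u ∈ U, π₁ u = u := fun u hu => congrArg Subtype.val (LinearMap.congr_fun hπ₀ ⟨u, hu⟩)
  have hpowU : ∀ (j : ℕ), ∀ u ∈ U, (T ^ j) u ∈ U := by
    intro j
    induction j with
    | zero => intro u hu; exact hu
    | succ j ih => intro u hu; rw [pow_succ', Module.End.mul_apply]; exact hU ⟨_, ih u hu, rfl⟩
  let π : Module.End F V := ((r : F) * c)⁻¹ • ∑ j ∈ Finset.range r, T ^ j * π₁ * T ^ (r - j)
  have hπU : ∀ v, π v ∈ U := fun v => by
    simp only [π, LinearMap.smul_apply, LinearMap.sum_apply, Module.End.mul_apply]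
    exact U.smul_mem _ (U.sum_mem fun j _ => hpowU j _ (h1 _))
  have hπid : ∀ u ∈ U, π u = u := fun u hu => by
    simp only [π, LinearMap.smul_apply, LinearMap.sum_apply, Module.End.mul_apply]
    rw [Finset.sum_congr rfl (g := fun _ => c • u) (fun j hj => by
      rw [h1' _ (hpowU _ u hu), ← Module.End.mul_apply, ← pow_add,
        Nat.add_sub_cancel' (Finset.mem_range.1 hj).le, pow_smul_one hT]),
      Finset.sum_const, Finset.card_range, ← Nat.cast_smul_eq_nsmul F, smul_smul, smul_smul, mul_assoc,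
      inv_mul_cancel₀ (mul_ne_zero hr hc), one_smul]
  have hcomm : π * T = T * π := by
    simp only [π, Algebra.smul_mul_assoc, Algebra.mul_smul_comm, Finset.mul_sum, Finset.sum_mul]
    congr 1
    let g : ℕ → Module.End F V := fun j => T ^ j * π₁ * T ^ (r + 1 - j)
    have hL : ∀ j ∈ Finset.range r, T ^ j * π₁ * T ^ (r - j) * T = g j := fun j hj => by
      simp only [g]
      rw [mul_assoc, ← pow_succ, show r - j + 1 = r + 1 - j by have := Finset.mem_range.1 hj; omega]
    have hR : ∀ j ∈ Finset.range r, T * (T ^ j * π₁ * T ^ (r - j)) = g (j + 1) := fun j _ => by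
      simp only [g]
      rw [← mul_assoc, ← mul_assoc, ← pow_succ', show r + 1 - (j + 1) = r - j by omega]
    rw [Finset.sum_congr rfl hL, Finset.sum_congr rfl hR]
    have h := Finset.sum_range_succ g r
    rw [Finset.sum_range_succ'] at h
    have h0 : g 0 = g r := by
      simp only [g]
      rw [pow_zero, Nat.sub_zero, pow_succ, hT, Nat.add_sub_cancel_left, pow_one]
      simp [Algebra.smul_mul_assoc, Algebra.mul_smul_comm]
    rw [h0] at h
    exact (add_right_cancel h).symm
  refine ⟨LinearMap.ker π, ⟨?_, ?_⟩, ?_⟩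
  · rw [disjoint_iff, Submodule.eq_bot_iff]
    rintro v ⟨hv, hv'⟩
    rw [← hπid v hv]; exact hv'
  · rw [codisjoint_iff, eq_top_iff]
    intro v _
    exact Submodule.mem_sup.2 ⟨π v, hπU v, v - π v, by simp [hπid _ (hπU v)], add_sub_cancel _ _⟩
  · rintro _ ⟨x, hx, rfl⟩
    rw [LinearMap.mem_ker, ← Module.End.mul_apply, hcomm, Module.End.mul_apply, LinearMap.mem_ker.1 hx, map_zero]

variable [Fintype F]

/-- The moving part of an invariant subspace is a multiple of the order of `q`. -/
theorem finrank_modEq {T : Module.End F V} {r : ℕ} [Fact r.Prime] (hrF : (r : F) ≠ 0) (hT : T ^ r = 1)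
    {U : Submodule F V} (hU : U.map T ≤ U) :
    Module.finrank F U ≡ Module.finrank F ↥(U ⊓ LinearMap.ker (T - 1))
      [MOD orderOf (Fintype.card F : ZMod r)] := by
  classical
  haveI : Finite V := Module.finite_of_finite F
  haveI : Fintype U := Fintype.ofFinite U
  let f : Function.End U := fun x => ⟨T x, hU ⟨x, x.2, rfl⟩⟩
  have hf : f ^ r ^ 1 = 1 := by
    rw [pow_one]
    have key : ∀ (j : ℕ) (x : U), ((f ^ j) x : V) = (T ^ j) (x : V) := by
      intro j
      induction j with
      | zero => intro x; rfl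
      | succ j ih =>
        intro x
        rw [pow_succ', pow_succ', Module.End.mul_apply, ← ih]; rfl
    funext x
    refine Subtype.ext ?_
    rw [key, hT]; rfl
  have h1 := Equiv.Perm.card_fixedPoints_modEq hf
  have h2 : Fintype.card f.fixedPoints = Nat.card ↥(U ⊓ LinearMap.ker (T - 1)) := by
    rw [← Nat.card_eq_fintype_card]
    refine Nat.card_congr ⟨fun x => ⟨x.1.1, x.1.2, ?_⟩, fun y => ⟨⟨y.1, y.2.1⟩, Subtype.ext ?_⟩, fun x => rfl, fun y => rfl⟩
    · show (T - 1) (x.1.1) = 0
      rw [LinearMap.sub_apply, Module.End.one_apply, sub_eq_zero]; exact congrArg Subtype.val x.2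
    · have : (T - 1) y.1 = 0 := y.2.2
      rw [LinearMap.sub_apply, Module.End.one_apply, sub_eq_zero] at this
      exact this
  rw [h2, Module.natCard_eq_pow_finrank (K := F), Module.card_eq_pow_finrank (K := F) (V := U),
    Nat.card_eq_fintype_card, ← ZMod.natCast_eq_natCast_iff, Nat.cast_pow, Nat.cast_pow] at h1
  have hunit : IsUnit (Fintype.card F : ZMod r) := by
    rw [isUnit_iff_ne_zero, ne_eq, ZMod.natCast_eq_zero_iff]
    intro h
    obtain ⟨p, hpc⟩ := CharP.exists F
    haveI : Fact p.Prime := ⟨CharP.char_is_prime F p⟩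
    obtain ⟨m, -, hm⟩ := FiniteField.card F p
    rw [hm] at h
    have := (Nat.prime_dvd_prime_iff_eq Fact.out Fact.out).1 ((Fact.out : r.Prime).dvd_of_dvd_pow h)
    subst this
    exact hrF (CharP.cast_eq_zero F _)
  obtain ⟨w, hw⟩ := hunit
  rw [← hw] at h1 ⊢
  rw [orderOf_units]
  exact pow_eq_pow_iff_modEq.1 (Units.ext (by simpa using h1))

/-- Nested invariant subspaces: order `r`. -/
theorem exists_nested {T : Module.End F V} {r i : ℕ} [Fact r.Prime] (hrF : (r : F) ≠ 0)
    (hi : orderOf (Fintype.card F : ZMod r) = i) (hT : T ^ r = 1) {a₁ a₂ b₁ b₂ : ℕ}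
    (ha : a₁ ≤ a₂) (ha₂ : a₂ ≤ Module.finrank F ↥(LinearMap.ker (T - 1))) (hb : b₁ ≤ b₂)
    (hb₂ : Module.finrank F ↥(LinearMap.ker (T - 1)) + i * b₂ ≤ Module.finrank F V) :
    ∃ U W : Submodule F V, U ≤ W ∧ U.map T ≤ U ∧ W.map T ≤ W ∧ Module.finrank F U = a₁ + i * b₁ ∧
      Module.finrank F W = a₂ + i * b₂ := by
  set E := LinearMap.ker (T - 1) with hE
  set R := LinearMap.range (T - 1) with hR
  have hr : r.Prime := Fact.out
  have hi0 : 0 < i := by
    rw [← hi]; refine orderOf_pos_iff.2 (isOfFinOrder_iff_pow_eq_one.2 ⟨r - 1, by have := hr.two_le; omega, ?_⟩)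
    refine ZMod.pow_card_sub_one_eq_one fun h => hrF ?_
    rw [ZMod.natCast_eq_zero_iff] at h
    obtain ⟨p, hpc⟩ := CharP.exists F
    haveI : Fact p.Prime := ⟨CharP.char_is_prime F p⟩
    obtain ⟨m, -, hm⟩ := FiniteField.card F p
    rw [hm] at h
    have := (Nat.prime_dvd_prime_iff_eq hr Fact.out).1 (hr.dvd_of_dvd_pow h)
    subst this
    exact CharP.cast_eq_zero F _
  have hdvd : r ∣ Fintype.card F ^ i - 1 := by
    rw [← ZMod.natCast_eq_zero_iff, Nat.cast_sub (Nat.one_le_pow _ _ Fintype.card_pos), Nat.cast_pow, ← hi,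
      pow_orderOf_eq_one, Nat.cast_one, sub_self]
  have hRinv : R.map T ≤ R := by
    rintro _ ⟨_, ⟨v, rfl⟩, rfl⟩
    exact ⟨T v, by simp⟩
  have hdis : E ⊓ R = ⊥ := by
    rw [Submodule.eq_bot_iff]
    rintro w ⟨hw, v, rfl⟩
    have hw' : T ((T - 1) v) = (T - 1) v := by
      have : (T - 1) ((T - 1) v) = 0 := hw
      rwa [LinearMap.sub_apply (T) 1, Module.End.one_apply, sub_eq_zero] at this
    have hj : ∀ j : ℕ, (T ^ j) v = v + (j : F) • (T - 1) v := by
      intro j
      induction j with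
      | zero => simp
      | succ j ih =>
        rw [pow_succ', Module.End.mul_apply, ih, map_add, map_smul, hw', Nat.cast_succ, add_smul, one_smul,
          LinearMap.sub_apply, Module.End.one_apply]
        abel
    have h := hj r
    rw [hT, Module.End.one_apply, left_eq_add, smul_eq_zero] at h
    exact h.resolve_left hrF
  have hfix : ∀ S : Submodule F V, S ≤ E → S.map T ≤ S := by
    rintro S hS _ ⟨x, hx, rfl⟩
    have : (T - 1) x = 0 := hS hx
    rw [LinearMap.sub_apply, Module.End.one_apply, sub_eq_zero] at this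
    rw [this]; exact hx
  have hdR : Module.finrank F R + Module.finrank F E = Module.finrank F V := (T - 1).finrank_range_add_finrank_ker
  have hmod : ∀ X : Submodule F V, X.map T ≤ X → X ≤ R → i ∣ Module.finrank F X := fun X hX hXR => by
    have h := finrank_modEq hrF hT hX
    rw [hi, ← hE, le_bot_iff.1 ((inf_le_inf_right _ hXR).trans (inf_comm R E ▸ hdis).le), finrank_bot] at h
    exact Nat.modEq_zero_iff_dvd.1 h
  have hk : ∀ (Q : Type v) [AddCommGroup Q] [Module F Q] [Nontrivial Q] [FiniteDimensional F Q] (S : Module.End F Q),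
      S ^ r = (1 : F) • (1 : Module.End F Q) → (∀ R : Submodule F Q, R.map S ≤ R → R = ⊥ ∨ R = ⊤) →
      Module.finrank F Q ≤ i :=
    fun Q _ _ _ _ S hS hs => simple_le_ord hi0 hdvd (by rw [hS, one_smul]) hs
  obtain ⟨A₂, -, hA₂E, hA₂⟩ := exists_between (bot_le : ⊥ ≤ E) a₂ (by rw [finrank_bot]; omega) ha₂
  obtain ⟨A₁, -, hA₁A, hA₁⟩ := exists_between (bot_le : ⊥ ≤ A₂) a₁ (by rw [finrank_bot]; omega) (by omega)
  have hbR : i * b₂ ≤ Module.finrank F R := by omega
  obtain ⟨B₂, hB₂i, -, hB₂R, hB₂⟩ := chain (by rw [hT, one_smul]) hk (U := ⊥) (by simp) hRinv bot_le hmod b₂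
    (by rw [finrank_bot]; omega)
  have hbB : i * b₁ ≤ i * b₂ := Nat.mul_le_mul_left i hb
  obtain ⟨B₁, hB₁i, -, hB₁B, hB₁⟩ := chain (by rw [hT, one_smul]) hk (U := ⊥) (by simp) hB₂i bot_le
    (fun X hX hXB => hmod X hX (hXB.trans hB₂R)) b₁ (by rw [finrank_bot] at hB₂ ⊢; omega)
  rw [finrank_bot, zero_add] at hB₁ hB₂
  refine ⟨A₁ ⊔ B₁, A₂ ⊔ B₂, sup_le_sup hA₁A hB₁B, ?_, ?_, ?_, ?_⟩
  · rw [Submodule.map_sup]; exact sup_le_sup (hfix _ (hA₁A.trans hA₂E)) hB₁i
  · rw [Submodule.map_sup]; exact sup_le_sup (hfix _ hA₂E) hB₂i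
  · have h := Submodule.finrank_sup_add_finrank_inf_eq A₁ B₁
    rw [le_bot_iff.1 ((inf_le_inf (hA₁A.trans hA₂E) (hB₁B.trans hB₂R)).trans hdis.le), finrank_bot, hA₁, hB₁] at h
    simpa using h
  · have h := Submodule.finrank_sup_add_finrank_inf_eq A₂ B₂
    rw [le_bot_iff.1 ((inf_le_inf hA₂E hB₂R).trans hdis.le), finrank_bot, hA₂, hB₂] at h
    simpa using h

omit [Fintype F] in
/-- If `c` is no `r`-th power, invariant subspaces have dimension divisible by `r`. -/
theorem dvd_finrank_of_not_pow {T : Module.End F V} {r : ℕ} (hr : r.Prime) {c : F}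
    (hT : T ^ r = c • (1 : Module.End F V)) (hc : ∀ d : F, d ^ r ≠ c) {U : Submodule F V} (hU : U.map T ≤ U) :
    r ∣ Module.finrank F U := by
  by_contra h
  have hc0 : c ≠ 0 := fun e => hc 0 (by rw [e, zero_pow hr.ne_zero])
  let S : Module.End F U := T.restrict fun x hx => hU ⟨x, hx, rfl⟩
  have hS : S ^ r = c • (1 : Module.End F U) := by
    have key : ∀ (j : ℕ) (x : U), ((S ^ j) x : V) = (T ^ j) (x : V) := by
      intro j
      induction j with
      | zero => intro x; rfl
      | succ j ih => intro x; rw [pow_succ', pow_succ', Module.End.mul_apply, Module.End.mul_apply, ← ih]; rfl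
    exact LinearMap.ext fun x => Subtype.ext (by rw [key, pow_smul_one hT]; rfl)
  have hd : LinearMap.det S ^ r = c ^ Module.finrank F U := by
    rw [← map_pow, hS, LinearMap.det_smul, map_one, mul_one]
  have hcop : Nat.Coprime r (Module.finrank F U) := (Nat.Prime.coprime_iff_not_dvd hr).2 h
  have hbez := Nat.gcd_eq_gcd_ab r (Module.finrank F U)
  rw [hcop.gcd_eq_one, Nat.cast_one] at hbez
  refine hc (c ^ Nat.gcdA r (Module.finrank F U) * LinearMap.det S ^ Nat.gcdB r (Module.finrank F U)) ?_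
  rw [mul_pow, ← zpow_natCast, ← zpow_natCast, ← zpow_mul, ← zpow_mul, mul_comm (Nat.gcdB r _) (r : ℤ), zpow_mul (LinearMap.det S),
    zpow_natCast, hd, ← zpow_natCast c, ← zpow_mul, ← zpow_add₀ hc0, mul_comm (Nat.gcdA r _) (r : ℤ), ← hbez, zpow_one]

omit [Fintype F] in
/-- Nested invariant subspaces when `c` is no `r`-th power. -/
theorem exists_nested_not_pow {T : Module.End F V} {r : ℕ} (hr : r.Prime) {c : F}
    (hT : T ^ r = c • (1 : Module.End F V)) (hc : ∀ d : F, d ^ r ≠ c) {m₁ m₂ : ℕ} (h₁ : r ∣ m₁) (h₂ : r ∣ m₂)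
    (h12 : m₁ ≤ m₂) (hm : m₂ ≤ Module.finrank F V) :
    ∃ U W : Submodule F V, U ≤ W ∧ U.map T ≤ U ∧ W.map T ≤ W ∧ Module.finrank F U = m₁ ∧
      Module.finrank F W = m₂ := by
  have hk : ∀ (Q : Type v) [AddCommGroup Q] [Module F Q] [Nontrivial Q] [FiniteDimensional F Q] (S : Module.End F Q),
      S ^ r = c • (1 : Module.End F Q) → (∀ R : Submodule F Q, R.map S ≤ R → R = ⊥ ∨ R = ⊤) →
      Module.finrank F Q ≤ r :=
    fun Q _ _ _ _ S hS hs => simple_le hr.pos hS hs
  obtain ⟨b₁, rfl⟩ := h₁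
  obtain ⟨b₂, rfl⟩ := h₂
  obtain ⟨W, hW, -, -, hWd⟩ := chain hT hk (U := ⊥) (W := ⊤) (by simp) le_top bot_le
    (fun X hX _ => dvd_finrank_of_not_pow hr hT hc hX) b₂ (by rw [finrank_bot, finrank_top]; omega)
  rw [finrank_bot, zero_add] at hWd
  obtain ⟨U, hU, -, hUW, hUd⟩ := chain hT hk (U := ⊥) (by simp) hW bot_le
    (fun X hX _ => dvd_finrank_of_not_pow hr hT hc hX) b₁ (by rw [finrank_bot]; omega)
  rw [finrank_bot, zero_add] at hUd
  exact ⟨U, W, hUW, hU, hW, hUd, hWd⟩

end CfsgLib.MaxSub.SemiDims
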