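import Cfsg.Agent.Lib.MaxSub.IsoNDHerm
import Cfsg.Agent.Lib.MaxSub.IsoHerm
import Cfsg.Agent.Lib.MaxSub.SemiDims

/-!
Unitary involutions of `PSU` for odd `q`: the scalars, the anti-isometric witness.
-/

set_option autoImplicit false
set_option linter.unusedSectionVars false

namespace CfsgLib.MaxSub.IsoNDHermTwo

open Matrix CfsgLib CfsgLib.Geom CfsgLib.Classical CfsgLib.MaxSub.IsoSemi

universe u v

section

variable {F : Type u} [Field F] [Fintype F] {q n : ℕ}

theorem det_invol {V : Type v} [AddCommGroup V] [Module F V] [FiniteDimensional F V] (h2 : (2 : F) ≠ 0)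
    {S : Module.End F V} (hS : S * S = 1) :
    Module.finrank F ↥(LinearMap.ker (S - 1)) + Module.finrank F ↥(LinearMap.ker (S + 1)) = Module.finrank F V ∧
      LinearMap.det S = (-1 : F) ^ Module.finrank F ↥(LinearMap.ker (S + 1)) := by
  obtain ⟨P, hP⟩ : ∃ P, P = LinearMap.ker (S - 1) := ⟨_, rfl⟩
  obtain ⟨N, hN⟩ : ∃ N, N = LinearMap.ker (S + 1) := ⟨_, rfl⟩
  rw [← hP, ← hN]
  have hPm : ∀ x, x ∈ P ↔ S x = x := fun x => by
    rw [hP, LinearMap.mem_ker, LinearMap.sub_apply, Module.End.one_apply, sub_eq_zero]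
  have hNm : ∀ x, x ∈ N ↔ S x = -x := fun x => by
    rw [hN, LinearMap.mem_ker, LinearMap.add_apply, Module.End.one_apply, add_eq_zero_iff_eq_neg]
  have hTT : ∀ x, S (S x) = x := fun x => LinearMap.congr_fun hS x
  have hdisj : P ⊓ N = ⊥ := (Submodule.eq_bot_iff _).2 fun x ⟨hx, hx'⟩ => by
    have h : x = -x := ((hPm x).1 hx).symm.trans ((hNm x).1 hx')
    have h' : (2 : F) • x = 0 := by rw [two_smul]; nth_rw 2 [h]; exact add_neg_cancel x
    exact (smul_eq_zero.1 h').resolve_left h2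
  have hsup : P ⊔ N = ⊤ := eq_top_iff.2 fun v _ => by
    rw [show v = (2 : F)⁻¹ • (v + S v) + (2 : F)⁻¹ • (v - S v) by
      rw [← smul_add, show v + S v + (v - S v) = (2 : F) • v by rw [two_smul]; abel, smul_smul,
        inv_mul_cancel₀ h2, one_smul]]
    exact Submodule.add_mem_sup (P.smul_mem _ ((hPm _).2 (by rw [map_add, hTT, add_comm])))
      (N.smul_mem _ ((hNm _).2 (by rw [map_sub, hTT, neg_sub])))
  have hc : IsCompl P N := ⟨disjoint_iff.2 hdisj, codisjoint_iff.2 hsup⟩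
  refine ⟨Submodule.finrank_add_eq_of_isCompl hc, ?_⟩
  let e := Submodule.prodEquivOfIsCompl P N hc
  have hSe : S = (e : (P × N) →ₗ[F] V) ∘ₗ
      ((LinearMap.id : P →ₗ[F] P).prodMap ((-1 : F) • (LinearMap.id : N →ₗ[F] N))) ∘ₗ
        (e.symm : V →ₗ[F] (P × N)) := by
    refine LinearMap.ext fun v => ?_
    obtain ⟨⟨a, b⟩, rfl⟩ := e.surjective v
    rw [LinearMap.comp_apply, LinearMap.comp_apply, LinearEquiv.coe_coe, LinearEquiv.coe_coe, e.symm_apply_apply]
    simp only [e, Submodule.coe_prodEquivOfIsCompl', LinearMap.prodMap_apply, LinearMap.id_apply,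
      LinearMap.smul_apply, map_add, (hPm a).1 a.2, (hNm b).1 b.2, Submodule.coe_smul, neg_one_smul,
      Submodule.coe_neg]
  rw [hSe, LinearMap.det_conj, LinearMap.det_prodMap, LinearMap.det_id, LinearMap.det_smul, LinearMap.det_id,
    one_mul, mul_one]

/-- An anti-isometric involution: even dimension and determinant. -/
theorem det_anti {V : Type v} [AddCommGroup V] [Module F V] [FiniteDimensional F V] {σ : F →+* F}
    {B : V →ₛₗ[σ] V →ₗ[F] F} (hG : Geom B) (h2 : (2 : F) ≠ 0) {S : Module.End F V}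
    (hS : ∀ x y, B (S x) (S y) = -B x y) (hSS : S * S = 1) :
    Even (Module.finrank F V) ∧ LinearMap.det S = (-1 : F) ^ (Module.finrank F V / 2) := by
  have hti : ∀ s : F, s * s = 1 → σ s = s → TI B (LinearMap.ker (S - s • (1 : Module.End F V))) := by
    intro s hs hσs x hx y hy
    rw [LinearMap.mem_ker, LinearMap.sub_apply, sub_eq_zero, LinearMap.smul_apply, Module.End.one_apply] at hx hy
    have h := hS x y
    simp only [hx, hy, LinearMap.map_smulₛₗ, LinearMap.smul_apply, smul_eq_mul, map_smul, RingHom.id_apply, hσs,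
      ← mul_assoc, hs, one_mul] at h
    exact (mul_eq_zero.1 (show (2 : F) * B x y = 0 by linear_combination h)).resolve_left h2
  have htop : ND B (⊤ : Submodule F V) := fun u _ h => hG.sep u fun v => h v trivial
  have h1 := two_mul_ti_le hG htop le_top (hti 1 (one_mul 1) (map_one σ))
  have h3 := two_mul_ti_le hG htop le_top (hti (-1) (by ring) (by rw [map_neg, map_one]))
  rw [one_smul, finrank_top] at h1
  rw [show S - (-1 : F) • (1 : Module.End F V) = S + 1 by rw [neg_one_smul, sub_neg_eq_add], finrank_top] at h3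
  obtain ⟨hsum, hdet⟩ := det_invol h2 hSS
  refine ⟨⟨Module.finrank F V / 2, by omega⟩, ?_⟩
  rw [hdet, show Module.finrank F ↥(LinearMap.ker (S + 1)) = Module.finrank F V / 2 by omega]

variable (hF : Fintype.card F = q ^ 2)

include hF in
theorem exists_norm_neg_one : ∃ c : F, c ^ (q + 1) = -1 := by
  obtain ⟨c, hc⟩ := IsoHerm.exists_norm hF (a := (-1 : F)) (by rw [map_neg, map_one])
  exact ⟨c, by rw [pow_succ, ← qFrob_apply hF, hc]⟩

/-- No scalar with the two conditions when the `2`-part of `n` is small and `q ≡ 3 (mod 4)`. -/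
theorem no_scalar (h2 : (2 : F) ≠ 0) (hn : Even n) (hn0 : n ≠ 0) (hv : padicValNat 2 n ≤ padicValNat 2 (q + 1))
    (hq : q % 4 = 3) {w : F} (hw1 : w ^ (q + 1) = -1) : w ^ n ≠ (-1 : F) ^ (n / 2) := by
  haveI : Fact (Nat.Prime 2) := ⟨Nat.prime_two⟩
  intro hwn
  have h11 : (-1 : F) ≠ 1 := fun h => h2 (by linear_combination -h)
  obtain ⟨h, rfl⟩ := hn
  rw [show (h + h) / 2 = h by omega] at hwn
  rcases Nat.even_or_odd h with he | ho
  · rw [he.neg_one_pow] at hwn
    obtain ⟨k, hk⟩ := pow_padicValNat_dvd (p := 2) (n := h + h)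
    have hkodd : Odd k := by
      rw [← Nat.not_even_iff_odd, even_iff_two_dvd]
      rintro ⟨t, rfl⟩
      exact pow_succ_padicValNat_not_dvd (p := 2) (n := h + h) hn0 ⟨t, by rw [pow_succ, mul_assoc]; exact hk⟩
    obtain ⟨Q, hQ⟩ := (pow_dvd_pow 2 hv).trans (pow_padicValNat_dvd (p := 2) (n := q + 1))
    refine h11 ?_
    rw [← hkodd.neg_one_pow (α := F), ← hw1, ← pow_mul, hQ, mul_right_comm, ← hk, pow_mul, hwn, one_pow]
  · obtain ⟨j, hj⟩ : Even ((q + 1) / 2) := Nat.even_iff.2 (by omega)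
    refine h11 ?_
    rw [← ho.neg_one_pow (α := F)]
    nth_rw 1 [← hw1]
    rw [← pow_mul, show (q + 1) * h = (h + h) * (j + j) by rw [show q + 1 = 2 * (j + j) by omega]; ring, pow_mul, hwn,
      ho.neg_one_pow, Even.neg_one_pow ⟨j, rfl⟩]

include hF in
/-- A scalar with the two conditions otherwise. -/
theorem exists_scalar (hq : Odd q) (hn : Even n) (hn0 : n ≠ 0)
    (h : ¬ (padicValNat 2 n ≤ padicValNat 2 (q + 1) ∧ q % 4 = 3)) :
    ∃ w : F, w ^ (q + 1) = -1 ∧ w ^ n = (-1 : F) ^ (n / 2) := by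
  haveI : Fact (Nat.Prime 2) := ⟨Nat.prime_two⟩
  have hq2 := Nat.odd_iff.1 hq
  obtain ⟨j, hj⟩ := hn
  by_cases hq4 : q % 4 = 1
  · obtain ⟨w, hw⟩ : IsSquare (-1 : F) := FiniteField.isSquare_neg_one_iff.2 (by
      rw [hF, Nat.pow_mod]
      rw [hq4]; decide)
    refine ⟨w, ?_, ?_⟩
    · rw [show q + 1 = 2 * ((q + 1) / 2) by omega, pow_mul, sq, ← hw,
        Odd.neg_one_pow (Nat.odd_iff.2 (by omega))]
    · rw [show n = 2 * (n / 2) by omega, pow_mul, sq, ← hw, show 2 * (n / 2) / 2 = n / 2 by omega]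
  have hv : padicValNat 2 (q + 1) < padicValNat 2 n := by
    by_contra hv
    exact h ⟨by omega, by omega⟩
  obtain ⟨c, hc⟩ := exists_norm_neg_one hF
  obtain ⟨Q, hQ⟩ := pow_padicValNat_dvd (p := 2) (n := q + 1)
  have hQodd : Odd Q := by
    rw [← Nat.not_even_iff_odd, even_iff_two_dvd]
    rintro ⟨t, rfl⟩
    exact pow_succ_padicValNat_not_dvd (p := 2) (n := q + 1) (by omega) ⟨t, by rw [pow_succ, mul_assoc]; exact hQ⟩
  obtain ⟨s, hs⟩ := (pow_dvd_pow 2 (show padicValNat 2 (q + 1) + 1 ≤ padicValNat 2 n by omega)).trans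
    (pow_padicValNat_dvd (p := 2) (n := n))
  have hu : 1 ≤ padicValNat 2 (q + 1) := one_le_padicValNat_of_dvd (by omega) (by omega)
  obtain ⟨u, hu'⟩ : ∃ u, padicValNat 2 (q + 1) = u + 1 := ⟨_, (Nat.sub_add_cancel hu).symm⟩
  refine ⟨c ^ Q, by rw [← pow_mul, mul_comm, pow_mul, hc, hQodd.neg_one_pow], ?_⟩
  have hev : Even (n / 2) := by
    rw [hs, hu', pow_succ, pow_succ, Nat.even_iff, show 2 ^ u * 2 * 2 * s = 2 * (2 * (2 ^ u * s)) by ring]
    omega
  rw [hev.neg_one_pow, ← pow_mul,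
    show Q * n = (q + 1) * (2 * s) by rw [hu'] at hQ hs; rw [hs, hQ, pow_succ _ (u + 1)]; ring, pow_mul, hc, (even_two.mul_right s).neg_one_pow]

include hF in
/-- The anti-isometric involution. -/
theorem exists_anti_invol {h : ℕ} (hn : n = 2 * h) :
    ∃ S : Module.End F (Fin n → F), S * S = 1 ∧ ∀ x y, hermB hF n (S x) (S y) = -hermB hF n x y := by
  classical
  obtain ⟨c, hc⟩ := exists_norm_neg_one hF
  have hc0 : c ≠ 0 := fun e => by rw [e] at hc; simp at hc
  obtain ⟨d, hd⟩ : ∃ d : Bool → F, d = fun b => if b then c else c⁻¹ := ⟨_, rfl⟩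
  let e : Fin n ≃ Fin h × Bool := Fintype.equivOfCardEq (by simp [hn, mul_comm])
  let L : Module.End F (Fin n → F) :=
    { toFun := fun v x => d (e x).2 * v (e.symm ((e x).1, !(e x).2))
      map_add' := fun u v => funext fun x => by simp [mul_add]
      map_smul' := fun k v => funext fun x => by simp [mul_left_comm] }
  have hL : ∀ v a b, L v (e.symm (a, b)) = d b * v (e.symm (a, !b)) := fun v a b => by
    show d (e (e.symm (a, b))).2 * _ = _
    rw [e.apply_symm_apply]
  refine ⟨L, LinearMap.ext fun v => funext fun x => ?_, fun u v => ?_⟩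
  · obtain ⟨⟨a, b⟩, rfl⟩ := e.symm.surjective x
    rw [Module.End.mul_apply, hL, hL, Bool.not_not, Module.End.one_apply, hd]
    cases b <;> simp [hc0]
  · rw [hermB_apply, hermB_apply, Cfsg.hermForm, Cfsg.hermForm, ← Finset.sum_neg_distrib]
    refine Fintype.sum_equiv (e.trans (((Equiv.refl _).prodCongr Equiv.boolNot).trans e.symm)) _ _ fun x => ?_
    obtain ⟨⟨a, b⟩, rfl⟩ := e.symm.surjective x
    rw [hL, hL, mul_pow]
    simp only [Equiv.trans_apply, e.apply_symm_apply, Equiv.prodCongr_apply, Prod.map, Equiv.refl_apply,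
      Equiv.boolNot_apply]
    have hdq : d b ^ (q + 1) = -1 := by
      rw [hd]; cases b
      · simp [inv_pow, hc]
      · simp [hc]
    linear_combination (v (e.symm (a, !b)) * u (e.symm (a, !b)) ^ q) * hdq

end

end CfsgLib.MaxSub.IsoNDHermTwo
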