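import Cfsg.Agent.Lib.MaxSub.IsoNDHerm
import Cfsg.Agent.Lib.MaxSub.IsoHerm
import Cfsg.Agent.Lib.KnownC.JordanTypeRanks
import Cfsg.Agent.Lib.Classical.UnipUnitary

/-!
Unitary unipotent elements of every Jordan type, and the members they fix.
-/

set_option autoImplicit false

namespace CfsgLib.MaxSub.IsoNDHermUnip

open Matrix CfsgLib CfsgLib.Geom CfsgLib.Classical CfsgLib.MaxSub.IsoSemi CfsgLib.MaxSub.IsoNDJordan

universe u

variable {F : Type u} [Field F] [Fintype F] {p : ℕ} [Fact p.Prime] [CharP F p] {q n : ℕ}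

theorem parts_two {n m : ℕ} (hmn : 2 * m < n) :
    (∀ μ : Multiset ℕ, (∀ a ∈ μ, 0 < a ∧ a ≤ 2) → μ.sum = n → ∃ ν : Multiset ℕ, ν ≤ μ ∧ ν.sum = m) ↔
      Odd n ∨ Even m := by
  constructor
  · intro h
    by_contra hne
    push Not at hne
    obtain ⟨hn, hm⟩ := hne
    rw [Nat.not_odd_iff_even] at hn
    obtain ⟨k, hk⟩ := hn
    obtain ⟨ν, hν, hνs⟩ := h (Multiset.replicate k 2)
      (fun a ha => by rw [Multiset.eq_of_mem_replicate ha]; omega) (by simp; omega)
    rw [Multiset.eq_replicate_card.2 (fun b hb => Multiset.eq_of_mem_replicate (Multiset.subset_of_le hν hb)),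
      Multiset.sum_replicate, smul_eq_mul] at hνs
    exact hm (hνs ▸ even_two.mul_left _)
  · intro hc μ hμ hs
    have hdec : μ = Multiset.replicate (μ.count 1) 1 + Multiset.replicate (μ.count 2) 2 := by
      refine Multiset.ext.2 fun e => ?_
      rw [Multiset.count_add, Multiset.count_replicate, Multiset.count_replicate]
      by_cases h1 : 1 = e
      · subst h1; simp
      by_cases h2 : 2 = e
      · subst h2; simp
      rw [if_neg h1, if_neg h2, add_zero, Multiset.count_eq_zero]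
      exact fun h => by have := hμ e h; omega
    have hsum : μ.count 1 + 2 * μ.count 2 = n := by
      conv_rhs => rw [← hs, hdec]
      simp [Multiset.sum_replicate, mul_comm]
    rw [Nat.odd_iff, Nat.even_iff] at hc
    obtain ⟨k, hk⟩ : ∃ k, k = min (μ.count 2) (m / 2) := ⟨_, rfl⟩
    refine ⟨Multiset.replicate (m - 2 * k) 1 + Multiset.replicate k 2, ?_, by simp [Multiset.sum_replicate]; omega⟩
    conv_rhs => rw [hdec]
    exact add_le_add ((Multiset.replicate_le_replicate 1).2 (by omega))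
      ((Multiset.replicate_le_replicate 2).2 (by omega))

theorem det_eq_one {A : Matrix (Fin n) (Fin n) F} (h : (A - 1) ^ p = 0) (hn : 0 < n) :
    A ^ p = 1 ∧ A.det = 1 := by
  haveI : NeZero n := ⟨hn.ne'⟩
  rw [sub_pow_char_of_commute p (Commute.one_right A), one_pow, sub_eq_zero] at h
  refine ⟨h, frobenius_inj F p ?_⟩
  rw [frobenius_def, frobenius_def, ← Matrix.det_pow, h, Matrix.det_one, one_pow]

/-- A unitary unipotent element of given type. -/
theorem exists_of_type (hF : Fintype.card F = q ^ 2) {μ : Multiset ℕ} (hμ : ∀ e ∈ μ, 0 < e ∧ e ≤ p)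
    (hsum : μ.sum = n) (hn : 0 < n) :
    ∃ A : Matrix.SpecialLinearGroup (Fin n) F, A ∈ Cfsg.SU n F q ∧
      (A : Matrix (Fin n) (Fin n) F) ^ p = 1 ∧ ((A : Matrix (Fin n) (Fin n) F) - 1) ^ p = 0 ∧
      ∀ j, (((A : Matrix (Fin n) (Fin n) F) - 1) ^ j).rank = tail μ j := by
  classical
  obtain ⟨t, d, rfl⟩ : ∃ (t : ℕ) (d : Fin t → ℕ), μ = Finset.univ.val.map d :=
    ⟨_, μ.toList.get, by rw [Fin.univ_val_map, List.ofFn_get, Multiset.coe_toList]⟩
  have hd : ∀ k, 1 ≤ d k := fun k => (hμ _ (Multiset.mem_map.2 ⟨k, Finset.mem_univ k, rfl⟩)).1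
  obtain ⟨e⟩ : Nonempty (((k : Fin t) × Fin (d k)) ≃ Fin n) := ⟨Fintype.equivOfCardEq (by
    rw [← hsum]; simp [Finset.sum])⟩
  obtain ⟨M, hM⟩ : ∃ M, M = Matrix.reindex e e (Cfsg.jordanTypeMatrix d F) := ⟨_, rfl⟩
  have htail : ∀ j, tail (Finset.univ.val.map d) j = ∑ k, (d k - j) := fun j => by
    simp [tail, Finset.sum, Function.comp_def]
  have hMr : ∀ j, ((M - 1) ^ j).rank = tail (Finset.univ.val.map d) j := fun j => by
    rw [htail, ← KnownC.rank_jordanType_pow (F := F) d hd]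
    exact KnownC.rank_pow_sub_one_of_similar e _ M (hM ▸ IsConj.refl _) j
  have hzero : ∀ N : Matrix (Fin n) (Fin n) F, N.rank = 0 → N = 0 := fun N hN =>
    Matrix.ext_iff_mulVec.2 fun v => by
      have h : LinearMap.range N.mulVecLin = ⊥ := Submodule.finrank_eq_zero.1 hN
      rw [Matrix.zero_mulVec]
      exact LinearMap.congr_fun (LinearMap.range_eq_bot.1 h) v
  have hMn : (M - 1) ^ p = 0 := hzero _ (by rw [hMr, tail_eq_zero (fun x hx => (hμ x hx).2) le_rfl])
  have hMu : IsUnit M := by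
    have := (IsNilpotent.isUnit_one_add (⟨p, hMn⟩ : IsNilpotent (M - 1)))
    rwa [add_sub_cancel] at this
  obtain ⟨B, hB⟩ := UnipUnitary.exists_unitary_of_unipotent hF hMu.unit
    (by rw [IsUnit.unit_spec]; exact ⟨p, hMn⟩)
  have hBr : ∀ j, ((((B : GL (Fin n) F) : Matrix (Fin n) (Fin n) F) - 1) ^ j).rank =
      tail (Finset.univ.val.map d) j := fun j => by
    rw [← hMr]
    have h := (Units.coeHom (Matrix (Fin n) (Fin n) F)).map_isConj hB
    rw [Units.coeHom_apply, Units.coeHom_apply, IsUnit.unit_spec] at h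
    have := KnownC.rank_pow_sub_one_of_similar (Equiv.refl (Fin n)) M _ (by simpa using h) j
    exact this
  have hBn : (((B : GL (Fin n) F) : Matrix (Fin n) (Fin n) F) - 1) ^ p = 0 :=
    hzero _ (by rw [hBr, tail_eq_zero (fun x hx => (hμ x hx).2) le_rfl])
  obtain ⟨hp1, hdet⟩ := det_eq_one hBn hn
  exact ⟨⟨((B : GL (Fin n) F) : Matrix (Fin n) (Fin n) F), hdet⟩, B.2, hp1, hBn, hBr⟩

theorem not_scalar {μ : Multiset ℕ} {A : Matrix (Fin n) (Fin n) F} (hA : (A - 1) ^ p = 0)
    (hr : ∀ j, ((A - 1) ^ j).rank = tail μ j) {e : ℕ} (he : e ∈ μ) (he1 : 1 < e) (hn : 0 < n) (z : F) :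
    A ≠ z • 1 := by
  intro hz
  have h1 : A - 1 = (z - 1) • (1 : Matrix (Fin n) (Fin n) F) := by rw [hz, sub_smul, one_smul]
  rw [h1, _root_.smul_pow, one_pow] at hA
  have h2 := congrFun (congrFun hA ⟨0, hn⟩) ⟨0, hn⟩
  rw [Matrix.smul_apply, Matrix.one_apply_eq, smul_eq_mul, mul_one, Matrix.zero_apply] at h2
  have h3 := hr 1
  rw [h1, (pow_eq_zero_iff (Fact.out : p.Prime).ne_zero).1 h2, zero_smul, pow_one, Matrix.rank_zero] at h3
  obtain ⟨ρ, rfl⟩ := Multiset.exists_cons_of_mem he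
  rw [IsoNDJordan.tail_cons] at h3
  omega

/-- Every element of order `p` fixes a member iff every type has a sub-partition. -/
theorem fix_iff (hF : Fintype.card F = q ^ 2) (hn : 0 < n) {m : ℕ} (hmn : m ≤ n) :
    (∀ A : Matrix.SpecialLinearGroup (Fin n) F, A ∈ Cfsg.SU n F q →
      (∃ z : F, (A : Matrix (Fin n) (Fin n) F) ^ p = z • (1 : Matrix (Fin n) (Fin n) F)) →
      (∀ z : F, (A : Matrix (Fin n) (Fin n) F) ≠ z • (1 : Matrix (Fin n) (Fin n) F)) →
      ∃ W : Submodule F (Fin n → F), Module.finrank F ↥W = m ∧ ND (hermB hF n) W ∧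
        W.map (Matrix.toLinAlgEquiv' (A : Matrix (Fin n) (Fin n) F)) ≤ W) ↔
    ∀ μ : Multiset ℕ, (∀ a ∈ μ, 0 < a ∧ a ≤ p) → μ.sum = n → ∃ ν : Multiset ℕ, ν ≤ μ ∧ ν.sum = m := by
  have hG := IsoHerm.geom hF n
  have hσ := qFrob_ne_id hF
  have hiso : ∀ {A : Matrix.SpecialLinearGroup (Fin n) F}, A ∈ Cfsg.SU n F q → ∀ u v,
      hermB hF n ((A : Matrix (Fin n) (Fin n) F) *ᵥ u) ((A : Matrix (Fin n) (Fin n) F) *ᵥ v) = hermB hF n u v :=
    fun {A} hA u v => by rw [hermB_apply, hermB_apply]; exact hA v u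
  constructor
  · intro h μ hμ hsum
    by_cases hbig : ∃ e ∈ μ, 1 < e
    swap
    · push Not at hbig
      refine ⟨Multiset.replicate m 1, ?_, by simp⟩
      have h1 : ∀ b ∈ μ, b = 1 := fun b hb => by have := (hμ b hb).1; have := hbig b hb; omega
      rw [Multiset.eq_replicate_card.2 h1] at hsum ⊢
      rw [Multiset.sum_replicate, smul_eq_mul, mul_one] at hsum
      exact (Multiset.replicate_le_replicate 1).2 (by omega)
    obtain ⟨e, he, he1⟩ := hbig
    obtain ⟨A, hA, hAp, hAn, hAr⟩ := exists_of_type hF hμ hsum hn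
    obtain ⟨W, hWd, hW, hWi⟩ := h A hA ⟨1, by rw [hAp, one_smul]⟩ (not_scalar hAn hAr he he1 hn)
    obtain ⟨ν, hν, hνs⟩ := IsoNDHerm.exists_sub_of_fixed hG
      (T := Matrix.toLinAlgEquiv' (A : Matrix (Fin n) (Fin n) F)) (hiso hA) (fun e he => (hμ e he).2)
      (fun j => by
        rw [show (Matrix.toLinAlgEquiv' (A : Matrix (Fin n) (Fin n) F) - 1) ^ j =
          Matrix.toLinAlgEquiv' (((A : Matrix (Fin n) (Fin n) F) - 1) ^ j) by rw [map_pow, map_sub, map_one]]
        exact hAr j) hW hWi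
    exact ⟨ν, hν, hνs.trans hWd⟩
  · rintro hpart A hA ⟨z, hz⟩ -
    obtain ⟨w, hw⟩ := surjective_frobenius F p z
    rw [frobenius_def] at hw
    obtain ⟨T, hT⟩ : ∃ T, T = w⁻¹ • Matrix.toLinAlgEquiv' (A : Matrix (Fin n) (Fin n) F) := ⟨_, rfl⟩
    have hz0 : z ≠ 0 := fun e => by
      have h1 := congrArg Matrix.det hz
      haveI : Nonempty (Fin n) := ⟨⟨0, hn⟩⟩
      rw [Matrix.det_pow, A.2, one_pow, e, zero_smul, Matrix.det_zero] at h1
      exact one_ne_zero h1
    have hw0 : w ≠ 0 := fun e => hz0 (by rw [← hw, e, zero_pow (Fact.out : p.Prime).ne_zero])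
    have hz1 : z ^ (q + 1) = 1 := by
      have h1 : ∀ k u v, hermB hF n (((A : Matrix (Fin n) (Fin n) F) ^ k) *ᵥ u)
          (((A : Matrix (Fin n) (Fin n) F) ^ k) *ᵥ v) = hermB hF n u v := fun k => by
        induction k with
        | zero => intro u v; rw [pow_zero, Matrix.one_mulVec, Matrix.one_mulVec]
        | succ k ih => intro u v; rw [pow_succ', ← Matrix.mulVec_mulVec, ← Matrix.mulVec_mulVec, hiso hA, ih]
      obtain ⟨v, -, hv⟩ := IsoNDHerm.exists_aniso hσ (hermB_conj hF) (U := ⊤)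
        (fun u _ hu => hG.sep u fun v => hu v trivial) (fun e => by
          have := congrArg (fun U : Submodule F (Fin n → F) => Module.finrank F U) e
          simp at this
          omega)
      have h2 := h1 p v v
      simp only [hz, Matrix.smul_mulVec, Matrix.one_mulVec, LinearMap.map_smulₛₗ, LinearMap.smul_apply, map_smul,
        qFrob_apply, smul_eq_mul, RingHom.id_apply] at h2
      refine mul_right_cancel₀ hv ?_
      rw [pow_succ]
      linear_combination h2
    have hw1 : w ^ (q + 1) = 1 := by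
      refine frobenius_inj F p ?_
      rw [frobenius_def, frobenius_def, one_pow, ← pow_mul, mul_comm, pow_mul, hw, hz1]
    have hTiso : ∀ u v, hermB hF n (T u) (T v) = hermB hF n u v := fun u v => by
      simp only [hT, LinearMap.smul_apply, LinearMap.map_smulₛₗ, map_smul, smul_eq_mul, RingHom.id_apply,
        map_inv₀, qFrob_apply, Matrix.toLinAlgEquiv'_apply, hiso hA]
      rw [← mul_assoc, ← mul_inv, ← pow_succ', hw1, inv_one, one_mul]
    have hN : (T - 1) ^ p = 0 := by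
      haveI : NeZero n := ⟨hn.ne'⟩
      have h1 : T - 1 = Matrix.toLinAlgEquiv' (w⁻¹ • (A : Matrix (Fin n) (Fin n) F) - 1) := by
        rw [map_sub, map_smul, map_one, hT]
      rw [h1, ← map_pow, sub_pow_char_of_commute p (Commute.one_right _), one_pow, _root_.smul_pow, hz, smul_smul,
        inv_pow, hw, inv_mul_cancel₀ hz0, one_smul, sub_self, map_zero]
    obtain ⟨μ, hμ, hμs, hμW⟩ := IsoNDHerm.exists_types hσ (hermB_conj hF) hG hTiso hN n ⊤
      (by rw [finrank_top, Module.finrank_fin_fun]) (fun u _ hu => hG.sep u fun v => hu v trivial) le_top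
    obtain ⟨ν, hν, hνs⟩ := hpart μ hμ hμs
    obtain ⟨W, -, hW, hWi, hWd⟩ := hμW ν hν
    refine ⟨W, hWd.trans hνs, hW, ?_⟩
    rintro _ ⟨x, hx, rfl⟩
    have h := W.smul_mem w (apply_mem hWi hx)
    rwa [hT, LinearMap.smul_apply, smul_smul, mul_inv_cancel₀ hw0, one_smul] at h

end CfsgLib.MaxSub.IsoNDHermUnip
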