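import Cfsg.Agent.Lib.MaxSub.IsoType
import Cfsg.Agent.Lib.KnownB.BCSpinor
import Cfsg.Agent.Lib.Geom.PlusType

/-!
Isometries with square `1` or `-1` and their invariant totally singular subspaces, odd characteristic.
-/

set_option autoImplicit false

namespace CfsgLib.MaxSub.IsoTwo

open CfsgLib CfsgLib.Geom CfsgLib.MaxSub.IsoSemi CfsgLib.MaxSub.IsoType Matrix
open QuadraticMap (polar)

universe u v

variable {F : Type u} [Field F] [Fintype F]

section

variable {V : Type v} [AddCommGroup V] [Module F V] [FiniteDimensional F V]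
  {Q : QuadraticForm F V} (hQ : ∀ x, (∀ y, polar Q x y = 0) → x = 0) (h2 : (2 : F) ≠ 0)

omit [Fintype F] [FiniteDimensional F V] in
theorem polar_map {T : Module.End F V} (hT : ∀ v, Q (T v) = Q v) (x y : V) :
    polar Q (T x) (T y) = polar Q x y := by
  simp only [QuadraticMap.polar, ← map_add, hT]

include hQ h2 in
/-- The eigenspaces of an isometric involution. -/
theorem eigen_split {T : Module.End F V} (hT : ∀ v, Q (T v) = Q v) (hTT : ∀ v, T (T v) = v) :
    ∃ P N : Submodule F V, (∀ x, x ∈ P ↔ T x = x) ∧ (∀ x, x ∈ N ↔ T x = -x) ∧ ND Q.polarBilin P ∧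
      ND Q.polarBilin N ∧ N ≤ perp Q.polarBilin P ∧ P ⊔ N = ⊤ ∧
      Module.finrank F P + Module.finrank F N = Module.finrank F V := by
  have hG := IsoOrth.geom hQ
  obtain ⟨P, hP⟩ : ∃ P, P = LinearMap.ker (T - 1) := ⟨_, rfl⟩
  obtain ⟨N, hN⟩ : ∃ N, N = LinearMap.ker (T + 1) := ⟨_, rfl⟩
  have hPm : ∀ x, x ∈ P ↔ T x = x := fun x => by
    rw [hP, LinearMap.mem_ker, LinearMap.sub_apply, Module.End.one_apply, sub_eq_zero]
  have hNm : ∀ x, x ∈ N ↔ T x = -x := fun x => by
    rw [hN, LinearMap.mem_ker, LinearMap.add_apply, Module.End.one_apply, add_eq_zero_iff_eq_neg]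
  have hdec : ∀ v, v = (2 : F)⁻¹ • (v + T v) + (2 : F)⁻¹ • (v - T v) := fun v => by
    rw [← smul_add, show v + T v + (v - T v) = (2 : F) • v by rw [two_smul]; abel, smul_smul,
      inv_mul_cancel₀ h2, one_smul]
  have hp : ∀ v, (2 : F)⁻¹ • (v + T v) ∈ P := fun v => P.smul_mem _ ((hPm _).2 (by rw [map_add, hTT, add_comm]))
  have hn : ∀ v, (2 : F)⁻¹ • (v - T v) ∈ N := fun v => N.smul_mem _ ((hNm _).2 (by rw [map_sub, hTT, neg_sub]))
  have hperp : ∀ x ∈ P, ∀ y ∈ N, Q.polarBilin x y = 0 := fun x hx y hy => by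
    have h := polar_map hT x y
    rw [(hPm x).1 hx, (hNm y).1 hy, QuadraticMap.polar_neg_right] at h
    exact (mul_eq_zero.1 (by linear_combination -h : (2 : F) * polar Q x y = 0)).resolve_left h2
  have hPnd : ND Q.polarBilin P := fun x hx h => hG.sep x fun v => by
    rw [hdec v, map_add, h _ (hp v), hperp x hx _ (hn v), add_zero]
  have hNnd : ND Q.polarBilin N := fun x hx h => hG.sep x fun v => by
    rw [hdec v, map_add, h _ (hn v), hG.refl _ _ (hperp _ (hp v) x hx), add_zero]
  have hperp' : N ≤ perp Q.polarBilin P := fun y hy x hx => hperp x hx y hy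
  have hsup : P ⊔ N = ⊤ := eq_top_iff.2 fun v _ => by
    rw [hdec v]; exact Submodule.add_mem_sup (hp v) (hn v)
  refine ⟨P, N, hPm, hNm, hPnd, hNnd, hperp', hsup, ?_⟩
  rw [← (finrank_sum hQ hPnd hperp').2, hsup, finrank_top]

include hQ in
/-- Totally singular subspaces of the eigenspaces give invariant ones. -/
theorem join_eigen {T : Module.End F V} {P N W₁ W₂ : Submodule F V} (hP : ∀ x, x ∈ P ↔ T x = x)
    (hN : ∀ x, x ∈ N ↔ T x = -x) (hPnd : ND Q.polarBilin P) (hperp : N ≤ perp Q.polarBilin P)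
    (hW₁ : W₁ ≤ P) (hW₂ : W₂ ≤ N) (h₁ : ∀ w ∈ W₁, Q w = 0) (h₂ : ∀ w ∈ W₂, Q w = 0) :
    Module.finrank F ↥(W₁ ⊔ W₂) = Module.finrank F W₁ + Module.finrank F W₂ ∧ (∀ w ∈ W₁ ⊔ W₂, Q w = 0) ∧
      (W₁ ⊔ W₂).map T ≤ W₁ ⊔ W₂ := by
  refine ⟨?_, IsoOrth.ts_sup h₁ h₂ (hW₂.trans (hperp.trans (perp_antitone hW₁))), inv_sup ?_ ?_⟩
  · have h := Submodule.finrank_sup_add_finrank_inf_eq W₁ W₂
    have hb : W₁ ⊓ W₂ = ⊥ := le_bot_iff.1 ((finrank_sum hQ hPnd hperp).1 ▸ inf_le_inf hW₁ hW₂)
    rw [hb, finrank_bot, add_zero] at h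
    exact h
  · rintro _ ⟨w, hw, rfl⟩; rw [(hP w).1 (hW₁ hw)]; exact hw
  · rintro _ ⟨w, hw, rfl⟩; rw [(hN w).1 (hW₂ hw)]; exact W₂.neg_mem hw

include h2 in
omit [Fintype F] in
/-- With a square root of `-1` the square roots of `-1` have totally singular eigenspaces of half dimension. -/
theorem exists_inv_ts_of_sq {J : Module.End F V} (hJ : ∀ v, J (J v) = -v) (hiso : ∀ v, Q (J v) = Q v) {ι₀ : F}
    (hι : ι₀ * ι₀ = -1) {m : ℕ} (hm : 2 * m ≤ Module.finrank F V) :
    ∃ W : Submodule F V, Module.finrank F W = m ∧ (∀ w ∈ W, Q w = 0) ∧ W.map J ≤ W := by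
  obtain ⟨c, hc, hd⟩ : ∃ c : F, c * c = -1 ∧ m ≤ Module.finrank F ↥(LinearMap.ker (J - c • 1)) := by
    obtain ⟨A, hA⟩ : ∃ A, A = LinearMap.ker (J - ι₀ • 1) := ⟨_, rfl⟩
    obtain ⟨B, hB⟩ : ∃ B, B = LinearMap.ker (J - (-ι₀) • 1) := ⟨_, rfl⟩
    have hsup : A ⊔ B = ⊤ := eq_top_iff.2 fun v _ => by
      have hv : v = (2 : F)⁻¹ • (v - ι₀ • J v) + (2 : F)⁻¹ • (v + ι₀ • J v) := by
        rw [← smul_add, show v - ι₀ • J v + (v + ι₀ • J v) = (2 : F) • v by rw [two_smul]; abel, smul_smul,
          inv_mul_cancel₀ h2, one_smul]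
      rw [hv]
      refine Submodule.add_mem_sup (A.smul_mem _ ?_) (B.smul_mem _ ?_)
      · rw [hA, LinearMap.mem_ker, LinearMap.sub_apply, LinearMap.smul_apply, Module.End.one_apply, map_sub, map_smul,
          hJ, smul_sub, smul_smul, hι, neg_one_smul, smul_neg]
        abel
      · rw [hB, LinearMap.mem_ker, LinearMap.sub_apply, LinearMap.smul_apply, Module.End.one_apply, map_add, map_smul,
          hJ, smul_add, smul_smul, neg_mul, hι, neg_neg, one_smul, smul_neg, neg_smul]
        abel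
    have h := Submodule.finrank_sup_add_finrank_inf_eq A B
    rw [hsup, finrank_top] at h
    rcases le_total (Module.finrank F B) (Module.finrank F A) with hle | hle
    · exact ⟨ι₀, hι, hA ▸ by omega⟩
    · exact ⟨-ι₀, by rw [neg_mul_neg, hι], hB ▸ by omega⟩
  have hmem : ∀ w ∈ LinearMap.ker (J - c • 1), J w = c • w := fun w hw =>
    sub_eq_zero.1 (show (J - c • 1) w = 0 from hw)
  obtain ⟨W, hW, hWd⟩ := exists_sub_finrank _ hd
  refine ⟨W, hWd, fun w hw => ?_, ?_⟩
  · have h := hiso w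
    rw [hmem w (hW hw), QuadraticMap.map_smul, hc, smul_eq_mul] at h
    exact (mul_eq_zero.1 (by linear_combination -h : (2 : F) * Q w = 0)).resolve_left h2
  · rintro _ ⟨w, hw, rfl⟩
    rw [hmem w (hW hw)]
    exact W.smul_mem _ hw

section

variable {J : Module.End F V} (hJ : ∀ v, J (J v) = -v) (hiso : ∀ v, Q (J v) = Q v) (hns : ¬ IsSquare (-1 : F))

include hJ hiso h2
omit [Fintype F] [FiniteDimensional F V] in
theorem polar_J (v : V) : polar Q v (J v) = 0 := by
  have h := polar_map hiso v (J v)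
  rw [hJ, QuadraticMap.polar_neg_right, QuadraticMap.polar_comm Q (J v) v] at h
  exact (mul_eq_zero.1 (by linear_combination -h : (2 : F) * polar Q v (J v) = 0)).resolve_left h2

omit hiso h2 [Fintype F] in
include hns in
theorem even_finrank {W : Submodule F V} (hW : W.map J ≤ W) : Even (Module.finrank F W) := by
  rcases Nat.even_or_odd (Module.finrank F W) with h | h
  · exact h
  let K : Module.End F W := J.restrict fun x hx => apply_mem hW hx
  have hKK : K * K = (-1 : F) • 1 := LinearMap.ext fun x => Subtype.ext (by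
    show J (J (x : V)) = (-1 : F) • (x : V)
    rw [hJ, neg_one_smul])
  have hd := congrArg LinearMap.det hKK
  rw [map_mul, LinearMap.det_smul, map_one, mul_one, h.neg_one_pow] at hd
  exact absurd ⟨LinearMap.det K, hd.symm⟩ hns

include hQ hns in
omit [Fintype F] in
/-- A singular vector orthogonal to an invariant totally singular subspace enlarges it by two. -/
theorem step {W : Submodule F V} (hWi : W.map J ≤ W) (hW : ∀ w ∈ W, Q w = 0) {v : V}
    (hv : v ∈ perp Q.polarBilin W) (hvW : v ∉ W) (hvv : Q v = 0) :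
    ∃ W' : Submodule F V, W'.map J ≤ W' ∧ (∀ w ∈ W', Q w = 0) ∧
      Module.finrank F W' = Module.finrank F W + 2 := by
  obtain ⟨S, hS⟩ : ∃ S, S = Submodule.span F {v} ⊔ Submodule.span F {J v} := ⟨_, rfl⟩
  have hvS : v ∈ S := hS ▸ Submodule.mem_sup_left (Submodule.mem_span_singleton_self v)
  have hJvS : J v ∈ S := hS ▸ Submodule.mem_sup_right (Submodule.mem_span_singleton_self _)
  have hmem : ∀ z ∈ S, ∃ x y : F, z = x • v + y • J v := fun z hz => by
    rw [hS] at hz
    obtain ⟨a, ha, b, hb, rfl⟩ := Submodule.mem_sup.1 hz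
    obtain ⟨x, rfl⟩ := Submodule.mem_span_singleton.1 ha
    obtain ⟨y, rfl⟩ := Submodule.mem_span_singleton.1 hb
    exact ⟨x, y, rfl⟩
  have hJperp : J v ∈ perp Q.polarBilin W := fun w hw => by
    have h := polar_map hiso (J w) v
    have h0 : polar Q (J w) v = 0 := hv _ (apply_mem hWi hw)
    rw [h0, hJ, QuadraticMap.polar_neg_left, neg_eq_zero] at h
    exact h
  have hSW : S ≤ perp Q.polarBilin W := hS ▸ sup_le ((Submodule.span_singleton_le_iff_mem _ _).2 hv)
    ((Submodule.span_singleton_le_iff_mem _ _).2 hJperp)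
  have hSi : S.map J ≤ S := by
    rintro _ ⟨z, hz, rfl⟩
    obtain ⟨x, y, rfl⟩ := hmem z hz
    rw [map_add, map_smul, map_smul, hJ]
    exact S.add_mem (S.smul_mem _ hJvS) (S.smul_mem _ (S.neg_mem hvS))
  have hbot : W ⊓ S = ⊥ := (Submodule.eq_bot_iff _).2 fun z ⟨hz, hzS⟩ => by
    obtain ⟨x, y, rfl⟩ := hmem z hzS
    have h := W.sub_mem (W.smul_mem x hz) (W.smul_mem y (apply_mem hWi hz))
    rw [map_add, map_smul, map_smul, hJ,
      show x • (x • v + y • J v) - y • (x • J v + y • -v) = (x * x + y * y) • v by module] at h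
    have h0 : x * x + y * y = 0 := by
      by_contra h0
      exact hvW (by simpa [smul_smul, inv_mul_cancel₀ h0] using W.smul_mem (x * x + y * y)⁻¹ h)
    by_cases hy : y = 0
    · rw [hy, mul_zero, add_zero, mul_self_eq_zero] at h0
      rw [h0, hy, zero_smul, zero_smul, add_zero]
    · exact absurd ⟨x / y, by field_simp; linear_combination -h0⟩ hns
  have hSQ : ∀ z ∈ S, Q z = 0 := fun z hz => by
    obtain ⟨x, y, rfl⟩ := hmem z hz
    rw [QuadraticMap.map_add Q, QuadraticMap.map_smul, QuadraticMap.map_smul, hiso, hvv,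
      QuadraticMap.polar_smul_left, QuadraticMap.polar_smul_right, polar_J h2 hJ hiso]
    simp
  refine ⟨W ⊔ S, inv_sup hWi hSi, IsoOrth.ts_sup hW hSQ hSW, ?_⟩
  have hSd : Module.finrank F S = 2 := by
    have hv0 : v ≠ 0 := fun h => hvW (h ▸ W.zero_mem)
    have hJv0 : J v ≠ 0 := fun h => hv0 (by have := hJ v; rwa [h, map_zero, eq_comm, neg_eq_zero] at this)
    have hb : Submodule.span F {v} ⊓ Submodule.span F {J v} = ⊥ := (Submodule.eq_bot_iff _).2 fun z ⟨hz, hz'⟩ => by
      obtain ⟨x, rfl⟩ := Submodule.mem_span_singleton.1 hz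
      obtain ⟨y, hy⟩ := Submodule.mem_span_singleton.1 hz'
      by_contra h0
      have hx : x ≠ 0 := fun h => h0 (by rw [h, zero_smul])
      have h1 := congrArg J hy
      rw [map_smul, map_smul, hJ] at h1
      have h3 : (x * x + y * y) • v = 0 := by
        calc (x * x + y * y) • v = x • (x • v) - y • (y • -v) := by module
          _ = x • (y • J v) - y • (x • J v) := by rw [hy, h1]
          _ = 0 := by module
      exact hns ⟨y / x, by field_simp; linear_combination -(smul_eq_zero.1 h3).resolve_right hv0⟩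
    have h := Submodule.finrank_sup_add_finrank_inf_eq (Submodule.span F {v}) (Submodule.span F {J v})
    rw [hb, ← hS, finrank_bot, finrank_span_singleton hv0, finrank_span_singleton hJv0] at h
    omega
  have h := Submodule.finrank_sup_add_finrank_inf_eq W S
  rw [hbot, finrank_bot, hSd] at h
  omega

include hQ hns in
theorem grow : ∀ k, 4 * k ≤ Module.finrank F V + 1 →
    ∃ W : Submodule F V, W.map J ≤ W ∧ (∀ w ∈ W, Q w = 0) ∧ Module.finrank F W = 2 * k := by
  intro k
  induction k with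
  | zero => exact fun _ => ⟨⊥, inv_bot J, fun w hw => by rw [(Submodule.mem_bot F).1 hw, map_zero], by simp⟩
  | succ k ih =>
    intro hk
    obtain ⟨W, hWi, hW, hWd⟩ := ih (by omega)
    obtain ⟨C, hC⟩ := W.exists_isCompl
    have h0 := finrank_perp (IsoOrth.geom hQ) W
    have h1 := Submodule.finrank_sup_add_finrank_inf_eq (perp Q.polarBilin W) C
    have h2' := Submodule.finrank_le (perp Q.polarBilin W ⊔ C)
    have h3 := Submodule.finrank_add_eq_of_isCompl hC
    obtain ⟨v, ⟨hv, hvC⟩, hv0, hvv⟩ := exists_singular_in (Q := Q) (W := perp Q.polarBilin W ⊓ C) (by omega)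
    obtain ⟨W', hW'i, hW', hW'd⟩ := step hQ h2 hJ hiso hns hWi hW hv
      (fun h => hv0 ((Submodule.mem_bot F).1 (hC.disjoint.eq_bot ▸ ⟨h, hvC⟩))) hvv
    exact ⟨W', hW'i, hW', by omega⟩

include hQ hns in
/-- The type of a space with a square root of `-1`. -/
theorem hasHalf_iff_even {d : ℕ} (hd : Module.finrank F V = 2 * d) : HasHalf Q ⊤ ↔ Even d := by
  constructor
  · rintro ⟨L, -, hL, hLd⟩
    by_contra hodd
    obtain ⟨k, rfl⟩ := Nat.not_even_iff_odd.1 hodd
    have hG := IsoOrth.geom hQ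
    obtain ⟨W, hWi, hW, hWd⟩ := grow hQ h2 hJ hiso hns k (by omega)
    rw [finrank_top, hd] at hLd
    have hle : L ⊔ perp Q.polarBilin W ≤ perp Q.polarBilin (L ⊓ W) := sup_le
      ((ti_iff_le_perp.1 (IsoOrth.ti_of_ts hL)).trans (perp_antitone inf_le_left)) (perp_antitone inf_le_right)
    have h1 := Submodule.finrank_mono hle
    have h3 := finrank_perp hG (L ⊓ W)
    have h4 := finrank_perp hG W
    have h5 := Submodule.finrank_sup_add_finrank_inf_eq L (perp Q.polarBilin W)
    have hnot : ¬ L ⊓ perp Q.polarBilin W ≤ W := fun h => by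
      have := Submodule.finrank_mono (le_inf inf_le_left h)
      omega
    obtain ⟨v, ⟨hvL, hvp⟩, hvW⟩ := SetLike.not_le_iff_exists.1 hnot
    obtain ⟨W', -, hW', hW'd⟩ := step hQ h2 hJ hiso hns hWi hW hvp hvW (hL v hvL)
    have h7 := two_mul_ti_le hG (U := ⊤) (fun u _ hu => hG.sep u fun y => hu y trivial) le_top
      (IsoOrth.ti_of_ts hW')
    rw [finrank_top] at h7
    omega
  · rintro ⟨k, rfl⟩
    obtain ⟨W, -, hW, hWd⟩ := grow hQ h2 hJ hiso hns k (by omega)
    exact ⟨W, le_top, hW, by rw [hWd, finrank_top, hd]; ring⟩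

end

end

section

variable {ι : Type} [Fintype ι] [DecidableEq ι] {Q : QuadraticForm F (ι → F)}
  (hQ : ∀ x, (∀ y, polar Q x y = 0) → x = 0) (h2 : (2 : F) ≠ 0)
include hQ h2

/-- The negated space of an involution of `Ω`. -/
theorem involution_neg (g : Cfsg.isometryGroup F (⇑Q)) (hg : g ∈ Cfsg.Omega F (⇑Q))
    (hgg : ∀ v, isoLin g (isoLin g v) = v) {N : Submodule F (ι → F)}
    (hN : ∀ v, v ∈ N ↔ isoLin g v = -v) (hNnd : ND Q.polarBilin N) :
    ∃ j : ℕ, Module.finrank F N = 2 * j ∧ (IsSquare (-1 : F) → HasHalf Q N) := by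
  classical
  let bN := Module.finBasis F N
  let c : Fin (Module.finrank F N) → (ι → F) := fun k => (bN k : _)
  have hspan : Submodule.span F (Set.range c) = N := by
    rw [show Set.range c = N.subtype '' Set.range bN from Set.range_comp N.subtype bN, Submodule.span_image,
      bN.span_eq, Submodule.map_subtype_top]
  have hM : LinearMap.toMatrix₂ bN bN (Q.comp N.subtype).polarBilin =
      Matrix.of fun i k => polar Q (c i) (c k) := by
    ext i k
    simp [LinearMap.toMatrix₂_apply, c, QuadraticMap.polar]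
  have hdet : (Matrix.of fun i j => polar Q (c i) (c j)).det ≠ 0 := fun h0 => by
    obtain ⟨a, ha, hMa⟩ := Matrix.exists_mulVec_eq_zero_iff.2 h0
    refine ha ?_
    have hw : (∑ j, a j • bN j) = 0 := Subtype.ext (hNnd _ (∑ j, a j • bN j : N).2 fun v hv => by
      obtain ⟨b, hb⟩ : ∃ b : Fin (Module.finrank F N) → F, (⟨v, hv⟩ : N) = ∑ i, b i • bN i :=
        ⟨fun i => bN.repr ⟨v, hv⟩ i, (bN.sum_repr _).symm⟩
      rw [show v = ((∑ i, b i • bN i : N) : ι → F) from congrArg Subtype.val hb]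
      simp only [Submodule.coe_sum, Submodule.coe_smul, map_sum, map_smul, LinearMap.sum_apply,
        LinearMap.smul_apply, smul_eq_mul, QuadraticMap.polarBilin_apply_apply]
      refine Finset.sum_eq_zero fun i _ => mul_eq_zero_of_right _ ?_
      have := congrFun hMa i
      simp only [Matrix.mulVec, dotProduct, Matrix.of_apply, Pi.zero_apply] at this
      rw [← this]
      exact Finset.sum_congr rfl fun j _ => by rw [QuadraticMap.polar_comm, mul_comm])
    exact funext fun j => Fintype.linearIndependent_iff.1 bN.linearIndependent a hw j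
  have hex := exGen_of_odd (ι := ι) h2
  have hsp := KnownB.BC.spinor_involution Q hQ hex h2 g c hgg
    (fun i => (hN _).1 (bN i).2) (fun v hv => hspan.symm ▸ (hN v).2 hv) hdet
  have hker : spinorHom Q hQ hex g = 1 := by
    rw [omega_eq_ker_spinorHom Q hQ hex] at hg
    exact hg
  rw [hsp, Prod.mk_eq_one, ofAdd_eq_one, ZMod.natCast_eq_zero_iff_even, sqClass_eq_one_iff, Fintype.card_fin] at hker
  obtain ⟨⟨j, hj⟩, hs⟩ := hker
  refine ⟨j, by omega, fun hsq => ?_⟩
  have hsq' : IsSquare ((-1 : F) ^ j * (LinearMap.toMatrix₂ bN bN (Q.comp N.subtype).polarBilin).det) := by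
    refine (hsq.pow j).mul ?_
    obtain ⟨s, hs⟩ := hs
    refine ⟨s / 2 ^ j, ?_⟩
    rw [hM, div_mul_div_comm, ← pow_add, ← hj, eq_div_iff (pow_ne_zero _ h2), ← hs, mul_comm]
  obtain ⟨W, hWd, hW⟩ := exists_totallySingular (Q.comp N.subtype) h2 (sep_comp hNnd) (by omega) bN hsq'
  refine ⟨W.map N.subtype, Submodule.map_subtype_le N W, ?_, ?_⟩
  · rintro _ ⟨w, hw, rfl⟩; exact hW w hw
  · rw [← (Submodule.equivMapOfInjective N.subtype N.injective_subtype W).finrank_eq, hWd]
    omega

/-- A square root of `-1` as a word of reflections on an invariant subspace. -/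
theorem exists_word {J : Module.End F (ι → F)} (hJ : ∀ v, J (J v) = -v) (hiso : ∀ v, Q (J v) = Q v) :
    ∀ k, ∀ U : Submodule F (ι → F), ND Q.polarBilin U → U.map J ≤ U → Module.finrank F U = 2 * k →
      ∃ (L : List {v : ι → F // Q v ≠ 0}) (s : F), s ≠ 0 ∧ L.length = 2 * k ∧
        (L.map fun v => Q v.1).prod = 2 ^ k * (s * s) ∧ (∀ u ∈ U, reflWord Q L u = J u) ∧
        ∀ v ∈ L, v.1 ∈ U := by
  have hG := IsoOrth.geom hQ
  intro k
  induction k with
  | zero =>
    intro U _ _ hd
    refine ⟨[], 1, one_ne_zero, rfl, by simp, fun u hu => ?_, fun v hv => (List.not_mem_nil hv).elim⟩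
    rw [Submodule.finrank_eq_zero.1 (by omega : Module.finrank F U = 0), Submodule.mem_bot] at hu
    rw [hu, map_zero, map_zero]
  | succ k ih =>
    intro U hU hUi hd
    obtain ⟨v, hvU, hv⟩ : ∃ v ∈ U, Q v ≠ 0 := by
      by_contra h
      push Not at h
      have := two_mul_ti_le hG hU le_rfl (IsoOrth.ti_of_ts h)
      omega
    obtain ⟨w, hw⟩ : ∃ w, w = J v := ⟨_, rfl⟩
    have hwU : w ∈ U := hw ▸ apply_mem hUi hvU
    have hvw : polar Q v w = 0 := hw ▸ polar_J h2 hJ hiso v
    have hwv : polar Q w v = 0 := by rw [QuadraticMap.polar_comm]; exact hvw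
    have hQw : Q w = Q v := hw ▸ hiso v
    have hvwQ : Q (v + w) = 2 * Q v := by rw [QuadraticMap.map_add Q, hvw, hQw]; ring
    have hvw0 : Q (v + w) ≠ 0 := hvwQ ▸ mul_ne_zero h2 hv
    obtain ⟨S, hS⟩ : ∃ S, S = Submodule.span F ({v, w} : Set (ι → F)) := ⟨_, rfl⟩
    have hmem : ∀ z ∈ S, ∃ x y : F, z = x • v + y • w := fun z hz => by
      rw [hS] at hz
      obtain ⟨x, y, h⟩ := Submodule.mem_span_pair.1 hz
      exact ⟨x, y, h.symm⟩
    have hSU : S ≤ U := hS ▸ Submodule.span_le.2 (Set.insert_subset hvU (Set.singleton_subset_iff.2 hwU))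
    have hvS : v ∈ S := hS ▸ Submodule.subset_span (Set.mem_insert v _)
    have hwS : w ∈ S := hS ▸ Submodule.subset_span (Set.mem_insert_of_mem v rfl)
    have hJw : J w = -v := hw ▸ hJ v
    have hSi : S.map J ≤ S := by
      rintro _ ⟨z, hz, rfl⟩
      obtain ⟨x, y, rfl⟩ := hmem z hz
      rw [map_add, map_smul, map_smul, ← hw, hJw]
      exact S.add_mem (S.smul_mem _ hwS) (S.smul_mem _ (S.neg_mem hvS))
    have hvv : polar Q v v = 2 * Q v := polar_self_two Q v
    have hww : polar Q w w = 2 * Q v := by rw [polar_self_two, hQw]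
    have hSnd : ND Q.polarBilin S := fun z hz h => by
      obtain ⟨x, y, rfl⟩ := hmem z hz
      have h1 : polar Q (x • v + y • w) v = 0 := h v hvS
      have h3 : polar Q (x • v + y • w) w = 0 := h w hwS
      rw [QuadraticMap.polar_add_left, QuadraticMap.polar_smul_left, QuadraticMap.polar_smul_left, hvv,
        hwv, smul_zero, add_zero, smul_eq_mul, mul_eq_zero, or_iff_left (mul_ne_zero h2 hv)] at h1
      rw [QuadraticMap.polar_add_left, QuadraticMap.polar_smul_left, QuadraticMap.polar_smul_left, hww,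
        hvw, smul_zero, zero_add, smul_eq_mul, mul_eq_zero, or_iff_left (mul_ne_zero h2 hv)] at h3
      rw [h1, h3, zero_smul, zero_smul, add_zero]
    have hS2 : Module.finrank F S = 2 := by
      have hli : LinearIndependent F ![v, w] := LinearIndependent.pair_iff.2 fun x y hxy => by
        have h1 := congrArg (fun z => polar Q z v) hxy
        have h3 := congrArg (fun z => polar Q z w) hxy
        simp only [QuadraticMap.polar_add_left, QuadraticMap.polar_smul_left, hvv, hwv, hww, hvw,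
          QuadraticMap.polar_zero_left, smul_eq_mul, mul_zero, add_zero, zero_add, mul_eq_zero, h2, hv, or_false,
          false_or] at h1 h3
        exact ⟨h1, h3⟩
      have h := finrank_span_eq_card hli
      rw [Matrix.range_cons, Matrix.range_cons, Matrix.range_empty, Set.union_empty, Set.singleton_union,
        ← hS, Fintype.card_fin] at h
      exact h
    have hpi : (perp Q.polarBilin S).map J ≤ perp Q.polarBilin S := by
      rintro _ ⟨z, hz, rfl⟩ u hu
      have h : polar Q (J u) z = 0 := hz _ (apply_mem hSi hu)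
      have h' := polar_map hiso (J u) z
      rw [h, hJ, QuadraticMap.polar_neg_left, neg_eq_zero] at h'
      exact h'
    have hd' := finrank_inf_perp hG hU hSU
    obtain ⟨L, s, hs, hLl, hLp, hLJ, hLU⟩ := ih (U ⊓ perp Q.polarBilin S) (nd_inf_perp hG hU hSnd hSU)
      (inv_inf hUi hpi) (by omega)
    refine ⟨⟨v + w, hvw0⟩ :: ⟨v, hv⟩ :: L, s * Q v, mul_ne_zero hs hv, by simp [hLl]; ring, ?_, ?_, ?_⟩
    · rw [List.map_cons, List.map_cons, List.prod_cons, List.prod_cons, hLp, hvwQ]
      ring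
    · have hfixS : ∀ z ∈ S, reflWord Q L z = z := fun z hz => KnownB.BC.reflWord_fix Q L fun x hx =>
        (QuadraticMap.polar_comm _ _ _).trans ((hLU x hx).2 z hz)
      have hLv : reflWord Q (⟨v + w, hvw0⟩ :: ⟨v, hv⟩ :: L) v = w := by
        rw [KnownB.BC.reflWord_cons_apply, KnownB.BC.reflWord_cons_apply, hfixS v hvS, reflEquiv_self,
          reflEquiv_apply, QuadraticMap.polar_neg_right, QuadraticMap.polar_add_left, hvv, hwv, hvwQ, add_zero,
          mul_neg, inv_mul_cancel₀ (mul_ne_zero h2 hv)]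
        module
      have hLw : reflWord Q (⟨v + w, hvw0⟩ :: ⟨v, hv⟩ :: L) w = -v := by
        rw [KnownB.BC.reflWord_cons_apply, KnownB.BC.reflWord_cons_apply, hfixS w hwS, reflEquiv_fix _ _ _ hvw,
          reflEquiv_apply, QuadraticMap.polar_add_left, hww, hvw, hvwQ, zero_add,
          inv_mul_cancel₀ (mul_ne_zero h2 hv)]
        module
      intro u hu
      have hcompl : S ⊔ (U ⊓ perp Q.polarBilin S) = U := by
        rw [inf_comm, ← sup_inf_assoc_of_le _ hSU, (isCompl_perp hG hSnd).sup_eq_top, top_inf_eq]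
      rw [← hcompl] at hu
      obtain ⟨a, ha, b, hb, rfl⟩ := Submodule.mem_sup.1 hu
      obtain ⟨x, y, rfl⟩ := hmem a ha
      have hbJ : J b ∈ perp Q.polarBilin S := apply_mem hpi hb.2
      have hb' : reflWord Q (⟨v + w, hvw0⟩ :: ⟨v, hv⟩ :: L) b = J b := by
        rw [KnownB.BC.reflWord_cons_apply, KnownB.BC.reflWord_cons_apply, hLJ b hb,
          reflEquiv_fix _ _ _ (hbJ v hvS), reflEquiv_fix _ _ _ (hbJ (v + w) (S.add_mem hvS hwS))]
      rw [map_add, map_add, map_smul, map_smul, hLv, hLw, hb', map_add, map_add, map_smul, map_smul, ← hw, hJw]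
    · intro x hx
      rcases List.mem_cons.1 hx with rfl | hx
      · exact U.add_mem hvU hwU
      rcases List.mem_cons.1 hx with rfl | hx
      · exact hvU
      · exact (hLU x hx).1

/-- When `q ≡ 3 mod 8` a square root of `-1` of a space of dimension `2d`, `d` odd, is outside `Ω`. -/
theorem not_mem_omega (hns : ¬ IsSquare (-1 : F)) (hn2 : ¬ IsSquare (2 : F)) {d : ℕ} (hd : Odd d)
    (hV : Fintype.card ι = 2 * d) (g : Cfsg.isometryGroup F (⇑Q)) (hg : ∀ v, isoLin g (isoLin g v) = -v) :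
    g ∉ Cfsg.Omega F (⇑Q) := by
  intro hmem
  have hiso : ∀ v, Q (isoLin g v) = Q v := fun v => by
    rw [isoLin, Matrix.toLin'_apply]; exact (mem_isometryGroup_iff _ _).1 g.2 v
  obtain ⟨L, s, hs, hl, hp, hJ, -⟩ := exists_word hQ h2 (J := isoLin g) hg hiso d ⊤
    (fun u _ hu => (IsoOrth.geom hQ).sep u fun y => hu y trivial) (by rw [Submodule.map_top]; exact le_top)
    (by rw [finrank_top, Module.finrank_fintype_fun_eq_card, hV])
  have hex := exGen_of_odd (ι := ι) h2
  rw [omega_eq_ker_spinorHom Q hQ hex, MonoidHom.mem_ker, spinorHom_prod_list Q hQ hex L g fun z => by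
    rw [hJ z trivial, isoLin, Matrix.toLin'_apply]] at hmem
  have hp0 : (L.map fun v => Q v.1).prod ≠ 0 := by
    rw [hp]; exact mul_ne_zero (pow_ne_zero _ h2) (mul_ne_zero hs hs)
  rw [wordVal_eq Q L hp0, Prod.mk_eq_one, sqClass_eq_one_iff, hp] at hmem
  obtain ⟨k, rfl⟩ := hd
  obtain ⟨t, ht⟩ := hmem.2
  refine hn2 ⟨t / (2 ^ k * s), ?_⟩
  field_simp
  rw [pow_succ] at ht
  linear_combination ht

omit [Fintype F] in
/-- Squares lie in `Ω`. -/
theorem sq_mem_omega [Finite F] (g : Cfsg.isometryGroup F (⇑Q)) : g * g ∈ Cfsg.Omega F (⇑Q) := by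
  have hex := exGen_of_odd (ι := ι) h2
  rw [omega_eq_ker_spinorHom Q hQ hex, MonoidHom.mem_ker, map_mul]
  refine Prod.ext ?_ (sqClass_mul_self _)
  have h : ∀ z : Multiplicative (ZMod 2), z * z = 1 := by decide
  exact h _

end

/-- A rotation with square `-1` preserving the dot product of `F^l`, `l` even. -/
theorem exists_rot {l : ℕ} (hl : Even l) :
    ∃ A : Module.End F (Fin l → F), (∀ e, A (A e) = -e) ∧ ∀ e f, ∑ i, A e i * A f i = ∑ i, e i * f i := by
  classical
  have hlt : ∀ i : Fin l, (if (i : ℕ) % 2 = 0 then (i : ℕ) + 1 else (i : ℕ) - 1) < l := fun i => by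
    have := i.2; have := Nat.even_iff.1 hl
    split_ifs <;> omega
  let σ : Fin l → Fin l := fun i => ⟨_, hlt i⟩
  have hσ : Function.Involutive σ := fun i => Fin.ext (by
    simp only [σ]; split_ifs <;> omega)
  let sg : Fin l → F := fun i => if (i : ℕ) % 2 = 0 then -1 else 1
  have hsg : ∀ i, sg i * sg (σ i) = -1 := fun i => by
    simp only [sg, σ]
    split_ifs <;> first | omega | ring
  have hsq : ∀ i, sg i * sg i = 1 := fun i => by
    simp only [sg]; split_ifs <;> ring
  refine ⟨{ toFun := fun e i => sg i * e (σ i)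
            map_add' := fun e f => funext fun i => mul_add _ _ _
            map_smul' := fun c e => funext fun i => mul_left_comm _ _ _ }, fun e => funext fun i => ?_, fun e f => ?_⟩
  · show sg i * (sg (σ i) * e (σ (σ i))) = -e i
    rw [← mul_assoc, hsg, hσ i, neg_one_mul]
  · calc ∑ i, sg i * e (σ i) * (sg i * f (σ i)) = ∑ i, e (σ i) * f (σ i) :=
          Finset.sum_congr rfl fun i _ => by rw [mul_mul_mul_comm, hsq, one_mul]
      _ = _ := Equiv.sum_comp (hσ.toPerm σ) fun i => e i * f i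

end CfsgLib.MaxSub.IsoTwo
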