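import Cfsg.Agent.Lib.MaxSub.IsoND
import Cfsg.Agent.Lib.MaxSub.IsoNDCount
import Cfsg.Agent.Lib.MaxSub.IsoTwo

/-!
Involutions and non-degenerate invariant subspaces.
-/

set_option autoImplicit false

namespace CfsgLib.MaxSub.IsoNDTwo

open CfsgLib CfsgLib.Classical CfsgLib.Geom CfsgLib.MaxSub.IsoSemi CfsgLib.MaxSub.IsoType CfsgLib.KnownC
  CfsgLib.KnownC.OrthType CfsgLib.MaxSub.IsoNDCount
open QuadraticMap (polar)

universe u v w

variable {F : Type u} [Field F] [Fintype F]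

section

variable {V : Type v} [AddCommGroup V] [Module F V] [FiniteDimensional F V] {Q : QuadraticForm F V}
  (hQ : ∀ x, (∀ y, polar Q x y = 0) → x = 0) (h2 : (2 : F) ≠ 0) {T : Module.End F V}

omit [Fintype F] [FiniteDimensional F V] in
theorem inv_fix_neg {P N : Submodule F V} (hP : ∀ x, x ∈ P → T x = x) (hN : ∀ x, x ∈ N → T x = -x) :
    (P ⊔ N).map T ≤ P ⊔ N := by
  rintro _ ⟨v, hv, rfl⟩
  obtain ⟨a, ha, b, hb, rfl⟩ := Submodule.mem_sup.1 hv
  rw [map_add, hP a ha, hN b hb]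
  exact Submodule.add_mem_sup ha (N.neg_mem hb)

include hQ h2 in
/-- An involution fixes a copy of any smaller form, unless the fixed space has its dimension. -/
theorem involution_fixes {P N : Submodule F V} (hP : ∀ x, x ∈ P → T x = x) (hN : ∀ x, x ∈ N → T x = -x)
    (hPnd : ND Q.polarBilin P) (hNnd : ND Q.polarBilin N) (hperp : N ≤ perp Q.polarBilin P)
    {X : Type w} [AddCommGroup X] [Module F X] [FiniteDimensional F X] {Q₀ : QuadraticForm F X}
    (h₀ : ∀ x, (∀ y, polar Q₀ x y = 0) → x = 0)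
    (hlt : Module.finrank F X < Module.finrank F P + Module.finrank F N)
    (hne : Module.finrank F P ≠ Module.finrank F X) :
    ∃ W : Submodule F V, W.map T ≤ W ∧ ND Q.polarBilin W ∧ Module.finrank F W = Module.finrank F X ∧
      ∃ e : X ≃ₗ[F] W, ∀ x, Q (e x : V) = Q₀ x := by
  rcases lt_or_gt_of_ne hne with h | h
  · obtain ⟨W₁, hW₁, hW₁nd, hd, e, he⟩ := IsoND.fill hQ h2 h₀ hNnd hPnd hperp h (by omega)
    exact ⟨P ⊔ W₁, inv_fix_neg hP fun x hx => hN x (hW₁ hx),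
      nd_sup (IsoOrth.geom hQ) hPnd hW₁nd (hW₁.trans hperp), e.finrank_eq.symm, e, he⟩
  · obtain ⟨φ, hφP, hφ⟩ := IsoND.embed_small h2 h₀ hPnd h
    obtain ⟨hnd, hd, e, he⟩ := IsoND.nd_range h₀ φ hφ
    refine ⟨_, ?_, hnd, hd, e, he⟩
    rintro _ ⟨_, ⟨x, rfl⟩, rfl⟩
    exact ⟨x, (hP _ (hφP x)).symm⟩

include hQ h2 in
/-- The same with prescribed dimension and type. -/
theorem involution_member {P N : Submodule F V} (hP : ∀ x, x ∈ P → T x = x) (hN : ∀ x, x ∈ N → T x = -x)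
    (hPnd : ND Q.polarBilin P) (hNnd : ND Q.polarBilin N) (hperp : N ≤ perp Q.polarBilin P) {m : ℕ} (hm : 0 < m)
    (hme : Even m) (η : Prop) (hlt : m < Module.finrank F P + Module.finrank F N)
    (hne : Module.finrank F P ≠ m) : ∃ W : Submodule F V, Member Q m η W ∧ W.map T ≤ W := by
  obtain ⟨k, rfl⟩ := hme.two_dvd
  obtain ⟨Q₀, h₀, hη⟩ := IsoND.exists_model_type (F := F) (k := k) (by omega) η
  have hd := OrthPrime.finrank_two (F := F) k
  obtain ⟨W, hWi, hW, hWd, e, he⟩ := involution_fixes hQ h2 hP hN hPnd hNnd hperp h₀ (by omega) (by omega)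
  exact ⟨W, ⟨hWd.trans hd, hW, (IsoND.hasHalf_congr e he).trans hη⟩, hWi⟩

end

variable {ι : Type} [Fintype ι] {Q : QuadraticForm F (ι → F)}

omit [Fintype F] [Fintype ι] in
/-- Non-degeneracy as used in the statements. -/
theorem nd_iff_geo {W : Submodule F (ι → F)} :
    Cfsg.Geo.IsNondegenerateOn (polar ⇑Q) W ↔ ND Q.polarBilin W := by
  refine ⟨fun h u hu hz => ?_, fun h w hw hw0 => ?_⟩
  · by_contra hu0
    obtain ⟨-, x, hx, hx0⟩ := h u hu hu0
    exact hx0 (hz x hx)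
  · obtain ⟨x, hx, hx0⟩ : ∃ x ∈ W, Q.polarBilin w x ≠ 0 := by
      by_contra hn
      push Not at hn
      exact hw0 (h w hw hn)
    exact ⟨⟨x, hx, fun e => hx0 ((QuadraticMap.polar_comm Q w x).trans e)⟩, x, hx, hx0⟩

omit [Fintype F] [Fintype ι] in
/-- Plus type as used in the statements. -/
theorem plus_iff_geo {W : Submodule F (ι → F)} : Cfsg.Geo.IsPlusTypeOn (⇑Q) W ↔ HasHalf Q W := Iff.rfl

omit [Fintype F] [Fintype ι] in
theorem member_plus {m : ℕ} {W : Submodule F (ι → F)} :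
    (Module.finrank F W = m ∧ Cfsg.Geo.IsNondegenerateOn (polar ⇑Q) W ∧ Cfsg.Geo.IsPlusTypeOn (⇑Q) W) ↔
      Member Q m True W := by
  rw [Member, iff_true, nd_iff_geo, plus_iff_geo]

omit [Fintype F] [Fintype ι] in
theorem member_minus {m : ℕ} {W : Submodule F (ι → F)} :
    (Module.finrank F W = m ∧ Cfsg.Geo.IsNondegenerateOn (polar ⇑Q) W ∧ ¬ Cfsg.Geo.IsPlusTypeOn (⇑Q) W) ↔
      Member Q m False W := by
  rw [Member, iff_false, nd_iff_geo, plus_iff_geo]

end CfsgLib.MaxSub.IsoNDTwo
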