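import Cfsg.Agent.Lib.MaxSub.IsoNDCount
import Cfsg.Agent.Lib.MaxSub.IsoNDTwo
import Cfsg.Agent.Lib.Classical.InvTwoForms
import Cfsg.Agent.Lib.Classical.InvTwoOmega

/-!
Involutions in characteristic two and their invariant non-degenerate subspaces, reduced to models.
-/

set_option autoImplicit false

namespace CfsgLib.MaxSub.IsoNDInvTwo

open Matrix CfsgLib CfsgLib.Classical CfsgLib.Classical.InvTwo CfsgLib.Geom CfsgLib.MaxSub.IsoSemi
  CfsgLib.MaxSub.IsoType CfsgLib.MaxSub.IsoNDCount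
open QuadraticMap (polar)

universe u v

variable {F : Type u} [Field F] [Fintype F]

/-- The alternating matrix pairing `2 t` with `2 t + 1`. -/
def pairing (F : Type u) [Field F] (s : ℕ) : Matrix (Fin s) (Fin s) F :=
  Matrix.of fun i j => if i ≠ j ∧ (i : ℕ) / 2 = (j : ℕ) / 2 then 1 else 0

omit [Fintype F] in
theorem pairing_symm (s : ℕ) : (pairing F s)ᵀ = pairing F s := by
  ext i j
  simp only [pairing, Matrix.transpose_apply, Matrix.of_apply]
  exact if_congr (and_congr ne_comm eq_comm) rfl rfl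

omit [Fintype F] in
theorem pairing_diag (s : ℕ) (i : Fin s) : pairing F s i i = 0 := by simp [pairing]

omit [Fintype F] in
theorem pairing_unit {s : ℕ} (hs : Even s) : IsUnit (pairing F s) := by
  refine IsUnit.of_mul_eq_one (pairing F s) ?_
  ext i j
  have hs' := Nat.even_iff.1 hs
  have hi := i.2
  obtain ⟨i', hi'⟩ : ∃ i' : Fin s, (i' : ℕ) = if (i : ℕ) % 2 = 0 then (i : ℕ) + 1 else (i : ℕ) - 1 :=
    ⟨⟨if (i : ℕ) % 2 = 0 then (i : ℕ) + 1 else (i : ℕ) - 1, by split_ifs <;> omega⟩, rfl⟩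
  rw [Matrix.mul_apply, Finset.sum_eq_single i']
  · simp only [pairing, Matrix.of_apply, Matrix.one_apply, ne_eq, Fin.ext_iff]
    rw [if_pos (by split_ifs at hi' <;> omega), one_mul]
    refine if_congr ?_ rfl rfl
    split_ifs at hi' <;> omega
  · intro b _ hb
    simp only [pairing, Matrix.of_apply, ne_eq, Fin.ext_iff] at hb ⊢
    rw [if_neg, zero_mul]
    rintro ⟨h1, h2⟩
    split_ifs at hi' <;> omega
  · simp

section

variable {V : Type v} [AddCommGroup V] [Module F V] [FiniteDimensional F V] {Q : QuadraticForm F V}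

omit [Fintype F] [FiniteDimensional F V] in
/-- Invariance of a subspace adapted to the tuple. -/
theorem tmap_inv {s : ℕ} {e : Fin s → V} {S : Matrix (Fin s) (Fin s) F} {T : Module.End F V}
    (hT : ∀ v, T v = v + tmap Q.polarBilin e S v) {W : Submodule F V} (I : Fin s → Prop)
    (hI : ∀ i, I i → e i ∈ W) (hperp : ∀ i, ¬ I i → ∀ v ∈ W, polar Q (e i) v = 0)
    (hS : ∀ i j, ¬ I i → I j → S i j = 0) : W.map T ≤ W := by
  classical
  rintro _ ⟨v, hv, rfl⟩
  rw [hT, tmap_apply]
  refine W.add_mem hv (Submodule.sum_mem _ fun i _ => ?_)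
  by_cases hi : I i
  · exact W.smul_mem _ (hI i hi)
  · have h0 : (S *ᵥ co Q.polarBilin e v) i = 0 := by
      rw [Matrix.mulVec, dotProduct]
      refine Finset.sum_eq_zero fun j _ => ?_
      by_cases hj : I j
      · exact mul_eq_zero_of_left (hS i j hi hj) _
      · exact mul_eq_zero_of_right _ (hperp j hj v hv)
    rw [h0, zero_smul]
    exact W.zero_mem

variable (h2 : (2 : F) = 0) (hQ : ∀ x, (∀ y, polar Q x y = 0) → x = 0)
include h2 hQ

/-- Members fixed by the model give members fixed by every involution of the same class. -/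
theorem member_of_model {g : V ≃ₗ[F] V} (hg : g ∈ quadIsoms Q) (hgg : ∀ v, g (g v) = v) {s : ℕ}
    {e : Fin s → V} {S : Matrix (Fin s) (Fin s) F} (D : QData Q g e S) {e' : Fin s → V}
    {S' : Matrix (Fin s) (Fin s) F} (he' : IsoTuple Q.polarBilin e') (hS' : S'ᵀ = S') (hu' : IsUnit S')
    (hkind : (∀ i, S i i = 0) ↔ ∀ i, S' i i = 0) (hv : ∀ j, ∑ i, S' i j * S' i j * Q (e' i) = S' j j)
    {m : ℕ} {η : Prop} {W' : Submodule F V} (hW' : Member Q m η W')
    (hWi : ∀ T : Module.End F V, (∀ v, T v = v + tmap Q.polarBilin e' S' v) → W'.map T ≤ W') :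
    ∃ W : Submodule F V, Member Q m η W ∧ W.map g.toLinearMap ≤ W := by
  obtain ⟨g', hg', hgg', hge'⟩ := exists_qinvol Q h2 hQ he' hS' hv
  obtain ⟨r1, a1⟩ := qdata_rank Q h2 hQ D
  obtain ⟨r2, a2⟩ := rank_and_alt h2 (polarBilin_self Q h2) (fun x hx => hQ x hx) he' hS' hu' hge'
  obtain ⟨h, hh, hhg⟩ := exists_qconj_iff Q h2 hQ hg hgg hg' hgg' (r1.trans r2.symm) (a1.trans (hkind.trans a2.symm))
  refine ⟨W'.map (h⁻¹ : V ≃ₗ[F] V).toLinearMap, member_smul (inv_mem hh) hW', ?_⟩
  rintro _ ⟨_, ⟨w, hw, rfl⟩, rfl⟩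
  refine ⟨g' w, hWi g'.toLinearMap hge' ⟨w, hw, rfl⟩, ?_⟩
  show h.symm (g' w) = g (h.symm w)
  exact h.injective (by rw [h.apply_symm_apply, hhg, h.apply_symm_apply])

omit h2 hQ in
/-- A totally singular image of `T - 1` meets an invariant non-degenerate subspace in even rank. -/
theorem rank_even {T : Module.End F V} (hiso : ∀ v, Q (T v) = Q v)
    (hR : ∀ v, Q ((T - 1) v) = 0) {W : Submodule F V} (hW : ND Q.polarBilin W) (hWi : W.map T ≤ W) :
    Even (Module.finrank F ↥(W.map (T - 1))) := by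
  obtain ⟨N, hN⟩ : ∃ N, N = T - 1 := ⟨_, rfl⟩
  rw [← hN] at hR ⊢
  have hNW : ∀ v ∈ W, N v ∈ W := fun v hv => by
    rw [hN]; exact W.sub_mem (hWi ⟨v, hv, rfl⟩) hv
  have hTv : ∀ v, T v = v + N v := fun v => by rw [hN]; simp
  have hadj : ∀ u v, polar Q (N u) v + polar Q u (N v) = 0 := fun u v => by
    have h1 : Q (T (u + v)) = Q (u + v) := hiso _
    have h2' : polar Q (N u) (N v) = 0 := by simp [QuadraticMap.polar, ← map_add, hR]
    have h3 : polar Q (T u) (T v) = polar Q u v := IsoTwo.polar_map hiso u v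
    rw [hTv, hTv, QuadraticMap.polar_add_left, QuadraticMap.polar_add_right, QuadraticMap.polar_add_right, h2'] at h3
    linear_combination h3
  obtain ⟨C, hC⟩ := (LinearMap.ker (N.domRestrict W)).exists_isCompl
  have hCd : Module.finrank F C = Module.finrank F ↥(W.map N) := by
    have h := (N.domRestrict W).finrank_range_add_finrank_ker
    rw [LinearMap.range_domRestrict] at h
    have := Submodule.finrank_add_eq_of_isCompl hC
    omega
  rw [← hCd]
  refine OmegaElem.even_finrank_of_alt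
    (Q.polarBilin.compl₁₂ (W.subtype ∘ₗ C.subtype) (N ∘ₗ W.subtype ∘ₗ C.subtype)) (fun u => ?_) fun x hx => ?_
  · rw [LinearMap.compl₁₂_apply]
    show polar Q ((u : W) : V) (N ((u : W) : V)) = 0
    have h := hiso ((u : W) : V)
    rw [hTv, QuadraticMap.map_add Q, hR] at h
    linear_combination h
  · have hperp : ∀ v ∈ W, polar Q (N ((x : W) : V)) v = 0 := fun v hv => by
      obtain ⟨a, c, hac, -⟩ := Submodule.existsUnique_add_of_isCompl hC ⟨v, hv⟩
      have hac' : ((a : W) : V) + ((c : W) : V) = v := congrArg Subtype.val hac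
      have hNa : N ((a : W) : V) = 0 := a.2
      have hxc : polar Q ((x : W) : V) (N ((c : W) : V)) = 0 := hx c
      have h := hadj ((x : W) : V) v
      rw [← hac', map_add, hNa, zero_add, hxc, add_zero, hac'] at h
      exact h
    have h0 : N ((x : W) : V) = 0 := hW _ (hNW _ (x : W).2) hperp
    refine Subtype.ext (Subtype.ext ?_)
    have := hC.disjoint.le_bot (x := (x : W)) ⟨LinearMap.mem_ker.2 h0, x.2⟩
    rw [Submodule.mem_bot] at this
    rw [this]; rfl

omit h2 hQ in
/-- When the kernel and the image of `T - 1` lie in a totally singular subspace, invariant plus parts have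
dimension divisible by four. -/
theorem half_even {T : Module.End F V} (hiso : ∀ v, Q (T v) = Q v) {S : Submodule F V} (hS : ∀ w ∈ S, Q w = 0)
    (hK : LinearMap.ker (T - 1) ≤ S) (hR : LinearMap.range (T - 1) ≤ S) {W : Submodule F V}
    (hW : ND Q.polarBilin W) (hWi : W.map T ≤ W) {k : ℕ} (hd : Module.finrank F W = 2 * k)
    (hG : Geom Q.polarBilin) : Even k := by
  have hts := two_mul_ti_le hG hW (inf_le_left : W ⊓ S ≤ W) (IsoOrth.ti_of_ts fun w hw => hS w hw.2)
  have hrn : Module.finrank F ↥(W.map (T - 1)) + Module.finrank F ↥(W ⊓ LinearMap.ker (T - 1)) = 2 * k := by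
    have h := ((T - 1).domRestrict W).finrank_range_add_finrank_ker
    rw [hd, LinearMap.range_domRestrict] at h
    rw [← h]
    congr 1
    rw [LinearMap.ker_domRestrict,
      ← (Submodule.equivMapOfInjective W.subtype W.injective_subtype _).symm.finrank_eq,
      Submodule.map_comap_subtype]
  have h1 : Module.finrank F ↥(W.map (T - 1)) ≤ Module.finrank F ↥(W ⊓ S) := Submodule.finrank_mono (by
    rintro _ ⟨w, hw, rfl⟩
    exact ⟨W.sub_mem (hWi ⟨w, hw, rfl⟩) hw, hR ⟨w, rfl⟩⟩)
  have h3 := Submodule.finrank_mono (inf_le_inf le_rfl hK : W ⊓ LinearMap.ker (T - 1) ≤ W ⊓ S)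
  have he := rank_even hiso (fun v => hS _ (hR ⟨v, rfl⟩)) hW hWi
  rwa [show Module.finrank F ↥(W.map (T - 1)) = k by omega] at he

end

end CfsgLib.MaxSub.IsoNDInvTwo
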