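import Cfsg.Agent.Lib.MaxSub.IsoNDJordan

/-!
Necessary conditions for all elements of order `p` to fix a non-degenerate subspace of even dimension.
-/

set_option autoImplicit false

namespace CfsgLib.MaxSub.IsoNDJordanFix

open CfsgLib CfsgLib.Classical CfsgLib.Geom CfsgLib.MaxSub.IsoSemi CfsgLib.MaxSub.IsoType
  CfsgLib.MaxSub.IsoNDJordan
open QuadraticMap (polar)

universe u

theorem sub_two {s ν : Multiset ℕ} {k : ℕ} (hs : 2 ∉ s) (hν : ν ≤ s + Multiset.replicate k 2)
    (h : Even (ν.count 2)) : ∃ σ, σ ≤ s ∧ σ.sum % 4 = ν.sum % 4 := by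
  obtain ⟨σ, hσ⟩ : ∃ σ, σ = ν.filter (fun e => ¬ 2 = e) := ⟨_, rfl⟩
  refine ⟨σ, ?_, ?_⟩
  · refine Multiset.le_iff_count.2 fun e => ?_
    by_cases he : 2 = e
    · simp [hσ, ← he]
    · rw [hσ, Multiset.count_filter_of_pos (by exact he)]
      have := Multiset.le_iff_count.1 hν e
      rwa [Multiset.count_add, Multiset.count_replicate, if_neg he, add_zero] at this
  · have h1 : ν.sum = σ.sum + ν.count 2 * 2 := by
      conv_lhs => rw [← Multiset.filter_add_not (fun e => 2 = e) ν]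
      rw [Multiset.sum_add, Multiset.filter_eq, Multiset.sum_replicate, smul_eq_mul, hσ, add_comm]
    have := Nat.even_iff.1 h
    omega

variable {F : Type u} [Field F] [Fintype F] {ι : Type} [Fintype ι] [DecidableEq ι] {Q : QuadraticForm F (ι → F)}
  (hQ : ∀ x, (∀ y, polar Q x y = 0) → x = 0) (h2 : (2 : F) ≠ 0) {p : ℕ} [Fact p.Prime] [CharP F p] (hp : Odd p)
  {m : ℕ} {R : Submodule F (ι → F) → Prop}

/-- Every element of order `p` of `Ω` fixes a member of the family. -/
def AllFix (Q : QuadraticForm F (ι → F)) (p m : ℕ) (R : Submodule F (ι → F) → Prop) : Prop :=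
  ∀ x : GL ι F, x ∈ Cfsg.Geo.omegaGL (⇑Q) → x ^ p = 1 → x ≠ 1 →
    (∀ z : F, (x : Matrix ι ι F) ≠ z • (1 : Matrix ι ι F)) →
    ∃ W : Submodule F (ι → F), (Module.finrank F W = m ∧ ND Q.polarBilin W ∧ R W) ∧
      W.map (Matrix.toLin' (x : Matrix ι ι F)) ≤ W

variable (hfix : AllFix Q p m R) {μ : Multiset ℕ} (hle : ∀ e ∈ μ, 0 < e ∧ e ≤ p)
  (heven : ∀ e : ℕ, Even e → Even (μ.count e)) (hsum : μ.sum = Fintype.card ι)

include hQ h2 hp hfix hle heven hsum

/-- The member fixed by an element of the given type, with its ranks. -/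
theorem exists_split (hodd : ∃ e ∈ μ, Odd e) (hne : ∃ e ∈ μ, 1 < e) :
    ∃ (W : Submodule F (ι → F)) (T : Module.End F (ι → F)) (a b : ℕ → ℕ), R W ∧ (∀ v, Q (T v) = Q v) ∧
      W.map T ≤ W ∧ Module.finrank F W = m ∧
      (∀ j, a j = Module.finrank F ↥(W.map ((T - 1) ^ j))) ∧
      (∀ j, Module.finrank F ↥(LinearMap.range ((T - 1) ^ j)) = tail μ j) ∧
      a 0 = m ∧ (∀ j, a j + b j = tail μ j) ∧ (∀ j, 2 * a (j + 1) ≤ a j + a (j + 2)) ∧
      (∀ j, 2 * b (j + 1) ≤ b j + b (j + 2)) ∧ ∀ j, Odd j → Even (a j) := by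
  obtain ⟨T, hT, hTr⟩ := exists_of_type h2 hQ (fun e he => (hle e he).1) heven hsum hodd
  have hTp : (T - 1) ^ p = 0 := by
    have h : LinearMap.range ((T - 1) ^ p) = ⊥ := Submodule.finrank_eq_zero.1 (by
      rw [hTr, tail_eq_zero (fun e he => (hle e he).2) le_rfl])
    exact LinearMap.range_eq_bot.1 h
  obtain ⟨e, he, he1⟩ := hne
  haveI : Nontrivial (ι → F) := Module.nontrivial_of_finrank_pos (R := F) (by
    rw [Module.finrank_fintype_fun_eq_card, ← hsum]
    have := Multiset.le_sum_of_mem he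
    omega)
  obtain ⟨x, hx, hxp, hxT⟩ := IsoNDUnip.mem_omega_of_pow hQ h2 hp hT (IsoNDUnip.pow_char hTp)
  have hT1 : T ≠ 1 := fun h => by
    have h0 := hTr 1
    rw [h, sub_self, zero_pow one_ne_zero, LinearMap.range_zero, finrank_bot] at h0
    have := Multiset.le_sum_of_mem (Multiset.mem_map.2 ⟨e, he, rfl⟩ : e - 1 ∈ μ.map (fun e => e - 1))
    rw [tail] at h0
    omega
  have hx1 : x ≠ 1 := fun h => hT1 (by rw [← hxT, h, Units.val_one, Matrix.toLin'_one]; rfl)
  have hsc : ∀ z : F, (x : Matrix ι ι F) ≠ z • (1 : Matrix ι ι F) := fun z hz => by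
    have h1 : (x : Matrix ι ι F) ^ p = 1 := by rw [← Units.val_pow_eq_pow_val, hxp, Units.val_one]
    rw [hz, smul_pow, one_pow] at h1
    have hι : Nonempty ι := by
      rw [← Fintype.card_pos_iff, ← hsum]
      have := Multiset.le_sum_of_mem he
      omega
    obtain ⟨i⟩ := hι
    have h3 := congrFun (congrFun h1 i) i
    rw [Matrix.smul_apply, Matrix.one_apply_eq, smul_eq_mul, mul_one] at h3
    have hz1 : (z - 1) ^ p = 0 := by
      rw [sub_pow_char, h3, one_pow, sub_self]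
    rw [sub_eq_zero.1 (pow_eq_zero_iff (Nat.Prime.ne_zero Fact.out) |>.1 hz1), one_smul] at hz
    exact hx1 (Units.ext hz)
  obtain ⟨W, ⟨hWd, hW, hR⟩, hWi⟩ := hfix x hx hxp hx1 hsc
  rw [hxT] at hWi
  refine ⟨W, T, fun j => Module.finrank F ↥(W.map ((T - 1) ^ j)),
    fun j => Module.finrank F ↥((perp Q.polarBilin W).map ((T - 1) ^ j)), hR, hT, hWi, hWd, fun _ => rfl, hTr, ?_,
    fun j => (split hQ hT hW hWi j).trans (hTr j), convex _ (sub_one_map_le hWi),
    convex _ (sub_one_map_le (perp_map_le hQ hT hWi)), fun j hj => ?_⟩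
  · show Module.finrank F ↥(W.map ((T - 1) ^ 0)) = m
    rw [pow_zero, Module.End.one_eq_id, Submodule.map_id, hWd]
  · obtain ⟨k, rfl⟩ := hj
    exact even_rank h2 hT hW hWi hTp k

theorem exists_part_odd (hodd : ∃ e ∈ μ, Odd e) (hne : ∃ e ∈ μ, 1 < e) :
    ∃ ν : Multiset ℕ, ν ≤ μ ∧ ν.sum = m ∧ ∀ e : ℕ, Even e → Even (ν.count e) := by
  obtain ⟨W, T, a, b, -, -, -, -, -, -, h0, hab, ha, hb, hap⟩ := exists_split hQ h2 hp hfix hle heven hsum hodd hne
  obtain ⟨ν, h1, h3, h4⟩ := exists_sub (fun e he => (hle e he).2) a b hab ha hb hap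
  exact ⟨ν, h1, h3.trans h0, h4⟩

/-- Every type contains one of dimension `m`. -/
theorem exists_part (hme : Even m) (hmn : m ≤ Fintype.card ι) :
    ∃ ν : Multiset ℕ, ν ≤ μ ∧ ν.sum = m ∧ ∀ e : ℕ, Even e → Even (ν.count e) := by
  by_cases hne : ∃ e ∈ μ, 1 < e
  swap
  · push Not at hne
    have h1 : μ = Multiset.replicate μ.card 1 :=
      Multiset.eq_replicate_card.2 fun e he => le_antisymm (hne e he) (hle e he).1
    refine ⟨Multiset.replicate m 1, ?_, by simp, fun e he => ?_⟩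
    · rw [h1, Multiset.sum_replicate, smul_eq_mul, mul_one] at hsum
      rw [h1]
      exact (Multiset.replicate_le_replicate 1).2 (by omega)
    · rw [Multiset.count_replicate, if_neg (fun h : (1 : ℕ) = e => by subst h; exact Nat.not_even_one he)]
      exact Even.zero
  by_cases hodd : ∃ e ∈ μ, Odd e
  · exact exists_part_odd hQ h2 hp hfix hle heven hsum hodd hne
  push Not at hodd
  obtain ⟨e, he, he1⟩ := hne
  have hee : Even e := Nat.not_odd_iff_even.1 (hodd e he)
  obtain ⟨ρ₁, rfl⟩ := Multiset.exists_cons_of_mem he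
  have he2 : e ∈ ρ₁ := by
    by_contra hn
    have h := heven e hee
    rw [Multiset.count_cons_self, Multiset.count_eq_zero_of_notMem hn] at h
    exact Nat.not_even_one h
  obtain ⟨ρ, rfl⟩ := Multiset.exists_cons_of_mem he2
  have hρe : ∀ k ∈ ρ, Even k := fun k hk => Nat.not_odd_iff_even.1 (hodd k (by simp [hk]))
  have he2p : e + 1 ≤ p := by
    have := (hle e he).2
    have := Nat.even_iff.1 hee
    have := Nat.odd_iff.1 hp
    omega
  have he' := Nat.even_iff.1 hee
  have hle' : ∀ k ∈ (e + 1) ::ₘ (e - 1) ::ₘ ρ, 0 < k ∧ k ≤ p := by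
    intro k hk
    simp only [Multiset.mem_cons] at hk
    rcases hk with rfl | rfl | hk
    · omega
    · omega
    · exact hle k (by simp [hk])
  have heven' : ∀ k : ℕ, Even k → Even (((e + 1) ::ₘ (e - 1) ::ₘ ρ).count k) := fun k hk => by
    have h := heven k hk
    have := Nat.even_iff.1 hk
    rw [Multiset.count_cons_of_ne (by omega), Multiset.count_cons_of_ne (by omega), Nat.even_iff]
    rw [Multiset.count_cons, Multiset.count_cons, Nat.even_iff] at h
    split_ifs at h <;> omega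
  obtain ⟨ν, hν, hνs, hνe⟩ := exists_part_odd hQ h2 hp hfix hle' heven' (by
      rw [← hsum]; simp only [Multiset.sum_cons]; omega)
    ⟨e + 1, by simp, hee.add_one⟩ ⟨e + 1, by simp, by omega⟩
  have hev : ∀ σ : Multiset ℕ, σ ≤ ρ → σ.sum % 2 = 0 := fun σ hσ =>
    Nat.mod_eq_zero_of_dvd (Multiset.dvd_sum fun k hk => (hρe k (Multiset.mem_of_le hσ hk)).two_dvd)
  have hm2 := Nat.even_iff.1 hme
  by_cases h1 : e + 1 ∈ ν
  · obtain ⟨ν₁, rfl⟩ := Multiset.exists_cons_of_mem h1
    rw [Multiset.cons_le_cons_iff] at hν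
    by_cases h3 : e - 1 ∈ ν₁
    · obtain ⟨ν₂, rfl⟩ := Multiset.exists_cons_of_mem h3
      rw [Multiset.cons_le_cons_iff] at hν
      refine ⟨e ::ₘ e ::ₘ ν₂, Multiset.cons_le_cons _ (Multiset.cons_le_cons _ hν), ?_, fun k hk => ?_⟩
      · rw [← hνs]; simp only [Multiset.sum_cons]; omega
      · have h := hνe k hk
        have := Nat.even_iff.1 hk
        rw [Multiset.count_cons_of_ne (by omega), Multiset.count_cons_of_ne (by omega), Nat.even_iff] at h
        rw [Multiset.count_cons, Multiset.count_cons, Nat.even_iff]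
        split_ifs <;> omega
    · have := hev _ ((Multiset.le_cons_of_notMem h3).1 hν)
      simp only [Multiset.sum_cons] at hνs
      omega
  · have hν' := (Multiset.le_cons_of_notMem h1).1 hν
    by_cases h3 : e - 1 ∈ ν
    · obtain ⟨ν₂, rfl⟩ := Multiset.exists_cons_of_mem h3
      rw [Multiset.cons_le_cons_iff] at hν'
      have := hev _ hν'
      simp only [Multiset.sum_cons] at hνs
      omega
    · exact ⟨ν, ((Multiset.le_cons_of_notMem h3).1 hν').trans
        ((Multiset.le_cons_self _ _).trans (Multiset.le_cons_self _ _)), hνs, hνe⟩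

omit hle heven hsum

/-- A type all of whose sub-types miss `m` modulo four. -/
theorem not_two_mod (s : Multiset ℕ) (k : ℕ) (hs2 : 2 ∉ s) (hs : ∀ e ∈ s, 0 < e ∧ e ≤ 3 ∧ Odd e)
    (hs0 : s ≠ 0) (hk : Even k) (hk0 : 0 < k ∨ 3 ∈ s) (hsum : s.sum + k * 2 = Fintype.card ι)
    (hno : ∀ σ : Multiset ℕ, σ ≤ s → σ.sum % 4 ≠ m % 4) : False := by
  have hp3 : 3 ≤ p := by
    have := (Fact.out : p.Prime).two_le
    have := Nat.odd_iff.1 hp
    omega
  have hmem : ∀ e ∈ s + Multiset.replicate k 2, 0 < e ∧ e ≤ p := fun e he => by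
    rcases Multiset.mem_add.1 he with h | h
    · have := hs e h; omega
    · rw [Multiset.eq_of_mem_replicate h]; omega
  have hev : ∀ e : ℕ, Even e → Even ((s + Multiset.replicate k 2).count e) := fun e he => by
    rw [Multiset.count_add, Multiset.count_eq_zero_of_notMem fun h => Nat.not_even_iff_odd.2 (hs e h).2.2 he, zero_add,
      Multiset.count_replicate]
    split_ifs
    · exact hk
    · exact Even.zero
  obtain ⟨e₁, he₁⟩ := Multiset.exists_mem_of_ne_zero hs0
  obtain ⟨ν, hν, hνs, hνe⟩ := exists_part_odd hQ h2 hp hfix hmem hev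
    (by rw [Multiset.sum_add, Multiset.sum_replicate, smul_eq_mul, hsum])
    ⟨e₁, Multiset.mem_add.2 (Or.inl he₁), (hs e₁ he₁).2.2⟩
    (hk0.elim (fun h => ⟨2, Multiset.mem_add.2 (Or.inr (Multiset.mem_replicate.2 ⟨by omega, rfl⟩)), one_lt_two⟩)
      fun h => ⟨3, Multiset.mem_add.2 (Or.inl h), by omega⟩)
  obtain ⟨σ, hσ, hσs⟩ := sub_two hs2 hν (hνe 2 even_two)
  exact hno σ hσ (by rw [hσs, hνs])

/-- Two fixed lines and pairs of blocks of size two. -/
theorem hasHalf_member {k : ℕ} (hk : Even k) (hk0 : 0 < k) (hsum : 2 + k * 2 = Fintype.card ι) (hm4 : m % 4 = 0)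
    (hR : ∀ W, R W → ¬ HasHalf Q W) : False := by
  have hp3 : 3 ≤ p := by
    have := (Fact.out : p.Prime).two_le
    have := Nat.odd_iff.1 hp
    omega
  obtain ⟨μ, hμ⟩ : ∃ μ : Multiset ℕ, μ = 1 ::ₘ 1 ::ₘ Multiset.replicate k 2 := ⟨_, rfl⟩
  have hmem : ∀ e ∈ μ, 0 < e ∧ e ≤ p := fun e he => by
    simp only [hμ, Multiset.mem_cons] at he
    rcases he with rfl | rfl | he
    · omega
    · omega
    · rw [Multiset.eq_of_mem_replicate he]; omega
  have hev : ∀ e : ℕ, Even e → Even (μ.count e) := fun e he => by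
    have h1 : e ≠ 1 := fun h => Nat.not_even_one (by rwa [h] at he)
    rw [hμ, Multiset.count_cons_of_ne h1, Multiset.count_cons_of_ne h1, Multiset.count_replicate]
    split_ifs
    · exact hk
    · exact Even.zero
  obtain ⟨W, T, a, b, hW, hT, hWi, hWd, ha, hTr, h0, hab, -, hb, hap⟩ := exists_split hQ h2 hp hfix hmem hev
    (by simp [hμ, Multiset.sum_replicate, ← hsum]; omega) ⟨1, by simp [hμ], odd_one⟩
    ⟨2, by simp [hμ, Multiset.mem_replicate]; omega, one_lt_two⟩
  have ht : tail μ 0 = 2 + k * 2 ∧ tail μ 1 = k ∧ tail μ 2 = 0 := by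
    refine ⟨?_, ?_, ?_⟩ <;> simp [hμ, tail, Multiset.map_replicate, Multiset.sum_replicate] <;> omega
  have h1 := hb 0
  have hs0 := hab 0
  have hs1 := hab 1
  have hs2 := hab 2
  have := Nat.even_iff.1 (hap 1 odd_one)
  have hconv : 2 * a 1 ≤ a 0 + a 2 := by
    rw [ha 1, ha 0, ha 2]
    exact convex _ (sub_one_map_le hWi) 0
  simp only [zero_add] at h1
  have hN2 : (T - 1) ^ 2 = 0 := by
    refine LinearMap.range_eq_bot.1 (Submodule.finrank_eq_zero.1 ?_)
    rw [hTr]; exact ht.2.2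
  refine hR W hW ⟨W.map ((T - 1) ^ 1), pow_map_le (sub_one_map_le hWi) 1, ?_, ?_⟩
  · rintro _ ⟨x, -, rfl⟩
    have h3 : T (T x) = (2 : F) • T x - x := by
      have h := LinearMap.congr_fun hN2 x
      simp only [pow_two, Module.End.mul_apply, LinearMap.sub_apply, Module.End.one_apply, map_sub,
        LinearMap.zero_apply] at h
      rw [sub_sub, sub_eq_zero] at h
      rw [h]
      module
    have h4 := IsoTwo.polar_map hT (T x) x
    rw [h3, sub_eq_add_neg, QuadraticMap.polar_add_left, QuadraticMap.polar_smul_left, QuadraticMap.polar_self,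
      QuadraticMap.polar_neg_left, QuadraticMap.polar_comm Q x (T x), hT, nsmul_eq_mul, smul_eq_mul] at h4
    rw [pow_one, LinearMap.sub_apply, Module.End.one_apply, sub_eq_add_neg, QuadraticMap.map_add Q,
      QuadraticMap.map_neg, hT, QuadraticMap.polar_neg_right]
    refine (mul_right_inj' h2).1 ?_
    push_cast at h4
    linear_combination h4
  · rw [hWd, ← ha 1]
    omega

end CfsgLib.MaxSub.IsoNDJordanFix
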