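import Cfsg.Agent.Lib.MaxSub.SemiDims
import Cfsg.Agent.Lib.KnownC.MatrixPrimary
import Cfsg.Agent.Lib.Classical.SympOrderR
import Cfsg.Agent.Lib.Geom.IsoCount
import Cfsg.Agent.Lib.Geom.IsoStabSymp
import Cfsg.Agent.Lib.MaxSub.IsoPerp

/-!
Witnesses for subspace elusiveness: symplectic elements of order `r` with prescribed fixed space and with distinct
types, and the primes dividing the number of totally isotropic subspaces.
-/

set_option autoImplicit false

namespace CfsgLib.MaxSub.IsoWitness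

open Polynomial CfsgLib.Classical

universe u v

variable {F : Type u} [Field F] {V : Type v} [AddCommGroup V] [Module F V] [FiniteDimensional F V]

/-- A kernel of large dimension forces a power into the characteristic polynomial. -/
theorem pow_dvd_charpoly {T : Module.End F V} {r : ℕ} (hrF : (r : F) ≠ 0) (hT : T ^ r = 1) {g : F[X]}
    (hg : Irreducible g) (hgm : g.Monic) {k : ℕ}
    (hk : g.natDegree * k ≤ Module.finrank F ↥(LinearMap.ker (aeval T g))) : g ^ k ∣ T.charpoly := by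
  classical
  obtain ⟨W, hW⟩ : ∃ W, W = LinearMap.ker (aeval T g) := ⟨_, rfl⟩
  rw [← hW] at hk
  have hWi : ∀ x ∈ W, T x ∈ W := fun x hx => by
    rw [hW, LinearMap.mem_ker] at hx ⊢
    have h : aeval T g (T x) = T (aeval T g x) := by
      conv_lhs => rw [← Module.End.mul_apply]; arg 1; arg 2; rw [← aeval_X (R := F) T]
      conv_rhs => rw [← Module.End.mul_apply]; arg 1; arg 1; rw [← aeval_X (R := F) T]
      rw [← map_mul, ← map_mul, mul_comm]
    rw [h, hx, map_zero]
  obtain ⟨C, hWC, hC⟩ := SemiDims.exists_compl hrF (c := (1 : F)) one_ne_zero (by rw [hT, one_smul])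
    (U := W) (by rintro _ ⟨x, hx, rfl⟩; exact hWi x hx)
  have hCi : ∀ x ∈ C, T x ∈ C := fun x hx => hC ⟨x, hx, rfl⟩
  let e := Submodule.prodEquivOfIsCompl W C hWC
  have hcp : T.charpoly = (T.restrict hWi).charpoly * (T.restrict hCi).charpoly := by
    rw [← LinearMap.charpoly_prodMap, ← e.charpoly_conj]
    congr 1
    refine LinearMap.ext fun x => ?_
    obtain ⟨⟨a, b⟩, rfl⟩ := e.surjective x
    rw [LinearEquiv.conj_apply, LinearMap.comp_apply, LinearMap.comp_apply, LinearEquiv.coe_coe,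
      LinearEquiv.coe_coe, e.symm_apply_apply, LinearMap.prodMap_apply]
    simp only [e, Submodule.coe_prodEquivOfIsCompl', map_add]
    rfl
  have hpow : ∀ (x : W) (f : F[X]), ((aeval (T.restrict hWi) f) x : V) = aeval T f x := fun x f => by
    induction f using Polynomial.induction_on' with
    | add a b ha hb => simp [map_add, LinearMap.add_apply, ha, hb]
    | monomial j a =>
      rw [aeval_monomial, aeval_monomial, Module.End.mul_apply, Module.End.mul_apply, Module.algebraMap_end_apply,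
        Module.algebraMap_end_apply, Submodule.coe_smul]
      congr 1
      induction j with
      | zero => rfl
      | succ j ih => rw [pow_succ', pow_succ', Module.End.mul_apply, Module.End.mul_apply,
          LinearMap.coe_restrict_apply, ih]
  let b := Module.finBasis F W
  obtain ⟨j, hj⟩ := KnownC.charpoly_eq_pow_of_aeval_pow_eq_zero (LinearMap.toMatrixAlgEquiv b (T.restrict hWi))
    hg hgm (m := 1) (by
      rw [pow_one, ← AlgEquiv.toAlgHom_apply, Polynomial.aeval_algHom_apply, show aeval (T.restrict hWi) g = 0 from LinearMap.ext fun x =>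
        Subtype.ext (by rw [hpow]; exact (hW.le x.2 : _)), map_zero])
  rw [show LinearMap.toMatrixAlgEquiv b (T.restrict hWi) = LinearMap.toMatrix b b (T.restrict hWi) from rfl,
    LinearMap.charpoly_toMatrix] at hj
  have hd := congrArg natDegree hj
  rw [LinearMap.charpoly_natDegree, natDegree_pow, mul_comm] at hd
  rw [hcp, hj]
  refine dvd_mul_of_dvd_left (pow_dvd_pow g ?_) _
  exact Nat.le_of_mul_le_mul_left (hk.trans hd.le) hg.natDegree_pos

variable [Fintype F] {p : ℕ} [Fact p.Prime] [CharP F p] {r d : ℕ}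

include p in
theorem exists_symp_isom (hr : r.Prime) {f : F[X]} (hf : f.Monic) (hrev : f.reverse = f)
    (hd : f.natDegree = 2 * d) (hall : ∀ Q : F[X], Q.Monic → Irreducible Q → Q ∣ f → Q ∣ X ^ r - 1) :
    ∃ A : ↥(Matrix.symplecticGroup (Fin d) F), A ^ r = 1 ∧
      (Matrix.toLinAlgEquiv' (A : Matrix (Fin d ⊕ Fin d) (Fin d ⊕ Fin d) F)).charpoly = f := by
  obtain ⟨A, hAo, hAf⟩ := SemiSympExists.exists_symp p f hf hrev hd
  exact ⟨A, SympOrderR.pow_eq_one_of_factors A hAo (hAf ▸ hall), (Matrix.charpoly_toLin' _).trans hAf⟩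

omit [Fintype F] in
theorem coe_pow_eq_one {A : ↥(Matrix.symplecticGroup (Fin d) F)} (h : A ^ r = 1) :
    (Matrix.toLinAlgEquiv' (A : Matrix (Fin d ⊕ Fin d) (Fin d ⊕ Fin d) F)) ^ r = 1 := by
  rw [← map_pow, ← SubmonoidClass.coe_pow, h]
  exact map_one _

section

variable [hr : Fact r.Prime]

omit [Fintype F] hr in
theorem finrank_fix_lt {T : Module.End F V} (hrF : (r : F) ≠ 0) (hT : T ^ r = 1) {e : ℕ}
    (h : ¬ (X - C (1 : F)) ^ (e + 1) ∣ T.charpoly) : Module.finrank F ↥(LinearMap.ker (T - 1)) ≤ e := by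
  by_contra hlt
  refine h (pow_dvd_charpoly hrF hT (irreducible_X_sub_C 1) (monic_X_sub_C 1) ?_)
  rw [natDegree_X_sub_C, one_mul, map_sub, aeval_X, aeval_C, map_one]
  omega

include p in
/-- An element of order dividing `r` with small fixed space. -/
theorem exists_symp_block (hr2 : r ≠ 2) (hrp : r ≠ p) {i c : ℕ} (hi : i = orderOf (Fintype.card F : ZMod r))
    (hc : c = if Even i then i else 2 * i) {e M : ℕ} (hed : e + c * M = 2 * d) (he : Even e) :
    ∃ A : ↥(Matrix.symplecticGroup (Fin d) F), A ^ r = 1 ∧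
      Module.finrank F ↥(LinearMap.ker
        (Matrix.toLinAlgEquiv' (A : Matrix (Fin d ⊕ Fin d) (Fin d ⊕ Fin d) F) - 1)) ≤ e := by
  have hipos : 0 < i := SympOrderR.i_pos (F := F) (p := p) rfl hr.out hrp hi
  have hdvd : i ∣ r - 1 := hi ▸ orderOf_dvd_of_pow_eq_one (ZMod.pow_card_sub_one_eq_one fun h0 => by
    rw [h0] at hi; simp at hi; omega)
  obtain ⟨g, hg⟩ : (SympOrderR.factors F r).Nonempty := by
    rw [← Finset.card_pos, SympOrderR.card_factors (F := F) (p := p) rfl hr.out hrp hi]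
    exact Nat.div_pos (Nat.le_of_dvd (by have := hr.out.two_le; omega) hdvd) hipos
  obtain ⟨hgm, hgi, -⟩ := SympOrderR.mem_factors.1 hg
  obtain ⟨hgne, hgx, hg0⟩ := SympOrderR.facts (F := F) hr.out hrp hg
  have hg1 : ∀ {h : F[X]}, h ∈ SympOrderR.factors F r → ¬ (X - C (1 : F)) ∣ h := fun {h} hh hd =>
    (SympOrderR.facts (F := F) hr.out hrp hh).1 (eq_of_monic_of_associated (SympOrderR.mem_factors.1 hh).1
      (monic_X_sub_C 1) ((irreducible_X_sub_C 1).associated_of_dvd (SympOrderR.mem_factors.1 hh).2.1 hd).symm)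
  obtain ⟨B, hBm, hBd, hBr, hBall, hB1⟩ : ∃ B : F[X], B.Monic ∧ B.natDegree = c ∧ B.reverse = B ∧
      (∀ Q : F[X], Irreducible Q → Q ∣ B → Q ∣ X ^ r - 1) ∧ ¬ (X - C (1 : F)) ∣ B := by
    have hdeg := SympOrderR.natDegree_factor (F := F) (p := p) rfl hr.out hrp hi hg
    by_cases hev : Even i
    · rw [if_pos hev] at hc
      exact ⟨g, hgm, hdeg.trans hc.symm, SympOrderR.reverse_of_star (F := F) hr.out hrp hg
        ((SympOrderR.star_eq_iff (F := F) (p := p) rfl hr.out hrp hi hr2 hg).2 hev),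
        fun Q _ hQ => hQ.trans hgx, hg1 hg⟩
    · rw [if_neg hev] at hc
      obtain ⟨hs, hss⟩ := SympOrderR.star_mem (F := F) hr.out hrp hg
      obtain ⟨hsm, -, -⟩ := SympOrderR.mem_factors.1 hs
      refine ⟨g * SympOrderR.star g, hgm.mul hsm, ?_, SympOrderR.reverse_eq_of_star ?_ ?_,
        fun Q hQ hd => (hQ.prime.dvd_or_dvd hd).elim (fun h => h.trans hgx)
          fun h => h.trans (SympOrderR.facts (F := F) hr.out hrp hs).2.1,
        fun hd => ((irreducible_X_sub_C (1 : F)).prime.dvd_or_dvd hd).elim (hg1 hg) (hg1 hs)⟩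
      · rw [hgm.natDegree_mul hsm, hdeg, SympOrderR.natDegree_factor (F := F) (p := p) rfl hr.out hrp hi hs, hc,
          two_mul]
      · rw [mul_coeff_zero, show (SympOrderR.star g).coeff 0 = _ from (SemiPalin.tilde_facts _ hgm hg0).2.2,
          RingHom.id_apply, mul_inv_cancel₀ hg0]
      · rw [SympOrderR.star_mul, hss, mul_comm]
  obtain ⟨f, hfdef⟩ : ∃ f, f = (X - C (1 : F)) ^ e * B ^ M := ⟨_, rfl⟩
  have hf : f.Monic := hfdef ▸ ((monic_X_sub_C 1).pow e).mul (hBm.pow M)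
  obtain ⟨A, hA, hAf⟩ := exists_symp_isom (p := p) (d := d) hr.out hf
    (by rw [hfdef, reverse_mul_of_domain, PalinCount.reverse_pow', PalinCount.reverse_pow', PalinCount.reverse_X_sub_one,
      he.neg_pow, hBr])
    (by rw [hfdef, ((monic_X_sub_C 1).pow e).natDegree_mul (hBm.pow M), (monic_X_sub_C 1).natDegree_pow,
      natDegree_X_sub_C, hBm.natDegree_pow, hBd, ← hed, mul_one, mul_comm c])
    (fun Q _ hQ hd => (hQ.prime.dvd_or_dvd (hfdef ▸ hd)).elim
      (fun h => (hQ.prime.dvd_of_dvd_pow h).trans PalinCount.X_sub_one_dvd)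
      fun h => hBall Q hQ (hQ.prime.dvd_of_dvd_pow h))
  refine ⟨A, hA, finrank_fix_lt (SympOrderR.r_ne_zero hr.out hrp) (coe_pow_eq_one hA) fun hd => ?_⟩
  rw [hAf, hfdef, pow_succ, mul_dvd_mul_iff_left (pow_ne_zero _ (X_sub_C_ne_zero 1))] at hd
  exact hB1 ((irreducible_X_sub_C (1 : F)).prime.dvd_of_dvd_pow hd)

include p in
/-- An element of order dividing `r` with `o` different types, each of multiplicity one. -/
theorem exists_symp_distinct (hr2 : r ≠ 2) (hrp : r ≠ p) {i : ℕ} (hi : i = orderOf (Fintype.card F : ZMod r))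
    (hev : Even i) {o : ℕ} (ho : o ≤ (r - 1) / i) (hod : i * o ≤ 2 * d) :
    ∃ A : ↥(Matrix.symplecticGroup (Fin d) F), A ^ r = 1 ∧
      Module.finrank F ↥(LinearMap.ker
        (Matrix.toLinAlgEquiv' (A : Matrix (Fin d ⊕ Fin d) (Fin d ⊕ Fin d) F) - 1)) ≤ 2 * d - i * o ∧
      ∀ g ∈ SympOrderR.factors F r, Module.finrank F ↥(LinearMap.ker
        (aeval (Matrix.toLinAlgEquiv' (A : Matrix (Fin d ⊕ Fin d) (Fin d ⊕ Fin d) F)) g)) < 2 * i := by
  classical
  have hipos : 0 < i := SympOrderR.i_pos (F := F) (p := p) rfl hr.out hrp hi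
  obtain ⟨S, hS, hSc⟩ := Finset.exists_subset_card_eq (s := SympOrderR.factors F r) (n := o)
    (by rw [SympOrderR.card_factors (F := F) (p := p) rfl hr.out hrp hi]; exact ho)
  have hdeg : ∀ g ∈ SympOrderR.factors F r, g.natDegree = i := fun g hg =>
    SympOrderR.natDegree_factor (F := F) (p := p) rfl hr.out hrp hi hg
  have hrev : ∀ g ∈ SympOrderR.factors F r, g.reverse = g := fun g hg => SympOrderR.reverse_of_star (F := F)
    hr.out hrp hg ((SympOrderR.star_eq_iff (F := F) (p := p) rfl hr.out hrp hi hr2 hg).2 hev)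
  have hg1 : ∀ g ∈ SympOrderR.factors F r, ¬ (X - C (1 : F)) ∣ g := fun g hg hd =>
    (SympOrderR.facts (F := F) hr.out hrp hg).1 (eq_of_monic_of_associated (SympOrderR.mem_factors.1 hg).1
      (monic_X_sub_C 1) ((irreducible_X_sub_C 1).associated_of_dvd (SympOrderR.mem_factors.1 hg).2.1 hd).symm)
  obtain ⟨P, hPdef⟩ : ∃ P, P = ∏ g ∈ S, g := ⟨_, rfl⟩
  have hPm : P.Monic := hPdef ▸ monic_prod_of_monic _ _ fun g hg => (SympOrderR.mem_factors.1 (hS hg)).1
  have hPd : P.natDegree = i * o := by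
    rw [hPdef, natDegree_prod_of_monic _ _ fun g hg => (SympOrderR.mem_factors.1 (hS hg)).1,
      Finset.sum_congr rfl fun g hg => hdeg g (hS hg), Finset.sum_const, hSc, smul_eq_mul, mul_comm]
  have hP1 : ¬ (X - C (1 : F)) ∣ P := fun hd => by
    obtain ⟨g, hg, hgd⟩ := (irreducible_X_sub_C (1 : F)).prime.exists_mem_finset_dvd (hPdef ▸ hd)
    exact hg1 g (hS hg) hgd
  have hee : Even (2 * d - i * o) := (Nat.even_sub hod).2 (iff_of_true (even_two_mul d) (hev.mul_right o))
  obtain ⟨f, hfdef⟩ : ∃ f, f = (X - C (1 : F)) ^ (2 * d - i * o) * P := ⟨_, rfl⟩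
  have hf : f.Monic := hfdef ▸ ((monic_X_sub_C 1).pow _).mul hPm
  obtain ⟨A, hA, hAf⟩ := exists_symp_isom (p := p) (d := d) hr.out hf
    (by rw [hfdef, reverse_mul_of_domain, PalinCount.reverse_pow', PalinCount.reverse_X_sub_one, hee.neg_pow, hPdef,
      PalinCount.reverse_prod, Finset.prod_congr rfl fun g hg => hrev g (hS hg)])
    (by rw [hfdef, ((monic_X_sub_C 1).pow _).natDegree_mul hPm, (monic_X_sub_C 1).natDegree_pow,
      natDegree_X_sub_C, hPd, mul_one]; omega)
    (fun Q _ hQ hd => (hQ.prime.dvd_or_dvd (hfdef ▸ hd)).elim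
      (fun h => (hQ.prime.dvd_of_dvd_pow h).trans PalinCount.X_sub_one_dvd)
      fun h => by
        obtain ⟨g, hg, hgd⟩ := hQ.prime.exists_mem_finset_dvd (hPdef ▸ h)
        exact hgd.trans (SympOrderR.facts (F := F) hr.out hrp (hS hg)).2.1)
  have hrF : (r : F) ≠ 0 := SympOrderR.r_ne_zero hr.out hrp
  refine ⟨A, hA, finrank_fix_lt hrF (coe_pow_eq_one hA) fun hd => ?_, fun g hg => ?_⟩
  · rw [hAf, hfdef, pow_succ, mul_dvd_mul_iff_left (pow_ne_zero _ (X_sub_C_ne_zero 1))] at hd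
    exact hP1 hd
  · obtain ⟨hgm, hgi, -⟩ := SympOrderR.mem_factors.1 hg
    by_contra hlt
    have h := pow_dvd_charpoly hrF (coe_pow_eq_one hA) hgi hgm (k := 2) (by rw [hdeg g hg]; omega)
    rw [hAf, hfdef] at h
    have hnd : ¬ g ∣ (X - C (1 : F)) ^ (2 * d - i * o) := fun hd =>
      SympOrderR.not_dvd_X_sub_one (F := F) hr.out hrp hg (hgi.prime.dvd_of_dvd_pow hd)
    have h2 : g ^ 2 ∣ P := hgi.prime.pow_dvd_of_dvd_mul_left 2 hnd h
    obtain ⟨k, hk, hkd⟩ := hgi.prime.exists_mem_finset_dvd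
      (hPdef ▸ (dvd_pow_self g two_ne_zero).trans h2 : g ∣ ∏ g ∈ S, g)
    obtain rfl := SympOrderR.eq_of_dvd hg (hS hk) hkd
    rw [hPdef, ← Finset.mul_prod_erase _ _ hk, pow_two, mul_dvd_mul_iff_left hgi.ne_zero] at h2
    obtain ⟨k', hk', hkd'⟩ := hgi.prime.exists_mem_finset_dvd h2
    exact (Finset.mem_erase.1 hk').1 (SympOrderR.eq_of_dvd hg (hS (Finset.mem_erase.1 hk').2) hkd').symm

include p in
/-- The primes `r ≠ p` dividing the number of totally isotropic `m`-subspaces. -/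
theorem dvd_count_symp {m : ℕ} (hm : m ≤ d)
    (h : r ∣ Nat.card {W : Submodule F (Fin d ⊕ Fin d → F) //
      Module.finrank F ↥W = m ∧ (∀ u ∈ W, ∀ v ∈ W, Cfsg.sympForm d F u v = 0)}) :
    r ≠ p ∧ ∃ j < m, r ∣ Fintype.card F ^ (2 * (d - j)) - 1 := by
  classical
  simp only [← CfsgLib.Geom.sympBilin_apply] at h
  obtain ⟨W, -, hW, hWm⟩ : ∃ W ≤ (⊤ : Submodule F (Fin d ⊕ Fin d → F)),
      IsoSemi.TI (CfsgLib.Geom.sympBilin d F) W ∧ Module.finrank F W = m :=
    IsoSemi.exists_ti_alt (B := CfsgLib.Geom.sympBilin d F)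
      ⟨CfsgLib.Geom.sympBilin_sep, fun x y hxy => by rw [CfsgLib.Geom.sympBilin_swap, hxy, neg_zero]⟩
      CfsgLib.Geom.sympBilin_self (U := ⊤)
      (fun u _ hu => CfsgLib.Geom.sympBilin_sep u fun v => hu v trivial) m (by simp; omega)
  have hcount := CfsgLib.Geom.card_isotropic_mul (CfsgLib.Geom.sympBilin d F)
    (CfsgLib.Geom.hasWittExt_alt _ CfsgLib.Geom.sympBilin_self CfsgLib.Geom.sympBilin_sep) W hWm hW
  rw [CfsgLib.Geom.card_isomStab_symp d m hm W hWm hW, card_formIsoms_alt (CfsgLib.Geom.sympBilin d F)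
    CfsgLib.Geom.sympBilin_self CfsgLib.Geom.sympBilin_sep d (by simp; omega)] at hcount
  obtain ⟨P, hP⟩ : ∃ P, P = ∏ i ∈ Finset.range (d - m), (Fintype.card F ^ (2 * (i + 1)) - 1) := ⟨_, rfl⟩
  have hP0 : P ≠ 0 := by
    rw [hP, Finset.prod_ne_zero_iff]
    intro i _
    have : 1 < Fintype.card F ^ (2 * (i + 1)) := Nat.one_lt_pow (by omega) Fintype.one_lt_card
    omega
  have hsplit : ∏ i ∈ Finset.range d, (Fintype.card F ^ (2 * (i + 1)) - 1) =
      P * ∏ i ∈ Finset.range m, (Fintype.card F ^ (2 * (d - m + i + 1)) - 1) := by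
    rw [hP, ← Finset.prod_range_add, Nat.sub_add_cancel hm]
  have hGL : ∏ i : Fin m, (Fintype.card F ^ m - Fintype.card F ^ (i : ℕ)) =
      Fintype.card F ^ (∑ i ∈ Finset.range m, i) *
        ∏ i ∈ Finset.range m, (Fintype.card F ^ (m - i) - 1) := by
    rw [Fin.prod_univ_eq_prod_range (fun i => Fintype.card F ^ m - Fintype.card F ^ i),
      ← Finset.prod_pow_eq_pow_sum, ← Finset.prod_mul_distrib]
    refine Finset.prod_congr rfl fun i hi => ?_
    rw [Finset.mem_range] at hi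
    rw [Nat.mul_sub, mul_one, ← pow_add, Nat.add_sub_cancel' hi.le]
  have hexp : (∑ i ∈ Finset.range m, i) + (∑ i ∈ Finset.range m, (2 * d - m - i)) + (d - m) ^ 2 = d ^ 2 := by
    rw [← Finset.sum_add_distrib, Finset.sum_congr rfl fun i hi => Nat.add_sub_cancel'
      (show i ≤ 2 * d - m by rw [Finset.mem_range] at hi; omega), Finset.sum_const, Finset.card_range, smul_eq_mul]
    obtain ⟨l, rfl⟩ : ∃ l, d = m + l := ⟨d - m, by omega⟩
    rw [Nat.add_sub_cancel_left, show 2 * (m + l) - m = m + 2 * l by omega]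
    ring
  rw [← hP, hsplit, hGL] at hcount
  obtain ⟨N, hN⟩ := h
  rw [hN] at hcount
  have hq0 : Fintype.card F ^ d ^ 2 ≠ 0 := pow_ne_zero _ Fintype.card_ne_zero
  have h5 : r ∣ ∏ i ∈ Finset.range m, (Fintype.card F ^ (2 * (d - m + i + 1)) - 1) := by
    refine ⟨N * ∏ i ∈ Finset.range m, (Fintype.card F ^ (m - i) - 1),
      Nat.eq_of_mul_eq_mul_right (Nat.pos_of_ne_zero (mul_ne_zero hP0 hq0)) ?_⟩
    calc _ = Fintype.card F ^ d ^ 2 *
          (P * ∏ i ∈ Finset.range m, (Fintype.card F ^ (2 * (d - m + i + 1)) - 1)) := by ring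
      _ = _ := by
        rw [← hcount]
        conv_rhs => rw [← hexp, pow_add, pow_add]
        ring
  obtain ⟨i, hi, hdi⟩ := hr.out.prime.exists_mem_finset_dvd h5
  rw [Finset.mem_range] at hi
  refine ⟨?_, m - 1 - i, by omega, by rwa [show d - (m - 1 - i) = d - m + i + 1 by omega]⟩
  rintro rfl
  obtain ⟨f, -, hf⟩ := FiniteField.card F r
  have hdq : r ∣ Fintype.card F ^ (2 * (d - m + i + 1)) :=
    dvd_pow (by rw [hf]; exact dvd_pow_self r f.ne_zero) (by omega)
  exact hr.out.not_dvd_one (by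
    simpa [Nat.sub_sub_self (Nat.one_le_pow _ _ Fintype.card_pos)] using Nat.dvd_sub hdq hdi)

end

end CfsgLib.MaxSub.IsoWitness
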