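import Cfsg.Agent.Lib.MaxSub.IsoND
import Cfsg.Agent.Lib.MaxSub.IsoWitness

/-!
Elements of odd prime order of orthogonal groups fixing non-degenerate subspaces.
-/

set_option autoImplicit false

namespace CfsgLib.MaxSub.IsoNDMain

open Polynomial Matrix CfsgLib CfsgLib.Classical CfsgLib.Geom CfsgLib.MaxSub.IsoSemi CfsgLib.MaxSub.IsoType
  CfsgLib.KnownC CfsgLib.KnownC.OrthType
open QuadraticMap (polar)

universe u

variable {F : Type u} [Field F] [Fintype F] {p : ℕ} [Fact p.Prime] [CharP F p] {ι : Type} [Fintype ι]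
  [DecidableEq ι] {Q : QuadraticForm F (ι → F)}

omit [Fintype F] [Fact p.Prime] [CharP F p] in
theorem iso_of_mem {x : GL ι F} (hx : x ∈ Cfsg.Geo.omegaGL (⇑Q)) (v : ι → F) :
    Q ((x : Matrix ι ι F) *ᵥ v) = Q v := by
  obtain ⟨y, -, rfl⟩ := hx
  simpa using (mem_isometryGroup_iff _ _).1 y.2 v

omit [Fintype F] [Fact p.Prime] [CharP F p] in
/-- A scalar in `Ω` is `±1`. -/
theorem scalar_sq {v₀ : ι → F} (hv₀ : Q v₀ ≠ 0) {x : GL ι F} (hx : x ∈ Cfsg.Geo.omegaGL (⇑Q)) {z : F}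
    (hz : (x : Matrix ι ι F) = z • (1 : Matrix ι ι F)) : z * z = 1 := by
  have h := iso_of_mem hx v₀
  rw [hz, Matrix.smul_mulVec, Matrix.one_mulVec, QuadraticMap.map_smul, smul_eq_mul] at h
  exact mul_right_cancel₀ hv₀ (h.trans (one_mul _).symm)

omit [Fintype F] [Fact p.Prime] [CharP F p] in
/-- From elements with scalar `r`-th power to elements of order `r`. -/
theorem lhs_scalar {r : ℕ} (hodd : Odd r) {v₀ : ι → F} (hv₀ : Q v₀ ≠ 0) (P : Submodule F (ι → F) → Prop) :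
    (∀ x : GL ι F, x ∈ Cfsg.Geo.omegaGL (⇑Q) →
      (∃ z : F, ((x ^ r : GL ι F) : Matrix ι ι F) = z • (1 : Matrix ι ι F)) →
      (∀ z : F, (x : Matrix ι ι F) ≠ z • (1 : Matrix ι ι F)) →
      ∃ W : Submodule F (ι → F), P W ∧ W.map (Matrix.toLin' (x : Matrix ι ι F)) ≤ W) ↔
    (∀ x : GL ι F, x ∈ Cfsg.Geo.omegaGL (⇑Q) → x ^ r = 1 → x ≠ 1 →
      ∃ W : Submodule F (ι → F), P W ∧ W.map (Matrix.toLin' (x : Matrix ι ι F)) ≤ W) := by
  obtain ⟨k, hk⟩ := hodd
  have hpow : ∀ {z : F}, z * z = 1 → z ^ r = z := fun {z} hz => by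
    rw [hk, pow_succ, pow_mul, sq, hz, one_pow, one_mul]
  constructor
  · intro h x hx hxr hx1
    refine h x hx ⟨1, by rw [hxr, one_smul]; rfl⟩ fun z hz => hx1 (Units.ext ?_)
    have hz2 := scalar_sq hv₀ hx hz
    have h1 : z = 1 := by
      have h' := congrArg (fun y : GL ι F => (y : Matrix ι ι F) *ᵥ v₀) hxr
      simp only [Units.val_pow_eq_pow_val, hz, _root_.smul_pow, one_pow, Matrix.smul_mulVec, Matrix.one_mulVec,
        Units.val_one] at h'
      rw [← hpow hz2]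
      exact smul_left_injective F (fun e : v₀ = 0 => hv₀ (by rw [e, map_zero])) (by simpa using h')
    rw [hz, h1, one_smul, Units.val_one]
  · rintro h x hx ⟨z, hz⟩ hxn
    have hz2 := scalar_sq hv₀ (pow_mem hx r) hz
    have hyz : ((x ^ (r + 1) : GL ι F) : Matrix ι ι F) = z • (x : Matrix ι ι F) := by
      rw [pow_succ, Units.val_mul, hz, smul_mul_assoc, one_mul]
    have hyr : (x ^ (r + 1)) ^ r = 1 := by
      refine Units.ext ?_
      rw [← pow_mul, mul_comm, pow_mul, Units.val_pow_eq_pow_val, hz, _root_.smul_pow, one_pow, hk,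
        show 2 * k + 1 + 1 = 2 * (k + 1) by ring, pow_mul, sq, hz2, one_pow, one_smul, Units.val_one]
    obtain ⟨W, hP, hW⟩ := h _ (pow_mem hx _) hyr fun h1 => hxn z (by
      rw [h1, Units.val_one] at hyz
      rw [hyz, smul_smul, hz2, one_smul])
    refine ⟨W, hP, ?_⟩
    rintro _ ⟨v, hv, rfl⟩
    have hmem := hW ⟨v, hv, rfl⟩
    rw [Matrix.toLin'_apply, hyz, Matrix.smul_mulVec] at hmem
    have := W.smul_mem z hmem
    rwa [smul_smul, hz2, one_smul] at this

omit [Fintype F] [Fact p.Prime] [CharP F p] in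
/-- From elements of order `r` stated by `orderOf`. -/
theorem lhs_order {r : ℕ} (hr : r.Prime) (P : Submodule F (ι → F) → Prop) :
    (∀ x : GL ι F, x ∈ Cfsg.Geo.omegaGL (⇑Q) → orderOf x = r →
      ∃ W : Submodule F (ι → F), P W ∧ W.map (Matrix.toLin' (x : Matrix ι ι F)) ≤ W) ↔
    (∀ x : GL ι F, x ∈ Cfsg.Geo.omegaGL (⇑Q) → x ^ r = 1 → x ≠ 1 →
      ∃ W : Submodule F (ι → F), P W ∧ W.map (Matrix.toLin' (x : Matrix ι ι F)) ≤ W) := by
  haveI : Fact r.Prime := ⟨hr⟩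
  exact forall_congr' fun x => imp_congr_right fun _ =>
    ⟨fun h h1 h2 => h (orderOf_eq_prime h1 h2), fun h ho => h (ho ▸ pow_orderOf_eq_one x) fun e => by
      rw [e, orderOf_one] at ho; exact hr.one_lt.ne ho⟩

variable (hQ : ∀ x, (∀ y, polar Q x y = 0) → x = 0) {r : ℕ} [hr : Fact r.Prime]

include p hQ in
/-- The element of `Ω` of a model. -/
theorem witness (hr2 : r ≠ 2) (hrp : r ≠ p) (hn : 2 ≤ Fintype.card ι) (hn4 : Fintype.card ι ≠ 4) {k : ℕ}
    (hk : 1 ≤ k) {f : F[X]} (h1 : ¬ f.IsRoot 1) {Q₀ : QuadraticForm F (Fin k ⊕ Fin k → F)}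
    (hQ₀ : ∀ x, (∀ y, polar Q₀ x y = 0) → x = 0) {φ : (Fin k ⊕ Fin k → F) →ₗ[F] (ι → F)}
    (hφ : ∀ v, Q (φ v) = Q₀ v) {A : (Fin k ⊕ Fin k → F) ≃ₗ[F] (Fin k ⊕ Fin k → F)} (hA : A ∈ quadIsoms Q₀)
    (hAr : A ^ r = 1) (hAc : A.toLinearMap.charpoly = f) :
    ∃ x : GL ι F, x ∈ Cfsg.Geo.omegaGL (⇑Q) ∧ x ^ r = 1 ∧ x ≠ 1 ∧
      Ctx Q.polarBilin (Matrix.toLin' (x : Matrix ι ι F)) r ∧
      Module.finrank F ↥(LinearMap.ker (Matrix.toLin' (x : Matrix ι ι F) - 1)) + 2 * k = Fintype.card ι := by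
  classical
  have hrP : r.Prime := hr.out
  have hrF : (r : F) ≠ 0 := SympOrderR.r_ne_zero (p := p) hrP hrp
  have hV : Module.finrank F (ι → F) = Fintype.card ι := Module.finrank_fintype_fun_eq_card F
  have hkn : 2 * k ≤ Fintype.card ι := by
    rw [← hV, ← OrthPrime.finrank_two (F := F) k]
    exact LinearMap.finrank_le_finrank_of_injective (injective_of_preserving hQ₀ φ hφ)
  obtain ⟨g, hg, hgr, hgc⟩ := OrthPrime.exists_extension Q Q₀ hQ₀ φ hφ hA hAr
  obtain ⟨x, hx, hxr, hxv⟩ := OmegaElem.exists_gl Q hQ (Or.inr (by rw [hV]; exact hn4)) hn hrP hr2 hg hgr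
  have hTe : Matrix.toLin' (x : Matrix ι ι F) = g.toLinearMap := LinearMap.ext hxv
  have hC : Ctx Q.polarBilin (Matrix.toLin' (x : Matrix ι ι F)) r :=
    IsoOrth.ctx hQ hrP hr2 hrF (fun v => by rw [Matrix.toLin'_apply]; exact iso_of_mem hx v) (by
      rw [show (Matrix.toLin' (x : Matrix ι ι F)) ^ r = Matrix.toLin' ((x : Matrix ι ι F) ^ r) from
        (map_pow Matrix.toLinAlgEquiv' (x : Matrix ι ι F) r).symm, ← Units.val_pow_eq_pow_val, hxr, Units.val_one,
        Matrix.toLin'_one]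
      rfl)
  obtain ⟨T, hT⟩ : ∃ T, T = Matrix.toLin' (x : Matrix ι ι F) := ⟨_, rfl⟩
  rw [← hT] at hC hTe
  have hTc : T.charpoly = (X - C 1) ^ (Fintype.card ι - 2 * k) * f := by
    rw [hTe, hgc, hAc, hV, OrthPrime.finrank_two]
  have hc : IsCompl (LinearMap.ker (T - 1)) (LinearMap.range (T - 1)) :=
    ⟨disjoint_iff.2 (disjoint_fix_mov hC), codisjoint_iff.2 (fix_sup_mov hC)⟩
  have hKi : ∀ v ∈ LinearMap.ker (T - 1), T v ∈ LinearMap.ker (T - 1) := fun v hv => apply_mem (inv_fix T) hv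
  have hRi : ∀ v ∈ LinearMap.range (T - 1), T v ∈ LinearMap.range (T - 1) := fun v hv => apply_mem (inv_mov T) hv
  have hcp : T.charpoly = (T.restrict hKi).charpoly * (T.restrict hRi).charpoly := by
    rw [← LinearMap.charpoly_prodMap, ← (Submodule.prodEquivOfIsCompl _ _ hc).charpoly_conj]
    congr 1
    refine LinearMap.ext fun v => ?_
    obtain ⟨⟨a, b⟩, rfl⟩ := (Submodule.prodEquivOfIsCompl _ _ hc).surjective v
    rw [LinearEquiv.conj_apply, LinearMap.comp_apply, LinearMap.comp_apply, LinearEquiv.coe_coe,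
      LinearEquiv.coe_coe, LinearEquiv.symm_apply_apply, LinearMap.prodMap_apply]
    simp only [Submodule.coe_prodEquivOfIsCompl', map_add]
    rfl
  have hK : T.restrict hKi = 1 := LinearMap.ext fun v => Subtype.ext (sub_eq_zero.1 v.2)
  have hR : ¬ (T.restrict hRi).charpoly.IsRoot 1 := fun h => by
    obtain ⟨v, hv⟩ := ((Module.End.hasEigenvalue_iff_isRoot_charpoly _ 1).2 h).exists_hasEigenvector
    refine hv.2 (Subtype.ext (no_fix hC le_rfl v.2 ?_))
    exact (congrArg Subtype.val hv.apply_eq_smul).trans (one_smul F (v : ι → F))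
  have hm := congrArg (rootMultiplicity (1 : F)) (hTc.symm.trans hcp)
  rw [hK, LinearMap.charpoly_one, ← map_one C, rootMultiplicity_mul
      (mul_ne_zero (pow_ne_zero _ (X_sub_C_ne_zero 1)) fun h0 => h1 (by rw [h0]; simp)),
    rootMultiplicity_mul (mul_ne_zero (pow_ne_zero _ (X_sub_C_ne_zero 1)) fun h0 => hR (by rw [h0]; simp)),
    rootMultiplicity_X_sub_C_pow, rootMultiplicity_X_sub_C_pow, rootMultiplicity_eq_zero h1,
    rootMultiplicity_eq_zero hR] at hm
  have hne : x ≠ 1 := fun e => by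
    rw [hT, e, Units.val_one, Matrix.toLin'_one, show (LinearMap.id : Module.End F (ι → F)) - 1 = 0 from
      sub_self _, LinearMap.ker_zero, finrank_top, hV] at hm
    omega
  exact ⟨x, hx, hxr, hne, hT ▸ hC, by rw [← hT]; omega⟩

variable {i c d m : ℕ}

/-- The type of `b` pieces. -/
def PType (i b : ℕ) : Prop := Odd i ∨ Even b

/-- The possible numbers of pieces. -/
def Allowed (i c n : ℕ) (ε : Prop) (a : ℕ) : Prop := 1 ≤ a ∧ c * a ≤ n ∧ (c * a = n → (ε ↔ PType i a))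

/-- A subspace of dimension `m` and type `η` fits an element with `a` pieces. -/
def Fits (i c n m : ℕ) (ε η : Prop) (a : ℕ) : Prop :=
  ∃ b z, b ≤ a ∧ c * b + z = m ∧ z + c * a ≤ n ∧ (z = 0 → (η ↔ PType i b)) ∧
    (z + c * a = n → ((η ↔ PType i b) ↔ (ε ↔ PType i a)))

include p hQ in
/-- An element with a prescribed number of pieces. -/
theorem exists_element (hr2 : r ≠ 2) (hrp : r ≠ p) (hi : i = orderOf (Fintype.card F : ZMod r))
    (hc : c = if Even i then i else 2 * i) {n : ℕ} (hn : Fintype.card ι = n) (hn5 : 5 ≤ n) {ε : Prop}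
    (hemb : ∀ k, 2 * k ≤ n → ∀ Q₀ : QuadraticForm F (Fin k ⊕ Fin k → F), (∀ x, (∀ y, polar Q₀ x y = 0) → x = 0) →
      (2 * k < n ∨ (HasHalf Q₀ ⊤ ↔ ε)) → ∃ φ : (Fin k ⊕ Fin k → F) →ₗ[F] (ι → F), ∀ v, Q (φ v) = Q₀ v)
    {a : ℕ} (ha : Allowed i c n ε a) :
    ∃ x : GL ι F, x ∈ Cfsg.Geo.omegaGL (⇑Q) ∧ x ^ r = 1 ∧ x ≠ 1 ∧
      Ctx Q.polarBilin (Matrix.toLin' (x : Matrix ι ι F)) r ∧
      Module.finrank F ↥(LinearMap.ker (Matrix.toLin' (x : Matrix ι ι F) - 1)) + c * a = n := by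
  classical
  obtain ⟨ha1, han, hat⟩ := ha
  have hrP : r.Prime := hr.out
  have hrF : (r : F) ≠ 0 := SympOrderR.r_ne_zero (p := p) hrP hrp
  have hipos : 0 < i := SympOrderR.i_pos (F := F) (p := p) rfl hrP hrp hi
  have hcpos : 0 < c := by rw [hc]; split_ifs <;> omega
  have hcd : c = if Even (orderOf (Fintype.card F : ZMod r)) then orderOf (Fintype.card F : ZMod r)
      else 2 * orderOf (Fintype.card F : ZMod r) := by rw [← hi]; exact hc
  have hc2 : (c * a) % 2 = 0 := by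
    rw [hc]; split_ifs with h
    · rw [Nat.mul_mod, Nat.even_iff.1 h]; simp
    · rw [mul_assoc]; omega
  obtain ⟨k, hk⟩ := Nat.dvd_of_mod_eq_zero hc2
  obtain ⟨f, hf, hf1⟩ := IsoOrth.exists_block_poly (F := F) (p := p) hi hr2 hrp hc a
  rw [hk] at hf
  obtain ⟨Q₀, A, hQ₀, hA, hAr, hAc⟩ := OrthPrime.exists_model (p := p) hrP hr2 hrp hf hf1
  have hk1 : 1 ≤ k := by have := Nat.mul_le_mul hcpos ha1; omega
  have hC₀ := IsoOrth.ctx hQ₀ hrP hr2 hrF (T := A.toLinearMap) (fun v => hA v) (LinearMap.ext fun v => by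
    have hj : ∀ j : ℕ, (A.toLinearMap ^ j) v = (A ^ j) v := fun j => by
      induction j with
      | zero => rfl
      | succ j ih => rw [pow_succ', pow_succ', LinearEquiv.mul_apply, Module.End.mul_apply, ih]; rfl
    rw [hj, hAr]; rfl)
  have hty₀ : HasHalf Q₀ ⊤ ↔ PType i a := by
    have hker : LinearMap.ker (A.toLinearMap - 1) = ⊥ := (Submodule.eq_bot_iff _).2 fun x hx =>
      OrthPrime.no_fixed (hAc ▸ hf1) x (sub_eq_zero.1 (show (A.toLinearMap - 1) x = 0 from hx))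
    have htop := fix_sup_mov hC₀
    rw [hker, bot_sup_eq] at htop
    have := IsoND.part_type (p := p) hQ₀ hC₀ (fun v => hA v) (nd_mov hC₀) (inv_mov _) le_rfl hcd (b := a)
      (by rw [htop, finrank_top, OrthPrime.finrank_two, hk])
    rwa [htop, ← hi] at this
  obtain ⟨φ, hφ⟩ := hemb k (by omega) Q₀ hQ₀ (by
    rcases lt_or_eq_of_le han with hlt | heq
    · exact Or.inl (by omega)
    · exact Or.inr (hty₀.trans (hat heq).symm))
  obtain ⟨x, hx, hxr, hx1, hC, hfix⟩ := witness (p := p) hQ hr2 hrp (by omega) (by omega) hk1 hf1 hQ₀ hφ hA hAr hAc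
  exact ⟨x, hx, hxr, hx1, hC, by omega⟩

include p hQ in
/-- Which elements of order `r` fix non-degenerate `m`-subspaces of type `η`. -/
theorem main (hr2 : r ≠ 2) (hrp : r ≠ p) (hi : i = orderOf (Fintype.card F : ZMod r))
    (hc : c = if Even i then i else 2 * i) {n : ℕ} (hn : Fintype.card ι = n) (hn5 : 5 ≤ n) (hme : Even m)
    (hodd2 : Odd n → (2 : F) ≠ 0) {ε η : Prop} (hε : Even n → (HasHalf Q ⊤ ↔ ε))
    (hemb : ∀ k, 2 * k ≤ n → ∀ Q₀ : QuadraticForm F (Fin k ⊕ Fin k → F), (∀ x, (∀ y, polar Q₀ x y = 0) → x = 0) →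
      (2 * k < n ∨ (HasHalf Q₀ ⊤ ↔ ε)) → ∃ φ : (Fin k ⊕ Fin k → F) →ₗ[F] (ι → F), ∀ v, Q (φ v) = Q₀ v) :
    (∀ x : GL ι F, x ∈ Cfsg.Geo.omegaGL (⇑Q) → x ^ r = 1 → x ≠ 1 →
      ∃ W : Submodule F (ι → F), (Module.finrank F ↥W = m ∧ ND Q.polarBilin W ∧ (HasHalf Q W ↔ η)) ∧
        W.map (Matrix.toLin' (x : Matrix ι ι F)) ≤ W) ↔
    ∀ a, Allowed i c n ε a → Fits i c n m ε η a := by
  classical
  have hrP : r.Prime := hr.out
  have hrF : (r : F) ≠ 0 := SympOrderR.r_ne_zero (p := p) hrP hrp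
  have hipos : 0 < i := SympOrderR.i_pos (F := F) (p := p) rfl hrP hrp hi
  have hG := IsoOrth.geom hQ
  have hV : Module.finrank F (ι → F) = n := by rw [Module.finrank_fintype_fun_eq_card, hn]
  have hcpos : 0 < c := by rw [hc]; split_ifs <;> omega
  have hceven : c % 2 = 0 := by
    rw [hc]; split_ifs with h
    · exact Nat.even_iff.1 h
    · omega
  have hc2 : ∀ b, (c * b) % 2 = 0 := fun b => by rw [Nat.mul_mod, hceven]; simp
  have hcd : c = if Even (orderOf (Fintype.card F : ZMod r)) then orderOf (Fintype.card F : ZMod r)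
      else 2 * orderOf (Fintype.card F : ZMod r) := by rw [← hi]; exact hc
  have hdim : ∀ {T : Module.End F (ι → F)}, Ctx Q.polarBilin T r →
      ∀ {U : Submodule F (ι → F)}, ND Q.polarBilin U → U.map T ≤ U → U ≤ LinearMap.range (T - 1) →
      c ∣ Module.finrank F U ∧ ∀ k, c * k ≤ Module.finrank F U →
        ∃ W : Submodule F (ι → F), W ≤ U ∧ W.map T ≤ W ∧ ND Q.polarBilin W ∧ Module.finrank F W = c * k := by
    intro T hC U hU hUi hUR
    refine nd_dims (p := p) (c := 0) hC (fun x => by simp) ⟨fun h => ?_, fun h => ?_⟩ hU hUi hUR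
    · rw [hc, if_pos ((IsoOrth.sd_iff hi hr2 hipos).1 h), hi]
    · rw [hc, if_neg (mt (IsoOrth.sd_iff (p := p) hi hr2 hipos).2 h), hi]
  have htype : ∀ {T : Module.End F (ι → F)}, Ctx Q.polarBilin T r → (∀ v, Q (T v) = Q v) →
      ∀ {U : Submodule F (ι → F)}, ND Q.polarBilin U → U.map T ≤ U → U ≤ LinearMap.range (T - 1) →
      ∀ {b : ℕ}, Module.finrank F U = c * b → (HasHalf Q U ↔ PType i b) := by
    intro T hC hT U hU hUi hUR b hb
    rw [PType, hi]
    exact IsoND.part_type (p := p) hQ hC hT hU hUi hUR hcd hb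
  -- the type of the fixed part
  have hfixt : ∀ {T : Module.End F (ι → F)}, Ctx Q.polarBilin T r → (∀ v, Q (T v) = Q v) → ∀ {a : ℕ},
      Module.finrank F ↥(LinearMap.range (T - 1)) = c * a → Even n →
      (HasHalf Q (LinearMap.ker (T - 1)) ↔ (ε ↔ PType i a)) := by
    intro T hC hT a ha hne
    obtain ⟨d, hd⟩ := hne
    obtain ⟨e, he⟩ := Nat.dvd_of_mod_eq_zero (hc2 a)
    have hft := fix_type hQ hC hT (k := d) (by rw [hV, hd, two_mul]) (e := e) (ha.trans he)
    rw [hε ⟨d, hd⟩, htype hC hT (nd_mov hC) (inv_mov T) le_rfl ha] at hft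
    by_cases h1 : ε <;> by_cases h2 : PType i a <;> simp only [h1, h2, iff_true, iff_false, true_iff, false_iff,
      not_not, not_true, not_false_iff] at hft ⊢ <;> tauto
  constructor
  · rintro h a ha
    obtain ⟨x, hx, hxr, hx1, hC, hfix⟩ := exists_element (p := p) hQ hr2 hrp hi hc hn hn5 hemb ha
    obtain ⟨ha1, han, hat⟩ := ha
    obtain ⟨W, ⟨hWd, hWn, hWt⟩, hWi⟩ := h x hx hxr hx1
    obtain ⟨T, hT⟩ : ∃ T, T = Matrix.toLin' (x : Matrix ι ι F) := ⟨_, rfl⟩
    rw [← hT] at hC hfix hWi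
    have hTQ : ∀ v, Q (T v) = Q v := fun v => by rw [hT, Matrix.toLin'_apply]; exact iso_of_mem hx v
    have hsum := (T - 1).finrank_range_add_finrank_ker
    have hRd : Module.finrank F ↥(LinearMap.range (T - 1)) = c * a := by omega
    obtain ⟨hE', hR', hs, hperp⟩ := IsoND.parts hQ hC hWn hWi
    obtain ⟨⟨b, hb⟩, -⟩ := hdim hC hR' (inv_inf hWi (inv_mov T)) inf_le_right
    have hz := finrank_split hC hWi
    rw [hWd, hb] at hz
    have hbR := Submodule.finrank_mono (inf_le_right : W ⊓ LinearMap.range (T - 1) ≤ _)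
    have hzE := Submodule.finrank_mono (inf_le_right : W ⊓ LinearMap.ker (T - 1) ≤ _)
    rw [hb, hRd] at hbR
    obtain ⟨z, hz'⟩ : ∃ z, z = Module.finrank F ↥(W ⊓ LinearMap.ker (T - 1)) := ⟨_, rfl⟩
    rw [← hz'] at hz hzE
    have hz2 : z % 2 = 0 := by have := hc2 b; have := Nat.even_iff.1 hme; omega
    have hbt := htype hC hTQ hR' (inv_inf hWi (inv_mov T)) inf_le_right hb
    obtain ⟨e, he⟩ := Nat.dvd_of_mod_eq_zero (hc2 b)
    have hsi := hasHalf_sum_iff hQ hE' hR' hperp (k₁ := z / 2) (by omega) (k₂ := e) (hb.trans he)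
    rw [hs, hWt, hbt] at hsi
    refine ⟨b, z, Nat.le_of_mul_le_mul_left hbR hcpos, by omega, by omega, fun h0 => ?_, fun heq => ?_⟩
    · rw [Submodule.finrank_eq_zero.1 (hz'.symm.trans h0), iff_true_left (hasHalf_bot Q)] at hsi
      exact hsi
    · have hne : Even n := Nat.even_iff.2 (by have := hc2 a; omega)
      have hWE : W ⊓ LinearMap.ker (T - 1) = LinearMap.ker (T - 1) :=
        Submodule.eq_of_le_of_finrank_le inf_le_right (by omega)
      rw [hWE, hfixt hC hTQ hRd hne] at hsi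
      by_cases h1 : η <;> by_cases h2 : PType i b <;> by_cases h3 : (ε ↔ PType i a) <;>
        simp only [h1, h2, h3, iff_true, iff_false, true_iff, false_iff, not_not, not_true, not_false_iff] at hsi ⊢ <;>
        tauto
  · intro h x hx hxr hx1
    obtain ⟨T, hT⟩ : ∃ T, T = Matrix.toLin' (x : Matrix ι ι F) := ⟨_, rfl⟩
    rw [← hT]
    have hTr : T ^ r = 1 := by
      rw [hT, show (Matrix.toLin' (x : Matrix ι ι F)) ^ r = Matrix.toLin' ((x : Matrix ι ι F) ^ r) from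
        (map_pow Matrix.toLinAlgEquiv' (x : Matrix ι ι F) r).symm, ← Units.val_pow_eq_pow_val, hxr, Units.val_one,
        Matrix.toLin'_one]
      rfl
    have hTQ : ∀ v, Q (T v) = Q v := fun v => by rw [hT, Matrix.toLin'_apply]; exact iso_of_mem hx v
    have hC := IsoOrth.ctx hQ hrP hr2 hrF hTQ hTr
    obtain ⟨⟨a, ha⟩, hsub⟩ := hdim hC (nd_mov hC) (inv_mov T) le_rfl
    have hsum := (T - 1).finrank_range_add_finrank_ker
    rw [ha, hV] at hsum
    have ha1 : 1 ≤ a := by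
      rcases Nat.eq_zero_or_pos a with rfl | ha1
      · refine absurd ?_ hx1
        rw [mul_zero] at ha
        have h0 : T - 1 = 0 := LinearMap.range_eq_bot.1 (Submodule.finrank_eq_zero.1 ha)
        refine Units.ext (Matrix.toLin'.injective ?_)
        rw [← hT, Units.val_one, Matrix.toLin'_one, sub_eq_zero.1 h0]
        rfl
      · exact ha1
    obtain ⟨b, z, hba, hbz, hzn, hz0, hze⟩ := h a ⟨ha1, by omega, fun heq => by
      have hne : Even n := Nat.even_iff.2 (heq ▸ hc2 a)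
      have h1 := hfixt hC hTQ ha hne
      rw [Submodule.finrank_eq_zero.1 (show Module.finrank F ↥(LinearMap.ker (T - 1)) = 0 by omega)] at h1
      exact h1.1 (hasHalf_bot Q)⟩
    obtain ⟨X₁, hXR, hXi, hX, hXd⟩ := hsub b (ha ▸ Nat.mul_le_mul_left c hba)
    have hXt := htype hC hTQ hX hXi hXR hXd
    obtain ⟨e, he⟩ := Nat.dvd_of_mod_eq_zero (hc2 b)
    have hz2 : z % 2 = 0 := by have := hc2 b; have := Nat.even_iff.1 hme; omega
    obtain ⟨Z, hZ, hZn, hZd, hZt⟩ : ∃ Z ≤ LinearMap.ker (T - 1), ND Q.polarBilin Z ∧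
        Module.finrank F Z = z ∧ (HasHalf Q Z ↔ (η ↔ PType i b)) := by
      rcases Nat.eq_zero_or_pos z with rfl | hzpos
      · exact ⟨⊥, bot_le, fun u hu _ => (Submodule.mem_bot F).1 hu, finrank_bot F _,
          iff_of_true (hasHalf_bot Q) (hz0 rfl)⟩
      rcases lt_or_eq_of_le hzn with hlt | heq
      · obtain ⟨z', rfl⟩ := Nat.dvd_of_mod_eq_zero hz2
        rcases Nat.even_or_odd n with hne | hno
        · obtain ⟨e', he'⟩ : 2 ∣ Module.finrank F ↥(LinearMap.ker (T - 1)) := Nat.dvd_of_mod_eq_zero (by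
            have := hc2 a; have := Nat.even_iff.1 hne; omega)
          exact IsoND.exists_typed_even hQ (nd_fix hC) he' (by omega) (by omega) (η ↔ PType i b)
        · obtain ⟨Q₀, h₀, hη⟩ := IsoND.exists_model_type (F := F) (k := z') (by omega) (η ↔ PType i b)
          obtain ⟨φ, hφU, hφ⟩ := IsoND.embed_small (hodd2 hno) h₀ (nd_fix hC) (by
            rw [OrthPrime.finrank_two]; omega)
          obtain ⟨hnd, hd', e₀, he₀⟩ := IsoND.nd_range h₀ φ hφ
          exact ⟨_, (by rintro _ ⟨v, rfl⟩; exact hφU v), hnd, hd'.trans (OrthPrime.finrank_two z'),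
            (IsoND.hasHalf_congr e₀ he₀).trans hη⟩
      · have hne : Even n := Nat.even_iff.2 (by have := hc2 a; omega)
        refine ⟨_, le_rfl, nd_fix hC, by omega, ?_⟩
        rw [hfixt hC hTQ ha hne]
        exact (hze heq).symm
    have hperp : X₁ ≤ perp Q.polarBilin Z := (hXR.trans (fix_le_perp hC)).trans (perp_antitone hZ)
    obtain ⟨-, hd'⟩ := finrank_sum hQ hZn hperp
    refine ⟨Z ⊔ X₁, ⟨by rw [hd', hZd, hXd]; omega, nd_sup hG hZn hX hperp, ?_⟩, inv_sup ?_ hXi⟩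
    · rw [hasHalf_sum_iff hQ hZn hX hperp (k₁ := z / 2) (by omega) (k₂ := e) (hXd.trans he), hZt, hXt]
      by_cases h1 : η <;> by_cases h2 : PType i b <;> simp [h1, h2]
    · rintro _ ⟨v, hv, rfl⟩
      rwa [show T v = v from sub_eq_zero.1 (show (T - 1) v = 0 from hZ hv)]

end CfsgLib.MaxSub.IsoNDMain
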