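import Cfsg.Agent.Lib.MaxSub.IsoNDPlusTwo

/-!
Involutions of the minus orthogonal group in characteristic two and invariant elliptic subspaces.
-/

set_option autoImplicit false

namespace CfsgLib.MaxSub.IsoNDMinusTwo

open Matrix CfsgLib CfsgLib.Classical CfsgLib.Classical.InvTwo CfsgLib.Geom CfsgLib.MaxSub.IsoSemi
  CfsgLib.MaxSub.IsoType CfsgLib.MaxSub.IsoNDCount CfsgLib.KnownC
open QuadraticMap (polar)

universe u

variable {F : Type u} [Field F] [Fintype F] {a b : F}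
  (hab : ∀ x y : F, x ^ 2 + a * x * y + b * y ^ 2 = 0 → x = 0 ∧ y = 0)

include hab

/-- The anisotropic plane with the coordinate planes of some indices. -/
theorem coord_member {l t : ℕ} (f : Fin t → Fin l) (hf : Function.Injective f) :
    ∃ W : Submodule F ((Fin l ⊕ Fin l) ⊕ Fin 2 → F), Member (qfMinus l F a b) (2 * (t + 1)) False W ∧
      ∀ v, v ∈ W ↔ ∀ i, i ∉ Set.range f → v (.inl (.inl i)) = 0 ∧ v (.inl (.inr i)) = 0 := by
  classical
  let g : (Fin t ⊕ Fin t) ⊕ Fin 2 → (Fin l ⊕ Fin l) ⊕ Fin 2 := Sum.map (Sum.map f f) id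
  have hg : Function.Injective g := (hf.sumMap hf).sumMap Function.injective_id
  let φ : ((Fin t ⊕ Fin t) ⊕ Fin 2 → F) →ₗ[F] ((Fin l ⊕ Fin l) ⊕ Fin 2 → F) := Function.ExtendByZero.linearMap F g
  have hl : ∀ (v : (Fin t ⊕ Fin t) ⊕ Fin 2 → F) (k : Fin t), φ v (.inl (.inl (f k))) = v (.inl (.inl k)) := fun v k =>
    hg.extend_apply v (0 : (Fin l ⊕ Fin l) ⊕ Fin 2 → F) (Sum.inl (Sum.inl k))
  have hr : ∀ (v : (Fin t ⊕ Fin t) ⊕ Fin 2 → F) (k : Fin t), φ v (.inl (.inr (f k))) = v (.inl (.inr k)) := fun v k =>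
    hg.extend_apply v (0 : (Fin l ⊕ Fin l) ⊕ Fin 2 → F) (Sum.inl (Sum.inr k))
  have hz : ∀ (v : (Fin t ⊕ Fin t) ⊕ Fin 2 → F) (k : Fin 2), φ v (.inr k) = v (.inr k) := fun v k =>
    hg.extend_apply v (0 : (Fin l ⊕ Fin l) ⊕ Fin 2 → F) (Sum.inr k)
  have hl' : ∀ (v : (Fin t ⊕ Fin t) ⊕ Fin 2 → F) (i : Fin l), i ∉ Set.range f → φ v (.inl (.inl i)) = 0 :=
    fun v i hi => Function.extend_apply' v (0 : (Fin l ⊕ Fin l) ⊕ Fin 2 → F) (Sum.inl (Sum.inl i)) (by
      rintro ⟨(k | k) | k, hk⟩ <;> simp [g] at hk; exact hi ⟨k, hk⟩)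
  have hr' : ∀ (v : (Fin t ⊕ Fin t) ⊕ Fin 2 → F) (i : Fin l), i ∉ Set.range f → φ v (.inl (.inr i)) = 0 :=
    fun v i hi => Function.extend_apply' v (0 : (Fin l ⊕ Fin l) ⊕ Fin 2 → F) (Sum.inl (Sum.inr i)) (by
      rintro ⟨(k | k) | k, hk⟩ <;> simp [g] at hk; exact hi ⟨k, hk⟩)
  have hQ : ∀ v, qfMinus l F a b (φ v) = qfMinus t F a b v := fun v => by
    rw [qfMinus_apply, qfMinus_apply, Cfsg.quadFormMinus, Cfsg.quadFormMinus, hz, hz,
      ← Fintype.sum_of_injective f hf _ (fun i => φ v (.inl (.inl i)) * φ v (.inl (.inr i)))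
        (fun i hi => by rw [hl' v i hi, zero_mul]) fun k => by rw [hl, hr]]
  obtain ⟨hnd, hd, e, he⟩ := IsoND.nd_range (qfMinus_sep t hab) φ hQ
  refine ⟨_, ⟨hd.trans (by rw [Module.finrank_fintype_fun_eq_card]; simp; omega), hnd,
    iff_false_intro (mt (IsoND.hasHalf_congr e he).1 (IsoNDStd.minus_top t hab))⟩, fun v => ⟨?_, fun h => ?_⟩⟩
  · rintro ⟨w, rfl⟩ i hi
    exact ⟨hl' w i hi, hr' w i hi⟩
  · refine ⟨v ∘ g, funext fun x => ?_⟩
    rcases x with (i | i) | i
    · by_cases hi : i ∈ Set.range f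
      · obtain ⟨k, rfl⟩ := hi; exact hl _ k
      · rw [hl' _ i hi, (h i hi).1]
    · by_cases hi : i ∈ Set.range f
      · obtain ⟨k, rfl⟩ := hi; exact hr _ k
      · rw [hr' _ i hi, (h i hi).2]
    · exact hz _ i

/-- An involution fixes elliptic subspaces of dimension `2 (t + 1)`. -/
theorem involution (h2 : (2 : F) = 0) {l t : ℕ} (htl : t ≤ l) (hcond : Odd l ∨ Even t)
    (g : Cfsg.isometryGroup F (⇑(qfMinus l F a b))) (hg : g ^ 2 = 1) :
    ∃ W : Submodule F ((Fin l ⊕ Fin l) ⊕ Fin 2 → F), Member (qfMinus l F a b) (2 * (t + 1)) False W ∧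
      W.map (qIsom (qfMinus l F a b) g).toLinearMap ≤ W := by
  classical
  have hsep : ∀ x, (∀ y, polar (qfMinus l F a b) x y = 0) → x = 0 := qfMinus_sep l hab
  obtain ⟨s, e, S, D⟩ := exists_qdata _ h2 hsep (qIsom_mem g) (qIsom_invol hg)
  by_cases ha : ∀ i, S i i = 0
  · have hse := even_of_alt h2 D.symm D.unit ha
    have hsl : s ≤ l := by
      have hts : ∀ y ∈ Submodule.span F (Set.range e), qfMinus l F a b y = 0 := fun y hy => by
        obtain ⟨c, rfl⟩ := (Submodule.mem_span_range_iff_exists_fun F).1 hy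
        rw [quad_comb _ D.tuple.iso, Finset.sum_eq_zero fun i _ => by rw [D.value, ha, mul_zero]]
      have h1 := OmegaElem.minus_ts_le l hab hts
      rwa [finrank_span_eq_card D.tuple.indep, Fintype.card_fin] at h1
    obtain ⟨f, hf, hclosed⟩ := IsoNDPlusTwo.closed_choice htl hsl hse hcond
    obtain ⟨W, hW, hWm⟩ := coord_member hab f hf
    refine IsoNDInvTwo.member_of_model h2 hsep (qIsom_mem g) (qIsom_invol hg) D
      (e' := fun i => Pi.single (.inl (.inl (Fin.castLE hsl i))) 1)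
      ⟨linearIndependent_of_dual _ (fun i => .inl (.inl (Fin.castLE hsl i))) (fun i k => by
        simp [Pi.single_apply, eq_comm]), fun i k => by simp [polar_qfMinus, Pi.single_apply]⟩
      (IsoNDInvTwo.pairing_symm s) (IsoNDInvTwo.pairing_unit hse) (iff_of_true ha (IsoNDInvTwo.pairing_diag s))
      (fun k => ?_) hW fun T hT =>
        IsoNDInvTwo.tmap_inv hT (fun i => Fin.castLE hsl i ∈ Set.range f) (fun i hi => (hWm _).2 fun k hk => ?_)
          (fun i hi v hv => by simp [polar_qfMinus, Pi.single_apply, ((hWm v).1 hv _ hi).2]) fun i k hi hk => ?_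
    · rw [IsoNDInvTwo.pairing_diag]
      refine Finset.sum_eq_zero fun i _ => mul_eq_zero_of_right _ ?_
      simp [qfMinus_apply, Cfsg.quadFormMinus, Pi.single_apply]
    · have : k ≠ Fin.castLE hsl i := fun e => hk (e ▸ hi)
      simp [Pi.single_apply, this]
    · rw [IsoNDInvTwo.pairing, Matrix.of_apply, if_neg]
      exact fun h => hi (hclosed i k h.2 hk)
  · have hs1 : (1 : ℕ) ≤ s := by
      by_contra h0
      exact ha fun i => absurd i.2 (by omega)
    have hsl : s ≤ l + 1 := by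
      have h := two_mul_le (B := (qfMinus l F a b).polarBilin) (fun x hx => hsep x hx) D.tuple
      rw [Module.finrank_fintype_fun_eq_card] at h
      simp at h
      omega
    obtain ⟨W, hW, hWm⟩ := coord_member hab (Fin.castLE htl) (Fin.castLE_injective _)
    let w : Fin s → ((Fin l ⊕ Fin l) ⊕ Fin 2 → F) := fun i => if h : (i : ℕ) < l then
      Pi.single (.inl (.inl ⟨i, h⟩)) 1 + Pi.single (.inl (.inr ⟨i, h⟩)) 1 else Pi.single (.inr 0) 1
    let c : Fin s → (Fin l ⊕ Fin l) ⊕ Fin 2 := fun i => if h : (i : ℕ) < l then .inl (.inl ⟨i, h⟩) else .inr 0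
    refine IsoNDInvTwo.member_of_model h2 hsep (qIsom_mem g) (qIsom_invol hg) D (e' := w)
      ⟨linearIndependent_of_dual _ c (fun i k => ?_), fun i k => ?_⟩
      Matrix.transpose_one isUnit_one (iff_of_false ha fun h => one_ne_zero (α := F) (by simpa using h ⟨0, hs1⟩))
      (fun k => ?_) hW fun T hT =>
        IsoNDInvTwo.tmap_inv hT (fun i => (i : ℕ) < t ∨ l ≤ (i : ℕ)) (fun i hi => (hWm _).2 fun k hk => ?_)
          (fun i hi v hv => ?_) fun i k hi hk => Matrix.one_apply_ne fun e => hi (e ▸ hk)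
    · have := i.2; have := k.2
      simp only [w, c]
      split_ifs <;> simp [Pi.single_apply, Fin.ext_iff] <;> omega
    · rcases eq_or_ne i k with rfl | hik
      · exact polarBilin_self _ h2 _
      · rw [QuadraticMap.polarBilin_apply_apply]
        have hv : (i : ℕ) ≠ k := Fin.val_ne_of_ne hik
        have := i.2; have := k.2
        simp only [w]
        split_ifs with h h' h'
        · have hne : (⟨(i : ℕ), h⟩ : Fin l) ≠ ⟨k, h'⟩ := fun e => hv (Fin.mk.inj e)
          simp [polar_qfMinus, Pi.single_apply, Finset.sum_add_distrib, hne, hne.symm]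
        · simp [polar_qfMinus, Pi.single_apply]
        · simp [polar_qfMinus, Pi.single_apply]
        · omega
    · simp only [Matrix.one_apply, ite_mul, one_mul, zero_mul, Finset.sum_ite_eq', Finset.mem_univ, if_true, w]
      split_ifs <;> simp [qfMinus_apply, Cfsg.quadFormMinus, Pi.single_apply]
    · have hk' : ¬ (k : ℕ) < t := fun h => hk ⟨⟨k, h⟩, rfl⟩
      have := k.2
      simp only [w]
      split_ifs with h <;> simp [Pi.single_apply, Fin.ext_iff] <;> omega
    · push Not at hi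
      obtain ⟨h1, h3⟩ := (hWm v).1 hv ⟨i, hi.2⟩ (by rintro ⟨y, hy⟩; have := y.2; simp [Fin.ext_iff] at hy; omega)
      simp only [w, dif_pos hi.2]
      simp [polar_qfMinus, Pi.single_apply, h1, h3]

/-- The answer for `r = p = 2`. -/
theorem two_iff (h2 : (2 : F) = 0) {l m : ℕ} (hl : 2 ≤ l) (hme : Even m) (hm : 2 ≤ m) (hml : m ≤ 2 * l) :
    (∀ x : GL ((Fin l ⊕ Fin l) ⊕ Fin 2) F, x ∈ Cfsg.Geo.omegaGL (⇑(qfMinus l F a b)) →
      (∃ z : F, ((x ^ 2 : GL ((Fin l ⊕ Fin l) ⊕ Fin 2) F) :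
        Matrix ((Fin l ⊕ Fin l) ⊕ Fin 2) ((Fin l ⊕ Fin l) ⊕ Fin 2) F) = z • 1) →
      (∀ z : F, (x : Matrix ((Fin l ⊕ Fin l) ⊕ Fin 2) ((Fin l ⊕ Fin l) ⊕ Fin 2) F) ≠ z • 1) →
      ∃ W : Submodule F ((Fin l ⊕ Fin l) ⊕ Fin 2 → F), Member (qfMinus l F a b) m False W ∧
        W.map (Matrix.toLin' (x : Matrix ((Fin l ⊕ Fin l) ⊕ Fin 2) ((Fin l ⊕ Fin l) ⊕ Fin 2) F)) ≤ W) ↔
    (Even (l + 1) ∨ m % 4 = 2) := by
  classical
  obtain ⟨t, rfl⟩ : ∃ t, m = 2 * (t + 1) := ⟨m / 2 - 1, by have := Nat.even_iff.1 hme; omega⟩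
  have hsep : ∀ x, (∀ y, polar (qfMinus l F a b) x y = 0) → x = 0 := qfMinus_sep l hab
  have hV : Fintype.card ((Fin l ⊕ Fin l) ⊕ Fin 2) = 2 * (l + 1) := by simp; omega
  have hfr : Module.finrank F ((Fin l ⊕ Fin l) ⊕ Fin 2 → F) = 2 * (l + 1) := by
    rw [Module.finrank_fintype_fun_eq_card, hV]
  have hex : (∃ t : F, t ≠ 0 ∧ t ≠ 1) ∨ Module.finrank F ((Fin l ⊕ Fin l) ⊕ Fin 2 → F) ≠ 4 :=
    Or.inr (by rw [hfr]; omega)
  constructor
  · intro h
    by_contra hne
    push Not at hne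
    obtain ⟨hlo, hm4⟩ := hne
    rw [Nat.even_add_one, not_not] at hlo
    let e : Fin l → ((Fin l ⊕ Fin l) ⊕ Fin 2 → F) := fun i => Pi.single (.inl (.inl i)) 1
    have he : IsoTuple (qfMinus l F a b).polarBilin e :=
      ⟨linearIndependent_of_dual e (fun i => .inl (.inl i)) fun i k => by simp [e, Pi.single_apply, eq_comm],
        fun i k => by simp [e, polar_qfMinus, Pi.single_apply]⟩
    have he0 : ∀ i, qfMinus l F a b (e i) = 0 := fun i => by
      simp [e, qfMinus_apply, Cfsg.quadFormMinus, Pi.single_apply]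
    obtain ⟨g', hg', hgg', hge'⟩ := exists_qinvol (qfMinus l F a b) h2 hsep he (IsoNDInvTwo.pairing_symm l) fun k => by
      rw [IsoNDInvTwo.pairing_diag]
      exact Finset.sum_eq_zero fun i _ => mul_eq_zero_of_right _ (he0 i)
    obtain ⟨g, hgq⟩ : ∃ g, g = orEquiv (qfMinus l F a b) ⟨g', hg'⟩ := ⟨_, rfl⟩
    have hgv : ∀ v, (g.1 : Matrix ((Fin l ⊕ Fin l) ⊕ Fin 2) ((Fin l ⊕ Fin l) ⊕ Fin 2) F) *ᵥ v = g' v := fun v => by
      rw [hgq]; exact orEquiv_mulVec _ _ v
    have hg2 : g ^ 2 = 1 := qIsom_injective (LinearEquiv.ext fun v => by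
      rw [sq, qIsom_mul, LinearEquiv.mul_apply, qIsom_apply, qIsom_apply, hgv, hgv, hgg', qIsom_one]; rfl)
    have hu := IsoNDInvTwo.pairing_unit (F := F) hlo
    have hrank := (rank_and_alt h2 (B := (qfMinus l F a b).polarBilin) (polarBilin_self _ h2) (fun x hx => hsep x hx)
      he (IsoNDInvTwo.pairing_symm l) hu hge').1
    have hgΩ : g ∈ Cfsg.Omega F (⇑(qfMinus l F a b)) := by
      rw [mem_omega_iff_even h2 hsep hex hV g hg2, qrank_eq, hgq, qIsom_orEquiv, hrank]
      exact hlo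
    obtain ⟨T, hT⟩ : ∃ T, T = Matrix.toLin'
        (g.1 : Matrix ((Fin l ⊕ Fin l) ⊕ Fin 2) ((Fin l ⊕ Fin l) ⊕ Fin 2) F) := ⟨_, rfl⟩
    have hTN : T - 1 = tmap (qfMinus l F a b).polarBilin e (IsoNDInvTwo.pairing F l) := LinearMap.ext fun v => by
      rw [hT, LinearMap.sub_apply, Module.End.one_apply, Matrix.toLin'_apply, hgv, hge', add_sub_cancel_left]
    obtain ⟨W, ⟨hWd, hW, hWt⟩, hWi⟩ := h g.1 ⟨g, hgΩ, rfl⟩ ⟨1, by
        rw [← SubgroupClass.coe_pow, hg2, OneMemClass.coe_one, Units.val_one, one_smul]⟩ fun z hz => by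
      have hv : ∀ v, g' v = z • v := fun v => by rw [← hgv, hz, Matrix.smul_mulVec, Matrix.one_mulVec]
      have hz1 : z = 1 := by
        have h1 := hv (e ⟨0, by omega⟩)
        rw [hge', show tmap (qfMinus l F a b).polarBilin e (IsoNDInvTwo.pairing F l) (e ⟨0, by omega⟩) = 0 by
          rw [tmap_apply, show co (qfMinus l F a b).polarBilin e (e ⟨0, by omega⟩) = 0 from
              funext fun i => he.iso i _, Matrix.mulVec_zero]
          simp, add_zero] at h1
        simpa [e] using (congrFun h1 (.inl (.inl ⟨0, by omega⟩))).symm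
      rw [show g'.toLinearMap - LinearMap.id = 0 from LinearMap.ext fun v => by simp [hv, hz1],
        LinearMap.range_zero, finrank_bot] at hrank
      omega
    obtain ⟨A, hA⟩ : ∃ A, A = LinearMap.range (T - 1) := ⟨_, rfl⟩
    have hAs : A = Submodule.span F (Set.range e) :=
      hA.trans (hTN ▸ range_tmap (B := (qfMinus l F a b).polarBilin) (fun x hx => hsep x hx) he.indep hu)
    have hS : ∀ w ∈ A, qfMinus l F a b w = 0 := fun w hw => by
      obtain ⟨c, rfl⟩ := (Submodule.mem_span_range_iff_exists_fun F).1 (hAs ▸ hw)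
      rw [quad_comb _ he.iso]
      exact Finset.sum_eq_zero fun i _ => mul_eq_zero_of_right _ (he0 i)
    have hAd : Module.finrank F A = l := by rw [hAs, finrank_span_eq_card he.indep, Fintype.card_fin]
    have hAK : A ≤ LinearMap.ker (T - 1) := by
      rw [hA]
      rintro _ ⟨v, rfl⟩
      rw [LinearMap.mem_ker, hTN]
      exact tmap_tmap he _ v
    have hKd : Module.finrank F ↥(LinearMap.ker (T - 1)) = l + 2 := by
      have h1 := (T - 1).finrank_range_add_finrank_ker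
      rw [hfr, ← hA, hAd] at h1
      omega
    rw [← hT] at hWi
    have hrn : Module.finrank F ↥(W.map (T - 1)) + Module.finrank F ↥(W ⊓ LinearMap.ker (T - 1)) = 2 * (t + 1) := by
      have h := ((T - 1).domRestrict W).finrank_range_add_finrank_ker
      rw [hWd, LinearMap.range_domRestrict] at h
      rw [← h]
      congr 1
      rw [LinearMap.ker_domRestrict,
        ← (Submodule.equivMapOfInjective W.subtype W.injective_subtype _).symm.finrank_eq,
        Submodule.map_comap_subtype]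
    have h1 : Module.finrank F ↥(W.map (T - 1)) ≤ Module.finrank F ↥(W ⊓ A) := Submodule.finrank_mono (by
      rintro _ ⟨w, hw, rfl⟩
      exact ⟨W.sub_mem (hWi ⟨w, hw, rfl⟩) hw, hA ▸ ⟨w, rfl⟩⟩)
    have h3 : Module.finrank F ↥(W ⊓ LinearMap.ker (T - 1)) ≤ Module.finrank F ↥(W ⊓ A) + 2 := by
      have h := Submodule.finrank_sup_add_finrank_inf_eq (W ⊓ LinearMap.ker (T - 1)) A
      rw [inf_assoc, inf_eq_right.2 hAK] at h
      have := Submodule.finrank_mono (sup_le inf_le_right hAK : W ⊓ LinearMap.ker (T - 1) ⊔ A ≤ _)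
      omega
    have h4 : Module.finrank F ↥(W ⊓ A) ≤ t := by
      by_contra h4
      push Not at h4
      obtain ⟨L, hL, hLd⟩ := exists_sub_finrank (W ⊓ A) (k := t + 1) h4
      exact hWt.1 ⟨L, hL.trans inf_le_left, fun w hw => hS w (hL hw).2, by omega⟩
    obtain ⟨k, hk⟩ := IsoNDInvTwo.rank_even (fun v => by
      rw [hT, Matrix.toLin'_apply]; exact (mem_isometryGroup_iff _ _).1 g.2 v)
      (fun v => hS _ (hA ▸ ⟨v, rfl⟩)) hW hWi
    omega
  · rintro hcond x hx ⟨z, hz⟩ -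
    obtain ⟨g, hg, rfl⟩ := hx
    obtain ⟨W, hW, hWi⟩ := involution hab h2 (t := t) (l := l) (by omega)
      (hcond.imp (fun h => by rwa [Nat.even_add_one, Nat.not_even_iff_odd] at h)
        fun h => Nat.even_iff.2 (by omega)) g (by
        have hz1 : z = 1 := by
          have hv : qfMinus l F a b (Pi.single (.inr 0) 1) ≠ 0 := by
            simp [qfMinus_apply, Cfsg.quadFormMinus]
          have h := IsoNDMain.scalar_sq (Q := qfMinus l F a b) hv (pow_mem (show
            ((Cfsg.isometryGroup F (⇑(qfMinus l F a b))).subtype g) ∈ Cfsg.Geo.omegaGL (⇑(qfMinus l F a b)) from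
              ⟨g, hg, rfl⟩) 2) hz
          rcases mul_self_eq_one_iff.1 h with h | h
          · exact h
          · rw [h]; linear_combination -h2
        rw [hz1, one_smul] at hz
        exact Subtype.ext (Units.ext (by rw [SubgroupClass.coe_pow]; exact hz)))
    refine ⟨W, hW, ?_⟩
    rintro _ ⟨v, hv, rfl⟩
    rw [Matrix.toLin'_apply, show (Cfsg.isometryGroup F (⇑(qfMinus l F a b))).subtype g = g.1 from rfl, ← qIsom_apply]
    exact hWi ⟨v, hv, rfl⟩

end CfsgLib.MaxSub.IsoNDMinusTwo
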