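import Cfsg.Agent.Lib.MaxSub.IsoNDTwo

/-!
Square roots of `-1` in orthogonal groups and the non-degenerate subspaces they fix.
-/

set_option autoImplicit false

namespace CfsgLib.MaxSub.IsoNDNegOne

open Matrix CfsgLib CfsgLib.Classical CfsgLib.Geom CfsgLib.MaxSub.IsoSemi CfsgLib.MaxSub.IsoType CfsgLib.KnownC
  CfsgLib.KnownC.OrthType CfsgLib.MaxSub.IsoNDCount
open QuadraticMap (polar)

universe u v

variable {F : Type u} [Field F] [Fintype F]

section

variable {V : Type v} [AddCommGroup V] [Module F V] [FiniteDimensional F V] {Q : QuadraticForm F V}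
  (hQ : ∀ x, (∀ y, polar Q x y = 0) → x = 0) (h2 : (2 : F) ≠ 0) {J : Module.End F V}
  (hJ : ∀ v, J (J v) = -v) (hiso : ∀ v, Q (J v) = Q v)

include hQ h2 hJ hiso

/-- A vector with non-zero value spans with its image an invariant non-degenerate plane. -/
theorem pair_span {v : V} (hv : Q v ≠ 0) :
    ∃ S : Submodule F V, ND Q.polarBilin S ∧ S.map J ≤ S ∧ Module.finrank F S = 2 ∧
      S = Submodule.span F {v, J v} := by
  obtain ⟨w, hw⟩ : ∃ w, w = J v := ⟨_, rfl⟩
  rw [← hw]
  have hvw : polar Q v w = 0 := hw ▸ IsoTwo.polar_J h2 hJ hiso v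
  have hwv : polar Q w v = 0 := by rw [QuadraticMap.polar_comm]; exact hvw
  have hvv : polar Q v v = 2 * Q v := polar_self_two Q v
  have hww : polar Q w w = 2 * Q v := by rw [polar_self_two, hw, hiso]
  have hJw : J w = -v := hw ▸ hJ v
  have key : ∀ x y : F, (∀ u ∈ ({v, w} : Set V), polar Q (x • v + y • w) u = 0) → x = 0 ∧ y = 0 := fun x y h => by
    have h1 := h v (Set.mem_insert v _)
    have h3 := h w (Set.mem_insert_of_mem v rfl)
    simp only [QuadraticMap.polar_add_left, QuadraticMap.polar_smul_left, hvv, hwv, hww, hvw,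
      smul_eq_mul, mul_zero, add_zero, zero_add, mul_eq_zero, h2, hv, or_false, false_or] at h1 h3
    exact ⟨h1, h3⟩
  refine ⟨_, fun z hz h => ?_, ?_, ?_, rfl⟩
  · obtain ⟨x, y, rfl⟩ := Submodule.mem_span_pair.1 hz
    obtain ⟨rfl, rfl⟩ := key x y fun u hu => h u (Submodule.subset_span hu)
    simp
  · rw [Submodule.map_span_le]
    rintro u (rfl | rfl)
    · rw [← hw]; exact Submodule.subset_span (Set.mem_insert_of_mem _ rfl)
    · rw [hJw]; exact Submodule.neg_mem _ (Submodule.subset_span (Set.mem_insert v _))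
  · have hli : LinearIndependent F ![v, w] := LinearIndependent.pair_iff.2 fun x y hxy => key x y fun u _ => by
      rw [hxy, QuadraticMap.polar_zero_left]
    have h := finrank_span_eq_card hli
    rw [Matrix.range_cons, Matrix.range_cons, Matrix.range_empty, Set.union_empty, Set.singleton_union,
      Fintype.card_fin] at h
    exact h

/-- Invariant non-degenerate subspaces of every even dimension. -/
theorem exists_inv_nd : ∀ k, 2 * k ≤ Module.finrank F V →
    ∃ W : Submodule F V, W.map J ≤ W ∧ ND Q.polarBilin W ∧ Module.finrank F W = 2 * k := by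
  have hG := IsoOrth.geom hQ
  intro k
  induction k with
  | zero => exact fun _ => ⟨⊥, inv_bot J, fun u hu _ => (Submodule.mem_bot F).1 hu, finrank_bot F _⟩
  | succ k ih =>
    intro hk
    obtain ⟨W, hWi, hW, hWd⟩ := ih (by omega)
    have hP := nd_perp hG hW
    have hPd := finrank_perp hG W
    obtain ⟨v, hvP, hv⟩ : ∃ v ∈ perp Q.polarBilin W, Q v ≠ 0 := by
      by_contra h
      push Not at h
      have := two_mul_ti_le hG hP le_rfl (IsoOrth.ti_of_ts h)
      omega
    obtain ⟨S, hS, hSi, hSd, hSs⟩ := pair_span hQ h2 hJ hiso hv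
    have hJv : J v ∈ perp Q.polarBilin W := fun w hw => by
      have h : polar Q (J w) v = 0 := hvP _ (apply_mem hWi hw)
      have h' := IsoTwo.polar_map hiso (J w) v
      rw [h, hJ, QuadraticMap.polar_neg_left, neg_eq_zero] at h'
      exact h'
    have hSW : S ≤ perp Q.polarBilin W :=
      hSs ▸ Submodule.span_le.2 (Set.insert_subset hvP (Set.singleton_subset_iff.2 hJv))
    exact ⟨W ⊔ S, inv_sup hWi hSi, nd_sup hG hW hS hSW, by rw [(finrank_sum hQ hW hSW).2]; omega⟩

/-- The type of an invariant non-degenerate subspace. -/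
theorem type_inv {W : Submodule F V} (hW : ND Q.polarBilin W) (hWi : W.map J ≤ W) {k : ℕ}
    (hd : Module.finrank F W = 2 * k) : HasHalf Q W ↔ (IsSquare (-1 : F) ∨ Even k) := by
  let K : Module.End F W := J.restrict fun x hx => apply_mem hWi hx
  have hK : ∀ x, K (K x) = -x := fun x => Subtype.ext (hJ x)
  have hKiso : ∀ x, (Q.comp W.subtype) (K x) = (Q.comp W.subtype) x := fun x => hiso x
  rw [← isPlus_comp_iff hW hd, isPlus_iff_hasHalf _ (sep_comp hW) hd]
  by_cases hs : IsSquare (-1 : F)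
  · refine iff_of_true ?_ (Or.inl hs)
    obtain ⟨c, hc⟩ := hs
    obtain ⟨L, hLd, hL, -⟩ := IsoTwo.exists_inv_ts_of_sq h2 hK hKiso hc.symm (m := k) (by omega)
    exact ⟨L, le_top, hL, by rw [hLd, finrank_top, hd]⟩
  · rw [IsoTwo.hasHalf_iff_even (sep_comp hW) h2 hK hKiso hs hd, or_iff_right hs]

/-- Which members a square root of `-1` fixes. -/
theorem member_iff {m : ℕ} (hme : Even m) (hm : m ≤ Module.finrank F V) {η : Prop} :
    (∃ W : Submodule F V, Member Q m η W ∧ W.map J ≤ W) ↔ (η ↔ (IsSquare (-1 : F) ∨ Even (m / 2))) := by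
  obtain ⟨k, rfl⟩ := hme.two_dvd
  rw [Nat.mul_div_cancel_left k two_pos]
  constructor
  · rintro ⟨W, ⟨hWd, hW, hWt⟩, hWi⟩
    exact hWt.symm.trans (type_inv hQ h2 hJ hiso hW hWi hWd)
  · intro h
    obtain ⟨W, hWi, hW, hWd⟩ := exists_inv_nd hQ h2 hJ hiso k hm
    exact ⟨W, ⟨hWd, hW, (type_inv hQ h2 hJ hiso hW hWi hWd).trans h.symm⟩, hWi⟩

/-- The type of the space. -/
theorem type_top {d : ℕ} (hd : Module.finrank F V = 2 * d) :
    HasHalf Q ⊤ ↔ (IsSquare (-1 : F) ∨ Even d) :=
  type_inv hQ h2 hJ hiso (fun u _ h => hQ u fun y => h y Submodule.mem_top) (by rw [Submodule.map_top]; exact le_top)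
    (by rw [finrank_top, hd])

end

variable {ι : Type} [Fintype ι] [DecidableEq ι] {Q : QuadraticForm F (ι → F)}

/-- A square root of `-1` lies in `Ω` exactly when the half dimension is even or `2` is a square. -/
theorem mem_omega_iff (hQ : ∀ x, (∀ y, polar Q x y = 0) → x = 0) (h2 : (2 : F) ≠ 0) {d : ℕ}
    (hV : Fintype.card ι = 2 * d) (g : Cfsg.isometryGroup F (⇑Q)) (hg : ∀ v, isoLin g (isoLin g v) = -v) :
    g ∈ Cfsg.Omega F (⇑Q) ↔ (Even d ∨ IsSquare (2 : F)) := by
  have hiso : ∀ v, Q (isoLin g v) = Q v := fun v => by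
    rw [isoLin, Matrix.toLin'_apply]; exact (mem_isometryGroup_iff _ _).1 g.2 v
  obtain ⟨L, s, hs, hl, hp, hJ, -⟩ := IsoTwo.exists_word hQ h2 (J := isoLin g) hg hiso d ⊤
    (fun u _ hu => (IsoOrth.geom hQ).sep u fun y => hu y trivial) (by rw [Submodule.map_top]; exact le_top)
    (by rw [finrank_top, Module.finrank_fintype_fun_eq_card, hV])
  have hex := exGen_of_odd (ι := ι) h2
  rw [omega_eq_ker_spinorHom Q hQ hex, MonoidHom.mem_ker, spinorHom_prod_list Q hQ hex L g fun z => by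
    rw [hJ z trivial, isoLin, Matrix.toLin'_apply]]
  have hp0 : (L.map fun v => Q v.1).prod ≠ 0 := by
    rw [hp]; exact mul_ne_zero (pow_ne_zero _ h2) (mul_ne_zero hs hs)
  rw [wordVal_eq Q L hp0, Prod.mk_eq_one, sqClass_eq_one_iff, hp, ofAdd_eq_one, ZMod.natCast_eq_zero_iff_even, hl,
    and_iff_right (even_two_mul d)]
  constructor
  · intro h
    rcases Nat.even_or_odd d with he | ⟨k, rfl⟩
    · exact Or.inl he
    obtain ⟨t, ht⟩ := h
    refine Or.inr ⟨t / (2 ^ k * s), ?_⟩
    field_simp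
    rw [pow_succ] at ht
    linear_combination ht
  · intro h
    refine IsSquare.mul ?_ ⟨s, rfl⟩
    rcases h with ⟨k, rfl⟩ | h
    · exact ⟨2 ^ k, pow_add 2 k k⟩
    · exact h.pow d

/-- A square root of `-1` given as a linear map, as an element of `Ω`. -/
theorem exists_witness (hQ : ∀ x, (∀ y, polar Q x y = 0) → x = 0) (h2 : (2 : F) ≠ 0) {d : ℕ}
    (hV : Fintype.card ι = 2 * d) (hd : Even d ∨ IsSquare (2 : F)) {J : Module.End F (ι → F)}
    (hJ : ∀ v, J (J v) = -v) (hiso : ∀ v, Q (J v) = Q v) :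
    ∃ x : GL ι F, x ∈ Cfsg.Geo.omegaGL (⇑Q) ∧ ((x ^ 2 : GL ι F) : Matrix ι ι F) = (-1 : F) • 1 ∧
      Matrix.toLin' (x : Matrix ι ι F) = J := by
  obtain ⟨h, hh⟩ := KnownB.BC.exists_iso Q hQ J hiso
  have hx : Matrix.toLin' ((h : GL ι F) : Matrix ι ι F) = J := LinearMap.ext fun v => by
    rw [Matrix.toLin'_apply]; exact hh v
  refine ⟨h, ⟨h, (mem_omega_iff hQ h2 hV h fun v => ?_).2 hd, rfl⟩, ?_, hx⟩
  · rw [show isoLin h = J from hx, hJ]
  · refine Matrix.ext_iff_mulVec.2 fun v => ?_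
    rw [sq, Units.val_mul, ← Matrix.mulVec_mulVec, hh, hh, hJ, Matrix.smul_mulVec, Matrix.one_mulVec, neg_one_smul]

end CfsgLib.MaxSub.IsoNDNegOne
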