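import Cfsg.Agent.Lib.MaxSub.IsoNDCountIso
import Cfsg.Agent.Lib.MaxSub.IsoNDUnip

/-!
Unipotent isometries fixing no non-degenerate subspace of a given odd dimension and isometry class.
-/

set_option autoImplicit false

namespace CfsgLib.MaxSub.IsoNDOddUnip

open CfsgLib CfsgLib.Classical CfsgLib.Geom CfsgLib.MaxSub.IsoSemi CfsgLib.MaxSub.IsoType
  CfsgLib.MaxSub.IsoNDCountIso CfsgLib.KnownC CfsgLib.KnownC.OrthType
open QuadraticMap (polar)

universe u v w

variable {F : Type u} [Field F] [Fintype F]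

section

variable {V : Type v} [AddCommGroup V] [Module F V] [FiniteDimensional F V] {Q : QuadraticForm F V}
  {T : Module.End F V} (hiso : ∀ v, Q (T v) = Q v) {W : Submodule F V} (hW : ND Q.polarBilin W) (hWi : W.map T ≤ W)

include hiso hW hWi in
/-- A unipotent isometry moves an even number of dimensions of an invariant non-degenerate part. -/
theorem rank_even (h2 : (2 : F) ≠ 0) {e : ℕ} (hN : (T - 1) ^ e = 0) :
    Even (Module.finrank F ↥(W.map (T - 1))) := by
  obtain ⟨S, hS⟩ : ∃ S : Module.End F W, S = T.restrict fun x hx => apply_mem hWi hx := ⟨_, rfl⟩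
  have hSv : ∀ x : W, ((S x : W) : V) = T x := fun x => by rw [hS]; rfl
  have hneg : ∀ x : W, S x + x = 0 → x = 0 := fun x hx => by
    have h1 : (T - 1) (x : V) = (-2 : F) • (x : V) := by
      have h : T (x : V) + (x : V) = 0 := by rw [← hSv]; exact congrArg Subtype.val hx
      rw [LinearMap.sub_apply, Module.End.one_apply, eq_neg_of_add_eq_zero_left h]
      module
    have h3 : ∀ j : ℕ, ((T - 1) ^ j) (x : V) = (-2 : F) ^ j • (x : V) := fun j => by
      induction j with
      | zero => simp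
      | succ j ih => rw [pow_succ', Module.End.mul_apply, ih, map_smul, h1, smul_smul, ← pow_succ]
    have h4 := h3 e
    rw [hN, LinearMap.zero_apply, eq_comm, smul_eq_zero] at h4
    exact Subtype.ext (h4.resolve_left (pow_ne_zero _ (neg_ne_zero.2 h2)))
  have hinj : Function.Injective ⇑(S + 1) := (injective_iff_map_eq_zero _).2 hneg
  obtain ⟨R, hR⟩ : ∃ R : W ≃ₗ[F] W, ∀ x, R x = S x + x :=
    ⟨LinearEquiv.ofBijective (S + 1) ⟨hinj, LinearMap.injective_iff_surjective.1 hinj⟩, fun x => rfl⟩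
  let D : Module.End F W := S - 1
  let K : Module.End F W := D ∘ₗ R.symm.toLinearMap
  have hpol : ∀ a b : W, polar Q (T a : V) (T b : V) = polar Q (a : V) (b : V) := fun a b =>
    IsoTwo.polar_map hiso _ _
  have hK : ∀ x : W, polar Q ((K x : W) : V) (x : V) = 0 := fun x => by
    obtain ⟨u, rfl⟩ := R.surjective x
    show polar Q ((D (R.symm (R u)) : W) : V) ((R u : W) : V) = 0
    rw [R.symm_apply_apply, hR]
    show polar Q ((S u : W) - u : V) ((S u : W) + u : V) = 0
    rw [hSv, sub_eq_add_neg, QuadraticMap.polar_add_left, QuadraticMap.polar_add_right,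
      QuadraticMap.polar_add_right, hpol, QuadraticMap.polar_neg_left, QuadraticMap.polar_neg_left,
      QuadraticMap.polar_comm Q (u : V) (T u)]
    ring
  have hKswap : ∀ a b : W, polar Q ((K a : W) : V) (b : V) = -polar Q ((K b : W) : V) (a : V) := fun a b => by
    have h := hK (a + b)
    rw [map_add, Submodule.coe_add, Submodule.coe_add, QuadraticMap.polar_add_left, QuadraticMap.polar_add_right,
      QuadraticMap.polar_add_right, hK, hK] at h
    linear_combination h
  obtain ⟨C, hC⟩ := (LinearMap.ker K).exists_isCompl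
  have hCd : Module.finrank F C = Module.finrank F ↥(W.map (T - 1)) := by
    have h := K.finrank_range_add_finrank_ker
    have := Submodule.finrank_add_eq_of_isCompl hC
    have hKR : LinearMap.range K = LinearMap.range D := by
      show LinearMap.range (D ∘ₗ R.symm.toLinearMap) = _
      rw [LinearMap.range_comp, LinearEquiv.range, Submodule.map_top]
    have hD : (LinearMap.range D).map W.subtype = W.map (T - 1) := by
      rw [← LinearMap.range_comp, show W.subtype ∘ₗ D = (T - 1).domRestrict W from LinearMap.ext fun x => by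
        show ((S x - x : W) : V) = T x - x
        rw [Submodule.coe_sub, hSv], LinearMap.range_domRestrict]
    rw [← hD, ← (Submodule.equivMapOfInjective W.subtype W.injective_subtype _).finrank_eq, ← hKR]
    omega
  rw [← hCd]
  refine OmegaElem.even_finrank_of_alt (Q.polarBilin.compl₁₂ (W.subtype ∘ₗ K ∘ₗ C.subtype) (W.subtype ∘ₗ C.subtype))
    (fun u => hK u) fun x hx => ?_
  have h0 : K (x : W) = 0 := Subtype.ext (hW _ (K (x : W)).2 fun v hv => by
    obtain ⟨a, c, hac, -⟩ := Submodule.existsUnique_add_of_isCompl hC ⟨v, hv⟩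
    have hc : polar Q ((K (x : W) : W) : V) ((c : W) : V) = 0 := hx c
    have ha : polar Q ((K (x : W) : W) : V) ((a : W) : V) = 0 := by
      rw [hKswap, LinearMap.mem_ker.1 a.2, Submodule.coe_zero, QuadraticMap.polar_zero_left, neg_zero]
    show polar Q ((K (x : W) : W) : V) v = 0
    rw [show v = ((a : W) : V) + ((c : W) : V) from (congrArg Subtype.val hac).symm,
      QuadraticMap.polar_add_right, ha, hc, add_zero])
  refine Subtype.ext ?_
  have := hC.disjoint.le_bot (x := (x : W)) ⟨LinearMap.mem_ker.2 h0, x.2⟩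
  rwa [Submodule.mem_bot] at this

omit [Fintype F] in
theorem rank_nullity :
    Module.finrank F ↥(W.map (T - 1)) + Module.finrank F ↥(W ⊓ LinearMap.ker (T - 1)) = Module.finrank F W := by
  have h := ((T - 1).domRestrict W).finrank_range_add_finrank_ker
  rw [LinearMap.range_domRestrict] at h
  rw [← h]
  congr 1
  rw [LinearMap.ker_domRestrict,
    ← (Submodule.equivMapOfInjective W.subtype W.injective_subtype _).symm.finrank_eq,
    Submodule.map_comap_subtype]

omit [Fintype F] in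
/-- Passing to a hyperplane costs at most the codimension. -/
theorem inf_le_add (W : Submodule F V) {A B : Submodule F V} (hBA : B ≤ A) :
    Module.finrank F ↥(W ⊓ A) + Module.finrank F B ≤ Module.finrank F ↥(W ⊓ B) + Module.finrank F A := by
  have h := Submodule.finrank_sup_add_finrank_inf_eq (W ⊓ A) B
  rw [inf_assoc, inf_eq_right.2 hBA] at h
  have := Submodule.finrank_mono (sup_le inf_le_right hBA : W ⊓ A ⊔ B ≤ A)
  omega

variable (h2 : (2 : F) ≠ 0) (hQ : ∀ x, (∀ y, polar Q x y = 0) → x = 0) {h : ℕ}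
  (hd : Module.finrank F W = 2 * h + 1) {S : Submodule F V} (hS : ∀ w ∈ S, Q w = 0)

include hiso hW hWi h2 hQ hd hS

/-- Image in a totally singular subspace of small codimension in the kernel: not for odd half. -/
theorem no_odd_half (hN : (T - 1) ^ 2 = 0) (hRS : LinearMap.range (T - 1) ≤ S)
    (hSK : S ≤ LinearMap.ker (T - 1)) (hKperp : LinearMap.ker (T - 1) ≤ perp Q.polarBilin S)
    (hKd : Module.finrank F ↥(LinearMap.ker (T - 1)) ≤ Module.finrank F S + 2) (hh : Odd h) : False := by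
  have hG := IsoOrth.geom hQ
  have hts := two_mul_ti_le hG hW (inf_le_left : W ⊓ S ≤ W) (IsoOrth.ti_of_ts fun w hw => hS w hw.2)
  have hrn := rank_nullity (T := T) (W := W)
  have hr : W.map (T - 1) ≤ W ⊓ S := by
    rintro _ ⟨w, hw, rfl⟩
    exact ⟨W.sub_mem (hWi ⟨w, hw, rfl⟩) hw, hRS ⟨w, rfl⟩⟩
  have hr' := Submodule.finrank_mono hr
  have ha := inf_le_add W hSK
  have ha' := Submodule.finrank_mono (le_inf inf_le_left (inf_le_right.trans (hKperp.trans (perp_antitone
    inf_le_right))) : W ⊓ LinearMap.ker (T - 1) ≤ W ⊓ perp Q.polarBilin (W ⊓ S))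
  have hd' := finrank_inf_perp hG hW (inf_le_left : W ⊓ S ≤ W)
  obtain ⟨k, hk⟩ := rank_even hiso hW hWi h2 hN
  have := Nat.odd_iff.1 hh
  omega

/-- Totally singular kernel and small second image: not for even half. -/
theorem no_even_half (hN : (T - 1) ^ 3 = 0) (hK : LinearMap.ker (T - 1) ≤ S)
    (hR : Module.finrank F ↥(LinearMap.range ((T - 1) * (T - 1))) ≤ 2) (hh : Even h) : False := by
  have hG := IsoOrth.geom hQ
  have hts := two_mul_ti_le hG hW (inf_le_left : W ⊓ S ≤ W) (IsoOrth.ti_of_ts fun w hw => hS w hw.2)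
  have hrn := rank_nullity (T := T) (W := W)
  have ha := Submodule.finrank_mono (inf_le_inf le_rfl hK : W ⊓ LinearMap.ker (T - 1) ≤ W ⊓ S)
  have hWN : W.map (T - 1) ≤ W := by
    rintro _ ⟨w, hw, rfl⟩
    exact W.sub_mem (hWi ⟨w, hw, rfl⟩) hw
  have hrn' := rank_nullity (T := T) (W := W.map (T - 1))
  have hr2 := Submodule.finrank_mono (show (W.map (T - 1)).map (T - 1) ≤ LinearMap.range ((T - 1) * (T - 1)) by
    rintro _ ⟨_, ⟨w, -, rfl⟩, rfl⟩; exact ⟨w, rfl⟩)
  have ha2 := Submodule.finrank_mono (inf_le_inf_right (LinearMap.ker (T - 1)) hWN)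
  obtain ⟨k, hk⟩ := rank_even hiso hW hWi h2 hN
  have := Nat.even_iff.1 hh
  omega

/-- One block of size three and a fixed anisotropic line: the class is determined. -/
theorem even_half_class {z : V} (hN : (T - 1) ^ 3 = 0) (hSK : S ≤ LinearMap.ker (T - 1))
    (hK : LinearMap.ker (T - 1) ≤ S ⊔ Submodule.span F {z}) (hKperp : LinearMap.ker (T - 1) ≤ perp Q.polarBilin S)
    (hRK : LinearMap.range (T - 1) ⊓ LinearMap.ker (T - 1) ≤ S)
    (hR : Module.finrank F ↥(LinearMap.range ((T - 1) * (T - 1))) ≤ 1) (hh : Even h) :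
    ∃ u ∈ W, ∃ s : F, s ≠ 0 ∧ Q u = s * s * Q z ∧ ∃ L ≤ W, (∀ x ∈ L, Q x = 0) ∧
      (∀ x ∈ L, polar Q u x = 0) ∧ Module.finrank F L = h := by
  have hG := IsoOrth.geom hQ
  have hts := two_mul_ti_le hG hW (inf_le_left : W ⊓ S ≤ W) (IsoOrth.ti_of_ts fun w hw => hS w hw.2)
  have hrn := rank_nullity (T := T) (W := W)
  have ha := inf_le_add W hSK
  have hKd : Module.finrank F ↥(LinearMap.ker (T - 1)) ≤ Module.finrank F S + 1 := by
    have h1 := Submodule.finrank_mono hK
    have h3 := Submodule.finrank_sup_add_finrank_inf_eq S (Submodule.span F {z})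
    have h4 := finrank_span_le_card (R := F) ({z} : Set V)
    simp at h4
    omega
  have hWN : W.map (T - 1) ≤ W := by
    rintro _ ⟨w, hw, rfl⟩
    exact W.sub_mem (hWi ⟨w, hw, rfl⟩) hw
  have hrn' := rank_nullity (T := T) (W := W.map (T - 1))
  have hr2 := Submodule.finrank_mono (show (W.map (T - 1)).map (T - 1) ≤ LinearMap.range ((T - 1) * (T - 1)) by
    rintro _ ⟨_, ⟨w, -, rfl⟩, rfl⟩; exact ⟨w, rfl⟩)
  have ha2 := Submodule.finrank_mono (le_inf (inf_le_left.trans hWN)
    ((inf_le_inf_right _ LinearMap.map_le_range).trans hRK) : W.map (T - 1) ⊓ LinearMap.ker (T - 1) ≤ W ⊓ S)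
  obtain ⟨k, hk⟩ := rank_even hiso hW hWi h2 hN
  have hh2 := Nat.even_iff.1 hh
  have hnot : ¬ W ⊓ LinearMap.ker (T - 1) ≤ W ⊓ S := fun hle => by
    have := Submodule.finrank_mono hle
    omega
  obtain ⟨u, ⟨huW, huK⟩, huS⟩ := SetLike.not_le_iff_exists.1 hnot
  obtain ⟨x, hx, y, hy, rfl⟩ := Submodule.mem_sup.1 (hK huK)
  obtain ⟨s, rfl⟩ := Submodule.mem_span_singleton.1 hy
  have hs : s ≠ 0 := fun hs => huS ⟨huW, by rwa [hs, zero_smul, add_zero]⟩
  refine ⟨_, huW, s, hs, ?_, W ⊓ S, inf_le_left, fun v hv => hS v hv.2, fun v hv => ?_, by omega⟩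
  · have hxy : polar Q x (s • z) = 0 := by
      have h1 : polar Q x (x + s • z) = 0 := hKperp huK x hx
      rwa [QuadraticMap.polar_add_right, polar_self_two, hS x hx, mul_zero, zero_add] at h1
    rw [QuadraticMap.map_add Q, hxy, hS x hx, QuadraticMap.map_smul, smul_eq_mul]
    ring
  · exact (QuadraticMap.polar_comm Q _ _).trans (hKperp huK v hv.2)

end

section

variable {X : Type w} [AddCommGroup X] [Module F X] [FiniteDimensional F X] {P : QuadraticForm F X}

/-- A form in odd dimension splits off only one class of lines with hyperbolic complement. -/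
theorem class_unique (h2 : (2 : F) ≠ 0) (hP : ∀ x, (∀ y, polar P x y = 0) → x = 0) {h : ℕ}
    (hX : Module.finrank F X = 2 * h + 1) {u u' : X} {L L' : Submodule F X} (hu : P u ≠ 0) (hu' : P u' ≠ 0)
    (hL : ∀ x ∈ L, P x = 0) (hL' : ∀ x ∈ L', P x = 0) (hLu : ∀ x ∈ L, polar P u x = 0)
    (hLu' : ∀ x ∈ L', polar P u' x = 0) (hd : Module.finrank F L = h) (hd' : Module.finrank F L' = h) :
    IsSquare (P u * P u') := by
  rcases Nat.eq_zero_or_pos h with rfl | hpos
  · have hu0 : u ≠ 0 := fun e => hu (by rw [e, map_zero])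
    obtain ⟨c, hc⟩ := (finrank_eq_one_iff_of_nonzero' u hu0).1 hX u'
    exact ⟨c * P u, by rw [← hc, QuadraticMap.map_smul, smul_eq_mul]; ring⟩
  have hG := IsoOrth.geom hP
  have line : ∀ v : X, P v ≠ 0 → ND P.polarBilin (Submodule.span F {v}) ∧
      Module.finrank F ↥(perp P.polarBilin (Submodule.span F {v})) = 2 * h ∧ ∀ L : Submodule F X,
        (∀ x ∈ L, P x = 0) → (∀ x ∈ L, polar P v x = 0) → Module.finrank F L = h →
        IsPlus (P.comp (perp P.polarBilin (Submodule.span F {v})).subtype) h := by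
    intro v hv
    have hv0 : v ≠ 0 := fun e => hv (by rw [e, map_zero])
    have hnd : ND P.polarBilin (Submodule.span F {v}) := fun z hz h' => by
      obtain ⟨c, rfl⟩ := Submodule.mem_span_singleton.1 hz
      have h1 : polar P (c • v) v = 0 := h' v (Submodule.mem_span_singleton_self v)
      rw [QuadraticMap.polar_smul_left, polar_self_two, smul_eq_mul, mul_eq_zero,
        or_iff_left (mul_ne_zero h2 hv)] at h1
      rw [h1, zero_smul]
    have hpd : Module.finrank F ↥(perp P.polarBilin (Submodule.span F {v})) = 2 * h := by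
      have := finrank_perp hG (Submodule.span F {v})
      rw [finrank_span_singleton hv0] at this
      omega
    refine ⟨hnd, hpd, fun L hL hLv hLd => (isPlus_comp_iff (nd_perp hG hnd) hpd).2
      ⟨L, fun x hx => ?_, hL, by omega⟩⟩
    intro z hz
    obtain ⟨c, rfl⟩ := Submodule.mem_span_singleton.1 hz
    show polar P (c • v) x = 0
    rw [QuadraticMap.polar_smul_left, hLv x hx, smul_zero]
  obtain ⟨hn, -, hpl⟩ := line u hu
  obtain ⟨hn', hpd', hpl'⟩ := line u' hu'
  obtain ⟨f, hf⟩ := hpl L hL hLu hd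
  obtain ⟨f', hf'⟩ := hpl' L' hL' hLu' hd'
  obtain ⟨U, hU⟩ : ∃ U, U = perp P.polarBilin (Submodule.span F {u}) := ⟨_, rfl⟩
  obtain ⟨g, hg, hgx⟩ := witt_quadratic P hP _ ((Submodule.subtype _) ∘ₗ (f.symm.trans f').toLinearMap)
    ((Submodule.injective_subtype _).comp (f.symm.trans f').injective) (fun x => (hf' _).trans ((hf _).symm.trans
      (congrArg (P.comp (perp P.polarBilin (Submodule.span F {u})).subtype) (f.apply_symm_apply x))))
  have hgu : g u ∈ Submodule.span F {u'} := by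
    rw [← perp_perp hG (Submodule.span F {u'})]
    intro z hz
    obtain ⟨y, hy⟩ := (f.symm.trans f').surjective ⟨z, hz⟩
    have hzy : g (y : X) = z := (hgx y).trans (congrArg Subtype.val hy)
    show polar P z (g u) = 0
    rw [← hzy, polar_quadIsom hg, QuadraticMap.polar_comm]
    exact y.2 u (Submodule.mem_span_singleton_self u)
  obtain ⟨c, hc⟩ := Submodule.mem_span_singleton.1 hgu
  exact ⟨c * P u', by rw [← hg u, ← hc, QuadraticMap.map_smul, smul_eq_mul]; ring⟩

end

section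

variable {k e : ℕ}

/-- The coordinate space of the models. -/
abbrev Space (F : Type u) (k e : ℕ) : Type u := ((Fin k ⊕ Fin e → F) × (Fin k ⊕ Fin e → F)) × (Fin 2 → F)

/-- The model form. -/
noncomputable def mq (k e : ℕ) (c : Fin 2 → F) : QuadraticForm F (Space F k e) :=
  (qfPlusOn (Fin k ⊕ Fin e)).prod (QuadraticMap.weightedSumSquares F c)
where
  qfPlusOn (I : Type) [Fintype I] : QuadraticForm F ((I → F) × (I → F)) :=
    ∑ i : I, QuadraticMap.linMulLin ((LinearMap.proj i) ∘ₗ LinearMap.fst F (I → F) (I → F))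
      ((LinearMap.proj i) ∘ₗ LinearMap.snd F (I → F) (I → F))

omit [Fintype F] in
theorem mq_apply (c : Fin 2 → F) (v : Space F k e) :
    mq k e c v = (∑ i, v.1.1 i * v.1.2 i) + ∑ j, c j * (v.2 j * v.2 j) := by
  simp [mq, mq.qfPlusOn, QuadraticMap.sum_apply, QuadraticMap.weightedSumSquares_apply]

omit [Fintype F] in
theorem polar_mq (c : Fin 2 → F) (v v' : Space F k e) :
    polar (mq k e c) v v' = (∑ i, (v.1.1 i * v'.1.2 i + v'.1.1 i * v.1.2 i)) + ∑ j, 2 * c j * (v.2 j * v'.2 j) := by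
  simp only [QuadraticMap.polar, mq_apply, Prod.fst_add, Prod.snd_add, Pi.add_apply, ← Finset.sum_add_distrib,
    ← Finset.sum_sub_distrib]
  simp only [Fin.sum_univ_two]
  rw [show ∀ a b a' b' d d' : F, a + b - (a' + b') - (d + d') = (a - a' - d) + (b - b' - d') from
    fun _ _ _ _ _ _ => by ring]
  simp only [← Finset.sum_sub_distrib]
  congr 1
  · exact Finset.sum_congr rfl fun i _ => by ring
  · ring

omit [Fintype F] in
theorem mq_sep (h2 : (2 : F) ≠ 0) {c : Fin 2 → F} (hc : ∀ j, c j ≠ 0) (x : Space F k e)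
    (hx : ∀ y, polar (mq k e c) x y = 0) : x = 0 := by
  classical
  refine Prod.ext (Prod.ext (funext fun i => ?_) (funext fun i => ?_)) (funext fun j => ?_)
  · simpa [polar_mq, Pi.single_apply] using hx ((0, Pi.single i 1), 0)
  · simpa [polar_mq, Pi.single_apply] using hx ((Pi.single i 1, 0), 0)
  · simpa [polar_mq, Pi.single_apply, h2, hc j] using hx ((0, 0), Pi.single j 1)

/-- The isometry `1 + N` of the model. -/
theorem exists_model (h2 : (2 : F) ≠ 0) {c : Fin 2 → F} (hc : ∀ j, c j ≠ 0) (hk : k ≤ 2) (he : Even e) :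
    ∃ N : Module.End F (Space F k e), (∀ v, mq k e c (v + N v) = mq k e c v) ∧ N ^ 3 = 0 ∧ (k = 0 → N ^ 2 = 0) ∧
      (∀ v, (N v).1.2 = 0) ∧ (∀ v, ∀ j : Fin 2, k ≤ (j : ℕ) → (N v).2 j = 0) ∧
      (∀ v, N v = 0 ↔ v.1.2 = 0 ∧ ∀ j : Fin 2, (j : ℕ) < k → v.2 j = 0) ∧
      Module.finrank F (LinearMap.range (N * N)) ≤ k ∧ (1 ≤ k ∨ 1 ≤ e → N ≠ 0) := by
  classical
  obtain ⟨A, hAA, hA⟩ := IsoTwo.exists_rot (F := F) he
  have hskew : ∀ f : Fin e → F, ∑ i, A f i * f i = 0 := fun f => by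
    have h := hA f (A f)
    rw [hAA] at h
    have h' : ∑ i, f i * A f i = -∑ i, f i * A f i := by
      rw [← Finset.sum_neg_distrib]
      conv_lhs => rw [← h]
      exact Finset.sum_congr rfl fun i _ => by simp [mul_comm]
    rw [eq_neg_iff_add_eq_zero, ← two_mul] at h'
    simp only [mul_comm (A f _)]
    exact (mul_eq_zero.1 h').resolve_left h2
  let σ : Fin k → Fin 2 := Fin.castLE hk
  let Y : Space F k e →ₗ[F] (Fin k ⊕ Fin e → F) := LinearMap.snd F _ _ ∘ₗ LinearMap.fst F _ _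
  let N1 : Space F k e →ₗ[F] (Fin k ⊕ Fin e → F) := LinearMap.pi (Sum.elim
    (fun j => (-2 * c (σ j)) • (LinearMap.proj (σ j) ∘ₗ LinearMap.snd F _ _) -
      c (σ j) • (LinearMap.proj (Sum.inl j) ∘ₗ Y))
    fun i => LinearMap.proj i ∘ₗ A ∘ₗ LinearMap.funLeft F F Sum.inr ∘ₗ Y)
  let N2 : Space F k e →ₗ[F] (Fin 2 → F) :=
    Function.ExtendByZero.linearMap F σ ∘ₗ LinearMap.funLeft F F Sum.inl ∘ₗ Y
  let N : Module.End F (Space F k e) := (N1.prod 0).prod N2
  have e1 : ∀ v j, (N v).1.1 (.inl j) = -2 * c (σ j) * v.2 (σ j) - c (σ j) * v.1.2 (.inl j) := fun v j => rfl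
  have e2 : ∀ v i, (N v).1.1 (.inr i) = A (fun t => v.1.2 (.inr t)) i := fun v i => rfl
  have e3 : ∀ v, (N v).1.2 = 0 := fun v => rfl
  have e4 : ∀ v (j : Fin k), (N v).2 (σ j) = v.1.2 (.inl j) := fun v j =>
    (Fin.castLE_injective hk).extend_apply (fun t : Fin k => v.1.2 (.inl t)) (0 : Fin 2 → F) j
  have e5 : ∀ v (j : Fin 2), k ≤ (j : ℕ) → (N v).2 j = 0 := fun v j hj =>
    Function.extend_apply' (fun t : Fin k => v.1.2 (.inl t)) (0 : Fin 2 → F) j fun ⟨t, ht⟩ => by
      rw [← ht] at hj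
      exact absurd t.2 (not_lt.2 hj)
  have hσ : ∀ j : Fin 2, (j : ℕ) < k → ∃ j' : Fin k, σ j' = j := fun j hj => ⟨⟨j, hj⟩, Fin.ext rfl⟩
  have hker : ∀ v, N v = 0 ↔ v.1.2 = 0 ∧ ∀ j : Fin 2, (j : ℕ) < k → v.2 j = 0 := fun v => by
    constructor
    · intro h0
      have hy : ∀ j, v.1.2 (.inl j) = 0 := fun j => by rw [← e4, h0]; rfl
      have hA0 : A (fun t => v.1.2 (.inr t)) = 0 := funext fun i => by rw [← e2, h0]; rfl
      have hy' := congrArg A hA0
      rw [hAA, map_zero, neg_eq_zero] at hy'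
      refine ⟨funext fun i => ?_, fun j hj => ?_⟩
      · rcases i with i | i
        · exact hy i
        · exact congrFun hy' i
      · obtain ⟨j', rfl⟩ := hσ j hj
        have h := e1 v j'
        rw [h0, hy, mul_zero, sub_zero] at h
        exact (mul_eq_zero.1 h.symm).resolve_left (mul_ne_zero (neg_ne_zero.2 h2) (hc _))
    · rintro ⟨hy, hz⟩
      have hz' : (fun t : Fin e => v.1.2 (.inr t)) = 0 := funext fun t => by rw [hy]; rfl
      refine Prod.ext (Prod.ext (funext fun i => ?_) (e3 v)) (funext fun j => ?_)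
      · rcases i with i | i
        · rw [e1, hy, hz _ (show ((σ i : Fin 2) : ℕ) < k from i.2)]; simp
        · rw [e2, hz', map_zero]; rfl
      · rcases lt_or_ge (j : ℕ) k with hj | hj
        · obtain ⟨j', rfl⟩ := hσ j hj
          rw [e4, hy]; rfl
        · rw [e5 v j hj]; rfl
  refine ⟨N, fun v => ?_, ?_, fun hk0 => ?_, e3, e5, hker, ?_, fun hne h0 => ?_⟩
  · have hz : ∀ j : Fin 2, c j * ((v.2 j + (N v).2 j) * (v.2 j + (N v).2 j)) - c j * (v.2 j * v.2 j) =
        if h : (j : ℕ) < k then 2 * c j * v.2 j * v.1.2 (.inl ⟨j, h⟩) + c j * (v.1.2 (.inl ⟨j, h⟩) * v.1.2 (.inl ⟨j, h⟩))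
        else 0 := fun j => by
      split_ifs with hj
      · obtain ⟨j', rfl⟩ := hσ j hj
        rw [e4]
        show _ = 2 * c (σ j') * v.2 (σ j') * v.1.2 (.inl j') + c (σ j') * (v.1.2 (.inl j') * v.1.2 (.inl j'))
        ring
      · rw [e5 v j (by omega)]; ring
    have hsum : ∑ j : Fin 2, (if h : (j : ℕ) < k then
        2 * c j * v.2 j * v.1.2 (.inl ⟨j, h⟩) + c j * (v.1.2 (.inl ⟨j, h⟩) * v.1.2 (.inl ⟨j, h⟩)) else 0) =
        ∑ j : Fin k, (2 * c (σ j) * v.2 (σ j) * v.1.2 (.inl j) +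
          c (σ j) * (v.1.2 (.inl j) * v.1.2 (.inl j))) := by
      refine (Fintype.sum_of_injective σ (Fin.castLE_injective hk) _ _ (fun j hj => ?_) fun j => ?_).symm
      · rw [dif_neg fun h => hj (hσ j h)]
      · rw [dif_pos (show ((σ j : Fin 2) : ℕ) < k from j.2)]
        rfl
    have hI : ∑ i, (v + N v).1.1 i * (v + N v).1.2 i =
        (∑ i, v.1.1 i * v.1.2 i) + ∑ j, (N v).1.1 (.inl j) * v.1.2 (.inl j) := by
      simp only [Prod.fst_add, Prod.snd_add, Pi.add_apply, e3, Pi.zero_apply, add_zero, Fintype.sum_sum_type, e2,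
        add_mul, Finset.sum_add_distrib, hskew]
    have hZ : ∑ j, c j * ((v + N v).2 j * (v + N v).2 j) = (∑ j, c j * (v.2 j * v.2 j)) +
        ∑ j : Fin k, (2 * c (σ j) * v.2 (σ j) * v.1.2 (.inl j) + c (σ j) * (v.1.2 (.inl j) * v.1.2 (.inl j))) := by
      rw [← hsum, ← sub_eq_iff_eq_add', ← Finset.sum_sub_distrib]
      exact Finset.sum_congr rfl fun j _ => hz j
    rw [mq_apply, mq_apply, hI, hZ]
    have hcancel : ∑ j, (N v).1.1 (.inl j) * v.1.2 (.inl j) +
        ∑ j : Fin k, (2 * c (σ j) * v.2 (σ j) * v.1.2 (.inl j) + c (σ j) * (v.1.2 (.inl j) * v.1.2 (.inl j))) = 0 := by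
      rw [← Finset.sum_add_distrib]
      exact Finset.sum_eq_zero fun j _ => by rw [e1]; ring
    linear_combination hcancel
  · refine LinearMap.ext fun v => ?_
    rw [pow_succ', pow_succ', pow_one, Module.End.mul_apply, Module.End.mul_apply, LinearMap.zero_apply, hker]
    refine ⟨e3 _, fun j hj => ?_⟩
    obtain ⟨j', rfl⟩ := hσ j hj
    rw [e4, e3]; rfl
  · refine LinearMap.ext fun v => ?_
    rw [sq, Module.End.mul_apply, LinearMap.zero_apply, hker]
    exact ⟨e3 _, fun j hj => absurd hj (by omega)⟩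
  · let emb : (Fin k → F) →ₗ[F] Space F k e :=
      LinearMap.inl F _ _ ∘ₗ LinearMap.inl F _ _ ∘ₗ LinearMap.pi (Sum.elim (fun j => LinearMap.proj j) fun _ => 0)
    have hle : LinearMap.range (N * N) ≤ LinearMap.range emb := by
      rintro _ ⟨v, rfl⟩
      refine ⟨fun j => (N (N v)).1.1 (.inl j), ?_⟩
      refine Prod.ext (Prod.ext (funext fun i => ?_) (e3 _).symm) (funext fun j => ?_)
      · rcases i with i | i
        · rfl
        · show (0 : F) = _
          rw [Module.End.mul_apply, e2, e3]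
          rw [show (fun t : Fin e => (0 : Fin k ⊕ Fin e → F) (.inr t)) = 0 from rfl, map_zero]
          rfl
      · show (0 : F) = _
        rw [Module.End.mul_apply]
        rcases lt_or_ge (j : ℕ) k with hj | hj
        · obtain ⟨j', rfl⟩ := hσ j hj
          rw [e4, e3]; rfl
        · rw [e5 _ j hj]
    refine (Submodule.finrank_mono hle).trans ((LinearMap.finrank_range_le _).trans ?_)
    rw [Module.finrank_fin_fun]
  · obtain ⟨i⟩ : Nonempty (Fin k ⊕ Fin e) := by
      rcases hne with h | h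
      · exact ⟨Sum.inl (⟨0, h⟩ : Fin k)⟩
      · exact ⟨Sum.inr (⟨0, h⟩ : Fin e)⟩
    have h := ((hker ((0, Pi.single i 1), 0)).1 (by rw [h0]; rfl)).1
    exact one_ne_zero (α := F) (by simpa using congrFun h i)

end

variable {V : Type v} [AddCommGroup V] [Module F V] [FiniteDimensional F V] {Q : QuadraticForm F V}
  (hQ : ∀ x, (∀ y, polar Q x y = 0) → x = 0)

include hQ in
/-- Transport of the model. -/
theorem exists_transport (h2 : (2 : F) ≠ 0) {d k e : ℕ} (hd : Module.finrank F V = 2 * d) (hke : k + e + 1 = d)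
    {c₀ : F} (hc₀ : c₀ ≠ 0) (j₀ : Fin 2) : ∃ c : Fin 2 → F, c j₀ = c₀ ∧ (∀ j, c j ≠ 0) ∧
      ∃ f : Space F k e ≃ₗ[F] V, ∀ x, Q (f x) = mq k e c x := by
  classical
  obtain ⟨ν, hν0, hν⟩ := exists_not_square (F := F) h2
  obtain ⟨c, hc₀', hc, hε⟩ : ∃ c : Fin 2 → F, c j₀ = c₀ ∧ (∀ j, c j ≠ 0) ∧
      (HasHalf Q ⊤ ↔ IsSquare (-(c 0 * c 1))) := by
    by_cases h : HasHalf Q ⊤
    · refine ⟨Function.update (fun _ => -c₀) j₀ c₀, Function.update_self .., fun j => ?_, iff_of_true h ⟨c₀, ?_⟩⟩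
      · rw [Function.update_apply]; split_ifs <;> simp [hc₀]
      · fin_cases j₀ <;> simp
    · refine ⟨Function.update (fun _ => -c₀ * ν) j₀ c₀, Function.update_self .., fun j => ?_,
        iff_of_false h fun ⟨t, ht⟩ => hν ⟨t / c₀, ?_⟩⟩
      · rw [Function.update_apply]; split_ifs <;> simp [hc₀, hν0]
      · field_simp
        fin_cases j₀ <;> simp at ht <;> linear_combination ht
  refine ⟨c, hc₀', hc, ?_⟩
  have hsd : Module.finrank F (Space F k e) = 2 * d := by simp; omega
  have hsep := mq_sep (k := k) (e := e) h2 hc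
  have htype : HasHalf (mq k e c) ⊤ ↔ IsSquare (-(c 0 * c 1)) := by
    let H : Submodule F (Space F k e) := LinearMap.ker (LinearMap.snd F _ _)
    let P : Submodule F (Space F k e) := LinearMap.ker (LinearMap.fst F _ _)
    have hH : ND (mq k e c).polarBilin H := fun x hx h => hsep x fun y => by
      have h' := h (y.1, 0) rfl
      simp only [QuadraticMap.polarBilin_apply_apply, polar_mq] at h'
      rw [polar_mq, show x.2 = 0 from hx]
      simpa [show x.2 = 0 from hx] using h'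
    have hP : ND (mq k e c).polarBilin P := fun x hx h => hsep x fun y => by
      have h' := h (0, y.2) rfl
      simp only [QuadraticMap.polarBilin_apply_apply, polar_mq] at h'
      rw [polar_mq, show x.1 = 0 from hx]
      simpa using h'
    have hperp : P ≤ perp (mq k e c).polarBilin H := fun x hx y hy => by
      show polar (mq k e c) y x = 0
      rw [polar_mq, show x.1 = 0 from hx, show y.2 = 0 from hy]
      simp
    have hHd : Module.finrank F H = 2 * (k + e) := by
      rw [show H = LinearMap.range (LinearMap.inl F ((Fin k ⊕ Fin e → F) × (Fin k ⊕ Fin e → F)) (Fin 2 → F)) from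
        LinearMap.ker_snd _ _ _, LinearMap.finrank_range_of_inj LinearMap.inl_injective]
      simp
      omega
    have hPd : Module.finrank F P = 2 * 1 := by
      rw [show P = LinearMap.range (LinearMap.inr F ((Fin k ⊕ Fin e → F) × (Fin k ⊕ Fin e → F)) (Fin 2 → F)) from
        LinearMap.ker_fst _ _ _, LinearMap.finrank_range_of_inj LinearMap.inr_injective]
      simp
    have hsi := hasHalf_sum_iff hsep hH hP hperp hHd hPd
    have htop : H ⊔ P = ⊤ := eq_top_iff.2 fun x _ => Submodule.mem_sup.2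
      ⟨(x.1, 0), rfl, (0, x.2), rfl, by simp⟩
    have hHh : HasHalf (mq k e c) H := by
      let E : (Fin k ⊕ Fin e → F) →ₗ[F] Space F k e := LinearMap.inl F _ _ ∘ₗ LinearMap.inl F _ _
      refine ⟨LinearMap.range E, ?_, ?_, ?_⟩
      · rintro _ ⟨x, rfl⟩; rfl
      · rintro _ ⟨x, rfl⟩
        simp [E, mq_apply]
      · rw [hHd, LinearMap.finrank_range_of_inj (fun a b h => by simpa [E] using h), Module.finrank_fintype_fun_eq_card]
        simp
    rw [← htop, hsi, iff_true_left hHh]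
    constructor
    · rintro ⟨L, hL, hLQ, hLd⟩
      obtain ⟨z, hz, hz0⟩ : ∃ z ∈ L, z ≠ 0 := Submodule.exists_mem_ne_zero_of_ne_bot fun e => by
        rw [e, finrank_bot, hPd] at hLd; omega
      have h0 := hLQ z hz
      rw [mq_apply, show z.1 = 0 from hL hz, Fin.sum_univ_two] at h0
      simp only [Prod.fst_zero, Prod.snd_zero, Pi.zero_apply, mul_zero, Finset.sum_const_zero, zero_add] at h0
      have hz1 : z.2 1 ≠ 0 := fun h => hz0 (by
        rw [h, mul_zero, mul_zero, add_zero, mul_eq_zero, or_iff_right (hc 0), mul_self_eq_zero] at h0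
        refine Prod.ext (hL hz) (funext fun j => ?_)
        fin_cases j <;> assumption)
      exact ⟨c 0 * z.2 0 / z.2 1, by field_simp; linear_combination -(c 0) * h0⟩
    · rintro ⟨t, ht⟩
      refine ⟨Submodule.span F {((0, 0), ![t, c 0])}, ?_, ?_, ?_⟩
      · rw [Submodule.span_singleton_le_iff_mem]; rfl
      · intro x hx
        obtain ⟨s, rfl⟩ := Submodule.mem_span_singleton.1 hx
        rw [QuadraticMap.map_smul, mq_apply]
        simp [Fin.sum_univ_two]
        right
        linear_combination -(c 0) * ht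
      · rw [finrank_span_singleton (fun h => hc 0 (by simpa using congrFun (congrArg Prod.snd h) 1)), hPd]
  obtain ⟨a, b, hab⟩ := exists_anisotropic_binary (F := F)
  rcases dichotomy (mq k e c) hsep hsd with ⟨f, hf⟩ | ⟨l, rfl, hM⟩ <;>
    rcases dichotomy Q hQ hd with ⟨f', hf'⟩ | ⟨l', hl', hM'⟩
  · exact ⟨f.symm.trans f', fun x => (hf' _).trans ((hf _).symm.trans
      (congrArg (mq k e c) (f.apply_symm_apply x)))⟩
  · obtain rfl : d = l' + 1 := hl'
    exact absurd ((isPlus_iff_hasHalf _ hQ hd).2 (hε.2 (htype.1 ((isPlus_iff_hasHalf _ hsep hsd).1 ⟨f, hf⟩))))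
      (not_plus_of_minus hab (hM' a b hab))
  · exact absurd ((isPlus_iff_hasHalf _ hsep hsd).2 (htype.2 (hε.1 ((isPlus_iff_hasHalf _ hQ hd).1 ⟨f', hf'⟩))))
      (not_plus_of_minus hab (hM a b hab))
  · obtain rfl : l' = l := by omega
    obtain ⟨f, hf⟩ := hM a b hab
    obtain ⟨f', hf'⟩ := hM' a b hab
    exact ⟨f.symm.trans f', fun x => (hf' _).trans ((hf _).symm.trans
      (congrArg (mq k e c) (f.apply_symm_apply x)))⟩

include hQ in
/-- The isometry. -/
theorem exists_unip (h2 : (2 : F) ≠ 0) {d : ℕ} (hd : Module.finrank F V = 2 * d) (hd4 : 4 ≤ d)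
    {W₀ : Submodule F V} (hW₀ : ND Q.polarBilin W₀) (hm : Odd (Module.finrank F W₀)) :
    ∃ T : Module.End F V, (∀ v, Q (T v) = Q v) ∧ (T - 1) ^ 3 = 0 ∧ T ≠ 1 ∧
      ∀ W : Submodule F V, MemberIso Q (Q.comp W₀.subtype) W → ¬ W.map T ≤ W := by
  classical
  have hG := IsoOrth.geom hQ
  obtain ⟨m, hm'⟩ : ∃ m, m = Module.finrank F W₀ := ⟨_, rfl⟩
  rw [← hm'] at hm
  have hm2 := Nat.odd_iff.1 hm
  have build : ∀ {k e : ℕ}, k ≤ 2 → Even e → k + e + 1 = d → ∀ {c₀ : F}, c₀ ≠ 0 → ∀ j₀ : Fin 2,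
      ∃ c : Fin 2 → F, c j₀ = c₀ ∧ (∀ j, c j ≠ 0) ∧ ∃ (f : Space F k e ≃ₗ[F] V) (N : Module.End F (Space F k e)),
        (∀ x, Q (f x) = mq k e c x) ∧ (∀ v, mq k e c (v + N v) = mq k e c v) ∧ N ^ 3 = 0 ∧ (k = 0 → N ^ 2 = 0) ∧
        (∀ v, (N v).1.2 = 0) ∧ (∀ v, ∀ j : Fin 2, k ≤ (j : ℕ) → (N v).2 j = 0) ∧
        (∀ v, N v = 0 ↔ v.1.2 = 0 ∧ ∀ j : Fin 2, (j : ℕ) < k → v.2 j = 0) ∧
        Module.finrank F (LinearMap.range (N * N)) ≤ k ∧ N ≠ 0 := by
    intro k e hk he hke c₀ hc₀ j₀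
    obtain ⟨c, hc, hc', f, hf⟩ := exists_transport (k := k) (e := e) hQ h2 hd hke hc₀ j₀
    obtain ⟨N, h1, h3, h4, h5, h6, h7, h8, h9⟩ := exists_model (k := k) (e := e) h2 hc' hk he
    exact ⟨c, hc, hc', f, N, hf, h1, h3, h4, h5, h6, h7, h8, h9 (by omega)⟩
  have push : ∀ {k e : ℕ} (f : Space F k e ≃ₗ[F] V) (N : Module.End F (Space F k e)) {c : Fin 2 → F},
      (∀ x, Q (f x) = mq k e c x) → (∀ v, mq k e c (v + N v) = mq k e c v) →
      ∃ T : Module.End F V, (∀ v, Q (T v) = Q v) ∧ (∀ x, (T - 1) (f x) = f (N x)) ∧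
        (∀ j, N ^ j = 0 → (T - 1) ^ j = 0) ∧ (N ≠ 0 → T ≠ 1) := by
    intro k e f N c hf hN
    refine ⟨1 + f.toLinearMap ∘ₗ N ∘ₗ f.symm.toLinearMap, fun v => ?_, fun x => ?_, fun j hj => ?_, fun hne h1 => ?_⟩
    · obtain ⟨x, rfl⟩ := f.surjective v
      rw [LinearMap.add_apply, Module.End.one_apply, LinearMap.comp_apply, LinearMap.comp_apply, LinearEquiv.coe_coe,
        LinearEquiv.coe_coe, f.symm_apply_apply, ← map_add, hf, hf, hN]
    · rw [add_sub_cancel_left]
      simp
    · refine LinearMap.ext fun v => ?_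
      obtain ⟨x, rfl⟩ := f.surjective v
      rw [add_sub_cancel_left]
      have : ∀ i : ℕ, ((f.toLinearMap ∘ₗ N ∘ₗ f.symm.toLinearMap) ^ i) (f x) = f ((N ^ i) x) := fun i => by
        induction i with
        | zero => simp
        | succ i ih => rw [pow_succ', pow_succ', Module.End.mul_apply, Module.End.mul_apply, ih]; simp
      rw [this, hj]; simp
    · refine hne (LinearMap.ext fun x => f.injective ?_)
      have h := LinearMap.congr_fun (add_eq_left.1 h1) (f x)
      simpa using h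
  have parts : ∀ {k e : ℕ} (f : Space F k e ≃ₗ[F] V) (N : Module.End F (Space F k e)) {c : Fin 2 → F}
      {T : Module.End F V}, (∀ x, Q (f x) = mq k e c x) → (∀ x, (T - 1) (f x) = f (N x)) →
      (∀ v, (N v).1.2 = 0) → (∀ v, N v = 0 ↔ v.1.2 = 0 ∧ ∀ j : Fin 2, (j : ℕ) < k → v.2 j = 0) →
      ∃ S : Submodule F V, (∀ w ∈ S, Q w = 0) ∧ (∀ x, f x ∈ S ↔ x.1.2 = 0 ∧ x.2 = 0) ∧
        S ≤ LinearMap.ker (T - 1) ∧ LinearMap.ker (T - 1) ≤ perp Q.polarBilin S ∧
        Module.finrank F ↥(LinearMap.ker (T - 1)) ≤ Module.finrank F S + (2 - k) ∧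
        Module.finrank F ↥(LinearMap.range ((T - 1) * (T - 1))) = Module.finrank F (LinearMap.range (N * N)) := by
    intro k e f N c T hf hT he3 hker
    let E : Submodule F (Space F k e) :=
      LinearMap.ker (LinearMap.snd F _ _ ∘ₗ LinearMap.fst F _ _) ⊓ LinearMap.ker (LinearMap.snd F _ _)
    have memE : ∀ x, x ∈ E ↔ x.1.2 = 0 ∧ x.2 = 0 := fun x => Iff.rfl
    have hmem : ∀ {A : Submodule F (Space F k e)} {x}, f x ∈ A.map f.toLinearMap ↔ x ∈ A := fun {A x} =>
      ⟨fun ⟨y, hy, h⟩ => f.injective h ▸ hy, fun h => ⟨x, h, rfl⟩⟩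
    have hTK : LinearMap.ker (T - 1) = (LinearMap.ker N).map f.toLinearMap := by
      refine le_antisymm (fun v hv => ?_) ?_
      · obtain ⟨x, rfl⟩ := f.surjective v
        rw [LinearMap.mem_ker, hT, map_eq_zero_iff _ f.injective] at hv
        exact ⟨x, hv, rfl⟩
      · rintro _ ⟨x, hx, rfl⟩
        show (T - 1) (f x) = 0
        rw [hT, LinearMap.mem_ker.1 hx, map_zero]
    refine ⟨E.map f.toLinearMap, ?_, fun x => hmem.trans (memE x), ?_, ?_, ?_, ?_⟩
    · rintro _ ⟨x, hx, rfl⟩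
      obtain ⟨h1, h3⟩ := (memE x).1 hx
      show Q (f x) = 0
      rw [hf, mq_apply, h1, h3]; simp
    · rw [hTK]
      exact Submodule.map_mono fun x hx => (hker x).2 ⟨hx.1, fun j _ => by rw [((memE x).1 hx).2]; rfl⟩
    · rw [hTK]
      rintro _ ⟨x, hx, rfl⟩ _ ⟨y, hy, rfl⟩
      obtain ⟨h1, h3⟩ := (memE y).1 hy
      have hx1 := ((hker x).1 hx).1
      show polar Q (f y) (f x) = 0
      simp only [QuadraticMap.polar, ← map_add, hf]
      show polar (mq k e c) y x = 0
      rw [polar_mq, h1, h3, hx1]; simp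
    · rw [hTK, LinearEquiv.finrank_map_eq, LinearEquiv.finrank_map_eq]
      let π : Space F k e →ₗ[F] ({j : Fin 2 // k ≤ (j : ℕ)} → F) :=
        LinearMap.funLeft F F Subtype.val ∘ₗ LinearMap.snd F _ _
      have h1 := (π.domRestrict (LinearMap.ker N)).finrank_range_add_finrank_ker
      have h3 := Submodule.finrank_le (LinearMap.range (π.domRestrict (LinearMap.ker N)))
      have h4 : Module.finrank F ↥(LinearMap.ker (π.domRestrict (LinearMap.ker N))) ≤ Module.finrank F E := by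
        rw [← (Submodule.equivMapOfInjective _ (LinearMap.ker N).injective_subtype _).symm.finrank_eq]
        refine Submodule.finrank_mono ?_
        rintro _ ⟨x, hx, rfl⟩
        obtain ⟨hy, hz⟩ := (hker x.1).1 x.2
        refine ⟨hy, funext fun j => ?_⟩
        rcases lt_or_ge (j : ℕ) k with hj | hj
        · exact hz j hj
        · exact congrFun (LinearMap.mem_ker.1 hx) ⟨j, hj⟩
      have h5 : Fintype.card {j : Fin 2 // k ≤ (j : ℕ)} ≤ 2 - k := by
        refine (Fintype.card_le_of_injective (fun j => (⟨(j.1 : ℕ) - k, by have := j.1.2; have := j.2; omega⟩ :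
          Fin (2 - k))) fun a b h => Subtype.ext (Fin.ext ?_)).trans (Fintype.card_fin _).le
        have := congrArg Fin.val h
        have := a.2; have := b.2
        simp at *
        omega
      rw [Module.finrank_fintype_fun_eq_card] at h3
      omega
    · rw [show LinearMap.range ((T - 1) * (T - 1)) = (LinearMap.range (N * N)).map f.toLinearMap from
        le_antisymm (by
          rintro _ ⟨v, rfl⟩
          obtain ⟨x, rfl⟩ := f.surjective v
          exact ⟨(N * N) x, ⟨x, rfl⟩, by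
            rw [Module.End.mul_apply, Module.End.mul_apply, hT, hT]; rfl⟩) (by
          rintro _ ⟨_, ⟨x, rfl⟩, rfl⟩
          exact ⟨f x, by rw [Module.End.mul_apply, Module.End.mul_apply, hT, hT]; rfl⟩), LinearEquiv.finrank_map_eq]
  rcases Nat.even_or_odd d with hde | hdo
  swap
  · obtain ⟨l, rfl⟩ := hdo
    obtain ⟨h, hh⟩ : ∃ h, m = 2 * h + 1 := hm
    rcases Nat.even_or_odd h with hhe | hho
    · obtain ⟨c, -, -, f, N, hf, hN, hN3, -, he3, -, hker, hNN, hne⟩ := build (k := 2) (e := 2 * l - 2) le_rfl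
        (Nat.even_iff.2 (by omega)) (by omega) one_ne_zero (c₀ := (1 : F)) 0
      obtain ⟨T, hT, hTN, hTj, hT1⟩ := push f N hf hN
      obtain ⟨S, hS, -, -, -, hKd, hR⟩ := parts f N hf hTN he3 hker
      refine ⟨T, hT, hTj 3 hN3, hT1 hne, fun W hW hWi => ?_⟩
      refine no_even_half hT hW.1 hWi h2 hQ (S := LinearMap.ker (T - 1)) (by
        rw [IsoNDCountIso.finrank_eq hW]; exact hm'.symm.trans hh) ?_ (hTj 3 hN3) le_rfl (hR.le.trans hNN) hhe
      intro v hv
      obtain ⟨x, rfl⟩ := f.surjective v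
      rw [LinearMap.mem_ker, hTN, map_eq_zero_iff _ f.injective, hker] at hv
      rw [hf, mq_apply, hv.1, funext fun j => hv.2 j j.2]
      simp
    · obtain ⟨c, -, -, f, N, hf, hN, hN3, hN2, he3, he5, hker, -, hne⟩ := build (k := 0) (e := 2 * l) (by omega)
        (even_two_mul l) (by omega) one_ne_zero (c₀ := (1 : F)) 0
      obtain ⟨T, hT, hTN, hTj, hT1⟩ := push f N hf hN
      obtain ⟨S, hS, memS, hSK, hKperp, hKd, -⟩ := parts f N hf hTN he3 hker
      refine ⟨T, hT, hTj 3 hN3, hT1 hne, fun W hW hWi => ?_⟩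
      refine no_odd_half hT hW.1 hWi h2 hQ (S := S) (by
        rw [IsoNDCountIso.finrank_eq hW]; exact hm'.symm.trans hh) hS (hTj 2 (hN2 rfl)) ?_ hSK hKperp hKd hho
      rintro _ ⟨v, rfl⟩
      obtain ⟨x, rfl⟩ := f.surjective v
      rw [hTN, memS]
      exact ⟨he3 x, funext fun j => he5 x j (Nat.zero_le _)⟩
  have key : ∀ U₀ : Submodule F V, ND Q.polarBilin U₀ → Module.finrank F U₀ % 4 = 1 →
      ∃ T : Module.End F V, (∀ v, Q (T v) = Q v) ∧ (T - 1) ^ 3 = 0 ∧ T ≠ 1 ∧
        ∀ W : Submodule F V, MemberIso Q (Q.comp U₀.subtype) W → ¬ W.map T ≤ W := by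
    intro U₀ hU₀ hU4
    obtain ⟨h, hh⟩ : ∃ h, Module.finrank F U₀ = 2 * h + 1 := ⟨Module.finrank F U₀ / 2, by omega⟩
    have hhe : Even h := Nat.even_iff.2 (by omega)
    obtain ⟨ν, hν0, hν⟩ := exists_not_square (F := F) h2
    let Good : F → Prop := fun c => ∀ (u : U₀) (L : Submodule F U₀), Module.finrank F L = h →
      (∀ x ∈ L, (Q.comp U₀.subtype) x = 0) → (∀ x ∈ L, polar (Q.comp U₀.subtype) u x = 0) →
      ∀ s : F, s ≠ 0 → (Q.comp U₀.subtype) u ≠ s * s * c
    obtain ⟨c₁, hc₁, hgood⟩ : ∃ c, c ≠ 0 ∧ Good c := by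
      by_contra hcon
      push Not at hcon
      have h1 := hcon 1 one_ne_zero
      have h3 := hcon ν hν0
      simp only [Good, not_forall, not_not] at h1 h3
      obtain ⟨u, L, hLd, hL, hLu, s, hs, hu⟩ := h1
      obtain ⟨u', L', hLd', hL', hLu', s', hs', hu'⟩ := h3
      obtain ⟨t, ht⟩ := class_unique h2 (sep_comp hU₀) hh (by rw [hu, mul_one]; exact mul_ne_zero hs hs)
        (by rw [hu']; exact mul_ne_zero (mul_ne_zero hs' hs') hν0) hL hL' hLu hLu' hLd hLd'
      rw [hu, hu', mul_one] at ht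
      exact hν ⟨t / (s * s'), by field_simp; linear_combination ht⟩
    obtain ⟨c, hc, -, f, N, hf, hN, hN3, -, he3, he5, hker, hNN, hne⟩ := build (k := 1) (e := d - 2) one_le_two
      (Nat.even_iff.2 (by have := Nat.even_iff.1 hde; omega)) (by omega) hc₁ 1
    obtain ⟨T, hT, hTN, hTj, hT1⟩ := push f N hf hN
    obtain ⟨S, hS, memS, hSK, hKperp, -, hR⟩ := parts f N hf hTN he3 hker
    have hK : LinearMap.ker (T - 1) ≤ S ⊔ Submodule.span F {f ((0, 0), Pi.single 1 1)} := by
      intro v hv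
      obtain ⟨x, rfl⟩ := f.surjective v
      rw [LinearMap.mem_ker, hTN, map_eq_zero_iff _ f.injective, hker] at hv
      have hx : x = ((x.1.1, 0), 0) + x.2 1 • ((0, 0), Pi.single 1 1) := by
        refine Prod.ext (Prod.ext (by simp) (by simp [hv.1])) (funext fun j => ?_)
        fin_cases j
        · simpa using hv.2 0 (by simp)
        · simp
      rw [hx, map_add, map_smul]
      exact Submodule.add_mem_sup ((memS _).2 ⟨rfl, rfl⟩)
        (Submodule.smul_mem _ _ (Submodule.mem_span_singleton_self _))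
    have hRK : LinearMap.range (T - 1) ⊓ LinearMap.ker (T - 1) ≤ S := by
      rintro _ ⟨⟨v, rfl⟩, hv⟩
      obtain ⟨x, rfl⟩ := f.surjective v
      rw [SetLike.mem_coe, LinearMap.mem_ker, hTN, hTN, map_eq_zero_iff _ f.injective, hker] at hv
      rw [hTN, memS]
      refine ⟨hv.1, funext fun j => ?_⟩
      fin_cases j
      · exact hv.2 0 (by simp)
      · exact he5 x 1 (by simp)
    refine ⟨T, hT, hTj 3 hN3, hT1 hne, fun W hW hWi => ?_⟩
    obtain ⟨u, huW, s, hs, hu, L, hLW, hL, hLu, hLd⟩ := even_half_class hT hW.1 hWi h2 hQ (h := h)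
      (by rw [IsoNDCountIso.finrank_eq hW, hh]) hS (z := f ((0, 0), Pi.single 1 1)) (hTj 3 hN3) hSK hK hKperp hRK
      (hR.le.trans hNN) hhe
    obtain ⟨-, g, hg⟩ := hW
    have hgs : ∀ y : W, (Q.comp U₀.subtype) (g.symm y) = Q (y : V) := fun y => by
      rw [← hg, g.apply_symm_apply]
    refine hgood (g.symm ⟨u, huW⟩) ((L.comap W.subtype).map g.symm.toLinearMap) ?_ ?_ ?_ s hs ?_
    · rw [LinearEquiv.finrank_map_eq, (Submodule.comapSubtypeEquivOfLe hLW).finrank_eq, hLd]
    · rintro _ ⟨y, hy, rfl⟩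
      exact (hgs y).trans (hL _ hy)
    · rintro _ ⟨y, hy, rfl⟩
      show polar (Q.comp U₀.subtype) (g.symm ⟨u, huW⟩) (g.symm y) = 0
      simp only [QuadraticMap.polar, ← map_add, hgs]
      exact hLu _ hy
    · rw [hgs, hu, hf, mq_apply, Fin.sum_univ_two]
      simp [hc]
  by_cases h4 : m % 4 = 1
  · exact key W₀ hW₀ (hm'.symm ▸ h4)
  have hP := nd_perp hG hW₀
  have hPd := finrank_perp hG W₀
  obtain ⟨T, hT, hT3, hT1, hno⟩ := key _ hP (by have := Nat.even_iff.1 hde; omega)
  refine ⟨T, hT, hT3, hT1, fun W hW hWi => hno (perp Q.polarBilin W) ?_ ?_⟩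
  · refine ⟨nd_perp hG hW.1, ?_⟩
    obtain ⟨-, g, hg⟩ := hW
    obtain ⟨G, hGq, hGx⟩ := witt_quadratic Q hQ W₀ (W.subtype ∘ₗ g.toLinearMap)
      (W.injective_subtype.comp g.injective) hg
    have hmap : (perp Q.polarBilin W₀).map G.toLinearMap = perp Q.polarBilin W := by
      refine le_antisymm ?_ fun v hv => ⟨G.symm v, ?_, G.apply_symm_apply v⟩
      · rintro _ ⟨y, hy, rfl⟩ z hz
        obtain ⟨x, hx⟩ := g.surjective ⟨z, hz⟩
        have hzx : G (x : V) = z := (hGx x).trans (congrArg Subtype.val hx)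
        show polar Q z (G y) = 0
        rw [← hzx, polar_quadIsom hGq]
        exact hy _ x.2
      · intro z hz
        show polar Q z (G.symm v) = 0
        rw [← polar_quadIsom hGq, G.apply_symm_apply, show G z = ((g ⟨z, hz⟩ : W) : V) from hGx ⟨z, hz⟩]
        exact hv _ (g ⟨z, hz⟩).2
    exact ⟨(G.submoduleMap _).trans (LinearEquiv.ofEq _ _ hmap), fun x => hGq _⟩
  · rintro _ ⟨v, hv, rfl⟩ z hz
    have hinj : Function.Injective T := (injective_iff_map_eq_zero T).2 fun x hx => hQ x fun y => by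
      rw [← IsoTwo.polar_map hT x y, hx, QuadraticMap.polar_zero_left]
    have hsurj : W.map T = W := Submodule.eq_of_le_of_finrank_le hWi
      (Submodule.equivMapOfInjective T hinj W).finrank_eq.le
    obtain ⟨z', hz', rfl⟩ : z ∈ W.map T := hsurj.symm ▸ hz
    show polar Q (T z') (T v) = 0
    rw [IsoTwo.polar_map hT]
    exact hv _ hz'

end CfsgLib.MaxSub.IsoNDOddUnip
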