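import Cfsg.Agent.Lib.MaxSub.IsoNDMain
import Cfsg.Agent.Lib.MaxSub.IsoNDCountIso
import Cfsg.Agent.Lib.MaxSub.IsoNDTwo
import Cfsg.Agent.Lib.MaxSub.IsoNDNegOne
import Cfsg.Agent.Lib.MaxSub.IsoNDOddUnip

/-!
Elements of prime order fixing non-degenerate subspaces of odd dimension, even total dimension.
-/

set_option autoImplicit false

namespace CfsgLib.MaxSub.IsoNDOddDim

open Matrix CfsgLib CfsgLib.Classical CfsgLib.Geom CfsgLib.MaxSub.IsoSemi CfsgLib.MaxSub.IsoType
  CfsgLib.MaxSub.IsoNDMain CfsgLib.MaxSub.IsoNDCountIso CfsgLib.KnownC CfsgLib.KnownC.OrthType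
open QuadraticMap (polar)

universe u

variable {F : Type u} [Field F] [Fintype F] {p : ℕ} [Fact p.Prime] [CharP F p] {ι : Type} [Fintype ι]
  [DecidableEq ι] {Q : QuadraticForm F (ι → F)}

omit [Fintype F] [DecidableEq ι] in
/-- The statements' class of subspaces. -/
theorem member_geo {W₀ : Submodule F (ι → F)} {m : ℕ} (hm : Module.finrank F W₀ = m) {W : Submodule F (ι → F)} :
    (Module.finrank F W = m ∧ Cfsg.Geo.IsNondegenerateOn (polar ⇑Q) W ∧ Cfsg.Geo.AreIsometricFor (⇑Q) W W₀) ↔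
      MemberIso Q (Q.comp W₀.subtype) W := by
  constructor
  · rintro ⟨-, hn, e, he⟩
    exact ⟨IsoNDTwo.nd_iff_geo.1 hn, e.symm, fun x =>
      (he _).symm.trans (congrArg (Q.comp W₀.subtype) (e.apply_symm_apply x))⟩
  · rintro ⟨hn, e, he⟩
    exact ⟨e.finrank_eq.symm.trans hm, IsoNDTwo.nd_iff_geo.2 hn, e.symm, fun x =>
      (he _).symm.trans (congrArg (fun y : W => Q (y : ι → F)) (e.apply_symm_apply x))⟩

/-- The arithmetic condition for `a` pieces. -/
def FitsOdd (c n m a : ℕ) : Prop := ∃ b, b ≤ a ∧ c * b ≤ m ∧ m + c * a < n + c * b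

theorem arith {i c n m : ℕ} {ε : Prop} (hc0 : 0 < c) (hmn : m < n) (hcn : c ≤ n) :
    (∀ a, Allowed i c n ε a → FitsOdd c n m a) ↔
      ((n % c = 0 ∧ ¬ (ε ↔ PType i (n / c))) ∨ m % c < n % c) := by
  have hn' : 1 ≤ n / c := (Nat.one_le_div_iff hc0).2 hcn
  have hnd := Nat.div_add_mod n c
  have hmd := Nat.div_add_mod m c
  have hkc := Nat.mod_lt n hc0
  have hlc := Nat.mod_lt m hc0
  constructor
  · intro h
    by_cases hX : n % c = 0 ∧ ¬ (ε ↔ PType i (n / c))
    · exact Or.inl hX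
    obtain ⟨b, -, hbm, hlt⟩ := h (n / c) ⟨hn', Nat.mul_div_le n c, fun he =>
      of_not_not fun h' => hX ⟨by omega, h'⟩⟩
    have hbm' : b ≤ m / c := (Nat.le_div_iff_mul_le hc0).2 (by rw [mul_comm]; exact hbm)
    have := Nat.mul_le_mul_left c hbm'
    exact Or.inr (by omega)
  · intro h a ⟨ha1, han, hat⟩
    have hane : a ≤ n / c := (Nat.le_div_iff_mul_le hc0).2 (by rw [mul_comm]; exact han)
    rcases le_or_gt (m / c) a with hma | hma
    swap
    · exact ⟨a, le_rfl, (Nat.mul_le_mul_left c hma.le).trans (Nat.mul_div_le m c), by omega⟩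
    refine ⟨m / c, hma, Nat.mul_div_le m c, ?_⟩
    rcases h with ⟨hk0, hne⟩ | hlt
    · have halt : a < n / c := lt_of_le_of_ne hane fun e => hne (by
        have := hat (by rw [e]; omega)
        rwa [e] at this)
      have := Nat.mul_le_mul_left c halt
      rw [Nat.mul_succ] at this
      omega
    · have := Nat.mul_le_mul_left c hane
      omega

variable (hQ : ∀ x, (∀ y, polar Q x y = 0) → x = 0) {r : ℕ} [hr : Fact r.Prime] {i c d m : ℕ} {ε : Prop}
  {W₀ : Submodule F (ι → F)}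

include p hQ in
/-- The criterion for odd `r ≠ p`. -/
theorem criterion (hr2 : r ≠ 2) (hrp : r ≠ p) (hi : i = orderOf (Fintype.card F : ZMod r))
    (hc : c = if Even i then i else 2 * i) (hn : Fintype.card ι = 2 * d) (hd : 3 ≤ d) (h2 : (2 : F) ≠ 0)
    (hε : HasHalf Q ⊤ ↔ ε) (hm : Odd m) (hmn : m < 2 * d) (hW₀ : ND Q.polarBilin W₀)
    (hW₀d : Module.finrank F W₀ = m)
    (hemb : ∀ k, 2 * k ≤ 2 * d → ∀ Q₀ : QuadraticForm F (Fin k ⊕ Fin k → F),
      (∀ x, (∀ y, polar Q₀ x y = 0) → x = 0) → (2 * k < 2 * d ∨ (HasHalf Q₀ ⊤ ↔ ε)) →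
      ∃ φ : (Fin k ⊕ Fin k → F) →ₗ[F] (ι → F), ∀ v, Q (φ v) = Q₀ v)
    (hcnt : r ∣ Nat.card {W : Submodule F (ι → F) // MemberIso Q (Q.comp W₀.subtype) W}) :
    (∀ x : GL ι F, x ∈ Cfsg.Geo.omegaGL (⇑Q) → x ^ r = 1 → x ≠ 1 →
      ∃ W : Submodule F (ι → F), MemberIso Q (Q.comp W₀.subtype) W ∧
        W.map (Matrix.toLin' (x : Matrix ι ι F)) ≤ W) ↔
      (((2 * d) % c = 0 ∧ ¬ (ε ↔ PType i ((2 * d) / c))) ∨ (c ≤ m ∧ m % c < (2 * d) % c)) := by
  classical
  have hrP : r.Prime := hr.out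
  have hrF : (r : F) ≠ 0 := SympOrderR.r_ne_zero (p := p) hrP hrp
  have hipos : 0 < i := SympOrderR.i_pos (F := F) (p := p) rfl hrP hrp hi
  have hG := IsoOrth.geom hQ
  have hV : Module.finrank F (ι → F) = 2 * d := by rw [Module.finrank_fintype_fun_eq_card, hn]
  have hc0 : 0 < c := by rw [hc]; split_ifs <;> omega
  have hce : Even c := by rw [hc]; split_ifs with h <;> [exact h; exact even_two_mul i]
  have hm2 := Nat.odd_iff.1 hm
  have hdim : ∀ {T : Module.End F (ι → F)}, Ctx Q.polarBilin T r →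
      ∀ {U : Submodule F (ι → F)}, ND Q.polarBilin U → U.map T ≤ U → U ≤ LinearMap.range (T - 1) →
      c ∣ Module.finrank F U ∧ ∀ k, c * k ≤ Module.finrank F U →
        ∃ W : Submodule F (ι → F), W ≤ U ∧ W.map T ≤ W ∧ ND Q.polarBilin W ∧ Module.finrank F W = c * k := by
    intro T hC U hU hUi hUR
    refine nd_dims (p := p) (c := 0) hC (fun x => by simp) ⟨fun h => ?_, fun h => ?_⟩ hU hUi hUR
    · rw [hc, if_pos ((IsoOrth.sd_iff hi hr2 hipos).1 h), hi]
    · rw [hc, if_neg (mt (IsoOrth.sd_iff (p := p) hi hr2 hipos).2 h), hi]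
  have hmem₀ : MemberIso Q (Q.comp W₀.subtype) W₀ := ⟨hW₀, LinearEquiv.refl F W₀, fun x => rfl⟩
  have hcn : c ≤ 2 * d := hV ▸ le_of_dvd_count (p := p) hQ hr2 hrp hi hc hmem₀ hcnt
  have hdimW : ∀ {W}, MemberIso Q (Q.comp W₀.subtype) W → Module.finrank F W = m := fun h =>
    (finrank_eq h).trans hW₀d
  have hfits : (∀ x : GL ι F, x ∈ Cfsg.Geo.omegaGL (⇑Q) → x ^ r = 1 → x ≠ 1 →
      ∃ W : Submodule F (ι → F), MemberIso Q (Q.comp W₀.subtype) W ∧
        W.map (Matrix.toLin' (x : Matrix ι ι F)) ≤ W) ↔ ∀ a, Allowed i c (2 * d) ε a → FitsOdd c (2 * d) m a := by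
    constructor
    · intro h a ha
      obtain ⟨x, hx, hxr, hx1, hC, hfix⟩ := exists_element (p := p) hQ hr2 hrp hi hc hn (by omega) hemb ha
      obtain ⟨W, hW, hWi⟩ := h x hx hxr hx1
      obtain ⟨T, hT⟩ : ∃ T, T = Matrix.toLin' (x : Matrix ι ι F) := ⟨_, rfl⟩
      rw [← hT] at hC hfix hWi
      have hsum := (T - 1).finrank_range_add_finrank_ker
      obtain ⟨hE', hR', -, -⟩ := IsoND.parts hQ hC hW.1 hWi
      obtain ⟨⟨b, hb⟩, -⟩ := hdim hC hR' (inv_inf hWi (inv_mov T)) inf_le_right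
      have hz := finrank_split hC hWi
      rw [hdimW hW, hb] at hz
      have hbR := Submodule.finrank_mono (inf_le_right : W ⊓ LinearMap.range (T - 1) ≤ _)
      have hzE := Submodule.finrank_mono (inf_le_right : W ⊓ LinearMap.ker (T - 1) ≤ _)
      rw [hb] at hbR
      have h1 := Nat.even_iff.1 (hce.mul_right b)
      have h3 := Nat.even_iff.1 (hce.mul_right a)
      exact ⟨b, Nat.le_of_mul_le_mul_left (show c * b ≤ c * a by omega) hc0, by omega, by omega⟩
    · intro h x hx hxr hx1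
      obtain ⟨T, hT⟩ : ∃ T, T = Matrix.toLin' (x : Matrix ι ι F) := ⟨_, rfl⟩
      rw [← hT]
      have hTr : T ^ r = 1 := by
        rw [hT, show (Matrix.toLin' (x : Matrix ι ι F)) ^ r = Matrix.toLin' ((x : Matrix ι ι F) ^ r) from
          (map_pow Matrix.toLinAlgEquiv' (x : Matrix ι ι F) r).symm, ← Units.val_pow_eq_pow_val, hxr, Units.val_one,
          Matrix.toLin'_one]
        rfl
      have hTQ : ∀ v, Q (T v) = Q v := fun v => by rw [hT, Matrix.toLin'_apply]; exact iso_of_mem hx v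
      have hC := IsoOrth.ctx hQ hrP hr2 hrF hTQ hTr
      obtain ⟨⟨a, ha⟩, hsub⟩ := hdim hC (nd_mov hC) (inv_mov T) le_rfl
      have hsum := (T - 1).finrank_range_add_finrank_ker
      rw [ha, hV] at hsum
      have ha1 : 1 ≤ a := by
        rcases Nat.eq_zero_or_pos a with rfl | ha1
        · refine absurd ?_ hx1
          rw [mul_zero] at ha
          have h0 : T - 1 = 0 := LinearMap.range_eq_bot.1 (Submodule.finrank_eq_zero.1 ha)
          refine Units.ext (Matrix.toLin'.injective ?_)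
          rw [← hT, Units.val_one, Matrix.toLin'_one, sub_eq_zero.1 h0]
          rfl
        · exact ha1
      obtain ⟨b, hba, hbm, hlt⟩ := h a ⟨ha1, by omega, fun heq => by
        obtain ⟨e, he⟩ := (hce.mul_right a).two_dvd
        have hft := fix_type hQ hC hTQ (k := d) hV (e := e) (ha.trans he)
        rw [hε, IsoND.part_type (p := p) hQ hC hTQ (nd_mov hC) (inv_mov T) le_rfl
          (by rw [← hi]; exact hc) ha, ← hi,
          Submodule.finrank_eq_zero.1 (show Module.finrank F ↥(LinearMap.ker (T - 1)) = 0 by omega)] at hft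
        simp only [PType, hasHalf_bot Q, true_iff, iff_true] at hft ⊢
        tauto⟩
      obtain ⟨X₁, hXR, hXi, hX, hXd⟩ := hsub b (ha ▸ Nat.mul_le_mul_left c hba)
      have h1 := Nat.even_iff.1 (hce.mul_right b)
      have hperp : LinearMap.ker (T - 1) ≤ perp Q.polarBilin X₁ := fun v hv y hy =>
        (QuadraticMap.polar_comm Q y v).trans (fix_le_perp hC (hXR hy) v hv)
      obtain ⟨W₁, hW₁, hW₁n, -, e, he⟩ := IsoND.fill hQ h2 (sep_comp hW₀) (nd_fix hC) hX hperp
        (by rw [hXd, hW₀d]; omega) (by rw [hXd, hW₀d]; omega)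
      refine ⟨X₁ ⊔ W₁, ⟨nd_sup hG hX hW₁n (hW₁.trans hperp), e, he⟩, inv_sup hXi ?_⟩
      rintro _ ⟨v, hv, rfl⟩
      rwa [show T v = v from sub_eq_zero.1 (show (T - 1) v = 0 from hW₁ hv)]
  have har := arith (i := i) (ε := ε) hc0 hmn hcn
  refine ⟨fun h => ?_, fun h => hfits.2 (har.2 (h.imp id And.right))⟩
  rcases har.1 (hfits.1 h) with hX | hY
  · exact Or.inl hX
  by_cases hX : (2 * d) % c = 0 ∧ ¬ (ε ↔ PType i ((2 * d) / c))
  · exact Or.inl hX
  have := Nat.mod_lt (2 * d) hc0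
  have := Nat.div_add_mod (2 * d) c
  obtain ⟨x, hx, hxr, hx1, hC, hfix⟩ := exists_element (p := p) hQ hr2 hrp hi hc hn (by omega) hemb
    (a := 2 * d / c) ⟨(Nat.one_le_div_iff hc0).2 hcn, Nat.mul_div_le _ c,
      fun he => of_not_not fun h' => hX ⟨by omega, h'⟩⟩
  obtain ⟨W, hW, hWi⟩ := h x hx hxr hx1
  exact Or.inr ⟨(le_of_fixed (p := p) hQ hr2 hrp hi hc hC
    (fun v => by rw [Matrix.toLin'_apply]; exact iso_of_mem hx v) (by omega) hcnt hW hWi).trans hW₀d.le, hY⟩

omit hr in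
include hQ in
/-- The answer for `r = 2`. -/
theorem two_iff (h2 : (2 : F) ≠ 0) (hn : Fintype.card ι = 2 * d) (hε : HasHalf Q ⊤ ↔ ε)
    (hm : Odd m) (hmn : m < 2 * d) (hW₀ : ND Q.polarBilin W₀) (hW₀d : Module.finrank F W₀ = m)
    (hex : (ε ↔ (IsSquare (-1 : F) ∨ Even d)) →
      ∃ J : Module.End F (ι → F), (∀ v, J (J v) = -v) ∧ ∀ v, Q (J v) = Q v) :
    (∀ x : GL ι F, x ∈ Cfsg.Geo.omegaGL (⇑Q) →
      (∃ z : F, ((x ^ 2 : GL ι F) : Matrix ι ι F) = z • (1 : Matrix ι ι F)) →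
      (∀ z : F, (x : Matrix ι ι F) ≠ z • (1 : Matrix ι ι F)) →
      ∃ W : Submodule F (ι → F), MemberIso Q (Q.comp W₀.subtype) W ∧
        W.map (Matrix.toLin' (x : Matrix ι ι F)) ≤ W) ↔
    ¬ ((ε ↔ (IsSquare (-1 : F) ∨ Even d)) ∧ (Even d ∨ IsSquare (2 : F))) := by
  have hV : Module.finrank F (ι → F) = 2 * d := by rw [Module.finrank_fintype_fun_eq_card, hn]
  obtain ⟨v₀, hv₀⟩ : ∃ v₀, Q v₀ ≠ 0 := by
    by_contra h
    push Not at h
    have h0 : ∀ x : ι → F, x = 0 := fun x => hQ x fun y => by simp [QuadraticMap.polar, h]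
    have h1 : Subsingleton (ι → F) := ⟨fun a b => (h0 a).trans (h0 b).symm⟩
    rw [Module.finrank_zero_of_subsingleton] at hV
    omega
  have hnone : ∀ {J : Module.End F (ι → F)}, (∀ v, J (J v) = -v) → (∀ v, Q (J v) = Q v) →
      ∀ W, MemberIso Q (Q.comp W₀.subtype) W → ¬ W.map J ≤ W := by
    intro J hJ hJQ W hW hWi
    have hd : Module.finrank F W = m := (finrank_eq hW).trans hW₀d
    by_cases hs : IsSquare (-1 : F)
    · let K : Module.End F W := J.restrict fun x hx => apply_mem hWi hx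
      have hK : ∀ x, K (K x) = -x := fun x => Subtype.ext (hJ x)
      have hKQ : ∀ x, (Q.comp W.subtype) (K x) = (Q.comp W.subtype) x := fun x => hJQ x
      obtain ⟨c, hc⟩ := hs
      have hsep := sep_comp hW.1
      obtain ⟨A, hA⟩ : ∃ A, A = LinearMap.ker (K - c • 1) := ⟨_, rfl⟩
      obtain ⟨B, hB⟩ : ∃ B, B = LinearMap.ker (K - (-c) • 1) := ⟨_, rfl⟩
      have hts : ∀ {γ : F}, γ * γ = -1 → ∀ w ∈ LinearMap.ker (K - γ • 1), (Q.comp W.subtype) w = 0 := by
        intro γ hγ w hw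
        have h := hKQ w
        rw [show K w = γ • w from sub_eq_zero.1 (show (K - γ • 1) w = 0 from hw), QuadraticMap.map_smul, hγ,
          smul_eq_mul] at h
        exact (mul_eq_zero.1 (by linear_combination -h : (2 : F) * (Q.comp W.subtype) w = 0)).resolve_left h2
      have htop : ND (Q.comp W.subtype).polarBilin (⊤ : Submodule F W) := fun u _ hu =>
        hsep u fun y => hu y Submodule.mem_top
      have h1 := two_mul_ti_le (IsoOrth.geom hsep) htop le_top (IsoOrth.ti_of_ts (hts hc.symm))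
      have h3 := two_mul_ti_le (IsoOrth.geom hsep) htop le_top
        (IsoOrth.ti_of_ts (hts (γ := -c) (by rw [neg_mul_neg, ← hc])))
      rw [← hA] at h1
      rw [← hB] at h3
      have hsup : A ⊔ B = ⊤ := eq_top_iff.2 fun v _ => by
        have hv : v = (2 : F)⁻¹ • (v - c • K v) + (2 : F)⁻¹ • (v + c • K v) := by
          rw [← smul_add, show v - c • K v + (v + c • K v) = (2 : F) • v by rw [two_smul]; abel, smul_smul,
            inv_mul_cancel₀ h2, one_smul]
        rw [hv]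
        refine Submodule.add_mem_sup (A.smul_mem _ ?_) (B.smul_mem _ ?_)
        · rw [hA, LinearMap.mem_ker, LinearMap.sub_apply, LinearMap.smul_apply, Module.End.one_apply, map_sub,
            map_smul, hK, smul_sub, smul_smul, ← hc, neg_one_smul, smul_neg]
          abel
        · rw [hB, LinearMap.mem_ker, LinearMap.sub_apply, LinearMap.smul_apply, Module.End.one_apply, map_add,
            map_smul, hK, smul_add, smul_smul, neg_mul, ← hc, neg_neg, one_smul, smul_neg, neg_smul]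
          abel
      have h5 := Submodule.finrank_add_le_finrank_add_finrank A B
      rw [hsup, finrank_top] at h5
      rw [finrank_top] at h1 h3
      have := Nat.odd_iff.1 hm
      omega
    · exact Nat.not_even_iff_odd.2 hm (hd ▸ IsoTwo.even_finrank hJ hs hWi)
  constructor
  · rintro h ⟨hε', hdΩ⟩
    obtain ⟨J, hJ, hJQ⟩ := hex hε'
    obtain ⟨x, hx, hx2, hxJ⟩ := IsoNDNegOne.exists_witness hQ h2 hn hdΩ hJ hJQ
    obtain ⟨W, hW, hWi⟩ := h x hx ⟨-1, hx2⟩ fun z hz => by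
      have hzz := IsoNDMain.scalar_sq hv₀ hx hz
      rw [sq, Units.val_mul, hz, smul_mul_smul_comm, hzz, one_mul, one_smul] at hx2
      have h1 := congrArg (fun M : Matrix ι ι F => M *ᵥ v₀) hx2
      simp only [Matrix.one_mulVec, Matrix.smul_mulVec, Matrix.neg_mulVec, neg_one_smul] at h1
      rw [eq_neg_iff_add_eq_zero, ← two_smul F, smul_eq_zero] at h1
      exact hv₀ (by rw [h1.resolve_left h2, map_zero])
    exact hnone hJ hJQ W hW (hxJ ▸ hWi)
  · rintro h x hx ⟨z, hz⟩ -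
    obtain ⟨g, hg, rfl⟩ := hx
    have hiso : ∀ v, Q (isoLin g v) = Q v := fun v => by
      rw [isoLin, Matrix.toLin'_apply]; exact (mem_isometryGroup_iff _ _).1 g.2 v
    have hTT : ∀ v, isoLin g (isoLin g v) = z • v := fun v => by
      have h := congrArg (fun M => M *ᵥ v) hz
      rw [sq, Units.val_mul, ← Matrix.mulVec_mulVec, Matrix.smul_mulVec, Matrix.one_mulVec] at h
      rw [isoLin, Matrix.toLin'_apply, Matrix.toLin'_apply]
      exact h
    show ∃ W : Submodule F (ι → F), MemberIso Q (Q.comp W₀.subtype) W ∧ W.map (isoLin g) ≤ W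
    have hz1 : z = 1 ∨ z = -1 := by
      refine mul_self_eq_one_iff.1 (mul_right_cancel₀ hv₀ (Eq.trans ?_ (one_mul _).symm))
      rw [← smul_eq_mul, ← QuadraticMap.map_smul, ← hTT, hiso, hiso]
    rcases hz1 with rfl | rfl
    · simp only [one_smul] at hTT
      obtain ⟨P, N, hP, hN, hPnd, hNnd, hperp, -, hsum⟩ := IsoTwo.eigen_split hQ h2 hiso hTT
      obtain ⟨j, hj, -⟩ := IsoTwo.involution_neg hQ h2 g hg hTT hN hNnd
      rw [hV] at hsum
      have := Nat.odd_iff.1 hm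
      obtain ⟨W, hWi, hW, -, e, he⟩ := IsoNDTwo.involution_fixes hQ h2 (fun x => (hP x).1) (fun x => (hN x).1)
        hPnd hNnd hperp (sep_comp hW₀) (by omega) (by omega)
      exact ⟨W, ⟨hW, e, he⟩, hWi⟩
    · have hJ : ∀ v, isoLin g (isoLin g v) = -v := fun v => by rw [hTT, neg_one_smul]
      exact absurd ⟨hε.symm.trans (IsoNDNegOne.type_top hQ h2 hJ hiso hV),
        (IsoNDNegOne.mem_omega_iff hQ h2 hn g hJ).1 hg⟩ h

omit hr in
include hQ in
/-- The answer for `r = p`. -/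
theorem not_all_p (h2 : (2 : F) ≠ 0) (hn : Fintype.card ι = 2 * d) (hd : 4 ≤ d) (hW₀ : ND Q.polarBilin W₀)
    (hm : Odd (Module.finrank F W₀)) :
    ¬ ∀ x : GL ι F, x ∈ Cfsg.Geo.omegaGL (⇑Q) →
      (∃ z : F, ((x ^ p : GL ι F) : Matrix ι ι F) = z • (1 : Matrix ι ι F)) →
      (∀ z : F, (x : Matrix ι ι F) ≠ z • (1 : Matrix ι ι F)) →
      ∃ W : Submodule F (ι → F), MemberIso Q (Q.comp W₀.subtype) W ∧
        W.map (Matrix.toLin' (x : Matrix ι ι F)) ≤ W := by
  intro h
  have hp : p.Prime := Fact.out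
  have hp2 : p ≠ 2 := by
    rintro rfl
    exact h2 (CharP.cast_eq_zero F 2)
  obtain ⟨T, hT, hT3, hT1, hno⟩ := IsoNDOddUnip.exists_unip hQ h2 (d := d)
    (by rw [Module.finrank_fintype_fun_eq_card, hn]) hd hW₀ hm
  haveI : Nonempty ι := Fintype.card_pos_iff.1 (by omega)
  obtain ⟨x, hx, hxp, hxT⟩ := IsoNDUnip.mem_omega_of_pow hQ h2 (hp.odd_of_ne_two hp2) hT
    (IsoNDUnip.pow_char (p := p) (by
      have := hp.two_le
      rw [show p = 3 + (p - 3) by omega, pow_add, hT3, zero_mul]))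
  obtain ⟨W, hW, hWi⟩ := h x hx ⟨1, by rw [hxp, one_smul, Units.val_one]⟩ fun z hz => hT1 (by
    have hTz : T = z • 1 := by
      rw [← hxT, hz]
      exact LinearMap.ext fun v => by rw [Matrix.toLin'_apply, Matrix.smul_mulVec, Matrix.one_mulVec]; rfl
    obtain ⟨v, hv⟩ : ∃ v : ι → F, v ≠ 0 := exists_ne 0
    have h3 : (z - 1) ^ 3 • v = 0 := by
      have h := LinearMap.congr_fun hT3 v
      rw [hTz, show z • (1 : Module.End F (ι → F)) - 1 = (z - 1) • 1 from LinearMap.ext fun w => by simp [sub_smul], _root_.smul_pow,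
        one_pow, LinearMap.smul_apply, Module.End.one_apply] at h
      exact h
    rw [hTz, sub_eq_zero.1 (pow_eq_zero_iff three_ne_zero |>.1 ((smul_eq_zero.1 h3).resolve_right hv)), one_smul])
  exact hno W hW (hxT ▸ hWi)

end CfsgLib.MaxSub.IsoNDOddDim
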