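import Cfsg.Agent.Lib.MaxSub.IsoType
import Cfsg.Agent.Lib.MaxSub.IsoTwo
import Cfsg.Agent.Lib.MaxSub.OmegaElem
import Cfsg.Agent.Lib.Geom.FormClass

/-!
Facts about the standard forms of even dimension used for non-degenerate subspaces.
-/

set_option autoImplicit false

namespace CfsgLib.MaxSub.IsoNDStd

open CfsgLib CfsgLib.Classical CfsgLib.Geom CfsgLib.MaxSub.IsoSemi CfsgLib.MaxSub.IsoType CfsgLib.KnownC
  CfsgLib.KnownC.OrthType
open QuadraticMap (polar)

universe u

variable {F : Type u} [Field F] [Fintype F]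

theorem plus_top (d : ℕ) : HasHalf (qfPlus d F) ⊤ :=
  (isPlus_iff_hasHalf _ (qfPlus_sep d) (OrthPrime.finrank_two d)).1 ⟨LinearEquiv.refl F _, fun _ => rfl⟩

theorem minus_top (l : ℕ) {a b : F} (hab : ∀ x y : F, x ^ 2 + a * x * y + b * y ^ 2 = 0 → x = 0 ∧ y = 0) :
    ¬ HasHalf (qfMinus l F a b) ⊤ := by
  rintro ⟨W, -, hW, hWd⟩
  have := OmegaElem.minus_ts_le l hab hW
  rw [finrank_top, Module.finrank_fintype_fun_eq_card] at hWd
  simp at hWd
  omega

theorem plus_emb (d k : ℕ) (hk : 2 * k ≤ 2 * d) (Q₀ : QuadraticForm F (Fin k ⊕ Fin k → F))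
    (hQ₀ : ∀ x, (∀ y, polar Q₀ x y = 0) → x = 0) (hcase : 2 * k < 2 * d ∨ (HasHalf Q₀ ⊤ ↔ True)) :
    ∃ φ : (Fin k ⊕ Fin k → F) →ₗ[F] (Fin d ⊕ Fin d → F), ∀ v, qfPlus d F (φ v) = Q₀ v := by
  rcases dichotomy Q₀ hQ₀ (OrthPrime.finrank_two (F := F) k) with ⟨e, he⟩ | ⟨l, rfl, hM⟩
  · obtain ⟨ψ, hψ⟩ := embed_plus_plus (F := F) (show k ≤ d by omega)
    exact ⟨ψ ∘ₗ e.symm.toLinearMap, fun v => by
      rw [LinearMap.comp_apply, hψ, ← he]; exact congrArg Q₀ (e.apply_symm_apply v)⟩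
  · obtain ⟨a, b, hab⟩ := exists_anisotropic_binary (F := F)
    have hlt : l + 1 < d := by
      have := hcase.resolve_right fun h => not_plus_of_minus hab (hM a b hab)
        ((isPlus_iff_hasHalf _ hQ₀ (OrthPrime.finrank_two _)).2 (h.2 trivial))
      omega
    obtain ⟨e, he⟩ := hM a b hab
    obtain ⟨ψ, hψ⟩ := embed_minus_plus (F := F) (show l + 2 ≤ d by omega) a b
    exact ⟨ψ ∘ₗ e.symm.toLinearMap, fun v => by
      rw [LinearMap.comp_apply, hψ, ← he]; exact congrArg Q₀ (e.apply_symm_apply v)⟩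

theorem minus_emb {a b : F} (hab : ∀ x y : F, x ^ 2 + a * x * y + b * y ^ 2 = 0 → x = 0 ∧ y = 0) (l k : ℕ)
    (hk : 2 * k ≤ 2 * (l + 1)) (Q₀ : QuadraticForm F (Fin k ⊕ Fin k → F))
    (hQ₀ : ∀ x, (∀ y, polar Q₀ x y = 0) → x = 0) (hcase : 2 * k < 2 * (l + 1) ∨ (HasHalf Q₀ ⊤ ↔ False)) :
    ∃ φ : (Fin k ⊕ Fin k → F) →ₗ[F] ((Fin l ⊕ Fin l) ⊕ Fin 2 → F), ∀ v, qfMinus l F a b (φ v) = Q₀ v := by
  rcases dichotomy Q₀ hQ₀ (OrthPrime.finrank_two (F := F) k) with ⟨e, he⟩ | ⟨l', rfl, hM⟩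
  · have hlt : 2 * k < 2 * (l + 1) := hcase.resolve_right fun h =>
      h.1 ((isPlus_iff_hasHalf _ hQ₀ (OrthPrime.finrank_two _)).1 ⟨e, he⟩)
    obtain ⟨ψ, hψ⟩ := embed_plus_minus (F := F) (show k ≤ l by omega) a b
    exact ⟨ψ ∘ₗ e.symm.toLinearMap, fun v => by
      rw [LinearMap.comp_apply, hψ, ← he]; exact congrArg Q₀ (e.apply_symm_apply v)⟩
  · obtain ⟨e, he⟩ := hM a b hab
    obtain ⟨ψ, hψ⟩ := embed_minus_minus (F := F) (show l' ≤ l by omega) a b
    exact ⟨ψ ∘ₗ e.symm.toLinearMap, fun v => by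
      rw [LinearMap.comp_apply, hψ, ← he]; exact congrArg Q₀ (e.apply_symm_apply v)⟩

/-- A square root of `-1` of the plus form. -/
theorem plus_J {d : ℕ} (h : IsSquare (-1 : F) ∨ Even d) :
    ∃ J : Module.End F (Fin d ⊕ Fin d → F), (∀ v, J (J v) = -v) ∧ ∀ v, qfPlus d F (J v) = qfPlus d F v := by
  obtain ⟨A, B, hA, hB, hAB⟩ : ∃ A B : Module.End F (Fin d → F), (∀ e, A (A e) = -e) ∧ (∀ e, B (B e) = -e) ∧
      ∀ e f, ∑ i, A e i * B f i = ∑ i, e i * f i := by
    rcases h with ⟨c, hc⟩ | h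
    · refine ⟨c • 1, (-c) • 1, fun e => ?_, fun e => ?_, fun e f => Finset.sum_congr rfl fun i _ => ?_⟩
      · simp [smul_smul, ← hc]
      · simp [smul_smul, ← hc]
      · simp only [LinearMap.smul_apply, Module.End.one_apply, Pi.smul_apply, smul_eq_mul]
        linear_combination (e i * f i) * hc
    · obtain ⟨A, hA, hAB⟩ := IsoTwo.exists_rot (F := F) h
      exact ⟨A, A, hA, hA, hAB⟩
  let J : Module.End F (Fin d ⊕ Fin d → F) :=
    { toFun := fun v => Sum.elim (A fun i => v (.inl i)) (B fun i => v (.inr i))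
      map_add' := fun v w => funext fun j => by
        have e1 : (fun i => (v + w) (.inl i)) = (fun i => v (.inl i)) + fun i => w (.inl i) := rfl
        have e2 : (fun i => (v + w) (.inr i)) = (fun i => v (.inr i)) + fun i => w (.inr i) := rfl
        rcases j with j | j <;> simp only [Sum.elim_inl, Sum.elim_inr, Pi.add_apply] at e1 e2 ⊢ <;>
          simp only [e1, e2, map_add, Pi.add_apply]
      map_smul' := fun c v => funext fun j => by
        have e1 : (fun i => (c • v) (.inl i)) = c • fun i => v (.inl i) := rfl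
        have e2 : (fun i => (c • v) (.inr i)) = c • fun i => v (.inr i) := rfl
        rcases j with j | j <;> simp only [Sum.elim_inl, Sum.elim_inr, Pi.smul_apply, RingHom.id_apply] at e1 e2 ⊢ <;>
          simp only [e1, e2, map_smul, Pi.smul_apply] }
  refine ⟨J, fun v => funext fun j => ?_, fun v => ?_⟩
  · rcases j with j | j
    · show A (A fun i => v (.inl i)) j = -v (.inl j)
      rw [hA]; rfl
    · show B (B fun i => v (.inr i)) j = -v (.inr j)
      rw [hB]; rfl
  · rw [qfPlus_apply, qfPlus_apply]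
    exact hAB _ _

/-- A square root of `-1` of the minus form. -/
theorem minus_J {l : ℕ} {a b : F} (hab : ∀ x y : F, x ^ 2 + a * x * y + b * y ^ 2 = 0 → x = 0 ∧ y = 0)
    (h2 : (2 : F) ≠ 0) (h : False ↔ (IsSquare (-1 : F) ∨ Even (l + 1))) :
    ∃ J : Module.End F ((Fin l ⊕ Fin l) ⊕ Fin 2 → F), (∀ v, J (J v) = -v) ∧
      ∀ v, qfMinus l F a b (J v) = qfMinus l F a b v := by
  have hns : ¬ IsSquare (-1 : F) := fun hs => h.2 (Or.inl hs)
  have hl : Even l := by
    by_contra hl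
    exact h.2 (Or.inr (Nat.even_add_one.2 hl))
  obtain ⟨A, hAA, hA⟩ := IsoTwo.exists_rot (F := F) hl
  have h01 : ∀ x y : F, x ^ 2 + 0 * x * y + 1 * y ^ 2 = 0 → x = 0 ∧ y = 0 := fun x y h => by
    have hy : y = 0 := by
      by_contra hy
      exact hns ⟨x / y, by field_simp; linear_combination -h⟩
    subst hy
    exact ⟨pow_eq_zero_iff two_ne_zero |>.1 (by linear_combination h), rfl⟩
  let J : Module.End F ((Fin l ⊕ Fin l) ⊕ Fin 2 → F) :=
    { toFun := fun v => Sum.elim (Sum.elim (A fun i => v (.inl (.inl i))) (A fun i => v (.inl (.inr i))))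
        ![-v (.inr 1), v (.inr 0)]
      map_add' := fun v w => funext fun j => by
        have e1 : (fun i => (v + w) (.inl (.inl i))) = (fun i => v (.inl (.inl i))) + fun i => w (.inl (.inl i)) := rfl
        have e2 : (fun i => (v + w) (.inl (.inr i))) = (fun i => v (.inl (.inr i))) + fun i => w (.inl (.inr i)) := rfl
        rcases j with (j | j) | j
        · simp only [Sum.elim_inl, Pi.add_apply] at e1 ⊢
          simp only [e1, map_add, Pi.add_apply]
        · simp only [Sum.elim_inl, Sum.elim_inr, Pi.add_apply] at e2 ⊢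
          simp only [e2, map_add, Pi.add_apply]
        · fin_cases j <;> simp; ring
      map_smul' := fun c v => funext fun j => by
        have e1 : (fun i => (c • v) (.inl (.inl i))) = c • fun i => v (.inl (.inl i)) := rfl
        have e2 : (fun i => (c • v) (.inl (.inr i))) = c • fun i => v (.inl (.inr i)) := rfl
        rcases j with (j | j) | j
        · simp only [Sum.elim_inl, Pi.smul_apply, RingHom.id_apply] at e1 ⊢
          simp only [e1, map_smul, Pi.smul_apply]
        · simp only [Sum.elim_inl, Sum.elim_inr, Pi.smul_apply, RingHom.id_apply] at e2 ⊢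
          simp only [e2, map_smul, Pi.smul_apply]
        · fin_cases j <;> simp }
  have hJ : ∀ v, J (J v) = -v := fun v => funext fun j => by
    rcases j with (j | j) | j
    · show A (A fun i => v (.inl (.inl i))) j = -v (.inl (.inl j))
      rw [hAA]; rfl
    · show A (A fun i => v (.inl (.inr i))) j = -v (.inl (.inr j))
      rw [hAA]; rfl
    · fin_cases j <;> simp [J]
  have hJQ : ∀ v, qfMinus l F 0 1 (J v) = qfMinus l F 0 1 v := fun v => by
    rw [qfMinus_apply, qfMinus_apply]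
    simp only [Cfsg.quadFormMinus, J, LinearMap.coe_mk, AddHom.coe_mk, Sum.elim_inl, Sum.elim_inr,
      Matrix.cons_val_zero, Matrix.cons_val_one]
    rw [hA]
    ring
  obtain ⟨S, hS⟩ := exists_scaled_minus l hab h01 (one_ne_zero (α := F))
  simp only [one_mul] at hS
  refine ⟨S.toLinearMap ∘ₗ J ∘ₗ S.symm.toLinearMap, fun v => ?_, fun v => ?_⟩
  · show S (J (S.symm (S (J (S.symm v))))) = -v
    rw [S.symm_apply_apply, hJ, map_neg, S.apply_symm_apply]
  · show qfMinus l F a b (S (J (S.symm v))) = _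
    rw [hS, hJQ, ← hS, S.apply_symm_apply]

end CfsgLib.MaxSub.IsoNDStd
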