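import Cfsg.Agent.Lib.MaxSub.IsoNDInvTwo
import Cfsg.Agent.Lib.MaxSub.IsoNDStd
import Cfsg.Agent.Lib.MaxSub.IsoNDMain
import Cfsg.Agent.Lib.Classical.InvTwoOmegaCent

/-!
Involutions of the plus orthogonal group in characteristic two and invariant hyperbolic subspaces.
-/

set_option autoImplicit false

namespace CfsgLib.MaxSub.IsoNDPlusTwo

open Matrix CfsgLib CfsgLib.Classical CfsgLib.Classical.InvTwo CfsgLib.Geom CfsgLib.MaxSub.IsoSemi
  CfsgLib.MaxSub.IsoType CfsgLib.MaxSub.IsoNDCount CfsgLib.KnownC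
open QuadraticMap (polar)

universe u

/-- A set of indices closed under pairing. -/
theorem closed_choice {d j s : ℕ} (hjd : j ≤ d) (hsd : s ≤ d) (hse : Even s) (hcond : Odd d ∨ Even j) :
    ∃ f : Fin j → Fin d, Function.Injective f ∧ ∀ i k : Fin s, (i : ℕ) / 2 = (k : ℕ) / 2 →
      Fin.castLE hsd k ∈ Set.range f → Fin.castLE hsd i ∈ Set.range f := by
  by_cases hA : Odd j ∧ j < s
  · obtain ⟨hjo, hjs⟩ := hA
    have hse := Nat.even_iff.1 hse
    have hd1 : d % 2 = 1 := Nat.odd_iff.1 (hcond.resolve_right (Nat.not_even_iff_odd.2 hjo))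
    have hj1 := Nat.odd_iff.1 hjo
    refine ⟨fun k => if (k : ℕ) + 1 < j then ⟨k, by omega⟩ else ⟨d - 1, by omega⟩, fun a b h => ?_,
      fun i k hik hk => ?_⟩
    · have := a.2; have := b.2
      simp only at h
      split_ifs at h <;> simp only [Fin.ext_iff] at h ⊢ <;> omega
    · obtain ⟨a, ha'⟩ := hk
      have := i.2; have := k.2; have := a.2
      have h' : (k : ℕ) + 1 < j := by
        simp only [Fin.ext_iff] at ha'
        split_ifs at ha' <;> simp only [Fin.val_castLE] at ha' <;> omega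
      refine ⟨⟨i, by omega⟩, ?_⟩
      exact (if_pos (show (i : ℕ) + 1 < j by omega)).trans rfl
  · refine ⟨Fin.castLE hjd, Fin.castLE_injective _, fun i k hik hk => ?_⟩
    have hse := Nat.even_iff.1 hse
    obtain ⟨a, ha'⟩ := hk
    have hka : (k : ℕ) < j := by
      simp only [Fin.ext_iff, Fin.val_castLE] at ha'
      rw [← ha']; exact a.2
    have := i.2
    refine ⟨⟨i, ?_⟩, rfl⟩
    rcases Nat.even_or_odd j with he | ho
    · have := Nat.even_iff.1 he; omega
    · have := Nat.odd_iff.1 ho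
      have : ¬ j < s := fun h => hA ⟨ho, h⟩
      omega

variable {F : Type u} [Field F] [Fintype F]

/-- The coordinate planes of some indices. -/
theorem coord_member {d j : ℕ} (f : Fin j → Fin d) (hf : Function.Injective f) :
    ∃ W : Submodule F (Fin d ⊕ Fin d → F), Member (qfPlus d F) (2 * j) True W ∧
      ∀ v, v ∈ W ↔ ∀ i, i ∉ Set.range f → v (.inl i) = 0 ∧ v (.inr i) = 0 := by
  classical
  have hg : Function.Injective (Sum.map f f) := hf.sumMap hf
  let φ : (Fin j ⊕ Fin j → F) →ₗ[F] (Fin d ⊕ Fin d → F) := Function.ExtendByZero.linearMap F (Sum.map f f)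
  have hl : ∀ (v : Fin j ⊕ Fin j → F) (k : Fin j), φ v (.inl (f k)) = v (.inl k) := fun v k => hg.extend_apply v (0 : Fin d ⊕ Fin d → F) (Sum.inl k)
  have hr : ∀ (v : Fin j ⊕ Fin j → F) (k : Fin j), φ v (.inr (f k)) = v (.inr k) := fun v k => hg.extend_apply v (0 : Fin d ⊕ Fin d → F) (Sum.inr k)
  have hl' : ∀ (v : Fin j ⊕ Fin j → F) (i : Fin d), i ∉ Set.range f → φ v (.inl i) = 0 := fun v i hi =>
    Function.extend_apply' v (0 : Fin d ⊕ Fin d → F) (Sum.inl i) (by rintro ⟨k | k, hk⟩ <;> simp at hk; exact hi ⟨k, hk⟩)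
  have hr' : ∀ (v : Fin j ⊕ Fin j → F) (i : Fin d), i ∉ Set.range f → φ v (.inr i) = 0 := fun v i hi =>
    Function.extend_apply' v (0 : Fin d ⊕ Fin d → F) (Sum.inr i) (by rintro ⟨k | k, hk⟩ <;> simp at hk; exact hi ⟨k, hk⟩)
  have hQ : ∀ v, qfPlus d F (φ v) = qfPlus j F v := fun v => by
    rw [qfPlus_apply, qfPlus_apply]
    exact (Fintype.sum_of_injective f hf _ _ (fun i hi => by rw [hl' v i hi, zero_mul])
      fun k => by rw [hl, hr]).symm
  obtain ⟨hnd, hd, e, he⟩ := IsoND.nd_range (qfPlus_sep j) φ hQ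
  refine ⟨_, ⟨hd.trans (OrthPrime.finrank_two j), hnd,
    iff_true_intro ((IsoND.hasHalf_congr e he).2 (IsoNDStd.plus_top j))⟩, fun v => ⟨?_, fun h => ?_⟩⟩
  · rintro ⟨w, rfl⟩ i hi
    exact ⟨hl' w i hi, hr' w i hi⟩
  · refine ⟨v ∘ Sum.map f f, funext fun x => ?_⟩
    rcases x with i | i <;> by_cases hi : i ∈ Set.range f
    · obtain ⟨k, rfl⟩ := hi; exact hl _ k
    · rw [hl' _ i hi, (h i hi).1]
    · obtain ⟨k, rfl⟩ := hi; exact hr _ k
    · rw [hr' _ i hi, (h i hi).2]

/-- An involution fixes hyperbolic subspaces of dimension `2 j`. -/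
theorem involution (h2 : (2 : F) = 0) {d j : ℕ} (hjd : j ≤ d) (hcond : Odd d ∨ Even j)
    (g : Cfsg.isometryGroup F (⇑(qfPlus d F))) (hg : g ^ 2 = 1) :
    ∃ W : Submodule F (Fin d ⊕ Fin d → F), Member (qfPlus d F) (2 * j) True W ∧
      W.map (qIsom (qfPlus d F) g).toLinearMap ≤ W := by
  classical
  have hsep : ∀ x, (∀ y, polar (qfPlus d F) x y = 0) → x = 0 := qfPlus_sep d
  obtain ⟨s, e, S, D⟩ := exists_qdata _ h2 hsep (qIsom_mem g) (qIsom_invol hg)
  have hsd : s ≤ d := by
    have h := two_mul_le (B := (qfPlus d F).polarBilin) (fun x hx => hsep x hx) D.tuple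
    rw [OrthPrime.finrank_two] at h
    omega
  obtain ⟨f, hf, hclosed⟩ : ∃ f : Fin j → Fin d, Function.Injective f ∧
      ((∀ i, S i i = 0) → ∀ i k : Fin s, (i : ℕ) / 2 = (k : ℕ) / 2 →
        Fin.castLE hsd k ∈ Set.range f → Fin.castLE hsd i ∈ Set.range f) := by
    by_cases ha : ∀ i, S i i = 0
    · obtain ⟨f, hf, hc⟩ := closed_choice hjd hsd (even_of_alt h2 D.symm D.unit ha) hcond
      exact ⟨f, hf, fun _ => hc⟩
    · exact ⟨Fin.castLE hjd, Fin.castLE_injective _, fun h => absurd h ha⟩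
  obtain ⟨W, hW, hWm⟩ := coord_member (F := F) f hf
  let u : Fin s → (Fin d ⊕ Fin d → F) := fun i => Pi.single (.inl (Fin.castLE hsd i)) 1
  let w : Fin s → (Fin d ⊕ Fin d → F) := fun i => Pi.single (.inr (Fin.castLE hsd i)) 1
  have hperp : ∀ i, Fin.castLE hsd i ∉ Set.range f → ∀ v ∈ W,
      polar (qfPlus d F) (u i) v = 0 ∧ polar (qfPlus d F) (w i) v = 0 := fun i hi v hv => by
    obtain ⟨h1, h3⟩ := (hWm v).1 hv _ hi
    simp [u, w, polar_qfPlus, Pi.single_apply, h1, h3]
  have hmem : ∀ i, Fin.castLE hsd i ∈ Set.range f → u i ∈ W ∧ w i ∈ W := fun i hi =>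
    ⟨(hWm _).2 fun k hk => by
      have : k ≠ Fin.castLE hsd i := fun e => hk (e ▸ hi)
      simp [u, Pi.single_apply, this],
     (hWm _).2 fun k hk => by
      have : k ≠ Fin.castLE hsd i := fun e => hk (e ▸ hi)
      simp [w, Pi.single_apply, this]⟩
  by_cases ha : ∀ i, S i i = 0
  · refine IsoNDInvTwo.member_of_model h2 hsep (qIsom_mem g) (qIsom_invol hg) D (e' := u)
      ⟨linearIndependent_of_dual u (fun i => .inl (Fin.castLE hsd i)) (fun i k => by
        simp [u, Pi.single_apply, eq_comm]), fun i k => by simp [u, polar_qfPlus, Pi.single_apply]⟩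
      (IsoNDInvTwo.pairing_symm s) (IsoNDInvTwo.pairing_unit (even_of_alt h2 D.symm D.unit ha))
      (iff_of_true ha (IsoNDInvTwo.pairing_diag s)) (fun k => ?_) hW fun T hT =>
        IsoNDInvTwo.tmap_inv hT (fun i => Fin.castLE hsd i ∈ Set.range f) (fun i hi => (hmem i hi).1)
          (fun i hi v hv => (hperp i hi v hv).1) fun i k hi hk => ?_
    · rw [IsoNDInvTwo.pairing_diag]
      refine Finset.sum_eq_zero fun i _ => mul_eq_zero_of_right _ ?_
      simp [u, qfPlus_apply, Cfsg.quadFormPlus, Pi.single_apply]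
    · rw [IsoNDInvTwo.pairing, Matrix.of_apply, if_neg]
      exact fun h => hi (hclosed ha i k h.2 hk)
  · have hs1 : (1 : ℕ) ≤ s := by
      by_contra h0
      exact ha fun i => absurd i.2 (by omega)
    refine IsoNDInvTwo.member_of_model h2 hsep (qIsom_mem g) (qIsom_invol hg) D (e' := fun i => u i + w i)
      ⟨linearIndependent_of_dual _ (fun i => .inl (Fin.castLE hsd i)) (fun i k => by
        simp [u, w, Pi.single_apply, eq_comm]), fun i k => ?_⟩
      Matrix.transpose_one isUnit_one (iff_of_false ha fun h => one_ne_zero (α := F) (by simpa using h ⟨0, hs1⟩))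
      (fun k => ?_) hW fun T hT =>
        IsoNDInvTwo.tmap_inv hT (fun i => Fin.castLE hsd i ∈ Set.range f)
          (fun i hi => W.add_mem (hmem i hi).1 (hmem i hi).2)
          (fun i hi v hv => by
            rw [QuadraticMap.polar_add_left, (hperp i hi v hv).1, (hperp i hi v hv).2, add_zero])
          fun i k hi hk => Matrix.one_apply_ne fun e => hi (e ▸ hk)
    · rcases eq_or_ne i k with rfl | hik
      · exact polarBilin_self _ h2 _
      · rw [QuadraticMap.polarBilin_apply_apply]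
        simp [u, w, polar_qfPlus, Pi.single_apply, Finset.sum_add_distrib, hik, hik.symm]
    · simp [u, w, Matrix.one_apply, qfPlus_apply, Cfsg.quadFormPlus, Pi.single_apply]

/-- The answer for `r = p = 2`. -/
theorem two_iff (h2 : (2 : F) = 0) {d m : ℕ} (hd : 3 ≤ d) (hme : Even m) (hmd : m < d) :
    (∀ x : GL (Fin d ⊕ Fin d) F, x ∈ Cfsg.Geo.omegaGL (⇑(qfPlus d F)) →
      (∃ z : F, ((x ^ 2 : GL (Fin d ⊕ Fin d) F) : Matrix (Fin d ⊕ Fin d) (Fin d ⊕ Fin d) F) = z • 1) →
      (∀ z : F, (x : Matrix (Fin d ⊕ Fin d) (Fin d ⊕ Fin d) F) ≠ z • 1) →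
      ∃ W : Submodule F (Fin d ⊕ Fin d → F), Member (qfPlus d F) m True W ∧
        W.map (Matrix.toLin' (x : Matrix (Fin d ⊕ Fin d) (Fin d ⊕ Fin d) F)) ≤ W) ↔
    (Odd d ∨ m % 4 = 0) := by
  classical
  obtain ⟨j, rfl⟩ := hme.two_dvd
  have hsep : ∀ x, (∀ y, polar (qfPlus d F) x y = 0) → x = 0 := qfPlus_sep d
  have hV : Fintype.card (Fin d ⊕ Fin d) = 2 * d := by simp; omega
  have hex : (∃ t : F, t ≠ 0 ∧ t ≠ 1) ∨ Module.finrank F (Fin d ⊕ Fin d → F) ≠ 4 :=
    exGen_of_card (Or.inr (by rw [hV]; omega))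
  constructor
  · intro h
    by_contra hne
    push Not at hne
    obtain ⟨hde, hm4⟩ := hne
    rw [Nat.not_odd_iff_even] at hde
    let e : Fin d → (Fin d ⊕ Fin d → F) := fun i => Pi.single (.inl i) 1
    have he : IsoTuple (qfPlus d F).polarBilin e :=
      ⟨linearIndependent_of_dual e Sum.inl fun i k => by simp [e, Pi.single_apply, eq_comm],
        fun i k => by simp [e, polar_qfPlus, Pi.single_apply]⟩
    obtain ⟨g', hg', hgg', hge'⟩ := exists_qinvol (qfPlus d F) h2 hsep he (IsoNDInvTwo.pairing_symm d) fun k => by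
      rw [IsoNDInvTwo.pairing_diag]
      exact Finset.sum_eq_zero fun i _ => mul_eq_zero_of_right _ (by
        simp [e, qfPlus_apply, Cfsg.quadFormPlus, Pi.single_apply])
    obtain ⟨g, hgq⟩ : ∃ g, g = orEquiv (qfPlus d F) ⟨g', hg'⟩ := ⟨_, rfl⟩
    have hgv : ∀ v, (g.1 : Matrix (Fin d ⊕ Fin d) (Fin d ⊕ Fin d) F) *ᵥ v = g' v := fun v => by
      rw [hgq]; exact orEquiv_mulVec _ _ v
    have hg2 : g ^ 2 = 1 := qIsom_injective (LinearEquiv.ext fun v => by
      rw [sq, qIsom_mul, LinearEquiv.mul_apply, qIsom_apply, qIsom_apply, hgv, hgv, hgg', qIsom_one]; rfl)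
    have hu := IsoNDInvTwo.pairing_unit (F := F) hde
    have hrank := (rank_and_alt h2 (B := (qfPlus d F).polarBilin) (polarBilin_self _ h2) (fun x hx => hsep x hx) he
      (IsoNDInvTwo.pairing_symm d) hu hge').1
    have hgΩ : g ∈ Cfsg.Omega F (⇑(qfPlus d F)) := by
      rw [mem_omega_iff_even h2 hsep hex hV g hg2, qrank_eq, hgq, qIsom_orEquiv, hrank]
      exact hde
    obtain ⟨T, hT⟩ : ∃ T, T = Matrix.toLin' (g.1 : Matrix (Fin d ⊕ Fin d) (Fin d ⊕ Fin d) F) := ⟨_, rfl⟩
    have hTN : T - 1 = tmap (qfPlus d F).polarBilin e (IsoNDInvTwo.pairing F d) := LinearMap.ext fun v => by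
      rw [hT, LinearMap.sub_apply, Module.End.one_apply, Matrix.toLin'_apply, hgv, hge', add_sub_cancel_left]
    obtain ⟨W, ⟨hWd, hW, -⟩, hWi⟩ := h g.1 ⟨g, hgΩ, rfl⟩ ⟨1, by
        rw [← SubgroupClass.coe_pow, hg2, OneMemClass.coe_one, Units.val_one, one_smul]⟩ fun z hz => by
      have hv : ∀ v, g' v = z • v := fun v => by rw [← hgv, hz, Matrix.smul_mulVec, Matrix.one_mulVec]
      have hz1 : z = 1 := by
        have h1 := hv (e ⟨0, by omega⟩)
        rw [hge', show tmap (qfPlus d F).polarBilin e (IsoNDInvTwo.pairing F d) (e ⟨0, by omega⟩) = 0 by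
          rw [tmap_apply, show co (qfPlus d F).polarBilin e (e ⟨0, by omega⟩) = 0 from funext fun i => he.iso i _,
            Matrix.mulVec_zero]
          simp, add_zero] at h1
        simpa [e] using (congrFun h1 (.inl ⟨0, by omega⟩)).symm
      rw [show g'.toLinearMap - LinearMap.id = 0 from LinearMap.ext fun v => by simp [hv, hz1],
        LinearMap.range_zero, finrank_bot] at hrank
      omega
    have hS : ∀ w ∈ Submodule.span F (Set.range e), qfPlus d F w = 0 := fun w hw => by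
      obtain ⟨c, rfl⟩ := (Submodule.mem_span_range_iff_exists_fun F).1 hw
      rw [quad_comb _ he.iso]
      exact Finset.sum_eq_zero fun i _ => mul_eq_zero_of_right _ (by
        simp [e, qfPlus_apply, Cfsg.quadFormPlus, Pi.single_apply])
    have hR : LinearMap.range (T - 1) = Submodule.span F (Set.range e) :=
      hTN ▸ range_tmap (B := (qfPlus d F).polarBilin) (fun x hx => hsep x hx) he.indep hu
    have hKR : LinearMap.ker (T - 1) = LinearMap.range (T - 1) := by
      refine (Submodule.eq_of_le_of_finrank_le ?_ ?_).symm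
      · rintro _ ⟨v, rfl⟩
        rw [LinearMap.mem_ker, hTN]
        exact tmap_tmap he _ v
      · have h1 := (T - 1).finrank_range_add_finrank_ker
        rw [OrthPrime.finrank_two, hTN, finrank_range_tmap (B := (qfPlus d F).polarBilin) (fun x hx => hsep x hx) he.indep hu] at h1
        rw [hTN, finrank_range_tmap (B := (qfPlus d F).polarBilin) (fun x hx => hsep x hx) he.indep hu]
        omega
    have hk := IsoNDInvTwo.half_even (T := T) (fun v => by
      rw [hT, Matrix.toLin'_apply]; exact (mem_isometryGroup_iff _ _).1 g.2 v) hS (hKR.le.trans hR.le) hR.le hW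
      (hT ▸ hWi) hWd (IsoOrth.geom hsep)
    obtain ⟨k, rfl⟩ := hk
    omega
  · rintro hcond x hx ⟨z, hz⟩ -
    obtain ⟨g, hg, rfl⟩ := hx
    obtain ⟨W, hW, hWi⟩ := involution h2 (j := j) (d := d) (by omega)
      (hcond.imp id fun h => Nat.even_iff.2 (by omega)) g (by
        have hz1 : z = 1 := by
          have hv : qfPlus d F (Pi.single (.inl ⟨0, by omega⟩) 1 + Pi.single (.inr ⟨0, by omega⟩) 1) ≠ 0 := by
            simp [qfPlus_apply, Cfsg.quadFormPlus, Pi.single_apply]
          have h := IsoNDMain.scalar_sq (Q := qfPlus d F) hv (pow_mem (show ((Cfsg.isometryGroup F (⇑(qfPlus d F))).subtype g) ∈ Cfsg.Geo.omegaGL (⇑(qfPlus d F)) from ⟨g, hg, rfl⟩) 2) hz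
          rcases mul_self_eq_one_iff.1 h with h | h
          · exact h
          · rw [h]; linear_combination -h2
        rw [hz1, one_smul] at hz
        exact Subtype.ext (Units.ext (by rw [SubgroupClass.coe_pow]; exact hz)))
    refine ⟨W, hW, ?_⟩
    rintro _ ⟨v, hv, rfl⟩
    rw [Matrix.toLin'_apply, show (Cfsg.isometryGroup F (⇑(qfPlus d F))).subtype g = g.1 from rfl, ← qIsom_apply]
    exact hWi ⟨v, hv, rfl⟩

end CfsgLib.MaxSub.IsoNDPlusTwo
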