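import Cfsg.Agent.Lib.MaxSub.IsoNDUnip
import Cfsg.Agent.Lib.Classical.OrthOmega

/-!
A unipotent element of the plus orthogonal group, any characteristic, fixing no elliptic subspace.
-/

set_option autoImplicit false

namespace CfsgLib.MaxSub.IsoNDPlusUnip

open Matrix CfsgLib CfsgLib.Classical CfsgLib.Geom CfsgLib.MaxSub.IsoType
open QuadraticMap (polar)

universe u

variable {F : Type u} [Field F]

/-- Products of root elements for pairs of indices. -/
theorem exists_siegel_sum {d : ℕ} {τ : Type} (a b : τ → Fin d) (hab : ∀ t, a t ≠ b t) (s : Finset τ) :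
    ∃ g ∈ siegelGroup (qfPlus d F), ∀ z, g.1 z = z + ∑ t ∈ s,
      (z (.inr (a t)) • (Pi.single (.inl (b t)) (1 : F) : Fin d ⊕ Fin d → F) -
        z (.inr (b t)) • Pi.single (.inl (a t)) 1) := by
  classical
  induction s using Finset.induction with
  | empty => exact ⟨1, one_mem _, fun z => by simp⟩
  | @insert t s ht ih =>
    obtain ⟨g, hg, hgz⟩ := ih
    let e : Fin d → (Fin d ⊕ Fin d → F) := fun i => Pi.single (.inl i) 1
    have h0 : ∀ i, qfPlus d F (e i) = 0 := fun i => by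
      simp [e, qfPlus_apply, Cfsg.quadFormPlus, Pi.single_apply]
    have hp : ∀ i z, polar (qfPlus d F) (e i) z = z (.inr i) := fun i z => by
      simp [e, polar_qfPlus, Pi.single_apply]
    have hee : polar (qfPlus d F) (e (a t)) (e (b t)) = 0 := by rw [hp]; simp [e]
    refine ⟨siegel (qfPlus d F) (e (a t)) (e (b t)) * g, mul_mem (siegel_mem _ _ _) hg, fun z => ?_⟩
    rw [Subgroup.coe_mul, LinearEquiv.mul_apply, hgz, siegel_apply _ (h0 _) hee, hp, hp, h0, zero_mul, add_zero,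
      Finset.sum_insert ht]
    simp only [Pi.add_apply, Finset.sum_apply, Pi.sub_apply, Pi.smul_apply, smul_eq_mul, Pi.single_apply,
      reduceCtorEq, if_false, mul_zero, sub_zero, Finset.sum_const_zero, add_zero, e]
    module

variable [Fintype F]

/-- An element of order `p` of `Ω` all of whose invariant even-dimensional subspaces have plus type. -/
theorem exists_unip {p : ℕ} [Fact p.Prime] [CharP F p] {d : ℕ} (hd : 3 ≤ d) :
    ∃ x : GL (Fin d ⊕ Fin d) F, x ∈ Cfsg.Geo.omegaGL (⇑(qfPlus d F)) ∧ x ^ p = 1 ∧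
      (∀ z : F, (x : Matrix (Fin d ⊕ Fin d) (Fin d ⊕ Fin d) F) ≠ z • 1) ∧
      ∀ W : Submodule F (Fin d ⊕ Fin d → F),
        W.map (Matrix.toLin' (x : Matrix (Fin d ⊕ Fin d) (Fin d ⊕ Fin d) F)) ≤ W →
        ∀ k, Module.finrank F W = 2 * k → HasHalf (qfPlus d F) W := by
  classical
  let a : Fin (d / 2) → Fin d := fun t => ⟨2 * t, by omega⟩
  let b : Fin (d / 2) → Fin d := fun t => ⟨2 * t + 1, by omega⟩
  obtain ⟨g, hg, hgz⟩ := exists_siegel_sum (F := F) a b (fun t => by simp [a, b, Fin.ext_iff]) Finset.univ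
  obtain ⟨x, hx, hxg⟩ : ∃ x : GL (Fin d ⊕ Fin d) F, x ∈ Cfsg.Geo.omegaGL (⇑(qfPlus d F)) ∧
      ∀ z, (x : Matrix (Fin d ⊕ Fin d) (Fin d ⊕ Fin d) F) *ᵥ z = g.1 z := by
    rw [← commutator_eq_siegelGroup _ (qfPlus_sep d) (by
      rw [Module.finrank_fintype_fun_eq_card]; simp; omega)] at hg
    exact ⟨((omegaEquiv _ ⟨g, hg⟩).1 : GL (Fin d ⊕ Fin d) F), ⟨_, (omegaEquiv _ ⟨g, hg⟩).2, rfl⟩,
      fun z => by rw [omegaEquiv_coe]; exact orEquiv_mulVec _ g z⟩
  obtain ⟨T, hT⟩ : ∃ T, T = Matrix.toLin' (x : Matrix (Fin d ⊕ Fin d) (Fin d ⊕ Fin d) F) := ⟨_, rfl⟩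
  have hN : ∀ z, (T - 1) z = ∑ t, (z (.inr (a t)) • (Pi.single (.inl (b t)) (1 : F) : Fin d ⊕ Fin d → F) -
      z (.inr (b t)) • Pi.single (.inl (a t)) 1) := fun z => by
    rw [LinearMap.sub_apply, Module.End.one_apply, hT, Matrix.toLin'_apply, hxg, hgz, add_sub_cancel_left]
  have hcoordb : ∀ z t, (T - 1) z (.inl (b t)) = z (.inr (a t)) := fun z t => by
    rw [hN, Finset.sum_apply, Finset.sum_eq_single t]
    · simp [a, b, Fin.ext_iff]
    · intro s _ hs
      have : (s : ℕ) ≠ t := Fin.val_ne_of_ne hs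
      rw [Pi.sub_apply, Pi.smul_apply, Pi.smul_apply, Pi.single_eq_of_ne, Pi.single_eq_of_ne] <;>
        simp [a, b, Fin.ext_iff] <;> omega
    · simp
  have hcoorda : ∀ z t, (T - 1) z (.inl (a t)) = -z (.inr (b t)) := fun z t => by
    rw [hN, Finset.sum_apply, Finset.sum_eq_single t]
    · simp [a, b, Fin.ext_iff]
    · intro s _ hs
      have : (s : ℕ) ≠ t := Fin.val_ne_of_ne hs
      rw [Pi.sub_apply, Pi.smul_apply, Pi.smul_apply, Pi.single_eq_of_ne, Pi.single_eq_of_ne] <;>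
        simp [a, b, Fin.ext_iff] <;> omega
    · simp
  let toS : (Fin d ⊕ Fin d → F) →ₗ[F] (Fin d → F) := LinearMap.funLeft F F Sum.inr
  let toX : (Fin d ⊕ Fin d → F) →ₗ[F] (Fin (2 * (d / 2)) → F) :=
    LinearMap.funLeft F F fun j => Sum.inr (Fin.castLE (by omega) j)
  obtain ⟨S, hS⟩ : ∃ S, S = LinearMap.ker toS := ⟨_, rfl⟩
  obtain ⟨X, hX⟩ : ∃ X, X = LinearMap.ker toX := ⟨_, rfl⟩
  have memS : ∀ v, v ∈ S ↔ ∀ j, v (.inr j) = 0 := fun v => by rw [hS, LinearMap.mem_ker, funext_iff]; rfl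
  have memX : ∀ v, v ∈ X ↔ ∀ j : Fin (2 * (d / 2)), v (.inr (Fin.castLE (by omega) j)) = 0 := fun v => by
    rw [hX, LinearMap.mem_ker, funext_iff]; rfl
  have hrS : ∀ z, (T - 1) z ∈ S := fun z => (memS _).2 fun j => by simp [hN, Finset.sum_apply]
  have hS0 : ∀ z ∈ S, (T - 1) z = 0 := fun z hz => by
    rw [hN]; simp [(memS z).1 hz]
  have hsq : (T - 1) ^ p = 0 := by
    have h2 : (T - 1) ^ 2 = 0 := LinearMap.ext fun z => by
      rw [sq, Module.End.mul_apply, hS0 _ (hrS z)]; rfl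
    have := (Fact.out : p.Prime).two_le
    rw [show p = 2 + (p - 2) by omega, pow_add, h2, zero_mul]
  haveI : Nonempty (Fin d ⊕ Fin d) := ⟨.inl ⟨0, by omega⟩⟩
  have hxp : x ^ p = 1 := Units.ext (Matrix.toLinAlgEquiv'.injective (by
    rw [Units.val_pow_eq_pow_val, map_pow, Units.val_one, map_one]
    exact (hT ▸ IsoNDUnip.pow_char hsq : (Matrix.toLin' (x : Matrix (Fin d ⊕ Fin d) (Fin d ⊕ Fin d) F)) ^ p = 1)))
  refine ⟨x, hx, hxp, fun z hz => ?_, fun W hW k hk =>
    IsoNDUnip.hasHalf_of_inv (T := T) (S := S) (X := X) (fun w hw => ?_) (fun v hv => ?_) ?_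
      (Or.inr ⟨fun z hz => ?_, ?_⟩) (hT ▸ hW) hk⟩
  · have h := hcoordb (Pi.single (.inr (a ⟨0, by omega⟩)) 1) ⟨0, by omega⟩
    rw [LinearMap.sub_apply, Module.End.one_apply, hT, Matrix.toLin'_apply, hz, Matrix.smul_mulVec,
      Matrix.one_mulVec, Pi.single_eq_same] at h
    simp at h
  · simp [qfPlus_apply, Cfsg.quadFormPlus, (memS w).1 hw]
  · exact (memX v).2 fun j => (memS v).1 hv _
  · have h1 := toS.finrank_range_add_finrank_ker
    have h2 := toX.finrank_range_add_finrank_ker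
    rw [LinearMap.range_eq_top.2 (LinearMap.funLeft_surjective_of_injective F F _ Sum.inr_injective), ← hS] at h1
    rw [LinearMap.range_eq_top.2 (LinearMap.funLeft_surjective_of_injective F F _
      (fun _ _ h => Fin.castLE_injective _ (Sum.inr_injective h))), ← hX] at h2
    simp [Module.finrank_fintype_fun_eq_card] at h1 h2
    omega
  · rw [LinearMap.mem_ker] at hz
    refine (memX z).2 fun j => ?_
    rcases Nat.even_or_odd' (j : ℕ) with ⟨t, ht | ht⟩
    · have h := hcoordb z ⟨t, by omega⟩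
      rw [hz, Pi.zero_apply] at h
      convert h.symm using 2
      exact congrArg Sum.inr (Fin.ext ht)
    · have h := hcoorda z ⟨t, by omega⟩
      rw [hz, Pi.zero_apply, eq_comm, neg_eq_zero] at h
      convert h using 2
      exact congrArg Sum.inr (Fin.ext ht)
  · rintro _ ⟨z, rfl⟩; exact hrS z

end CfsgLib.MaxSub.IsoNDPlusUnip
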