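import Cfsg.Agent.Lib.MaxSub.IsoSemi
import Cfsg.Agent.Lib.MaxSub.OmegaElem
import Cfsg.Agent.Lib.Geom.Symp

/-!
Invariant non-degenerate subspaces of symplectic maps whose square is `±1`.
-/

set_option autoImplicit false

namespace CfsgLib.MaxSub.IsoNDSymp

open Matrix CfsgLib CfsgLib.MaxSub.IsoSemi

universe u v

variable {F : Type u} [Field F] [Fintype F] {V : Type v} [AddCommGroup V] [Module F V] [FiniteDimensional F V]
  {B : V →ₗ[F] V →ₗ[F] F} (hG : Geom B) (halt : ∀ v, B v v = 0)

section

omit [Fintype F] [FiniteDimensional F V]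

include hG in
theorem nd_bot : ND B (⊥ : Submodule F V) := fun u hu _ => (Submodule.mem_bot F).1 hu

include halt in
theorem swap (x y : V) : B x y = -B y x := by
  have h := halt (x + y)
  simp only [map_add, LinearMap.add_apply, halt, zero_add, add_zero] at h
  linear_combination h

include hG halt in
/-- A non-orthogonal pair spans a non-degenerate plane. -/
theorem plane {a b : V} (h : B a b ≠ 0) :
    ND B (Submodule.span F {a, b}) ∧ Module.finrank F ↥(Submodule.span F {a, b}) = 2 := by
  have hba : B b a ≠ 0 := fun e => h (hG.refl _ _ e)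
  refine ⟨fun z hz hz0 => ?_, ?_⟩
  · obtain ⟨x, y, rfl⟩ := Submodule.mem_span_pair.1 hz
    have h1 := hz0 a (Submodule.subset_span (by simp))
    have h2 := hz0 b (Submodule.subset_span (by simp))
    simp only [map_add, map_smul, LinearMap.add_apply, LinearMap.smul_apply, smul_eq_mul, halt, mul_zero, zero_add,
      add_zero, mul_eq_zero, h, hba, or_false] at h1 h2
    simp [h1, h2]
  · have hli : LinearIndependent F ![a, b] := by
      rw [LinearIndependent.pair_iff]
      intro s t hst
      have h1 := congrArg (fun z => B z a) hst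
      have h2 := congrArg (fun z => B z b) hst
      simp only [map_add, map_smul, LinearMap.add_apply, LinearMap.smul_apply, smul_eq_mul, halt, mul_zero, zero_add,
        add_zero, map_zero, LinearMap.zero_apply, mul_eq_zero, h, hba, or_false] at h1 h2
      exact ⟨h2, h1⟩
    rw [show ({a, b} : Set V) = Set.range ![a, b] by simp [Matrix.range_cons, Set.pair_comm],
      finrank_span_eq_card hli, Fintype.card_fin]

theorem span_pair_inv {T : Module.End F V} {a b : V} (ha : T a ∈ Submodule.span F {a, b})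
    (hb : T b ∈ Submodule.span F {a, b}) : (Submodule.span F {a, b}).map T ≤ Submodule.span F {a, b} := by
  rw [Submodule.map_span_le]
  rintro z (rfl | rfl) <;> assumption

theorem inv_perp_of {T : Module.End F V} (hT : ∀ x y, B (T x) (T y) = B x y) {W : Submodule F V}
    (hsurj : ∀ w ∈ W, ∃ w' ∈ W, T w' = w) : (perp B W).map T ≤ perp B W := by
  rintro _ ⟨v, hv, rfl⟩ w hw
  obtain ⟨w', hw', rfl⟩ := hsurj w hw
  rw [hT]
  exact hv w' hw'

end

include hG in
/-- Stacking pieces. -/
theorem nd_stack {U P W : Submodule F V} (hP : ND B P) (hW : ND B W) (hWP : W ≤ U ⊓ perp B P) :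
    ND B (P ⊔ W) ∧ Module.finrank F ↥(P ⊔ W) = Module.finrank F P + Module.finrank F W := by
  refine ⟨nd_sup hG hP hW (hWP.trans inf_le_right), ?_⟩
  have h1 := Submodule.finrank_sup_add_finrank_inf_eq P W
  rw [show P ⊓ W = ⊥ from le_bot_iff.1 ((inf_le_inf_left P (hWP.trans inf_le_right)).trans
    ((nd_iff hG).1 hP).le), finrank_bot] at h1
  omega

include hG in
/-- Planes give every even dimension. -/
theorem exists_of_planes {T : Module.End F V} (hT : ∀ x y, B (T x) (T y) = B x y)
    (hpl : ∀ U : Submodule F V, ND B U → U.map T ≤ U → U ≠ ⊥ →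
      ∃ P ≤ U, ND B P ∧ P.map T ≤ P ∧ Module.finrank F P = 2) :
    ∀ (k : ℕ) (U : Submodule F V), ND B U → U.map T ≤ U → 2 * k ≤ Module.finrank F U →
      ∃ W ≤ U, ND B W ∧ W.map T ≤ W ∧ Module.finrank F W = 2 * k := by
  have hinj : Function.Injective T := (injective_iff_map_eq_zero T).2 fun x hx => hG.sep x fun y => by
    rw [← hT, hx, map_zero, LinearMap.zero_apply]
  have hsurj : ∀ (W : Submodule F V), W.map T ≤ W → ∀ w ∈ W, ∃ w' ∈ W, T w' = w := fun W hW w hw => by
    have : W.map T = W := Submodule.eq_of_le_of_finrank_le hW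
      (Submodule.equivMapOfInjective T hinj W).finrank_eq.le
    exact (this.symm ▸ hw : w ∈ W.map T)
  intro k
  induction k with
  | zero => exact fun U _ _ _ => ⟨⊥, bot_le, nd_bot hG, inv_bot T, by rw [finrank_bot]⟩
  | succ k ih =>
    intro U hU hUi hk
    obtain ⟨P, hPU, hP, hPi, hPd⟩ := hpl U hU hUi fun h => by rw [h, finrank_bot] at hk; omega
    have hdim := finrank_inf_perp hG hU hPU
    obtain ⟨W, hW, hWn, hWi, hWd⟩ := ih (U ⊓ perp B P) (nd_inf_perp hG hU hP hPU)
      (inv_inf hUi (inv_perp_of hT (hsurj P hPi))) (by omega)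
    obtain ⟨h1, h2⟩ := nd_stack hG (U := U) hP hWn hW
    exact ⟨P ⊔ W, sup_le hPU (hW.trans inf_le_left), h1, inv_sup hPi hWi, by omega⟩

include hG halt in
/-- Involutions in odd characteristic. -/
theorem planes_of_sq_one (h2 : (2 : F) ≠ 0) {T : Module.End F V} (hT : ∀ x y, B (T x) (T y) = B x y)
    (hTT : T * T = 1) (U : Submodule F V) (hU : ND B U) (hUi : U.map T ≤ U) (hne : U ≠ ⊥) :
    ∃ P ≤ U, ND B P ∧ P.map T ≤ P ∧ Module.finrank F P = 2 := by
  have hTT' : ∀ x, T (T x) = x := fun x => LinearMap.congr_fun hTT x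
  obtain ⟨u, hu, hu0⟩ := Submodule.exists_mem_ne_zero_of_ne_bot hne
  obtain ⟨e, s, he, he0, hes, hs⟩ : ∃ (e : V) (s : F), e ∈ U ∧ e ≠ 0 ∧ T e = s • e ∧ s * s = 1 := by
    by_cases h : u + T u = 0
    · exact ⟨u, -1, hu, hu0, by rw [neg_one_smul]; exact eq_neg_of_add_eq_zero_right h, by ring⟩
    · exact ⟨u + T u, 1, U.add_mem hu (apply_mem hUi hu), h, by rw [map_add, hTT', one_smul, add_comm], one_mul 1⟩
  obtain ⟨v, hv, hev⟩ : ∃ v ∈ U, B e v ≠ 0 := by
    by_contra hn
    push Not at hn
    exact he0 (hU e he hn)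
  obtain ⟨w, hw⟩ : ∃ w, w = v + s • T v := ⟨_, rfl⟩
  have hTw : T w = s • w := by
    rw [hw, map_add, map_smul, hTT', smul_add, smul_smul, hs, one_smul, add_comm]
  have hew : B e w = (2 : F) * B e v := by
    have h := hT e (T v)
    rw [hes, hTT', map_smul, LinearMap.smul_apply, smul_eq_mul] at h
    rw [hw, map_add, map_smul, smul_eq_mul, ← h, ← mul_assoc, hs]
    ring
  obtain ⟨h1, h3⟩ := plane hG halt (a := e) (b := w) (hew ▸ mul_ne_zero h2 hev)
  refine ⟨_, Submodule.span_le.2 ?_, h1, span_pair_inv ?_ ?_, h3⟩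
  · rintro z (rfl | rfl)
    · exact he
    · rw [hw]; exact U.add_mem hv (U.smul_mem s (apply_mem hUi hv))
  · rw [hes]; exact Submodule.smul_mem _ _ (Submodule.subset_span (by simp))
  · rw [hTw]; exact Submodule.smul_mem _ _ (Submodule.subset_span (by simp))

include hG halt in
/-- Maps with square `-1` in odd characteristic. -/
theorem planes_of_sq_neg_one (h2 : (2 : F) ≠ 0) {T : Module.End F V} (hT : ∀ x y, B (T x) (T y) = B x y)
    (hTT : T * T = -1) (U : Submodule F V) (hU : ND B U) (hUi : U.map T ≤ U) (hne : U ≠ ⊥) :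
    ∃ P ≤ U, ND B P ∧ P.map T ≤ P ∧ Module.finrank F P = 2 := by
  have hTT' : ∀ x, T (T x) = -x := fun x => LinearMap.congr_fun hTT x
  obtain ⟨v, hv, hv0⟩ : ∃ v ∈ U, B v (T v) ≠ 0 := by
    by_contra hn
    push Not at hn
    obtain ⟨u, hu, hu0⟩ := Submodule.exists_mem_ne_zero_of_ne_bot hne
    refine hu0 (hU u hu fun v hv => ?_)
    have hv' : -T v ∈ U := U.neg_mem (apply_mem hUi hv)
    have h1 := hn (u + -T v) (U.add_mem hu hv')
    have h4 := hn u hu
    have h5 := hn _ hv'
    have h3 : T (-T v) = v := by rw [map_neg, hTT', neg_neg]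
    simp only [map_add, LinearMap.add_apply, h3, h4, zero_add] at h1 h5
    rw [h5, add_zero] at h1
    have h6 : B (-T v) (T u) = B u v := by
      have h7 := hT (-T v) (T u)
      rw [h3, hTT', map_neg] at h7
      rw [← h7, swap halt v u, neg_neg]
    rw [h6] at h1
    exact (mul_eq_zero.1 (show (2 : F) * B u v = 0 by linear_combination h1)).resolve_left h2
  obtain ⟨h1, h3⟩ := plane hG halt hv0
  refine ⟨_, Submodule.span_le.2 ?_, h1, span_pair_inv (Submodule.subset_span (by simp)) ?_, h3⟩
  · rintro z (rfl | rfl)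
    · exact hv
    · exact apply_mem hUi hv
  · rw [hTT']; exact Submodule.neg_mem _ (Submodule.subset_span (by simp))

section Char2

variable (h2 : (2 : F) = 0) {T : Module.End F V} (hT : ∀ x y, B (T x) (T y) = B x y) (hTT : T * T = 1)

include hT hTT

omit [Fintype F] [FiniteDimensional F V] in
theorem apply_comm (x y : V) : B x ((T - 1) y) = B ((T - 1) x) y := by
  have h := hT x (T y)
  rw [show T (T y) = y from LinearMap.congr_fun hTT y] at h
  simp only [LinearMap.sub_apply, Module.End.one_apply, map_sub, h]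

include h2

omit [Fintype F] [FiniteDimensional F V] hT in
theorem sub_sub_apply (x : V) : (T - 1) ((T - 1) x) = 0 := by
  have h : T (T x) = x := LinearMap.congr_fun hTT x
  simp only [LinearMap.sub_apply, Module.End.one_apply, map_sub, h]
  rw [show x - T x - (T x - x) = (2 : F) • (x - T x) by rw [two_smul]; abel, h2, zero_smul]

include hG halt in
/-- Invariant non-degenerate subspaces of involutions in characteristic two. -/
theorem exists_two : ∀ (D : ℕ) (U : Submodule F V), ND B U → U.map T ≤ U → Module.finrank F U = 2 * D →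
    ∀ s ≤ D, (Odd D ∨ Even s) → ∃ W ≤ U, ND B W ∧ W.map T ≤ W ∧ Module.finrank F W = 2 * s := by
  have hinj : Function.Injective T := (injective_iff_map_eq_zero T).2 fun x hx => hG.sep x fun y => by
    rw [← hT, hx, map_zero, LinearMap.zero_apply]
  have hsurj : ∀ (W : Submodule F V), W.map T ≤ W → ∀ w ∈ W, ∃ w' ∈ W, T w' = w := fun W hW w hw =>
    ⟨T w, apply_mem hW hw, LinearMap.congr_fun hTT w⟩
  intro D
  induction D using Nat.strong_induction_on with
  | _ D ih =>
    intro U hU hUi hUd s hs hpar
    rcases Nat.eq_zero_or_pos s with rfl | hs0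
    · exact ⟨⊥, bot_le, nd_bot hG, inv_bot T, by rw [finrank_bot]⟩
    have hD2 := Nat.odd_iff (n := D)
    have hs2 := Nat.even_iff (n := s)
    have piece : ∀ P : Submodule F V, P ≤ U → ND B P → P.map T ≤ P → ∀ k, 0 < k → Module.finrank F P = 2 * k →
        ∀ s' ≤ D - k, k ≤ D → (Odd (D - k) ∨ Even s') →
        ∃ W ≤ U, (ND B W ∧ W.map T ≤ W ∧ Module.finrank F W = 2 * s') ∧
          (ND B (P ⊔ W) ∧ (P ⊔ W).map T ≤ P ⊔ W ∧ Module.finrank F ↥(P ⊔ W) = 2 * (k + s')) := by
      intro P hPU hP hPi k hk hPd s' hs' hkD hpar'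
      have hdim := finrank_inf_perp hG hU hPU
      obtain ⟨W, hW, hWn, hWi, hWd⟩ := ih (D - k) (by omega) (U ⊓ perp B P) (nd_inf_perp hG hU hP hPU)
        (inv_inf hUi (inv_perp_of hT (hsurj P hPi))) (by omega) s' hs' hpar'
      obtain ⟨h1, h3⟩ := nd_stack hG (U := U) hP hWn hW
      exact ⟨W, hW.trans inf_le_left, ⟨hWn, hWi, hWd⟩, h1, inv_sup hPi hWi, by omega⟩
    by_cases hplane : ∃ P ≤ U, ND B P ∧ P.map T ≤ P ∧ Module.finrank F P = 2
    · obtain ⟨P, hPU, hP, hPi, hPd⟩ := hplane
      by_cases hcase : Odd D ∧ Even s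
      · have := hD2.1 hcase.1
        have := hs2.1 hcase.2
        obtain ⟨W, hW, hWs, -⟩ := piece P hPU hP hPi 1 one_pos hPd s (by omega) (by omega) (Or.inr hcase.2)
        exact ⟨W, hW, hWs⟩
      · obtain ⟨W, hW, -, hWs⟩ := piece P hPU hP hPi 1 one_pos hPd (s - 1) (by omega) (by omega) (by
          rw [Nat.odd_iff, Nat.even_iff]
          rcases hpar with h | h
          · have h' : ¬ Even s := fun e => hcase ⟨h, e⟩
            rw [hs2] at h'; rw [hD2] at h; omega
          · have h' : ¬ Odd D := fun e => hcase ⟨e, h⟩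
            rw [hD2] at h'; omega)
        refine ⟨P ⊔ W, sup_le hPU hW, hWs.1, hWs.2.1, ?_⟩
        rw [hWs.2.2]; omega
    · push Not at hplane
      have hUne : U ≠ ⊥ := fun h => by rw [h, finrank_bot] at hUd; omega
      have hquad : ∀ u ∈ U, B u ((T - 1) u) = 0 := by
        intro u hu
        by_contra h
        obtain ⟨h1, h3⟩ := plane hG halt h
        refine hplane _ (Submodule.span_le.2 ?_) h1 (span_pair_inv ?_ ?_) h3
        · rintro z (rfl | rfl)
          · exact hu
          · exact U.sub_mem (apply_mem hUi hu) hu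
        · rw [show T u = u + (T - 1) u by simp]
          exact Submodule.add_mem _ (Submodule.subset_span (by simp)) (Submodule.subset_span (by simp))
        · rw [show T ((T - 1) u) = (T - 1) ((T - 1) u) + (T - 1) u by simp, sub_sub_apply h2 hTT, zero_add]
          exact Submodule.subset_span (by simp)
      obtain ⟨a, ha, b, hb, hab⟩ : ∃ a ∈ U, ∃ b ∈ U, B a ((T - 1) b) ≠ 0 := by
        by_contra hn
        push Not at hn
        obtain ⟨u, hu, hu0⟩ := Submodule.exists_mem_ne_zero_of_ne_bot hUne
        obtain ⟨v, hv, huv⟩ : ∃ v ∈ U, B u v ≠ 0 := by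
          by_contra hn'
          push Not at hn'
          exact hu0 (hU u hu hn')
        have hfix : ∀ x ∈ U, (T - 1) x = 0 := fun x hx => hU _ (U.sub_mem (apply_mem hUi hx) hx) fun y hy => by
          rw [← apply_comm hT hTT]; exact hn x hx y hy
        obtain ⟨h1, h3⟩ := plane hG halt huv
        refine hplane _ (Submodule.span_le.2 ?_) h1 (span_pair_inv ?_ ?_) h3
        · rintro z (rfl | rfl) <;> assumption
        · rw [show T u = u from sub_eq_zero.1 (hfix u hu)]; exact Submodule.subset_span (by simp)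
        · rw [show T v = v from sub_eq_zero.1 (hfix v hv)]; exact Submodule.subset_span (by simp)
      have hNT : ∀ x, T x = x + (T - 1) x := fun x => by simp
      have hNN : ∀ x, (T - 1) ((T - 1) x) = 0 := sub_sub_apply h2 hTT
      have hadj : ∀ x y, B x ((T - 1) y) = B ((T - 1) x) y := apply_comm hT hTT
      obtain ⟨P, hP⟩ : ∃ P, P = Submodule.span F (Set.range ![a, b, (T - 1) a, (T - 1) b]) := ⟨_, rfl⟩
      have hmem : ∀ i, (![a, b, (T - 1) a, (T - 1) b] : Fin 4 → V) i ∈ P := fun i =>
        hP ▸ Submodule.subset_span ⟨i, rfl⟩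
      have hPU : P ≤ U := hP ▸ Submodule.span_le.2 (by
        rintro _ ⟨i, rfl⟩
        fin_cases i
        · exact ha
        · exact hb
        · exact U.sub_mem (apply_mem hUi ha) ha
        · exact U.sub_mem (apply_mem hUi hb) hb)
      have hcoef : ∀ g : Fin 4 → F,
          (∀ i, B (∑ j, g j • (![a, b, (T - 1) a, (T - 1) b] : Fin 4 → V) j) (![a, b, (T - 1) a, (T - 1) b] i) = 0) →
          ∀ i, g i = 0 := by
        intro g hg
        have hab' : B ((T - 1) a) b ≠ 0 := by rw [← hadj]; exact hab
        have hba : B b ((T - 1) a) ≠ 0 := fun e => hab' (hG.refl _ _ e)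
        have hba' : B ((T - 1) b) a ≠ 0 := fun e => hab (hG.refl _ _ e)
        have haa : B ((T - 1) a) a = 0 := by rw [← hadj]; exact hquad a ha
        have hbb : B ((T - 1) b) b = 0 := by rw [← hadj]; exact hquad b hb
        have hNN' : ∀ x y, B ((T - 1) x) ((T - 1) y) = 0 := fun x y => by rw [hadj, hNN, map_zero, LinearMap.zero_apply]
        have e0 := hg 0
        have e1 := hg 1
        have e2 := hg 2
        have e3 := hg 3
        simp only [Fin.sum_univ_four, Matrix.cons_val_zero, Matrix.cons_val_one, Matrix.cons_val, map_add, map_smul,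
          LinearMap.add_apply, LinearMap.smul_apply, smul_eq_mul, halt, hquad a ha, hquad b hb, haa, hbb, hNN',
          mul_zero, add_zero, zero_add, mul_eq_zero, hab, hab', hba, hba', or_false] at e0 e1 e2 e3
        simp only [e2, e3, zero_mul, zero_add, add_zero, mul_eq_zero, hab', hba', or_false] at e0 e1
        intro i
        fin_cases i
        · exact e3
        · exact e2
        · exact e1
        · exact e0
      have hPn : ND B P := fun z hz hz0 => by
        rw [hP, Submodule.mem_span_range_iff_exists_fun] at hz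
        obtain ⟨g, rfl⟩ := hz
        simp [hcoef g fun i => hz0 _ (hmem i)]
      have hPd : Module.finrank F P = 2 * 2 := by
        have hli : LinearIndependent F (![a, b, (T - 1) a, (T - 1) b] : Fin 4 → V) :=
          Fintype.linearIndependent_iff.2 fun g hg => hcoef g fun i => by rw [hg, map_zero, LinearMap.zero_apply]
        rw [hP, finrank_span_eq_card hli]; simp
      have hPi : P.map T ≤ P := by
        rw [hP, Submodule.map_span_le]
        rintro _ ⟨i, rfl⟩
        rw [hNT, ← hP]
        refine P.add_mem (hmem i) ?_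
        fin_cases i
        · exact hmem 2
        · exact hmem 3
        · show (T - 1) ((T - 1) a) ∈ P
          rw [hNN]; exact P.zero_mem
        · show (T - 1) ((T - 1) b) ∈ P
          rw [hNN]; exact P.zero_mem
      have hD : 2 ≤ D := by have := Submodule.finrank_mono hPU; omega
      rcases Nat.lt_or_ge s 2 with h | h
      · have hs1 : s = 1 := by omega
        subst hs1
        have hDo := hpar.resolve_right Nat.not_even_one
        have := hD2.1 hDo
        obtain ⟨W, hW, hWs, -⟩ := piece P hPU hPn hPi 2 two_pos hPd 1 (by omega) (by omega)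
          (Or.inl (Nat.odd_iff.2 (by omega)))
        exact ⟨W, hW, hWs⟩
      · obtain ⟨W, hW, -, hWs⟩ := piece P hPU hPn hPi 2 two_pos hPd (s - 2) (by omega) hD (by
          rw [Nat.odd_iff, Nat.even_iff]; rw [hD2, hs2] at hpar; omega)
        refine ⟨P ⊔ W, sup_le hPU hW, hWs.1, hWs.2.1, ?_⟩
        rw [hWs.2.2]; omega

include hG halt in
/-- An involution of full rank with alternating form fixes only subspaces of dimension divisible by four. -/
theorem four_dvd (hKR : LinearMap.ker (T - 1) ≤ LinearMap.range (T - 1)) (hq : ∀ u, B u ((T - 1) u) = 0)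
    {W : Submodule F V} (hW : ND B W) (hWi : W.map T ≤ W) : 4 ∣ Module.finrank F W := by
  have hti : TI B (LinearMap.range (T - 1)) := by
    rintro _ ⟨x, rfl⟩ _ ⟨y, rfl⟩
    rw [apply_comm hT hTT, sub_sub_apply h2 hTT, map_zero, LinearMap.zero_apply]
  obtain ⟨N, hN⟩ : ∃ N : Module.End F V, N = T - 1 := ⟨_, rfl⟩
  have hWN : W.map N ≤ W ⊓ LinearMap.ker N := by
    rintro _ ⟨x, hx, rfl⟩
    exact ⟨by rw [hN]; exact W.sub_mem (apply_mem hWi hx) hx, by
      rw [hN, SetLike.mem_coe, LinearMap.mem_ker, sub_sub_apply h2 hTT]⟩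
  have h1 := two_mul_ti_le hG hW (inf_le_left : W ⊓ LinearMap.ker N ≤ W)
    (ti_mono (inf_le_right.trans (hN.symm ▸ hKR)) hti)
  have h3 := Submodule.finrank_mono hWN
  obtain ⟨L, hL⟩ : ∃ L, L = N.domRestrict W := ⟨_, rfl⟩
  have hrn := L.finrank_range_add_finrank_ker
  rw [show LinearMap.range L = W.map N by rw [hL, LinearMap.range_domRestrict],
    show Module.finrank F ↥(LinearMap.ker L) = Module.finrank F ↥(W ⊓ LinearMap.ker N) by
      rw [hL, LinearMap.ker_domRestrict,
        ← (Submodule.equivMapOfInjective W.subtype W.injective_subtype _).symm.finrank_eq,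
        Submodule.map_comap_subtype]] at hrn
  obtain ⟨C, hC⟩ := (LinearMap.ker L).exists_isCompl
  have hCd : Module.finrank F C = Module.finrank F ↥(W.map N) := by
    have h4 := L.finrank_range_add_finrank_ker
    have h5 := Submodule.finrank_add_eq_of_isCompl hC
    rw [show LinearMap.range L = W.map N by rw [hL, LinearMap.range_domRestrict]] at h4
    omega
  have heven := OmegaElem.even_finrank_of_alt (B.compl₁₂ (W.subtype ∘ₗ C.subtype) (N ∘ₗ W.subtype ∘ₗ C.subtype))
    (fun x => by rw [hN]; exact hq _) fun x hx => by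
      have h0 : L (x : W) = 0 := by
        have hmem : N ((x : W) : V) ∈ W := by rw [hN]; exact W.sub_mem (apply_mem hWi (x : W).2) (x : W).2
        rw [hL, LinearMap.domRestrict_apply]
        refine hW _ hmem fun v hv => ?_
        rw [hN, ← apply_comm hT hTT, ← hN]
        obtain ⟨a, c, hac, -⟩ := Submodule.existsUnique_add_of_isCompl hC ⟨v, hv⟩
        have ha : N ((a : W) : V) = 0 := (LinearMap.congr_fun hL (a : W)).symm.trans (LinearMap.mem_ker.1 a.2)
        rw [show v = ((a : W) : V) + ((c : W) : V) from (congrArg Subtype.val hac).symm, map_add, map_add, ha,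
          map_zero, zero_add]
        exact hx c
      refine Subtype.ext ?_
      have := hC.disjoint.le_bot (x := (x : W)) ⟨LinearMap.mem_ker.2 h0, x.2⟩
      rwa [Submodule.mem_bot] at this
  rw [hCd, Nat.even_iff] at heven
  omega

end Char2

end CfsgLib.MaxSub.IsoNDSymp
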