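import Cfsg.Agent.Lib.MaxSub.IsoNDSympPrime
import Cfsg.Agent.Lib.MaxSub.DecompCoord

/-!
Elements of odd prime order permuting the members of a decomposition; orthogonal decompositions into invariant
non-degenerate members of one dimension.
-/

set_option autoImplicit false
set_option linter.unusedSectionVars false

namespace CfsgLib.MaxSub.IsoNDSympDecomp

open CfsgLib CfsgLib.Geom CfsgLib.MaxSub.IsoSemi

universe u v

section Permuted

variable {F : Type u} [Field F] {ι : Type} [Fintype ι] [DecidableEq ι] {t a : ℕ}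
  {D : Fin t → Submodule F (ι → F)} (hD : Cfsg.Geo.IsMDecomposition a D) {T : Module.End F (ι → F)}
  {σ : Equiv.Perm (Fin t)} (hσ : ∀ j, (D j).map T = D (σ j))

include hD in
theorem injD : Function.Injective D := fun i j h => by
  by_contra hne
  have h0 : D i = ⊥ := by
    have := hD.indep.pairwiseDisjoint hne
    rw [Function.onFun, ← h] at this
    exact disjoint_self.1 this
  have := hD.finrank_eq i
  rw [h0, finrank_bot] at this
  have := hD.pos
  omega

include hσ in
theorem map_pow (k : ℕ) (j : Fin t) : (D j).map (T ^ k) = D ((σ ^ k) j) := by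
  induction k with
  | zero => exact Submodule.map_id _
  | succ k ih => rw [pow_succ', Module.End.mul_eq_comp, Submodule.map_comp, ih, hσ, pow_succ', Equiv.Perm.mul_apply]

include hσ in
theorem comp_zero (ψ : (ι → F) ≃ₗ[F] (Fin t → Fin a → F)) (hψ : ∀ x i, x ∈ D i ↔ ∀ j, j ≠ i → ψ x j = 0)
    {v : ι → F} {k : Fin t} (hv : ψ v k = 0) : ψ (T v) (σ k) = 0 := by
  conv_lhs => rw [← ψ.symm_apply_apply v, ← Finset.univ_sum_single (ψ v), map_sum, map_sum, map_sum,
    Finset.sum_apply]
  refine Finset.sum_eq_zero fun i _ => ?_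
  by_cases hik : i = k
  · rw [hik, hv, Pi.single_zero, map_zero, map_zero, map_zero]; rfl
  · exact (hψ _ _).1 (hσ i ▸ Submodule.mem_map_of_mem (Decomp.single_of_coord ψ hψ i _)) _
      fun e => hik (σ.injective e).symm

variable {r : ℕ} (hr : r.Prime) (hT : T ^ r = 1) {j : Fin t} (hj : σ j ≠ j)

include hD hσ hr hT hj in
theorem orbit_inj {k l : ℕ} (hk : k < r) (hl : l < r) (h : (σ ^ k) j = (σ ^ l) j) : k = l := by
  wlog hkl : k ≤ l generalizing k l
  · exact (this hl hk h.symm (le_of_lt (not_le.1 hkl))).symm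
  have hper : (σ ^ r) j = j := injD hD (by rw [← map_pow hσ, hT]; exact Submodule.map_id _)
  have h1 : (σ ^ (l - k)) j = j := by
    apply (σ ^ k).injective
    rw [← Equiv.Perm.mul_apply, ← pow_add, Nat.add_sub_cancel' hkl]
    exact h.symm
  have hd : Function.minimalPeriod σ j ∣ l - k := (Function.isPeriodicPt_iff_minimalPeriod_dvd (f := σ)).1 (by
    rwa [Equiv.Perm.coe_pow] at h1)
  have hdr : Function.minimalPeriod σ j ∣ r := (Function.isPeriodicPt_iff_minimalPeriod_dvd (f := σ)).1 (by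
    rwa [Equiv.Perm.coe_pow] at hper)
  rcases (Nat.dvd_prime hr).1 hdr with e | e
  · exact absurd (Function.minimalPeriod_eq_one_iff_isFixedPt.1 e) hj
  · rw [e] at hd
    rcases Nat.eq_zero_or_pos (l - k) with h0 | h0
    · omega
    · have := Nat.le_of_dvd h0 hd; omega

include hD hσ hr hT hj in
/-- A moved member bounds the fixed space from above. -/
theorem fix_add_le : Module.finrank F ↥(LinearMap.ker (T - 1)) + (r - 1) * a ≤ t * a := by
  classical
  obtain ⟨ψ, hψ⟩ := Decomp.exists_coord hD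
  obtain ⟨O, hO⟩ : ∃ O, O = (Finset.range (r - 1)).image fun i => (σ ^ (i + 1)) j := ⟨_, rfl⟩
  have hOc : O.card = r - 1 := by
    rw [hO, Finset.card_image_of_injOn, Finset.card_range]
    intro x hx y hy h
    rw [Finset.coe_range, Set.mem_Iio] at hx hy
    have := orbit_inj hD hσ hr hT hj (k := x + 1) (l := y + 1) (by omega) (by omega) h
    omega
  have hjO : j ∉ O := by
    rw [hO, Finset.mem_image]
    rintro ⟨i, hi, hij⟩
    rw [Finset.mem_range] at hi
    have := orbit_inj hD hσ hr hT hj (k := i + 1) (l := 0) (by omega) hr.pos (by rw [pow_zero]; exact hij)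
    omega
  let f : ↥(LinearMap.ker (T - 1)) →ₗ[F] ({k // k ∉ O} → Fin a → F) :=
    (LinearMap.funLeft F (Fin a → F) (fun k : {k // k ∉ O} => (k : Fin t))) ∘ₗ ψ.toLinearMap ∘ₗ Submodule.subtype _
  have hf : Function.Injective f := (injective_iff_map_eq_zero f).2 fun v hv => by
    have hTv : T (v : ι → F) = v := sub_eq_zero.1 v.2
    have h0 : ∀ i : ℕ, ψ (v : ι → F) ((σ ^ i) j) = 0 := fun i => by
      induction i with
      | zero => exact congrFun hv ⟨j, hjO⟩
      | succ i ih =>
        have := comp_zero hσ ψ hψ ih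
        rwa [hTv, ← Equiv.Perm.mul_apply, ← pow_succ'] at this
    refine Subtype.ext (ψ.injective (funext fun k => ?_))
    rw [Submodule.coe_zero, map_zero]
    by_cases hk : k ∈ O
    · rw [hO, Finset.mem_image] at hk
      obtain ⟨i, -, rfl⟩ := hk
      exact h0 _
    · exact congrFun hv ⟨k, hk⟩
  have h := LinearMap.finrank_le_finrank_of_injective hf
  rw [Module.finrank_pi_fintype, Finset.sum_const, Finset.card_univ, Module.finrank_fin_fun, smul_eq_mul,
    Fintype.card_subtype_compl, Fintype.card_coe, hOc, Fintype.card_fin] at h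
  have h1 : r - 1 ≤ t := hOc ▸ (Finset.card_le_univ O).trans (Fintype.card_fin t).le
  obtain ⟨s, rfl⟩ : ∃ s, t = r - 1 + s := ⟨_, (Nat.add_sub_cancel' h1).symm⟩
  rw [Nat.add_sub_cancel_left] at h
  rw [add_mul]
  omega

include hD hσ hr hT hj in
/-- A moved member bounds the fixed space from below. -/
theorem le_fix : a ≤ Module.finrank F ↥(LinearMap.ker (T - 1)) := by
  obtain ⟨ψ, hψ⟩ := Decomp.exists_coord hD
  obtain ⟨N, hN⟩ : ∃ N, N = ∑ k ∈ Finset.range r, T ^ k := ⟨_, rfl⟩
  have hmem : ∀ v, N v ∈ LinearMap.ker (T - 1) := fun v => by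
    rw [LinearMap.mem_ker, ← Module.End.mul_apply, hN, mul_geom_sum, hT, sub_self, LinearMap.zero_apply]
  let f : ↥(D j) →ₗ[F] ↥(LinearMap.ker (T - 1)) :=
    LinearMap.codRestrict _ (N ∘ₗ (D j).subtype) fun v => hmem _
  have hf : Function.Injective f := (injective_iff_map_eq_zero f).2 fun v hv => by
    have h1 : ψ (N (v : ι → F)) j = 0 := by
      rw [show N (v : ι → F) = 0 from congrArg Subtype.val hv, map_zero]; rfl
    rw [hN, LinearMap.sum_apply, map_sum, Finset.sum_apply, Finset.sum_eq_single 0 (fun k hk hk0 => ?_)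
      (fun h => absurd (Finset.mem_range.2 hr.pos) h)] at h1
    · refine Subtype.ext (ψ.injective (funext fun k => ?_))
      rw [Submodule.coe_zero, map_zero]
      by_cases hk : k = j
      · rw [hk]; simpa using h1
      · exact (hψ _ _).1 v.2 k hk
    · refine (hψ _ ((σ ^ k) j)).1 (map_pow hσ k j ▸ Submodule.mem_map_of_mem v.2) j fun e => hk0 ?_
      exact (orbit_inj hD hσ hr hT hj (k := 0) (l := k) hr.pos (Finset.mem_range.1 hk) (by rw [pow_zero]; exact e)).symm
  have h := LinearMap.finrank_le_finrank_of_injective hf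
  rwa [hD.finrank_eq] at h

include hD in
/-- Independent parts of the members. -/
theorem sum_le (E : Submodule F (ι → F)) :
    ∑ j, Module.finrank F ↥(D j ⊓ E) ≤ Module.finrank F ↥E := by
  classical
  obtain ⟨ψ, hψ⟩ := Decomp.exists_coord hD
  let f : (∀ j, ↥(D j ⊓ E)) →ₗ[F] ↥E :=
    ∑ j, (Submodule.inclusion inf_le_right) ∘ₗ LinearMap.proj j
  have hf : Function.Injective f := (injective_iff_map_eq_zero f).2 fun x hx => funext fun k => by
    have h1 : ∑ j, ((x j : ι → F)) = 0 := by
      have := congrArg Subtype.val hx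
      simpa [f] using this
    have h2 := congrFun (congrArg ψ h1) k
    rw [map_sum, map_zero, Finset.sum_apply, Finset.sum_eq_single k
      (fun i _ hik => (hψ _ _).1 (x i).2.1 k (Ne.symm hik)) (fun h => absurd (Finset.mem_univ k) h)] at h2
    refine Subtype.ext (ψ.injective (funext fun l => ?_))
    rw [Pi.zero_apply, Submodule.coe_zero, map_zero]
    by_cases hl : l = k
    · rw [hl]; simpa using h2
    · exact (hψ _ _).1 (x k).2.1 l hl
  have h := LinearMap.finrank_le_finrank_of_injective hf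
  rwa [Module.finrank_pi_fintype] at h

end Permuted

section Build

variable {F : Type u} [Field F] [Fintype F] {p : ℕ} [Fact p.Prime] [CharP F p] {V : Type v} [AddCommGroup V]
  [Module F V] [FiniteDimensional F V] {B : V →ₗ[F] V →ₗ[F] F} (halt : ∀ v, B v v = 0)
  {T : Module.End F V} {r : ℕ} [hr : Fact r.Prime] {i c : ℕ}
  (hi : i = orderOf (Fintype.card F : ZMod r)) (hc : c = if Even i then i else 2 * i)

include p halt hi hc in
/-- Invariant orthogonal members of dimension `a`. -/
theorem exists_members (hC : Ctx B T r) {a : ℕ} (hae : Even a) :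
    ∀ (s : ℕ) (X Z : Submodule F V), X ≤ LinearMap.range (T - 1) → Z ≤ LinearMap.ker (T - 1) → X.map T ≤ X →
      ND B X → ND B Z → Module.finrank F X + Module.finrank F Z = a * s → Module.finrank F X ≤ c * (a / c) * s →
      ∃ D : Fin s → Submodule F V, (∀ j, D j ≤ X ⊔ Z ∧ ND B (D j) ∧ (D j).map T ≤ D j ∧ Module.finrank F ↥(D j) = a) ∧
        (∀ j j', j ≠ j' → D j ≤ perp B (D j')) ∧ iSup D = X ⊔ Z := by
  intro s
  induction s with
  | zero =>
    intro X Z _ _ _ _ _ hd _
    rw [mul_zero] at hd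
    refine ⟨Fin.elim0, fun j => j.elim0, fun j => j.elim0, ?_⟩
    rw [Submodule.finrank_eq_zero.1 (by omega : Module.finrank F X = 0),
      Submodule.finrank_eq_zero.1 (by omega : Module.finrank F Z = 0), bot_sup_eq, iSup_of_empty]
  | succ s ih =>
    intro X Z hXR hZE hXi hX hZ hd hb
    have hG := hC.toGeom
    have hce : Even c := by
      rw [hc]; split_ifs with h
      · exact h
      · exact even_two_mul i
    obtain ⟨⟨β, hβ⟩, hsub⟩ := IsoNDSympPrime.dims (p := p) hi hc hC hX hXi hXR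
    rw [hβ] at hd hb
    rw [Nat.mul_succ] at hd hb
    obtain ⟨b, hbdef⟩ : ∃ b, b = min β (a / c) := ⟨_, rfl⟩
    have hb1 : c * b ≤ c * β := Nat.mul_le_mul_left c (by omega)
    have hb2 : c * b ≤ a := (Nat.mul_le_mul_left c (by omega : b ≤ a / c)).trans (Nat.mul_div_le a c)
    have hbs : c * (β - b) ≤ c * (a / c) * s := by
      rcases le_total β (a / c) with h | h
      · rw [show β - b = 0 by omega, mul_zero]; exact Nat.zero_le _
      · rw [show b = a / c by omega, Nat.mul_sub]; omega
    have hz : a - c * b ≤ Module.finrank F Z := by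
      rcases le_total β (a / c) with h | h
      · rw [show b = β by omega]; omega
      · rw [show b = a / c by omega]
        have h3 : c * (a / c) * s ≤ a * s := Nat.mul_le_mul_right s (Nat.mul_div_le a c)
        omega
    obtain ⟨X₁, hX₁, hX₁i, hX₁n, hX₁d⟩ := hsub b (by omega)
    obtain ⟨z, hz'⟩ : Even (a - c * b) := Nat.even_sub (by omega) |>.2 (by simp [hae, hce.mul_right b])
    obtain ⟨Z₁, hZ₁, hZ₁n, -, hZ₁d⟩ := IsoNDSymp.exists_of_planes hG (T := 1) (fun x y => rfl)
      (fun U hU _ hne => IsoNDSympPrime.plane_one hG halt hU hne) z Z hZ (Submodule.map_id _).le (by omega)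
    have hperp : ∀ {U W : Submodule F V}, U ≤ LinearMap.range (T - 1) → W ≤ LinearMap.ker (T - 1) →
        U ≤ perp B W := fun hU hW => (hU.trans (fix_le_perp hC)).trans (perp_antitone hW)
    have hdX := finrank_inf_perp hG hX hX₁
    have hdZ := finrank_inf_perp hG hZ hZ₁
    obtain ⟨D, hD, hDo, hDs⟩ := ih (X ⊓ perp B X₁) (Z ⊓ perp B Z₁) (inf_le_left.trans hXR) (inf_le_left.trans hZE)
      (IsoSemi.inv_inf hXi (IsoSemi.inv_perp hC hX₁i)) (nd_inf_perp hG hX hX₁n hX₁) (nd_inf_perp hG hZ hZ₁n hZ₁)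
      (by omega) (by rw [Nat.mul_sub] at hbs; omega)
    have hX₁R := hX₁.trans hXR
    have hZ₁E := hZ₁.trans hZE
    obtain ⟨P, hP⟩ : ∃ P, P = Z₁ ⊔ X₁ := ⟨_, rfl⟩
    have hZ₁i : Z₁.map T ≤ Z₁ := by
      rintro _ ⟨v, hv, rfl⟩
      rwa [show T v = v from sub_eq_zero.1 (show (T - 1) v = 0 from hZ₁E hv)]
    have hle : (X ⊓ perp B X₁) ⊔ (Z ⊓ perp B Z₁) ≤ perp B P := by
      intro v hv
      obtain ⟨x, hx, z, hz, rfl⟩ := Submodule.mem_sup.1 hv
      intro w hw
      rw [hP] at hw
      obtain ⟨z₁, hz₁, x₁, hx₁, rfl⟩ := Submodule.mem_sup.1 hw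
      simp only [map_add, LinearMap.add_apply]
      rw [hperp le_rfl le_rfl (hXR hx.1) _ (hZ₁E hz₁), hx.2 _ hx₁, hz.2 _ hz₁,
        hG.refl _ _ (hperp le_rfl le_rfl (hX₁R hx₁) _ (hZE hz.1)), add_zero, add_zero]
    refine ⟨Fin.cons P D, fun j => ?_, fun j j' hjj => ?_, ?_⟩
    · refine Fin.cases ?_ (fun j => ?_) j
      · rw [Fin.cons_zero, hP]
        refine ⟨sup_le (hZ₁.trans le_sup_right) (hX₁.trans le_sup_left),
          nd_sup hG hZ₁n hX₁n (hperp hX₁R hZ₁E), IsoSemi.inv_sup hZ₁i hX₁i, ?_⟩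
        have h := Submodule.finrank_sup_add_finrank_inf_eq Z₁ X₁
        rw [show Z₁ ⊓ X₁ = ⊥ from le_bot_iff.1 ((inf_le_inf hZ₁E hX₁R).trans (disjoint_fix_mov hC).le),
          finrank_bot] at h
        omega
      · rw [Fin.cons_succ]
        exact ⟨(hD j).1.trans (sup_le (inf_le_left.trans le_sup_left) (inf_le_left.trans le_sup_right)), (hD j).2⟩
    · revert hjj
      refine Fin.cases ?_ (fun j => ?_) j <;> refine Fin.cases ?_ (fun j' => ?_) j' <;> intro hjj <;>
        simp only [Fin.cons_zero, Fin.cons_succ]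
      · exact absurd rfl hjj
      · exact fun v hv w hw => hG.refl _ _ (((hD j').1.trans hle) hw v hv)
      · exact (hD j).1.trans hle
      · exact hDo j j' fun e => hjj (by rw [e])
    · have hs : iSup (Fin.cons P D : Fin (s + 1) → Submodule F V) = P ⊔ iSup D := by
        refine le_antisymm (iSup_le fun b => ?_) (sup_le ?_ (iSup_le fun b => ?_))
        · refine Fin.cases ?_ ?_ b
          · rw [Fin.cons_zero]; exact le_sup_left
          · intro b; rw [Fin.cons_succ]; exact le_sup_of_le_right (le_iSup D b)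
        · exact le_iSup_of_le 0 (by rw [Fin.cons_zero])
        · exact le_iSup_of_le b.succ (by rw [Fin.cons_succ])
      rw [hs, hDs, hP]
      have e1 : X₁ ⊔ (X ⊓ perp B X₁) = X := by
        rw [inf_comm, ← sup_inf_assoc_of_le _ hX₁, (isCompl_perp hG hX₁n).sup_eq_top, top_inf_eq]
      have e2 : Z₁ ⊔ (Z ⊓ perp B Z₁) = Z := by
        rw [inf_comm, ← sup_inf_assoc_of_le _ hZ₁, (isCompl_perp hG hZ₁n).sup_eq_top, top_inf_eq]
      rw [sup_comm Z₁ X₁, sup_sup_sup_comm, e1, e2]

end Build

end CfsgLib.MaxSub.IsoNDSympDecomp
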