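import Cfsg.Agent.Lib.MaxSub.IsoPieces
import Cfsg.Agent.Lib.MaxSub.IsoNDSymp
import Cfsg.Agent.Lib.Geom.IsoStabSymp
import Cfsg.Agent.Lib.Classical.AltOrder
import Cfsg.Agent.Lib.Classical.SympOrderR

/-!
Invariant non-degenerate subspaces of symplectic maps of odd prime order in the cross characteristic.
-/

set_option autoImplicit false

namespace CfsgLib.MaxSub.IsoNDSympPrime

open Matrix CfsgLib CfsgLib.Classical CfsgLib.Geom CfsgLib.MaxSub.IsoSemi
open scoped Pointwise

universe u v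

variable {F : Type u} [Field F] [Fintype F] {p : ℕ} [Fact p.Prime] [CharP F p] {V : Type v} [AddCommGroup V]
  [Module F V] [FiniteDimensional F V] {B : V →ₗ[F] V →ₗ[F] F} (hG : Geom B) (halt : ∀ v, B v v = 0)
  {T : Module.End F V} {r : ℕ} [hr : Fact r.Prime] {i c : ℕ}
  (hi : i = orderOf (Fintype.card F : ZMod r)) (hc : c = if Even i then i else 2 * i)

/-- A non-degenerate subspace of given dimension. -/
def Member (B : V →ₗ[F] V →ₗ[F] F) (m : ℕ) (W : Submodule F V) : Prop :=
  Module.finrank F W = m ∧ ND B W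

include hi in
theorem sd_iff (hr2 : r ≠ 2) (hipos : 0 < i) : SelfDual (Fintype.card F) (p ^ 0) r ↔ Even i := by
  have h2r : (2 : ZMod r) ≠ 0 := fun h => hr2 ((Nat.prime_dvd_prime_iff_eq hr.out Nat.prime_two).1
    ((ZMod.natCast_eq_zero_iff 2 r).1 (by exact_mod_cast h)))
  have hqi : (Fintype.card F : ZMod r) ^ i = 1 := hi ▸ pow_orderOf_eq_one _
  constructor
  · rintro ⟨k, hk⟩
    rw [pow_zero, one_mul, ← ZMod.natCast_eq_zero_iff, Nat.cast_add, Nat.cast_pow, Nat.cast_one] at hk
    by_contra hodd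
    rw [Nat.not_even_iff_odd] at hodd
    have h1 : ((Fintype.card F : ZMod r) ^ k) ^ i = 1 := by rw [← pow_mul, mul_comm, pow_mul, hqi, one_pow]
    rw [eq_neg_of_add_eq_zero_left hk, hodd.neg_one_pow] at h1
    exact h2r (by linear_combination -h1)
  · rintro ⟨k, hk⟩
    refine ⟨k, ?_⟩
    rw [pow_zero, one_mul, ← ZMod.natCast_eq_zero_iff, Nat.cast_add, Nat.cast_pow, Nat.cast_one]
    rcases sq_eq_one_iff.1 (show ((Fintype.card F : ZMod r) ^ k) ^ 2 = 1 by
      rw [← pow_mul, show k * 2 = i by omega, hqi]) with h | h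
    · have := orderOf_dvd_of_pow_eq_one h
      rw [← hi] at this
      have := Nat.le_of_dvd (by omega) this
      omega
    · rw [h, neg_add_cancel]

include p hi hc in
theorem dims (hC : Ctx B T r) {U : Submodule F V} (hU : ND B U) (hUi : U.map T ≤ U)
    (hUR : U ≤ LinearMap.range (T - 1)) : c ∣ Module.finrank F U ∧ ∀ k, c * k ≤ Module.finrank F U →
      ∃ W : Submodule F V, W ≤ U ∧ W.map T ≤ W ∧ ND B W ∧ Module.finrank F W = c * k := by
  have hr2 : r ≠ 2 := hC.rne2
  have hipos : 0 < i := hi ▸ ord_pos hC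
  exact nd_dims (p := p) (c := 0) hC (fun x => by simp)
    ⟨fun h => by rw [hc, if_pos ((sd_iff hi hr2 hipos).1 h), hi],
      fun h => by rw [hc, if_neg (mt (sd_iff (p := p) hi hr2 hipos).2 h), hi]⟩ hU hUi hUR

omit [Fintype F] [FiniteDimensional F V] in
include hG halt in
theorem plane_one {U : Submodule F V} (hU : ND B U) (hne : U ≠ ⊥) :
    ∃ P ≤ U, ND B P ∧ P.map (1 : Module.End F V) ≤ P ∧ Module.finrank F P = 2 := by
  obtain ⟨u, hu, hu0⟩ := Submodule.exists_mem_ne_zero_of_ne_bot hne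
  obtain ⟨v, hv, huv⟩ : ∃ v ∈ U, B u v ≠ 0 := by
    by_contra hn
    push Not at hn
    exact hu0 (hU u hu hn)
  obtain ⟨h1, h2⟩ := IsoNDSymp.plane hG halt huv
  refine ⟨_, Submodule.span_le.2 ?_, h1, (Submodule.map_id _).le, h2⟩
  rintro z (rfl | rfl) <;> assumption

include p hi hc halt in
/-- The moved and fixed parts of an invariant member. -/
theorem parts (hC : Ctx B T r) {W : Submodule F V} (hW : ND B W) (hWi : W.map T ≤ W) :
    (W ⊓ LinearMap.ker (T - 1)) ⊔ (W ⊓ LinearMap.range (T - 1)) = W ∧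
      c ∣ Module.finrank F ↥(W ⊓ LinearMap.range (T - 1)) ∧
      Module.finrank F ↥(W ⊓ LinearMap.ker (T - 1)) + Module.finrank F ↥(W ⊓ LinearMap.range (T - 1)) =
        Module.finrank F W := by
  have hG := hC.toGeom
  have hsum := finrank_split hC hWi
  have hsup : (W ⊓ LinearMap.ker (T - 1)) ⊔ (W ⊓ LinearMap.range (T - 1)) = W := by
    refine Submodule.eq_of_le_of_finrank_le (sup_le inf_le_left inf_le_left) ?_
    have h := Submodule.finrank_sup_add_finrank_inf_eq (W ⊓ LinearMap.ker (T - 1)) (W ⊓ LinearMap.range (T - 1))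
    rw [inf_inf_inf_comm, disjoint_fix_mov hC, inf_bot_eq, finrank_bot] at h
    omega
  refine ⟨hsup, (dims (p := p) hi hc hC (fun x (hx : x ∈ W ⊓ LinearMap.range (T - 1)) h => hW x hx.1 fun v hv => ?_)
    (inv_inf hWi (inv_mov T)) inf_le_right).1, hsum⟩
  obtain ⟨a, ha, b, hb, rfl⟩ := Submodule.mem_sup.1 (hsup.symm ▸ hv)
  rw [map_add, h b hb, add_zero]
  exact hG.refl _ _ (fix_le_perp hC hx.2 a ha.2)

include p hi hc halt in
/-- Which dimensions occur for an element with moved part of dimension `c * a`. -/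
theorem fixes_iff (hC : Ctx B T r) {a : ℕ} (ha : Module.finrank F ↥(LinearMap.range (T - 1)) = c * a) {m : ℕ}
    (hm : Even m) :
    (∃ W : Submodule F V, Member B m W ∧ W.map T ≤ W) ↔
      ∃ b z, b ≤ a ∧ c * b + z = m ∧ z + c * a ≤ Module.finrank F V := by
  have hG := hC.toGeom
  have hipos : 0 < i := hi ▸ ord_pos hC
  have hcpos : 0 < c := by rw [hc]; split_ifs <;> omega
  have hsum := (T - 1).finrank_range_add_finrank_ker
  rw [ha] at hsum
  constructor
  · rintro ⟨W, ⟨hWd, hW⟩, hWi⟩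
    obtain ⟨-, ⟨b, hb⟩, hs⟩ := parts (p := p) halt hi hc hC hW hWi
    have h1 := Submodule.finrank_mono (inf_le_right : W ⊓ LinearMap.range (T - 1) ≤ _)
    have h2 := Submodule.finrank_mono (inf_le_right : W ⊓ LinearMap.ker (T - 1) ≤ _)
    rw [hb, ha] at h1
    exact ⟨b, Module.finrank F ↥(W ⊓ LinearMap.ker (T - 1)), Nat.le_of_mul_le_mul_left h1 hcpos, by omega,
      by omega⟩
  · rintro ⟨b, z, hba, hbz, hz⟩
    have hce : Even c := by
      rw [hc]
      split_ifs with h
      · exact h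
      · exact even_two_mul i
    obtain ⟨z', hz'⟩ : Even z := (Nat.even_add.1 (hbz.symm ▸ hm)).1 (hce.mul_right b)
    obtain ⟨X, hXR, hXi, hX, hXd⟩ := (dims (p := p) hi hc hC (nd_mov hC) (inv_mov T) le_rfl).2 b
      (ha ▸ Nat.mul_le_mul_left c hba)
    obtain ⟨Z, hZ, hZn, -, hZd⟩ := IsoNDSymp.exists_of_planes hG (T := 1) (fun x y => rfl)
      (fun U hU _ hne => plane_one hG halt hU hne) z' (LinearMap.ker (T - 1)) (nd_fix hC) (Submodule.map_id _).le
      (by omega)
    have hperp : X ≤ perp B Z := (hXR.trans (fix_le_perp hC)).trans (perp_antitone hZ)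
    refine ⟨Z ⊔ X, ⟨?_, nd_sup hG hZn hX hperp⟩, inv_sup ?_ hXi⟩
    · have h := Submodule.finrank_sup_add_finrank_inf_eq Z X
      rw [show Z ⊓ X = ⊥ from le_bot_iff.1 ((inf_le_inf hZ hXR).trans (disjoint_fix_mov hC).le), finrank_bot] at h
      omega
    · rintro _ ⟨v, hv, rfl⟩
      rwa [show T v = v from sub_eq_zero.1 (show (T - 1) v = 0 from hZ hv)]

include hG halt in
/-- The members form one orbit. -/
theorem dvd_card_isoms {m : ℕ} {W₀ : Submodule F V} (hW₀ : Member B m W₀) :
    Nat.card {W : Submodule F V // Member B m W} ∣ Nat.card (formIsoms (σ := RingHom.id F) B) := by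
  have horb : MulAction.orbit (formIsoms (σ := RingHom.id F) B) W₀ = {W | Member B m W} := by
    refine Set.ext fun W => ⟨?_, fun hW => ?_⟩
    · rintro ⟨⟨g, hg⟩, rfl⟩
      refine ⟨(LinearEquiv.finrank_map_eq g W₀).trans hW₀.1, ?_⟩
      rintro _ ⟨x, hx, rfl⟩ h
      show g x = 0
      rw [hW₀.2 x hx fun y hy => (hg x y).symm.trans (h _ ⟨y, hy, rfl⟩), map_zero]
    · obtain ⟨e, he⟩ := exists_symp_isometry m (B.compl₁₂ W₀.subtype W₀.subtype) (B.compl₁₂ W.subtype W.subtype)
        (fun v => halt _) (fun x hx => Subtype.ext (hW₀.2 x x.2 fun y hy => hx ⟨y, hy⟩))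
        (fun v => halt _) (fun x hx => Subtype.ext (hW.2 x x.2 fun y hy => hx ⟨y, hy⟩)) hW₀.1 hW.1
      obtain ⟨g, hg, hgx⟩ := hasWittExt_alt B halt (fun x hx => hG.sep x hx) W₀ (W.subtype ∘ₗ e.toLinearMap)
        (W.injective_subtype.comp e.injective) he
      refine ⟨⟨g, hg⟩, Submodule.eq_of_le_of_finrank_eq ?_ ?_⟩
      · rintro _ ⟨x, hx, rfl⟩
        show g x ∈ W
        rw [hgx ⟨x, hx⟩]
        exact (e ⟨x, hx⟩).2
      · exact (LinearEquiv.finrank_map_eq g W₀).trans (hW₀.1.trans hW.1.symm)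
  rw [show Nat.card {W : Submodule F V // Member B m W} =
      Set.ncard (MulAction.orbit (formIsoms (σ := RingHom.id F) B) W₀) by
    rw [horb, ← Nat.card_coe_set_eq]; rfl, ← MulAction.index_stabilizer]
  exact Subgroup.index_dvd_card _

include p hG halt hi hc in
/-- A space of dimension less than `c` has no isometry of order `r`. -/
theorem le_finrank (hrp : r ≠ p) (h : r ∣ Nat.card (formIsoms (σ := RingHom.id F) B)) :
    c ≤ Module.finrank F V := by
  obtain ⟨t, ht⟩ := OmegaElem.even_finrank_of_alt B halt hG.sep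
  rw [card_formIsoms_alt B halt hG.sep t (by omega)] at h
  rcases hr.out.dvd_mul.1 h with h1 | h1
  · obtain ⟨f, -, hf⟩ := FiniteField.card F p
    rw [hf, ← pow_mul] at h1
    exact absurd ((Nat.prime_dvd_prime_iff_eq hr.out Fact.out).1 (hr.out.dvd_of_dvd_pow h1)) hrp
  obtain ⟨j, hj, hdj⟩ := hr.out.prime.exists_mem_finset_dvd h1
  rw [Finset.mem_range] at hj
  have h2 : i ∣ 2 * (j + 1) := hi ▸ orderOf_dvd_of_pow_eq_one (by
    rw [← ZMod.natCast_eq_zero_iff, Nat.cast_sub (Nat.one_le_pow _ _ Fintype.card_pos), sub_eq_zero] at hdj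
    simpa using hdj)
  have h3 : c ∣ 2 * (j + 1) := by
    by_cases hev : Even i
    · rwa [hc, if_pos hev]
    · rw [hc, if_neg hev]
      exact mul_dvd_mul_left 2 ((Nat.coprime_two_right.2 (Nat.not_even_iff_odd.1 hev)).dvd_of_dvd_mul_left h2)
  have := Nat.le_of_dvd (by omega) h3
  omega

include p halt hi hc in
/-- If `r` divides the number of members, an element with few fixed vectors needs `c ≤ m`. -/
theorem le_of_fixed (hC : Ctx B T r) (hrp : r ≠ p) {m : ℕ}
    (hfix : Module.finrank F ↥(LinearMap.ker (T - 1)) < c)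
    (h : r ∣ Nat.card {W : Submodule F V // Member B m W}) {W₀ : Submodule F V} (hW₀ : Member B m W₀)
    (hW₀i : W₀.map T ≤ W₀) : c ≤ m := by
  classical
  by_contra hcm
  push Not at hcm
  haveI : Finite V := Module.finite_of_finite F
  haveI : Finite (Submodule F V) := Finite.of_injective _ SetLike.coe_injective
  haveI := Fintype.ofFinite {W : Submodule F V // Member B m W}
  obtain ⟨E, hE⟩ : ∃ E, E = LinearMap.ker (T - 1) := ⟨_, rfl⟩
  have hin : ∀ W : Submodule F V, Member B m W → W.map T ≤ W → W ≤ E := fun W hW hWi => by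
    obtain ⟨hs, ⟨b, hb⟩, hsum⟩ := parts (p := p) halt hi hc hC hW.2 hWi
    obtain rfl : b = 0 := by
      rcases Nat.eq_zero_or_pos b with hb0 | hb0
      · exact hb0
      · have := Nat.le_mul_of_pos_right c hb0; have := hW.1; omega
    rw [mul_zero] at hb
    rw [← hs, Submodule.finrank_eq_zero.1 hb, sup_bot_eq, hE]
    exact inf_le_right
  have hinj : Function.Injective T := (injective_iff_map_eq_zero T).2 fun x hx => eq_zero_of_apply hC hx
  let g : V ≃ₗ[F] V := LinearEquiv.ofBijective T ⟨hinj, LinearMap.injective_iff_surjective.1 hinj⟩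
  have hg : g ∈ formIsoms (σ := RingHom.id F) B := fun u v => hC.iso u v
  have hmem : ∀ {g : V ≃ₗ[F] V}, g ∈ formIsoms (σ := RingHom.id F) B → ∀ {W : Submodule F V}, Member B m W →
      Member B m (W.map g.toLinearMap) := fun {g} hg {W} hW => by
    refine ⟨(LinearEquiv.finrank_map_eq g W).trans hW.1, ?_⟩
    rintro _ ⟨x, hx, rfl⟩ h
    show g x = 0
    rw [hW.2 x hx fun y hy => (hg x y).symm.trans (h _ ⟨y, hy, rfl⟩), map_zero]
  let σ : Equiv.Perm {W : Submodule F V // Member B m W} :=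
    { toFun := fun W => ⟨W.1.map g.toLinearMap, hmem hg W.2⟩
      invFun := fun W => ⟨W.1.map (g⁻¹ : V ≃ₗ[F] V).toLinearMap, hmem (inv_mem hg) W.2⟩
      left_inv := fun W => Subtype.ext (by
        show (W.1.map g.toLinearMap).map (g⁻¹ : V ≃ₗ[F] V).toLinearMap = W.1
        rw [← Submodule.map_comp]
        convert Submodule.map_id W.1
        exact LinearMap.ext g.symm_apply_apply)
      right_inv := fun W => Subtype.ext (by
        show (W.1.map (g⁻¹ : V ≃ₗ[F] V).toLinearMap).map g.toLinearMap = W.1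
        rw [← Submodule.map_comp]
        convert Submodule.map_id W.1
        exact LinearMap.ext g.apply_symm_apply) }
  have hpow : ∀ (j : ℕ) (W : {W : Submodule F V // Member B m W}), ((σ ^ j) W).1 = W.1.map (T ^ j) := by
    intro j W
    induction j with
    | zero => exact (Submodule.map_id W.1).symm
    | succ j ih =>
      rw [pow_succ', Equiv.Perm.mul_apply, pow_succ', Module.End.mul_eq_comp, Submodule.map_comp, ← ih]
      rfl
  have hσ : σ ^ r ^ 1 = 1 := Equiv.ext fun W => Subtype.ext (by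
    rw [pow_one, hpow, hC.pow]; exact Submodule.map_id W.1)
  have hmod := Equiv.Perm.card_compl_support_modEq (p := r) hσ
  rw [← Nat.card_eq_fintype_card] at hmod
  have hconv : ∀ U : Submodule F E, Member B m (U.map E.subtype) ↔ Member (B.compl₁₂ E.subtype E.subtype) m U :=
    fun U => by
    refine and_congr (by rw [(Submodule.equivMapOfInjective E.subtype E.injective_subtype U).finrank_eq])
      ⟨fun h x hx h' => Subtype.ext (h _ ⟨x, hx, rfl⟩ ?_), fun h => ?_⟩
    · rintro _ ⟨y, hy, rfl⟩; exact h' y hy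
    · rintro _ ⟨x, hx, rfl⟩ h'
      rw [h x hx fun y hy => h' _ ⟨y, hy, rfl⟩, map_zero]
  have hfixset : σ.supportᶜ.card = Nat.card {U : Submodule F E // Member (B.compl₁₂ E.subtype E.subtype) m U} := by
    rw [← Fintype.card_coe, ← Nat.card_eq_fintype_card]
    have key : ∀ W : {W : Submodule F V // Member B m W}, W ∈ σ.supportᶜ ↔ W.1 ≤ E := fun W => by
      rw [Finset.mem_compl, Equiv.Perm.mem_support, not_not]
      refine ⟨fun h => hin W.1 W.2 (le_of_eq (congrArg Subtype.val h)), fun h => Subtype.ext ?_⟩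
      show W.1.map g.toLinearMap = W.1
      refine le_antisymm ?_ fun x hx => ⟨x, hx, ?_⟩
      · rintro _ ⟨x, hx, rfl⟩
        have h' := h hx
        rw [hE] at h'
        rwa [show g.toLinearMap x = x from sub_eq_zero.1 h']
      · have h' := h hx
        rw [hE] at h'
        exact sub_eq_zero.1 h'
    refine Nat.card_congr
      { toFun := fun W => ⟨W.1.1.comap E.subtype, (hconv _).1 (by
          rw [Submodule.map_comap_subtype, inf_eq_right.2 ((key _).1 W.2)]; exact W.1.2)⟩
        invFun := fun U => ⟨⟨U.1.map E.subtype, (hconv _).2 U.2⟩, (key _).2 (Submodule.map_subtype_le E _)⟩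
        left_inv := fun W => Subtype.ext (Subtype.ext (by
          show (W.1.1.comap E.subtype).map E.subtype = W.1.1
          rw [Submodule.map_comap_subtype, inf_eq_right.2 ((key _).1 W.2)]))
        right_inv := fun U => Subtype.ext (Submodule.comap_map_eq_of_injective E.injective_subtype _) }
  rw [hfixset] at hmod
  have hdvd : r ∣ Nat.card {U : Submodule F E // Member (B.compl₁₂ E.subtype E.subtype) m U} :=
    (Nat.ModEq.dvd_iff hmod dvd_rfl).2 h
  have hGE : Geom (B.compl₁₂ E.subtype E.subtype) :=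
    ⟨fun x hx => Subtype.ext ((hE ▸ nd_fix hC : ND B E) x x.2 fun y hy => hx ⟨y, hy⟩),
      fun x y h => hC.toGeom.refl _ _ h⟩
  have hW₀E := hin W₀ hW₀ hW₀i
  have hmemb : Member (B.compl₁₂ E.subtype E.subtype) m (W₀.comap E.subtype) := (hconv _).1 (by
    rw [Submodule.map_comap_subtype, inf_eq_right.2 hW₀E]; exact hW₀)
  have := le_finrank (p := p) hGE (fun v => halt _) hi hc hrp
    (hdvd.trans (dvd_card_isoms hGE (fun v => halt _) hmemb))
  rw [hE] at this
  omega

end CfsgLib.MaxSub.IsoNDSympPrime
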