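import Cfsg.Agent.Lib.MaxSub.IsoSemi
import Cfsg.Agent.Lib.Geom.Symp
import Mathlib.LinearAlgebra.SymplecticGroup

/-!
Elements of the standard symplectic group as isometries.
-/

set_option autoImplicit false

namespace CfsgLib.MaxSub.IsoNDSympStd

open Matrix CfsgLib CfsgLib.MaxSub.IsoSemi

universe u

variable {F : Type u} [Field F] {d : ℕ}

theorem sympBilin_mulVec (A : ↥(Matrix.symplecticGroup (Fin d) F)) (u v : Fin d ⊕ Fin d → F) :
    Geom.sympBilin d F ((A : Matrix (Fin d ⊕ Fin d) (Fin d ⊕ Fin d) F) *ᵥ u)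
      ((A : Matrix (Fin d ⊕ Fin d) (Fin d ⊕ Fin d) F) *ᵥ v) = Geom.sympBilin d F u v := by
  rw [Geom.sympBilin_apply, Geom.sympBilin_apply]
  exact (Geom.mem_symplecticGroup_iff_form _).1 A.2 u v

theorem geom_symp : Geom (Geom.sympBilin d F) :=
  ⟨Geom.sympBilin_sep, fun x y hxy => by rw [Geom.sympBilin_swap, hxy, neg_zero]⟩

theorem nd_iff_stmt {W : Submodule F (Fin d ⊕ Fin d → F)} :
    (∀ u ∈ W, u ≠ 0 → ∃ v ∈ W, Cfsg.sympForm d F u v ≠ 0) ↔ ND (Geom.sympBilin d F) W := by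
  refine ⟨fun h u hu h0 => ?_, fun h u hu hu0 => ?_⟩
  · by_contra hu0
    obtain ⟨v, hv, hne⟩ := h u hu hu0
    exact hne ((Geom.sympBilin_apply u v).symm.trans (h0 v hv))
  · by_contra hn
    push Not at hn
    exact hu0 (h u hu fun v hv => (Geom.sympBilin_apply u v).trans (hn v hv))

theorem scalar_sq {A : ↥(Matrix.symplecticGroup (Fin d) F)} {z : F} (hd : 1 ≤ d)
    (hA : (A : Matrix (Fin d ⊕ Fin d) (Fin d ⊕ Fin d) F) = z • 1) : z * z = 1 := by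
  let u : Fin d ⊕ Fin d → F := Pi.single (Sum.inl ⟨0, hd⟩) 1
  obtain ⟨v, hv⟩ : ∃ v, Geom.sympBilin d F u v ≠ 0 := by
    by_contra h
    push Not at h
    simpa [u] using congrFun (Geom.sympBilin_sep u h) (Sum.inl ⟨0, hd⟩)
  have h := sympBilin_mulVec A u v
  simp only [hA, Matrix.smul_mulVec, Matrix.one_mulVec, map_smul, LinearMap.smul_apply, smul_eq_mul] at h
  exact mul_right_cancel₀ hv (by linear_combination h)

theorem pow_eq_one_smul {r : ℕ} (hr : Odd r) {A : ↥(Matrix.symplecticGroup (Fin d) F)} {z : F} (hd : 1 ≤ d)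
    (hA : ((A ^ r : ↥(Matrix.symplecticGroup (Fin d) F)) : Matrix (Fin d ⊕ Fin d) (Fin d ⊕ Fin d) F) = z • 1) :
    ∃ A' : ↥(Matrix.symplecticGroup (Fin d) F), A' ^ r = 1 ∧
      (A' : Matrix (Fin d ⊕ Fin d) (Fin d ⊕ Fin d) F) = z • (A : Matrix (Fin d ⊕ Fin d) (Fin d ⊕ Fin d) F) ∧
      z * z = 1 := by
  have hz := scalar_sq hd hA
  have hmem : z • (A : Matrix (Fin d ⊕ Fin d) (Fin d ⊕ Fin d) F) ∈ Matrix.symplecticGroup (Fin d) F := by
    have h := A.2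
    rw [SymplecticGroup.mem_iff] at h ⊢
    rw [Matrix.transpose_smul, Matrix.smul_mul, Matrix.smul_mul, Matrix.mul_smul, smul_smul, hz, one_smul, h]
  refine ⟨⟨_, hmem⟩, Subtype.ext ?_, rfl, hz⟩
  rw [SubmonoidClass.coe_pow, _root_.smul_pow, ← SubmonoidClass.coe_pow, hA, smul_smul, ← pow_succ]
  obtain ⟨k, rfl⟩ := hr
  rw [show 2 * k + 1 + 1 = 2 * (k + 1) by ring, pow_mul, sq, hz, one_pow, one_smul]
  rfl

/-- A scalar element with trivial odd power is trivial. -/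
theorem eq_one_of_scalar {r : ℕ} (hr : Odd r) {A : ↥(Matrix.symplecticGroup (Fin d) F)} {z : F} (hd : 1 ≤ d)
    (hA : A ^ r = 1) (hz : (A : Matrix (Fin d ⊕ Fin d) (Fin d ⊕ Fin d) F) = z • 1) : A = 1 := by
  obtain ⟨k, rfl⟩ := hr
  have h2 : z * z = 1 := scalar_sq hd hz
  have h1 : (A : Matrix (Fin d ⊕ Fin d) (Fin d ⊕ Fin d) F) ^ (2 * k + 1) = 1 := by
    rw [← SubmonoidClass.coe_pow, hA]; rfl
  rw [hz, _root_.smul_pow, one_pow, pow_succ, pow_mul, sq, h2, one_pow, one_mul, ← hz] at h1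
  exact Subtype.ext h1

end CfsgLib.MaxSub.IsoNDSympStd
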