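import Cfsg.Agent.Lib.KnownC.SpNilpCount
import Cfsg.Agent.Lib.MaxSub.IsoNDSymp
import Cfsg.Agent.Lib.MaxSub.IsoNDJordan

/-!
Unipotent elements of symplectic groups in odd characteristic and invariant non-degenerate subspaces.
-/

set_option autoImplicit false
set_option linter.unusedSectionVars false

namespace CfsgLib.MaxSub.IsoNDSympUnip

open Matrix CfsgLib CfsgLib.KnownC CfsgLib.MaxSub.IsoSemi CfsgLib.MaxSub.IsoNDJordan

universe u v

/-- A sub-partition with odd parts of even multiplicity. -/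
theorem exists_sub {μ : Multiset ℕ} {p : ℕ} (hμ : ∀ e ∈ μ, e ≤ p) (a b : ℕ → ℕ)
    (hab : ∀ j, a j + b j = tail μ j) (ha : ∀ j, 2 * a (j + 1) ≤ a j + a (j + 2))
    (hb : ∀ j, 2 * b (j + 1) ≤ b j + b (j + 2)) (hap : ∀ j, Even j → Even (a j)) :
    ∃ ν : Multiset ℕ, ν ≤ μ ∧ ν.sum = a 0 ∧ ∀ e : ℕ, Odd e → Even (ν.count e) := by
  obtain ⟨c, hc⟩ : ∃ c : ℕ → ℕ, c = fun i => a i + a (i + 2) - 2 * a (i + 1) := ⟨_, rfl⟩
  have hc' : ∀ i, c i + 2 * a (i + 1) = a i + a (i + 2) := fun i => by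
    have := ha i
    simp only [hc]; omega
  obtain ⟨ν, hν⟩ : ∃ ν : ℕ → Multiset ℕ, ν = fun N => ∑ i ∈ Finset.range N, Multiset.replicate (c i) (i + 1) :=
    ⟨_, rfl⟩
  have hsum : ∀ N, (ν N).sum + (N + 1) * a N = a 0 + N * a (N + 1) := fun N => by
    induction N with
    | zero => simp [hν]
    | succ N ih =>
      have h1 : (ν (N + 1)).sum = (ν N).sum + c N * (N + 1) := by
        simp [hν, Finset.sum_range_succ, Multiset.sum_add, Multiset.sum_replicate]
      have h := hc' N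
      rw [h1]
      linear_combination ih + (N + 1) * h
  have hcount : ∀ N e, (ν N).count e = if 1 ≤ e ∧ e ≤ N then c (e - 1) else 0 := fun N e => by
    rw [hν, Multiset.count_sum']
    simp only [Multiset.count_replicate]
    split_ifs with he
    · rw [Finset.sum_eq_single (e - 1)]
      · rw [if_pos (by omega)]
      · intro i _ hi
        rw [if_neg (by omega)]
      · intro hn
        exact absurd (Finset.mem_range.2 (by omega)) hn
    · refine Finset.sum_eq_zero fun i hi => if_neg fun h => he ?_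
      have := Finset.mem_range.1 hi
      omega
  have h0 : ∀ j, p ≤ j → a j = 0 := fun j hj => by
    have := hab j
    rw [tail_eq_zero hμ hj] at this
    omega
  refine ⟨ν p, Multiset.le_iff_count.2 fun e => ?_, ?_, fun e he => ?_⟩
  · rw [hcount]
    split_ifs with h
    · have h1 := tail_count μ h.1
      rw [← hab, ← hab, ← hab] at h1
      have h2 := hc' (e - 1)
      have h3 := hb (e - 1)
      rw [show e - 1 + 1 = e by omega, show e - 1 + 2 = e + 1 by omega] at h2 h3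
      omega
    · exact Nat.zero_le _
  · have := hsum p
    rw [h0 p le_rfl, h0 (p + 1) (by omega)] at this
    simpa using this
  · rw [hcount]
    split_ifs with h
    · have h2 := hc' (e - 1)
      rw [show e - 1 + 1 = e by omega, show e - 1 + 2 = e + 1 by omega] at h2
      have h3 := Nat.even_iff.1 (hap (e - 1) (Nat.even_iff.2 (by have := Nat.odd_iff.1 he; omega)))
      have h4 := Nat.even_iff.1 (hap (e + 1) he.add_one)
      rw [Nat.even_iff]
      omega
    · exact Even.zero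

variable {F : Type u} [Field F] [Fintype F]

theorem geom_omega (m : ℕ) : Geom (SpNilp.omega F m) :=
  ⟨SpNilp.omega_sep, fun x y h => by rw [IsoNDSymp.swap SpNilp.omega_alt y x, h, neg_zero]⟩

/-- Even powers of a skew nilpotent map have even rank on a non-degenerate invariant part. -/
theorem even_rank {V : Type v} [AddCommGroup V] [Module F V] [FiniteDimensional F V]
    {B : V →ₗ[F] V →ₗ[F] F} (halt : ∀ v, B v v = 0) {N : Module.End F V}
    (hN : ∀ x y, B (N x) y = -B x (N y)) {W : Submodule F V} (hW : ND B W) (hWi : W.map N ≤ W) (h : ℕ) :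
    Even (Module.finrank F ↥(W.map (N ^ (2 * h)))) := by
  obtain ⟨L, hL⟩ : ∃ L, L = (N ^ (2 * h)).domRestrict W := ⟨_, rfl⟩
  obtain ⟨C, hC⟩ := (LinearMap.ker L).exists_isCompl
  have hCd : Module.finrank F C = Module.finrank F ↥(W.map (N ^ (2 * h))) := by
    have h4 := L.finrank_range_add_finrank_ker
    have h5 := Submodule.finrank_add_eq_of_isCompl hC
    rw [show LinearMap.range L = W.map (N ^ (2 * h)) by rw [hL, LinearMap.range_domRestrict]] at h4
    omega
  have hsk := SpNilp.skew_pow hN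
  have heq : ∀ x y, B ((N ^ h) x) ((N ^ h) y) = (-1) ^ h * B x ((N ^ (2 * h)) y) := fun x y => by
    rw [hsk, two_mul, pow_add, Module.End.mul_apply]
  rw [← hCd]
  refine OmegaElem.even_finrank_of_alt
    (B.compl₁₂ ((N ^ h) ∘ₗ W.subtype ∘ₗ C.subtype) ((N ^ h) ∘ₗ W.subtype ∘ₗ C.subtype)) (fun x => halt _)
    fun x hx => ?_
  have h0 : L (x : W) = 0 := by
    rw [hL, LinearMap.domRestrict_apply]
    refine hW _ (pow_apply_mem hWi _ (x : W).2) fun v hv => ?_
    obtain ⟨a, c, hac, -⟩ := Submodule.existsUnique_add_of_isCompl hC ⟨v, hv⟩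
    have ha : (N ^ (2 * h)) ((a : W) : V) = 0 :=
      (LinearMap.congr_fun hL (a : W)).symm.trans (LinearMap.mem_ker.1 a.2)
    have hswap : ∀ y, B ((N ^ (2 * h)) ((x : W) : V)) y = B ((x : W) : V) ((N ^ (2 * h)) y) := fun y => by
      rw [hsk, pow_mul, neg_one_sq, one_pow, one_mul]
    rw [show v = ((a : W) : V) + ((c : W) : V) from (congrArg Subtype.val hac).symm, hswap, map_add, map_add, ha,
      map_zero, zero_add]
    have h6 : B ((N ^ h) ((x : W) : V)) ((N ^ h) ((c : W) : V)) = 0 := hx c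
    rw [heq, mul_eq_zero, or_iff_right (pow_ne_zero _ (neg_ne_zero.2 one_ne_zero))] at h6
    exact h6
  refine Subtype.ext ?_
  have := hC.disjoint.le_bot (x := (x : W)) ⟨LinearMap.mem_ker.2 h0, x.2⟩
  rwa [Submodule.mem_bot] at this

/-- The rank of a power of the shift. -/
theorem rank_shift {ι : Type*} [Fintype ι] [DecidableEq ι] (T : ι → ℕ × Bool) (i : ℕ) :
    Module.finrank F ↥(LinearMap.range ((SpNilp.shift (F := F) (T := T)) ^ i)) = tail (SpNilp.lengths T) i := by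
  classical
  have h1 : Nat.card ↥(LinearMap.ker ((SpNilp.shift (F := F) (T := T)) ^ i)) =
      Fintype.card F ^ (SpNilp.free T i).card := SpNilp.kerCard_model i
  rw [Module.natCard_eq_pow_finrank (K := F), Nat.card_eq_fintype_card] at h1
  have h2 := Nat.pow_right_injective (Fintype.one_lt_card : 1 < Fintype.card F) h1
  have h3 := ((SpNilp.shift (F := F) (T := T)) ^ i).finrank_range_add_finrank_ker
  rw [h2, Module.finrank_fintype_fun_eq_card, Fintype.card_sigma, SpNilp.card_free] at h3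
  have h4 : ∑ a : SpNilp.Slot T, ((T a.1).1 - i) + ∑ a : SpNilp.Slot T, min i (T a.1).1 =
      ∑ a : SpNilp.Slot T, Fintype.card (Fin (T a.1).1) := by
    rw [← Finset.sum_add_distrib]
    exact Finset.sum_congr rfl fun a _ => by rw [Fintype.card_fin]; omega
  have h5 : tail (SpNilp.lengths T) i = ∑ a : SpNilp.Slot T, ((T a.1).1 - i) := by
    rw [tail, SpNilp.lengths, Multiset.map_map]; rfl
  omega

variable {p m : ℕ} [Fact p.Prime] [CharP F p]

/-- Invariant under the element, invariant under its transform. -/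
theorem nil_map_le (hp : p ≠ 2) {A : ↥(Matrix.symplecticGroup (Fin m) F)} (hA : A ^ p = 1)
    {W : Submodule F (Fin m ⊕ Fin m → F)}
    (hW : W.map (Matrix.toLin' (A : Matrix (Fin m ⊕ Fin m) (Fin m ⊕ Fin m) F)) ≤ W) :
    W.map (SpNilp.nil A) ≤ W := by
  obtain ⟨S, hS⟩ : ∃ S, S = Matrix.toLin' ((A : Matrix (Fin m ⊕ Fin m) (Fin m ⊕ Fin m) F) + 1) := ⟨_, rfl⟩
  have hinj : Function.Injective S := by
    intro x y h
    rw [hS, Matrix.toLin'_apply, Matrix.toLin'_apply] at h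
    exact Matrix.mulVec_injective_iff_isUnit.2 (SpNilp.isUnit_add_one' hp hA) h
  have hS1 : W.map S ≤ W := by
    rintro _ ⟨x, hx, rfl⟩
    rw [hS, Matrix.toLin'_apply, Matrix.add_mulVec, Matrix.one_mulVec]
    exact W.add_mem (by simpa using hW ⟨x, hx, rfl⟩) hx
  have hS2 : W.map S = W := Submodule.eq_of_le_of_finrank_le hS1
    (Submodule.equivMapOfInjective S hinj W).finrank_eq.le
  rintro _ ⟨w, hw, rfl⟩
  obtain ⟨x, hx, rfl⟩ : w ∈ W.map S := hS2.symm ▸ hw
  rw [SpNilp.nil, SpNilp.endo_apply, hS, Matrix.toLin'_apply, Matrix.mulVec_mulVec, SpNilp.cay_mul hp hA,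
    Matrix.sub_mulVec, Matrix.one_mulVec]
  exact W.sub_mem (by simpa using hW ⟨x, hx, rfl⟩) hx

/-- Invariant under the transform, invariant under the element. -/
theorem map_le_of_nil (hp : p ≠ 2) {A : ↥(Matrix.symplecticGroup (Fin m) F)} (hA : A ^ p = 1)
    {W : Submodule F (Fin m ⊕ Fin m → F)} (hW : W.map (SpNilp.nil A) ≤ W) :
    W.map (Matrix.toLin' (A : Matrix (Fin m ⊕ Fin m) (Fin m ⊕ Fin m) F)) ≤ W := by
  obtain ⟨S, hS⟩ : ∃ S, S = Matrix.toLin' ((1 : Matrix (Fin m ⊕ Fin m) (Fin m ⊕ Fin m) F) - SpNilp.cay A) :=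
    ⟨_, rfl⟩
  have hinj : Function.Injective S := by
    intro x y h
    rw [hS, Matrix.toLin'_apply, Matrix.toLin'_apply] at h
    exact Matrix.mulVec_injective_iff_isUnit.2 (SpNilp.isUnit_one_sub p _ (SpNilp.cay_pow hp hA)) h
  have hc : ∀ x ∈ W, SpNilp.cay A *ᵥ x ∈ W := fun x hx => by
    rw [← SpNilp.endo_apply]; exact hW ⟨x, hx, rfl⟩
  have hS1 : W.map S ≤ W := by
    rintro _ ⟨x, hx, rfl⟩
    rw [hS, Matrix.toLin'_apply, Matrix.sub_mulVec, Matrix.one_mulVec]
    exact W.sub_mem hx (hc x hx)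
  have hS2 : W.map S = W := Submodule.eq_of_le_of_finrank_le hS1
    (Submodule.equivMapOfInjective S hinj W).finrank_eq.le
  rintro _ ⟨w, hw, rfl⟩
  obtain ⟨x, hx, rfl⟩ : w ∈ W.map S := hS2.symm ▸ hw
  rw [hS, Matrix.toLin'_apply, Matrix.toLin'_apply, Matrix.mulVec_mulVec, SpNilp.mul_one_sub_cay hp hA,
    Matrix.add_mulVec, Matrix.one_mulVec]
  exact W.add_mem hx (hc x hx)

/-- A fixed member forces a sub-partition. -/
theorem part_of_fixed (hp : p ≠ 2) {k : ℕ} (hk : Even k) (hkm : k ≤ 2 * m)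
    (hall : ∀ A : ↥(Matrix.symplecticGroup (Fin m) F), A ^ p = 1 → A ≠ 1 →
      ∃ W : Submodule F (Fin m ⊕ Fin m → F), Module.finrank F W = k ∧ ND (SpNilp.omega F m) W ∧
        W.map (Matrix.toLin' (A : Matrix (Fin m ⊕ Fin m) (Fin m ⊕ Fin m) F)) ≤ W)
    {μ : Multiset ℕ} (hle : ∀ e ∈ μ, 0 < e ∧ e ≤ p) (hodd : ∀ e : ℕ, Odd e → Even (μ.count e))
    (hsum : μ.sum = 2 * m) : ∃ ν : Multiset ℕ, ν ≤ μ ∧ ν.sum = k ∧ ∀ e : ℕ, Odd e → Even (ν.count e) := by
  classical
  by_cases hne : ∀ e ∈ μ, e ≤ 1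
  · have h1 : μ = Multiset.replicate μ.card 1 :=
      Multiset.eq_replicate_card.2 fun e he => le_antisymm (hne e he) (hle e he).1
    refine ⟨Multiset.replicate k 1, ?_, by simp, fun e _ => ?_⟩
    · rw [h1, Multiset.sum_replicate, smul_eq_mul, mul_one] at hsum
      rw [h1]
      exact (Multiset.replicate_le_replicate 1).2 (by omega)
    · rw [Multiset.count_replicate]
      split_ifs
      · exact hk
      · exact Even.zero
  push Not at hne
  obtain ⟨e, he, he1⟩ := hne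
  obtain ⟨ν₀, hν₀⟩ : ∃ ν₀ : F, ν₀ = 1 := ⟨_, rfl⟩
  obtain ⟨P, hP⟩ : ∃ P : Nat.Partition (2 * m), P.parts = μ := ⟨⟨μ, fun {i} hi => (hle i hi).1, hsum⟩, rfl⟩
  obtain ⟨L, hL⟩ : ∃ L : SpNilp.Lab p m, L.1.1 = P :=
    ⟨⟨⟨P, Finset.mem_filter.2 ⟨Finset.mem_univ _, fun a ha => (hle a (hP ▸ ha)).2,
      fun j hj => hP ▸ hodd j hj⟩⟩, ⟨∅, Finset.empty_mem_powerset _⟩⟩, rfl⟩
  obtain ⟨A, hA, g, hg, hgN⟩ := SpNilp.exists_element (p := p) hp (ν := (1 : F)) one_ne_zero L
  have hlen : SpNilp.lengths (SpNilp.typ L) = μ := by rw [SpNilp.lengths_typ, hL, hP]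
  have hrange : ∀ j, Module.finrank F ↥(LinearMap.range (SpNilp.nil A ^ j)) = tail μ j := fun j => by
    rw [show LinearMap.range (SpNilp.nil A ^ j) =
      (LinearMap.range ((SpNilp.shift (F := F) (T := SpNilp.typ L)) ^ j)).map g.toLinearMap by
        refine le_antisymm ?_ ?_
        · rintro _ ⟨v, rfl⟩
          obtain ⟨x, rfl⟩ := g.surjective v
          exact ⟨_, ⟨x, rfl⟩, SpNilp.intertwine_pow g hgN j x⟩
        · rintro _ ⟨_, ⟨x, rfl⟩, rfl⟩
          exact ⟨g x, (SpNilp.intertwine_pow g hgN j x).symm⟩, LinearEquiv.finrank_map_eq, rank_shift, hlen]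
  have hA1 : A ≠ 1 := fun h => by
    have h0 : SpNilp.nil A = 0 := by
      rw [SpNilp.nil, SpNilp.cay, h]
      simp [SpNilp.endo]
    have h1 := hrange 1
    rw [h0, zero_pow one_ne_zero, LinearMap.range_zero, finrank_bot] at h1
    have := Multiset.le_sum_of_mem (Multiset.mem_map.2 ⟨e, he, rfl⟩ : e - 1 ∈ μ.map (fun e => e - 1))
    rw [tail] at h1
    omega
  obtain ⟨W, hWd, hW, hWA⟩ := hall A hA hA1
  have hWi := nil_map_le hp hA hWA
  have hsk := SpNilp.nil_skew hp hA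
  have hG := geom_omega (F := F) m
  obtain ⟨U, hU⟩ : ∃ U, U = perp (SpNilp.omega F m) W := ⟨_, rfl⟩
  have hUi : U.map (SpNilp.nil A) ≤ U := by
    rw [hU]
    rintro _ ⟨v, hv, rfl⟩ w hw
    have h1 := hv _ (hWi ⟨w, hw, rfl⟩)
    rw [hsk, neg_eq_zero] at h1
    exact h1
  have hc : IsCompl W U := hU ▸ isCompl_perp hG hW
  have hsplit : ∀ j, Module.finrank F ↥(W.map (SpNilp.nil A ^ j)) + Module.finrank F ↥(U.map (SpNilp.nil A ^ j)) =
      tail μ j := fun j => by
    have h := Submodule.finrank_sup_add_finrank_inf_eq (W.map (SpNilp.nil A ^ j)) (U.map (SpNilp.nil A ^ j))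
    rw [← Submodule.map_sup, hc.sup_eq_top, Submodule.map_top,
      disjoint_iff.1 (hc.disjoint.mono (pow_map_le hWi j) (pow_map_le hUi j)), finrank_bot, hrange] at h
    omega
  obtain ⟨ν, h1, h2, h3⟩ := exists_sub (fun e he => (hle e he).2)
    (fun j => Module.finrank F ↥(W.map (SpNilp.nil A ^ j))) (fun j => Module.finrank F ↥(U.map (SpNilp.nil A ^ j)))
    hsplit (convex _ hWi) (convex _ hUi) (fun j hj => by
      obtain ⟨h, rfl⟩ := hj
      rw [← two_mul]
      exact even_rank SpNilp.omega_alt hsk hW hWi h)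
  exact ⟨ν, h1, h2.trans (by rw [pow_zero, Module.End.one_eq_id, Submodule.map_id, hWd]), h3⟩

/-- A sub-partition gives a fixed member. -/
theorem fixed_of_part (hp : p ≠ 2) {k : ℕ}
    (hpart : ∀ μ : Multiset ℕ, (∀ e ∈ μ, 0 < e ∧ e ≤ p) → (∀ e : ℕ, Odd e → Even (μ.count e)) → μ.sum = 2 * m →
      ∃ ν : Multiset ℕ, ν ≤ μ ∧ ν.sum = k ∧ ∀ e : ℕ, Odd e → Even (ν.count e))
    {A : ↥(Matrix.symplecticGroup (Fin m) F)} (hA : A ^ p = 1) :
    ∃ W : Submodule F (Fin m ⊕ Fin m → F), Module.finrank F W = k ∧ ND (SpNilp.omega F m) W ∧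
      W.map (Matrix.toLin' (A : Matrix (Fin m ⊕ Fin m) (Fin m ⊕ Fin m) F)) ≤ W := by
  classical
  have h2 : (2 : F) ≠ 0 := SpNilp.two_ne_zero' hp
  have hchar : ringChar F ≠ 2 := by rwa [ringChar.eq F p]
  obtain ⟨ν, hν⟩ := FiniteField.exists_nonsquare (F := F) hchar
  have hν0 : ν ≠ 0 := fun e => hν (e ▸ IsSquare.zero)
  have hsk := SpNilp.nil_skew hp hA
  obtain ⟨t, T, ⟨D⟩, -⟩ := SpNilp.exists_dec hchar SpNilp.omega_alt hsk hν (D := p) (SpNilp.nil_pow hp hA) _ ⊤ le_rfl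
    (fun v _ => trivial) (fun x _ hx => SpNilp.omega_sep x fun y => hx y trivial)
  have hcnt : ∀ j, (SpNilp.lengths T).count j =
      SpNilp.mult j * (Finset.univ.filter fun i => (T i).1 = j).card := fun j => by
    rw [SpNilp.count_lengths, SpNilp.card_chains]
  obtain ⟨σ, hσμ, hσs, hσo⟩ := hpart (SpNilp.lengths T) (fun e he => by
      obtain ⟨a, -, rfl⟩ := Multiset.mem_map.1 he
      refine ⟨D.pos _, ?_⟩
      by_contra hlt
      push Not at hlt
      have h0 : D.map (Pi.single ⟨a, ⟨p, hlt⟩⟩ 1) = 0 := by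
        rw [D.map_single, SpNilp.Dec.bs]
        show (SpNilp.nil A ^ p) (D.x a) = 0
        rw [SpNilp.nil_pow hp hA, LinearMap.zero_apply]
      have h1 := D.map_injective hsk hν0 (h0.trans (map_zero D.map).symm)
      simpa using congrFun h1 ⟨a, ⟨p, hlt⟩⟩)
    (fun e he => by rw [hcnt, SpNilp.mult, if_neg (Nat.not_even_iff_odd.2 he)]; exact even_two_mul _)
    (by
      rw [SpNilp.sum_lengths, ← Module.finrank_fintype_fun_eq_card F, (D.equiv hsk hν0).finrank_eq,
        Module.finrank_fintype_fun_eq_card]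
      simp; omega)
  have hsel : ∀ j, ∃ s ⊆ Finset.univ.filter (fun i => (T i).1 = j), SpNilp.mult j * s.card = σ.count j := fun j => by
    have hle := Multiset.le_iff_count.1 hσμ j
    rw [hcnt] at hle
    obtain ⟨c, hc⟩ : SpNilp.mult j ∣ σ.count j := by
      by_cases hj : Even j
      · rw [SpNilp.mult, if_pos hj]; exact one_dvd _
      · rw [SpNilp.mult, if_neg hj]; exact (hσo j (Nat.not_even_iff_odd.1 hj)).two_dvd
    obtain ⟨s, hs, hsc⟩ := Finset.exists_subset_card_eq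
      (Nat.le_of_mul_le_mul_left (hc ▸ hle) (SpNilp.mult_pos j) : c ≤ (Finset.univ.filter fun i => (T i).1 = j).card)
    exact ⟨s, hs, by rw [hsc, hc]⟩
  choose s hs hsc using hsel
  obtain ⟨T', hT'⟩ : ∃ T' : {i // i ∈ s (T i).1} → ℕ × Bool, T' = fun i => T i.1 := ⟨_, rfl⟩
  subst hT'
  obtain ⟨up, hup⟩ : ∃ up : SpNilp.Slot (fun i : {i // i ∈ s (T i).1} => T i.1) → SpNilp.Slot T,
    up = fun a => ⟨a.1.1, a.2⟩ := ⟨_, rfl⟩
  have hupi : Function.Injective up := by
    rintro ⟨⟨i, hi⟩, a⟩ ⟨⟨i', hi'⟩, a'⟩ e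
    rw [hup] at e
    dsimp only at e
    obtain ⟨rfl, e'⟩ := Sigma.mk.inj e
    rw [eq_of_heq e']
  obtain ⟨W, hW⟩ : ∃ W, W = Submodule.span F (Set.range fun u : SpNilp.Idx
      (fun i : {i // i ∈ s (T i).1} => T i.1) => (SpNilp.nil A ^ (u.2 : ℕ)) (D.x ⟨u.1.1.1, u.1.2⟩)) := ⟨_, rfl⟩
  let D' : SpNilp.Dec (SpNilp.omega F m) (SpNilp.nil A) ν W (fun i : {i // i ∈ s (T i).1} => T i.1) :=
    { x := fun a => D.x ⟨a.1.1, a.2⟩
      pos := fun i => D.pos i.1
      nil := fun a => D.nil ⟨a.1.1, a.2⟩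
      gram := fun a b k hk => by
        rw [D.gram ⟨a.1.1, a.2⟩ ⟨b.1.1, b.2⟩ k hk]
        refine if_congr (and_congr_right fun _ => ⟨fun e => hupi ?_, fun e => ?_⟩) rfl rfl
        · rw [hup]; exact e
        · rw [e]; rfl
      span_eq := hW.symm }
  refine ⟨W, ?_, fun z hz hz0 => ?_, map_le_of_nil hp hA ?_⟩
  · rw [← D'.range_map, LinearMap.finrank_range_of_inj (D'.map_injective hsk hν0),
      Module.finrank_fintype_fun_eq_card, ← SpNilp.sum_lengths, ← hσs]
    congr 1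
    ext j
    rw [SpNilp.count_lengths, SpNilp.card_chains, ← hsc j]
    congr 1
    refine Finset.card_bij (fun i _ => i.1) (fun i hi => ?_) (fun a _ b _ e => Subtype.ext e) fun i hi => ?_
    · exact (Finset.mem_filter.1 hi).2 ▸ i.2
    · have h := (Finset.mem_filter.1 (hs j hi)).2
      exact ⟨⟨i, h.symm ▸ hi⟩, Finset.mem_filter.2 ⟨Finset.mem_univ _, h⟩, rfl⟩
  · obtain ⟨v, rfl⟩ : z ∈ LinearMap.range D'.map := D'.range_map.symm ▸ hz
    rw [SpNilp.mform_sep hν0 v fun w => by rw [← D'.map_form hsk]; exact hz0 _ (D'.map_mem w), map_zero]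
  · rintro _ ⟨w, hw, rfl⟩
    obtain ⟨v, rfl⟩ : w ∈ LinearMap.range D'.map := D'.range_map.symm ▸ hw
    rw [D'.map_shift]
    exact D'.map_mem _

end CfsgLib.MaxSub.IsoNDSympUnip
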