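import Cfsg.Agent.Lib.MaxSub.IsoNDTwo
import Cfsg.Agent.Lib.MaxSub.IsoNDMain
import Cfsg.Agent.Lib.MaxSub.IsoNDNegOne

/-!
Elements of order two modulo scalars fixing non-degenerate subspaces, even dimension, odd characteristic.
-/

set_option autoImplicit false

namespace CfsgLib.MaxSub.IsoNDTwoEven

open Matrix CfsgLib CfsgLib.Classical CfsgLib.Geom CfsgLib.MaxSub.IsoSemi CfsgLib.MaxSub.IsoType CfsgLib.KnownC
  CfsgLib.KnownC.OrthType CfsgLib.MaxSub.IsoNDCount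
open QuadraticMap (polar)

universe u

variable {F : Type u} [Field F] [Fintype F] {ι : Type} [Fintype ι] [DecidableEq ι] {Q : QuadraticForm F (ι → F)}
  {d m : ℕ} {ε η : Prop}

/-- An involution of `Ω` fixes members of either type. -/
theorem involution (hQ : ∀ x, (∀ y, polar Q x y = 0) → x = 0) (h2 : (2 : F) ≠ 0) (hV : Fintype.card ι = 2 * d)
    (hm0 : 0 < m) (hme : Even m) (hmn : m < 2 * d) (hε : HasHalf Q ⊤ ↔ ε) (hbal : m ≠ d ∨ ¬ ε)
    (g : Cfsg.isometryGroup F (⇑Q)) (hgΩ : g ∈ Cfsg.Omega F (⇑Q)) (hTT : ∀ v, isoLin g (isoLin g v) = v) :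
    ∃ W : Submodule F (ι → F), Member Q m η W ∧ W.map (isoLin g) ≤ W := by
  obtain ⟨P, N, hP, hN, hPnd, hNnd, hperp, hsup, hsum⟩ := IsoTwo.eigen_split hQ h2
    (fun v => by rw [isoLin, Matrix.toLin'_apply]; exact (mem_isometryGroup_iff _ _).1 g.2 v) hTT
  rw [Module.finrank_fintype_fun_eq_card, hV] at hsum
  by_cases hPm : Module.finrank F P = m
  swap
  · exact IsoNDTwo.involution_member hQ h2 (fun x => (hP x).1) (fun x => (hN x).1) hPnd hNnd hperp hm0 hme η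
      (by omega) hPm
  by_cases hNm : Module.finrank F N = m
  swap
  · have hperp' : P ≤ perp Q.polarBilin N := fun x hx y hy =>
      (QuadraticMap.polar_comm Q y x).trans (hperp hy x hx)
    obtain ⟨W, hW, hWi⟩ := IsoNDTwo.involution_member (T := -isoLin g) hQ h2 (P := N) (N := P)
      (fun x hx => by rw [LinearMap.neg_apply, (hN x).1 hx, neg_neg])
      (fun x hx => by rw [LinearMap.neg_apply, (hP x).1 hx]) hNnd hPnd hperp' hm0 hme η (by omega) hNm
    refine ⟨W, hW, ?_⟩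
    rintro _ ⟨v, hv, rfl⟩
    simpa using W.neg_mem (hWi ⟨v, hv, rfl⟩)
  obtain ⟨k, hk⟩ := hme.two_dvd
  have hne : ¬ ε := hbal.resolve_left (by omega)
  have hsi := hasHalf_sum_iff hQ hPnd hNnd hperp (k₁ := k) (k₂ := k) (by omega) (by omega)
  rw [hsup, hε] at hsi
  by_cases hη : HasHalf Q P ↔ η
  · exact ⟨P, ⟨hPm, hPnd, hη⟩, by rintro _ ⟨v, hv, rfl⟩; rw [(hP v).1 hv]; exact hv⟩
  · exact ⟨N, ⟨hNm, hNnd, by tauto⟩, by rintro _ ⟨v, hv, rfl⟩; rw [(hN v).1 hv]; exact N.neg_mem hv⟩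

/-- The answer for `r = 2`. -/
theorem two_iff (hQ : ∀ x, (∀ y, polar Q x y = 0) → x = 0) (h2 : (2 : F) ≠ 0) (hV : Fintype.card ι = 2 * d)
    (hm0 : 0 < m) (hme : Even m) (hmn : m < 2 * d) (hε : HasHalf Q ⊤ ↔ ε) (hbal : m ≠ d ∨ ¬ ε)
    (hex : (ε ↔ (IsSquare (-1 : F) ∨ Even d)) →
      ∃ J : Module.End F (ι → F), (∀ v, J (J v) = -v) ∧ ∀ v, Q (J v) = Q v) :
    (∀ x : GL ι F, x ∈ Cfsg.Geo.omegaGL (⇑Q) →
      (∃ z : F, ((x ^ 2 : GL ι F) : Matrix ι ι F) = z • (1 : Matrix ι ι F)) →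
      (∀ z : F, (x : Matrix ι ι F) ≠ z • (1 : Matrix ι ι F)) →
      ∃ W : Submodule F (ι → F), Member Q m η W ∧ W.map (Matrix.toLin' (x : Matrix ι ι F)) ≤ W) ↔
    ((ε ↔ (IsSquare (-1 : F) ∨ Even d)) → (Even d ∨ IsSquare (2 : F)) →
      (η ↔ (IsSquare (-1 : F) ∨ Even (m / 2)))) := by
  have hd : Module.finrank F (ι → F) = 2 * d := by rw [Module.finrank_fintype_fun_eq_card, hV]
  obtain ⟨v₀, hv₀⟩ : ∃ v₀, Q v₀ ≠ 0 := by
    by_contra h
    push Not at h
    have h0 : ∀ x : ι → F, x = 0 := fun x => hQ x fun y => by simp [QuadraticMap.polar, h]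
    have h1 : Subsingleton (ι → F) := ⟨fun a b => (h0 a).trans (h0 b).symm⟩
    rw [Module.finrank_zero_of_subsingleton] at hd
    omega
  constructor
  · intro h hε' hdΩ
    obtain ⟨J, hJ, hJQ⟩ := hex hε'
    obtain ⟨x, hx, hx2, hxJ⟩ := IsoNDNegOne.exists_witness hQ h2 hV hdΩ hJ hJQ
    obtain ⟨W, hW, hWi⟩ := h x hx ⟨-1, hx2⟩ fun z hz => by
      have hzz := IsoNDMain.scalar_sq hv₀ hx hz
      rw [sq, Units.val_mul, hz, smul_mul_smul_comm, hzz, one_mul, one_smul] at hx2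
      have h1 := congrArg (fun M : Matrix ι ι F => M *ᵥ v₀) hx2
      simp only [Matrix.one_mulVec, Matrix.smul_mulVec, Matrix.neg_mulVec, neg_one_smul] at h1
      have h3 : Q v₀ = 0 ∨ v₀ = 0 := Or.inr (by
        rw [eq_neg_iff_add_eq_zero, ← two_smul F, smul_eq_zero] at h1
        exact h1.resolve_left h2)
      exact hv₀ (h3.elim id fun e => by rw [e, map_zero])
    exact (IsoNDNegOne.member_iff hQ h2 hJ hJQ hme (by omega)).1 ⟨W, hW, hxJ ▸ hWi⟩
  · rintro h x hx ⟨z, hz⟩ -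
    obtain ⟨g, hg, rfl⟩ := hx
    have hiso : ∀ v, Q (isoLin g v) = Q v := fun v => by
      rw [isoLin, Matrix.toLin'_apply]; exact (mem_isometryGroup_iff _ _).1 g.2 v
    have hTT : ∀ v, isoLin g (isoLin g v) = z • v := fun v => by
      have h := congrArg (fun M => M *ᵥ v) hz
      rw [sq, Units.val_mul, ← Matrix.mulVec_mulVec, Matrix.smul_mulVec, Matrix.one_mulVec] at h
      rw [isoLin, Matrix.toLin'_apply, Matrix.toLin'_apply]
      exact h
    show ∃ W : Submodule F (ι → F), Member Q m η W ∧ W.map (isoLin g) ≤ W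
    have hz1 : z = 1 ∨ z = -1 := by
      refine mul_self_eq_one_iff.1 (mul_right_cancel₀ hv₀ (Eq.trans ?_ (one_mul _).symm))
      rw [← smul_eq_mul, ← QuadraticMap.map_smul, ← hTT, hiso, hiso]
    rcases hz1 with rfl | rfl
    · exact involution hQ h2 hV hm0 hme hmn hε hbal g hg (fun v => by rw [hTT, one_smul])
    · have hJ : ∀ v, isoLin g (isoLin g v) = -v := fun v => by rw [hTT, neg_one_smul]
      refine (IsoNDNegOne.member_iff hQ h2 hJ hiso hme (by omega)).2 (h ?_ ?_)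
      · exact hε.symm.trans (IsoNDNegOne.type_top hQ h2 hJ hiso hd)
      · exact (IsoNDNegOne.mem_omega_iff hQ h2 hV g hJ).1 hg

end CfsgLib.MaxSub.IsoNDTwoEven
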