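import Cfsg.Agent.Lib.MaxSub.IsoPieces
import Cfsg.Agent.Lib.MaxSub.OrthSing
import Cfsg.Agent.Lib.KnownC.OrthPrimeClasses

/-!
Orthogonal spaces: isometries of odd prime order and totally singular subspaces, allowed polynomials.
-/

set_option autoImplicit false

namespace CfsgLib.MaxSub.IsoOrth

open Polynomial CfsgLib.Classical CfsgLib.MaxSub.IsoSemi CfsgLib.KnownC
open QuadraticMap (polar)

universe u v

variable {F : Type u} [Field F] {V : Type v} [AddCommGroup V] [Module F V]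

/-- The polar form is reflexive and separating. -/
theorem geom {Q : QuadraticForm F V} (hQ : ∀ x, (∀ y, polar Q x y = 0) → x = 0) : Geom Q.polarBilin :=
  ⟨fun x hx => hQ x fun y => hx y, fun x y h => by
    rw [QuadraticMap.polarBilin_apply_apply] at h ⊢; rwa [QuadraticMap.polar_comm]⟩

theorem ctx {Q : QuadraticForm F V} (hQ : ∀ x, (∀ y, polar Q x y = 0) → x = 0) {r : ℕ} (hr : r.Prime)
    (hr2 : r ≠ 2) (hrF : (r : F) ≠ 0) {T : Module.End F V} (hT : ∀ v, Q (T v) = Q v) (hTr : T ^ r = 1) :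
    Ctx Q.polarBilin T r where
  toGeom := geom hQ
  invol := fun _ => rfl
  flip := ⟨1, by simp, fun u v => by
    rw [QuadraticMap.polarBilin_apply_apply, QuadraticMap.polarBilin_apply_apply, QuadraticMap.polar_comm, one_mul]
    rfl⟩
  iso := fun u v => by
    simp only [QuadraticMap.polarBilin_apply_apply, QuadraticMap.polar, ← map_add, hT]
  pow := hTr
  prime := hr
  rne := hrF
  rne2 := hr2

/-- Totally singular implies totally isotropic. -/
theorem ti_of_ts {Q : QuadraticForm F V} {W : Submodule F V} (hW : ∀ w ∈ W, Q w = 0) : TI Q.polarBilin W :=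
  fun u hu v hv => by
    rw [QuadraticMap.polarBilin_apply_apply, QuadraticMap.polar, hW u hu, hW v hv, hW _ (W.add_mem hu hv)]
    simp

theorem ts_sup {Q : QuadraticForm F V} {W U : Submodule F V} (hW : ∀ w ∈ W, Q w = 0) (hU : ∀ u ∈ U, Q u = 0)
    (h : U ≤ perp Q.polarBilin W) : ∀ x ∈ W ⊔ U, Q x = 0 := by
  intro x hx
  obtain ⟨w, hw, u, hu, rfl⟩ := Submodule.mem_sup.1 hx
  have hp : polar Q w u = 0 := h hu w hw
  rw [QuadraticMap.map_add Q, hW w hw, hU u hu, hp]
  simp

variable [Fintype F] [FiniteDimensional F V] {Q : QuadraticForm F V}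

omit [Fintype F] in
/-- In `R` totally isotropic invariant subspaces are totally singular, in every characteristic. -/
theorem ts_of_ti_mov {r : ℕ} {T : Module.End F V} (hT : ∀ v, Q (T v) = Q v) (hC : Ctx Q.polarBilin T r)
    {W : Submodule F V} (hWi : W.map T ≤ W) (hWR : W ≤ LinearMap.range (T - 1)) (hW : TI Q.polarBilin W) :
    ∀ w ∈ W, Q w = 0 := by
  intro w hw
  let S : Module.End F W := T.restrict (fun x hx => apply_mem hWi hx) - 1
  have hS : Function.Injective S := (injective_iff_map_eq_zero S).2 fun x hx => by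
    have h : T (x : V) - x = 0 := congrArg Subtype.val hx
    exact Subtype.ext (no_fix hC hWR x.2 (sub_eq_zero.1 h))
  obtain ⟨v, hv⟩ := LinearMap.injective_iff_surjective.1 hS ⟨w, hw⟩
  have hwv : w = T (v : V) - v := (congrArg Subtype.val hv).symm
  have h1 : polar Q (T (v : V)) (v : V) = 0 := hW _ (apply_mem hWi v.2) _ v.2
  have h2 : polar Q (v : V) (v : V) = 0 := hW _ v.2 _ v.2
  rw [QuadraticMap.polar_self, two_smul] at h2
  rw [hwv, sub_eq_add_neg, QuadraticMap.map_add Q, QuadraticMap.map_neg, hT, QuadraticMap.polar_neg_right, h1]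
  linear_combination h2

/-- Totally singular subspaces of every dimension below half. -/
theorem exists_ts (hQ : ∀ x, (∀ y, polar Q x y = 0) → x = 0) {U : Submodule F V} (hU : ND Q.polarBilin U) :
    ∀ k, 2 * k = 0 ∨ 2 * k + 1 ≤ Module.finrank F U →
      ∃ W ≤ U, (∀ w ∈ W, Q w = 0) ∧ Module.finrank F W = k := by
  intro k
  induction k with
  | zero => intro _; exact ⟨⊥, bot_le, fun w hw => by rw [(Submodule.mem_bot F).1 hw, map_zero], finrank_bot F V⟩
  | succ k ih =>
    intro hk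
    obtain ⟨W, hWU, hW, hWd⟩ := ih (by omega)
    have h := finrank_inf_perp (geom hQ) hU hWU
    obtain ⟨C, hC⟩ := W.exists_isCompl
    obtain ⟨Y, hY⟩ : ∃ Y, Y = (U ⊓ perp Q.polarBilin W) ⊓ C := ⟨_, rfl⟩
    have h1 := Submodule.finrank_sup_add_finrank_inf_eq W Y
    have hsup : W ⊔ Y = U ⊓ perp Q.polarBilin W := by
      rw [hY, inf_comm _ C, ← sup_inf_assoc_of_le C (le_inf hWU (ti_iff_le_perp.1 (ti_of_ts hW))), hC.sup_eq_top,
        top_inf_eq]
    have hWY : W ⊓ Y = ⊥ := le_bot_iff.1 (hC.disjoint.eq_bot ▸ inf_le_inf_left W (hY ▸ inf_le_right))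
    rw [hsup, hWY, finrank_bot] at h1
    obtain ⟨v, hv, hv0, hvv⟩ := exists_singular_in (Q := Q) (W := Y) (by omega)
    have hv' : v ∈ U ⊓ perp Q.polarBilin W ∧ v ∈ C := hY.le hv
    refine ⟨W ⊔ Submodule.span F {v}, sup_le hWU ((Submodule.span_singleton_le_iff_mem _ _).2 hv'.1.1),
      ts_sup hW (fun u hu => ?_) ((Submodule.span_singleton_le_iff_mem _ _).2 hv'.1.2), ?_⟩
    · obtain ⟨c, rfl⟩ := Submodule.mem_span_singleton.1 hu
      rw [QuadraticMap.map_smul, hvv, smul_zero]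
    have h2 := Submodule.finrank_sup_add_finrank_inf_eq W (Submodule.span F {v})
    have hinf : W ⊓ Submodule.span F {v} = ⊥ := le_bot_iff.1
      (hC.disjoint.eq_bot ▸ inf_le_inf_left W ((Submodule.span_singleton_le_iff_mem _ _).2 hv'.2))
    rw [hinf, finrank_bot, finrank_span_singleton hv0, hWd] at h2
    omega

variable {p : ℕ} [Fact p.Prime] [CharP F p] {r : ℕ} [hr : Fact r.Prime]

section

variable {i : ℕ} (hi : i = orderOf (Fintype.card F : ZMod r))
include hi

omit [Fact p.Prime] [CharP F p] in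
theorem sd_iff (hr2 : r ≠ 2) (hipos : 0 < i) : SelfDual (Fintype.card F) (p ^ 0) r ↔ Even i := by
  have h2r : (2 : ZMod r) ≠ 0 := fun h => hr2 ((Nat.prime_dvd_prime_iff_eq hr.out Nat.prime_two).1
    ((ZMod.natCast_eq_zero_iff 2 r).1 (by exact_mod_cast h)))
  have hqi : (Fintype.card F : ZMod r) ^ i = 1 := hi ▸ pow_orderOf_eq_one _
  constructor
  · rintro ⟨k, hk⟩
    rw [pow_zero, one_mul, ← ZMod.natCast_eq_zero_iff, Nat.cast_add, Nat.cast_pow, Nat.cast_one] at hk
    by_contra hodd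
    rw [Nat.not_even_iff_odd] at hodd
    have h1 : ((Fintype.card F : ZMod r) ^ k) ^ i = 1 := by rw [← pow_mul, mul_comm, pow_mul, hqi, one_pow]
    rw [eq_neg_of_add_eq_zero_left hk, hodd.neg_one_pow] at h1
    exact h2r (by linear_combination -h1)
  · rintro ⟨k, hk⟩
    refine ⟨k, ?_⟩
    rw [pow_zero, one_mul, ← ZMod.natCast_eq_zero_iff, Nat.cast_add, Nat.cast_pow, Nat.cast_one]
    rcases sq_eq_one_iff.1 (show ((Fintype.card F : ZMod r) ^ k) ^ 2 = 1 by
      rw [← pow_mul, show k * 2 = i by omega, hqi]) with h | h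
    · have := orderOf_dvd_of_pow_eq_one h
      rw [← hi] at this
      have := Nat.le_of_dvd (by omega) this
      omega
    · rw [h, neg_add_cancel]

/-- `q ^ k ≡ ±1` in terms of `c`. -/
theorem c_dvd_two_mul {c k : ℕ} (hc : c = if Even i then i else 2 * i) (h : r ∣ Fintype.card F ^ (2 * k) - 1) :
    c ∣ 2 * k := by
  have h1 : i ∣ 2 * k := hi ▸ orderOf_dvd_of_pow_eq_one (by
    rw [← ZMod.natCast_eq_zero_iff, Nat.cast_sub (Nat.one_le_pow _ _ Fintype.card_pos), sub_eq_zero] at h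
    simpa using h)
  by_cases hev : Even i
  · rwa [hc, if_pos hev]
  · rw [hc, if_neg hev]
    exact mul_dvd_mul_left 2 ((Nat.coprime_two_right.2 (Nat.not_even_iff_odd.1 hev)).dvd_of_dvd_mul_left h1)

include p in
/-- An allowed polynomial of degree `c M` without the root one. -/
theorem exists_block_poly (hr2 : r ≠ 2) (hrp : r ≠ p) {c : ℕ} (hc : c = if Even i then i else 2 * i) (M : ℕ) :
    ∃ f ∈ StarCount.polys (SemiPalin.tilde (RingHom.id F)) r (c * M), ¬ f.IsRoot 1 := by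
  have hipos : 0 < i := SympOrderR.i_pos (F := F) (p := p) rfl hr.out hrp hi
  obtain ⟨g, hg⟩ : (SympOrderR.factors F r).Nonempty := by
    rw [← Finset.card_pos, SympOrderR.card_factors (F := F) (p := p) rfl hr.out hrp hi]
    refine Nat.div_pos (Nat.le_of_dvd (by have := hr.out.two_le; omega) ?_) hipos
    exact hi ▸ orderOf_dvd_of_pow_eq_one (ZMod.pow_card_sub_one_eq_one fun h0 => by rw [h0] at hi; simp at hi; omega)
  have hst : ∀ x : F, RingHom.id F x = x ^ p ^ 0 := fun x => by simp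
  obtain ⟨hgm, hgi, -⟩ := SympOrderR.mem_factors.1 hg
  obtain ⟨hts, htt⟩ := SigmaFactors.tilde_mem hr.out hrp (RingHom.id F) (fun _ => rfl) hst hg
  have hfne : ∀ {h : F[X]}, h ∈ SympOrderR.factors F r → ¬ (X - C (1 : F)) ∣ h := fun {h} hh hd =>
    (SympOrderR.facts (F := F) hr.out hrp hh).1 (eq_of_monic_of_associated (SympOrderR.mem_factors.1 hh).1
      (monic_X_sub_C 1) ((irreducible_X_sub_C 1).associated_of_dvd (SympOrderR.mem_factors.1 hh).2.1 hd).symm)
  have hdeg : ∀ {h : F[X]}, h ∈ SympOrderR.factors F r → h.natDegree = i := fun {h} hh =>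
    SympOrderR.natDegree_factor (F := F) (p := p) rfl hr.out hrp hi hh
  obtain ⟨B, hBm, hBd, hBs, hBall, hB1⟩ : ∃ B : F[X], B.Monic ∧ B.natDegree = c ∧
      SemiPalin.tilde (RingHom.id F) B = B ∧ (∀ Q : F[X], Irreducible Q → Q ∣ B → Q ∣ X ^ r - 1) ∧
      ¬ (X - C (1 : F)) ∣ B := by
    by_cases hev : Even i
    · exact ⟨g, hgm, (hdeg hg).trans (by rw [hc, if_pos hev]),
        (SympOrderR.star_eq_iff (F := F) (p := p) rfl hr.out hrp hi hr2 hg).2 hev,
        fun Q _ hQ => hQ.trans (SympOrderR.facts (F := F) hr.out hrp hg).2.1, hfne hg⟩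
    · refine ⟨g * SemiPalin.tilde (RingHom.id F) g, hgm.mul (SympOrderR.mem_factors.1 hts).1, ?_, ?_,
        fun Q hQ hd => (hQ.prime.dvd_or_dvd hd).elim (fun h => h.trans (SympOrderR.facts (F := F) hr.out hrp hg).2.1)
          fun h => h.trans (SympOrderR.facts (F := F) hr.out hrp hts).2.1,
        fun hd => ((irreducible_X_sub_C (1 : F)).prime.dvd_or_dvd hd).elim (hfne hg) (hfne hts)⟩
      · rw [hgm.natDegree_mul (SympOrderR.mem_factors.1 hts).1, hdeg hg, hdeg hts, hc, if_neg hev, two_mul]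
      · rw [SemiPalin.tilde_mul, htt, mul_comm]
  refine ⟨B ^ M, ⟨hBm.pow M, ?_, by rw [hBm.natDegree_pow, hBd, mul_comm],
    fun Q _ hQ hd => hBall Q hQ (hQ.prime.dvd_of_dvd_pow hd)⟩,
    fun h1 => hB1 ((irreducible_X_sub_C (1 : F)).prime.dvd_of_dvd_pow (dvd_iff_isRoot.2 h1))⟩
  induction M with
  | zero =>
    rw [pow_zero, OrthPrime.eq_id_tilde, coeff_one_zero, inv_one, map_one, one_mul, ← map_one C,
      SemiPalin.reverse_C]
  | succ k ih => rw [pow_succ, SemiPalin.tilde_mul, ih, hBs]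

include p in
/-- An allowed polynomial with `o` different factors, all simple. -/
theorem exists_distinct_poly (hr2 : r ≠ 2) (hrp : r ≠ p) (hev : Even i) {o : ℕ} (ho : o ≤ (r - 1) / i) :
    ∃ f ∈ StarCount.polys (SemiPalin.tilde (RingHom.id F)) r (i * o), ¬ f.IsRoot 1 ∧
      ∀ g ∈ SympOrderR.factors F r, ¬ g ^ 2 ∣ f := by
  classical
  obtain ⟨S, hS, hSc⟩ := Finset.exists_subset_card_eq (s := SympOrderR.factors F r) (n := o)
    (by rw [SympOrderR.card_factors (F := F) (p := p) rfl hr.out hrp hi]; exact ho)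
  have hm : ∀ g ∈ S, g.Monic := fun g hg => (SympOrderR.mem_factors.1 (hS hg)).1
  refine ⟨∏ g ∈ S, g, ⟨monic_prod_of_monic _ _ hm, ?_, ?_, fun Q _ hQ hd => ?_⟩, fun h1 => ?_, fun g hg h2 => ?_⟩
  · refine Finset.prod_induction _ (fun x => SemiPalin.tilde (RingHom.id F) x = x) (fun x y hx hy => ?_) ?_
      fun g hg => (SympOrderR.star_eq_iff (F := F) (p := p) rfl hr.out hrp hi hr2 (hS hg)).2 hev
    · rw [SemiPalin.tilde_mul, hx, hy]
    · rw [OrthPrime.eq_id_tilde, coeff_one_zero, inv_one, map_one, one_mul, ← map_one C, SemiPalin.reverse_C]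
  · rw [natDegree_prod_of_monic _ _ hm, Finset.sum_congr rfl fun g hg =>
      SympOrderR.natDegree_factor (F := F) (p := p) rfl hr.out hrp hi (hS hg), Finset.sum_const, hSc, smul_eq_mul,
      mul_comm]
  · obtain ⟨g, hg, hgd⟩ := hQ.prime.exists_mem_finset_dvd hd
    exact hgd.trans (SympOrderR.facts (F := F) hr.out hrp (hS hg)).2.1
  · obtain ⟨g, hg, hgd⟩ := (irreducible_X_sub_C (1 : F)).prime.exists_mem_finset_dvd (dvd_iff_isRoot.2 h1)
    exact (SympOrderR.facts (F := F) hr.out hrp (hS hg)).1 (eq_of_monic_of_associated (hm g hg)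
      (monic_X_sub_C 1) ((irreducible_X_sub_C 1).associated_of_dvd (SympOrderR.mem_factors.1 (hS hg)).2.1 hgd).symm)
  · obtain ⟨hgm, hgi, -⟩ := SympOrderR.mem_factors.1 hg
    obtain ⟨k, hk, hkd⟩ := hgi.prime.exists_mem_finset_dvd ((dvd_pow_self g two_ne_zero).trans h2)
    obtain rfl := SympOrderR.eq_of_dvd hg (hS hk) hkd
    rw [← Finset.mul_prod_erase _ _ hk, pow_two, mul_dvd_mul_iff_left hgi.ne_zero] at h2
    obtain ⟨k', hk', hkd'⟩ := hgi.prime.exists_mem_finset_dvd h2
    exact (Finset.mem_erase.1 hk').1 (SympOrderR.eq_of_dvd hg (hS (Finset.mem_erase.1 hk').2) hkd').symm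

end

end CfsgLib.MaxSub.IsoOrth
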