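import Mathlib

/-!
Congruences of powers of `q` modulo a prime and the multiplicative order.
-/

set_option autoImplicit false

namespace CfsgLib.MaxSub.IsoOrthBase

variable {r i q : ℕ}

theorem dvd_of_sub (hi : i = orderOf (q : ZMod r)) {y : ℕ} (h : r ∣ q ^ y - 1) (hq : 1 ≤ q := by exact Fintype.card_pos) :
    i ∣ y := by
  refine hi ▸ orderOf_dvd_of_pow_eq_one ?_
  rw [← ZMod.natCast_eq_zero_iff, Nat.cast_sub (Nat.one_le_pow _ _ hq), sub_eq_zero] at h
  simpa using h

/-- `q ^ y ≡ -1` forces an even order dividing `2 y` with odd quotient. -/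
theorem odd_part_of_add [hr : Fact r.Prime] (hi : i = orderOf (q : ZMod r)) (hr2 : r ≠ 2) {y : ℕ}
    (h : r ∣ q ^ y + 1) : Even i ∧ ∃ s, Odd s ∧ 2 * y = i * s := by
  have h2 : (2 : ZMod r) ≠ 0 := fun h => hr2 ((Nat.prime_dvd_prime_iff_eq hr.out Nat.prime_two).1
    ((ZMod.natCast_eq_zero_iff 2 r).1 (by exact_mod_cast h)))
  rw [← ZMod.natCast_eq_zero_iff, Nat.cast_add, Nat.cast_pow, Nat.cast_one] at h
  have hm : (q : ZMod r) ^ y = -1 := eq_neg_of_add_eq_zero_left h
  obtain ⟨s, hs⟩ : i ∣ 2 * y := hi ▸ orderOf_dvd_of_pow_eq_one (by rw [mul_comm, pow_mul, hm, neg_one_sq])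
  have hsodd : Odd s := by
    rcases Nat.even_or_odd s with ⟨u, rfl⟩ | h'
    · have hy : y = i * u := by rw [mul_add] at hs; omega
      rw [hy, pow_mul, hi, pow_orderOf_eq_one, one_pow] at hm
      exact absurd (by linear_combination hm : (2 : ZMod r) = 0) h2
    · exact h'
  refine ⟨?_, s, hsodd, hs⟩
  rcases Nat.even_or_odd i with h' | h'
  · exact h'
  · exact absurd (hs ▸ even_two_mul y) (Nat.not_even_iff_odd.2 (h'.mul hsodd))

end CfsgLib.MaxSub.IsoOrthBase
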