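import Mathlib

/-!
Number of subspaces of given dimension over a finite field: divisibility facts.
-/

set_option autoImplicit false

namespace CfsgLib.MaxSub.SubspaceNumber

universe u v

variable {F : Type u} [Field F] [Fintype F] {V : Type v} [AddCommGroup V] [Module F V] [FiniteDimensional F V]

/-- The number of `k`-dimensional subspaces. -/
noncomputable def num (F : Type u) [Field F] (V : Type v) [AddCommGroup V] [Module F V] (k : ℕ) : ℕ :=
  Nat.card {W : Submodule F V // Module.finrank F ↥W = k}

theorem card_indep {k : ℕ} (hk : k ≤ Module.finrank F V) :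
    Nat.card {s : Fin k → V // LinearIndependent F s} =
      ∏ i : Fin k, (Fintype.card F ^ Module.finrank F V - Fintype.card F ^ (i : ℕ)) := by
  haveI : Finite V := Module.finite_of_finite F
  haveI : Fintype V := Fintype.ofFinite V
  exact card_linearIndependent hk

theorem num_mul {k : ℕ} (hk : k ≤ Module.finrank F V) :
    num F V k * ∏ i : Fin k, (Fintype.card F ^ k - Fintype.card F ^ (i : ℕ)) =
      ∏ i : Fin k, (Fintype.card F ^ Module.finrank F V - Fintype.card F ^ (i : ℕ)) := by
  classical
  haveI : Finite V := Module.finite_of_finite F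
  let X := {W : Submodule F V // Module.finrank F ↥W = k}
  haveI : Finite (Submodule F V) := Finite.of_injective (fun W => (W : Set V)) SetLike.coe_injective
  haveI : Fintype X := Fintype.ofFinite X
  let f : {s : Fin k → V // LinearIndependent F s} → X := fun s =>
    ⟨Submodule.span F (Set.range s.1), by rw [finrank_span_eq_card s.2, Fintype.card_fin]⟩
  have hfib : ∀ W : X, Nat.card {s : {s : Fin k → V // LinearIndependent F s} // f s = W} =
      ∏ i : Fin k, (Fintype.card F ^ k - Fintype.card F ^ (i : ℕ)) := fun W => by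
    have e : {s : {s : Fin k → V // LinearIndependent F s} // f s = W} ≃
        {t : Fin k → W.1 // LinearIndependent F t} :=
      { toFun := fun s => ⟨fun j => ⟨s.1.1 j, by
            have h := congrArg Subtype.val s.2
            exact h ▸ Submodule.subset_span ⟨j, rfl⟩⟩, LinearIndependent.of_comp W.1.subtype s.1.2⟩
        invFun := fun t => ⟨⟨fun j => (t.1 j : V), t.2.map' W.1.subtype W.1.ker_subtype⟩, Subtype.ext
          (Submodule.eq_of_le_of_finrank_eq (Submodule.span_le.2 fun _ ⟨j, hj⟩ => hj ▸ (t.1 j).2) (by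
            have h : LinearIndependent F (fun j => (t.1 j : V)) := t.2.map' W.1.subtype W.1.ker_subtype
            exact (finrank_span_eq_card h).trans (by rw [Fintype.card_fin, W.2])))⟩
        left_inv := fun s => rfl
        right_inv := fun t => rfl }
    rw [Nat.card_congr e, card_indep (V := W.1) (by rw [W.2]), W.2]
  rw [← card_indep hk, ← Nat.card_congr (Equiv.sigmaFiberEquiv f), Nat.card_sigma]
  simp only [hfib, Finset.sum_const, Finset.card_univ, smul_eq_mul]
  show Nat.card X * _ = _
  rw [Nat.card_eq_fintype_card]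

theorem num_mul' {k : ℕ} (hk : k ≤ Module.finrank F V) :
    num F V k * ∏ i ∈ Finset.range k, (Fintype.card F ^ (k - i) - 1) =
      ∏ i ∈ Finset.range k, (Fintype.card F ^ (Module.finrank F V - i) - 1) := by
  have h := num_mul (F := F) (V := V) hk
  rw [Fin.prod_univ_eq_prod_range (fun i => Fintype.card F ^ k - Fintype.card F ^ i) k,
    Fin.prod_univ_eq_prod_range (fun i => Fintype.card F ^ Module.finrank F V - Fintype.card F ^ i) k] at h
  have key : ∀ n, k ≤ n → ∏ i ∈ Finset.range k, (Fintype.card F ^ n - Fintype.card F ^ i) =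
      (∏ i ∈ Finset.range k, Fintype.card F ^ i) * ∏ i ∈ Finset.range k, (Fintype.card F ^ (n - i) - 1) := by
    intro n hn
    rw [← Finset.prod_mul_distrib]
    refine Finset.prod_congr rfl fun i hi => ?_
    rw [Nat.mul_sub, ← pow_add, mul_one, Nat.add_sub_cancel' (by have := Finset.mem_range.1 hi; omega)]
  rw [key k le_rfl, key _ hk, ← mul_assoc, mul_comm (num F V k), mul_assoc] at h
  exact Nat.eq_of_mul_eq_mul_left (Finset.prod_pos fun i _ => pow_pos Fintype.card_pos i) h

theorem num_symm {k : ℕ} (hk : k ≤ Module.finrank F V) :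
    num F V (Module.finrank F V - k) = num F V k := by
  have hq : ∀ a : ℕ, 0 < Fintype.card F ^ (a + 1) - 1 := fun a =>
    Nat.sub_pos_of_lt (Nat.one_lt_pow (by omega) Fintype.one_lt_card)
  have hP : ∀ k, ∏ i ∈ Finset.range k, (Fintype.card F ^ (k - i) - 1) =
      ∏ i ∈ Finset.range k, (Fintype.card F ^ (i + 1) - 1) := fun k => by
    rw [← Finset.prod_range_reflect (fun i => Fintype.card F ^ (i + 1) - 1) k]
    refine Finset.prod_congr rfl fun i hi => ?_
    have := Finset.mem_range.1 hi
    rw [show k - 1 - i + 1 = k - i by omega]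
  have htop : ∀ n k, k ≤ n → (∏ i ∈ Finset.range k, (Fintype.card F ^ (n - i) - 1)) *
      ∏ i ∈ Finset.range (n - k), (Fintype.card F ^ (i + 1) - 1) =
      ∏ i ∈ Finset.range n, (Fintype.card F ^ (i + 1) - 1) := by
    intro n k hkn
    induction k with
    | zero => simp
    | succ k ih =>
      have h1 := ih (by omega)
      rw [show n - k = n - (k + 1) + 1 by omega, Finset.prod_range_succ,
        show n - (k + 1) + 1 = n - k by omega] at h1
      rw [← h1, Finset.prod_range_succ]
      ring
  have main : ∀ k, k ≤ Module.finrank F V →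
      num F V k * ((∏ i ∈ Finset.range k, (Fintype.card F ^ (i + 1) - 1)) *
        ∏ i ∈ Finset.range (Module.finrank F V - k), (Fintype.card F ^ (i + 1) - 1)) =
      ∏ i ∈ Finset.range (Module.finrank F V), (Fintype.card F ^ (i + 1) - 1) := fun k hk => by
    rw [← mul_assoc, ← hP k, num_mul' hk, htop _ k hk]
  have h1 := main k hk
  have h2 := main _ (Nat.sub_le (Module.finrank F V) k)
  rw [Nat.sub_sub_self hk, mul_comm (∏ i ∈ Finset.range (Module.finrank F V - k), _)] at h2
  exact Nat.eq_of_mul_eq_mul_right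
    (Nat.mul_pos (Finset.prod_pos fun i _ => hq i) (Finset.prod_pos fun i _ => hq i)) (h2.trans h1.symm)

/-- Congruence to one modulo the characteristic. -/
theorem num_not_dvd {p : ℕ} [Fact p.Prime] [CharP F p] {k : ℕ} (hk : k ≤ Module.finrank F V) :
    ¬ p ∣ num F V k := by
  intro h
  have h1 := congrArg (Nat.cast (R := ZMod p)) (num_mul' (F := F) hk)
  rw [Nat.cast_mul, (ZMod.natCast_eq_zero_iff _ p).2 h, zero_mul, Nat.cast_prod] at h1
  obtain ⟨i, hi, h2⟩ := Finset.prod_eq_zero_iff.1 h1.symm
  obtain ⟨e, -, he⟩ := FiniteField.card F p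
  have hpos : Module.finrank F V - i ≠ 0 := by have := Finset.mem_range.1 hi; omega
  rw [Nat.cast_sub (Nat.one_le_pow _ _ Fintype.card_pos), Nat.cast_pow, he, Nat.cast_pow, ZMod.natCast_self,
    zero_pow e.ne_zero, zero_pow hpos, Nat.cast_one, zero_sub, neg_eq_zero] at h2
  exact one_ne_zero h2

/-- A prime dividing the number divides some `q ^ (n - j) - 1`, `j < k`. -/
theorem exists_dvd {r : ℕ} [Fact r.Prime] {k : ℕ} (hk : k ≤ Module.finrank F V) (h : r ∣ num F V k) :
    ∃ j < k, orderOf (Fintype.card F : ZMod r) ∣ Module.finrank F V - j := by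
  have h1 : r ∣ ∏ i ∈ Finset.range k, (Fintype.card F ^ (Module.finrank F V - i) - 1) :=
    num_mul' (F := F) hk ▸ h.mul_right _
  obtain ⟨j, hj, hd⟩ := (Prime.dvd_finsetProd_iff (Fact.out : r.Prime).prime _).1 h1
  refine ⟨j, Finset.mem_range.1 hj, orderOf_dvd_of_pow_eq_one ?_⟩
  rw [← ZMod.natCast_eq_zero_iff, Nat.cast_sub (Nat.one_le_pow _ _ Fintype.card_pos), Nat.cast_pow, Nat.cast_one,
    sub_eq_zero] at hd
  exact hd

/-- Complements are counted by a power of `q`. -/
theorem pairs_card {k : ℕ} :
    ∃ e, Nat.card {P : Submodule F V × Submodule F V // IsCompl P.1 P.2 ∧ Module.finrank F ↥P.1 = k} =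
      num F V k * Fintype.card F ^ e := by
  classical
  haveI : Finite V := Module.finite_of_finite F
  haveI : Finite (Submodule F V) := Finite.of_injective (fun W => (W : Set V)) SetLike.coe_injective
  let X := {W : Submodule F V // Module.finrank F ↥W = k}
  haveI : Fintype X := Fintype.ofFinite X
  let e : {P : Submodule F V × Submodule F V // IsCompl P.1 P.2 ∧ Module.finrank F ↥P.1 = k} ≃
      (W : X) × {Q : Submodule F V // IsCompl W.1 Q} :=
    { toFun := fun P => ⟨⟨P.1.1, P.2.2⟩, ⟨P.1.2, P.2.1⟩⟩
      invFun := fun s => ⟨(s.1.1, s.2.1), s.2.2, s.1.2⟩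
      left_inv := fun _ => rfl
      right_inv := fun _ => rfl }
  refine ⟨(Module.finrank F V - k) * k, ?_⟩
  have hfib : ∀ W : X, Nat.card {Q : Submodule F V // IsCompl W.1 Q} =
      Fintype.card F ^ ((Module.finrank F V - k) * k) := fun W => by
    rw [Nat.card_congr W.1.isComplEquivProj]
    obtain ⟨π, hπ⟩ := W.1.subtype.exists_leftInverse_of_injective W.1.ker_subtype
    let e : {f : V →ₗ[F] W.1 // ∀ x : W.1, f x = x} ≃ ((V ⧸ W.1) →ₗ[F] W.1) :=
      { toFun := fun f => W.1.liftQ (f.1 - π) fun x hx => by
          rw [LinearMap.mem_ker, LinearMap.sub_apply, f.2 ⟨x, hx⟩]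
          exact sub_eq_zero.2 (LinearMap.congr_fun hπ ⟨x, hx⟩).symm
        invFun := fun g => ⟨π + g ∘ₗ W.1.mkQ, fun x => by
          rw [LinearMap.add_apply, LinearMap.comp_apply, Submodule.mkQ_apply, (Submodule.Quotient.mk_eq_zero _).2 x.2,
            map_zero, add_zero]
          exact LinearMap.congr_fun hπ x⟩
        left_inv := fun f => Subtype.ext (LinearMap.ext fun x => by
          simp only [LinearMap.add_apply, LinearMap.comp_apply, Submodule.mkQ_apply, Submodule.liftQ_apply,
            LinearMap.sub_apply, add_sub_cancel])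
        right_inv := fun g => LinearMap.ext fun x => by
          obtain ⟨x, rfl⟩ := Submodule.Quotient.mk_surjective W.1 x
          simp }
    rw [Nat.card_congr e, Module.natCard_eq_pow_finrank (K := F), Nat.card_eq_fintype_card,
      Module.finrank_linearMap, W.2]
    congr 2
    have := W.1.finrank_quotient_add_finrank
    rw [W.2] at this
    omega
  rw [Nat.card_congr e, Nat.card_sigma]
  simp only [hfib, Finset.sum_const, Finset.card_univ, smul_eq_mul]
  show _ = Nat.card X * _
  rw [Nat.card_eq_fintype_card]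

/-- Flags. -/
theorem flags_card {k l : ℕ} :
    Nat.card {P : Submodule F V × Submodule F V // P.1 ≤ P.2 ∧ Module.finrank F ↥P.1 = k ∧ Module.finrank F ↥P.2 = l} =
      num F V l * num F (Fin l → F) k := by
  classical
  haveI : Finite V := Module.finite_of_finite F
  haveI : Finite (Submodule F V) := Finite.of_injective (fun W => (W : Set V)) SetLike.coe_injective
  let X := {W : Submodule F V // Module.finrank F ↥W = l}
  haveI : Fintype X := Fintype.ofFinite X
  let e : {P : Submodule F V × Submodule F V // P.1 ≤ P.2 ∧ Module.finrank F ↥P.1 = k ∧ Module.finrank F ↥P.2 = l} ≃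
      (W : X) × {S : Submodule F W.1 // Module.finrank F ↥S = k} :=
    { toFun := fun P => ⟨⟨P.1.2, P.2.2.2⟩, ⟨P.1.1.comap P.1.2.subtype, by
        rw [LinearEquiv.finrank_eq (Submodule.comapSubtypeEquivOfLe P.2.1)]; exact P.2.2.1⟩⟩
      invFun := fun s => ⟨(s.2.1.map s.1.1.subtype, s.1.1), Submodule.map_subtype_le _ _,
        by rw [Submodule.finrank_map_subtype_eq]; exact s.2.2, s.1.2⟩
      left_inv := fun P => Subtype.ext (Prod.ext (by
        show (P.1.1.comap P.1.2.subtype).map P.1.2.subtype = P.1.1
        rw [Submodule.map_comap_subtype, inf_eq_right.2 P.2.1]) rfl)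
      right_inv := fun s => Sigma.ext rfl (heq_of_eq (Subtype.ext
        (Submodule.comap_map_eq_of_injective s.1.1.injective_subtype _))) }
  have hfib : ∀ W : X, Nat.card {S : Submodule F W.1 // Module.finrank F ↥S = k} = num F (Fin l → F) k := fun W => by
    obtain ⟨φ⟩ : Nonempty (↥W.1 ≃ₗ[F] (Fin l → F)) :=
      ⟨LinearEquiv.ofFinrankEq _ _ (by rw [W.2, Module.finrank_fin_fun])⟩
    refine Nat.card_congr ((Submodule.orderIsoMapComap φ).toEquiv.subtypeEquiv fun S => ?_)
    rw [show ((Submodule.orderIsoMapComap φ).toEquiv S) = S.map (φ : ↥W.1 →ₗ[F] (Fin l → F)) from rfl,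
      LinearEquiv.finrank_map_eq]
  rw [Nat.card_congr e, Nat.card_sigma]
  simp only [hfib, Finset.sum_const, Finset.card_univ, smul_eq_mul]
  show _ = Nat.card X * _
  rw [Nat.card_eq_fintype_card]

end CfsgLib.MaxSub.SubspaceNumber
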