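import Cfsg.Agent.Lib.MaxSub.SemiWitness
import Cfsg.Agent.Lib.MaxSub.SubspaceNumber

/-!
Elements of prime order `r ≠ p` modulo scalars in `SL_n(q)` and the dimensions of their invariant subspaces.
-/

set_option autoImplicit false

namespace CfsgLib.MaxSub.SemiCriterion

open CfsgLib.MaxSub.SemiDims CfsgLib.MaxSub.SemiWitness

universe u

variable {F : Type u} [Field F] [Fintype F] {p : ℕ} [Fact p.Prime] [CharP F p] {q : ℕ} {n : ℕ}

/-- The condition for `i = 1`. -/
def Base (r q n m : ℕ) : Prop :=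
  r ∣ m ∨ (padicValNat r n ≤ padicValNat r (q - 1) ∧ (r = 2 → Even n → q % 4 = 1))

variable {r : ℕ} [Fact r.Prime]

include p in
theorem cast_ne (hrp : r ≠ p) : (r : F) ≠ 0 := fun h =>
  hrp ((Nat.prime_dvd_prime_iff_eq Fact.out Fact.out).1 ((CharP.cast_eq_zero_iff F p r).1 h)).symm

include p in
theorem not_dvd_card (hrp : r ≠ p) : ¬ r ∣ Fintype.card F := fun h => by
  obtain ⟨m, -, hm⟩ := FiniteField.card F p
  rw [hm] at h
  exact hrp ((Nat.prime_dvd_prime_iff_eq Fact.out Fact.out).1 ((Fact.out : r.Prime).dvd_of_dvd_pow h))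

include p in
theorem order_pos (hrp : r ≠ p) : 0 < orderOf (Fintype.card F : ZMod r) := by
  have hr : r.Prime := Fact.out
  refine orderOf_pos_iff.2 (isOfFinOrder_iff_pow_eq_one.2 ⟨r - 1, by have := hr.two_le; omega, ?_⟩)
  exact ZMod.pow_card_sub_one_eq_one fun h => not_dvd_card (F := F) hrp ((ZMod.natCast_eq_zero_iff _ r).1 h)

theorem order_eq_one_iff : orderOf (Fintype.card F : ZMod r) = 1 ↔ r ∣ Fintype.card F - 1 := by
  rw [orderOf_eq_one_iff, ← ZMod.natCast_eq_zero_iff, Nat.cast_sub Fintype.card_pos, Nat.cast_one, sub_eq_zero]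

theorem dvd_pow_order : r ∣ Fintype.card F ^ orderOf (Fintype.card F : ZMod r) - 1 := by
  rw [← ZMod.natCast_eq_zero_iff, Nat.cast_sub (Nat.one_le_pow _ _ Fintype.card_pos), Nat.cast_pow, pow_orderOf_eq_one,
    Nat.cast_one, sub_self]

theorem toLin_pow {A : Matrix (Fin n) (Fin n) F} {k : ℕ} {c : F} (h : A ^ k = c • 1) :
    (Matrix.toLinAlgEquiv' A) ^ k = c • (1 : Module.End F (Fin n → F)) := by
  rw [← map_pow, h, map_smul, map_one]

include p in
/-- Either the element is a scalar times one of order `r`, or its scalar is no `r`-th power. -/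
theorem reduce (hrp : r ≠ p) (hq : Fintype.card F = q) (hn : 0 < n) {m : ℕ}
    (hbase : orderOf (q : ZMod r) = 1 → Base r q n m)
    (x : Matrix.SpecialLinearGroup (Fin n) F) {c : F}
    (hx : (x : Matrix (Fin n) (Fin n) F) ^ r = c • 1) :
    (∃ y : Module.End F (Fin n → F), y ^ r = 1 ∧ ∀ U : Submodule F (Fin n → F),
      U.map y ≤ U → U.map (Matrix.toLin' (x : Matrix (Fin n) (Fin n) F)) ≤ U) ∨
    ((∀ d : F, d ^ r ≠ c) ∧ r ∣ m ∧ r ∣ n) := by
  classical
  subst hq
  have hr : r.Prime := Fact.out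
  by_cases hpow : ∃ d : F, d ^ r = c
  · obtain ⟨d, hd⟩ := hpow
    left
    have hd0 : d ≠ 0 := fun e => by
      rw [e, zero_pow hr.ne_zero] at hd
      rw [← hd, zero_smul] at hx
      have := congrArg Matrix.det hx
      haveI hne : Nonempty (Fin n) := ⟨⟨0, hn⟩⟩
      rw [Matrix.det_pow, x.2, one_pow, Matrix.det_zero] at this
      exact one_ne_zero this
    refine ⟨d⁻¹ • Matrix.toLinAlgEquiv' (x : Matrix (Fin n) (Fin n) F), ?_, fun U hU => ?_⟩
    · rw [smul_pow, toLin_pow hx, smul_smul, inv_pow, ← hd, inv_mul_cancel₀ (pow_ne_zero _ hd0), one_smul]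
    · rintro _ ⟨v, hv, rfl⟩
      have h : d⁻¹ • Matrix.toLin' (x : Matrix (Fin n) (Fin n) F) v ∈ U := hU ⟨v, hv, rfl⟩
      simpa [smul_smul, mul_inv_cancel₀ hd0] using U.smul_mem d h
  · right
    push Not at hpow
    have hi : r ∣ Fintype.card F - 1 := by
      by_contra h
      have hc0 : c ≠ 0 := fun e => hpow 0 (by rw [e, zero_pow hr.ne_zero])
      have hcop : (Nat.card Fˣ).Coprime r := by
        rw [Nat.card_units, Nat.card_eq_fintype_card]; exact ((hr.coprime_iff_not_dvd).2 h).symm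
      obtain ⟨d, hd⟩ := (powCoprime hcop).surjective (Units.mk0 c hc0)
      exact hpow (d : F) (by simpa using congrArg Units.val hd)
    obtain ⟨k, hk, hdet⟩ := det_eq hr hx hpow
    refine ⟨hpow, ?_, hk ▸ dvd_mul_right r k⟩
    rcases hbase (order_eq_one_iff.2 hi) with h | ⟨hv, h4⟩
    · exact h
    exfalso
    rw [x.2] at hdet
    have hk0 : 0 < k := Nat.pos_of_ne_zero fun e => by rw [e, mul_zero] at hk; omega
    have hq1 : Fintype.card F - 1 ≠ 0 := by have := Fintype.one_lt_card (α := F); omega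
    have hvk : padicValNat r k < padicValNat r (Fintype.card F - 1) := by
      rw [hk, padicValNat.mul hr.ne_zero hk0.ne', padicValNat_self] at hv
      omega
    rcases hr.eq_two_or_odd' with h2 | hodd
    · subst h2
      obtain ⟨d, hd⟩ := exists_pow_of_pow_eq_one hr hi hvk hk0 (μ := -c) (by
        rw [hdet, hk, pow_mul, neg_one_sq, one_pow, one_mul])
      obtain ⟨e, he⟩ := FiniteField.isSquare_neg_one_iff (F := F).2 (by
        have := h4 rfl ⟨k, by omega⟩; omega)
      exact hpow (e * d) (by rw [mul_pow, pow_two e, ← he, hd]; ring)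
    · obtain ⟨d, hd⟩ := exists_pow_of_pow_eq_one hr hi hvk hk0 (μ := c) (by
        rw [hdet, neg_pow c k, hk, ← mul_assoc, ← pow_add, ← Nat.succ_mul,
          Even.neg_one_pow (Even.mul_right (by simpa [Nat.succ_eq_add_one] using hodd.add_one) k), one_mul])
      exact hpow d hd

include p in
/-- The element for `i ≥ 2`. -/
theorem exists_elem (hrp : r ≠ p) (hq : Fintype.card F = q) {i : ℕ} (hi : orderOf (q : ZMod r) = i) (hi2 : 2 ≤ i)
    (hn : i ≤ n) :
    ∃ x : Matrix.SpecialLinearGroup (Fin n) F, (x : Matrix (Fin n) (Fin n) F) ^ r = (1 : F) • 1 ∧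
      (∀ z : F, (x : Matrix (Fin n) (Fin n) F) ≠ z • 1) ∧
      ∃ E : Submodule F (Fin n → F), Module.finrank F ↥E ≤ n % i ∧ ∀ U : Submodule F (Fin n → F),
        U.map (Matrix.toLin' (x : Matrix (Fin n) (Fin n) F)) ≤ U →
        Module.finrank F ↥U ≡ Module.finrank F ↥(U ⊓ E) [MOD i] := by
  classical
  subst hq
  subst hi
  have hr : r.Prime := Fact.out
  have hpos : 0 < orderOf (Fintype.card F : ZMod r) := by omega
  have hnd : ¬ r ∣ Fintype.card F - 1 := fun h => by have := order_eq_one_iff.2 h; omega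
  have hroot : ∀ z : F, z ^ r = 1 → z = 1 := fun z hz => by
    have hz0 : z ≠ 0 := fun e => by rw [e, zero_pow hr.ne_zero] at hz; exact zero_ne_one hz
    have hcop : (Nat.card Fˣ).Coprime r := by
      rw [Nat.card_units, Nat.card_eq_fintype_card]; exact ((hr.coprime_iff_not_dvd).2 hnd).symm
    have := (powCoprime hcop).injective (a₁ := Units.mk0 z hz0) (a₂ := 1) (Units.ext (by simpa using hz))
    exact congrArg Units.val this
  obtain ⟨e, B, rfl, he, hB⟩ : ∃ e B, n = e + orderOf (Fintype.card F : ZMod r) * B ∧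
      e = n % orderOf (Fintype.card F : ZMod r) ∧ 0 < B :=
    ⟨_, _, (Nat.mod_add_div n _).symm, rfl, Nat.div_pos hn hpos⟩
  obtain ⟨A, hA, hE⟩ := exists_fixed (F := F) (p := p) (e := e) (B := B) hpos dvd_pow_order
  have hdet : A.det = 1 := hroot _ (by rw [← Matrix.det_pow, hA, Matrix.det_one])
  obtain ⟨x, hx⟩ : ∃ x : Matrix.SpecialLinearGroup (Fin (e + orderOf (Fintype.card F : ZMod r) * B)) F,
      (x : Matrix _ _ F) = A := ⟨⟨A, hdet⟩, rfl⟩
  refine ⟨x, by rw [hx, hA, one_smul], fun z hz => ?_,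
    LinearMap.ker (Matrix.toLinAlgEquiv' A - 1), (hE.trans he).le, fun U hU => ?_⟩
  · rw [hx] at hz
    haveI : Nonempty (Fin (e + orderOf (Fintype.card F : ZMod r) * B)) := ⟨⟨0, by
      have := Nat.mul_pos hpos hB; omega⟩⟩
    have hz1 : z = 1 := hroot z (by
      have h := hA
      rw [hz, smul_pow, one_pow] at h
      have := congrFun (congrFun h (Classical.arbitrary _)) (Classical.arbitrary _)
      simpa using this)
    rw [hz, hz1, one_smul, map_one, sub_self, LinearMap.ker_zero, finrank_top, Module.finrank_fin_fun] at hE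
    have := Nat.mul_pos hpos hB; omega
  · rw [hx] at hU
    exact finrank_modEq (cast_ne (p := p) hrp) (by rw [← map_pow, hA, map_one]) hU

include p in
/-- The element for `i = 1`. -/
theorem exists_elem_one (hrp : r ≠ p) (hq : Fintype.card F = q) (hn : 0 < n) (hi : orderOf (q : ZMod r) = 1) {m : ℕ}
    (hbase : ¬ Base r q n m) :
    ∃ (x : Matrix.SpecialLinearGroup (Fin n) F) (c : F), (x : Matrix (Fin n) (Fin n) F) ^ r = c • 1 ∧
      (∀ z : F, (x : Matrix (Fin n) (Fin n) F) ≠ z • 1) ∧ ¬ r ∣ m ∧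
      ∀ U : Submodule F (Fin n → F),
        U.map (Matrix.toLin' (x : Matrix (Fin n) (Fin n) F)) ≤ U → r ∣ Module.finrank F ↥U := by
  classical
  subst hq
  have hr : r.Prime := Fact.out
  rw [order_eq_one_iff] at hi
  rw [Base, not_or] at hbase
  obtain ⟨hrm, hbase⟩ := hbase
  have hq1 : Fintype.card F - 1 ≠ 0 := by have := Fintype.one_lt_card (α := F); omega
  have hv1 : 1 ≤ padicValNat r (Fintype.card F - 1) := one_le_padicValNat_of_dvd hq1 hi
  have hrn : r ∣ n := by
    by_contra h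
    refine hbase ⟨by rw [padicValNat.eq_zero_of_not_dvd h]; exact Nat.zero_le _, fun h2 he => ?_⟩
    subst h2
    exact absurd he.two_dvd h
  obtain ⟨k, rfl⟩ := hrn
  have hk0 : k ≠ 0 := fun e => by rw [e, mul_zero] at hn; omega
  obtain ⟨c, hc, hdet⟩ : ∃ c : F, (∀ d : F, d ^ r ≠ c) ∧ (-1) ^ (r * k) * (-c) ^ k = (1 : F) := by
    rcases hr.eq_two_or_odd' with h2 | hodd
    · subst h2
      have hodd : Odd (Fintype.card F) := Nat.odd_iff.2 (Nat.two_dvd_ne_zero.1 (not_dvd_card (F := F) hrp))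
      by_cases h4 : Fintype.card F % 4 = 1
      · obtain ⟨μ, hμ, hns⟩ := exists_not_pow_scalar (F := F) (r := 2) (k := k) hr hi (by
          by_contra hlt
          refine hbase ⟨?_, fun _ _ => h4⟩
          rw [padicValNat.mul two_ne_zero hk0, padicValNat_self]; omega)
        refine ⟨-μ, fun d hd => ?_, by rw [neg_neg, hμ, pow_mul]; simp⟩
        obtain ⟨e, he⟩ := FiniteField.isSquare_neg_one_iff (F := F).2 (by omega)
        exact hns (e * d) (by rw [mul_pow, pow_two e, ← he, hd]; ring)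
      · refine ⟨-1, fun d hd => ?_, by rw [neg_neg, one_pow, pow_mul]; simp⟩
        have := FiniteField.isSquare_neg_one_iff (F := F).1 ⟨d, by rw [← pow_two, hd]⟩
        rw [Nat.odd_iff] at hodd
        omega
    · obtain ⟨μ, hμ, hns⟩ := exists_not_pow_scalar (F := F) (r := r) (k := k) hr hi (by
        by_contra hlt
        refine hbase ⟨?_, fun h2 => absurd h2 (by rintro rfl; exact absurd hodd (by decide))⟩
        rw [padicValNat.mul hr.ne_zero hk0, padicValNat_self]; omega)
      exact ⟨μ, hns, by rw [neg_pow μ k, hμ, mul_one, ← pow_add, ← Nat.succ_mul,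
        Even.neg_one_pow (Even.mul_right (by simpa [Nat.succ_eq_add_one] using hodd.add_one) k)]⟩
  obtain ⟨A, hA⟩ := exists_not_pow (k := k) hr hc
  obtain ⟨k', hk', hAdet⟩ := det_eq hr hA hc
  obtain rfl : k' = k := (Nat.eq_of_mul_eq_mul_left hr.pos hk').symm
  obtain ⟨x, hx⟩ : ∃ x : Matrix.SpecialLinearGroup (Fin (r * k')) F, (x : Matrix _ _ F) = A :=
    ⟨⟨A, hAdet.trans hdet⟩, rfl⟩
  refine ⟨x, c, by rw [hx, hA], fun z hz => ?_, hrm, fun U hU => ?_⟩
  · rw [hx] at hz
    haveI : Nonempty (Fin (r * k')) := ⟨⟨0, hn⟩⟩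
    refine hc z ?_
    rw [hz, smul_pow, one_pow] at hA
    simpa using congrFun (congrFun hA (Classical.arbitrary _)) (Classical.arbitrary _)
  · rw [hx] at hU
    exact dvd_finrank_of_not_pow hr (toLin_pow hA) hc hU

include p in
/-- Nested invariant subspaces for an element of order `r`. -/
theorem nested_of_order (hrp : r ≠ p) {y : Module.End F (Fin n → F)} (hy : y ^ r = 1) {m : ℕ} (hm : 2 * m ≤ n)
    (h : 2 * (m % orderOf (Fintype.card F : ZMod r)) ≤ n % orderOf (Fintype.card F : ZMod r)) :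
    ∃ U W : Submodule F (Fin n → F), U ≤ W ∧ U.map y ≤ U ∧ W.map y ≤ W ∧ Module.finrank F ↥U = m ∧
      Module.finrank F ↥W = n - m := by
  have hpos := order_pos (F := F) (p := p) hrp
  set i := orderOf (Fintype.card F : ZMod r) with hi
  set e := Module.finrank F ↥(LinearMap.ker (y - 1)) with he
  have hen : e ≤ n := (Submodule.finrank_le _).trans (Module.finrank_fin_fun F).le
  have hmod : n ≡ e [MOD i] := by
    have := finrank_modEq (cast_ne (p := p) hrp) hy (U := ⊤) le_top
    rwa [finrank_top, top_inf_eq, Module.finrank_fin_fun, ← he, ← hi] at this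
  obtain ⟨B, hB⟩ := (Nat.modEq_iff_dvd' hen).1 hmod.symm
  have he' : n % i ≤ e := hmod ▸ Nat.mod_le e i
  have h1 := Nat.mod_add_div m i
  have key : ∃ a₁ a₂ b₁ b₂, a₁ ≤ a₂ ∧ a₂ ≤ e ∧ b₁ ≤ b₂ ∧ b₂ ≤ B ∧ a₁ + i * b₁ = m ∧ a₂ + i * b₂ = n - m := by
    by_cases hB2 : B ≤ 2 * (m / i)
    · have h2 : i * ((B + 1) / 2) ≤ i * (m / i) := Nat.mul_le_mul_left i (by omega)
      have h3 : i * B ≤ i * ((B + 1) / 2) + i * (m / i) := by
        rw [← Nat.mul_add]; exact Nat.mul_le_mul_left i (by omega)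
      have h4 : i * ((B + 1) / 2) + i * (B - (B + 1) / 2) = i * B := by rw [← Nat.mul_add]; congr 1; omega
      exact ⟨m - i * ((B + 1) / 2), n - m - i * ((B + 1) / 2), (B + 1) / 2, (B + 1) / 2, by omega, by omega, le_rfl,
        by omega, by omega, by omega⟩
    · have h2 : i * (m / i) + i * (B - m / i) = i * B := by rw [← Nat.mul_add]; congr 1; omega
      exact ⟨m % i, e - m % i, m / i, B - m / i, by omega, by omega, by omega, by omega, h1, by omega⟩
  obtain ⟨a₁, a₂, b₁, b₂, ha, ha2, hb, hb2, hm1, hm2⟩ := key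
  obtain ⟨U, W, hUW, hU, hW, hUd, hWd⟩ := exists_nested (cast_ne (p := p) hrp) hi.symm hy ha ha2 hb
    (b₂ := b₂) (by rw [Module.finrank_fin_fun, ← he]; have := Nat.mul_le_mul_left i hb2; omega)
  exact ⟨U, W, hUW, hU, hW, hUd.trans hm1, hWd.trans hm2⟩

include p in
/-- An invariant subspace for an element of order `r`. -/
theorem single_of_order (hrp : r ≠ p) {y : Module.End F (Fin n → F)} (hy : y ^ r = 1) {m : ℕ} (hm : m ≤ n)
    (h : m % orderOf (Fintype.card F : ZMod r) ≤ n % orderOf (Fintype.card F : ZMod r)) :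
    ∃ U : Submodule F (Fin n → F), U.map y ≤ U ∧ Module.finrank F ↥U = m := by
  have hpos := order_pos (F := F) (p := p) hrp
  set i := orderOf (Fintype.card F : ZMod r) with hi
  set e := Module.finrank F ↥(LinearMap.ker (y - 1)) with he
  have hen : e ≤ n := (Submodule.finrank_le _).trans (Module.finrank_fin_fun F).le
  have hmod : n ≡ e [MOD i] := by
    have := finrank_modEq (cast_ne (p := p) hrp) hy (U := ⊤) le_top
    rwa [finrank_top, top_inf_eq, Module.finrank_fin_fun, ← he, ← hi] at this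
  obtain ⟨B, hB⟩ := (Nat.modEq_iff_dvd' hen).1 hmod.symm
  have he' : n % i ≤ e := hmod ▸ Nat.mod_le e i
  have h1 := Nat.mod_add_div m i
  obtain ⟨a, b, ha, hb, hab⟩ : ∃ a b, a ≤ e ∧ b ≤ B ∧ a + i * b = m := by
    by_cases hB' : m / i ≤ B
    · exact ⟨m % i, m / i, by omega, hB', h1⟩
    · have := Nat.mul_le_mul_left i (le_of_not_ge hB')
      exact ⟨m - i * B, B, by omega, le_rfl, by omega⟩
  obtain ⟨U, -, -, hU, -, hUd, -⟩ := exists_nested (cast_ne (p := p) hrp) hi.symm hy (le_refl a) ha (le_refl b)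
    (by rw [Module.finrank_fin_fun, ← he]; have := Nat.mul_le_mul_left i hb; omega)
  exact ⟨U, hU, hUd.trans hab⟩

end CfsgLib.MaxSub.SemiCriterion
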