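import Cfsg.Agent.Lib.MaxSub.IsoPerp
import Cfsg.Agent.Lib.MaxSub.IsoComm
import Cfsg.Agent.Lib.MaxSub.SemiDims
import Cfsg.Agent.Lib.MaxSub.SemiCriterion
import Cfsg.Agent.Lib.KnownC.SigmaFactors

/-!
Invariant totally isotropic and non-degenerate subspaces of an isometry of odd prime order `r` different from the
characteristic, for alternating, symmetric and Hermitian forms over finite fields.

`E = ker (T - 1)` and `R = range (T - 1)` are orthogonal and non-degenerate; the minimal invariant subspaces of `R`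
have dimension `e = orderOf q` modulo `r`; when `σ x = x ^ s` they are all totally isotropic unless `r ∣ s q ^ j + 1`
for some `j` (the self-dual case).
-/

set_option autoImplicit false

namespace CfsgLib.MaxSub.IsoSemi

open Polynomial CfsgLib.Classical

universe u v

variable {F : Type u} [Field F] {V : Type v} [AddCommGroup V] [Module F V] {σ : F →+* F}

/-- `T` is an isometry with `T ^ r = 1`. -/
structure Ctx (B : V →ₛₗ[σ] V →ₗ[F] F) (T : Module.End F V) (r : ℕ) : Prop extends Geom B where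
  invol : ∀ a, σ (σ a) = a
  flip : ∃ ε : F, ε * σ ε = 1 ∧ ∀ u v, B v u = ε * σ (B u v)
  iso : ∀ x y, B (T x) (T y) = B x y
  pow : T ^ r = 1
  prime : r.Prime
  rne : (r : F) ≠ 0
  rne2 : r ≠ 2

/-- A form with a symmetry is reflexive. -/
theorem refl_of_flip {B : V →ₛₗ[σ] V →ₗ[F] F} {ε : F} (h : ∀ u v, B v u = ε * σ (B u v)) (x y : V)
    (hxy : B x y = 0) : B y x = 0 := by rw [h, hxy, map_zero, mul_zero]

/-- The self-dual case. -/
def SelfDual (Q s r : ℕ) : Prop := ∃ j : ℕ, r ∣ s * Q ^ j + 1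

theorem apply_mem {T : Module.End F V} {W : Submodule F V} (h : W.map T ≤ W) {x : V} (hx : x ∈ W) : T x ∈ W :=
  h ⟨x, hx, rfl⟩

theorem pow_apply_mem {T : Module.End F V} {W : Submodule F V} (h : W.map T ≤ W) (k : ℕ) {x : V} (hx : x ∈ W) :
    (T ^ k) x ∈ W := by
  induction k with
  | zero => exact hx
  | succ k ih => rw [pow_succ', Module.End.mul_apply]; exact apply_mem h ih

theorem aeval_apply_mem {T : Module.End F V} {W : Submodule F V} (h : W.map T ≤ W) (f : F[X]) {x : V} (hx : x ∈ W) :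
    aeval T f x ∈ W := by
  induction f using Polynomial.induction_on' with
  | add f g hf hg => rw [map_add, LinearMap.add_apply]; exact W.add_mem hf hg
  | monomial k a =>
    rw [aeval_monomial, Module.End.mul_apply, Module.algebraMap_end_apply]
    exact W.smul_mem _ (pow_apply_mem h k hx)

theorem inv_inf {T : Module.End F V} {W U : Submodule F V} (hW : W.map T ≤ W) (hU : U.map T ≤ U) :
    (W ⊓ U).map T ≤ W ⊓ U := by
  rintro _ ⟨x, hx, rfl⟩; exact ⟨apply_mem hW hx.1, apply_mem hU hx.2⟩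

theorem inv_sup {T : Module.End F V} {W U : Submodule F V} (hW : W.map T ≤ W) (hU : U.map T ≤ U) :
    (W ⊔ U).map T ≤ W ⊔ U := by
  rw [Submodule.map_sup]; exact sup_le_sup hW hU

theorem inv_bot (T : Module.End F V) : (⊥ : Submodule F V).map T ≤ ⊥ := by rw [Submodule.map_bot]

theorem aeval_comm (T : Module.End F V) (f : F[X]) (x : V) : aeval T f (T x) = T (aeval T f x) := by
  conv_lhs => rw [← Module.End.mul_apply]; arg 1; arg 2; rw [← aeval_X (R := F) T]
  conv_rhs => rw [← Module.End.mul_apply]; arg 1; arg 1; rw [← aeval_X (R := F) T]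
  rw [← map_mul, ← map_mul, mul_comm]

theorem inv_ker_aeval (T : Module.End F V) (f : F[X]) :
    (LinearMap.ker (aeval T f)).map T ≤ LinearMap.ker (aeval T f) := by
  rintro _ ⟨x, hx, rfl⟩
  rw [LinearMap.mem_ker, aeval_comm, LinearMap.mem_ker.1 hx, map_zero]

theorem inv_fix (T : Module.End F V) : (LinearMap.ker (T - 1)).map T ≤ LinearMap.ker (T - 1) := by
  rintro _ ⟨x, hx, rfl⟩
  have h : T x = x := sub_eq_zero.1 (show (T - 1) x = 0 from hx)
  rw [h]
  exact hx

theorem inv_mov (T : Module.End F V) : (LinearMap.range (T - 1)).map T ≤ LinearMap.range (T - 1) := by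
  rintro _ ⟨_, ⟨v, rfl⟩, rfl⟩
  exact ⟨T v, by simp⟩

variable {B : V →ₛₗ[σ] V →ₗ[F] F} {T : Module.End F V} {r : ℕ} (hC : Ctx B T r)
include hC

theorem eq_zero_of_apply {x : V} (h : T x = 0) : x = 0 := by
  have h1 := LinearMap.congr_fun hC.pow x
  rw [← Nat.sub_add_cancel hC.prime.one_le, pow_succ, Module.End.mul_apply, h, map_zero] at h1
  exact h1.symm

theorem iso_pow (k : ℕ) (x y : V) : B ((T ^ k) x) ((T ^ k) y) = B x y := by
  induction k with
  | zero => rfl
  | succ k ih => rw [pow_succ', Module.End.mul_apply, Module.End.mul_apply, hC.iso, ih]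

theorem pow_adj (k : ℕ) (x y : V) : B ((T ^ k) x) y = B x ((T ^ ((r - 1) * k)) y) := by
  conv_rhs => rw [show x = (T ^ ((r - 1) * k)) ((T ^ k) x) by
    rw [← Module.End.mul_apply, ← pow_add, ← Nat.succ_mul, show (r - 1).succ = r by
      have := hC.prime.one_le; omega, pow_mul, hC.pow, one_pow, Module.End.one_apply]]
  rw [iso_pow hC]

/-- The adjoint of `f(T)`. -/
theorem aeval_adj (f : F[X]) (x y : V) :
    B (aeval T f x) y = B x (aeval T (expand F (r - 1) (f.map σ)) y) := by
  induction f using Polynomial.induction_on' with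
  | add f g hf hg =>
    simp only [Polynomial.map_add, map_add, LinearMap.add_apply, hf, hg]
  | monomial k a =>
    rw [aeval_monomial, Polynomial.map_monomial, expand_monomial, aeval_monomial, Module.End.mul_apply,
      Module.End.mul_apply, Module.algebraMap_end_apply, Module.algebraMap_end_apply, map_smulₛₗ,
      LinearMap.smul_apply, map_smul, pow_adj hC, mul_comm k]

theorem pow_modEq {a b : ℕ} (h : a % r = b % r) : T ^ a = T ^ b := by
  rw [← Nat.mod_add_div a r, ← Nat.mod_add_div b r, pow_add, pow_add, pow_mul, pow_mul, hC.pow, one_pow, one_pow, h]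

theorem eq_zero_of_fix_of_mov {x : V} (hx : T x = x) {v : V} (hv : T v - v = x) : x = 0 := by
  have hj : ∀ j : ℕ, (T ^ j) v = v + (j : F) • x := by
    intro j
    induction j with
    | zero => simp
    | succ j ih =>
      rw [pow_succ', Module.End.mul_apply, ih, map_add, map_smul, hx, Nat.cast_succ, add_smul, one_smul,
        show T v = v + x by rw [← hv, add_sub_cancel]]
      abel
  have h := hj r
  rw [hC.pow, Module.End.one_apply, left_eq_add, smul_eq_zero] at h
  exact h.resolve_left hC.rne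

theorem disjoint_fix_mov : LinearMap.ker (T - 1) ⊓ LinearMap.range (T - 1) = ⊥ := by
  rw [Submodule.eq_bot_iff]
  rintro w ⟨hw, v, rfl⟩
  exact eq_zero_of_fix_of_mov hC (sub_eq_zero.1 (by simpa using hw)) (v := v) (by simp)

/-- An invariant subspace of `R` contains no fixed vector. -/
theorem no_fix {W : Submodule F V} (hW : W ≤ LinearMap.range (T - 1)) {x : V} (hx : x ∈ W) (h : T x = x) :
    x = 0 := by
  have : x ∈ LinearMap.ker (T - 1) ⊓ LinearMap.range (T - 1) :=
    ⟨by simp [LinearMap.mem_ker, sub_eq_zero, h], hW hx⟩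
  rwa [disjoint_fix_mov hC, Submodule.mem_bot] at this

theorem inv_perp [FiniteDimensional F V] {W : Submodule F V} (hW : W.map T ≤ W) :
    (perp B W).map T ≤ perp B W := by
  rintro _ ⟨v, hv, rfl⟩ w hw
  have hinj : Function.Injective (T.restrict fun x hx => apply_mem hW hx : W →ₗ[F] W) :=
    (injective_iff_map_eq_zero _).2 fun x hx => Subtype.ext (eq_zero_of_apply hC (congrArg Subtype.val hx))
  obtain ⟨w', hw'⟩ := LinearMap.injective_iff_surjective.1 hinj ⟨w, hw⟩
  rw [show w = T w' from (congrArg Subtype.val hw').symm, hC.iso]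
  exact hv _ w'.2

theorem fix_le_perp : LinearMap.range (T - 1) ≤ perp B (LinearMap.ker (T - 1)) := by
  rintro _ ⟨v, rfl⟩ w hw
  rw [LinearMap.mem_ker, LinearMap.sub_apply, Module.End.one_apply, sub_eq_zero] at hw
  rw [LinearMap.sub_apply, Module.End.one_apply, map_sub, sub_eq_zero]
  conv_lhs => rw [← hw]
  exact hC.iso w v

variable [Fintype F] [FiniteDimensional F V]

theorem perp_fix : perp B (LinearMap.ker (T - 1)) = LinearMap.range (T - 1) := by
  refine (Submodule.eq_of_le_of_finrank_eq (fix_le_perp hC) ?_).symm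
  have h1 := finrank_perp hC.toGeom (LinearMap.ker (T - 1))
  have h2 := (T - 1).finrank_range_add_finrank_ker
  omega

theorem perp_mov : perp B (LinearMap.range (T - 1)) = LinearMap.ker (T - 1) := by
  rw [← perp_fix hC, perp_perp hC.toGeom]

theorem nd_fix : ND B (LinearMap.ker (T - 1)) := by
  rw [nd_iff hC.toGeom, perp_fix hC]; exact disjoint_fix_mov hC

theorem nd_mov : ND B (LinearMap.range (T - 1)) := by
  rw [nd_iff hC.toGeom, perp_mov hC, inf_comm]; exact disjoint_fix_mov hC

theorem finrank_split {W : Submodule F V} (hW : W.map T ≤ W) :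
    Module.finrank F ↥(W ⊓ LinearMap.ker (T - 1)) + Module.finrank F ↥(W ⊓ LinearMap.range (T - 1)) =
      Module.finrank F W := by
  have h1 : Module.finrank F ↥(W ⊓ LinearMap.ker (T - 1)) + Module.finrank F ↥(W ⊓ LinearMap.range (T - 1)) ≤
      Module.finrank F W := by
    have h := Submodule.finrank_sup_add_finrank_inf_eq (W ⊓ LinearMap.ker (T - 1)) (W ⊓ LinearMap.range (T - 1))
    rw [inf_inf_inf_comm, disjoint_fix_mov hC, inf_bot_eq, finrank_bot] at h
    have := Submodule.finrank_mono (sup_le (inf_le_left : W ⊓ LinearMap.ker (T - 1) ≤ W)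
      (inf_le_left : W ⊓ LinearMap.range (T - 1) ≤ W))
    omega
  refine le_antisymm h1 ?_
  let f : W →ₗ[F] V := (T - 1) ∘ₗ W.subtype
  have h := f.finrank_range_add_finrank_ker
  have hr : LinearMap.range f ≤ W ⊓ LinearMap.range (T - 1) := by
    rintro _ ⟨x, rfl⟩
    exact ⟨W.sub_mem (apply_mem hW x.2) x.2, ⟨x, rfl⟩⟩
  have hk : (LinearMap.ker f).map W.subtype ≤ W ⊓ LinearMap.ker (T - 1) := by
    rintro _ ⟨x, hx, rfl⟩; exact ⟨x.2, hx⟩
  have h2 := Submodule.finrank_mono hr
  have h3 := Submodule.finrank_mono hk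
  rw [← (Submodule.equivMapOfInjective W.subtype W.injective_subtype _).finrank_eq] at h3
  omega

theorem ord_pos : 0 < orderOf (Fintype.card F : ZMod r) := by
  haveI : Fact r.Prime := ⟨hC.prime⟩
  obtain ⟨p, hpc⟩ := CharP.exists F
  haveI : Fact p.Prime := ⟨CharP.char_is_prime F p⟩
  exact SemiCriterion.order_pos (p := p) fun h => hC.rne (by rw [h]; exact CharP.cast_eq_zero F p)

theorem dvd_finrank {W : Submodule F V} (hW : W.map T ≤ W) (hWR : W ≤ LinearMap.range (T - 1)) :
    orderOf (Fintype.card F : ZMod r) ∣ Module.finrank F W := by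
  haveI : Fact r.Prime := ⟨hC.prime⟩
  have h := SemiDims.finrank_modEq hC.rne hC.pow hW
  rw [le_bot_iff.1 ((inf_le_inf_right _ hWR).trans ((inf_comm _ _).trans (disjoint_fix_mov hC)).le),
    finrank_bot] at h
  exact Nat.modEq_zero_iff_dvd.1 h

theorem exists_sub {W : Submodule F V} (hW : W.map T ≤ W) (hWR : W ≤ LinearMap.range (T - 1)) (k : ℕ)
    (hk : orderOf (Fintype.card F : ZMod r) * k ≤ Module.finrank F W) :
    ∃ X : Submodule F V, X ≤ W ∧ X.map T ≤ X ∧
      Module.finrank F X = orderOf (Fintype.card F : ZMod r) * k := by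
  haveI : Fact r.Prime := ⟨hC.prime⟩
  obtain ⟨X, hX, -, hXW, hXd⟩ := SemiDims.chain (T := T) (by rw [hC.pow, one_smul])
    (fun Q _ _ _ _ S hS hs => SemiDims.simple_le_ord (ord_pos hC) SemiCriterion.dvd_pow_order
      (by rw [hS, one_smul]) hs)
    (U := ⊥) (inv_bot T) hW bot_le (fun X hX hXW => dvd_finrank hC hX (hXW.trans hWR)) k
    (by rw [finrank_bot]; omega)
  exact ⟨X, hXW, hX, by rw [hXd, finrank_bot, zero_add]⟩

/-- A minimal invariant subspace of `R`. -/
theorem simple {X Y : Submodule F V} (hX : Module.finrank F X = orderOf (Fintype.card F : ZMod r))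
    (hXR : X ≤ LinearMap.range (T - 1)) (hY : Y.map T ≤ Y) (hYX : Y ≤ X) : Y = ⊥ ∨ Y = X := by
  obtain ⟨k, hk⟩ := dvd_finrank hC hY (hYX.trans hXR)
  have h := Submodule.finrank_mono hYX
  rcases Nat.eq_zero_or_pos k with rfl | hk0
  · exact Or.inl (Submodule.finrank_eq_zero.1 (by simpa using hk))
  · refine Or.inr (Submodule.eq_of_le_of_finrank_le hYX ?_)
    rw [hX, hk]
    exact Nat.le_mul_of_pos_right _ hk0

theorem ti_or_nd {X : Submodule F V} (hX : Module.finrank F X = orderOf (Fintype.card F : ZMod r))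
    (hXR : X ≤ LinearMap.range (T - 1)) (hXi : X.map T ≤ X) : TI B X ∨ ND B X := by
  rcases simple hC hX hXR (inv_inf hXi (inv_perp hC hXi)) inf_le_left with h | h
  · exact Or.inr ((nd_iff hC.toGeom).2 h)
  · exact Or.inl (ti_iff_le_perp.2 (inf_eq_left.1 h))

theorem ne_bot_of_finrank {X : Submodule F V} (hX : Module.finrank F X = orderOf (Fintype.card F : ZMod r)) :
    X ≠ ⊥ := fun h => by
  rw [h, finrank_bot] at hX
  exact (ord_pos hC).ne hX

/-- A totally isotropic minimal subspace pairs with another one. -/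
theorem exists_partner {U X : Submodule F V} (hU : ND B U) (hUi : U.map T ≤ U)
    (hUR : U ≤ LinearMap.range (T - 1)) (hXU : X ≤ U) (hXi : X.map T ≤ X)
    (hX : Module.finrank F X = orderOf (Fintype.card F : ZMod r)) :
    ∃ Y : Submodule F V, Y ≤ U ∧ Y.map T ≤ Y ∧ Module.finrank F Y = orderOf (Fintype.card F : ZMod r) ∧
      Y ⊓ perp B X = ⊥ ∧ X ⊓ perp B Y = ⊥ := by
  obtain ⟨C, hC', hCi⟩ := SemiDims.exists_compl hC.rne (c := (1 : F)) one_ne_zero
    (by rw [hC.pow, one_smul]) (inv_inf hUi (inv_perp hC hXi))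
  have hCi' := inv_inf hUi hCi
  have hdis : (U ⊓ C) ⊓ perp B X = ⊥ := by
    rw [inf_assoc, inf_comm C, ← inf_assoc]; exact hC'.disjoint.eq_bot
  have hsup : (U ⊓ perp B X) ⊔ (U ⊓ C) = U := by
    rw [inf_comm U C, ← sup_inf_assoc_of_le C (inf_le_left : U ⊓ perp B X ≤ U), hC'.sup_eq_top, top_inf_eq]
  have hYd : Module.finrank F ↥(U ⊓ C) = orderOf (Fintype.card F : ZMod r) := by
    have h1 := Submodule.finrank_sup_add_finrank_inf_eq (U ⊓ perp B X) (U ⊓ C)
    have h2 := finrank_inf_perp hC.toGeom hU hXU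
    have h3 : (U ⊓ perp B X) ⊓ (U ⊓ C) = ⊥ := by
      rw [← le_bot_iff, ← hC'.disjoint.eq_bot]
      exact inf_le_inf_left _ inf_le_right
    rw [hsup, h3, finrank_bot] at h1
    rw [hX] at h2
    omega
  refine ⟨U ⊓ C, inf_le_left, hCi', hYd, hdis, ?_⟩
  rcases simple hC hX (hXU.trans hUR) (inv_inf hXi (inv_perp hC hCi')) inf_le_left with h | h
  · exact h
  · exfalso
    have h1 : U ⊓ C ≤ perp B X := le_perp_comm hC.toGeom (inf_eq_left.1 h)
    rw [inf_eq_left.2 h1] at hdis
    exact ne_bot_of_finrank hC hYd hdis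

/-- Pairs are non-degenerate. -/
theorem nd_pair {X Y : Submodule F V} (hXY : Y ⊓ perp B X = ⊥) (hYX : X ⊓ perp B Y = ⊥) (hX : TI B X) :
    ND B (X ⊔ Y) ∧ Module.finrank F ↥(X ⊔ Y) = Module.finrank F X + Module.finrank F Y := by
  refine ⟨fun z hz hzv => ?_, ?_⟩
  · obtain ⟨x, hx, y, hy, rfl⟩ := Submodule.mem_sup.1 hz
    have hy0 : y = 0 := by
      refine (Submodule.mem_bot F).1 (hXY ▸ ⟨hy, fun w hw => ?_⟩)
      have h := hC.refl _ _ (hzv w (Submodule.mem_sup_left hw))
      rwa [map_add, hX w hw x hx, zero_add] at h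
    subst hy0
    rw [add_zero] at hzv ⊢
    exact (Submodule.mem_bot F).1 (hYX ▸ ⟨hx, fun w hw => hC.refl _ _ (hzv w (Submodule.mem_sup_right hw))⟩)
  · have h := Submodule.finrank_sup_add_finrank_inf_eq X Y
    rw [show X ⊓ Y = ⊥ from le_bot_iff.1 (hXY ▸ le_inf inf_le_right (inf_le_left.trans (ti_iff_le_perp.1 hX))),
      finrank_bot, add_zero] at h
    exact h

omit [Fintype F] [FiniteDimensional F V] in
theorem cyclotomic_kills {x : V} (hx : x ∈ LinearMap.range (T - 1)) : aeval T (cyclotomic r F) x = 0 := by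
  obtain ⟨v, rfl⟩ := hx
  have h := congrArg (fun f => aeval T f) (SympOrderR.cyclo_mul (F := F) hC.prime)
  simp only [map_mul, map_sub, map_pow, aeval_X, map_one] at h
  rw [← Module.End.mul_apply, h, hC.pow, sub_self, LinearMap.zero_apply]

omit [Fintype F] [FiniteDimensional F V] hC in
theorem normalize_mem_factors [DecidableEq F] {g : F[X]} (hg : Irreducible g) (hd : g ∣ cyclotomic r F) :
    normalize g ∈ SympOrderR.factors F r := by
  classical
  refine SympOrderR.mem_factors.2 ⟨Polynomial.monic_normalize hg.ne_zero, (associated_normalize g).irreducible hg, ?_⟩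
  exact (normalize_associated g).dvd.trans hd

/-- A minimal subspace of `R` is killed by a factor of the cyclotomic polynomial. -/
theorem exists_factor {X : Submodule F V} (hX : Module.finrank F X = orderOf (Fintype.card F : ZMod r))
    (hXR : X ≤ LinearMap.range (T - 1)) (hXi : X.map T ≤ X) :
    ∃ g ∈ SympOrderR.factors F r, ∀ x ∈ X, aeval T g x = 0 := by
  classical
  have key : ∀ m : F[X], m ∣ cyclotomic r F → (∀ x ∈ X, aeval T m x = 0) →
      ∃ g ∈ SympOrderR.factors F r, ∀ x ∈ X, aeval T g x = 0 := by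
    intro m
    induction m using UniqueFactorizationMonoid.induction_on_prime with
    | h₁ => exact fun h => absurd (zero_dvd_iff.1 h) (cyclotomic_ne_zero r F)
    | h₂ m hm =>
      intro _ h
      refine absurd (eq_bot_iff.2 fun x hx => ?_) (ne_bot_of_finrank hC hX)
      obtain ⟨u, rfl⟩ := hm
      have h1 := congrArg (aeval T ((u⁻¹ : F[X]ˣ) : F[X])) (h x hx)
      rw [← Module.End.mul_apply, ← map_mul, Units.inv_mul, map_one, map_zero] at h1
      exact (Submodule.mem_bot F).2 h1
    | h₃ m g hm hg ih =>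
      intro hd h
      rcases simple hC hX hXR (inv_inf hXi (inv_ker_aeval T g)) inf_le_left with h1 | h1
      · refine ih ((dvd_mul_left _ _).trans hd) fun x hx => ?_
        refine (Submodule.mem_bot F).1 (h1 ▸ ⟨aeval_apply_mem hXi m hx, ?_⟩)
        show aeval T g (aeval T m x) = 0
        rw [← Module.End.mul_apply, ← map_mul]
        exact h x hx
      · refine ⟨normalize g, normalize_mem_factors hg.irreducible ((dvd_mul_right _ _).trans hd), fun x hx => ?_⟩
        obtain ⟨u, hu⟩ := associated_normalize g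
        rw [← hu, mul_comm, map_mul, Module.End.mul_apply,
          show aeval T g x = 0 from (h1.symm.le hx).2, map_zero]
  exact key _ dvd_rfl fun x hx => cyclotomic_kills hC (hXR hx)

/-- Minimal subspaces killed by the same factor are isomorphic as modules. -/
theorem exists_iso {X Y : Submodule F V} (hX : Module.finrank F X = orderOf (Fintype.card F : ZMod r))
    (hY : Module.finrank F Y = orderOf (Fintype.card F : ZMod r))
    (hXR : X ≤ LinearMap.range (T - 1)) (hYR : Y ≤ LinearMap.range (T - 1)) (hXi : X.map T ≤ X)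
    (hYi : Y.map T ≤ Y) {g : F[X]} (hg : g ∈ SympOrderR.factors F r) (hgX : ∀ x ∈ X, aeval T g x = 0)
    (hgY : ∀ y ∈ Y, aeval T g y = 0) :
    ∃ φ : X ≃ₗ[F] Y, ∀ x : X, (φ ⟨T (x : V), apply_mem hXi x.2⟩ : V) = T (φ x : V) := by
  classical
  have key : ∀ {Z : Submodule F V}, Module.finrank F Z = orderOf (Fintype.card F : ZMod r) →
      Z ≤ LinearMap.range (T - 1) → (hZi : Z.map T ≤ Z) → (∀ z ∈ Z, aeval T g z = 0) →
      ∃ f : F[X] →ₗ[F] Z, Function.Surjective f ∧ LinearMap.ker f = (Ideal.span {g}).restrictScalars F ∧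
        ∀ m, (f (Polynomial.X * m) : V) = T (f m : V) := by
    intro Z hZ hZR hZi hgZ
    obtain ⟨z, hz, hz0⟩ := Submodule.exists_mem_ne_zero_of_ne_bot (ne_bot_of_finrank hC hZ)
    let f : F[X] →ₗ[F] Z := (LinearMap.applyₗ z ∘ₗ (aeval T).toLinearMap).codRestrict Z
      fun m => aeval_apply_mem hZi m hz
    have hf : ∀ m, (f m : V) = aeval T m z := fun m => rfl
    have hfX : ∀ m, (f (Polynomial.X * m) : V) = T (f m : V) := fun m => by
      rw [hf, hf, map_mul, aeval_X]; rfl
    refine ⟨f, fun w => ?_, ?_, hfX⟩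
    · have hinv : ((LinearMap.range f).map Z.subtype).map T ≤ (LinearMap.range f).map Z.subtype := by
        rintro _ ⟨_, ⟨_, ⟨m, rfl⟩, rfl⟩, rfl⟩
        exact ⟨f (Polynomial.X * m), ⟨_, rfl⟩, hfX m⟩
      rcases simple hC hZ hZR hinv (Submodule.map_subtype_le _ _) with h | h
      · refine absurd ?_ hz0
        have : z ∈ (LinearMap.range f).map Z.subtype := ⟨f 1, ⟨1, rfl⟩, by
          show (f 1 : V) = z
          rw [hf, map_one]; rfl⟩
        rw [h, Submodule.mem_bot] at this
        exact this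
      · obtain ⟨_, ⟨m, rfl⟩, he⟩ := h.symm.le w.2
        exact ⟨m, Subtype.ext he⟩
    · ext m
      rw [LinearMap.mem_ker, Submodule.restrictScalars_mem, Ideal.mem_span_singleton]
      refine ⟨fun hm => ?_, ?_⟩
      · by_contra hgm
        obtain ⟨a, b, hab⟩ := (SympOrderR.mem_factors.1 hg).2.1.coprime_iff_not_dvd.2 hgm
        refine hz0 ?_
        have := LinearMap.congr_fun (congrArg (aeval T) hab) z
        rw [map_add, map_mul, map_mul, map_one, LinearMap.add_apply, Module.End.mul_apply, Module.End.mul_apply,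
          hgZ z hz, show aeval T m z = 0 from (hf m).symm.trans (congrArg Subtype.val hm), map_zero, map_zero,
          add_zero] at this
        exact this.symm
      · rintro ⟨a, rfl⟩
        refine Subtype.ext ?_
        rw [hf, mul_comm, map_mul, Module.End.mul_apply, hgZ z hz, map_zero]
        rfl
  obtain ⟨f, hfs, hfk, hfX⟩ := key hX hXR hXi hgX
  obtain ⟨f', hfs', hfk', hfX'⟩ := key hY hYR hYi hgY
  let e := (f.quotKerEquivOfSurjective hfs).symm.trans
    ((Submodule.quotEquivOfEq _ _ (hfk.trans hfk'.symm)).trans (f'.quotKerEquivOfSurjective hfs'))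
  have he : ∀ m, e (f m) = f' m := fun m => by
    simp only [e, LinearEquiv.trans_apply]
    rw [show (f.quotKerEquivOfSurjective hfs).symm (f m) = Submodule.Quotient.mk m from
      (LinearEquiv.symm_apply_eq _).2 rfl]
    rfl
  refine ⟨e, fun x => ?_⟩
  obtain ⟨m, rfl⟩ := hfs x
  rw [show (⟨T (f m : V), apply_mem hXi (f m).2⟩ : X) = f (Polynomial.X * m) from Subtype.ext (hfX m).symm,
    he, he, hfX']

/-- Two orthogonal isomorphic non-degenerate minimal subspaces contain a totally isotropic one. -/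
theorem exists_ti_of_pair {X Y : Submodule F V} (hXi : X.map T ≤ X) (hYi : Y.map T ≤ Y)
    (hXR : X ≤ LinearMap.range (T - 1)) (hYR : Y ≤ LinearMap.range (T - 1))
    (hXn : ND B X) (hYn : ND B Y) (hperp : Y ≤ perp B X) (φ : X ≃ₗ[F] Y)
    (hφ : ∀ x : X, (φ ⟨T (x : V), apply_mem hXi x.2⟩ : V) = T (φ x : V)) :
    ∃ W : Submodule F V, W ≤ X ⊔ Y ∧ W.map T ≤ W ∧ TI B W ∧ Module.finrank F W = Module.finrank F X := by
  classical
  obtain ⟨ε, hε, hflip⟩ := hC.flip
  have hinjX : Function.Injective (T.restrict fun x hx => apply_mem hXi hx : X →ₗ[F] X) :=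
    (injective_iff_map_eq_zero _).2 fun x hx => Subtype.ext (eq_zero_of_apply hC (congrArg Subtype.val hx))
  have hinjY : Function.Injective (T.restrict fun x hx => apply_mem hYi hx : Y →ₗ[F] Y) :=
    (injective_iff_map_eq_zero _).2 fun x hx => Subtype.ext (eq_zero_of_apply hC (congrArg Subtype.val hx))
  let f : (X × Y) ≃ₗ[F] (X × Y) :=
    (LinearEquiv.ofInjectiveEndo _ hinjX).prodCongr (LinearEquiv.ofInjectiveEndo _ hinjY)
  let ι : (X × Y) →ₗ[F] V := X.subtype.coprod Y.subtype
  have hι : ∀ w : X × Y, ι w = (w.1 : V) + w.2 := fun w => rfl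
  have hιf : ∀ w, ι (f w) = T (ι w) := fun w => by rw [hι, hι, map_add]; rfl
  have hψ : ∀ y : Y, (φ.symm ⟨T (y : V), apply_mem hYi y.2⟩ : V) = T (φ.symm y : V) := fun y => by
    have h : φ ⟨T (φ.symm y : V), apply_mem hXi (φ.symm y).2⟩ = ⟨T (y : V), apply_mem hYi y.2⟩ :=
      Subtype.ext (by rw [hφ, φ.apply_symm_apply])
    rw [← h, φ.symm_apply_apply]
  let B₁ : (X × Y) →ₛₗ[σ] (X × Y) →ₗ[F] F :=
    LinearMap.mk₂'ₛₗ σ (RingHom.id F) (fun w z => B (ι w) (ι z))
      (fun a b c => by simp) (fun s a b => by simp) (fun a b c => by simp) (fun s a b => by simp)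
  let B₂ : (X × Y) →ₛₗ[σ] (X × Y) →ₗ[F] F :=
    LinearMap.mk₂'ₛₗ σ (RingHom.id F)
      (fun w z => B (w.1 : V) (φ.symm z.2 : V) + B (φ.symm w.2 : V) (z.1 : V))
      (fun a b c => by simp; abel) (fun s a b => by simp; ring) (fun a b c => by simp; abel)
      (fun s a b => by simp; ring)
  have hB₁ : ∀ w z, B₁ w z = B (ι w) (ι z) := fun w z => rfl
  have hB₂ : ∀ w z, B₂ w z = B (w.1 : V) (φ.symm z.2 : V) + B (φ.symm w.2 : V) (z.1 : V) := fun w z => rfl
  have h0 : ∀ (a : X) (b : Y), B (a : V) b = 0 ∧ B (b : V) a = 0 := fun a b =>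
    ⟨hperp b.2 a a.2, hC.refl _ _ (hperp b.2 a a.2)⟩
  obtain ⟨e, hef, he⟩ := IsoComm.exists_comm B₁ B₂ f hε hC.invol (fun w z => hflip _ _)
    (fun w z => by rw [hB₂, hB₂, hflip (w.1 : V) (φ.symm z.2 : V), hflip (φ.symm w.2 : V) (z.1 : V), map_add]; ring)
    (fun w hw => Prod.ext
      (Subtype.ext (hXn _ w.1.2 fun v hv => by
        have := hw (⟨v, hv⟩, 0)
        simpa [hB₁, hι, (h0 ⟨v, hv⟩ w.2).2] using this))
      (Subtype.ext (hYn _ w.2.2 fun v hv => by
        have := hw (0, ⟨v, hv⟩)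
        simpa [hB₁, hι, (h0 w.1 ⟨v, hv⟩).1] using this)))
    (fun w hw => Prod.ext
      (Subtype.ext (hXn _ w.1.2 fun v hv => by
        have := hw (0, φ ⟨v, hv⟩)
        simpa [hB₂] using this))
      (φ.symm.map_eq_zero_iff.1 (Subtype.ext (hXn _ (φ.symm w.2).2 fun v hv => by
        have := hw (⟨v, hv⟩, 0)
        simpa [hB₂] using this))))
    (fun w z => by rw [hB₁, hB₁, hιf, hιf, hC.iso])
    (fun w z => by
      rw [hB₂, hB₂,
        show ((f w).1 : V) = T (w.1 : V) from rfl, show ((f z).1 : V) = T (z.1 : V) from rfl,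
        show (φ.symm (f z).2 : V) = T (φ.symm z.2 : V) from hψ z.2,
        show (φ.symm (f w).2 : V) = T (φ.symm w.2 : V) from hψ w.2, hC.iso, hC.iso])
    (fun w hw => by
      have h2 : f (f w) = w := by rw [hw, f.apply_symm_apply]
      have h3 : T (T (ι w)) = ι w := by rw [← hιf, ← hιf, h2]
      have h4 : T (ι w) = ι w := by
        have hodd : r % 2 = 1 := Nat.odd_iff.1 (hC.prime.odd_of_ne_two hC.rne2)
        have h5 : ∀ k, (T ^ (2 * k + 1)) (ι w) = T (ι w) := fun k => by
          induction k with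
          | zero => rw [mul_zero, zero_add, pow_one]
          | succ k ih => rw [show 2 * (k + 1) + 1 = 2 * k + 1 + 1 + 1 by ring, pow_succ', pow_succ',
              Module.End.mul_apply, Module.End.mul_apply, ih, h3]
        rw [← h5 (r / 2), show 2 * (r / 2) + 1 = r by omega, hC.pow, Module.End.one_apply]
      have h6 : ι w = 0 := no_fix hC (W := X ⊔ Y) (sup_le hXR hYR)
        (Submodule.add_mem_sup w.1.2 w.2.2) h4
      have hx : (w.1 : V) = 0 := hXn _ w.1.2 fun v hv => by
        have := LinearMap.congr_fun (congrArg B h6) v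
        simpa [hι, (h0 ⟨v, hv⟩ w.2).2] using this
      refine Prod.ext (Subtype.ext hx) (Subtype.ext ?_)
      simpa [hι, hx] using h6)
  let g : X →ₗ[F] V := ι ∘ₗ e.toLinearMap ∘ₗ LinearMap.inl F X Y
  have hginj : Function.Injective g := (injective_iff_map_eq_zero g).2 fun x hx => by
    have h2 : e (x, 0) = 0 := by
      refine Prod.ext (Subtype.ext (hXn _ (e (x, 0)).1.2 fun v hv => ?_)) (Subtype.ext (hYn _ (e (x, 0)).2.2 fun v hv => ?_))
      · have := LinearMap.congr_fun (congrArg B (show ι (e (x, 0)) = 0 from hx)) v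
        simpa [hι, (h0 ⟨v, hv⟩ (e (x, 0)).2).2] using this
      · have := LinearMap.congr_fun (congrArg B (show ι (e (x, 0)) = 0 from hx)) v
        simpa [hι, (h0 (e (x, 0)).1 ⟨v, hv⟩).1] using this
    exact congrArg Prod.fst (e.map_eq_zero_iff.1 h2)
  refine ⟨LinearMap.range g, ?_, ?_, ?_, LinearMap.finrank_range_of_inj hginj⟩
  · rintro _ ⟨x, rfl⟩
    exact Submodule.add_mem_sup (e (x, 0)).1.2 (e (x, 0)).2.2
  · rintro _ ⟨_, ⟨x, rfl⟩, rfl⟩
    refine ⟨(f (x, 0)).1, ?_⟩
    show ι (e ((f (x, 0)).1, 0)) = T (ι (e (x, 0)))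
    rw [← hιf, ← hef]
    congr 2
    exact Prod.ext rfl (Subtype.ext (by show (0 : V) = T ((0 : Y) : V); simp))
  · rintro _ ⟨x, rfl⟩ _ ⟨y, rfl⟩
    show B (ι (e (x, 0))) (ι (e (y, 0))) = 0
    rw [← hB₁, he, hB₂]
    simp

end CfsgLib.MaxSub.IsoSemi
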