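import Cfsg.Agent.Lib.MaxSub.IsoType
import Cfsg.Agent.Lib.MaxSub.IsoWitness

/-!
Elements of odd prime order of orthogonal groups in even dimension fixing totally singular subspaces.
-/

set_option autoImplicit false

namespace CfsgLib.MaxSub.IsoTS

open Polynomial Matrix CfsgLib CfsgLib.Classical CfsgLib.Geom CfsgLib.MaxSub.IsoSemi CfsgLib.MaxSub.IsoType
  CfsgLib.KnownC CfsgLib.KnownC.OrthType
open QuadraticMap (polar)

universe u

theorem suff_even {i n' k l m' a w t e : ℕ} {ε : Prop} (hi : 2 ≤ i) (hie : Even i) (hk : k % 2 = 0) (hki : k < i)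
    (hl : l < i) (he : e + i * a = i * n' + k) (haw : a ≤ 2 * w + t) (he0 : e = 0 → (ε ↔ Even a))
    (h : t + 2 * m' ≤ n' ∧ ((2 * l ≤ i ∧ k = 0 ∧ ¬(ε ↔ Even n') ∧ t + 2 * m' < n') ∨
      (2 * l ≤ k ∧ (ε ↔ Even n')) ∨ (2 * l < k ∧ ¬(ε ↔ Even n')))) :
    ∃ κ ≤ w, i * κ ≤ i * m' + l ∧ 2 * (i * m' + l - i * κ) ≤ e ∧
      ((ε ↔ Even a) ∨ i * m' + l - i * κ = 0 ∨ 2 * (i * m' + l - i * κ) + 1 ≤ e) := by
  have hi0 : i % 2 = 0 := Nat.even_iff.1 hie
  obtain ⟨ht, hc⟩ := h
  rcases le_or_gt m' w with hle | hgt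
  · refine ⟨m', hle, Nat.le_add_right _ _, ?_⟩
    rw [Nat.add_sub_cancel_left]
    have han : a ≤ n' := Nat.le_of_lt_succ (Nat.lt_of_mul_lt_mul_left (show i * a < i * (n' + 1) by
      rw [mul_add, mul_one]; omega))
    obtain ⟨D, rfl⟩ : ∃ D, n' = a + D := ⟨n' - a, by omega⟩
    rw [mul_add] at he
    by_cases hε : ε <;> simp only [hε, true_iff, false_iff, Nat.even_iff] at hc he0 ⊢ <;>
      rcases D with _ | _ | D <;> simp only [mul_add, mul_one, mul_zero] at he <;> omega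
  · refine ⟨w, le_rfl, le_add_right (Nat.mul_le_mul_left i hgt.le), ?_⟩
    have hwm := Nat.mul_le_mul_left i hgt.le
    obtain ⟨G, hG⟩ : ∃ G, n' + 2 * w = 2 * m' + a + G := ⟨n' + 2 * w - (2 * m' + a), by omega⟩
    have hprod : i * n' + 2 * (i * w) = 2 * (i * m') + i * a + i * G := by
      have := congrArg (i * ·) hG
      simpa only [mul_add, Nat.mul_left_comm i 2] using this
    by_cases hε : ε <;> simp only [hε, true_iff, false_iff, Nat.even_iff] at hc he0 ⊢ <;>
      rcases G with _ | _ | G <;> simp only [mul_add, mul_one, mul_zero] at hprod <;> omega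

variable {F : Type u} [Field F] [Fintype F] {p : ℕ} [Fact p.Prime] [CharP F p]

omit [Fintype F] in
theorem lin_pow {V : Type*} [AddCommGroup V] [Module F V] {g : V ≃ₗ[F] V} {r : ℕ} (h : g ^ r = 1) :
    g.toLinearMap ^ r = 1 := by
  have hj : ∀ (j : ℕ) x, (g.toLinearMap ^ j) x = (g ^ j) x := fun j x => by
    induction j with
    | zero => rfl
    | succ j ih => rw [pow_succ', pow_succ', LinearEquiv.mul_apply, Module.End.mul_apply, ih]; rfl
  refine LinearMap.ext fun x => ?_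
  rw [hj, h]; rfl

include p in
/-- The type of a model without fixed vectors. -/
theorem model_type {k r i : ℕ} [hr : Fact r.Prime] (hr2 : r ≠ 2) (hrp : r ≠ p)
    (hi : i = orderOf (Fintype.card F : ZMod r))
    {Q₀ : QuadraticForm F (Fin k ⊕ Fin k → F)} (hQ₀ : ∀ x, (∀ y, polar Q₀ x y = 0) → x = 0)
    {A : (Fin k ⊕ Fin k → F) ≃ₗ[F] (Fin k ⊕ Fin k → F)} (hA : A ∈ quadIsoms Q₀) (hAr : A ^ r = 1)
    (h1 : ¬ A.toLinearMap.charpoly.IsRoot 1) :
    (Odd i → HasHalf Q₀ ⊤) ∧ ∀ a, Even i → 2 * k = i * a → (HasHalf Q₀ ⊤ ↔ Even a) := by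
  have hT : ∀ v, Q₀ (A.toLinearMap v) = Q₀ v := fun v => hA v
  have hC := IsoOrth.ctx hQ₀ hr.out hr2 (SympOrderR.r_ne_zero (p := p) hr.out hrp) hT (lin_pow hAr)
  have hker : LinearMap.ker (A.toLinearMap - 1) = ⊥ := (Submodule.eq_bot_iff _).2 fun x hx =>
    OrthPrime.no_fixed h1 x (sub_eq_zero.1 (show (A.toLinearMap - 1) x = 0 from hx))
  have htop := fix_sup_mov hC
  rw [hker, bot_sup_eq] at htop
  refine ⟨fun hodd => ?_, fun a hev ha => ?_⟩
  · obtain ⟨w, W, hd, -, -, hW, hWd⟩ := mov_odd (p := p) hQ₀ hC hT (hi ▸ hodd)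
    exact ⟨W, le_top, hW, by rw [← htop, hd, hWd]⟩
  · obtain ⟨a', w, W, hd, -, -, -, -, -, hty⟩ := mov_even (p := p) hQ₀ hC hT (hi ▸ hev)
    rw [htop] at hty
    rw [htop, finrank_top, OrthPrime.finrank_two, ← hi, ha] at hd
    have hipos : 0 < i := hi ▸ ord_pos hC
    rwa [← Nat.eq_of_mul_eq_mul_left hipos hd] at hty

variable {ι : Type} [Fintype ι] [DecidableEq ι] {Q : QuadraticForm F (ι → F)}
  (hQ : ∀ x, (∀ y, polar Q x y = 0) → x = 0) {r : ℕ} [hr : Fact r.Prime] {i d m : ℕ}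

include p hQ in
/-- Elements of order `r` of `Ω` and totally singular `m`-subspaces. -/
theorem main (hr2 : r ≠ 2) (hrp : r ≠ p) (hi : i = orderOf (Fintype.card F : ZMod r)) {c : ℕ}
    (hc : c = if Even i then i else 2 * i) (hm : 1 ≤ m) (hmd : m < d) (hd : 3 ≤ d) (hn : Fintype.card ι = 2 * d)
    {ε : Prop} (hε : HasHalf Q ⊤ ↔ ε)
    (hemb : ∀ k ≤ d, ∀ Q₀ : QuadraticForm F (Fin k ⊕ Fin k → F), (∀ x, (∀ y, polar Q₀ x y = 0) → x = 0) →
      (k < d ∨ (HasHalf Q₀ ⊤ ↔ ε)) → ∃ φ : (Fin k ⊕ Fin k → F) →ₗ[F] (ι → F), ∀ v, Q (φ v) = Q₀ v)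
    (hodd : Odd i → ∃ s J, 2 * d = 2 * i * s + 2 * J ∧ (ε → J < m) ∧ (¬ε → 1 ≤ J ∧ J ≤ m))
    (heven : Even i → ∃ s J, 2 * d = i * s + 2 * J ∧
      (((ε ↔ Even s) ∧ J < m) ∨ (¬(ε ↔ Even s) ∧ 1 ≤ J ∧ J ≤ m))) :
    (∀ x : GL ι F, x ∈ Cfsg.Geo.omegaGL (⇑Q) →
      (∃ z : F, ((x ^ r : GL ι F) : Matrix ι ι F) = z • (1 : Matrix ι ι F)) →
      (∀ z : F, (x : Matrix ι ι F) ≠ z • (1 : Matrix ι ι F)) →
      ∃ W : Submodule F (ι → F), Module.finrank F ↥W = m ∧ (∀ w ∈ W, Q w = 0) ∧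
        W.map (Matrix.toLin' (x : Matrix ι ι F)) ≤ W) ↔
    ((Odd i ∧ i ≤ m ∧ ((ε ∧ 2 * (m % i) ≤ (2 * d) % c) ∨ (¬ε ∧ ((2 * d) % c = 0 ∨ 2 * (m % i) < (2 * d) % c)))) ∨
     (Even i ∧ i ≤ m ∧ (r - 1) / i + 2 * (m / i) ≤ (2 * d) / i ∧
       ((2 * (m % i) ≤ i ∧ (2 * d) % c = 0 ∧ ¬(ε ↔ Even ((2 * d) / i)) ∧
          (r - 1) / i + 2 * (m / i) < (2 * d) / i) ∨
        (2 * (m % i) ≤ (2 * d) % c ∧ (ε ↔ Even ((2 * d) / i))) ∨
        (2 * (m % i) < (2 * d) % c ∧ ¬(ε ↔ Even ((2 * d) / i)))))) := by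
  classical
  have hrP : r.Prime := hr.out
  have hrF : (r : F) ≠ 0 := SympOrderR.r_ne_zero (p := p) hrP hrp
  have hipos : 0 < i := SympOrderR.i_pos (F := F) (p := p) rfl hrP hrp hi
  have hG := IsoOrth.geom hQ
  have hV : Module.finrank F (ι → F) = 2 * d := by rw [Module.finrank_fintype_fun_eq_card, hn]
  obtain ⟨v₀, hv₀⟩ : ∃ v, Q v ≠ 0 := by
    by_contra h
    push Not at h
    have := two_mul_ti_le hG (U := ⊤) (W := ⊤) (fun u _ hu => hG.sep u fun v => hu v trivial) le_rfl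
      (IsoOrth.ti_of_ts fun w _ => h w)
    rw [finrank_top, hV] at this
    omega
  have hiso : ∀ {x : GL ι F}, x ∈ Cfsg.Geo.omegaGL (⇑Q) → ∀ v, Q ((x : Matrix ι ι F) *ᵥ v) = Q v := by
    intro x hx v
    obtain ⟨y, -, rfl⟩ := hx
    simpa using (mem_isometryGroup_iff _ _).1 y.2 v
  have hsq : ∀ {x : GL ι F}, x ∈ Cfsg.Geo.omegaGL (⇑Q) → ∀ {z : F},
      (x : Matrix ι ι F) = z • (1 : Matrix ι ι F) → z * z = 1 := by
    intro x hx z hz
    have h := hiso hx v₀
    rw [hz, Matrix.smul_mulVec, Matrix.one_mulVec, QuadraticMap.map_smul, smul_eq_mul] at h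
    exact mul_right_cancel₀ hv₀ (h.trans (one_mul _).symm)
  have hoddr : Odd r := hrP.odd_of_ne_two hr2
  have hzr : ∀ {z : F}, z * z = 1 → z ^ r = z := fun {z} hz => by
    obtain ⟨k, hk⟩ := hoddr
    rw [hk, pow_succ, pow_mul, sq, hz, one_pow, one_mul]
  -- witnesses
  have witness : (∀ x : GL ι F, x ∈ Cfsg.Geo.omegaGL (⇑Q) →
        (∃ z : F, ((x ^ r : GL ι F) : Matrix ι ι F) = z • (1 : Matrix ι ι F)) →
        (∀ z : F, (x : Matrix ι ι F) ≠ z • (1 : Matrix ι ι F)) →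
        ∃ W : Submodule F (ι → F), Module.finrank F ↥W = m ∧ (∀ w ∈ W, Q w = 0) ∧
          W.map (Matrix.toLin' (x : Matrix ι ι F)) ≤ W) →
      ∀ k, k ≤ d → 1 ≤ k → ∀ f ∈ StarCount.polys (SemiPalin.tilde (RingHom.id F)) r (2 * k), ¬ f.IsRoot 1 →
        (k < d ∨ (Odd i ∧ ε) ∨ ∃ a, Even i ∧ 2 * k = i * a ∧ (ε ↔ Even a)) →
        ∃ (T : Module.End F (ι → F)) (Z : Submodule F (ι → F)) (z : ℕ), Ctx Q.polarBilin T r ∧
          T.charpoly = (X - C 1) ^ (2 * d - 2 * k) * f ∧ m % i ≤ z ∧ 2 * z + 2 * k ≤ 2 * d ∧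
          (2 * z + 2 * k = 2 * d → (Odd i → ε) ∧ ∀ a, Even i → 2 * k = i * a → (ε ↔ Even a)) ∧
          ((∀ g ∈ SympOrderR.factors F r, Module.finrank F ↥(LinearMap.ker (aeval T g)) < 2 * i) → Even i →
            z = m) := by
    intro h k hkd hk1 f hf hf1 htype
    obtain ⟨Q₀, A, hQ₀, hA, hAr, hAc⟩ := OrthPrime.exists_model (p := p) hrP hr2 hrp hf hf1
    have hmt := model_type (p := p) hr2 hrp hi hQ₀ hA hAr (hAc ▸ hf1)
    obtain ⟨φ, hφ⟩ := hemb k hkd Q₀ hQ₀ (by
      rcases htype with h | ⟨ho, hε'⟩ | ⟨a, hev, ha, hε'⟩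
      · exact Or.inl h
      · exact Or.inr (iff_of_true (hmt.1 ho) hε')
      · exact Or.inr ((hmt.2 a hev ha).trans hε'.symm |>.trans (Iff.rfl)))
    obtain ⟨g, hg, hgr, hgc⟩ := OrthPrime.exists_extension Q Q₀ hQ₀ φ hφ hA hAr
    obtain ⟨x, hx, hxr, hxv⟩ := OmegaElem.exists_gl Q hQ (Or.inr (by omega)) (by omega) hrP hr2 hg hgr
    obtain ⟨T, hT⟩ : ∃ T, T = Matrix.toLinAlgEquiv' (x : Matrix ι ι F) := ⟨_, rfl⟩
    have hTr : T ^ r = 1 := by
      rw [hT, ← map_pow, ← Units.val_pow_eq_pow_val, hxr, Units.val_one, map_one]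
    have hTc : T.charpoly = (X - C 1) ^ (2 * d - 2 * k) * f := by
      rw [hT, show Matrix.toLinAlgEquiv' (x : Matrix ι ι F) = g.toLinearMap from LinearMap.ext hxv, hgc, hAc,
        OrthPrime.finrank_two, hV]
    have hfix := IsoWitness.finrank_fix_lt hrF hTr (e := 2 * d - 2 * k) fun hd' => by
      rw [hTc, pow_succ, mul_dvd_mul_iff_left (pow_ne_zero _ (X_sub_C_ne_zero 1))] at hd'
      exact hf1 (dvd_iff_isRoot.1 hd')
    have hns : ∀ z : F, (x : Matrix ι ι F) ≠ z • (1 : Matrix ι ι F) := fun z hz => by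
      have h1 : z = 1 := by
        have h2 := congrArg (fun y : GL ι F => (y : Matrix ι ι F) *ᵥ v₀) hxr
        simp only [Units.val_pow_eq_pow_val, hz, _root_.smul_pow, one_pow, Matrix.smul_mulVec, Matrix.one_mulVec,
          Units.val_one] at h2
        rw [← hzr (hsq hx hz)]
        exact smul_left_injective F (fun e : v₀ = 0 => hv₀ (by rw [e, map_zero])) (by simpa using h2)
      rw [hT, hz, h1, one_smul, map_one, sub_self, LinearMap.ker_zero, finrank_top, hV] at hfix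
      omega
    obtain ⟨W, hWd, hW, hWi⟩ := h x hx ⟨1, by rw [hxr, one_smul]; rfl⟩ hns
    replace hWi : W.map T ≤ W := hT ▸ hWi
    have hTQ : ∀ v, Q (T v) = Q v := fun v => hT ▸ hiso hx v
    have hC := IsoOrth.ctx hQ hrP hr2 hrF hTQ hTr
    have hs := finrank_split hC hWi
    obtain ⟨w, hw⟩ := dvd_finrank hC (inv_inf hWi (inv_mov T)) inf_le_right
    rw [hWd, hw, ← hi] at hs
    obtain ⟨hb, hb'⟩ := ts_part_bound hQ (nd_fix hC) (W := W ⊓ LinearMap.ker (T - 1)) inf_le_right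
      fun v hv => hW v hv.1
    refine ⟨T, W ⊓ LinearMap.ker (T - 1), Module.finrank F ↥(W ⊓ LinearMap.ker (T - 1)), hC, hTc, ?_, by omega, fun hz => ?_, fun hone hev => ?_⟩
    · rw [← hs, Nat.add_mul_mod_self_left]; exact Nat.mod_le _ _
    · have heq : Module.finrank F ↥(LinearMap.ker (T - 1)) = 2 * d - 2 * k := by omega
      have hhalf : HasHalf Q (LinearMap.ker (T - 1)) := by
        by_contra hh; exact hb' hh (by omega)
      have hsum := (T - 1).finrank_range_add_finrank_ker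
      rw [heq, hV] at hsum
      have hft := fix_type hQ hC hTQ hV (e := k) (by omega)
      rw [hε, iff_true_left hhalf] at hft
      refine ⟨fun ho => hft.2 ?_, fun a hev ha => ?_⟩
      · obtain ⟨w', W', hd', hW'R, -, hW', hW'd⟩ := mov_odd (p := p) hQ hC hTQ (hi ▸ ho)
        exact ⟨W', hW'R, hW', by rw [hd', hW'd]⟩
      · obtain ⟨a', w', W', hd', -, -, -, -, -, hty⟩ := mov_even (p := p) hQ hC hTQ (hi ▸ hev)
        rw [← hi] at hd'
        rw [Nat.eq_of_mul_eq_mul_left hipos (show i * a = i * a' by omega)]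
        exact hft.trans hty
    · have hbot := no_ti (p := p) (c := 0) hC (fun x => by simp) ((IsoOrth.sd_iff hi hr2 hipos).2 hev)
        (fun g hg => ker_factor_one (p := p) hC hrp hg (hi ▸ hone g hg))
        (inv_inf hWi (inv_mov T)) inf_le_right (ti_mono inf_le_left (IsoOrth.ti_of_ts hW))
      rw [hbot, finrank_bot, ← hi] at hw
      omega
  -- existence
  have suff : ∀ (T : Module.End F (ι → F)), Ctx Q.polarBilin T r → (∀ v, Q (T v) = Q v) →
      ∀ (Z₀ : Submodule F (ι → F)) (κ : ℕ), Z₀ ≤ LinearMap.range (T - 1) → Z₀.map T ≤ Z₀ → (∀ v ∈ Z₀, Q v = 0) →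
      i * κ ≤ Module.finrank F Z₀ → i * κ ≤ m → 2 * (m - i * κ) ≤ Module.finrank F ↥(LinearMap.ker (T - 1)) →
      (HasHalf Q (LinearMap.ker (T - 1)) ∨ m - i * κ = 0 ∨
        2 * (m - i * κ) + 1 ≤ Module.finrank F ↥(LinearMap.ker (T - 1))) →
      ∃ W : Submodule F (ι → F), Module.finrank F ↥W = m ∧ (∀ w ∈ W, Q w = 0) ∧ W.map T ≤ W := by
    intro T hC hTQ Z₀ κ hZR hZi hZQ hκ hκm h1 h2
    obtain ⟨X₁, hX, hXi, hXd⟩ := exists_sub hC hZi hZR κ (hi ▸ hκ)
    obtain ⟨Z, hZ, hZs, hZd⟩ := exists_ts_part hQ (nd_fix hC) h1 h2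
    have hXQ : ∀ v ∈ X₁, Q v = 0 := fun v hv => hZQ v (hX hv)
    obtain ⟨-, hWi, hWd⟩ := ti_sup_fix hC (hX.trans hZR) hXi (IsoOrth.ti_of_ts hXQ) hZ (IsoOrth.ti_of_ts hZs)
    refine ⟨X₁ ⊔ Z, ?_, IsoOrth.ts_sup hXQ hZs
      (le_perp_comm hG (((hX.trans hZR).trans (fix_le_perp hC)).trans (perp_antitone hZ))), hWi⟩
    rw [hWd, hXd, hZd, ← hi]; omega
  have hk2 : ∀ {j : ℕ}, (2 * d) % (2 * j) % 2 = 0 := fun {j} => by
    rw [Nat.mod_mod_of_dvd _ (dvd_mul_right 2 j)]; omega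
  constructor
  · intro h
    rcases Nat.even_or_odd i with hev | ho
    swap
    · refine Or.inl ⟨ho, ?_⟩
      obtain rfl : c = 2 * i := by rw [hc, if_neg (Nat.not_even_iff_odd.2 ho)]
      obtain ⟨s, J, hsJ, hJ1, hJ2⟩ := hodd ho
      have hJm : J ≤ m := by by_cases hε' : ε <;> [exact (hJ1 hε').le; exact (hJ2 hε').2]
      have hs : 1 ≤ s := by
        rcases Nat.eq_zero_or_pos s with rfl | hs
        · omega
        · exact hs
      have hcd : 2 * i ≤ 2 * d := by
        have := Nat.mul_le_mul_left (2 * i) hs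
        omega
      have hcond : (ε ∧ 2 * (m % i) ≤ (2 * d) % (2 * i)) ∨
          (¬ε ∧ ((2 * d) % (2 * i) = 0 ∨ 2 * (m % i) < (2 * d) % (2 * i))) := by
        have hmain : (ε ∨ (2 * d) % (2 * i) ≠ 0) →
            2 * (m % i) ≤ (2 * d) % (2 * i) ∧ (¬ε → 2 * (m % i) ≠ (2 * d) % (2 * i)) := fun hcase => by
          obtain ⟨f, hf, hf1⟩ := IsoOrth.exists_block_poly (F := F) (p := p) hi hr2 hrp hc ((2 * d) / (2 * i))
          have hle := Nat.div_add_mod (2 * d) (2 * i)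
          rw [mul_assoc] at hf hle
          have h1 := Nat.mul_le_mul_left i (Nat.div_pos hcd (by omega))
          obtain ⟨T, Z, z, -, -, hzl, hzk, hzeq, -⟩ := witness h _ (by omega) (by omega) f hf hf1 (by
            rcases hcase with he | he
            · exact Or.inr (Or.inl ⟨ho, he⟩)
            · exact Or.inl (by omega))
          exact ⟨by omega, fun hne heq => hne ((hzeq (by omega)).1 ho)⟩
        by_cases hε' : ε
        · exact Or.inl ⟨hε', (hmain (Or.inl hε')).1⟩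
        · refine Or.inr ⟨hε', Classical.or_iff_not_imp_left.2 fun hne => ?_⟩
          obtain ⟨h1, h2⟩ := hmain (Or.inr hne)
          have := h2 hε'
          omega
      refine ⟨?_, hcond⟩
      by_contra him
      rw [Nat.mod_eq_of_lt (by omega : m < i), hsJ, Nat.mul_add_mod,
        Nat.mod_eq_of_lt (by omega : 2 * J < 2 * i)] at hcond
      rcases hcond with ⟨he, hle⟩ | ⟨he, hle⟩
      · have := hJ1 he; omega
      · have := hJ2 he; omega
    · refine Or.inr ⟨hev, ?_⟩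
      obtain rfl : i = c := by rw [hc, if_pos hev]
      have hi2 : 2 ≤ i := by obtain ⟨j, hj⟩ := hev; omega
      obtain ⟨s, J, hsJ, hJ⟩ := heven hev
      have hie : i % 2 = 0 := Nat.even_iff.1 hev
      have hkev : (2 * d) % i % 2 = 0 := by
        rw [Nat.mod_mod_of_dvd _ (Nat.dvd_of_mod_eq_zero hie)]; omega
      have hnd := Nat.div_add_mod (2 * d) i
      have hblock : ∀ a, 1 ≤ a → i * a ≤ 2 * d → (i * a < 2 * d ∨ (ε ↔ Even a)) →
          2 * (m % i) + i * a ≤ 2 * d ∧ (¬(ε ↔ Even a) → 2 * (m % i) + i * a ≠ 2 * d) := by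
        intro a ha1 had hcase
        obtain ⟨f, hf, hf1⟩ := IsoOrth.exists_block_poly (F := F) (p := p) hi hr2 hrp hc a
        obtain ⟨k, hk⟩ : 2 ∣ i * a := (even_iff_two_dvd.1 hev).mul_right _
        rw [hk] at hf
        have := Nat.mul_le_mul_left i ha1
        obtain ⟨T, Z, z, -, -, hzl, hzk, hzeq, -⟩ := witness h k (by omega) (by omega) f hf hf1 (by
          rcases hcase with h' | h'
          · exact Or.inl (by omega)
          · exact Or.inr (Or.inr ⟨a, hev, hk.symm, h'⟩))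
        exact ⟨by omega, fun hne heq => hne ((hzeq (by omega)).2 a hev hk.symm)⟩
      have hs : 1 ≤ s := by
        rcases Nat.eq_zero_or_pos s with rfl | hs
        · omega
        · exact hs
      have hid : i ≤ 2 * d := by
        have := Nat.mul_le_mul_left i hs
        omega
      have hn1 := Nat.div_pos hid hipos
      have him : i ≤ m := by
        by_contra him
        have hml : m % i = m := Nat.mod_eq_of_lt (by omega)
        rw [hml] at hblock
        rcases lt_or_ge (2 * J) i with hlt | hge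
        · rcases hJ with ⟨hs', hJm⟩ | ⟨hs', hJ1, hJm⟩
          · have := (hblock s hs (by omega) (Or.inr hs')).1
            omega
          · obtain ⟨h1, h2⟩ := hblock s hs (by omega) (Or.inl (by omega))
            have := h2 hs'
            omega
        · have hmul : i * (s + 1) = i * s + i := Nat.mul_succ i s
          rcases hJ with ⟨hs', hJm⟩ | ⟨hs', hJ1, hJm⟩
          · rcases eq_or_lt_of_le hge with heq | hgt
            · have := (hblock s hs (by omega) (Or.inl (by omega))).1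
              omega
            · have := (hblock (s + 1) (by omega) (by omega) (Or.inl (by omega))).1
              omega
          · have h'' : (ε ↔ Even (s + 1)) := by rw [Nat.even_add_one]; tauto
            have := (hblock (s + 1) (by omega) (by omega) (Or.inr h'')).1
            omega
      refine ⟨him, ?_⟩
      obtain ⟨o, ho⟩ : ∃ o, o = min ((r - 1) / i) ((2 * d - 1) / i) := ⟨_, rfl⟩
      have hdvd : i ∣ r - 1 := hi ▸ orderOf_dvd_of_pow_eq_one (ZMod.pow_card_sub_one_eq_one fun h0 => by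
        rw [h0] at hi; simp at hi; omega)
      have hopos : 1 ≤ o := ho ▸ le_min (Nat.div_pos (Nat.le_of_dvd (by have := hrP.two_le; omega) hdvd) hipos)
        (Nat.div_pos (by omega) hipos)
      have hoi : i * o ≤ 2 * d - 1 :=
        (Nat.mul_le_mul_left i (by omega : o ≤ (2 * d - 1) / i)).trans (Nat.mul_div_le _ _)
      obtain ⟨f, hf, hf1, hfs⟩ := IsoOrth.exists_distinct_poly (F := F) (p := p) hi hr2 hrp hev
        (by omega : o ≤ (r - 1) / i)
      obtain ⟨k, hk⟩ : 2 ∣ i * o := (even_iff_two_dvd.1 hev).mul_right _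
      rw [hk] at hf
      have := Nat.mul_le_mul_left i hopos
      obtain ⟨T, Z, z, hC, hTc, -, hzk, hzeq, hzm⟩ := witness h k (by omega) (by omega) f hf hf1 (Or.inl (by omega))
      obtain rfl : z = m := hzm (fun g hg => by
        by_contra hlt2
        obtain ⟨hgm, hgi, -⟩ := SympOrderR.mem_factors.1 hg
        have h' := IsoWitness.pow_dvd_charpoly hrF hC.pow hgi hgm (k := 2) (by
          rw [SympOrderR.natDegree_factor (F := F) (p := p) rfl hrP hrp hi hg]; omega)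
        rw [hTc] at h'
        exact hfs g hg (hgi.prime.pow_dvd_of_dvd_mul_left 2
          (fun hd => SympOrderR.not_dvd_X_sub_one (F := F) hrP hrp hg (hgi.prime.dvd_of_dvd_pow hd)) h')) hev
      obtain rfl : o = (r - 1) / i := by
        rcases le_total ((r - 1) / i) ((2 * d - 1) / i) with hle | hle
        · exact ho.trans (min_eq_left hle)
        · rw [min_eq_right hle] at ho
          subst ho
          have := Nat.div_add_mod (2 * d - 1) i
          have := Nat.mod_lt (2 * d - 1) hipos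
          omega
      have hmd' := Nat.div_add_mod z i
      have hle3 : (r - 1) / i + 2 * (z / i) ≤ (2 * d) / i := by
        rw [Nat.le_div_iff_mul_le hipos, add_mul, mul_assoc, mul_comm (z / i) i, mul_comm ((r - 1) / i) i]
        omega
      refine ⟨hle3, ?_⟩
      by_cases hn' : ε ↔ Even ((2 * d) / i)
      · have h4 := (hblock _ hn1 (by omega) (Or.inr hn')).1
        exact Or.inr (Or.inl ⟨by omega, hn'⟩)
      rcases Nat.eq_zero_or_pos ((2 * d) % i) with h0 | hpos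
      · refine Or.inl ⟨?_, h0, hn', lt_of_le_of_ne hle3 fun heq => ?_⟩
        · have hm2 : i * ((2 * d) / i - 1) = i * ((2 * d) / i) - i := by rw [Nat.mul_sub, mul_one]
          have hn2 : 2 ≤ (2 * d) / i := (Nat.le_div_iff_mul_le hipos).2 (by omega)
          have := (hblock ((2 * d) / i - 1) (by omega) (by omega) (Or.inl (by omega))).1
          omega
        · have hmul : i * ((r - 1) / i) + 2 * (i * (z / i)) = i * ((2 * d) / i) := by rw [← heq]; ring
          refine hn' (((hzeq (by omega)).2 _ hev hk.symm).trans ?_)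
          rw [← heq, Nat.even_add]
          simp
      · obtain ⟨h4, h5⟩ := hblock _ hn1 (by omega) (Or.inl (by omega))
        have := h5 hn'
        exact Or.inr (Or.inr ⟨by omega, hn'⟩)
  · intro hcond x hx hxs hxn
    obtain ⟨z, hz⟩ := hxs
    have hz2 : z * z = 1 := hsq (pow_mem hx r) hz
    have hy : x ^ (r + 1) ∈ Cfsg.Geo.omegaGL (⇑Q) := pow_mem hx _
    obtain ⟨T, hT⟩ : ∃ T, T = Matrix.toLinAlgEquiv' ((x ^ (r + 1) : GL ι F) : Matrix ι ι F) := ⟨_, rfl⟩
    have hyz : ((x ^ (r + 1) : GL ι F) : Matrix ι ι F) = z • (x : Matrix ι ι F) := by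
      rw [pow_succ, Units.val_mul, hz, smul_mul_assoc, one_mul]
    have hTQ : ∀ v, Q (T v) = Q v := fun v => hT ▸ hiso hy v
    have hTr : T ^ r = 1 := by
      rw [hT, ← map_pow, ← Units.val_pow_eq_pow_val, ← pow_mul, mul_comm, pow_mul, Units.val_pow_eq_pow_val, hz,
        _root_.smul_pow, one_pow]
      obtain ⟨j, hj⟩ := hoddr
      rw [hj, show 2 * j + 1 + 1 = 2 * (j + 1) by ring, pow_mul, sq, hz2, one_pow, one_smul, map_one]
    have hC := IsoOrth.ctx hQ hrP hr2 hrF hTQ hTr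
    suffices hW : ∃ W : Submodule F (ι → F), Module.finrank F ↥W = m ∧ (∀ w ∈ W, Q w = 0) ∧ W.map T ≤ W by
      obtain ⟨W, hWd, hW, hWi⟩ := hW
      refine ⟨W, hWd, hW, ?_⟩
      rintro _ ⟨v, hv, rfl⟩
      have hmem : T v ∈ W := hWi ⟨v, hv, rfl⟩
      rw [hT, Matrix.toLinAlgEquiv'_apply, hyz, Matrix.smul_mulVec] at hmem
      have := W.smul_mem z hmem
      rwa [smul_smul, hz2, one_smul] at this
    have hsum := (T - 1).finrank_range_add_finrank_ker
    rw [hV] at hsum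
    have hmd' := Nat.div_add_mod m i
    have hlt := Nat.mod_lt m hipos
    rcases hcond with ⟨ho, -, hcond⟩ | ⟨hev, -, hcond⟩
    · obtain rfl : c = 2 * i := by rw [hc, if_neg (Nat.not_even_iff_odd.2 ho)]
      obtain ⟨w, W₀, hd', hR, hi', hW₀, hW₀d⟩ := mov_odd (p := p) hQ hC hTQ (hi ▸ ho)
      rw [← hi] at hd' hW₀d
      rw [hd'] at hsum
      have hft := fix_type hQ hC hTQ hV hd'
      rw [hε, iff_true_right (show HasHalf Q (LinearMap.range (T - 1)) from ⟨W₀, hR, hW₀, by rw [hd', hW₀d]⟩)] at hft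
      have he0 : Module.finrank F ↥(LinearMap.ker (T - 1)) = 0 → ε := fun h0 =>
        hft.2 (by rw [Submodule.finrank_eq_zero.1 h0]; exact hasHalf_bot Q)
      have hmod : Module.finrank F ↥(LinearMap.ker (T - 1)) % (2 * i) = (2 * d) % (2 * i) := by
        rw [← hsum, ← mul_assoc, Nat.mul_add_mod]
      have hk2' := hk2 (j := i)
      have hle := Nat.mod_le (Module.finrank F ↥(LinearMap.ker (T - 1))) (2 * i)
      have hev0 : Module.finrank F ↥(LinearMap.ker (T - 1)) % (2 * i) = 0 →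
          Module.finrank F ↥(LinearMap.ker (T - 1)) = 0 ∨ 2 * i ≤ Module.finrank F ↥(LinearMap.ker (T - 1)) :=
        fun h0 => (Nat.eq_zero_or_pos _).imp_right fun hpos =>
          Nat.le_of_dvd hpos (Nat.dvd_of_mod_eq_zero h0)
      rcases le_or_gt (m / i) w with hle' | hgt
      · refine suff T hC hTQ W₀ (m / i) hR hi' hW₀ (hW₀d ▸ Nat.mul_le_mul_left i hle') (by omega) ?_ ?_
        · rcases hcond with ⟨he, h2'⟩ | ⟨he, h2' | h2'⟩
          · omega
          · rcases hev0 (hmod.trans h2') with h3 | h3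
            · exact absurd (he0 h3) he
            · omega
          · omega
        · rcases hcond with ⟨he, h2'⟩ | ⟨he, h2' | h2'⟩
          · exact Or.inl (hft.1 he)
          · rcases hev0 (hmod.trans h2') with h3 | h3
            · exact absurd (he0 h3) he
            · exact Or.inr (Or.inr (by omega))
          · exact Or.inr (Or.inr (by omega))
      · have := Nat.mul_le_mul_left i hgt.le
        exact suff T hC hTQ W₀ w hR hi' hW₀ hW₀d.ge (by omega) (by omega) (Or.inr (Or.inr (by omega)))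
    · obtain rfl : i = c := by rw [hc, if_pos hev]
      obtain ⟨a, w, W₀, hd', hR, hi', hW₀, hW₀d, haw, hty⟩ := mov_even (p := p) hQ hC hTQ (hi ▸ hev)
      rw [← hi] at hd' hW₀d haw
      rw [hd'] at hsum
      obtain ⟨s, hs⟩ := hev
      have hft := fix_type hQ hC hTQ hV (e := s * a) (by rw [hd', hs]; ring)
      rw [hε, hty] at hft
      have hft' : HasHalf Q (LinearMap.ker (T - 1)) ↔ (ε ↔ Even a) := by
        by_cases hE : Even a <;> by_cases hε' : ε <;> simp only [hE, hε', iff_true, iff_false, true_iff, false_iff,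
          not_not, not_true, not_false_iff] at hft ⊢ <;> tauto
      obtain ⟨κ, hκw, hκm, h1, h2⟩ := suff_even (ε := ε) (l := m % i) (m' := m / i) (k := (2 * d) % i)
        (n' := (2 * d) / i) (e := Module.finrank F ↥(LinearMap.ker (T - 1))) (by omega : 2 ≤ i) ⟨s, hs⟩
        (by rw [Nat.mod_mod_of_dvd _ (show 2 ∣ i by omega)]; omega) (Nat.mod_lt _ hipos) hlt
        (by rw [Nat.div_add_mod]; omega) haw
        (fun h0 => hft'.1 (by rw [Submodule.finrank_eq_zero.1 h0]; exact hasHalf_bot Q)) hcond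
      rw [hmd'] at hκm h1 h2
      refine suff T hC hTQ W₀ κ hR hi' hW₀ (hW₀d ▸ Nat.mul_le_mul_left i hκw) hκm h1 ?_
      rw [hft']; exact h2

end CfsgLib.MaxSub.IsoTS
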