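import Cfsg.Prelude.Def_GeometricClasses
import Cfsg.Agent.Lib.MaxSub.SemiDims
import Cfsg.Agent.Lib.Classical.Preserving
import Cfsg.Agent.Lib.Geom.FiniteField
import Cfsg.Agent.Lib.MaxSub.SemiCriterion
import Mathlib.LinearAlgebra.Matrix.Kronecker
import Mathlib.LinearAlgebra.Matrix.Rank
import Mathlib.LinearAlgebra.Matrix.GeneralLinearGroup.Card

/-!
Ranks of `c (g₁ ⊗ g₂) - 1` and elements of prime order conjugate into a Kronecker subgroup.
-/

set_option autoImplicit false

namespace CfsgLib.MaxSub.KronFix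

open Matrix CfsgLib.Classical
open scoped Kronecker

universe u

variable {F : Type u} [Field F] {a b : ℕ}

local notation "κ" => Fin a × Fin b

/-- A non-scalar first factor forces rank at least `b`. -/
theorem rank_ge {A : Matrix (Fin a) (Fin a) F} (B : Matrix (Fin b) (Fin b) F) (hA : ∀ s : F, A ≠ s • 1) (c : F) :
    b ≤ (c • (A ⊗ₖ B) - 1).rank := by
  obtain ⟨v, hv⟩ : ∃ v, LinearIndependent F ![v, A *ᵥ v] := by
    by_contra h
    push Not at h
    obtain ⟨s, hs⟩ := LinearMap.exists_eq_smul_id_of_forall_notLinearIndependent (f := Matrix.toLin' A) fun v => by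
      simpa [Matrix.toLin'_apply] using h v
    refine hA s (Matrix.toLin'.injective ?_)
    rw [hs, map_smul, Matrix.toLin'_one]
    rfl
  let L : (Fin b → F) →ₗ[F] (κ → F) :=
    { toFun := fun w p => v p.1 * w p.2
      map_add' := fun w w' => funext fun p => mul_add _ _ _
      map_smul' := fun t w => funext fun p => mul_left_comm _ _ _ }
  have hK : ∀ w p, ((A ⊗ₖ B) *ᵥ L w) p = (A *ᵥ v) p.1 * (B *ᵥ w) p.2 := fun w p => by
    show ∑ x : κ, A p.1 x.1 * B p.2 x.2 * (v x.1 * w x.2) = (∑ i, A p.1 i * v i) * ∑ j, B p.2 j * w j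
    rw [Finset.sum_mul_sum, Fintype.sum_prod_type]
    exact Finset.sum_congr rfl fun i _ => Finset.sum_congr rfl fun j _ => by ring
  let f : (Fin b → F) →ₗ[F] (κ → F) := (c • (A ⊗ₖ B) - 1).mulVecLin.comp L
  have hf : Function.Injective f := (injective_iff_map_eq_zero f).2 fun w hw => funext fun j => by
    have h0 : (c * (B *ᵥ w) j) • (A *ᵥ v) + (-(w j)) • v = 0 := funext fun i => by
      have h : ((c • (A ⊗ₖ B) - 1) *ᵥ L w) (i, j) = 0 := congrFun hw (i, j)
      rw [Matrix.sub_mulVec, Matrix.smul_mulVec, Matrix.one_mulVec, Pi.sub_apply, Pi.smul_apply, hK] at h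
      simp only [smul_eq_mul] at h
      change c * ((A *ᵥ v) i * (B *ᵥ w) j) - v i * w j = 0 at h
      simp only [Pi.add_apply, Pi.smul_apply, smul_eq_mul, Pi.zero_apply]
      linear_combination h
    have := (LinearIndependent.pair_iff.1 hv (-(w j)) (c * (B *ᵥ w) j) (by rw [add_comm]; exact h0)).1
    simpa using this
  have h := LinearMap.finrank_range_of_inj hf
  rw [Module.finrank_fin_fun] at h
  exact h.symm.le.trans (Submodule.finrank_mono (LinearMap.range_comp_le_range L _))

/-- The rank of `1 ⊗ M`. -/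
theorem rank_one_kron (M : Matrix (Fin b) (Fin b) F) :
    ((1 : Matrix (Fin a) (Fin a) F) ⊗ₖ M).rank = a * M.rank := by
  let ι : (Fin a → LinearMap.range M.mulVecLin) →ₗ[F] (κ → F) :=
    { toFun := fun g p => (g p.1 : Fin b → F) p.2
      map_add' := fun g g' => rfl
      map_smul' := fun t g => rfl }
  have hι : Function.Injective ι := fun g g' h => funext fun i => Subtype.ext (funext fun j => congrFun h (i, j))
  have hap : ∀ (u : κ → F) p, (((1 : Matrix (Fin a) (Fin a) F) ⊗ₖ M) *ᵥ u) p = (M *ᵥ fun j => u (p.1, j)) p.2 :=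
    fun u p => by
      show ∑ x : κ, (1 : Matrix (Fin a) (Fin a) F) p.1 x.1 * M p.2 x.2 * u x = ∑ j, M p.2 j * u (p.1, j)
      rw [Fintype.sum_prod_type, Finset.sum_eq_single p.1 (fun i _ hi => by simp [Ne.symm hi]) (by simp)]
      simp
  have hr : LinearMap.range ((1 : Matrix (Fin a) (Fin a) F) ⊗ₖ M).mulVecLin = LinearMap.range ι := by
    refine le_antisymm ?_ ?_
    · rintro _ ⟨u, rfl⟩
      exact ⟨fun i => ⟨_, fun j => u (i, j), rfl⟩, funext fun p => (hap u p).symm⟩
    · rintro _ ⟨g, rfl⟩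
      choose w hw using fun i => (g i).2
      refine ⟨fun p => w p.1 p.2, funext fun p => (hap _ p).trans ?_⟩
      exact congrFun (hw p.1) p.2
  rw [Matrix.rank, hr, LinearMap.finrank_range_of_inj hι, Module.finrank_pi_fintype]
  simp [Matrix.rank]

theorem smul_one_kron (s c : F) (B : Matrix (Fin b) (Fin b) F) :
    c • ((s • (1 : Matrix (Fin a) (Fin a) F)) ⊗ₖ B) - 1 =
      (1 : Matrix (Fin a) (Fin a) F) ⊗ₖ ((c * s) • B - 1) := by
  ext p p'
  simp only [Matrix.sub_apply, Matrix.smul_apply, Matrix.kroneckerMap_apply, smul_eq_mul]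
  rcases eq_or_ne p p' with rfl | h
  · simp; ring
  · rw [Matrix.one_apply_ne h]
    rcases eq_or_ne p.1 p'.1 with h1 | h1
    · have h2 : p.2 ≠ p'.2 := fun h2 => h (Prod.ext h1 h2)
      rw [h1, Matrix.one_apply_eq, Matrix.one_apply_ne h2]
      ring
    · rw [Matrix.one_apply_ne h1]
      ring

section order

variable [Fintype F] {r : ℕ} [Fact r.Prime]

/-- Elements of order `r` move a multiple of the multiplicative order. -/
theorem dvd_rank {ι : Type} [Fintype ι] [DecidableEq ι] (hrF : (r : F) ≠ 0) {M : Matrix ι ι F} (hM : M ^ r = 1) :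
    orderOf (Fintype.card F : ZMod r) ∣ (M - 1).rank := by
  have hT : Matrix.toLinAlgEquiv' M ^ r = 1 := by rw [← map_pow, hM, map_one]
  have h := SemiDims.finrank_modEq hrF hT (U := (⊤ : Submodule F (ι → F))) le_top
  rw [top_inf_eq, finrank_top] at h
  have hsum := (Matrix.toLinAlgEquiv' M - 1).finrank_range_add_finrank_ker
  have hrank : (M - 1).rank = Module.finrank F ↥(LinearMap.range (Matrix.toLinAlgEquiv' M - 1)) := by
    rw [← map_one (Matrix.toLinAlgEquiv' (R := F) (n := ι)), ← map_sub]; rfl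
  rw [hrank]
  refine (Nat.modEq_iff_dvd' (by omega)).1 h.symm |>.trans (dvd_of_eq ?_)
  omega

/-- An element of order `r` in the special linear group moving exactly `i` dimensions. -/
theorem exists_block {ι : Type} [Fintype ι] [DecidableEq ι] {p : ℕ} [Fact p.Prime] [CharP F p] (hrp : r ≠ p) {i : ℕ}
    (hi : i = orderOf (Fintype.card F : ZMod r)) (hi2 : 2 ≤ i) (hle : i ≤ Fintype.card ι) :
    ∃ x : GL ι F, (x : Matrix ι ι F).det = 1 ∧ x ^ r = 1 ∧ ((x : Matrix ι ι F) - 1).rank = i := by
  have hr : r.Prime := Fact.out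
  have hrF : (r : F) ≠ 0 := fun h => hrp ((Nat.prime_dvd_prime_iff_eq Fact.out hr).1
    ((CharP.cast_eq_zero_iff F p r).1 h)).symm
  have hGL : r ∣ Nat.card (GL (Fin i) F) := by
    rw [Matrix.card_GL_field]
    refine dvd_trans ?_ (Finset.dvd_prod_of_mem _ (Finset.mem_univ (⟨0, by omega⟩ : Fin i)))
    rw [pow_zero, ← ZMod.natCast_eq_zero_iff, Nat.cast_sub (Nat.one_le_pow _ _ Fintype.card_pos), Nat.cast_pow,
      Nat.cast_one, hi, pow_orderOf_eq_one, sub_self]
  obtain ⟨A, hA⟩ := exists_prime_orderOf_dvd_card' r hGL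
  have hAr : (A : Matrix (Fin i) (Fin i) F) ^ r = 1 := by
    rw [← Units.val_pow_eq_pow_val, ← hA, pow_orderOf_eq_one, Units.val_one]
  have hA1 : (A : Matrix (Fin i) (Fin i) F) ≠ 1 := fun h => by
    rw [show A = 1 from Units.ext h, orderOf_one] at hA
    exact hr.one_lt.ne hA
  have hdet : (A : Matrix (Fin i) (Fin i) F).det = 1 := by
    obtain ⟨δ, hδ⟩ : ∃ δ, δ = (A : Matrix (Fin i) (Fin i) F).det := ⟨_, rfl⟩
    have h1 : δ ^ r = 1 := by rw [hδ, ← Matrix.det_pow, hAr, Matrix.det_one]
    have h0 : δ ≠ 0 := fun h => by rw [h, zero_pow hr.ne_zero] at h1; exact zero_ne_one h1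
    have h2 := pow_gcd_eq_one.2 ⟨h1, FiniteField.pow_card_sub_one_eq_one δ h0⟩
    rw [← hδ]
    rwa [((Nat.Prime.coprime_iff_not_dvd hr).2 fun hd => ?_).gcd_eq_one, pow_one] at h2
    rw [← ZMod.natCast_eq_zero_iff, Nat.cast_sub Fintype.card_pos, sub_eq_zero, Nat.cast_one] at hd
    rw [hd, orderOf_one] at hi
    omega
  obtain ⟨l, hl⟩ : ∃ l, Fintype.card ι = i + l := ⟨Fintype.card ι - i, by omega⟩
  let e : ι ≃ Fin i ⊕ Fin l := (Fintype.equivFinOfCardEq hl).trans finSumFinEquiv.symm
  obtain ⟨M, hM⟩ : ∃ M : Matrix ι ι F,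
      M = Matrix.reindexAlgEquiv F F e.symm (Matrix.fromBlocks (A : Matrix (Fin i) (Fin i) F) 0 0 1) := ⟨_, rfl⟩
  have hblk : ∀ k, (Matrix.fromBlocks (A : Matrix (Fin i) (Fin i) F) 0 0 (1 : Matrix (Fin l) (Fin l) F)) ^ k =
      Matrix.fromBlocks ((A : Matrix (Fin i) (Fin i) F) ^ k) 0 0 1 := by
    intro k
    induction k with
    | zero => simp [Matrix.fromBlocks_one]
    | succ k ih => rw [pow_succ, ih, Matrix.fromBlocks_multiply, pow_succ]; simp
  have hMr : M ^ r = 1 := by rw [hM, ← map_pow, hblk, hAr, Matrix.fromBlocks_one, map_one]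
  have hMd : M.det = 1 := by
    rw [hM, Matrix.reindexAlgEquiv_apply, Matrix.det_reindex_self, Matrix.det_fromBlocks_zero₂₁, hdet,
      Matrix.det_one, mul_one]
  refine ⟨Matrix.GeneralLinearGroup.mkOfDetNeZero M (by rw [hMd]; exact one_ne_zero), hMd, Units.ext hMr, ?_⟩
  show (M - 1).rank = i
  have hle' : (M - 1).rank ≤ i := by
    rw [hM, ← map_one (Matrix.reindexAlgEquiv F F e.symm), ← map_sub, Matrix.reindexAlgEquiv_apply, Matrix.rank_reindex,
      ← Matrix.fromBlocks_one, sub_eq_add_neg, Matrix.fromBlocks_neg, Matrix.fromBlocks_add,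
      show Matrix.fromBlocks ((A : Matrix (Fin i) (Fin i) F) + -1) (0 + -(0 : Matrix (Fin i) (Fin l) F))
          (0 + -(0 : Matrix (Fin l) (Fin i) F)) ((1 : Matrix (Fin l) (Fin l) F) + -1) =
        Matrix.fromRows ((A : Matrix (Fin i) (Fin i) F) + -1) (0 : Matrix (Fin l) (Fin i) F) *
          Matrix.fromCols (1 : Matrix (Fin i) (Fin i) F) (0 : Matrix (Fin i) (Fin l) F) by
        rw [Matrix.fromRows_mul_fromCols]; simp]
    exact (Matrix.rank_mul_le_right _ _).trans ((Matrix.rank_le_card_height _).trans (by simp))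
  obtain ⟨k, hk⟩ := dvd_rank hrF hMr
  have h0 : (M - 1).rank ≠ 0 := fun h => by
    refine hA1 ?_
    have hM1 : M - 1 = 0 := Matrix.mulVec_injective.eq_iff.1 (funext fun v => by
      have h' := Submodule.finrank_eq_zero.1 h
      have : (M - 1).mulVecLin v ∈ LinearMap.range (M - 1).mulVecLin := ⟨v, rfl⟩
      rw [h', Submodule.mem_bot, Matrix.mulVecLin_apply] at this
      simpa using this)
    rw [sub_eq_zero, hM, ← map_one (Matrix.reindexAlgEquiv F F e.symm),
      (Matrix.reindexAlgEquiv F F e.symm).injective.eq_iff, ← Matrix.fromBlocks_one, Matrix.fromBlocks_inj] at hM1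
    exact hM1.1
  rw [← hi] at hk
  rcases Nat.eq_zero_or_pos k with rfl | hk0
  · omega
  · exact le_antisymm hle' (hk ▸ Nat.le_mul_of_pos_right i hk0)

end order

/-- A linear map sending the standard basis to a given one. -/
theorem exists_gl_of_basis {ι : Type} [Fintype ι] [DecidableEq ι] (β : Module.Basis ι F (ι → F)) :
    ∃ h : GL ι F, ∀ i, (h : Matrix ι ι F) *ᵥ Pi.single i 1 = β i := by
  obtain ⟨h, hh⟩ := (glLin (ι := ι) (F := F)).surjective ((Pi.basisFun F ι).equiv β (Equiv.refl ι))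
  refine ⟨h, fun i => ?_⟩
  rw [← glLin_apply, hh, ← Pi.basisFun_apply, Module.Basis.equiv_apply, Equiv.refl_apply]

/-- Correct the determinant of a conjugating element. -/
theorem exists_sl_conj {ι : Type} [Fintype ι] [DecidableEq ι] {x y : GL ι F} {h : GL ι F}
    (hxy : (x : Matrix ι ι F) * h = h * (y : Matrix ι ι F))
    (hk : ∀ c : F, c ≠ 0 → ∃ k : Matrix ι ι F, k.det = c ∧ k * (y : Matrix ι ι F) = (y : Matrix ι ι F) * k) :
    ∃ g : GL ι F, (g : Matrix ι ι F).det = 1 ∧ g⁻¹ * x * g = y := by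
  have hd : (h : Matrix ι ι F).det ≠ 0 := by
    rw [← Matrix.GeneralLinearGroup.val_det_apply]; exact Units.ne_zero _
  obtain ⟨k, hkd, hky⟩ := hk _ (inv_ne_zero hd)
  refine ⟨h * Matrix.GeneralLinearGroup.mkOfDetNeZero k (by rw [hkd]; exact inv_ne_zero hd), ?_, ?_⟩
  · rw [Units.val_mul, Matrix.det_mul]
    show (h : Matrix ι ι F).det * k.det = 1
    rw [hkd, mul_inv_cancel₀ hd]
  · rw [mul_assoc, inv_mul_eq_iff_eq_mul]
    refine Units.ext ?_
    show (x : Matrix ι ι F) * ((h : Matrix ι ι F) * k) = (h : Matrix ι ι F) * k * (y : Matrix ι ι F)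
    rw [← mul_assoc, hxy, mul_assoc, mul_assoc, hky]

/-- `T ^ 2 = z`, `z` a non-square: a basis `v j, T v j`. -/
theorem exists_complex_basis {V : Type*} [AddCommGroup V] [Module F V] [FiniteDimensional F V] {z : F}
    (hz : ∀ c : F, c * c ≠ z) {T : Module.End F V} (hT : ∀ v, T (T v) = z • v) {b : ℕ}
    (hb : Module.finrank F V = 2 * b) :
    ∃ β : Module.Basis (Fin 2 × Fin b) F V, ∀ j, T (β (0, j)) = β (1, j) ∧ T (β (1, j)) = z • β (0, j) := by
  have key : ∀ k ≤ b, ∃ v : Fin k → V, LinearIndependent F fun p : Fin 2 × Fin k => if p.1 = 0 then v p.2 else T (v p.2) := by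
    intro k
    induction k with
    | zero => exact fun _ => ⟨Fin.elim0, linearIndependent_empty_type⟩
    | succ k ih =>
      intro hk
      obtain ⟨v, hv⟩ := ih (by omega)
      obtain ⟨W, hW⟩ : ∃ W, W = Submodule.span F (Set.range fun p : Fin 2 × Fin k =>
          if p.1 = 0 then v p.2 else T (v p.2)) := ⟨_, rfl⟩
      have hWd : Module.finrank F W = 2 * k := by
        rw [hW, finrank_span_eq_card hv, Fintype.card_prod, Fintype.card_fin, Fintype.card_fin]
      have hTW : ∀ w ∈ W, T w ∈ W := by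
        intro w hw
        have hle : W ≤ W.comap T := by
          rw [hW, Submodule.span_le]
          rintro _ ⟨⟨i, j⟩, rfl⟩
          by_cases hi : i = 0
          · exact Submodule.subset_span ⟨(1, j), by simp [hi]⟩
          · simp only [hi, if_false, SetLike.mem_coe, Submodule.mem_comap, hT]
            exact Submodule.smul_mem _ _ (Submodule.subset_span ⟨(0, j), by simp⟩)
        exact hle hw
      obtain ⟨u, hu⟩ : ∃ u, u ∉ W := by
        by_contra h
        push Not at h
        have htop : W = ⊤ := eq_top_iff.2 fun x _ => h x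
        rw [htop, finrank_top] at hWd
        omega
      refine ⟨Fin.cons u v, Fintype.linearIndependent_iff.2 fun g hg => ?_⟩
      have hsum : g (0, 0) • u + g (1, 0) • T u +
          ∑ p : Fin 2 × Fin k, g (p.1, p.2.succ) • (if p.1 = 0 then v p.2 else T (v p.2)) = 0 := by
        rw [← hg, Fintype.sum_prod_type, Fintype.sum_prod_type, Fin.sum_univ_two, Fin.sum_univ_two,
          Fin.sum_univ_succ, Fin.sum_univ_succ]
        simp
        abel
      have hmem : g (0, 0) • u + g (1, 0) • T u ∈ W := by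
        rw [eq_neg_of_add_eq_zero_left hsum]
        exact W.neg_mem (W.sum_mem fun p _ => W.smul_mem _ (hW ▸ Submodule.subset_span ⟨p, rfl⟩))
      have h10 : g (1, 0) = 0 := by
        by_contra hne
        obtain ⟨s, hs⟩ : ∃ s, s = g (0, 0) / g (1, 0) := ⟨_, rfl⟩
        have h1 : s • u + T u ∈ W := by
          have := W.smul_mem (g (1, 0))⁻¹ hmem
          rwa [smul_add, smul_smul, smul_smul, inv_mul_cancel₀ hne, one_smul, ← div_eq_inv_mul, ← hs] at this
        have h2 := hTW _ h1
        rw [map_add, map_smul, hT] at h2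
        have h3 : (z - s * s) • u ∈ W := by
          have := W.sub_mem h2 (W.smul_mem s h1)
          convert this using 1
          module
        exact hu ((Submodule.smul_mem_iff _ (sub_ne_zero.2 fun h => hz s h.symm)).1 h3)
      have h00 : g (0, 0) = 0 := by
        by_contra hne
        rw [h10, zero_smul, add_zero] at hmem
        exact hu ((Submodule.smul_mem_iff _ hne).1 hmem)
      rw [h00, h10, zero_smul, zero_smul, add_zero, zero_add] at hsum
      have hrest := Fintype.linearIndependent_iff.1 hv (fun p => g (p.1, p.2.succ)) hsum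
      rintro ⟨i, j⟩
      induction j using Fin.cases with
      | zero => rcases (by omega : i = 0 ∨ i = 1) with rfl | rfl <;> assumption
      | succ j => exact hrest (i, j)
  obtain ⟨v, hv⟩ := key b le_rfl
  rcases Nat.eq_zero_or_pos b with rfl | hb0
  · refine ⟨Module.Basis.mk hv ?_, fun j => j.elim0⟩
    haveI := Module.finrank_zero_iff.1 hb
    exact fun x _ => by rw [Subsingleton.elim x 0]; exact Submodule.zero_mem _
  haveI : Nonempty (Fin 2 × Fin b) := ⟨(0, ⟨0, hb0⟩)⟩
  refine ⟨basisOfLinearIndependentOfCardEqFinrank hv (by simp [hb]), fun j => ?_⟩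
  rw [coe_basisOfLinearIndependentOfCardEqFinrank]
  simp [hT]

end CfsgLib.MaxSub.KronFix
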