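import Cfsg.Agent.Lib.MaxSub.KronFix
import Cfsg.Agent.Lib.MaxSub.IsoPieces
import Cfsg.Agent.Lib.MaxSub.IsoOrth
import Mathlib.LinearAlgebra.QuadraticForm.Basic
import Mathlib.LinearAlgebra.Matrix.SesquilinearForm

/-!
Kronecker products with an orthogonal factor: rank bounds and orthogonal involutions.
-/

set_option autoImplicit false

namespace CfsgLib.MaxSub.KronFix

open Matrix CfsgLib.Classical CfsgLib.MaxSub CfsgLib.MaxSub.IsoSemi
open scoped Kronecker

universe u

variable {F : Type u} [Field F] {a b : ℕ}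

local notation "κ" => Fin a × Fin b

theorem rank_conj {ι : Type} [Fintype ι] [DecidableEq ι] (x g : GL ι F) (c : F) :
    (c • (x : Matrix ι ι F) - 1).rank = (c • ((g⁻¹ * x * g : GL ι F) : Matrix ι ι F) - 1).rank := by
  have h : c • ((g⁻¹ * x * g : GL ι F) : Matrix ι ι F) - 1 =
      ((g⁻¹ : GL ι F) : Matrix ι ι F) * (c • (x : Matrix ι ι F) - 1) * (g : Matrix ι ι F) := by
    rw [Matrix.mul_sub, Matrix.sub_mul, Matrix.mul_smul, Matrix.smul_mul, ← Units.val_mul, ← Units.val_mul,
      Matrix.mul_one, ← Units.val_mul, inv_mul_cancel, Units.val_one]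
  rw [h, Matrix.rank_mul_eq_left_of_isUnit_det _ _ (Matrix.isUnits_det_units g),
    Matrix.rank_mul_eq_right_of_isUnit_det _ _ (Matrix.isUnits_det_units g⁻¹)]

/-- The two factors may be exchanged. -/
theorem rank_swap (A : Matrix (Fin a) (Fin a) F) (B : Matrix (Fin b) (Fin b) F) (c : F) :
    (c • (A ⊗ₖ B) - 1).rank = (c • (B ⊗ₖ A) - 1).rank := by
  rw [← Matrix.rank_reindex (Equiv.prodComm (Fin a) (Fin b)) (Equiv.prodComm (Fin a) (Fin b))]
  congr 1
  ext p q
  simp only [Matrix.reindex_apply, Matrix.submatrix_apply, Matrix.sub_apply, Matrix.smul_apply,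
    Matrix.kroneckerMap_apply, Matrix.one_apply, Equiv.prodComm_symm, Equiv.prodComm_apply, Prod.swap_inj]
  rw [mul_comm]
  rfl

theorem kron_pow (A : Matrix (Fin a) (Fin a) F) (B : Matrix (Fin b) (Fin b) F) :
    ∀ k : ℕ, (A ⊗ₖ B) ^ k = (A ^ k) ⊗ₖ (B ^ k) := by
  intro k
  induction k with
  | zero => simp
  | succ k ih => rw [pow_succ, pow_succ, pow_succ, ih, ← Matrix.mul_kronecker_mul]

/-- Two vectors with their images. -/
theorem exists_pair {A : Matrix (Fin a) (Fin a) F} (ha : 4 ≤ a) (hA : ∀ (s : F) v, A *ᵥ v = s • v → v = 0) :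
    ∃ v : Fin 2 → (Fin a → F), ∀ x y : Fin 2 → F,
      (∑ k, x k • (A *ᵥ v k)) + ∑ k, y k • v k = 0 → x = 0 ∧ y = 0 := by
  obtain ⟨u, hu⟩ : ∃ u : Fin a → F, u ≠ 0 := ⟨Pi.single ⟨0, by omega⟩ 1, by simp⟩
  obtain ⟨U, hU⟩ : ∃ U, U = Submodule.span F {u, A *ᵥ u} := ⟨_, rfl⟩
  have hUd : Module.finrank F U ≤ 2 := by
    classical
    rw [hU, show ({u, A *ᵥ u} : Set (Fin a → F)) = (({u, A *ᵥ u} : Finset (Fin a → F)) : Set (Fin a → F)) by simp]
    exact (finrank_span_finset_le_card _).trans Finset.card_le_two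
  obtain ⟨u', hu', hAu'⟩ : ∃ u', u' ∉ U ∧ ∀ t : F, A *ᵥ u' - t • u' ∉ U := by
    by_contra hno
    push Not at hno
    choose! t ht using hno
    have hq : 2 ≤ Module.finrank F ((Fin a → F) ⧸ U) := by
      have := U.finrank_quotient_add_finrank
      rw [Module.finrank_fin_fun] at this
      omega
    by_cases hinv : ∀ w ∈ U, A *ᵥ w ∈ U
    · let Ā : Module.End F ((Fin a → F) ⧸ U) := U.mapQ U A.mulVecLin fun w hw => hinv w hw
      obtain ⟨s, hs⟩ := LinearMap.exists_eq_smul_id_of_forall_notLinearIndependent (f := Ā) fun w => by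
        obtain ⟨w, rfl⟩ := U.mkQ_surjective w
        by_cases hw : w ∈ U
        · rw [show U.mkQ w = 0 from (Submodule.Quotient.mk_eq_zero U).2 hw]
          intro h; exact h.ne_zero 0 (by simp)
        · rw [LinearIndependent.pair_iff]
          push Not
          refine ⟨-(t w), 1, ?_, fun _ => one_ne_zero⟩
          show (-(t w)) • U.mkQ w + (1 : F) • U.mkQ (A *ᵥ w) = 0
          rw [one_smul, ← map_smul, ← map_add, Submodule.mkQ_apply, Submodule.Quotient.mk_eq_zero,
            neg_smul, add_comm, ← sub_eq_add_neg]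
          exact ht w hw
      have hle : LinearMap.range (A.mulVecLin - s • 1) ≤ U := by
        rintro _ ⟨w, rfl⟩
        rw [← Submodule.Quotient.mk_eq_zero U, LinearMap.sub_apply, Submodule.Quotient.mk_sub]
        have h : Ā (U.mkQ w) = s • U.mkQ w := by rw [hs]; rfl
        exact sub_eq_zero.2 h
      have h1 := (A.mulVecLin - s • 1).finrank_range_add_finrank_ker
      have h2 := Submodule.finrank_mono hle
      rw [Module.finrank_fin_fun] at h1
      obtain ⟨w, hw, hw0⟩ := Submodule.exists_mem_ne_zero_of_ne_bot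
        (fun hb => by rw [hb, finrank_bot] at h1; omega : LinearMap.ker (A.mulVecLin - s • 1) ≠ ⊥)
      exact hw0 (hA s w (sub_eq_zero.1 hw))
    · push Not at hinv
      obtain ⟨w, hw, hAw⟩ := hinv
      obtain ⟨W, hW⟩ : ∃ W, W = U ⊔ Submodule.span F {A *ᵥ w} := ⟨_, rfl⟩
      obtain ⟨z, hz⟩ : ∃ z, z ∉ W := by
        by_contra h
        push Not at h
        have h1 : Module.finrank F W ≤ 3 := by
          have := Submodule.finrank_add_le_finrank_add_finrank U (Submodule.span F {A *ᵥ w})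
          have h2 : Module.finrank F ↥(Submodule.span F {A *ᵥ w}) ≤ 1 :=
            (finrank_span_le_card ({A *ᵥ w} : Set (Fin a → F))).trans (by simp)
          rw [hW]; omega
        rw [show W = ⊤ from eq_top_iff.2 fun x _ => h x, finrank_top, Module.finrank_fin_fun] at h1
        omega
      have hzU : z ∉ U := fun h => hz (hW ▸ Submodule.mem_sup_left h)
      have hzwU : z + w ∉ U := fun h => hzU (by simpa using U.sub_mem h hw)
      have h1 := ht z hzU
      have h2 := ht _ hzwU
      obtain ⟨T, hT⟩ : ∃ T, T = t (z + w) := ⟨_, rfl⟩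
      rw [← hT] at h2
      have h3 : (A *ᵥ w) - (T - t z) • z ∈ U := by
        have := U.add_mem (U.sub_mem h2 h1) (U.smul_mem T hw)
        convert this using 1
        rw [Matrix.mulVec_add]; module
      by_cases hT0 : T - t z = 0
      · rw [hT0, zero_smul, sub_zero] at h3; exact hAw h3
      · refine hz ?_
        rw [hW]
        refine (Submodule.smul_mem_iff _ hT0).1 ?_
        have := Submodule.add_mem_sup (U.neg_mem h3) (Submodule.mem_span_singleton_self (A *ᵥ w))
        simpa using this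
  refine ⟨![u, u'], fun x y h => ?_⟩
  simp only [Fin.sum_univ_two, Matrix.cons_val_zero, Matrix.cons_val_one] at h
  have hcomb : x 0 • (A *ᵥ u) + y 0 • u ∈ U :=
    hU ▸ add_mem (Submodule.smul_mem _ _ (Submodule.subset_span (by simp)))
      (Submodule.smul_mem _ _ (Submodule.subset_span (by simp)))
  have h' : x 1 • (A *ᵥ u') + y 1 • u' ∈ U := by
    rw [show x 1 • (A *ᵥ u') + y 1 • u' = -(x 0 • (A *ᵥ u) + y 0 • u) by linear_combination (norm := module) h]
    exact U.neg_mem hcomb
  have hx1 : x 1 = 0 := by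
    by_contra hne
    refine hAu' (-(y 1 / x 1)) ((Submodule.smul_mem_iff _ hne).1 ?_)
    rwa [smul_sub, smul_smul, mul_neg, mul_div_cancel₀ _ hne, neg_smul, sub_neg_eq_add]
  have hy1 : y 1 = 0 := by
    by_contra hne
    rw [hx1, zero_smul, zero_add] at h'
    exact hu' ((Submodule.smul_mem_iff _ hne).1 h')
  rw [hx1, hy1, zero_smul, zero_smul, add_zero, add_zero] at h
  have hx0 : x 0 = 0 := by
    by_contra hne
    refine hu (hA (-(y 0 / x 0)) u ?_)
    have := congrArg ((x 0)⁻¹ • ·) h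
    simp only [smul_add, smul_smul, inv_mul_cancel₀ hne, one_smul, smul_zero] at this
    linear_combination (norm := module) this
  rw [hx0, zero_smul, zero_add, smul_eq_zero] at h
  exact ⟨funext fun k => by fin_cases k <;> assumption, funext fun k => by
    fin_cases k
    · exact h.resolve_right hu
    · exact hy1⟩

/-- A first factor without eigenvectors forces rank at least `2 b`. -/
theorem rank_ge_two {A : Matrix (Fin a) (Fin a) F} (B : Matrix (Fin b) (Fin b) F) (ha : 4 ≤ a)
    (hA : ∀ (s : F) v, A *ᵥ v = s • v → v = 0) (c : F) : 2 * b ≤ (c • (A ⊗ₖ B) - 1).rank := by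
  obtain ⟨v, hv⟩ := exists_pair ha hA
  let L : (Fin 2 → Fin b → F) →ₗ[F] (κ → F) :=
    { toFun := fun w p => ∑ k, v k p.1 * w k p.2
      map_add' := fun w w' => funext fun p => by simp [mul_add, Finset.sum_add_distrib]
      map_smul' := fun t w => funext fun p => by simp [Finset.mul_sum, mul_left_comm, mul_add] }
  have hK : ∀ w p, ((A ⊗ₖ B) *ᵥ L w) p = ∑ k, (A *ᵥ v k) p.1 * (B *ᵥ w k) p.2 := fun w p => by
    show ∑ x : κ, A p.1 x.1 * B p.2 x.2 * (∑ k, v k x.1 * w k x.2) =
      ∑ k, (∑ i, A p.1 i * v k i) * ∑ j, B p.2 j * w k j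
    simp only [Finset.sum_mul_sum, Fintype.sum_prod_type, Fin.sum_univ_two, mul_add, Finset.sum_add_distrib]
    congr 1 <;> exact Finset.sum_congr rfl fun i _ => Finset.sum_congr rfl fun j _ => by ring
  let f : (Fin 2 → Fin b → F) →ₗ[F] (κ → F) := (c • (A ⊗ₖ B) - 1).mulVecLin.comp L
  have hf : Function.Injective f := (injective_iff_map_eq_zero f).2 fun w hw => by
    refine funext fun k => funext fun j => ?_
    have h := (hv (fun k => c * (B *ᵥ w k) j) (fun k => -(w k j)) (funext fun i => by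
      have h : ((c • (A ⊗ₖ B) - 1) *ᵥ L w) (i, j) = 0 := congrFun hw (i, j)
      rw [Matrix.sub_mulVec, Matrix.smul_mulVec, Matrix.one_mulVec, Pi.sub_apply, Pi.smul_apply, hK] at h
      change c * _ - ∑ k, v k i * w k j = 0 at h
      simp only [Fin.sum_univ_two] at h ⊢
      simp only [Pi.add_apply, Pi.smul_apply, smul_eq_mul, Pi.zero_apply]
      linear_combination h)).2
    simpa using congrFun h k
  have h := LinearMap.finrank_range_of_inj hf
  rw [Module.finrank_pi_fintype] at h
  simp only [Module.finrank_fin_fun, Finset.sum_const, Finset.card_univ, Fintype.card_fin, smul_eq_mul] at h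
  exact h.symm.le.trans (Submodule.finrank_mono (LinearMap.range_comp_le_range L _))

/-- An orthogonal element of prime order moves at least `c` dimensions. -/
theorem le_rank_orth [Fintype F] {p : ℕ} [Fact p.Prime] [CharP F p] {r : ℕ} [hrF : Fact r.Prime] (hr2 : r ≠ 2)
    (hrp : r ≠ p) {i c : ℕ} (hi : i = orderOf (Fintype.card F : ZMod r)) (hc : c = if Even i then i else 2 * i)
    {G M : Matrix (Fin b) (Fin b) F} (hG : IsUnit G) (hGt : Gᵀ = G) (hM : Mᵀ * G * M = G) (hMr : M ^ r = 1)
    (hM1 : M ≠ 1) : c ≤ (M - 1).rank := by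
  classical
  have hrF' : (r : F) ≠ 0 := fun h => hrp ((Nat.prime_dvd_prime_iff_eq Fact.out hrF.out).1
    ((CharP.cast_eq_zero_iff F p r).1 h)).symm
  let B : (Fin b → F) →ₗ[F] (Fin b → F) →ₗ[F] F := Matrix.toLinearMap₂' F G
  have hB : ∀ u v, B u v = u ⬝ᵥ (G *ᵥ v) := fun u v => Matrix.toLinearMap₂'_apply' G u v
  have hsym : ∀ u v, B v u = B u v := fun u v => by
    rw [hB, hB, dotProduct_comm, Matrix.dotProduct_mulVec, ← hGt, Matrix.vecMul_transpose, hGt, dotProduct_comm]
  obtain ⟨T, hT⟩ : ∃ T, T = Matrix.toLinAlgEquiv' M := ⟨_, rfl⟩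
  have hTv : ∀ v, T v = M *ᵥ v := fun v => by rw [hT, Matrix.toLinAlgEquiv'_apply]
  have hC : Ctx B T r :=
    { sep := fun x hx => by
        have h0 : G *ᵥ x = 0 := funext fun k => by
          have := hx (Pi.single k 1)
          rw [← hsym, hB, single_one_dotProduct] at this
          simpa using this
        exact Matrix.mulVec_injective_iff_isUnit.2 hG (h0.trans (Matrix.mulVec_zero G).symm)
      refl := fun x y h => by rw [hsym, h]
      invol := fun _ => rfl
      flip := ⟨1, by simp, fun u v => by rw [hsym, one_mul]; rfl⟩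
      iso := fun u v => by
        rw [hTv, hTv, hB, hB, Matrix.mulVec_mulVec, ← Matrix.vecMul_transpose, ← Matrix.dotProduct_mulVec,
          Matrix.mulVec_mulVec, ← mul_assoc, hM]
      pow := by rw [hT, ← map_pow, hMr, map_one]
      prime := hrF.out
      rne := hrF'
      rne2 := hr2 }
  have hR : Module.finrank F ↥(LinearMap.range (T - 1)) = (M - 1).rank := by
    rw [hT, ← map_one (Matrix.toLinAlgEquiv' (R := F) (n := Fin b)), ← map_sub]; rfl
  have hpos : 0 < (M - 1).rank := Nat.pos_of_ne_zero fun h => hM1 (Matrix.ext_of_mulVec_single fun k => by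
    rw [← hR, Submodule.finrank_eq_zero] at h
    have : (T - 1) (Pi.single k 1) ∈ LinearMap.range (T - 1) := ⟨_, rfl⟩
    rw [h, Submodule.mem_bot, LinearMap.sub_apply, Module.End.one_apply, sub_eq_zero, hTv] at this
    rw [this, Matrix.one_mulVec])
  obtain ⟨k, hk⟩ := IsoSemi.dvd_finrank hC (inv_mov T) le_rfl
  rw [hR, ← hi] at hk
  have hk0 : 0 < k := Nat.pos_of_ne_zero fun h => by rw [h, mul_zero] at hk; omega
  by_cases hev : Even i
  · rw [hc, if_pos hev, hk]; exact Nat.le_mul_of_pos_right _ hk0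
  rw [hc, if_neg hev]
  have hipos : 0 < i := (Nat.not_even_iff_odd.1 hev).pos
  obtain ⟨X, hXR, hXi, hXd⟩ := exists_sub hC (inv_mov T) le_rfl 1 (by
    rw [hR, hk, ← hi]; exact Nat.mul_le_mul_left i hk0)
  rw [mul_one] at hXd
  have hti := ti_of_not_sd hC (p := p) (c := 0) (fun x => by simp)
    (fun h => hev ((IsoOrth.sd_iff hi hr2 hipos).1 h)) hXi hXR hXd
  have := two_mul_ti_le hC.toGeom (nd_mov hC) hXR hti
  rw [hXd, ← hi, hR] at this
  omega

/-- Orthogonal involutions of every type. -/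
theorem exists_invol (h2 : (2 : F) ≠ 0) {G : Matrix (Fin b) (Fin b) F} (hGt : Gᵀ = G) {t : ℕ} (ht : t ≤ b) :
    ∃ T : GL (Fin b) F, (T : Matrix (Fin b) (Fin b) F)ᵀ * G * T = G ∧
      (T : Matrix (Fin b) (Fin b) F) * T = 1 ∧ ((T : Matrix (Fin b) (Fin b) F) - 1).rank = t := by
  classical
  letI : Invertible (2 : F) := invertibleOfNonzero h2
  let B : LinearMap.BilinForm F (Fin b → F) := Matrix.toBilin' G
  have hB : ∀ u v, B u v = u ⬝ᵥ (G *ᵥ v) := fun u v => Matrix.toBilin'_apply' G u v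
  obtain ⟨v, hv⟩ := LinearMap.BilinForm.exists_orthogonal_basis (B := B) ⟨fun u w => by
    show B u w = B w u
    rw [hB, hB, Matrix.dotProduct_mulVec, ← Matrix.mulVec_transpose, hGt, dotProduct_comm]⟩
  let β := v.reindex (finCongr (Module.finrank_fin_fun F (n := b)))
  obtain ⟨h, hh⟩ := exists_gl_of_basis β
  obtain ⟨ε, hε⟩ : ∃ ε : Fin b → F, ε = fun k : Fin b => if (k : ℕ) < t then -1 else 1 := ⟨_, rfl⟩
  have hεε : ∀ k, ε k * ε k = 1 := fun k => by rw [hε]; dsimp only; split_ifs <;> ring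
  obtain ⟨E, hE⟩ : ∃ E : Matrix (Fin b) (Fin b) F, E = Matrix.diagonal ε := ⟨_, rfl⟩
  have hEE : E * E = 1 := by
    rw [hE, Matrix.diagonal_mul_diagonal, ← Matrix.diagonal_one]; congr 1; exact funext hεε
  obtain ⟨D, hD⟩ : ∃ D : Matrix (Fin b) (Fin b) F, D = (h : Matrix (Fin b) (Fin b) F)ᵀ * G * h := ⟨_, rfl⟩
  have hED : Eᵀ * D * E = D := by
    ext k l
    rw [hE, Matrix.diagonal_transpose, Matrix.mul_diagonal, Matrix.diagonal_mul]
    rcases eq_or_ne k l with rfl | hkl
    · rw [mul_right_comm, hεε, one_mul]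
    · have h0 : D k l = 0 := by
        have horth : B (β k) (β l) = 0 := by
          simp only [β, Module.Basis.reindex_apply]
          exact hv ((finCongr (Module.finrank_fin_fun F (n := b))).symm.injective.ne hkl)
        rw [hD, Matrix.mul_assoc, Matrix.mul_apply_eq_vecMul]
        rw [hB, ← hh, ← hh, Matrix.mulVec_mulVec, Matrix.mulVec_single_one, Matrix.mulVec_single_one] at horth
        simpa [Matrix.vecMul, dotProduct, Matrix.col, Matrix.transpose_apply, Matrix.row] using horth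
      rw [h0, mul_zero, zero_mul]
  let M : GL (Fin b) F := h * ⟨E, E, hEE, hEE⟩ * h⁻¹
  refine ⟨M, ?_, ?_, ?_⟩
  · have hi : ((h⁻¹ : GL (Fin b) F) : Matrix (Fin b) (Fin b) F)ᵀ * D * ((h⁻¹ : GL (Fin b) F) : Matrix (Fin b) (Fin b) F) =
        G := by
      rw [hD, ← Matrix.mul_assoc, ← Matrix.mul_assoc, ← Matrix.transpose_mul, ← Units.val_mul, mul_inv_cancel,
        Units.val_one, Matrix.transpose_one, Matrix.one_mul, Matrix.mul_assoc, ← Units.val_mul, mul_inv_cancel,
        Units.val_one, Matrix.mul_one]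
    conv_rhs => rw [← hi, ← hED, hD]
    simp only [M, Units.val_mul, Matrix.transpose_mul]
    noncomm_ring
  · show ((M * M : GL (Fin b) F) : Matrix (Fin b) (Fin b) F) = 1
    have : M * M = 1 := by
      simp only [M]
      have hEu : (⟨E, E, hEE, hEE⟩ : GL (Fin b) F) * ⟨E, E, hEE, hEE⟩ = 1 := Units.ext hEE
      calc _ = h * ((⟨E, E, hEE, hEE⟩ : GL (Fin b) F) * ⟨E, E, hEE, hEE⟩) * h⁻¹ := by group
        _ = 1 := by rw [hEu, mul_one, mul_inv_cancel]
    rw [this, Units.val_one]
  · have hconj := rank_conj M h (1 : F)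
    have he : h⁻¹ * M * h = ⟨E, E, hEE, hEE⟩ := by simp only [M]; group
    rw [he, one_smul, one_smul] at hconj
    rw [hconj, show ((⟨E, E, hEE, hEE⟩ : GL (Fin b) F) : Matrix (Fin b) (Fin b) F) = E from rfl, hE,
      ← Matrix.diagonal_one, Matrix.diagonal_sub, Matrix.rank_diagonal]
    have hiff : ∀ k : Fin b, (ε k - 1 ≠ 0) ↔ (k : ℕ) < t := fun k => by
      rw [hε]; dsimp only
      split_ifs with hk
      · exact iff_of_true (fun h => h2 (by linear_combination -h)) hk
      · exact iff_of_false (fun h => h (sub_self 1)) hk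
    rw [Fintype.card_congr (Equiv.subtypeEquivRight hiff)]
    simpa using Fintype.card_congr (⟨fun k => ⟨k.1, k.2⟩, fun k => ⟨⟨k.1, by omega⟩, k.2⟩, fun k => rfl, fun k => rfl⟩ :
      {k : Fin b // (k : ℕ) < t} ≃ Fin t)

end CfsgLib.MaxSub.KronFix
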