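import Cfsg.Agent.Lib.MaxSub.MonoLine
import Mathlib.GroupTheory.SpecificGroups.Alternating.Simple

/-!
Overgroups of the monomial group of determinant one: if no element outside fixes a coordinate
line, columns of the other elements have at most one zero, which is impossible.
-/

set_option autoImplicit false
set_option linter.unusedSectionVars false

namespace CfsgLib.MaxSub.DecompMax

open Matrix CfsgLib.MaxSub
open scoped MatrixGroups

variable {ι : Type} [Fintype ι] [DecidableEq ι] {F : Type*} [Field F]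

/-- A monomial element. -/
def Mono (g : GL ι F) : Prop :=
  ∃ (σ : Equiv.Perm ι) (d : ι → F) (hd : ∀ i, d i ≠ 0), g = monGL σ d hd

theorem mono_mul {g h : GL ι F} (hg : Mono g) (hh : Mono h) : Mono (g * h) := by
  obtain ⟨σ, d, hd, rfl⟩ := hg
  obtain ⟨τ, e, he, rfl⟩ := hh
  exact ⟨σ * τ, fun i => d (τ i) * e i, fun i => mul_ne_zero (hd _) (he _),
    Units.ext (monMat_mul σ τ d e)⟩

theorem mono_inv {g : GL ι F} (hg : Mono g) : Mono g⁻¹ := by
  obtain ⟨σ, d, hd, rfl⟩ := hg
  exact ⟨σ⁻¹, fun i => (d (σ⁻¹ i))⁻¹, fun i => inv_ne_zero (hd _), Units.ext rfl⟩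

theorem Mono.isBlockMono {g : GL ι F} (hg : Mono g) : IsBlockMono id (g : Matrix ι ι F) := by
  obtain ⟨σ, d, hd, rfl⟩ := hg
  exact isBlockMono_monMat id σ σ (fun _ => rfl) d

theorem col_injective (g : GL ι F) {a b : ι} {c c' : F} (hab : a ≠ b) (hc : c ≠ 0)
    (h : ∀ l, c * (g : Matrix ι ι F) l a = c' * (g : Matrix ι ι F) l b) : False := by
  have h' : (g : Matrix ι ι F) *ᵥ Pi.single a c = (g : Matrix ι ι F) *ᵥ Pi.single b c' := by
    funext l
    simp [mul_comm, h l]
  have := congrArg (((g⁻¹ : GL ι F) : Matrix ι ι F) *ᵥ ·) h'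
  simp only [inv_mulVec_mulVec] at this
  have := congrFun this a
  simp [hab] at this
  exact hc this

theorem mono_of_isBlockMono {g : GL ι F} (h : IsBlockMono id (g : Matrix ι ι F)) : Mono g := by
  choose b hb using h
  have hne : ∀ a, (g : Matrix ι ι F) (b a) a ≠ 0 := fun a e => by
    have hz : ∀ j, (g : Matrix ι ι F) j a = 0 := fun j => by
      by_cases hj : j = b a
      · rw [hj, e]
      · exact hb a a j rfl hj
    have h' : (g : Matrix ι ι F) *ᵥ Pi.single a (1 : F) = 0 := by
      funext l; simp [hz l]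
    have := congrArg (((g⁻¹ : GL ι F) : Matrix ι ι F) *ᵥ ·) h'
    simp only [inv_mulVec_mulVec, mulVec_zero] at this
    exact one_ne_zero (α := F) (by simpa using congrFun this a)
  have hinj : Function.Injective b := fun a a' e => by
    by_contra hne'
    refine col_injective g (c := (g : Matrix ι ι F) (b a) a') (c' := (g : Matrix ι ι F) (b a) a) hne'
      (by rw [e]; exact hne a') fun l => ?_
    by_cases hl : l = b a
    · subst hl; ring
    · rw [hb a a l rfl hl, hb a' a' l rfl (e ▸ hl), mul_zero, mul_zero]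
  refine ⟨Equiv.ofBijective b (Finite.injective_iff_bijective.1 hinj),
    fun i => (g : Matrix ι ι F) (b i) i, hne, Units.ext ?_⟩
  ext j i
  rw [coe_monGL]
  by_cases hj : j = b i
  · simp [monMat, hj]
  · simp [monMat, hj, hb i i j rfl hj]

theorem monGL_perm_eq {σ τ : Equiv.Perm ι} {d e : ι → F} {hd : ∀ i, d i ≠ 0} {he : ∀ i, e i ≠ 0}
    (h : monGL σ d hd = monGL τ e he) : σ = τ := by
  refine Equiv.ext fun i => ?_
  by_contra hne
  have h1 := congrFun (congrFun (congrArg (Units.val : GL ι F → Matrix ι ι F) h) (σ i)) i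
  simp [monMat, hne, hd i] at h1

/-- Inverse transpose. -/
def invTranspose : GL ι F →* GL ι F where
  toFun g :=
    { val := ((g⁻¹ : GL ι F) : Matrix ι ι F)ᵀ
      inv := (g : Matrix ι ι F)ᵀ
      val_inv := by rw [← transpose_mul, ← Units.val_mul, mul_inv_cancel, Units.val_one, transpose_one]
      inv_val := by rw [← transpose_mul, ← Units.val_mul, inv_mul_cancel, Units.val_one, transpose_one] }
  map_one' := Units.ext (by simp)
  map_mul' a b := Units.ext (by
    show (((a * b)⁻¹ : GL ι F) : Matrix ι ι F)ᵀ = _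
    rw [_root_.mul_inv_rev, Units.val_mul, transpose_mul]
    rfl)

theorem invTranspose_invTranspose (g : GL ι F) : invTranspose (invTranspose g) = g := by
  refine Units.ext ?_
  show ((g : Matrix ι ι F)ᵀ)ᵀ = _
  exact transpose_transpose _

theorem mono_invTranspose {g : GL ι F} (hg : Mono g) : Mono (invTranspose g) := by
  obtain ⟨σ, d, hd, rfl⟩ := hg
  refine ⟨σ, fun i => (d i)⁻¹, fun i => inv_ne_zero (hd i), Units.ext ?_⟩
  ext j i
  show monMat σ⁻¹ (fun i => (d (σ⁻¹ i))⁻¹) i j = monMat σ (fun i => (d i)⁻¹) j i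
  by_cases h : j = σ i
  · subst h
    simp [monMat]
  · have : i ≠ σ⁻¹ j := fun e => h (by rw [e]; exact (σ.apply_symm_apply j).symm)
    simp only [monMat, if_neg h, if_neg this]

theorem invTranspose_mem_sl {g : GL ι F} (hg : g ∈ Cfsg.Geo.specialLinear ι F) :
    invTranspose g ∈ Cfsg.Geo.specialLinear ι F := by
  have h := (mem_sl_iff _).1 (inv_mem hg)
  rw [mem_sl_iff]
  show (((g⁻¹ : GL ι F) : Matrix ι ι F)ᵀ).det = 1
  rw [det_transpose, h]

/-- No element outside the monomial group fixes a coordinate line. -/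
def NoFix (M : Subgroup (GL ι F)) : Prop :=
  ∀ x ∈ M, ∀ o, x ∈ lineStab o → Mono x

section Columns

variable [Fintype F] {M : Subgroup (GL ι F)}

theorem two_nonzero (hM : HasMonomials M) (hN : NoFix M) (hn : 3 ≤ Fintype.card ι) {g : GL ι F}
    (hg : g ∈ M) (hnm : ¬ Mono g) (i : ι) :
    ∃ k l, k ≠ l ∧ (g : Matrix ι ι F) k i ≠ 0 ∧ (g : Matrix ι ι F) l i ≠ 0 := by
  by_contra hno
  push Not at hno
  obtain ⟨k, hk⟩ : ∃ k, (g : Matrix ι ι F) k i ≠ 0 := by
    by_contra h0
    push Not at h0
    have h' : (g : Matrix ι ι F) *ᵥ Pi.single i (1 : F) = 0 := by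
      funext l; simp [h0 l]
    have := congrArg (((g⁻¹ : GL ι F) : Matrix ι ι F) *ᵥ ·) h'
    simp only [inv_mulVec_mulVec, mulVec_zero] at this
    exact one_ne_zero (α := F) (by simpa using congrFun this i)
  set s : F := ((Equiv.Perm.sign (Equiv.swap k i) : ℤ) : F) with hs
  have hss : s * s = 1 := by
    rw [hs, ← Int.cast_mul, ← Units.val_mul, Int.units_mul_self]
    simp
  have hs0 : s ≠ 0 := left_ne_zero_of_mul (hss ▸ one_ne_zero)
  have hd : ∀ l, Function.update (fun _ => (1 : F)) k s l ≠ 0 := fun l => by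
    by_cases e : l = k <;> simp [e, hs0]
  have hh := hM.mem (Equiv.swap k i) _ hd (by rw [prod_update_one]; exact hss)
  set h := monGL (Equiv.swap k i) _ hd
  have hfix : h * g ∈ lineStab i := by
    intro l hl
    rw [Units.val_mul, Matrix.mul_apply, Finset.sum_eq_single k]
    · simp [h, monMat, hl]
    · intro m _ hm
      rw [hno k m (Ne.symm hm) hk, mul_zero]
    · simp
  have := hN _ (mul_mem hh hg) i hfix
  exact hnm (by simpa using mono_mul (mono_inv (g := h) ⟨_, _, hd, rfl⟩) this)

theorem exists_small_column (hM : HasMonomials M) (hN : NoFix M) (hn : 3 ≤ Fintype.card ι)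
    {lam : F} (h0 : lam ≠ 0) (h2 : lam * lam ≠ 1) (h3 : lam * lam * lam ≠ 1)
    {g : GL ι F} (hg : g ∈ M) (hnm : ¬ Mono g) {o a b : ι} (hab : a ≠ b)
    (ha : (g : Matrix ι ι F) a o = 0) (hb : (g : Matrix ι ι F) b o = 0) :
    ∃ k, ∀ l, l ≠ a → l ≠ b → (g : Matrix ι ι F) l k = 0 := by
  have h1 : lam ≠ 1 := fun e => h2 (by rw [e, mul_one])
  set d := twoDiag a b lam with hd
  have hh := hM.twoDiag_mem hab h0
  set h := monGL 1 d (twoDiag_ne h0) with hhdef
  have hmul : ∀ l i, ((h * g : GL ι F) : Matrix ι ι F) l i = d l * (g : Matrix ι ι F) l i := by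
    intro l i
    rw [Units.val_mul, Matrix.mul_apply, Finset.sum_eq_single l]
    · simp [h, monMat]
    · intro m _ hm
      simp [h, monMat, Ne.symm hm]
    · simp
  have hda : d a = lam := if_pos rfl
  have hdb : d b = lam⁻¹ := by simp [d, twoDiag, hab.symm]
  have hdl : ∀ l, l ≠ a → l ≠ b → d l = 1 := fun l h1 h2 => by simp [d, twoDiag, h1, h2]
  set x := g⁻¹ * (h * g) with hx
  have hxM : x ∈ M := mul_mem (inv_mem hg) (mul_mem hh hg)
  have hxo : x ∈ lineStab o := by
    intro l hl
    rw [hx, Units.val_mul, Matrix.mul_apply]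
    have : ∀ m, ((h * g : GL ι F) : Matrix ι ι F) m o = (g : Matrix ι ι F) m o := fun m => by
      rw [hmul]
      by_cases e1 : m = a
      · rw [e1, ha, mul_zero]
      · by_cases e2 : m = b
        · rw [e2, hb, mul_zero]
        · rw [hdl m e1 e2, one_mul]
    simp only [this]
    rw [← Matrix.mul_apply, ← Units.val_mul, inv_mul_cancel, Units.val_one, Matrix.one_apply_ne hl]
  obtain ⟨σ, e, he, hxe⟩ := hN x hxM o hxo
  have rel : ∀ k l, d l * (g : Matrix ι ι F) l k = e k * (g : Matrix ι ι F) l (σ k) := by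
    intro k l
    rw [← hmul, show h * g = g * x by rw [hx]; group, hxe, Units.val_mul, Matrix.mul_apply,
      Finset.sum_eq_single (σ k)]
    · simp [monMat, mul_comm]
    · intro m _ hm
      simp [monMat, hm]
    · simp
  obtain ⟨k, hk⟩ : ∃ k, σ k ≠ k ∨ e k ≠ 1 := by
    by_contra hno
    push Not at hno
    obtain ⟨k1, k2, hk12, hk1, -⟩ := two_nonzero hM hN hn hg hnm a
    obtain ⟨i, hi⟩ : ∃ i, (g : Matrix ι ι F) a i ≠ 0 := by
      by_contra h0'
      push Not at h0'
      have := congrFun (congrFun (show (g : Matrix ι ι F) * ((g⁻¹ : GL ι F) : Matrix ι ι F) = 1 by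
        rw [← Units.val_mul, mul_inv_cancel, Units.val_one]) a) a
      simp [Matrix.mul_apply, h0'] at this
    have := rel i a
    rw [(hno i).1, (hno i).2, hda, one_mul] at this
    exact h1 (mul_right_cancel₀ hi (this.trans (one_mul _).symm))
  by_cases hσ : σ k = k
  · exfalso
    obtain ⟨l1, l2, hl12, hl1, hl2⟩ := two_nonzero hM hN hn hg hnm k
    have hek : e k ≠ 1 := hk.resolve_left (not_not.2 hσ)
    have hv : ∀ l, (g : Matrix ι ι F) l k ≠ 0 → d l = e k := fun l hl => by
      have := rel k l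
      rw [hσ] at this
      exact mul_right_cancel₀ hl this
    have hmem : ∀ l, (g : Matrix ι ι F) l k ≠ 0 → l = a ∨ l = b := fun l hl => by
      by_contra hno
      push Not at hno
      exact hek ((hv l hl).symm.trans (hdl l hno.1 hno.2))
    have hne : lam = lam⁻¹ → False := fun e' => h2 (by nth_rewrite 2 [e']; exact mul_inv_cancel₀ h0)
    rcases hmem l1 hl1 with rfl | rfl <;> rcases hmem l2 hl2 with rfl | rfl
    · exact hl12 rfl
    · exact hne (hda.symm.trans ((hv _ hl1).trans ((hv _ hl2).symm.trans hdb)))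
    · exact hne (hda.symm.trans ((hv _ hl2).trans ((hv _ hl1).symm.trans hdb)))
    · exact hl12 rfl
  refine ⟨k, fun l hla hlb => ?_⟩
  by_contra hl
  have r1 := rel k
  have r2 := rel (σ k)
  have r3 := rel (σ (σ k))
  set s : F := lam + lam⁻¹ + 1 with hs
  have hcub : ∀ l, d l * d l * d l - s * (d l * d l) + s * d l - 1 = 0 := by
    intro l
    by_cases e1 : l = a
    · rw [e1, hda, hs]; field_simp; ring
    · by_cases e2 : l = b
      · rw [e2, hdb, hs]; field_simp; ring
      · rw [hdl l e1 e2]; ring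
  have hvec : (g : Matrix ι ι F) *ᵥ (Pi.single (σ (σ (σ k))) (e k * e (σ k) * e (σ (σ k))) -
      Pi.single (σ (σ k)) (s * (e k * e (σ k))) + Pi.single (σ k) (s * e k) - Pi.single k 1) = 0 := by
    funext m
    rw [mulVec_sub, mulVec_add, mulVec_sub]
    simp only [mulVec_single, Pi.sub_apply, Pi.add_apply, Pi.smul_apply, col_apply, smul_eq_mul,
      MulOpposite.smul_eq_mul_unop, MulOpposite.unop_op, Pi.zero_apply]
    linear_combination (g : Matrix ι ι F) m k * hcub m -
      (d m * d m - s * d m + s) * r1 m - (e k * (d m - s)) * r2 m - (e k * e (σ k)) * r3 m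
  have hzero := congrArg (((g⁻¹ : GL ι F) : Matrix ι ι F) *ᵥ ·) hvec
  simp only [inv_mulVec_mulVec, mulVec_zero] at hzero
  have hcyc : σ (σ k) = k ∨ σ (σ (σ k)) = k := by
    by_contra hno
    push Not at hno
    have := congrFun hzero k
    simp [hσ, hno.1, hno.2, Ne.symm hσ, Ne.symm hno.1, Ne.symm hno.2] at this
  have hdl' : d l = 1 := hdl l hla hlb
  have hva : ∀ m, (m = a ∨ m = b) → (g : Matrix ι ι F) m k = 0 := by
    intro m hm
    by_contra hmk
    rcases hcyc with hc | hc
    · have hP : ∀ m, d m * d m * (g : Matrix ι ι F) m k =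
          e k * e (σ k) * (g : Matrix ι ι F) m k := fun m => by
        have := r2 m
        rw [hc] at this
        linear_combination d m * r1 m + e k * this
      have h1' := mul_right_cancel₀ hl (hP l)
      have h2' := mul_right_cancel₀ hmk (hP m)
      rw [hdl', one_mul] at h1'
      rw [← h1'] at h2'
      rcases hm with rfl | rfl
      · exact h2 (by rwa [hda] at h2')
      · rw [hdb, ← mul_inv, inv_eq_one] at h2'
        exact h2 h2'
    · have hP : ∀ m, d m * d m * d m * (g : Matrix ι ι F) m k =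
          e k * e (σ k) * e (σ (σ k)) * (g : Matrix ι ι F) m k := fun m => by
        have := r3 m
        rw [hc] at this
        linear_combination d m * d m * r1 m + e k * d m * r2 m + e k * e (σ k) * this
      have h1' := mul_right_cancel₀ hl (hP l)
      have h2' := mul_right_cancel₀ hmk (hP m)
      rw [hdl', one_mul, one_mul] at h1'
      rw [← h1'] at h2'
      rcases hm with rfl | rfl
      · exact h3 (by rwa [hda] at h2')
      · rw [hdb, ← mul_inv, ← mul_inv, inv_eq_one] at h2'
        exact h3 h2'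
  refine col_injective g (Ne.symm hσ) one_ne_zero (c' := e k) fun m => ?_
  by_cases hm : m = a ∨ m = b
  · rw [hva m hm, mul_zero, ← r1 m, hva m hm, mul_zero]
  · push Not at hm
    rw [one_mul, ← r1 m, hdl m hm.1 hm.2, one_mul]

theorem card_pairs_ge {n : ℕ} (hn : 6 ≤ n) : n ≤ (n - 2).choose 2 := by
  rw [Nat.choose_two_right]
  obtain ⟨m, rfl⟩ : ∃ m, n = m + 3 := ⟨n - 3, by omega⟩
  rw [show m + 3 - 2 = m + 1 by omega, show m + 1 - 1 = m by omega]
  have h : 2 * (m + 3) ≤ (m + 1) * m := by
    have : 3 * (m + 1) ≤ (m + 1) * m := by rw [mul_comm 3]; exact Nat.mul_le_mul_left _ (by omega)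
    omega
  omega

theorem zeros_le_one (hM : HasMonomials M) (hN : NoFix M) (h5 : 5 ≤ Fintype.card F)
    (hn : 6 ≤ Fintype.card ι) {g : GL ι F} (hg : g ∈ M) (hnm : ¬ Mono g) {o a b : ι}
    (ha : (g : Matrix ι ι F) a o = 0) (hb : (g : Matrix ι ι F) b o = 0) : a = b := by
  classical
  by_contra hab
  obtain ⟨lam, h0, h2, h3⟩ : ∃ lam : F, lam ≠ 0 ∧ lam * lam ≠ 1 ∧ lam * lam * lam ≠ 1 := by
    obtain ⟨u, hu⟩ := IsCyclic.exists_generator (α := Fˣ)
    have hord : orderOf u = Fintype.card F - 1 := by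
      rw [orderOf_eq_card_of_forall_mem_zpowers hu, Nat.card_units, Nat.card_eq_fintype_card]
    have key : ∀ k : ℕ, 0 < k → k < 4 → (u : F) ^ k ≠ 1 := fun k hk hk4 e => by
      have h1 : u ^ k = 1 := Units.ext (by simpa using e)
      have h2 := Nat.le_of_dvd hk (orderOf_dvd_of_pow_eq_one h1)
      omega
    refine ⟨u, u.ne_zero, ?_, ?_⟩
    · have := key 2 (by omega) (by omega); rwa [pow_two] at this
    · have := key 3 (by omega) (by omega); rwa [pow_three', mul_assoc, ← mul_assoc] at this
  obtain ⟨k, hk⟩ := exists_small_column hM hN (by omega) h0 h2 h3 hg hnm hab ha hb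
  let T : Finset ι := Finset.univ \ {a, b}
  have hT : T.card = Fintype.card ι - 2 := by
    rw [Finset.card_univ_sdiff, Finset.card_pair hab]
  have key : ∀ s ∈ T.powersetCard 2, ∃ m, ∀ l, (g : Matrix ι ι F) l m ≠ 0 ↔ l ∈ s := by
    intro s hs
    obtain ⟨hsT, hcard⟩ := Finset.mem_powersetCard.1 hs
    obtain ⟨c, e, hce, rfl⟩ := Finset.card_eq_two.1 hcard
    have hz : ∀ l ∈ ({c, e} : Finset ι), (g : Matrix ι ι F) l k = 0 := fun l hl => by
      have := hsT hl
      simp only [T, Finset.mem_sdiff, Finset.mem_univ, true_and, Finset.mem_insert,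
        Finset.mem_singleton, not_or] at this
      exact hk l this.1 this.2
    obtain ⟨m, hm⟩ := exists_small_column hM hN (by omega) h0 h2 h3 hg hnm hce
      (hz c (by simp)) (hz e (by simp))
    obtain ⟨l1, l2, hl12, hl1, hl2⟩ := two_nonzero hM hN (by omega) hg hnm m
    have hin : ∀ l, (g : Matrix ι ι F) l m ≠ 0 → l = c ∨ l = e := fun l hl => by
      by_contra hno
      push Not at hno
      exact hl (hm l hno.1 hno.2)
    refine ⟨m, fun l => ⟨fun hl => by simpa using hin l hl, fun hl => ?_⟩⟩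
    simp only [Finset.mem_insert, Finset.mem_singleton] at hl
    rcases hin l1 hl1 with rfl | rfl <;> rcases hin l2 hl2 with rfl | rfl <;>
      rcases hl with rfl | rfl <;> first | exact hl1 | exact hl2 | exact absurd rfl hl12
  choose f hf using key
  have hinj : ∀ s (hs : s ∈ T.powersetCard 2) t (ht : t ∈ T.powersetCard 2),
      f s hs = f t ht → s = t := fun s hs t ht e => Finset.ext fun l => by
    rw [← hf s hs l, e, hf t ht l]
  -- every column is used, so the row `a` vanishes
  let φ : {t // t ∈ T.powersetCard 2} → ι := fun t => f t.1 t.2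
  have hφ : Function.Injective φ := fun t t' e => Subtype.ext (hinj _ t.2 _ t'.2 e)
  have hbij : Function.Bijective φ := hφ.bijective_of_nat_card_le (by
    rw [Nat.card_eq_fintype_card, Nat.card_eq_fintype_card, Fintype.card_coe,
      Finset.card_powersetCard, hT]
    exact card_pairs_ge hn)
  refine ((Matrix.isUnit_iff_isUnit_det _).1 g.isUnit).ne_zero
    (Matrix.det_eq_zero_of_row_eq_zero a fun m => ?_)
  obtain ⟨⟨t, ht⟩, rfl⟩ := hbij.2 m
  by_contra hne
  have := (Finset.mem_powersetCard.1 ht).1 ((hf t ht a).1 hne)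
  simp [T] at this

theorem exists_zero (hM : HasMonomials M) (hN : NoFix M) (h5 : 5 ≤ Fintype.card F)
    (hn : 6 ≤ Fintype.card ι) {g : GL ι F} (hg : g ∈ M) (hnm : ¬ Mono g) (o : ι) :
    ∃ a, (g : Matrix ι ι F) a o = 0 := by
  classical
  by_contra hfull
  push Not at hfull
  set r : ι → F := fun l => (g : Matrix ι ι F) l o with hr
  let d : Equiv.Perm ι → ι → F := fun σ i => r (σ i) / r i
  have hd : ∀ σ i, d σ i ≠ 0 := fun σ i => div_ne_zero (hfull _) (hfull _)
  have hprod : ∀ σ : Equiv.Perm ι, ∏ i, d σ i = 1 := fun σ => by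
    rw [Finset.prod_div_distrib, Equiv.prod_comp σ r,
      div_self (Finset.prod_ne_zero_iff.2 fun i _ => hfull i)]
  let h : alternatingGroup ι → GL ι F := fun σ => monGL σ.1 (d σ.1) (hd σ.1)
  have hh : ∀ σ, h σ ∈ M := fun σ => hM.mem _ _ _ (by
    rw [hprod, Equiv.Perm.mem_alternatingGroup.1 σ.2]; simp)
  have hmul : ∀ σ τ, h (σ * τ) = h σ * h τ := fun σ τ => Units.ext (by
    simp only [h, coe_monGL, Units.val_mul, monMat_mul, Subgroup.coe_mul]
    congr 1
    funext i
    show r (σ.1 (τ.1 i)) / r i = r (σ.1 (τ.1 i)) / r (τ.1 i) * (r (τ.1 i) / r i)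
    rw [div_mul_div_cancel₀ (hfull _)])
  let x : alternatingGroup ι → GL ι F := fun σ => g⁻¹ * (h σ * g)
  have hhr : ∀ σ l, ((h σ * g : GL ι F) : Matrix ι ι F) l o = r l := fun σ l => by
    rw [Units.val_mul]
    show ((h σ : Matrix ι ι F) *ᵥ r) l = r l
    have := monMat_mulVec σ.1 (d σ.1) r (σ.1⁻¹ l)
    rw [show σ.1 (σ.1⁻¹ l) = l from σ.1.apply_symm_apply l] at this
    rw [show (h σ : Matrix ι ι F) = monMat σ.1 (d σ.1) from rfl, this]
    show r (σ.1 (σ.1⁻¹ l)) / r (σ.1⁻¹ l) * r (σ.1⁻¹ l) = r l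
    rw [show σ.1 (σ.1⁻¹ l) = l from σ.1.apply_symm_apply l]
    exact div_mul_cancel₀ _ (hfull _)
  have hxo : ∀ σ, x σ ∈ lineStab o := fun σ l hl => by
    simp only [x]
    rw [Units.val_mul, Matrix.mul_apply]
    simp only [hhr]
    rw [← Matrix.mul_apply, ← Units.val_mul, inv_mul_cancel, Units.val_one, Matrix.one_apply_ne hl]
  have hxm : ∀ σ, Mono (x σ) := fun σ => hN _ (mul_mem (inv_mem hg) (mul_mem (hh σ) hg)) o (hxo σ)
  choose π e he hπ using hxm
  have hxmul : ∀ σ τ, x (σ * τ) = x σ * x τ := fun σ τ => by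
    simp only [x, hmul]; group
  let φ : alternatingGroup ι →* Equiv.Perm ι := MonoidHom.mk' π fun σ τ => by
    have h1 := hπ (σ * τ)
    rw [hxmul, hπ σ, hπ τ] at h1
    exact (monGL_perm_eq (d := fun i => e σ (π τ i) * e τ i)
      (hd := fun i => mul_ne_zero (he σ _) (he τ _))
      (((Units.ext (monMat_mul (π σ) (π τ) (e σ) (e τ)) :
        monGL (π σ) (e σ) (he σ) * monGL (π τ) (e τ) (he τ) = monGL _ _ _)).symm.trans h1)).symm
  have hfixo : ∀ σ, φ σ o = o := fun σ => by
    show π σ o = o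
    by_contra hne
    have := hxo σ (π σ o) hne
    rw [hπ σ, coe_monGL] at this
    simp [monMat, he σ o] at this
  haveI : Nontrivial ι := Fintype.one_lt_card_iff_nontrivial.1 (by omega)
  haveI := alternatingGroup.isSimpleGroup (α := ι) (by rw [Nat.card_eq_fintype_card]; omega)
  have hker : φ.ker = ⊤ := by
    rcases (φ.normal_ker).eq_bot_or_eq_top with hb | ht
    · exfalso
      have hinj := (MonoidHom.ker_eq_bot_iff φ).1 hb
      let p : ι → Prop := fun l => l ≠ o
      have hle : Nat.card (alternatingGroup ι) ≤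
          Nat.card {f : Equiv.Perm ι // ∀ l, ¬ p l → f l = l} :=
        Nat.card_le_card_of_injective (fun σ => ⟨φ σ, fun l hl => by
          rw [not_not.1 hl]; exact hfixo σ⟩) fun σ τ e => hinj (congrArg Subtype.val e)
      rw [← Nat.card_congr (Equiv.Perm.subtypeEquivSubtypePerm p), Nat.card_perm,
        Nat.card_eq_fintype_card (α := Subtype p), Fintype.card_subtype_compl,
        Fintype.card_subtype_eq] at hle
      have h2 : 2 * Nat.card (alternatingGroup ι) = (Fintype.card ι).factorial := by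
        rw [Nat.card_eq_fintype_card, two_mul_card_alternatingGroup, Fintype.card_perm]
      obtain ⟨m, hm⟩ : ∃ m, Fintype.card ι = m + 1 := ⟨_, (Nat.succ_pred_eq_of_pos (by omega)).symm⟩
      rw [hm, Nat.factorial_succ] at h2
      rw [hm, Nat.add_sub_cancel] at hle
      have h3 : 3 * m.factorial ≤ (m + 1) * m.factorial := Nat.mul_le_mul_right _ (by omega)
      have := Nat.factorial_pos m
      omega
    · exact ht
  obtain ⟨a, -, -⟩ : ∃ a : ι, a ∈ (Finset.univ : Finset ι) ∧ True := ⟨o, Finset.mem_univ _, trivial⟩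
  obtain ⟨b, hba, -, -⟩ := exists_notMem_three (by omega) a a a
  obtain ⟨c, hca, hcb, -⟩ := exists_notMem_three (by omega) a b b
  let σ : alternatingGroup ι := ⟨Equiv.swap a b * Equiv.swap a c, by
    rw [Equiv.Perm.mem_alternatingGroup, map_mul, Equiv.Perm.sign_swap hba.symm,
      Equiv.Perm.sign_swap hca.symm]
    simp⟩
  have hσ1 : π σ = 1 := MonoidHom.mem_ker.1 (hker ▸ Subgroup.mem_top σ : σ ∈ φ.ker)
  have hrel : ∀ l i, ((h σ * g : GL ι F) : Matrix ι ι F) l i =
      (g : Matrix ι ι F) l i * e σ i := fun l i => by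
    have hxσ : h σ * g = g * x σ := by simp [x]
    rw [hxσ, hπ σ, Units.val_mul, coe_monGL, hσ1, mul_monMat_diag]
  obtain ⟨k, hk⟩ : ∃ k, e σ k ≠ 1 := by
    by_contra hno
    push Not at hno
    have h1 : h σ = 1 := by
      have : h σ * g = g := Units.ext (by ext l i; rw [hrel, hno, mul_one])
      simpa using this
    have h2 : monGL σ.1 (d σ.1) (hd σ.1) = monGL 1 (fun _ => (1 : F)) (fun _ => one_ne_zero) := by
      refine Eq.trans h1 (Units.ext ?_)
      rw [coe_monGL, monMat_one]; rfl
    have h3 : σ.1 a = a := by rw [monGL_perm_eq h2]; rfl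
    have h4 : σ.1 a = c := by
      show Equiv.swap a b (Equiv.swap a c a) = c
      rw [Equiv.swap_apply_left, Equiv.swap_apply_of_ne_of_ne hca hcb]
    exact hca (h4.symm.trans h3)
  have hz : ∀ l, l ≠ a → l ≠ b → l ≠ c → (g : Matrix ι ι F) l k = 0 := by
    intro l h1 h2 h3
    have hfix : σ.1 l = l := by
      show Equiv.swap a b (Equiv.swap a c l) = l
      rw [Equiv.swap_apply_of_ne_of_ne h1 h3, Equiv.swap_apply_of_ne_of_ne h1 h2]
    have hd1 : d σ.1 l = 1 := by
      show r (σ.1 l) / r l = 1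
      rw [hfix, div_self (hfull l)]
    have hml : ((h σ * g : GL ι F) : Matrix ι ι F) l k = (g : Matrix ι ι F) l k := by
      rw [Units.val_mul, Matrix.mul_apply, Finset.sum_eq_single l]
      · simp [h, monMat, hfix, hd1]
      · intro m _ hm
        have : l ≠ σ.1 m := fun e => hm (σ.1.injective (hfix.trans e)).symm
        simp [h, monMat, this]
      · simp
    rw [hrel] at hml
    by_contra hne
    exact hk (mul_left_cancel₀ hne (hml.trans (mul_one _).symm))
  obtain ⟨l1, hl1⟩ : ∃ l, l ∉ ({a, b, c} : Finset ι) := by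
    obtain ⟨l, -, hl⟩ := Finset.exists_mem_notMem_of_card_lt_card (s := ({a, b, c} : Finset ι))
      (t := Finset.univ) (lt_of_le_of_lt Finset.card_le_three (by rw [Finset.card_univ]; omega))
    exact ⟨l, hl⟩
  obtain ⟨l2, hl2⟩ : ∃ l, l ∉ ({a, b, c, l1} : Finset ι) := by
    obtain ⟨l, -, hl⟩ := Finset.exists_mem_notMem_of_card_lt_card (s := ({a, b, c, l1} : Finset ι))
      (t := Finset.univ) (lt_of_le_of_lt Finset.card_le_four (by rw [Finset.card_univ]; omega))
    exact ⟨l, hl⟩
  simp only [Finset.mem_insert, Finset.mem_singleton, not_or] at hl1 hl2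
  exact hl2.2.2.2 (zeros_le_one hM hN h5 hn hg hnm (hz l2 hl2.1 hl2.2.1 hl2.2.2.1)
    (hz l1 hl1.1 hl1.2.1 hl1.2.2))

theorem not_noFix (hM : HasMonomials M) (hN : NoFix M) (hM' : HasMonomials (M.map invTranspose))
    (hN' : NoFix (M.map invTranspose)) (h5 : 5 ≤ Fintype.card F) (hn : 6 ≤ Fintype.card ι)
    {g : GL ι F} (hg : g ∈ M) (hnm : ¬ Mono g) : False := by
  classical
  -- every column and every row has exactly one zero
  choose z hz using exists_zero hM hN h5 hn hg hnm
  have hnz : ∀ i l, l ≠ z i → (g : Matrix ι ι F) l i ≠ 0 := fun i l hl e =>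
    hl (zeros_le_one hM hN h5 hn hg hnm e (hz i))
  have hzinj : Function.Injective z := fun i i' e => by
    have hgi : invTranspose g⁻¹ ∈ M.map invTranspose := ⟨_, inv_mem hg, rfl⟩
    have hnm' : ¬ Mono (invTranspose g⁻¹) := fun h => hnm (by
      have := mono_inv (mono_invTranspose h)
      rwa [invTranspose_invTranspose, inv_inv] at this)
    have hval : ∀ p q, (invTranspose g⁻¹ : Matrix ι ι F) p q = (g : Matrix ι ι F) q p := fun p q => by
      show (((g⁻¹)⁻¹ : GL ι F) : Matrix ι ι F)ᵀ p q = _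
      rw [inv_inv, transpose_apply]
    refine zeros_le_one hM' hN' h5 hn hgi hnm' (o := z i) ?_ ?_
    · rw [hval]; exact hz i
    · rw [hval, e]; exact hz i'
  obtain ⟨o⟩ : Nonempty ι := Fintype.card_pos_iff.1 (by omega)
  have hgi := inv_mem hg
  have hnmi : ¬ Mono g⁻¹ := fun h => hnm (by simpa using mono_inv h)
  obtain ⟨j, hj⟩ := exists_zero hM hN h5 hn hgi hnmi o
  obtain ⟨r, hr⟩ : ∃ r : ι → F, ∀ l, r l = ((g⁻¹ : GL ι F) : Matrix ι ι F) l o := ⟨_, fun _ => rfl⟩
  have hr0 : ∀ l, l ≠ j → r l ≠ 0 := fun l hl e =>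
    hl (zeros_le_one hM hN h5 hn hgi hnmi (by rw [← hr]; exact e) hj)
  -- three usable columns, two rows outside `o`
  obtain ⟨a, haj, -, -⟩ := exists_notMem_three (by omega) j j j
  obtain ⟨b, hbj, hba, -⟩ := exists_notMem_three (by omega) j a a
  obtain ⟨c, hcj, hca, hcb⟩ := exists_notMem_three (by omega) j a b
  obtain ⟨p, hpo, -, -⟩ := exists_notMem_three (by omega) o o o
  obtain ⟨q, hqo, hqp, -⟩ := exists_notMem_three (by omega) o p p
  obtain ⟨v, hv0, hvS, hvp, hvq⟩ : ∃ v : ι → F, v ≠ 0 ∧ (∀ l, l ≠ a → l ≠ b → l ≠ c → v l = 0) ∧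
      ((g : Matrix ι ι F) *ᵥ v) p = 0 ∧ ((g : Matrix ι ι F) *ᵥ v) q = 0 := by
    let E : (Fin 3 → F) →ₗ[F] (ι → F) :=
      { toFun := fun w => w 0 • Pi.single a 1 + w 1 • Pi.single b 1 + w 2 • Pi.single c 1
        map_add' := fun w w' => by simp only [Pi.add_apply, add_smul]; abel
        map_smul' := fun t w => by
          simp only [Pi.smul_apply, smul_eq_mul, RingHom.id_apply, smul_add, smul_smul] }
    let L : (Fin 3 → F) →ₗ[F] (Fin 2 → F) :=
      { toFun := fun w => ![((g : Matrix ι ι F) *ᵥ E w) p, ((g : Matrix ι ι F) *ᵥ E w) q]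
        map_add' := fun w w' => by
          funext i; fin_cases i <;> simp [mulVec_add]
        map_smul' := fun t w => by
          funext i; fin_cases i <;> simp [mulVec_smul] }
    obtain ⟨w, hw, hw0⟩ := Submodule.exists_mem_ne_zero_of_ne_bot (p := LinearMap.ker L) (fun e => by
      have h1 := LinearMap.finrank_range_add_finrank_ker L
      have h2 : Module.finrank F (LinearMap.range L) ≤ 2 :=
        (Submodule.finrank_le _).trans (le_of_eq (Module.finrank_fin_fun F))
      rw [e, finrank_bot, Module.finrank_fin_fun] at h1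
      omega)
    have hEa : E w a = w 0 := by simp [E, hba.symm, hca.symm]
    have hEb : E w b = w 1 := by simp [E, hba, hcb.symm]
    have hEc : E w c = w 2 := by simp [E, hca, hcb]
    refine ⟨E w, fun e => hw0 ?_, fun l h1 h2 h3 => by simp [E, h1, h2, h3],
      congrFun (LinearMap.mem_ker.1 hw) 0, congrFun (LinearMap.mem_ker.1 hw) 1⟩
    funext i
    fin_cases i
    · simpa [e] using hEa.symm
    · simpa [e] using hEb.symm
    · simpa [e] using hEc.symm
  -- a scalar keeping the diagonal invertible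
  obtain ⟨t, ht⟩ := exists_ne_zero_one h5 {0, -r a / v a, -r b / v b, -r c / v c}
    (le_trans Finset.card_le_four (by omega))
  simp only [Finset.mem_insert, Finset.mem_singleton, not_or] at ht
  have hne : ∀ l, l = a ∨ l = b ∨ l = c → r l + t * v l ≠ 0 := by
    intro l hl e
    have hrl : r l ≠ 0 := hr0 l (by rcases hl with rfl | rfl | rfl <;> assumption)
    rcases eq_or_ne (v l) 0 with h0 | h0
    · rw [h0, mul_zero, add_zero] at e; exact hrl e
    · have : t = -r l / v l := by rw [eq_div_iff h0]; linear_combination e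
      rcases hl with rfl | rfl | rfl
      exacts [ht.2.1 this, ht.2.2.1 this, ht.2.2.2 this]
  let D : ι → F := fun l => if l = a ∨ l = b ∨ l = c then (r l + t * v l) / r l else 1
  have hD : ∀ l, D l ≠ 0 := fun l => by
    simp only [D]
    split_ifs with h
    · exact div_ne_zero (hne l h) (hr0 l (by rcases h with rfl | rfl | rfl <;> assumption))
    · exact one_ne_zero
  let d : ι → F := Function.update D j (∏ l ∈ Finset.univ.erase j, D l)⁻¹
  have hP : ∏ l ∈ Finset.univ.erase j, D l ≠ 0 := Finset.prod_ne_zero_iff.2 fun l _ => hD l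
  have hd : ∀ l, d l ≠ 0 := fun l => by
    rcases eq_or_ne l j with rfl | h
    · simpa [d] using hP
    · simpa [d, h] using hD l
  have hprod : ∏ l, d l = 1 := by
    rw [← Finset.mul_prod_erase _ _ (Finset.mem_univ j),
      Finset.prod_congr rfl (fun l hl => show d l = D l by simp [d, (Finset.mem_erase.1 hl).1])]
    simp [d, inv_mul_cancel₀ hP]
  have hh := hM.mem 1 d hd (by simp [hprod])
  obtain ⟨x, hx⟩ : ∃ x : GL ι F, x = g * (monGL 1 d hd * g⁻¹) := ⟨_, rfl⟩
  have hcol : ∀ l, (x : Matrix ι ι F) l o = (1 : Matrix ι ι F) l o + t * ((g : Matrix ι ι F) *ᵥ v) l := by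
    intro l
    have h1 : ∀ m, ((monGL 1 d hd * g⁻¹ : GL ι F) : Matrix ι ι F) m o = r m + t * v m := by
      intro m
      rw [Units.val_mul, Matrix.mul_apply, Finset.sum_eq_single m]
      · rw [← hr]
        show monMat 1 d m m * r m = _
        rcases eq_or_ne m j with rfl | hm
        · rw [hr m, hj, hvS m haj.symm hbj.symm hcj.symm]
          simp
        · by_cases hS : m = a ∨ m = b ∨ m = c
          · simp [monMat, d, D, hm, hS, div_mul_cancel₀, hr0 m hm]
          · rw [not_or, not_or] at hS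
            simp [monMat, d, D, hm, hS.1, hS.2.1, hS.2.2, hvS m hS.1 hS.2.1 hS.2.2]
      · intro k _ hk
        simp [monMat, Ne.symm hk]
      · simp
    rw [hx, Units.val_mul, Matrix.mul_apply]
    simp only [h1, mul_add, Finset.sum_add_distrib, hr]
    rw [← Units.val_one, ← mul_inv_cancel g, Units.val_mul, Matrix.mul_apply]
    congr 1
    simp only [mulVec, dotProduct, Finset.mul_sum]
    exact Finset.sum_congr rfl fun m _ => by ring
  have hxM : x ∈ M := hx ▸ mul_mem hg (mul_mem hh hgi)
  by_cases hxm : Mono x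
  · -- such `x` fixes every row, hence is diagonal
    obtain ⟨σ, e, he, hxe⟩ := hxm
    have hσ : ∀ i, σ i = i := by
      intro i
      obtain ⟨m, rfl⟩ := (Finite.injective_iff_surjective.1 hzinj) i
      have h1 : (x * g : GL ι F) = g * monGL 1 d hd := by rw [hx]; group
      have h2 : ((x * g : GL ι F) : Matrix ι ι F) (σ (z m)) m = 0 := by
        rw [Units.val_mul, Matrix.mul_apply, Finset.sum_eq_single (z m)]
        · rw [hz, mul_zero]
        · intro k _ hk
          simp [hxe, monMat, (σ.injective.ne hk).symm]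
        · simp
      rw [h1, Units.val_mul, coe_monGL, mul_monMat_diag] at h2
      by_contra hne'
      exact (mul_ne_zero (hnz m _ hne') (hd m)) h2
    have hzero : ∀ l, l ≠ o → ((g : Matrix ι ι F) *ᵥ v) l = 0 := fun l hl => by
      have := hcol l
      rw [hxe, coe_monGL, Matrix.one_apply_ne hl, zero_add] at this
      simp only [monMat, hσ, Matrix.of_apply, if_neg hl] at this
      exact (mul_eq_zero.1 this.symm).resolve_left ht.1
    obtain ⟨lam, hlam⟩ : ∃ lam, lam = ((g : Matrix ι ι F) *ᵥ v) o := ⟨_, rfl⟩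
    have hgv : (g : Matrix ι ι F) *ᵥ v = lam • Pi.single o 1 := by
      funext l
      rcases eq_or_ne l o with rfl | hl
      · simp [hlam]
      · simp [hzero l hl, hl]
    have hvr : ∀ l, v l = lam * r l := fun l => by
      have := congrFun (congrArg (fun w => ((g⁻¹ : GL ι F) : Matrix ι ι F) *ᵥ w) hgv) l
      simpa [inv_mulVec_mulVec, mulVec_smul, hr] using this
    obtain ⟨m, hm⟩ : ∃ m, m ∉ ({a, b, c, j} : Finset ι) := by
      obtain ⟨m, -, hm⟩ := Finset.exists_mem_notMem_of_card_lt_card (s := ({a, b, c, j} : Finset ι))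
        (t := Finset.univ) (lt_of_le_of_lt Finset.card_le_four (by rw [Finset.card_univ]; omega))
      exact ⟨m, hm⟩
    simp only [Finset.mem_insert, Finset.mem_singleton, not_or] at hm
    have hlam0 : lam = 0 := by
      have := hvr m
      rw [hvS m hm.1 hm.2.1 hm.2.2.1] at this
      exact (mul_eq_zero.1 this.symm).resolve_right (hr0 m hm.2.2.2)
    exact hv0 (funext fun l => by rw [hvr, hlam0, zero_mul]; rfl)
  · refine hqp.symm (zeros_le_one hM hN h5 hn hxM hxm (o := o) ?_ ?_)
    · rw [hcol, Matrix.one_apply_ne hpo, hvp, mul_zero, add_zero]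
    · rw [hcol, Matrix.one_apply_ne hqo, hvq, mul_zero, add_zero]

end Columns

/-- Overgroups of the monomial group of determinant one. -/
theorem sl_le_monomial [Fintype F] {M : Subgroup (GL ι F)} (hM : HasMonomials M)
    (hle : M ≤ Cfsg.Geo.specialLinear ι F) (h5 : 5 ≤ Fintype.card F) (hn : 6 ≤ Fintype.card ι)
    {g : GL ι F} (hg : g ∈ M) (hnm : ¬ IsBlockMono id (g : Matrix ι ι F)) :
    Cfsg.Geo.specialLinear ι F ≤ M := by
  by_contra hno
  have hM' : HasMonomials (M.map invTranspose) := fun y hy hym =>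
    ⟨invTranspose y, hM _ (invTranspose_mem_sl hy) (mono_invTranspose (mono_of_isBlockMono hym)).isBlockMono,
      invTranspose_invTranspose y⟩
  have hle' : M.map invTranspose ≤ Cfsg.Geo.specialLinear ι F := by
    rintro _ ⟨y, hy, rfl⟩
    exact invTranspose_mem_sl (hle hy)
  refine not_noFix hM ?_ hM' ?_ h5 hn hg fun h => hnm h.isBlockMono
  · intro x hx o hxo
    by_contra hxm
    exact hno (sl_le_of_fix_line hM hle h5 (by omega) hx hxo fun h => hxm (mono_of_isBlockMono h))
  · intro x hx o hxo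
    by_contra hxm
    refine hno fun y hy => ?_
    obtain ⟨w, hw, hwy⟩ := sl_le_of_fix_line hM' hle' h5 (by omega) hx hxo
      (fun h => hxm (mono_of_isBlockMono h)) (invTranspose_mem_sl hy)
    have := congrArg invTranspose hwy
    rw [invTranspose_invTranspose, invTranspose_invTranspose] at this
    exact this ▸ hw

end CfsgLib.MaxSub.DecompMax
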