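import Cfsg.Agent.Lib.MaxSub.MonoColumn

/-!
Overgroups of the monomial group of determinant one in dimension four: without elements fixing
a coordinate line every other element has only non-zero entries, and a combination of the
identity with a signed double transposition is then a counterexample.
-/

set_option autoImplicit false
set_option linter.unusedSectionVars false

namespace CfsgLib.MaxSub.DecompMax

open Matrix CfsgLib.MaxSub
open scoped MatrixGroups

theorem perm_three_facts : ∀ a b : Equiv.Perm (Fin 4), a 0 = 0 → b 0 = 0 → a * a = 1 → b * b = 1 →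
    a * b = b * a → a = 1 ∨ b = 1 ∨ a * b = 1 := by decide

variable {ι : Type} [Fintype ι] [DecidableEq ι] {F : Type*} [Field F] [Fintype F] {M : Subgroup (GL ι F)}

theorem Mono.one_col {x : GL ι F} (h : Mono x) {p p' q : ι} (hp : (x : Matrix ι ι F) p q ≠ 0)
    (hp' : (x : Matrix ι ι F) p' q ≠ 0) : p = p' := by
  obtain ⟨b, hb⟩ := h.isBlockMono q
  by_contra hne
  by_cases e : p = b
  · exact hp' (hb q p' rfl fun e' => hne (e.trans e'.symm))
  · exact hp (hb q p rfl e)

theorem not_mono_inv {g : GL ι F} (h : ¬ Mono g) : ¬ Mono g⁻¹ :=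
  fun h' => h (by simpa using mono_inv h')

theorem two_row (hM' : HasMonomials (M.map invTranspose)) (hN' : NoFix (M.map invTranspose))
    (hn : 3 ≤ Fintype.card ι) {g : GL ι F} (hg : g ∈ M) (hnm : ¬ Mono g) (j : ι) :
    ∃ k l, k ≠ l ∧ (g : Matrix ι ι F) j k ≠ 0 ∧ (g : Matrix ι ι F) j l ≠ 0 := by
  have hnm' : ¬ Mono (invTranspose g⁻¹) := fun h => hnm (by
    have := mono_inv (mono_invTranspose h)
    rwa [invTranspose_invTranspose, inv_inv] at this)
  have hval : ∀ p q, (invTranspose g⁻¹ : Matrix ι ι F) p q = (g : Matrix ι ι F) q p := fun p q => by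
    show (((g⁻¹)⁻¹ : GL ι F) : Matrix ι ι F)ᵀ p q = _
    rw [inv_inv, transpose_apply]
  obtain ⟨k, l, hkl, h1, h2⟩ := two_nonzero hM' hN' hn ⟨_, inv_mem hg, rfl⟩ hnm' j
  exact ⟨k, l, hkl, by rwa [hval] at h1, by rwa [hval] at h2⟩

/-- a zero of `g⁻¹` pins two supports -/
theorem zero_support (hM : HasMonomials M) (hN : NoFix M) (hM' : HasMonomials (M.map invTranspose))
    (hN' : NoFix (M.map invTranspose)) (hn : Fintype.card ι = 4) {ν : F} (hν : ν ≠ 0) (hν4 : ν ^ 4 ≠ 1)
    {g : GL ι F} (hg : g ∈ M) (hnm : ¬ Mono g) {j o : ι}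
    (hz : ((g⁻¹ : GL ι F) : Matrix ι ι F) j o = 0) :
    ∃ k l, k ≠ l ∧ (∀ p, (g : Matrix ι ι F) p j ≠ 0 ↔ p = k ∨ p = l) ∧
      ∀ p, ((g⁻¹ : GL ι F) : Matrix ι ι F) j p ≠ 0 ↔ p = k ∨ p = l := by
  classical
  obtain ⟨D, hD⟩ : ∃ D, D = Function.update (fun _ : ι => ν) j (ν ^ 3)⁻¹ := ⟨_, rfl⟩
  have hD0 : ∀ i, D i ≠ 0 := fun i => by
    rw [hD]; by_cases e : i = j <;> simp [e, hν]
  have hprod : ∏ i, D i = 1 := by
    rw [hD, Finset.prod_update_of_mem (Finset.mem_univ j), Finset.prod_const,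
      Finset.card_univ_sdiff, Finset.card_singleton, hn]
    exact inv_mul_cancel₀ (pow_ne_zero 3 hν)
  have hh := hM.mem 1 D hD0 (by simp [hprod])
  obtain ⟨c, hc⟩ : ∃ c, c = (ν ^ 3)⁻¹ - ν := ⟨_, rfl⟩
  have hc0 : c ≠ 0 := fun e => hν4 (by
    rw [hc, sub_eq_zero] at e
    have := congrArg (· * ν ^ 3) e
    simp only [inv_mul_cancel₀ (pow_ne_zero 3 hν)] at this
    rw [this]; ring)
  set R := ((g⁻¹ : GL ι F) : Matrix ι ι F) with hR
  obtain ⟨x, hx⟩ : ∃ x : GL ι F, x = g * monGL 1 D hD0 * g⁻¹ := ⟨_, rfl⟩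
  have hent : ∀ p q, (x : Matrix ι ι F) p q =
      ν * (1 : Matrix ι ι F) p q + c * ((g : Matrix ι ι F) p j * R j q) := by
    intro p q
    rw [← Units.val_one, ← mul_inv_cancel g, hx, Units.val_mul, Units.val_mul, Units.val_mul, coe_monGL,
      Matrix.mul_apply, Matrix.mul_apply, ← hR, Finset.mul_sum,
      ← Finset.add_sum_erase _ _ (Finset.mem_univ j)]
    conv_rhs => rw [← Finset.add_sum_erase _ _ (Finset.mem_univ j)]
    rw [Finset.sum_congr rfl (fun i hi => by
      rw [mul_monMat_diag, hD, Function.update_of_ne (Finset.ne_of_mem_erase hi)]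
      ring : ∀ i ∈ Finset.univ.erase j, ((g : Matrix ι ι F) * monMat 1 D) p i * R i q =
        ν * ((g : Matrix ι ι F) p i * R i q)), mul_monMat_diag, hD, Function.update_self, hc]
    ring
  have hxM : x ∈ M := hx ▸ mul_mem (mul_mem hg hh) (inv_mem hg)
  have hmono : Mono x := hN x hxM o fun l hl => by
    rw [hent, hz, Matrix.one_apply_ne hl]; ring
  obtain ⟨k, l, hkl, hk, hl⟩ := two_nonzero hM hN (by omega) hg hnm j
  obtain ⟨k', l', hkl', hk', hl'⟩ := two_row hM' hN' (by omega) (inv_mem hg) (not_mono_inv hnm) j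
  have off : ∀ p q, p ≠ q → (g : Matrix ι ι F) p j ≠ 0 → R j q ≠ 0 → (x : Matrix ι ι F) p q ≠ 0 :=
    fun p q hpq h1 h2 => by
      rw [hent, Matrix.one_apply_ne hpq, mul_zero, zero_add]
      exact mul_ne_zero hc0 (mul_ne_zero h1 h2)
  have hin : ∀ q, R j q ≠ 0 → q = k ∨ q = l := fun q hq => by
    by_contra h
    push Not at h
    exact hkl (hmono.one_col (off k q (Ne.symm h.1) hk hq) (off l q (Ne.symm h.2) hl hq))
  have hcol : ∀ p, (g : Matrix ι ι F) p j ≠ 0 ↔ p = k ∨ p = l := fun p => by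
    refine ⟨fun hp => ?_, fun hp => by rcases hp with rfl | rfl <;> assumption⟩
    by_contra h
    push Not at h
    rcases hin k' hk' with e | e
    · subst e
      exact h.2 (hmono.one_col (off p k' h.1 hp hk') (off l k' (Ne.symm hkl) hl hk'))
    · subst e
      exact h.1 (hmono.one_col (off p k' h.2 hp hk') (off k k' hkl hk hk'))
  refine ⟨k, l, hkl, hcol, fun p => ⟨hin p, fun hp => ?_⟩⟩
  rcases hin k' hk' with e1 | e1 <;> rcases hin l' hl' with e2 | e2 <;> subst e1 <;> subst e2 <;>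
    rcases hp with rfl | rfl <;> first | exact hk' | exact hl' | exact absurd rfl hkl'

/-- all entries are non-zero -/
theorem entry_ne_zero (hM : HasMonomials M) (hN : NoFix M) (hM' : HasMonomials (M.map invTranspose))
    (hN' : NoFix (M.map invTranspose)) (hn : Fintype.card ι = 4) {ν : F} (hν : ν ≠ 0) (hν4 : ν ^ 4 ≠ 1)
    {g : GL ι F} (hg : g ∈ M) (hnm : ¬ Mono g) (m j : ι) : (g : Matrix ι ι F) m j ≠ 0 := by
  classical
  intro hz
  set R := ((g⁻¹ : GL ι F) : Matrix ι ι F) with hR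
  have hRz : ∀ m j, (g : Matrix ι ι F) m j = 0 → (((g⁻¹)⁻¹ : GL ι F) : Matrix ι ι F) m j = 0 :=
    fun m j h => by rwa [inv_inv]
  obtain ⟨A, B, hAB, hRm, hgm⟩ :=
    zero_support hM hN hM' hN' hn hν hν4 (inv_mem hg) (not_mono_inv hnm) (hRz m j hz)
  rw [inv_inv] at hgm
  have pick : ∀ s : Finset ι, s.card ≤ 3 → ∃ i, i ∉ s := fun s hs => by
    obtain ⟨i, -, hi⟩ := Finset.exists_mem_notMem_of_card_lt_card (s := s) (t := Finset.univ)
      (lt_of_le_of_lt hs (by rw [Finset.card_univ]; omega))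
    exact ⟨i, hi⟩
  obtain ⟨i1, hi1⟩ := pick {A, B} (Finset.card_le_two.trans (by norm_num))
  obtain ⟨i2, hi2⟩ := pick {A, B, i1} Finset.card_le_three
  simp only [Finset.mem_insert, Finset.mem_singleton, not_or] at hi1 hi2
  have hgmz : ∀ i, i ≠ A → i ≠ B → (g : Matrix ι ι F) m i = 0 := fun i h1 h2 => by
    by_contra h; rcases (hgm i).1 h with e | e <;> contradiction
  have hRmz : ∀ i, i ≠ A → i ≠ B → R i m = 0 := fun i h1 h2 => by
    by_contra h; rcases (hRm i).1 h with e | e <;> contradiction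
  obtain ⟨k, l, hkl, hc1, hr1⟩ :=
    zero_support hM hN hM' hN' hn hν hν4 hg hnm (hRmz i1 hi1.1 hi1.2)
  obtain ⟨k', l', hkl', hc2, -⟩ :=
    zero_support hM hN hM' hN' hn hν hν4 hg hnm (hRmz i2 hi2.1 hi2.2.1)
  have hm1 : ∀ p, p = k ∨ p = l → p ≠ m := fun p hp e =>
    (hc1 p).2 hp (e ▸ hgmz i1 hi1.1 hi1.2)
  have hm2 : ∀ p, p = k' ∨ p = l' → p ≠ m := fun p hp e =>
    (hc2 p).2 hp (e ▸ hgmz i2 hi2.1 hi2.2.1)
  -- orthogonality of the row and the column
  have hsum : R i1 k * (g : Matrix ι ι F) k i2 + R i1 l * (g : Matrix ι ι F) l i2 = 0 := by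
    have h : (R * (g : Matrix ι ι F)) i1 i2 = 0 := by
      rw [hR, ← Units.val_mul, inv_mul_cancel, Units.val_one, Matrix.one_apply_ne (Ne.symm hi2.2.2)]
    rw [Matrix.mul_apply, ← Finset.sum_subset (Finset.subset_univ {k, l}) (fun p _ hp => by
      simp only [Finset.mem_insert, Finset.mem_singleton, not_or] at hp
      rw [show R i1 p = 0 by by_contra h; rcases (hr1 p).1 h with e | e <;> [exact hp.1 e; exact hp.2 e],
        zero_mul]), Finset.sum_pair hkl] at h
    exact h
  have hiff : (g : Matrix ι ι F) k i2 ≠ 0 ↔ (g : Matrix ι ι F) l i2 ≠ 0 := by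
    refine not_congr ⟨fun e => ?_, fun e => ?_⟩ <;> rw [e, mul_zero] at hsum
    · rw [zero_add] at hsum
      exact (mul_eq_zero.1 hsum).resolve_left ((hr1 l).2 (Or.inr rfl))
    · rw [add_zero] at hsum
      exact (mul_eq_zero.1 hsum).resolve_left ((hr1 k).2 (Or.inl rfl))
  have hk2 : (g : Matrix ι ι F) k i2 ≠ 0 := by
    by_contra hk0
    have hl0 : (g : Matrix ι ι F) l i2 = 0 := by
      by_contra h; exact hiff.2 h hk0
    have hne : ∀ p, p = k' ∨ p = l' → p ≠ k ∧ p ≠ l := fun p hp =>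
      ⟨fun e => (hc2 p).2 hp (by rw [e, hk0]), fun e => (hc2 p).2 hp (by rw [e, hl0])⟩
    have hcard : ({m, k, l, k', l'} : Finset ι).card = 5 := by
      have a1 := hne k' (Or.inl rfl)
      have a2 := hne l' (Or.inr rfl)
      rw [Finset.card_insert_of_notMem (by simp [(hm1 k (Or.inl rfl)).symm, (hm1 l (Or.inr rfl)).symm,
          (hm2 k' (Or.inl rfl)).symm, (hm2 l' (Or.inr rfl)).symm]),
        Finset.card_insert_of_notMem (by simp [hkl, a1.1.symm, a2.1.symm]),
        Finset.card_insert_of_notMem (by simp [a1.2.symm, a2.2.symm]), Finset.card_pair hkl']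
    have := Finset.card_le_univ ({m, k, l, k', l'} : Finset ι)
    omega
  have hl2 := hiff.1 hk2
  have hc2' : ∀ p, (g : Matrix ι ι F) p i2 ≠ 0 → p = k ∨ p = l := by
    intro p hp
    rcases (hc2 k).1 hk2 with e | e <;> rcases (hc2 l).1 hl2 with e' | e' <;>
      rcases (hc2 p).1 hp with e'' | e'' <;>
      first
        | exact absurd (e.trans e'.symm) hkl
        | exact Or.inl (e''.trans e.symm)
        | exact Or.inr (e''.trans e'.symm)
  obtain ⟨n, hnn⟩ := pick {m, k, l} Finset.card_le_three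
  simp only [Finset.mem_insert, Finset.mem_singleton, not_or] at hnn
  have hn1 : (g : Matrix ι ι F) n i1 = 0 := by
    by_contra h; rcases (hc1 n).1 h with e | e <;> [exact hnn.2.1 e; exact hnn.2.2 e]
  have hn2 : (g : Matrix ι ι F) n i2 = 0 := by
    by_contra h; rcases hc2' n h with e | e <;> [exact hnn.2.1 e; exact hnn.2.2 e]
  have hnAB : (g : Matrix ι ι F) n A ≠ 0 ∧ (g : Matrix ι ι F) n B ≠ 0 := by
    obtain ⟨p, q, hpq, hp, hq⟩ := two_row hM' hN' (by omega) hg hnm n
    have hin : ∀ p, (g : Matrix ι ι F) n p ≠ 0 → p = A ∨ p = B := fun p hp => by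
      by_contra h
      push Not at h
      have : ({A, B, i1, i2, p} : Finset ι).card = 5 := by
        rw [Finset.card_insert_of_notMem (by simp [hAB, Ne.symm hi1.1, Ne.symm hi2.1, Ne.symm h.1]),
          Finset.card_insert_of_notMem (by simp [Ne.symm hi1.2, Ne.symm hi2.2.1, Ne.symm h.2]),
          Finset.card_insert_of_notMem (by
            simp [Ne.symm hi2.2.2, show i1 ≠ p from fun e => hp (e ▸ hn1)]),
          Finset.card_pair (show i2 ≠ p from fun e => hp (e ▸ hn2))]
      have := Finset.card_le_univ ({A, B, i1, i2, p} : Finset ι)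
      omega
    rcases hin p hp with rfl | rfl <;> rcases hin q hq with rfl | rfl <;>
      first | exact ⟨hp, hq⟩ | exact ⟨hq, hp⟩ | exact absurd rfl hpq
  have hmA : (g : Matrix ι ι F) m A ≠ 0 := (hgm A).2 (Or.inl rfl)
  have hmB : (g : Matrix ι ι F) m B ≠ 0 := (hgm B).2 (Or.inr rfl)
  have hmn : m ≠ n := Ne.symm hnn.1
  have hh := hM.twoDiag_mem hmn hν
  set d := twoDiag m n ν with hd
  obtain ⟨x, hx⟩ : ∃ x : GL ι F, x = g⁻¹ * (monGL 1 d (twoDiag_ne hν) * g) := ⟨_, rfl⟩
  have hmul : ∀ p i, ((monGL 1 d (twoDiag_ne hν) * g : GL ι F) : Matrix ι ι F) p i =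
      d p * (g : Matrix ι ι F) p i := fun p i => by
    rw [Units.val_mul, Matrix.mul_apply, Finset.sum_eq_single p]
    · simp [monMat]
    · intro q _ hq
      simp [monMat, Ne.symm hq]
    · simp
  have hfix : x ∈ lineStab i1 := fun p hp => by
    rw [hx, Units.val_mul, Matrix.mul_apply]
    have : ∀ q, ((monGL 1 d (twoDiag_ne hν) * g : GL ι F) : Matrix ι ι F) q i1 = (g : Matrix ι ι F) q i1 :=
      fun q => by
        rw [hmul]
        by_cases e1 : q = m
        · rw [e1, hgmz i1 hi1.1 hi1.2, mul_zero]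
        · by_cases e2 : q = n
          · rw [e2, hn1, mul_zero]
          · simp [hd, twoDiag, e1, e2]
    simp only [this]
    rw [← Matrix.mul_apply, ← Units.val_mul, inv_mul_cancel, Units.val_one, Matrix.one_apply_ne hp]
  obtain ⟨π, e, he, hxe⟩ := hN x (hx ▸ mul_mem (inv_mem hg) (mul_mem hh hg)) i1 hfix
  have rel : ∀ i p, d p * (g : Matrix ι ι F) p i = e i * (g : Matrix ι ι F) p (π i) := fun i p => by
    rw [← hmul, show monGL 1 d (twoDiag_ne hν) * g = g * x by rw [hx]; group, hxe, Units.val_mul,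
      Matrix.mul_apply, Finset.sum_eq_single (π i)]
    · simp [monMat, mul_comm]
    · intro q _ hq
      simp [monMat, hq]
    · simp
  have hdm : d m = ν := by simp [hd, twoDiag]
  have hdn : d n = ν⁻¹ := by simp [hd, twoDiag, hmn.symm]
  have himg : ∀ i, (g : Matrix ι ι F) m i ≠ 0 → π i = A ∨ π i = B := fun i hi => (hgm _).1 fun e0 => by
    have := rel i m
    rw [e0, mul_zero, hdm] at this
    exact mul_ne_zero hν hi this
  have hsq : ν * ν ≠ 1 := fun h => hν4 (by linear_combination (ν * ν + 1) * h)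
  have hfixed : ∀ i, π i = i → (g : Matrix ι ι F) m i ≠ 0 → (g : Matrix ι ι F) n i ≠ 0 → False := by
    intro i hi h1 h2
    have r1 := rel i m
    have r2 := rel i n
    rw [hi, hdm] at r1
    rw [hi, hdn] at r2
    have := (mul_right_cancel₀ h1 r1).trans (mul_right_cancel₀ h2 r2).symm
    exact hsq (by nth_rewrite 2 [this]; exact mul_inv_cancel₀ hν)
  rcases himg A hmA with hA | hA
  · exact hfixed A hA hmA hnAB.1
  rcases himg B hmB with hB | hB
  swap
  · exact hfixed B hB hmB hnAB.2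
  have r1 := rel A m
  have r2 := rel B m
  have r3 := rel A n
  have r4 := rel B n
  rw [hA, hdm] at r1
  rw [hB, hdm] at r2
  rw [hA, hdn] at r3
  rw [hB, hdn] at r4
  have p1 : ν * ν = e A * e B := mul_right_cancel₀ hmA (by linear_combination ν * r1 + e A * r2)
  have p2 : ν⁻¹ * ν⁻¹ = e A * e B := mul_right_cancel₀ hnAB.1 (by linear_combination ν⁻¹ * r3 + e A * r4)
  refine hν4 ?_
  have p3 := p1.trans p2.symm
  have := congrArg (· * (ν * ν)) p3
  field_simp at this
  linear_combination this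

/-- the signed permutation matrix scaled by the column `r` -/
noncomputable def ratioGL {r : ι → F} (hr : ∀ i, r i ≠ 0) (σ : Equiv.Perm ι) : GL ι F :=
  monGL σ (fun i => r (σ i) / r i) (fun i => div_ne_zero (hr _) (hr _))

theorem ratioGL_mul {r : ι → F} (hr : ∀ i, r i ≠ 0) (σ τ : Equiv.Perm ι) :
    ratioGL hr (σ * τ) = ratioGL hr σ * ratioGL hr τ := Units.ext (by
  simp only [ratioGL, coe_monGL, Units.val_mul, monMat_mul]
  congr 1
  funext i
  rw [div_mul_div_cancel₀ (hr _)]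
  rfl)

theorem ratioGL_one {r : ι → F} (hr : ∀ i, r i ≠ 0) : ratioGL hr 1 = 1 := Units.ext (by
  rw [ratioGL, coe_monGL, show (fun i => r ((1 : Equiv.Perm ι) i) / r i) = fun _ => (1 : F) from
    funext fun i => div_self (hr i), monMat_one]
  rfl)

/-- dimension four, no element fixing a coordinate line -/
theorem not_noFix_four (hM : HasMonomials M) (hN : NoFix M) (hM' : HasMonomials (M.map invTranspose))
    (hN' : NoFix (M.map invTranspose)) (h7 : 7 ≤ Fintype.card F) (hn : Fintype.card ι = 4)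
    {g : GL ι F} (hg : g ∈ M) (hnm : ¬ Mono g) : False := by
  classical
  obtain ⟨ν, hν, hν4⟩ : ∃ ν : F, ν ≠ 0 ∧ ν ^ 4 ≠ 1 := by
    obtain ⟨u, hu⟩ := IsCyclic.exists_generator (α := Fˣ)
    have hord : orderOf u = Fintype.card F - 1 := by
      rw [orderOf_eq_card_of_forall_mem_zpowers hu, Nat.card_units, Nat.card_eq_fintype_card]
    refine ⟨u, u.ne_zero, fun e => ?_⟩
    have h2 := Nat.le_of_dvd (by norm_num) (orderOf_dvd_of_pow_eq_one
      (show u ^ 4 = 1 from Units.ext (by simpa using e)))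
    omega
  obtain ⟨o⟩ : Nonempty ι := Fintype.card_pos_iff.1 (by omega)
  obtain ⟨r, hr⟩ : ∃ r : ι → F, ∀ l, r l = (g : Matrix ι ι F) l o := ⟨_, fun _ => rfl⟩
  have hr0 : ∀ l, r l ≠ 0 := fun l => hr l ▸ entry_ne_zero hM hN hM' hN' hn hν hν4 hg hnm l o
  obtain ⟨e₀⟩ : Nonempty (Fin 4 ≃ ι) := ⟨(Fintype.equivFinOfCardEq hn).symm⟩
  obtain ⟨e, he⟩ : ∃ e : Fin 4 ≃ ι, e 0 = o := ⟨e₀.trans (Equiv.swap (e₀ 0) o), by simp⟩
  let c : Equiv.Perm (Fin 4) →* Equiv.Perm ι :=
    { toFun := e.permCongr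
      map_one' := Equiv.ext fun i => by simp [Equiv.permCongr_apply]
      map_mul' := fun a b => Equiv.ext fun i => by simp [Equiv.permCongr_apply] }
  have hc_app : ∀ a i, c a i = e (a (e.symm i)) := fun a i => rfl
  have hsign : ∀ a, Equiv.Perm.sign (c a) = Equiv.Perm.sign a := fun a => Equiv.Perm.sign_permCongr e a
  let h : Equiv.Perm (Fin 4) → GL ι F := fun a => ratioGL hr0 (c a)
  let x : Equiv.Perm (Fin 4) → GL ι F := fun a => g⁻¹ * (h a * g)
  have hhM : ∀ a, Equiv.Perm.sign a = 1 → h a ∈ M := fun a ha => by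
    refine hM.mem _ _ _ ?_
    rw [hsign, ha, Finset.prod_div_distrib, Equiv.prod_comp (c a) r,
      div_self (Finset.prod_ne_zero_iff.2 fun i _ => hr0 i)]
    simp
  have hxo : ∀ a, x a ∈ lineStab o := fun a l hl => by
    have hcol : ∀ q, ((h a * g : GL ι F) : Matrix ι ι F) q o = (g : Matrix ι ι F) q o := fun q => by
      rw [← hr, Units.val_mul, Matrix.mul_apply]
      simp only [← hr]
      have := monMat_mulVec (c a) (fun i => r (c a i) / r i) r ((c a)⁻¹ q)
      rw [show c a ((c a)⁻¹ q) = q from (c a).apply_symm_apply q, div_mul_cancel₀ _ (hr0 _)] at this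
      exact this
    show ((g⁻¹ * (h a * g) : GL ι F) : Matrix ι ι F) l o = 0
    rw [Units.val_mul, Matrix.mul_apply]
    simp only [hcol]
    rw [← Matrix.mul_apply, ← Units.val_mul, inv_mul_cancel, Units.val_one, Matrix.one_apply_ne hl]
  have hxm : ∀ a, Equiv.Perm.sign a = 1 → Mono (x a) := fun a ha =>
    hN _ (mul_mem (inv_mem hg) (mul_mem (hhM a ha) hg)) o (hxo a)
  have hmulh : ∀ a b, x (a * b) = x a * x b := fun a b => by
    show g⁻¹ * (h (a * b) * g) = g⁻¹ * (h a * g) * (g⁻¹ * (h b * g))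
    rw [show h (a * b) = h a * h b by simp only [h, map_mul, ratioGL_mul]]
    group
  -- three involutions without fixed points
  obtain ⟨v₁, hv₁⟩ : ∃ v : Equiv.Perm (Fin 4), v = Equiv.swap 0 1 * Equiv.swap 2 3 := ⟨_, rfl⟩
  obtain ⟨v₂, hv₂⟩ : ∃ v : Equiv.Perm (Fin 4), v = Equiv.swap 0 2 * Equiv.swap 1 3 := ⟨_, rfl⟩
  have hs₁ : Equiv.Perm.sign v₁ = 1 := by rw [hv₁]; decide
  have hs₂ : Equiv.Perm.sign v₂ = 1 := by rw [hv₂]; decide
  obtain ⟨π₁, e₁, he₁, hx₁⟩ := hxm v₁ hs₁
  obtain ⟨π₂, e₂, he₂, hx₂⟩ := hxm v₂ hs₂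
  have hfo : ∀ (a : Equiv.Perm (Fin 4)) (π : Equiv.Perm ι) (f : ι → F) (hf : ∀ i, f i ≠ 0),
      x a = monGL π f hf → π o = o := fun a π f hf hπ => by
    by_contra hne
    have := hxo a (π o) hne
    rw [hπ, coe_monGL] at this
    simp [monMat, hf o] at this
  have hperm : ∀ {a b : Equiv.Perm ι} {f f' : ι → F} {hf : ∀ i, f i ≠ 0} {hf' : ∀ i, f' i ≠ 0},
      monGL a f hf * monGL b f' hf' = monGL (a * b) (fun i => f (b i) * f' i)
        (fun i => mul_ne_zero (hf _) (hf' _)) := fun {a b f f' hf hf'} => Units.ext (monMat_mul a b f f')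
  have hone : ∀ {π : Equiv.Perm ι} {f : ι → F} {hf : ∀ i, f i ≠ 0}, monGL π f hf = 1 → π = 1 :=
    fun {π f hf} e' => monGL_perm_eq (d := f) (e := fun _ => 1) (he := fun _ => one_ne_zero)
      (e'.trans (Units.ext (by rw [coe_monGL, monMat_one]; rfl)))
  have hx1 : x 1 = 1 := by simp [x, h, map_one, ratioGL_one]
  obtain ⟨p₁, hp₁⟩ : ∃ p, p = e.symm.permCongr π₁ := ⟨_, rfl⟩
  obtain ⟨p₂, hp₂⟩ : ∃ p, p = e.symm.permCongr π₂ := ⟨_, rfl⟩
  have hsq₁ : π₁ * π₁ = 1 := hone (f := fun i => e₁ (π₁ i) * e₁ i) (by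
    rw [← hperm (hf := he₁) (hf' := he₁), ← hx₁, ← hmulh, show v₁ * v₁ = 1 by rw [hv₁]; decide, hx1])
  have hsq₂ : π₂ * π₂ = 1 := hone (f := fun i => e₂ (π₂ i) * e₂ i) (by
    rw [← hperm (hf := he₂) (hf' := he₂), ← hx₂, ← hmulh, show v₂ * v₂ = 1 by rw [hv₂]; decide, hx1])
  have hcomm : π₁ * π₂ = π₂ * π₁ := monGL_perm_eq (by
    rw [← hperm (hf := he₁) (hf' := he₂), ← hperm (hf := he₂) (hf' := he₁), ← hx₁, ← hx₂, ← hmulh,
      ← hmulh, show v₁ * v₂ = v₂ * v₁ by rw [hv₁, hv₂]; decide])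
  -- one of them acts diagonally
  obtain ⟨v, hsv, hvv, hfree, π, f, hf, hxv, hπ⟩ : ∃ v : Equiv.Perm (Fin 4), Equiv.Perm.sign v = 1 ∧
      v * v = 1 ∧ (∀ i, v i ≠ i) ∧ ∃ (π : Equiv.Perm ι) (f : ι → F) (hf : ∀ i, f i ≠ 0),
        x v = monGL π f hf ∧ π = 1 := by
    have hpf : ∀ π : Equiv.Perm ι, π o = o → e.symm.permCongr π 0 = 0 := fun π hπ => by
      rw [Equiv.permCongr_apply, Equiv.symm_symm, he, hπ, ← he, Equiv.symm_apply_apply]
    have hinj : ∀ π : Equiv.Perm ι, e.symm.permCongr π = 1 → π = 1 := fun π h =>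
      Equiv.ext fun i => by
        have := Equiv.congr_fun h (e.symm i)
        simpa [Equiv.permCongr_apply] using this
    have hmap : ∀ a b : Equiv.Perm ι, e.symm.permCongr (a * b) = e.symm.permCongr a * e.symm.permCongr b :=
      fun a b => Equiv.ext fun i => by simp [Equiv.permCongr_apply]
    have hmap1 : e.symm.permCongr (1 : Equiv.Perm ι) = 1 := Equiv.ext fun i => by simp [Equiv.permCongr_apply]
    rcases perm_three_facts p₁ p₂ (hp₁ ▸ hpf _ (hfo _ _ _ he₁ hx₁)) (hp₂ ▸ hpf _ (hfo _ _ _ he₂ hx₂))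
      (by rw [hp₁, ← hmap, hsq₁, hmap1]) (by rw [hp₂, ← hmap, hsq₂, hmap1])
      (by rw [hp₁, hp₂, ← hmap, ← hmap, hcomm]) with h' | h' | h'
    · exact ⟨v₁, hs₁, by rw [hv₁]; decide, by rw [hv₁]; decide, π₁, e₁, he₁, hx₁, hinj _ (hp₁ ▸ h')⟩
    · exact ⟨v₂, hs₂, by rw [hv₂]; decide, by rw [hv₂]; decide, π₂, e₂, he₂, hx₂, hinj _ (hp₂ ▸ h')⟩
    · refine ⟨v₁ * v₂, by rw [map_mul, hs₁, hs₂, mul_one], by rw [hv₁, hv₂]; decide,
        by rw [hv₁, hv₂]; decide, _, _, _, (by rw [hmulh, hx₁, hx₂, hperm]), hinj _ ?_⟩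
      rw [hmap, ← hp₁, ← hp₂, h']
  subst hπ
  have hhg : h v * g = g * monGL 1 f hf := by rw [← hxv]; simp [x]
  have hff : ∀ j, f j * f j = 1 := fun j => by
    have h1 : (monGL 1 f hf * monGL 1 f hf : GL ι F) = 1 := by rw [← hxv, ← hmulh, hvv, hx1]
    have := congrFun (congrFun (congrArg (Units.val : GL ι F → Matrix ι ι F) h1) j) j
    simpa [monMat_mul, monMat] using this
  have hci : ∀ i, c v i ≠ i := fun i e' => hfree (e.symm i) (e.injective (by
    rw [← hc_app, e', Equiv.apply_symm_apply]))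
  have h2 : (2 : F) ≠ 0 := by
    intro h2
    have hf1 : ∀ j, f j = 1 := fun j => by
      have : (f j - 1) * (f j - 1) = 0 := by linear_combination hff j - (f j - 1) * h2
      exact sub_eq_zero.1 (mul_self_eq_zero.1 this)
    have : h v = 1 := by
      have h1 : monGL 1 f hf = 1 := Units.ext (by
        rw [coe_monGL, show f = fun _ => (1 : F) from funext hf1, monMat_one]; rfl)
      rwa [h1, mul_one, mul_eq_right] at hhg
    exact hci o (Equiv.congr_fun (hone (hf := fun i => div_ne_zero (hr0 _) (hr0 _)) this) o)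
  -- the trace
  have htr : ∑ j, f j = 0 := by
    have e1 : (monGL 1 f hf : Matrix ι ι F).trace = ∑ j, f j := by simp [Matrix.trace, monMat]
    have e2 : (h v : Matrix ι ι F).trace = 0 :=
      Finset.sum_eq_zero fun i _ => by simp [h, ratioGL, monMat, Ne.symm (hci i)]
    rw [← e1, ← e2, ← hxv]
    show Matrix.trace ((g⁻¹ * (h v * g) : GL ι F) : Matrix ι ι F) = _
    rw [Units.val_mul, Units.val_mul, Matrix.trace_mul_comm, mul_assoc, ← Units.val_mul,
      mul_inv_cancel, Units.val_one, mul_one]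
  obtain ⟨S, hS⟩ : ∃ S, S = Finset.univ.filter fun j => f j = 1 := ⟨_, rfl⟩
  have hsplit : ∀ u : F → F, (∏ j, u (f j)) = u 1 ^ S.card * u (-1) ^ (4 - S.card) := by
    intro u
    rw [← Finset.prod_filter_mul_prod_filter_not Finset.univ (fun j => f j = 1), ← hS]
    congr 1
    · exact Finset.prod_eq_pow_card fun j hj => by rw [hS, Finset.mem_filter] at hj; rw [hj.2]
    · rw [show (Finset.univ.filter fun j => ¬ f j = 1) = Finset.univ \ S by
        rw [hS, Finset.filter_not], ← hn, ← Finset.card_univ, ← Finset.card_sdiff_of_subset (Finset.subset_univ S)]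
      refine Finset.prod_eq_pow_card fun j hj => ?_
      rw [hS, Finset.mem_sdiff, Finset.mem_filter, not_and] at hj
      rw [(mul_self_eq_one_iff.1 (hff j)).resolve_left (hj.2 hj.1)]
  have hS2 : S.card = 2 := by
    have hs : ∑ j, f j = (S.card : F) * 2 - 4 := by
      have : ∀ j, f j = (if f j = 1 then (2 : F) else 0) - 1 := fun j => by
        rcases mul_self_eq_one_iff.1 (hff j) with e' | e' <;> rw [e']
        · rw [if_pos rfl]; norm_num
        · rw [if_neg fun e'' => h2 (by linear_combination -e'')]; ring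
      rw [Finset.sum_congr rfl fun j _ => this j, Finset.sum_sub_distrib, Finset.sum_ite,
        Finset.sum_const_zero, add_zero, ← hS, Finset.sum_const, Finset.sum_const, Finset.card_univ, hn]
      simp
    rw [htr] at hs
    have hle : S.card ≤ 4 := hn ▸ Finset.card_le_univ S
    have h4 : (4 : F) ≠ 0 := by
      rw [show (4 : F) = 2 * 2 by norm_num]; exact mul_ne_zero h2 h2
    interval_cases hcard : S.card
    · exact absurd (by push_cast at hs; linear_combination hs) h4
    · exact absurd (by push_cast at hs; linear_combination hs) h2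
    · rfl
    · exact absurd (by push_cast at hs; linear_combination -hs) h2
    · exact absurd (by push_cast at hs; linear_combination -hs) h4
  obtain ⟨a, ha⟩ : ∃ a, a = (ν + ν⁻¹) / 2 := ⟨_, rfl⟩
  obtain ⟨b, hb⟩ : ∃ b, b = (ν - ν⁻¹) / 2 := ⟨_, rfl⟩
  have hab1 : (a + b) * (a - b) = 1 := by rw [ha, hb]; field_simp; ring
  have hsum : ∀ j, a + b * f j ≠ 0 := fun j => by
    rcases mul_self_eq_one_iff.1 (hff j) with e' | e' <;> rw [e']
    · rw [mul_one]; exact left_ne_zero_of_mul (hab1 ▸ one_ne_zero)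
    · rw [mul_neg, mul_one, ← sub_eq_add_neg]; exact right_ne_zero_of_mul (hab1 ▸ one_ne_zero)
  have hdet : ∏ j, (a + b * f j) = 1 := by
    rw [hsplit fun t => a + b * t, hS2]
    linear_combination ((a + b) * (a - b) + 1) * hab1
  have hy := hM.mem 1 (fun j => a + b * f j) hsum (by simp [hdet])
  obtain ⟨y, hyd⟩ : ∃ y : GL ι F, y = g * monGL 1 (fun j => a + b * f j) hsum * g⁻¹ := ⟨_, rfl⟩
  have hyv : (y : Matrix ι ι F) = a • (1 : Matrix ι ι F) + b • (h v : Matrix ι ι F) := by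
    have e3 : monMat 1 (fun j => a + b * f j) = a • (1 : Matrix ι ι F) + b • monMat 1 f := by
      ext i j
      by_cases hij : i = j
      · subst hij; simp [monMat]
      · simp [monMat, hij]
    have e4 : (g : Matrix ι ι F) * monMat 1 f = (h v : Matrix ι ι F) * g := by
      rw [← coe_monGL 1 f hf, ← Units.val_mul, ← hhg, Units.val_mul]
    rw [hyd, Units.val_mul, Units.val_mul, coe_monGL, e3, mul_add, Matrix.mul_smul, Matrix.mul_smul,
      e4, mul_one, add_mul, Matrix.smul_mul, Matrix.smul_mul, Matrix.mul_assoc, ← Units.val_mul,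
      mul_inv_cancel, Units.val_one, mul_one]
  have ha0 : a ≠ 0 := fun e' => hν4 (by
    rw [ha, div_eq_zero_iff] at e'
    have := e'.resolve_right h2
    field_simp at this
    linear_combination (ν ^ 2 - 1) * this)
  have hb0 : b ≠ 0 := fun e' => hν4 (by
    rw [hb, div_eq_zero_iff] at e'
    have := e'.resolve_right h2
    field_simp at this
    linear_combination (ν ^ 2 + 1) * this)
  obtain ⟨q, -, hq⟩ := Finset.exists_mem_notMem_of_card_lt_card (s := ({o, c v o} : Finset ι))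
    (t := Finset.univ) (lt_of_le_of_lt Finset.card_le_two (by rw [Finset.card_univ]; omega))
  simp only [Finset.mem_insert, Finset.mem_singleton, not_or] at hq
  have hyM : y ∈ M := hyd ▸ mul_mem (mul_mem hg hy) (inv_mem hg)
  have hne : c v o ≠ o := hci o
  have hynm : ¬ Mono y := fun hm => hne (hm.one_col (q := o) (p := c v o) (p' := o)
    (by
      rw [hyv]
      simp only [h, ratioGL, Matrix.add_apply, Matrix.smul_apply, coe_monGL, monMat, Matrix.of_apply,
        Matrix.one_apply_ne hne, smul_eq_mul, mul_zero, zero_add, if_pos]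
      exact mul_ne_zero hb0 (div_ne_zero (hr0 _) (hr0 _)))
    (by
      rw [hyv]
      simp only [h, ratioGL, Matrix.add_apply, Matrix.smul_apply, coe_monGL, monMat, Matrix.of_apply,
        Matrix.one_apply_eq, smul_eq_mul, if_neg (Ne.symm hne), mul_zero, mul_one, add_zero]
      exact ha0))
  refine entry_ne_zero hM hN hM' hN' hn hν hν4 hyM hynm q o ?_
  rw [hyv]
  simp [h, ratioGL, monMat, Matrix.one_apply_ne hq.1, hq.2]

/-- Overgroups of the monomial group of determinant one in dimension four. -/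
theorem sl_le_monomial_four (hM : HasMonomials M) (hle : M ≤ Cfsg.Geo.specialLinear ι F)
    (h7 : 7 ≤ Fintype.card F) (hn : Fintype.card ι = 4) {g : GL ι F} (hg : g ∈ M)
    (hnm : ¬ IsBlockMono id (g : Matrix ι ι F)) : Cfsg.Geo.specialLinear ι F ≤ M := by
  by_contra hno
  have hM' : HasMonomials (M.map invTranspose) := fun y hy hym =>
    ⟨invTranspose y, hM _ (invTranspose_mem_sl hy) (mono_invTranspose (mono_of_isBlockMono hym)).isBlockMono,
      invTranspose_invTranspose y⟩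
  have hle' : M.map invTranspose ≤ Cfsg.Geo.specialLinear ι F := by
    rintro _ ⟨y, hy, rfl⟩
    exact invTranspose_mem_sl (hle hy)
  refine not_noFix_four hM ?_ hM' ?_ h7 hn hg fun h => hnm h.isBlockMono
  · intro x hx o hxo
    by_contra hxm
    exact hno (sl_le_of_fix_line hM hle (by omega) (by omega) hx hxo fun h => hxm (mono_of_isBlockMono h))
  · intro x hx o hxo
    by_contra hxm
    refine hno fun y hy => ?_
    obtain ⟨w, hw, hwy⟩ := sl_le_of_fix_line hM' hle' (by omega) (by omega) hx hxo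
      (fun h => hxm (mono_of_isBlockMono h)) (invTranspose_mem_sl hy)
    have := congrArg invTranspose hwy
    rw [invTranspose_invTranspose, invTranspose_invTranspose] at this
    exact this ▸ hw

end CfsgLib.MaxSub.DecompMax
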