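import Cfsg.Agent.Lib.MaxSub.MonoRoot

/-!
An overgroup of the monomial group with a non-monomial element fixing a coordinate line
contains `SL`.
-/

set_option autoImplicit false
set_option linter.unusedSectionVars false

namespace CfsgLib.MaxSub.DecompMax

open Matrix CfsgLib.MaxSub
open scoped MatrixGroups

variable {ι : Type} [Fintype ι] [DecidableEq ι] {F : Type*} [Field F] [Fintype F]

section Hom

variable {L : Subgroup (GL ι F)} {o : ι} (hfix : ∀ y ∈ L, Fixed o (y : Matrix ι ι F))
  (hdiag : ∀ (d : ι → F) (hd : ∀ i, d i ≠ 0), d o = 1 → monGL 1 d hd ∈ L)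
  (hperm : ∀ σ : Equiv.Perm ι, σ o = o → monGL σ (fun _ => (1 : F)) (fun _ => one_ne_zero) ∈ L)

include hfix in
theorem hom_fixed (h5 : 5 ≤ Fintype.card F) {u φ : ι → F} (h : HasHom L u φ) :
    u o = 0 ∧ φ o = 0 := by
  classical
  obtain ⟨c, hc⟩ := exists_ne_zero_one h5 {0, 1} (le_trans Finset.card_le_two (by omega))
  simp only [Finset.mem_insert, Finset.mem_singleton, not_or] at hc
  obtain ⟨g, hg, hgv⟩ := h.2 c hc.1
  have key : ∀ l, u l * φ o = 0 ∧ u o * φ l = 0 := fun l => by
    obtain ⟨h1, h2⟩ := hfix g hg l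
    rw [hgv, homMat, Matrix.add_apply, Matrix.one_apply, Matrix.smul_apply, vecMulVec_apply,
      smul_eq_mul] at h1 h2
    refine ⟨?_, ?_⟩
    · have : (c - 1) * (u l * φ o) = 0 := by simpa using h1
      exact (mul_eq_zero.1 this).resolve_left (sub_ne_zero.2 hc.2)
    · by_cases e : o = l
      · subst e
        have : (c - 1) * (u o * φ o) = 0 := by simpa using h2
        exact (mul_eq_zero.1 this).resolve_left (sub_ne_zero.2 hc.2)
      · have : (c - 1) * (u o * φ l) = 0 := by simpa [e, Ne.symm e] using h2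
        exact (mul_eq_zero.1 this).resolve_left (sub_ne_zero.2 hc.2)
  have hu : u ≠ 0 := fun e => by
    have := h.1
    simp [e] at this
  have hφ : φ ≠ 0 := fun e => by
    have := h.1
    simp [e] at this
  obtain ⟨l, hl⟩ := Function.ne_iff.1 hu
  obtain ⟨k, hk⟩ := Function.ne_iff.1 hφ
  exact ⟨(mul_eq_zero.1 (key k).2).resolve_right hk, (mul_eq_zero.1 (key l).1).resolve_left hl⟩

include hdiag in
theorem hom_basis {l : ι} (hl : l ≠ o) :
    HasHom L (Pi.single l (1 : F)) (Pi.single l 1) := by
  refine ⟨by simp, fun c hc => ⟨_, hdiag (Function.update (fun _ => 1) l c)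
    (fun i => by by_cases e : i = l <;> simp [e, hc]) (by simp [hl.symm]), ?_⟩⟩
  ext i j
  rw [coe_monGL, homMat, Matrix.add_apply, Matrix.smul_apply, vecMulVec_apply, Matrix.one_apply]
  by_cases hij : i = j
  · subst hij
    by_cases hil : i = l
    · subst hil; simp [monMat]
    · simp [monMat, hil]
  · by_cases hil : i = l
    · subst hil; simp [monMat, hij, Ne.symm hij]
    · simp [monMat, hij, Pi.single_eq_of_ne hil]

include hdiag in
theorem hom_diag {u φ : ι → F} (h : HasHom L u φ) (d : ι → F) (hd : ∀ i, d i ≠ 0) (hdo : d o = 1) :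
    HasHom L (fun j => d j * u j) (fun j => φ j / d j) := by
  have h' := h.conj (hdiag d hd hdo)
  convert h' using 1
  · funext j
    exact (monMat_mulVec 1 d u j).symm
  · funext j
    show φ j / d j = (φ ᵥ* monMat 1⁻¹ (fun i => (d ((1 : Equiv.Perm ι)⁻¹ i))⁻¹)) j
    rw [vecMul_monMat, div_eq_mul_inv]
    simp

include hperm in
theorem hom_perm {u φ : ι → F} (h : HasHom L u φ) (σ : Equiv.Perm ι) (hσ : σ o = o) :
    HasHom L (fun j => u (σ⁻¹ j)) (fun j => φ (σ⁻¹ j)) := by
  have h' := h.conj (hperm σ hσ)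
  convert h' using 1
  · funext j
    have := monMat_mulVec σ (fun _ => (1 : F)) u (σ⁻¹ j)
    rw [show σ (σ⁻¹ j) = j from σ.apply_symm_apply j, one_mul] at this
    rw [coe_monGL, this]
  · funext j
    show φ (σ⁻¹ j) = (φ ᵥ* monMat σ⁻¹ (fun _ => ((1 : F))⁻¹)) j
    rw [vecMul_monMat, inv_one, mul_one]

include hfix hdiag in
theorem hom_core (h5 : 5 ≤ Fintype.card F) {u φ : ι → F} (h : HasHom L u φ)
    (h2 : ∃ p q, p ≠ q ∧ u p ≠ 0 ∧ u q ≠ 0) :
    HasRoot L ∨ ∃ p q, p ≠ q ∧ u p ≠ 0 ∧ u q ≠ 0 ∧ (∀ l, l ≠ p → l ≠ q → u l = 0 ∧ φ l = 0) ∧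
      u p * φ p = u q * φ q ∧ u p * φ p + u q * φ q = 1 := by
  classical
  obtain ⟨huo, hφo⟩ := hom_fixed hfix h5 h
  have hu : u ≠ 0 := fun e => by
    have := h.1
    simp [e] at this
  have hφ : φ ≠ 0 := fun e => by
    have := h.1
    simp [e] at this
  by_cases hA : ∃ k, u k ≠ 0 ∧ φ k = 0
  · obtain ⟨k, hk1, hk2⟩ := hA
    have hko : k ≠ o := fun e => hk1 (e ▸ huo)
    left
    refine root_of_tv hfix hdiag h5 (by simp) hφ fun c => tv_of_hom h5 (hom_basis hdiag hko) h
      (by simp [hk2]) (by simpa using hk1) c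
  by_cases hB : ∃ k, φ k ≠ 0 ∧ u k = 0
  · obtain ⟨k, hk1, hk2⟩ := hB
    have hko : k ≠ o := fun e => hk1 (e ▸ hφo)
    left
    refine root_of_tv (ψ := Pi.single k 1) hfix hdiag h5 hu (by simp) fun c =>
      tv_of_hom h5 h (hom_basis hdiag hko) (by simp [hk2]) (by simpa using hk1) c
  push Not at hA hB
  obtain ⟨p, q, hpq, hp, hq⟩ := h2
  set a : ι → F := fun l => u l * φ l with ha
  have ha0 : ∀ l, u l ≠ 0 → a l ≠ 0 := fun l hl => mul_ne_zero hl (hA l hl)
  have hsum : ∑ l, a l = 1 := by
    rw [← h.1, dotProduct]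
    exact Finset.sum_congr rfl fun l _ => mul_comm _ _
  have finish : (∃ t : ι → F, (∀ l, t l ≠ 0) ∧ ∑ l, a l * t l = 0 ∧ ∑ l, a l / t l ≠ 0) →
      HasRoot L := by
    rintro ⟨t, ht, ht1, ht2⟩
    let d : ι → F := Function.update t o 1
    have hd : ∀ l, d l ≠ 0 := fun l => by by_cases e : l = o <;> simp [d, e, ht]
    have hv := hom_diag hdiag h d hd (by simp [d])
    have e1 : φ ⬝ᵥ (fun j => d j * u j) = 0 := by
      rw [← ht1, dotProduct]
      refine Finset.sum_congr rfl fun l _ => ?_
      by_cases e : l = o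
      · subst e; simp [ha, huo]
      · simp only [ha, d, Function.update_of_ne e]; ring
    have e2 : (fun j => φ j / d j) ⬝ᵥ u ≠ 0 := by
      refine fun e => ht2 (e ▸ ?_)
      rw [dotProduct]
      refine Finset.sum_congr rfl fun l _ => ?_
      by_cases e : l = o
      · subst e; simp [ha, huo]
      · simp only [ha, d, Function.update_of_ne e]; ring
    refine root_of_tv hfix hdiag h5 ?_ hφ fun c => tv_of_hom h5 hv h e1 e2 c
    exact fun e => hp ((mul_eq_zero.1 (congrFun e p)).resolve_left (hd p))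
  by_cases h3 : ∃ r, r ≠ p ∧ r ≠ q ∧ u r ≠ 0
  · obtain ⟨r, hrp, hrq, hr⟩ := h3
    exact .inl (finish (exists_weight h5 a
      (.inl ⟨p, q, r, hpq, hrp.symm, hrq.symm, ha0 p hp, ha0 q hq, ha0 r hr⟩)))
  push Not at h3
  have hz : ∀ l, l ≠ p → l ≠ q → u l = 0 := h3
  have haz : ∀ l, l ≠ p → l ≠ q → a l = 0 := fun l h1 h2 => by simp [ha, hz l h1 h2]
  have hs : a p + a q = 1 := by
    rw [← hsum, ← Finset.sum_subset (Finset.subset_univ {p, q}) (fun l _ hl => by
      simp only [Finset.mem_insert, Finset.mem_singleton, not_or] at hl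
      exact haz l hl.1 hl.2), Finset.sum_pair hpq]
  by_cases he : a p = a q
  · refine .inr ⟨p, q, hpq, hp, hq, fun l h1 h2 => ⟨hz l h1 h2, ?_⟩, he, hs⟩
    by_contra hl
    exact hB l hl (hz l h1 h2)
  · exact .inl (finish (exists_weight h5 a (.inr ⟨p, q, hpq, ha0 p hp, ha0 q hq,
      by rw [hs]; exact one_ne_zero, he, haz⟩)))

include hfix hdiag hperm in
/-- A group on a hyperplane of coordinates with all monomials and another element has a root
transvection. -/
theorem root_of_hyperplane (h5 : 5 ≤ Fintype.card F) (hn : 4 ≤ Fintype.card ι) {g : GL ι F}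
    (hg : g ∈ L) {i k1 k2 : ι} (hk : k1 ≠ k2) (h1 : (g : Matrix ι ι F) k1 i ≠ 0)
    (h2 : (g : Matrix ι ι F) k2 i ≠ 0) : HasRoot L := by
  classical
  have hio : i ≠ o := by
    rintro rfl
    obtain ⟨e1, -⟩ := hfix g hg k1
    obtain ⟨e2, -⟩ := hfix g hg k2
    by_cases e : k1 = i
    · exact h2 (by rw [e2, if_neg fun e' => hk (e.trans e'.symm)])
    · exact h1 (by rw [e1, if_neg e])
  have h := (hom_basis hdiag hio).conj hg
  rcases hom_core hfix hdiag h5 h ⟨k1, k2, hk, by simpa using h1, by simpa using h2⟩ with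
    hr | ⟨p, q, hpq, hp, hq, hz, he, hs⟩
  · exact hr
  set u := (g : Matrix ι ι F) *ᵥ Pi.single i (1 : F)
  set φ := (Pi.single i (1 : F)) ᵥ* ((g⁻¹ : GL ι F) : Matrix ι ι F)
  obtain ⟨huo, -⟩ := hom_fixed hfix h5 h
  have hpo : p ≠ o := fun e => hp (e ▸ huo)
  have hqo : q ≠ o := fun e => hq (e ▸ huo)
  obtain ⟨r, hro, hrp, hrq⟩ := exists_notMem_three hn o p q
  have hv := hom_perm hperm h (Equiv.swap p r) (Equiv.swap_apply_of_ne_of_ne hpo.symm hro.symm)
  set v := fun j => u ((Equiv.swap p r)⁻¹ j) with hvdef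
  obtain ⟨hur, -⟩ := hz r hrp hrq
  have hvp : v p = 0 := by simp [hvdef, hur]
  have hvr : v r = u p := by simp [hvdef]
  have hvq : v q = u q := by simp [hvdef, Equiv.swap_apply_of_ne_of_ne hpq.symm hrq.symm]
  have hφv : φ ⬝ᵥ v = u q * φ q := by
    rw [dotProduct, Finset.sum_eq_single q]
    · rw [hvq, mul_comm]
    · intro l _ hl
      by_cases e : l = p
      · subst e; rw [hvp, mul_zero]
      · rw [(hz l e hl).2, zero_mul]
    · simp
  obtain ⟨lam, hlam⟩ := exists_ne_zero_one h5 {0, 1, -1}
    (le_trans Finset.card_le_three (by omega))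
  simp only [Finset.mem_insert, Finset.mem_singleton, not_or] at hlam
  obtain ⟨X, hX, hXv⟩ := h.2 lam hlam.1
  have hnew := hv.conj hX
  have hc : ∀ j, ((X : Matrix ι ι F) *ᵥ v) j = v j + (lam - 1) * (u q * φ q) * u j := fun j => by
    rw [hXv, homMat, add_mulVec, one_mulVec, smul_mulVec, vecMulVec_mulVec, hφv]
    simp; ring
  have hap : u q * φ q ≠ 0 := fun e => by
    rw [he, e, add_zero] at hs
    exact zero_ne_one hs
  have cp : ((X : Matrix ι ι F) *ᵥ v) p ≠ 0 := by
    rw [hc, hvp, zero_add]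
    exact mul_ne_zero (mul_ne_zero (sub_ne_zero.2 hlam.2.1) hap) hp
  have cq : ((X : Matrix ι ι F) *ᵥ v) q ≠ 0 := by
    rw [hc, hvq]
    intro e
    have hf : (1 + (lam - 1) * (u q * φ q)) = 0 :=
      (mul_eq_zero.1 (show (1 + (lam - 1) * (u q * φ q)) * u q = 0 by linear_combination e)).resolve_right hq
    refine hlam.2.2 ?_
    rw [he] at hs
    linear_combination 2 * hf - (lam - 1) * hs
  have cr : ((X : Matrix ι ι F) *ᵥ v) r ≠ 0 := by
    rw [hc, hvr, hur, mul_zero, add_zero]
    exact hp
  rcases hom_core hfix hdiag h5 hnew ⟨p, q, hpq, cp, cq⟩ with hr | ⟨p', q', -, -, -, hz', -, -⟩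
  · exact hr
  · exfalso
    have hin : ∀ l, ((X : Matrix ι ι F) *ᵥ v) l ≠ 0 → l = p' ∨ l = q' := fun l hl => by
      by_contra hno
      push Not at hno
      exact hl (hz' l hno.1 hno.2).1
    rcases hin p cp with e1 | e1 <;> rcases hin q cq with e2 | e2 <;> rcases hin r cr with e3 | e3 <;>
      first
        | exact hpq (e1.trans e2.symm)
        | exact hrp (e3.trans e1.symm)
        | exact hrq (e3.trans e2.symm)

end Hom

/-- The stabiliser of the line of `e_o`. -/
def lineStab (o : ι) : Subgroup (GL ι F) where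
  carrier := {x | ∀ l, l ≠ o → (x : Matrix ι ι F) l o = 0}
  one_mem' := fun l hl => by simp [hl]
  mul_mem' := fun {a b} ha hb l hl => by
    rw [Units.val_mul, Matrix.mul_apply, Finset.sum_eq_single o]
    · rw [ha l hl, zero_mul]
    · intro k _ hk
      rw [hb k hk, mul_zero]
    · simp
  inv_mem' := fun {x} hx l hl => by
    have h : ∀ l, ((x⁻¹ : GL ι F) : Matrix ι ι F) l o * (x : Matrix ι ι F) o o =
        (1 : Matrix ι ι F) l o := fun l => by
      rw [← Units.val_one, ← inv_mul_cancel x, Units.val_mul, Matrix.mul_apply,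
        Finset.sum_eq_single o]
      · intro k _ hk
        rw [hx k hk, mul_zero]
      · simp
    have hne : (x : Matrix ι ι F) o o ≠ 0 := fun e => by simpa [e] using h o
    have := h l
    rw [Matrix.one_apply_ne hl] at this
    exact (mul_eq_zero.1 this).resolve_right hne

/-- The block of a matrix away from `o`. -/
def blockMat (o : ι) (A : Matrix ι ι F) : Matrix ι ι F :=
  fun i j => if i = o ∨ j = o then (1 : Matrix ι ι F) i j else A i j

theorem blockMat_mul (o : ι) {A B : Matrix ι ι F} (hA : ∀ l, l ≠ o → A l o = 0) :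
    blockMat o A * blockMat o B = blockMat o (A * B) := by
  ext i j
  rw [Matrix.mul_apply]
  by_cases hi : i = o
  · subst hi
    rw [Finset.sum_eq_single i]
    · simp [blockMat]
    · intro k _ hk
      simp [blockMat, Ne.symm hk]
    · simp
  by_cases hj : j = o
  · subst hj
    rw [Finset.sum_eq_single j]
    · simp [blockMat, hi]
    · intro k _ hk
      simp [blockMat, hk]
    · simp
  rw [show blockMat o (A * B) i j = (A * B) i j by simp [blockMat, hi, hj], Matrix.mul_apply]
  refine Finset.sum_congr rfl fun k _ => ?_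
  by_cases hk : k = o
  · subst hk
    simp [blockMat, hi, hA i hi]
  · simp [blockMat, hi, hj, hk]

theorem blockMat_one (o : ι) : blockMat o (1 : Matrix ι ι F) = 1 := by
  ext i j
  simp [blockMat]

/-- Passing to the block. -/
noncomputable def blockHom (o : ι) : ↥(lineStab (F := F) o) →* GL ι F where
  toFun x :=
    { val := blockMat o ((x : GL ι F) : Matrix ι ι F)
      inv := blockMat o (((x : GL ι F)⁻¹ : GL ι F) : Matrix ι ι F)
      val_inv := by
        rw [blockMat_mul o x.2, ← Units.val_mul, mul_inv_cancel, Units.val_one, blockMat_one]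
      inv_val := by
        rw [blockMat_mul o (inv_mem x.2 : (x : GL ι F)⁻¹ ∈ lineStab o), ← Units.val_mul,
          inv_mul_cancel, Units.val_one, blockMat_one] }
  map_one' := Units.ext (blockMat_one o)
  map_mul' a b := Units.ext (blockMat_mul o a.2).symm

@[simp] theorem coe_blockHom (o : ι) (x : ↥(lineStab (F := F) o)) :
    (blockHom o x : Matrix ι ι F) = blockMat o ((x : GL ι F) : Matrix ι ι F) := rfl

theorem fixed_blockMat (o : ι) (A : Matrix ι ι F) : Fixed o (blockMat o A) := fun l => by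
  constructor
  · simp [blockMat, Matrix.one_apply]
  · simp [blockMat, Matrix.one_apply, eq_comm]

theorem lineStab_corner_ne (o : ι) (x : ↥(lineStab (F := F) o)) :
    ((x : GL ι F) : Matrix ι ι F) o o ≠ 0 := fun e => by
  have h : (1 : Matrix ι ι F) o o = 0 := by
    rw [← Units.val_one, ← inv_mul_cancel (x : GL ι F), Units.val_mul, Matrix.mul_apply,
      Finset.sum_eq_single o]
    · rw [e, mul_zero]
    · intro k _ hk
      rw [x.2 k hk, mul_zero]
    · simp
  simp at h

theorem mul_monMat_diag (A : Matrix ι ι F) (d : ι → F) (i j : ι) :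
    (A * monMat 1 d) i j = A i j * d j := by
  rw [Matrix.mul_apply, Finset.sum_eq_single j]
  · simp [monMat]
  · intro k _ hk
    simp [monMat, hk]
  · simp

/-- `x = T(e_o, w) · block · diag`. -/
theorem exists_split_line (o : ι) (x : ↥(lineStab (F := F) o)) :
    ∃ (w : ι → F) (h0 : w ⬝ᵥ Pi.single o 1 = 0),
      (x : GL ι F) = tvGL (Pi.single o 1) w h0 * (blockHom o x *
        monGL 1 (Function.update (fun _ => 1) o (((x : GL ι F) : Matrix ι ι F) o o))
          (fun i => by by_cases e : i = o <;> simp [e, lineStab_corner_ne o x])) := by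
  set A := ((x : GL ι F) : Matrix ι ι F) with hA
  set m : GL ι F := blockHom o x * monGL 1 (Function.update (fun _ => 1) o (A o o))
    (fun i => by by_cases e : i = o <;> simp [e, A, lineStab_corner_ne o x]) with hm
  have hme : ∀ i j, (m : Matrix ι ι F) i j =
      blockMat o A i j * Function.update (fun _ => (1 : F)) o (A o o) j := fun i j => by
    rw [hm, Units.val_mul, coe_monGL, coe_blockHom, mul_monMat_diag]
  let w : ι → F := fun j => if j = o then 0 else A o j
  have hcol : ((m⁻¹ : GL ι F) : Matrix ι ι F) *ᵥ Pi.single o 1 = (A o o)⁻¹ • Pi.single o 1 := by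
    have h : (m : Matrix ι ι F) *ᵥ ((A o o)⁻¹ • Pi.single o 1) = Pi.single o 1 := by
      funext i
      rw [mulVec_smul, Pi.smul_apply, mulVec_single_one, col_apply, hme, Function.update_self,
        smul_eq_mul]
      by_cases hi : i = o
      · subst hi
        simp [blockMat, inv_mul_cancel₀, lineStab_corner_ne i x, A]
      · simp [blockMat, hi]
    conv_lhs => rw [← h]
    rw [inv_mulVec_mulVec]
  have h0 : (w ᵥ* ((m⁻¹ : GL ι F) : Matrix ι ι F)) ⬝ᵥ Pi.single o 1 = 0 := by
    rw [vecMul_inv_dotProduct, hcol, dotProduct_smul, dotProduct_single]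
    simp [w]
  refine ⟨_, h0, Units.ext ?_⟩
  rw [Units.val_mul, coe_tvGL, tvMat, add_mul, one_mul, vecMulVec_mul, vecMul_vecMul,
    ← Units.val_mul, inv_mul_cancel, Units.val_one, vecMul_one]
  ext i j
  rw [Matrix.add_apply, vecMulVec_apply, hme]
  by_cases hi : i = o
  · subst hi
    by_cases hj : j = i
    · subst hj; simp [blockMat, w, A]
    · simp [blockMat, w, hj, Ne.symm hj, A]
  · by_cases hj : j = o
    · subst hj
      simp [blockMat, hi, x.2 i hi]
    · simp [blockMat, hi, hj, A]

theorem monGL_conj_tvGL (d : ι → F) (hd : ∀ i, d i ≠ 0) (a φ : ι → F) (h : φ ⬝ᵥ a = 0)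
    (h' : (fun j => φ j / d j) ⬝ᵥ (fun j => d j * a j) = 0) :
    monGL 1 d hd * tvGL a φ h * (monGL 1 d hd)⁻¹ =
      tvGL (fun j => d j * a j) (fun j => φ j / d j) h' := by
  refine Units.ext ?_
  rw [Units.val_mul, Units.val_mul, coe_tvGL, coe_tvGL, mul_tvMat_mul _ _ _ _ (by
    rw [← Units.val_mul, mul_inv_cancel, Units.val_one])]
  congr 1
  · funext j
    exact monMat_mulVec 1 d a j
  · funext j
    show (φ ᵥ* monMat 1⁻¹ (fun i => (d ((1 : Equiv.Perm ι)⁻¹ i))⁻¹)) j = φ j / d j
    rw [vecMul_monMat, div_eq_mul_inv]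
    simp

/-- An element of `M` fixing a coordinate line, not monomial, forces `SL ≤ M`. -/
theorem sl_le_of_fix_line {M : Subgroup (GL ι F)} (hM : HasMonomials M)
    (hle : M ≤ Cfsg.Geo.specialLinear ι F) (h5 : 5 ≤ Fintype.card F) (hn : 4 ≤ Fintype.card ι)
    {o : ι} {x : GL ι F} (hx : x ∈ M) (hxo : x ∈ lineStab o)
    (hnm : ¬ IsBlockMono id (x : Matrix ι ι F)) : Cfsg.Geo.specialLinear ι F ≤ M := by
  classical
  suffices h : HasRoot M by
    obtain ⟨i, j, hij, c, hc, h⟩ := h
    exact sl_le_of_root hM (by omega) hij hc h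
  have mono_diag : ∀ (A : Matrix ι ι F) (d : ι → F), IsBlockMono id A →
      IsBlockMono id (A * monMat 1 d) := fun A d h a => by
    obtain ⟨b, hb⟩ := h a
    exact ⟨b, fun i j hi hj => by rw [mul_monMat_diag, hb i j hi hj, zero_mul]⟩
  by_cases hy : IsBlockMono id (blockMat o (x : Matrix ι ι F))
  · obtain ⟨w, h0, e⟩ := exists_split_line o ⟨x, hxo⟩
    set m := blockHom o (⟨x, hxo⟩ : ↥(lineStab (F := F) o)) * monGL 1 _ _ with hm
    replace e : x = tvGL (Pi.single o 1) w h0 * m := e
    have hmm : IsBlockMono id (m : Matrix ι ι F) := by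
      rw [hm, Units.val_mul, coe_monGL, coe_blockHom]
      exact mono_diag _ _ hy
    have hmS : m ∈ Cfsg.Geo.specialLinear ι F := by
      have h := hle hx
      rw [e] at h
      exact (Subgroup.mul_mem_cancel_left _ (tvGL_mem_specialLinear _ _ h0)).1 h
    have hT : tvGL (Pi.single o 1) w h0 ∈ M := by
      have h := hx
      rw [e] at h
      exact (Subgroup.mul_mem_cancel_right _ (hM m hmS hmm)).1 h
    refine root_of_center hM h5 hn ((hasTv_iff h0).2 hT) ?_
    rintro rfl
    refine hnm ?_
    have : x = m := by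
      rw [show x = _ from e, show tvGL (Pi.single o (1 : F)) 0 h0 = 1 from Units.ext (tvMat_zero _),
        one_mul]
    rw [this]
    exact hmm
  · let L : Subgroup (GL ι F) := (M.subgroupOf (lineStab o)).map (blockHom o)
    have hfix : ∀ y ∈ L, Fixed o (y : Matrix ι ι F) := by
      rintro _ ⟨z, -, rfl⟩
      exact fixed_blockMat o _
    have hdiag : ∀ (d : ι → F) (hd : ∀ i, d i ≠ 0), d o = 1 → monGL 1 d hd ∈ L := by
      intro d hd hdo
      let e : ι → F := Function.update d o (∏ i, d i)⁻¹
      have hp : ∏ i, d i ≠ 0 := Finset.prod_ne_zero_iff.2 fun i _ => hd i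
      have he : ∀ i, e i ≠ 0 := fun i => by
        by_cases h : i = o <;> simp [e, h, hd, hp]
      have hprod : ∏ i, e i = 1 := by
        have h1 : ∏ i ∈ Finset.univ \ {o}, d i = ∏ i, d i := by
          rw [Finset.prod_eq_mul_prod_sdiff_singleton_of_mem (Finset.mem_univ o) d, hdo, one_mul]
        rw [Finset.prod_update_of_mem (Finset.mem_univ o), h1, inv_mul_cancel₀ hp]
      have hmem : monGL 1 e he ∈ M := hM.mem 1 e he (by simp [hprod])
      have hls : monGL 1 e he ∈ lineStab o := fun l hl => by simp [monMat, hl]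
      refine ⟨⟨_, hls⟩, hmem, Units.ext ?_⟩
      ext i j
      rw [coe_blockHom, coe_monGL]
      by_cases hi : i = o
      · subst hi
        by_cases hj : j = i
        · subst hj; simp [blockMat, monMat, hdo]
        · simp [blockMat, monMat, Ne.symm hj]
      · by_cases hj : j = o
        · subst hj; simp [blockMat, monMat, hi]
        · by_cases hij : i = j <;> simp [blockMat, monMat, hi, hj, e, hij]
    have hperm : ∀ σ : Equiv.Perm ι, σ o = o →
        monGL σ (fun _ => (1 : F)) (fun _ => one_ne_zero) ∈ L := by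
      intro σ hσ
      set s : F := ((Equiv.Perm.sign σ : ℤ) : F) with hs
      have hss : s * s = 1 := by
        rw [hs, ← Int.cast_mul, ← Units.val_mul, Int.units_mul_self]
        simp
      have hs0 : s ≠ 0 := left_ne_zero_of_mul (hss ▸ one_ne_zero)
      let e : ι → F := Function.update (fun _ => 1) o s
      have he : ∀ i, e i ≠ 0 := fun i => by by_cases h : i = o <;> simp [e, h, hs0]
      have hmem : monGL σ e he ∈ M := hM.mem σ e he (by rw [prod_update_one]; exact hss)
      have hls : monGL σ e he ∈ lineStab o := fun l hl => by simp [monMat, hσ, hl]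
      refine ⟨⟨_, hls⟩, hmem, Units.ext ?_⟩
      ext i j
      rw [coe_blockHom, coe_monGL]
      by_cases hj : j = o
      · subst hj
        by_cases hi : i = j
        · subst hi; simp [blockMat, monMat, hσ]
        · simp [blockMat, monMat, hσ, hi]
      · by_cases hi : i = o
        · subst hi
          have : ¬ i = σ j := fun e' => hj (σ.injective (e'.symm.trans hσ.symm))
          simp [blockMat, monMat, this, Ne.symm hj]
        · simp [blockMat, monMat, hi, hj, e]
    obtain ⟨k1, k2, i, hk, h1, h2⟩ : ∃ k1 k2 i, k1 ≠ k2 ∧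
        blockMat o (x : Matrix ι ι F) k1 i ≠ 0 ∧ blockMat o (x : Matrix ι ι F) k2 i ≠ 0 := by
      by_contra hno
      push Not at hno
      refine hy fun a => ?_
      by_cases hz : ∃ k, blockMat o (x : Matrix ι ι F) k a ≠ 0
      · obtain ⟨k, hk⟩ := hz
        exact ⟨k, fun i j hi hj => by
          simp only [id_eq] at hi hj
          subst hi
          exact hno k j i (Ne.symm hj) hk⟩
      · push Not at hz
        exact ⟨a, fun i j hi _ => by rw [show i = a from hi]; exact hz j⟩
    have hgL : blockHom o ⟨x, hxo⟩ ∈ L := ⟨⟨x, hxo⟩, hx, rfl⟩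
    obtain ⟨i, j, hij, c, hc, hroot⟩ := root_of_hyperplane hfix hdiag hperm h5 hn hgL hk h1 h2
    obtain ⟨hio, hjo⟩ := tv_fixed hfix hroot (by simpa using hc) (by simp)
    have hio' : i ≠ o := fun e => hc (by simpa [e] using hio)
    have hjo' : j ≠ o := fun e => by simp [e] at hjo
    obtain ⟨h0t, g, hgL', hgv⟩ := hroot
    obtain ⟨z, hzM, rfl⟩ := hgL'
    obtain ⟨w, h0, e⟩ := exists_split_line o z
    have ht : blockHom o z = tvGL (Pi.single i c) (Pi.single j 1) h0t := Units.ext hgv
    rw [ht] at e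
    -- the corner is one
    have hcorner : ((z : GL ι F) : Matrix ι ι F) o o = 1 := by
      have h := hle hzM
      rw [Subgroup.coe_subtype, e, Subgroup.mul_mem_cancel_left _ (tvGL_mem_specialLinear _ _ h0),
        Subgroup.mul_mem_cancel_left _ (tvGL_mem_specialLinear _ _ h0t), mem_sl_iff, coe_monGL,
        det_monMat, prod_update_one] at h
      simpa using h
    set t := tvGL (Pi.single i c) (Pi.single j (1 : F)) h0t with htdef
    have hD : ∀ h, monGL (1 : Equiv.Perm ι)
        (Function.update (fun _ => (1 : F)) o (((z : GL ι F) : Matrix ι ι F) o o)) h = 1 :=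
      fun h => Units.ext (by rw [coe_monGL, hcorner, Function.update_eq_self, monMat_one]; rfl)
    rw [hD, mul_one] at e
    have hz : tvGL (Pi.single o 1) w h0 * t ∈ M := e ▸ hzM
    obtain ⟨a, hao, hai, haj⟩ := exists_notMem_three hn o i j
    obtain ⟨ν, hν⟩ := exists_ne_zero_one h5 {0, 1, -1} (le_trans Finset.card_le_three (by omega))
    simp only [Finset.mem_insert, Finset.mem_singleton, not_or] at hν
    have hh := hM.twoDiag_mem hao.symm hν.1
    set d := twoDiag o a ν with hd
    have hdi : d i = 1 := by simp [hd, twoDiag, hio', Ne.symm hai]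
    have hdj : d j = 1 := by simp [hd, twoDiag, hjo', Ne.symm haj]
    have hti : (fun l => d l * (Pi.single i c : ι → F) l) = Pi.single i c := by
      funext l; by_cases hl : l = i
      · subst hl; simp [hdi]
      · simp [Pi.single_eq_of_ne hl]
    have htj : (fun l => (Pi.single j (1 : F) : ι → F) l / d l) = Pi.single j 1 := by
      funext l; by_cases hl : l = j
      · subst hl; simp [hdj]
      · simp [Pi.single_eq_of_ne hl]
    have hdo : d o = ν := by simp [hd, twoDiag]
    have hTo : (fun l => d l * (Pi.single o 1 : ι → F) l) = ν • Pi.single o 1 := by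
      funext l; by_cases hl : l = o
      · subst hl; simp [hdo]
      · simp [Pi.single_eq_of_ne hl]
    have hh0 : (fun l => w l / d l) ⬝ᵥ (fun l => d l * (Pi.single o 1 : ι → F) l) = 0 := by
      rw [hTo, dotProduct_smul, dotProduct_single]
      rw [dotProduct_single, mul_one] at h0
      simp [h0]
    have key := mul_mem (mul_mem (mul_mem hh hz) (inv_mem hh)) (inv_mem hz)
    set h := monGL 1 d (twoDiag_ne hν.1) with hhdef
    have e2 : h * t * h⁻¹ = t := by
      rw [hhdef, htdef, monGL_conj_tvGL d _ _ _ h0t (by rw [hti, htj]; exact h0t)]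
      exact Units.ext (by rw [coe_tvGL, coe_tvGL, hti, htj])
    have e3 : h * (tvGL (Pi.single o 1) w h0 * t) * h⁻¹ * (tvGL (Pi.single o 1) w h0 * t)⁻¹ =
        (h * tvGL (Pi.single o 1) w h0 * h⁻¹) * (tvGL (Pi.single o 1) w h0)⁻¹ := by
      calc _ = (h * tvGL (Pi.single o 1) w h0 * h⁻¹) * (h * t * h⁻¹) * t⁻¹ *
            (tvGL (Pi.single o 1) w h0)⁻¹ := by group
        _ = _ := by rw [e2]; group
    rw [e3, hhdef, monGL_conj_tvGL d _ _ _ h0 hh0] at key
    set w' : ι → F := ν • (fun l => w l / d l) - w with hw'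
    have hw'0 : w' ⬝ᵥ Pi.single o 1 = 0 := by
      rw [dotProduct_single, mul_one] at h0
      simp [hw', h0]
    have hw'M : HasTv M (Pi.single o 1) w' := by
      refine ⟨hw'0, _, key, ?_⟩
      rw [Units.val_mul, coe_tvGL, hTo, tvMat_smul]
      show _ * tvMat (Pi.single o 1) (-w) = _
      rw [tvMat_mul_same_center _ _ _ ?_, hw', sub_eq_add_neg]
      rw [dotProduct_single, mul_one] at h0
      simp [h0]
    by_cases hw0 : w' = 0
    · have hw : w = 0 := by
        funext l
        have hl := congrFun hw0 l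
        by_cases hlo : l = o
        · subst hlo
          rw [dotProduct_single, mul_one] at h0
          exact h0
        · simp only [hw', Pi.sub_apply, Pi.smul_apply, smul_eq_mul, Pi.zero_apply] at hl
          by_cases hla : l = a
          · subst hla
            rw [show d l = ν⁻¹ by simp [hd, twoDiag, hlo]] at hl
            rw [div_inv_eq_mul] at hl
            have : (ν - 1) * (ν + 1) * w l = 0 := by linear_combination hl
            refine (mul_eq_zero.1 this).resolve_left (mul_ne_zero (sub_ne_zero.2 hν.2.1) ?_)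
            intro e'; exact hν.2.2 (by linear_combination e')
          · rw [show d l = 1 by simp [hd, twoDiag, hlo, hla], div_one] at hl
            have : (ν - 1) * w l = 0 := by linear_combination hl
            exact (mul_eq_zero.1 this).resolve_left (sub_ne_zero.2 hν.2.1)
      subst hw
      rw [show tvGL (Pi.single o (1 : F)) 0 h0 = 1 from Units.ext (tvMat_zero _), one_mul] at hz
      exact ⟨i, j, hij, c, hc, (hasTv_iff h0t).2 hz⟩
    · exact root_of_center hM h5 hn hw'M hw0

end CfsgLib.MaxSub.DecompMax
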