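import Cfsg.Agent.Lib.MaxSub.BlockMono

/-!
An overgroup of the monomial group in `SL` with a non-monomial element fixing a coordinate line
contains `SL`.
-/

set_option autoImplicit false
set_option linter.unusedSectionVars false

namespace CfsgLib.MaxSub.DecompMax

open Matrix CfsgLib.MaxSub
open scoped MatrixGroups

variable {ι : Type} [Fintype ι] [DecidableEq ι] {F : Type*} [Field F]

/-- Root transvection in a group. -/
def HasRoot (M : Subgroup (GL ι F)) : Prop :=
  ∃ i j : ι, i ≠ j ∧ ∃ c : F, c ≠ 0 ∧ HasTv M (Pi.single i c) (Pi.single j 1)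

theorem hasRoot_of_single {M : Subgroup (GL ι F)} {i j : ι} {c d : F} (hij : i ≠ j) (hc : c ≠ 0)
    (hd : d ≠ 0) (h : HasTv M (Pi.single i c) (Pi.single j d)) : HasRoot M := by
  refine ⟨i, j, hij, d * c, mul_ne_zero hd hc, ?_⟩
  have e1 : Pi.single i (d * c) = d • (Pi.single i c : ι → F) := by
    rw [← Pi.single_smul, smul_eq_mul]
  have e2 : d • (Pi.single j 1 : ι → F) = Pi.single j d := by
    rw [← Pi.single_smul, smul_eq_mul, mul_one]
  rw [e1, hasTv_smul_iff hd, e2]
  exact h

/-- The diagonal matrix with `d`. -/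
theorem hasTv_diagConj {M : Subgroup (GL ι F)} {a φ : ι → F} (h : HasTv M a φ)
    {d : ι → F} {hd : ∀ i, d i ≠ 0} (hm : monGL 1 d hd ∈ M) :
    HasTv M (fun j => d j * a j) (fun j => φ j / d j) := by
  simpa using hasTv_monConj h hm

theorem exists_ne_zero_one [Fintype F] (h5 : 5 ≤ Fintype.card F) (bad : Finset F)
    (hbad : bad.card ≤ 4) : ∃ x : F, x ∉ bad := by
  obtain ⟨x, -, hx⟩ := Finset.exists_mem_notMem_of_card_lt_card (s := bad) (t := Finset.univ)
    (lt_of_le_of_lt hbad (by rw [Finset.card_univ]; omega))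
  exact ⟨x, hx⟩

theorem exists_notMem_three (hn : 4 ≤ Fintype.card ι) (a b c : ι) : ∃ x, x ≠ a ∧ x ≠ b ∧ x ≠ c := by
  obtain ⟨x, -, hx⟩ := Finset.exists_mem_notMem_of_card_lt_card (s := ({a, b, c} : Finset ι))
    (t := Finset.univ) (lt_of_le_of_lt Finset.card_le_three (by rw [Finset.card_univ]; omega))
  exact ⟨x, by simpa using hx⟩

section Center

variable [Fintype F] {M : Subgroup (GL ι F)}

theorem center_step (hM : HasMonomials M) {o k a : ι} (hko : k ≠ o) (hka : k ≠ a) (hao : a ≠ o)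
    {w : ι → F} (hw : HasTv M (Pi.single o 1) w) (hwk : w k ≠ 0) {μ : F} (hμ : μ ≠ 0)
    (hμ1 : μ ≠ 1) :
    ∃ w' : ι → F, HasTv M (Pi.single o 1) w' ∧ w' k ≠ 0 ∧
      (∀ l, l ≠ k → l ≠ a → w' l = 0) ∧ (w a = 0 → w' a = 0) := by
  have h := hasTv_diagConj hw (hM.twoDiag_mem hka hμ)
  have hc : (fun j => twoDiag k a μ j * (Pi.single o 1 : ι → F) j) = Pi.single o 1 := by
    funext j
    by_cases hj : j = o
    · subst hj
      simp [twoDiag, hko.symm, hao.symm]
    · simp [Pi.single_eq_of_ne hj]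
  rw [hc] at h
  refine ⟨_, h.sub hw, ?_, fun l hlk hla => ?_, fun h0 => ?_⟩
  · simp only [Pi.sub_apply, twoDiag, if_pos]
    rw [div_sub' hμ, div_ne_zero_iff]
    refine ⟨?_, hμ⟩
    intro e
    have : (1 - μ) * w k = 0 := by linear_combination e
    rcases mul_eq_zero.1 this with h | h
    exacts [hμ1 (sub_eq_zero.1 h).symm, hwk h]
  · simp [twoDiag, hlk, hla]
  · simp [h0]

theorem root_of_center (hM : HasMonomials M) (h5 : 5 ≤ Fintype.card F) (hn : 4 ≤ Fintype.card ι)
    {o : ι} {w : ι → F} (hw : HasTv M (Pi.single o 1) w) (hw0 : w ≠ 0) : HasRoot M := by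
  classical
  have hwo : w o = 0 := by
    have := hw.1
    rwa [dotProduct_single, mul_one] at this
  obtain ⟨k, hk⟩ := Function.ne_iff.1 hw0
  have hko : k ≠ o := fun e => hk (e ▸ hwo)
  obtain ⟨μ, hμ⟩ := exists_ne_zero_one h5 {0, 1} (le_trans Finset.card_le_two (by omega))
  simp only [Finset.mem_insert, Finset.mem_singleton, not_or] at hμ
  obtain ⟨a, hao, hak, -⟩ := exists_notMem_three hn o k k
  obtain ⟨w', hw', hw'k, hsupp, -⟩ := center_step hM hko hak.symm hao hw hk hμ.1 hμ.2
  obtain ⟨b, hbo, hbk, hba⟩ := exists_notMem_three hn o k a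
  obtain ⟨w'', hw'', hw''k, hsupp', hb0⟩ := center_step hM hko hbk.symm hbo hw' hw'k hμ.1 hμ.2
  have hsingle : w'' = Pi.single k (w'' k) := by
    funext l
    by_cases hl : l = k
    · subst hl; simp
    · rw [Pi.single_eq_of_ne hl]
      by_cases hlb : l = b
      · subst hlb; exact hb0 (hsupp _ hbk hba)
      · exact hsupp' l hl hlb
  rw [hsingle] at hw''
  exact hasRoot_of_single hko.symm one_ne_zero hw''k hw''

end Center

/-! ### The linear group on a hyperplane of coordinates -/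

/-- The matrix fixes `e_o` on both sides. -/
def Fixed (o : ι) (y : Matrix ι ι F) : Prop :=
  ∀ l, y l o = (if l = o then 1 else 0) ∧ y o l = (if l = o then 1 else 0)

/-- The homology with centre `u`, functional `φ` and factor `c`. -/
def homMat (u φ : ι → F) (c : F) : Matrix ι ι F := 1 + (c - 1) • vecMulVec u φ

theorem homMat_mul {u φ ψ : ι → F} (h : φ ⬝ᵥ u = 1) (c d : F) :
    homMat u φ c * homMat u ψ d =
      1 + (c - 1) • vecMulVec u φ + (c * (d - 1)) • vecMulVec u ψ := by
  simp only [homMat, mul_add, add_mul, one_mul, mul_one, Matrix.smul_mul, Matrix.mul_smul,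
    vecMulVec_mul_vecMulVec, h, one_smul, vecMulVec_smul, smul_smul]
  rw [show c * (d - 1) = (d - 1) + (c - 1) * (d - 1) by ring, add_smul,
    mul_comm (d - 1) (c - 1)]

/-- `L` contains all homologies with centre `u` and functional `φ`. -/
def HasHom (L : Subgroup (GL ι F)) (u φ : ι → F) : Prop :=
  φ ⬝ᵥ u = 1 ∧ ∀ c : F, c ≠ 0 → ∃ g ∈ L, (g : Matrix ι ι F) = homMat u φ c

theorem HasHom.conj {L : Subgroup (GL ι F)} {u φ : ι → F} (h : HasHom L u φ) {g : GL ι F}
    (hg : g ∈ L) :
    HasHom L ((g : Matrix ι ι F) *ᵥ u) (φ ᵥ* ((g⁻¹ : GL ι F) : Matrix ι ι F)) := by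
  refine ⟨by rw [vecMul_inv_dotProduct, inv_mulVec_mulVec, h.1], fun c hc => ?_⟩
  obtain ⟨x, hx, hxv⟩ := h.2 c hc
  refine ⟨g * x * g⁻¹, mul_mem (mul_mem hg hx) (inv_mem hg), ?_⟩
  rw [Units.val_mul, Units.val_mul, hxv, homMat, homMat, mul_add, add_mul, mul_one,
    ← Units.val_mul, mul_inv_cancel, Units.val_one, Matrix.mul_smul, Matrix.smul_mul,
    mul_vecMulVec, vecMulVec_mul]

section Hyperplane

variable [Fintype F] {L : Subgroup (GL ι F)} {o : ι}

theorem tv_of_hom (h5 : 5 ≤ Fintype.card F) {u φ v ψ : ι → F} (h1 : HasHom L u φ)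
    (h2 : HasHom L v ψ) (hψu : ψ ⬝ᵥ u = 0) (hφv : φ ⬝ᵥ v ≠ 0) (c : F) : HasTv L u (c • ψ) := by
  classical
  obtain ⟨μ, hμ⟩ := exists_ne_zero_one h5 {0, 1} (le_trans Finset.card_le_two (by omega))
  simp only [Finset.mem_insert, Finset.mem_singleton, not_or] at hμ
  obtain ⟨g, hg, hgv⟩ := h2.2 μ hμ.1
  have hgi : ((g⁻¹ : GL ι F) : Matrix ι ι F) = homMat v ψ μ⁻¹ := by
    obtain ⟨g', -, hg'v⟩ := h2.2 μ⁻¹ (inv_ne_zero hμ.1)
    have : g⁻¹ = g' := inv_eq_of_mul_eq_one_right (Units.ext (by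
      rw [Units.val_mul, hgv, hg'v, homMat_mul h2.1, add_assoc, ← add_smul]
      rw [show μ - 1 + μ * (μ⁻¹ - 1) = 0 by field_simp [hμ.1]; ring, zero_smul, add_zero,
        Units.val_one]))
    rw [this, hg'v]
  set φ' := φ ᵥ* ((g⁻¹ : GL ι F) : Matrix ι ι F) with hφ'
  have hu : (g : Matrix ι ι F) *ᵥ u = u := by
    rw [hgv, homMat, add_mulVec, one_mulVec, smul_mulVec, vecMulVec_mulVec, hψu]
    simp
  have hd : φ' - φ = ((μ⁻¹ - 1) * (φ ⬝ᵥ v)) • ψ := by
    rw [hφ', hgi, homMat, vecMul_add, vecMul_one, vecMul_smul, vecMul_vecMulVec, smul_smul,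
      add_sub_cancel_left]
  have h1' := h1.conj hg
  rw [hu, ← hφ'] at h1'
  set κ := (μ⁻¹ - 1) * (φ ⬝ᵥ v) with hκ
  have hκ0 : κ ≠ 0 := mul_ne_zero (sub_ne_zero.2 fun e => hμ.2 (inv_eq_one.1 e)) hφv
  have base : ∀ c : F, c ≠ -κ → HasTv L u (c • ψ) := by
    intro c hc
    have hl : 1 + c / κ ≠ 0 := by
      intro e
      refine hc ?_
      field_simp at e
      linear_combination e
    obtain ⟨a, ha, hav⟩ := h1'.2 _ hl
    obtain ⟨b, hb, hbv⟩ := h1.2 _ (inv_ne_zero hl)
    refine ⟨by rw [smul_dotProduct, hψu, smul_zero], a * b, mul_mem ha hb, ?_⟩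
    rw [Units.val_mul, hav, hbv, homMat_mul h1'.1, tvMat, add_assoc]
    congr 1
    have e1 : (1 + c / κ) * ((1 + c / κ)⁻¹ - 1) = -(c / κ) := by
      rw [mul_sub, mul_inv_cancel₀ hl]; ring
    rw [e1, neg_smul, add_sub_cancel_left, ← sub_eq_add_neg, ← smul_sub, ← vecMulVec_sub, hd,
      vecMulVec_smul, vecMulVec_smul, smul_smul]
    congr 1
    field_simp
  by_cases hc : c = -κ
  · subst hc
    have e : (-κ) • ψ = (-κ * μ) • ψ + (-κ - -κ * μ) • ψ := by rw [← add_smul]; congr 1; ring
    rw [e]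
    refine (base _ fun e' => hμ.2 ?_).add (base _ fun e' => hμ.1 ?_)
    · exact mul_left_cancel₀ (neg_ne_zero.2 hκ0) (e'.trans (mul_one _).symm)
    · exact mul_left_cancel₀ (neg_ne_zero.2 hκ0) ((by linear_combination -e' : -κ * μ = 0).trans (mul_zero _).symm)
  · exact base c hc

variable (hfix : ∀ y ∈ L, Fixed o (y : Matrix ι ι F))
  (hdiag : ∀ (d : ι → F) (hd : ∀ i, d i ≠ 0), d o = 1 → monGL 1 d hd ∈ L)

include hfix in
theorem tv_fixed {u ψ : ι → F} (h : HasTv L u ψ) (hu : u ≠ 0) (hψ : ψ ≠ 0) : u o = 0 ∧ ψ o = 0 := by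
  obtain ⟨-, g, hg, hgv⟩ := h
  have key : ∀ l, u l * ψ o = 0 ∧ u o * ψ l = 0 := fun l => by
    obtain ⟨h1, h2⟩ := hfix g hg l
    rw [hgv, tvMat, Matrix.add_apply, Matrix.one_apply, vecMulVec_apply] at h1 h2
    refine ⟨by simpa using h1, ?_⟩
    by_cases e : o = l
    · subst e; simpa using h2
    · simpa [e, Ne.symm e] using h2
  obtain ⟨l, hl⟩ := Function.ne_iff.1 hu
  obtain ⟨k, hk⟩ := Function.ne_iff.1 hψ
  exact ⟨(mul_eq_zero.1 (key k).2).resolve_right hk, (mul_eq_zero.1 (key l).1).resolve_left hl⟩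

include hfix hdiag in
theorem root_of_single_center (h5 : 5 ≤ Fintype.card F) {l : ι} {C : F} (hC : C ≠ 0) {ψ : ι → F}
    (hψ : ψ ≠ 0) (h : HasTv L (Pi.single l C) ψ) : HasRoot L := by
  classical
  have hne : (Pi.single l C : ι → F) ≠ 0 := by simpa using hC
  obtain ⟨hlo, hψo⟩ := tv_fixed hfix h hne hψ
  have hl : ψ l = 0 := by
    have := h.1
    rw [dotProduct_single] at this
    exact (mul_eq_zero.1 this).resolve_right hC
  obtain ⟨k, hk⟩ := Function.ne_iff.1 hψ
  have hko : k ≠ o := fun e => hk (e ▸ hψo)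
  have hkl : k ≠ l := fun e => hk (e ▸ hl)
  obtain ⟨μ, hμ⟩ := exists_ne_zero_one h5 {0, 1} (le_trans Finset.card_le_two (by omega))
  simp only [Finset.mem_insert, Finset.mem_singleton, not_or] at hμ
  have h' := hasTv_diagConj h (hdiag (Function.update (fun _ => 1) k μ)
    (fun i => by by_cases e : i = k <;> simp [e, hμ.1]) (by simp [hko.symm]))
  have hc : (fun j => Function.update (fun _ => (1 : F)) k μ j * (Pi.single l C : ι → F) j) =
      Pi.single l C := by
    funext j
    by_cases hj : j = l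
    · subst hj; simp [hkl.symm]
    · simp [Pi.single_eq_of_ne hj]
  rw [hc] at h'
  have e : (fun j => ψ j / Function.update (fun _ => (1 : F)) k μ j) - ψ =
      Pi.single k (ψ k / μ - ψ k) := by
    funext j
    by_cases hj : j = k
    · subst hj; simp
    · simp [hj, Pi.single_eq_of_ne hj]
  have h'' := h'.sub h
  rw [e] at h''
  refine hasRoot_of_single hkl.symm hC ?_ h''
  intro e0
  rw [sub_eq_zero, div_eq_iff hμ.1] at e0
  exact hμ.2 (mul_left_cancel₀ hk (e0.symm.trans (mul_one _).symm))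

include hfix hdiag in
theorem root_of_tv (h5 : 5 ≤ Fintype.card F) {u ψ : ι → F} (hu : u ≠ 0) (hψ : ψ ≠ 0)
    (h : ∀ c : F, HasTv L u (c • ψ)) : HasRoot L := by
  classical
  have h1 : HasTv L u ψ := by simpa using h 1
  obtain ⟨huo, hψo⟩ := tv_fixed hfix h1 hu hψ
  obtain ⟨s, hs⟩ := exists_ne_zero_one h5 {0, 1} (le_trans Finset.card_le_two (by omega))
  simp only [Finset.mem_insert, Finset.mem_singleton, not_or] at hs
  have hconj : ∀ l, l ≠ o → HasTv L (u + ((s - 1) * u l) • Pi.single l 1)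
      (ψ + ((s⁻¹ - 1) * ψ l) • Pi.single l 1) := by
    intro l hlo
    have h' := hasTv_diagConj h1 (hdiag (Function.update (fun _ => 1) l s)
      (fun i => by by_cases e : i = l <;> simp [e, hs.1]) (by simp [hlo.symm]))
    convert h' using 1 <;> funext j <;> by_cases hj : j = l
    · subst hj; simp; ring
    · simp [hj, Pi.single_eq_of_ne hj]
    · subst hj; simp; field_simp [hs.1]; ring
    · simp [hj, Pi.single_eq_of_ne hj]
  by_cases hex : ∃ l, u l * ψ l ≠ 0
  · obtain ⟨l, hl⟩ := hex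
    obtain ⟨hul, hψl⟩ := mul_ne_zero_iff.1 hl
    have hlo : l ≠ o := fun e => hul (e ▸ huo)
    have hA : (s - 1) * u l * ψ l ≠ 0 := mul_ne_zero (mul_ne_zero (sub_ne_zero.2 hs.2) hul) hψl
    set c : F := -((s - 1) * u l * ψ l)⁻¹ with hc
    have hpair := (hconj l hlo).conj_tv (h c)
    have hd1 : (c • ψ) ⬝ᵥ (u + ((s - 1) * u l) • Pi.single l 1) = -1 := by
      rw [smul_dotProduct, dotProduct_add, h1.1, dotProduct_smul, dotProduct_single, zero_add,
        mul_one, smul_eq_mul, smul_eq_mul, hc, neg_mul, inv_mul_cancel₀ hA]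
    rw [hd1, neg_one_smul, ← sub_eq_add_neg, add_sub_cancel_left, ← Pi.single_smul, smul_eq_mul,
      mul_one] at hpair
    refine root_of_single_center hfix hdiag h5 (mul_ne_zero (sub_ne_zero.2 hs.2) hul) ?_ hpair
    obtain ⟨k, hkl, hk⟩ : ∃ k, k ≠ l ∧ ψ k ≠ 0 := by
      by_contra hno
      push Not at hno
      have := h1.1
      rw [dotProduct, Finset.sum_eq_single l (fun k _ hk => by rw [hno k hk, zero_mul])
        (by simp)] at this
      exact hl (by rw [mul_comm]; exact this)
    intro h0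
    have h0' := congrFun h0 k
    simp only [add_dotProduct, smul_dotProduct, single_dotProduct, h1.1, zero_add, one_mul,
      smul_eq_mul, Pi.sub_apply, Pi.add_apply, Pi.smul_apply, Pi.single_eq_of_ne hkl, mul_zero,
      add_zero, Pi.zero_apply] at h0'
    have e : (s⁻¹ - 1) * ψ l * u l * c = s⁻¹ := by
      rw [show s⁻¹ - 1 = -((s - 1) * s⁻¹) by field_simp [hs.1]; ring, hc]
      linear_combination s⁻¹ * mul_inv_cancel₀ hA
    rw [← mul_assoc, e] at h0'
    have : (1 - s⁻¹) * ψ k = 0 := by linear_combination h0'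
    rcases mul_eq_zero.1 this with h2 | h2
    · exact hs.2 (inv_eq_one.1 (sub_eq_zero.1 h2).symm)
    · exact hk h2
  · push Not at hex
    obtain ⟨l, hl⟩ := Function.ne_iff.1 hu
    have hlo : l ≠ o := fun e => hl (e ▸ huo)
    have hψl : ψ l = 0 := (mul_eq_zero.1 (hex l)).resolve_left hl
    have h' := hconj l hlo
    rw [hψl, mul_zero, zero_smul, add_zero] at h'
    have hneg : HasTv L (-u) ψ := by
      rw [← neg_one_smul F u, hasTv_smul_iff (by simp)]
      exact h (-1)
    have h'' := h'.add_left hneg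
    rw [add_neg_cancel_comm, ← Pi.single_smul, smul_eq_mul, mul_one] at h''
    exact root_of_single_center hfix hdiag h5 (mul_ne_zero (sub_ne_zero.2 hs.2) hl) hψ h''

end Hyperplane

/-- A weight vector with prescribed vanishing. -/
theorem exists_weight [Fintype F] (h5 : 5 ≤ Fintype.card F) (a : ι → F)
    (h : (∃ p q r, p ≠ q ∧ p ≠ r ∧ q ≠ r ∧ a p ≠ 0 ∧ a q ≠ 0 ∧ a r ≠ 0) ∨
      ∃ p q, p ≠ q ∧ a p ≠ 0 ∧ a q ≠ 0 ∧ a p + a q ≠ 0 ∧ a p ≠ a q ∧ ∀ l, l ≠ p → l ≠ q → a l = 0) :
    ∃ t : ι → F, (∀ l, t l ≠ 0) ∧ ∑ l, a l * t l = 0 ∧ ∑ l, a l / t l ≠ 0 := by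
  classical
  rcases h with ⟨p, q, r, hpq, hpr, hqr, hp, hq, hr⟩ | ⟨p, q, hpq, hp, hq, hs, hne, hz⟩
  · obtain ⟨ν, hν⟩ := exists_ne_zero_one h5 {0, 1} (le_trans Finset.card_le_two (by omega))
    simp only [Finset.mem_insert, Finset.mem_singleton, not_or] at hν
    let T := (Finset.univ.erase p).erase q
    have hrT : r ∈ T := by simp [T, hpr.symm, hqr.symm]
    obtain ⟨t0, ht0, hR⟩ : ∃ t0 : ι → F, (∀ l, t0 l ≠ 0) ∧ ∑ l ∈ T, a l * t0 l ≠ 0 := by
      by_cases h0 : ∑ l ∈ T, a l = 0
      · refine ⟨Function.update (fun _ => 1) r ν, fun l => by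
          by_cases e : l = r <;> simp [e, hν.1], ?_⟩
        have : ∑ l ∈ T, a l * Function.update (fun _ => (1 : F)) r ν l = a r * (ν - 1) := by
          rw [show a r * (ν - 1) = a r * (ν - 1) + ∑ l ∈ T, a l by rw [h0, add_zero],
            ← Finset.add_sum_erase T _ hrT, ← Finset.add_sum_erase T a hrT,
            Finset.sum_congr rfl (fun l hl => by
              rw [Function.update_of_ne (Finset.ne_of_mem_erase hl), mul_one] :
              ∀ l ∈ T.erase r, a l * Function.update (fun _ => (1 : F)) r ν l = a l),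
            Function.update_self]
          ring
        rw [this]
        exact mul_ne_zero hr (sub_ne_zero.2 hν.2)
      · exact ⟨fun _ => 1, fun _ => one_ne_zero, by simpa using h0⟩
    set R := ∑ l ∈ T, a l * t0 l with hRdef
    set D := ∑ l ∈ T, a l / t0 l with hDdef
    -- the quadratic
    set α : F := -(D * a p) / a q with hα
    set β : F := -(a p * a p) / a q + a q - D * R / a q with hβ
    set γ : F := -(a p * R) / a q with hγ
    have hγ0 : γ ≠ 0 := by
      rw [hγ]; exact div_ne_zero (neg_ne_zero.2 (mul_ne_zero hp hR)) hq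
    obtain ⟨x, hx0, hx1, hx⟩ : ∃ x : F, x ≠ 0 ∧ a p * x + R ≠ 0 ∧ α * x ^ 2 + β * x + γ ≠ 0 := by
      by_contra hno
      push Not at hno
      obtain ⟨x, hx⟩ := exists_ne_zero_one h5 {0, -R / a p}
        (le_trans Finset.card_le_two (by omega))
      simp only [Finset.mem_insert, Finset.mem_singleton, not_or] at hx
      obtain ⟨y, hy⟩ := exists_ne_zero_one h5 {0, -R / a p, x}
        (le_trans Finset.card_le_three (by omega))
      simp only [Finset.mem_insert, Finset.mem_singleton, not_or] at hy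
      obtain ⟨z, hz⟩ := exists_ne_zero_one h5 {0, -R / a p, x, y}
        Finset.card_le_four
      simp only [Finset.mem_insert, Finset.mem_singleton, not_or] at hz
      have ok : ∀ w : F, w ≠ -R / a p → a p * w + R ≠ 0 := fun w hw e => hw (by
        rw [eq_div_iff hp]; linear_combination e)
      have ex := hno x hx.1 (ok x hx.2)
      have ey := hno y hy.1 (ok y hy.2.1)
      have ez := hno z hz.1 (ok z hz.2.1)
      have f1 : α * (x + y) + β = 0 := by
        refine (mul_eq_zero.1 (?_ : (y - x) * (α * (x + y) + β) = 0)).resolve_left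
          (sub_ne_zero.2 hy.2.2)
        linear_combination ey - ex
      have f2 : α * (x + z) + β = 0 := by
        refine (mul_eq_zero.1 (?_ : (z - x) * (α * (x + z) + β) = 0)).resolve_left
          (sub_ne_zero.2 hz.2.2.1)
        linear_combination ez - ex
      have f3 : α = 0 := by
        refine (mul_eq_zero.1 (?_ : α * (z - y) = 0)).resolve_right (sub_ne_zero.2 hz.2.2.2)
        linear_combination f2 - f1
      have f4 : β = 0 := by rw [f3] at f1; linear_combination f1
      exact hγ0 (by rw [f3, f4] at ex; linear_combination ex)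
    set y : F := -(a p * x + R) / a q with hy
    have hy0 : y ≠ 0 := div_ne_zero (neg_ne_zero.2 hx1) hq
    let t : ι → F := fun l => if l = p then x else if l = q then y else t0 l
    have htp : t p = x := if_pos rfl
    have htq : t q = y := by simp [t, hpq.symm]
    have htT : ∀ l ∈ T, t l = t0 l := fun l hl => by
      simp only [T, Finset.mem_erase] at hl
      simp [t, hl.1, hl.2.1]
    have split : ∀ f : ι → F, ∑ l, f l = f p + f q + ∑ l ∈ T, f l := fun f => by
      rw [add_assoc, Finset.add_sum_erase _ f (by simp [hpq.symm]),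
        Finset.add_sum_erase _ f (Finset.mem_univ p)]
    refine ⟨t, fun l => by simp only [t]; split_ifs <;> simp [hx0, hy0, ht0], ?_, ?_⟩
    · rw [split, htp, htq, Finset.sum_congr rfl (fun l hl => by rw [htT l hl] :
        ∀ l ∈ T, a l * t l = a l * t0 l), ← hRdef, hy]
      field_simp; ring
    · rw [split, htp, htq, Finset.sum_congr rfl (fun l hl => by rw [htT l hl] :
        ∀ l ∈ T, a l / t l = a l / t0 l), ← hDdef]
      intro e
      refine hx ?_
      have e' : a p * y + a q * x + D * (x * y) = 0 := by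
        field_simp at e
        linear_combination e
      rw [hy] at e'
      rw [hα, hβ, hγ]
      field_simp at e' ⊢
      linear_combination e'
  · let t : ι → F := fun l => if l = p then a q else if l = q then -a p else 1
    have htp : t p = a q := if_pos rfl
    have htq : t q = -a p := by simp [t, hpq.symm]
    have split : ∀ f : ι → F, (∀ l, l ≠ p → l ≠ q → f l = 0) → ∑ l, f l = f p + f q :=
      fun f hf => by
        rw [← Finset.sum_subset (Finset.subset_univ {p, q}) (fun l _ hl => by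
          simp only [Finset.mem_insert, Finset.mem_singleton, not_or] at hl
          exact hf l hl.1 hl.2), Finset.sum_pair hpq]
    refine ⟨t, fun l => by simp only [t]; split_ifs <;> simp [hp, hq], ?_, ?_⟩
    · rw [split _ (fun l h1 h2 => by rw [hz l h1 h2, zero_mul]), htp, htq]; ring
    · rw [split _ (fun l h1 h2 => by rw [hz l h1 h2, zero_div]), htp, htq]
      intro e
      field_simp at e
      have : (a p - a q) * (a p + a q) = 0 := by linear_combination e
      rcases mul_eq_zero.1 this with h | h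
      exacts [hne (sub_eq_zero.1 h), hs h]

end CfsgLib.MaxSub.DecompMax
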