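import Cfsg.Agent.Lib.KnownB.GLBlocks

/-!
Chain bases for nilpotent endomorphisms.
-/

set_option autoImplicit false

namespace CfsgLib.MaxSub.NilBasis

open Polynomial CfsgLib.KnownB

universe u v

variable {F : Type u} [Field F] [Fintype F] {V : Type v} [AddCommGroup V] [Module F V] [FiniteDimensional F V]

/-- A basis of chains for a nilpotent endomorphism. -/
theorem exists_chains {N : Module.End F V} {k : ℕ} (hN : N ^ k = 0) :
    ∃ (ι : Type) (_ : Fintype ι) (d : ι → ℕ) (b : Module.Basis ((i : ι) × Fin (d i)) F V), (∀ i, 1 ≤ d i) ∧ (∀ i, d i ≤ k) ∧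
      ∀ (i : ι) (j : Fin (d i)), N (b ⟨i, j⟩) = if h : (j : ℕ) + 1 < d i then b ⟨i, ⟨(j : ℕ) + 1, h⟩⟩ else 0 := by
  classical
  obtain ⟨D⟩ := GLBlocks.nonempty_decomp N
  have hall : ∀ z : Module.AEval' N, (X : F[X]) ^ k • z = 0 := fun z => by
    obtain ⟨v, rfl⟩ := (Module.AEval'.of N).surjective z
    rw [Module.AEval'.X_pow_smul_of, hN, zero_smul, map_zero]
  let gen : D.ι → Module.AEval' N := fun i => D.equiv.symm (Pi.single i (Submodule.Quotient.mk 1))
  have hp : ∀ i, D.p i = X := fun i => by
    have h1 := congrArg (fun z => D.equiv z i) (hall (gen i))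
    simp only [gen, map_smul, LinearEquiv.apply_symm_apply, map_zero, Pi.smul_apply, Pi.single_eq_same, Pi.zero_apply,
      ← Submodule.Quotient.mk_smul, Submodule.Quotient.mk_eq_zero, Ideal.mem_span_singleton, smul_eq_mul, mul_one] at h1
    exact eq_of_monic_of_associated (D.monic i) monic_X ((D.irred i).associated_of_dvd irreducible_X
      ((D.irred i).prime.dvd_of_dvd_pow ((dvd_pow_self _ (by have := D.pos i; omega)).trans h1)))
  let g : D.ι → V := fun i => (Module.AEval'.of N).symm (gen i)
  have hgo : ∀ i, Module.AEval'.of N (g i) = gen i := fun i => (Module.AEval'.of N).apply_symm_apply _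
  have hann : ∀ i, (N ^ D.e i) (g i) = 0 := fun i => by
    refine (Module.AEval'.of N).map_eq_zero_iff.1 ?_
    rw [show (N ^ D.e i) (g i) = N ^ D.e i • g i from rfl, ← Module.AEval'.X_pow_smul_of, hgo, ← hp i]
    refine D.equiv.map_eq_zero_iff.1 ?_
    simp only [gen, map_smul, LinearEquiv.apply_symm_apply]
    rw [← Pi.single_smul, ← Submodule.Quotient.mk_smul, smul_eq_mul, mul_one,
      (Submodule.Quotient.mk_eq_zero _).2 (Ideal.mem_span_singleton.2 dvd_rfl), Pi.single_zero]
  let v : ((i : D.ι) × Fin (D.e i)) → V := fun a => (N ^ (a.2 : ℕ)) (g a.1)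
  have hstep : ∀ (i : D.ι) (j : Fin (D.e i)), N (v ⟨i, j⟩) =
      if h : (j : ℕ) + 1 < D.e i then v ⟨i, ⟨(j : ℕ) + 1, h⟩⟩ else 0 := fun i j => by
    show N ((N ^ (j : ℕ)) (g i)) = _
    rw [← Module.End.mul_apply, ← pow_succ']
    split_ifs with h
    · rfl
    · rw [show (j : ℕ) + 1 = D.e i by omega, hann]
  set S := Submodule.span F (Set.range v) with hS
  have hSN : ∀ w ∈ S, N w ∈ S := by
    intro w hw
    induction hw using Submodule.span_induction with
    | mem x hx =>
      obtain ⟨⟨i, j⟩, rfl⟩ := hx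
      rw [hstep]
      split_ifs
      · exact Submodule.subset_span ⟨_, rfl⟩
      · exact S.zero_mem
    | zero => simp
    | add a b _ _ ha hb => rw [map_add]; exact S.add_mem ha hb
    | smul c a _ ha => rw [map_smul]; exact S.smul_mem c ha
  have hpoly : ∀ (f : F[X]) w, w ∈ S → aeval N f w ∈ S := fun f => by
    induction f using Polynomial.induction_on with
    | C a => intro w hw; simpa [Module.algebraMap_end_apply] using S.smul_mem a hw
    | add p q hp hq => intro w hw; simpa using S.add_mem (hp w hw) (hq w hw)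
    | monomial m a ih =>
      intro w hw
      rw [pow_succ, ← mul_assoc, map_mul, Module.End.mul_apply, aeval_X]
      exact ih _ (hSN w hw)
  have hspan : ⊤ ≤ S := fun w _ => by
    choose a ha using fun i => Submodule.Quotient.mk_surjective _ (D.equiv (Module.AEval'.of N w) i)
    have h1 : Module.AEval'.of N w = ∑ i, a i • gen i := by
      refine D.equiv.injective ?_
      rw [map_sum]
      conv_lhs => rw [← Finset.univ_sum_single (D.equiv (Module.AEval'.of N w))]
      refine Finset.sum_congr rfl fun i _ => ?_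
      simp only [gen, map_smul, LinearEquiv.apply_symm_apply]
      rw [← Pi.single_smul, ← Submodule.Quotient.mk_smul, smul_eq_mul, mul_one, ha]
    have h2 : w = ∑ i, aeval N (a i) (g i) := by
      refine (Module.AEval'.of N).injective ?_
      rw [h1, map_sum]
      refine Finset.sum_congr rfl fun i _ => ?_
      rw [← hgo i]
      exact (Module.AEval.of_aeval_smul _ _ _).symm
    rw [h2]
    exact Submodule.sum_mem _ fun i _ => hpoly _ _ (Submodule.subset_span ⟨⟨i, ⟨0, D.pos i⟩⟩, rfl⟩)
  have hcard : Fintype.card ((i : D.ι) × Fin (D.e i)) = Module.finrank F V := by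
    rw [← D.sum_deg, Fintype.card_sigma]
    refine Finset.sum_congr rfl fun i _ => ?_
    rw [hp, natDegree_X, mul_one, Fintype.card_fin]
  refine ⟨D.ι, inferInstance, D.e, basisOfTopLeSpanOfCardEqFinrank v hspan hcard, D.pos, fun i => ?_, fun i j => ?_⟩
  · by_contra hlt
    have h1 := (basisOfTopLeSpanOfCardEqFinrank v hspan hcard).ne_zero ⟨i, ⟨k, not_le.1 hlt⟩⟩
    rw [coe_basisOfTopLeSpanOfCardEqFinrank] at h1
    exact h1 (by show (N ^ k) (g i) = 0; rw [hN, LinearMap.zero_apply])
  · rw [coe_basisOfTopLeSpanOfCardEqFinrank]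
    exact hstep i j

end CfsgLib.MaxSub.NilBasis
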