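import Cfsg.Agent.Lib.MaxSub.OExtLine
import Cfsg.Agent.Lib.MaxSub.ExtBig

/-!
Overgroups of the semilinear orthogonal group of a trace form: if a singular line is moved off the lines
onto a subspace through a singular point, some line has a stabiliser inducing all transvections with one axis.
-/

set_option autoImplicit false
set_option linter.unusedSectionVars false

namespace CfsgLib.MaxSub.OExt

open CfsgLib.Classical CfsgLib.Geom
open QuadraticMap (polar)

/-- few quadratic functions have a common nonzero zero -/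
theorem exists_common_zero {F W ι : Type*} [Field F] [Finite F] [AddCommGroup W] [Module F W]
    [FiniteDimensional F W] [Fintype ι] (lin : ι → W →ₗ[F] F) (B : ι → W →ₗ[F] W →ₗ[F] F)
    (h : 2 * Fintype.card ι < Module.finrank F W) :
    ∃ w, w ≠ 0 ∧ ∀ i, lin i w + B i w w = 0 := by
  classical
  have := Fintype.ofFinite F
  obtain ⟨p, hp⟩ := CharP.exists F
  have : Fact p.Prime := ⟨CharP.char_is_prime F p⟩
  let b := Module.finBasis F W
  let f : ι → MvPolynomial (Fin (Module.finrank F W)) F := fun i =>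
    ∑ j, MvPolynomial.C (lin i (b j)) * MvPolynomial.X j +
      ∑ j, ∑ l, MvPolynomial.C (B i (b j) (b l)) * (MvPolynomial.X j * MvPolynomial.X l)
  have hev : ∀ i x, MvPolynomial.eval x (f i) =
      lin i (∑ j, x j • b j) + B i (∑ j, x j • b j) (∑ j, x j • b j) := fun i x => by
    simp only [f, map_add, map_sum, map_mul, MvPolynomial.eval_C, MvPolynomial.eval_X, map_smul,
      LinearMap.coe_sum, LinearMap.smul_apply, Finset.sum_apply, smul_eq_mul, Finset.mul_sum]
    congr 1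
    · exact Finset.sum_congr rfl fun j _ => mul_comm _ _
    · rw [Finset.sum_comm]
      exact Finset.sum_congr rfl fun j _ => Finset.sum_congr rfl fun l _ => by ring
  have hdeg : ∀ i, (f i).totalDegree ≤ 2 := fun i => by
    have hX := fun j => MvPolynomial.totalDegree_X (R := F) (σ := Fin (Module.finrank F W)) j
    refine (MvPolynomial.totalDegree_add _ _).trans (max_le ?_ ?_)
    · refine MvPolynomial.totalDegree_finsetSum_le fun j _ => ?_
      refine (MvPolynomial.totalDegree_mul _ _).trans ?_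
      rw [MvPolynomial.totalDegree_C, hX]
      omega
    · refine MvPolynomial.totalDegree_finsetSum_le fun j _ =>
        MvPolynomial.totalDegree_finsetSum_le fun l _ => ?_
      refine (MvPolynomial.totalDegree_mul _ _).trans ?_
      rw [MvPolynomial.totalDegree_C, zero_add]
      refine (MvPolynomial.totalDegree_mul _ _).trans ?_
      rw [hX, hX]
  have hsum : (∑ i, (f i).totalDegree) < Fintype.card (Fin (Module.finrank F W)) :=
    lt_of_le_of_lt (Finset.sum_le_sum fun i _ => hdeg i)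
      (by rw [Finset.sum_const, Finset.card_univ, Fintype.card_fin, smul_eq_mul, mul_comm]; exact h)
  have hdvd := char_dvd_card_solutions_of_fintype_sum_lt p hsum
  by_contra hno
  push Not at hno
  have hone : Fintype.card {x : Fin (Module.finrank F W) → F //
      ∀ i, MvPolynomial.eval x (f i) = 0} = 1 := by
    rw [Fintype.card_eq_one_iff]
    refine ⟨⟨0, fun i => by rw [hev]; simp⟩, fun ⟨x, hx⟩ => Subtype.ext ?_⟩
    by_contra hx0
    obtain ⟨i, hi⟩ := hno (∑ j, x j • b j) fun e => hx0 (funext fun j => by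
      have e' := congrArg (fun z => b.repr z j) e
      simpa [Finsupp.single_apply] using e')
    exact hi (by rw [← hev]; exact hx i)
  rw [hone, Nat.dvd_one] at hdvd
  exact (CharP.char_is_prime F p).one_lt.ne' hdvd

variable {F K V : Type*} [Field F] [Field K] [Algebra F K] [AddCommGroup V] [Module K V]
  [Module F V] [IsScalarTower F K V]

/-- the multiples of `u` that `g` sends into the line of `g u` -/
def lineSet (K : Type*) {F V : Type*} [Field F] [Field K] [AddCommGroup V] [Module K V]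
    [Module F V] (g : V ≃ₗ[F] V) (u : V) : Set K :=
  {k | ∃ c : K, g (k • u) = c • g u}

/-- `g` moves the singular line of `u` off the lines, to a subspace through a singular point -/
structure Moved {Q : QuadraticForm F V} (M : Subgroup (quadIsoms Q)) (φ : V →ₗ[K] V →ₗ[K] K)
    (g : quadIsoms Q) (u : V) : Prop where
  mem : g ∈ M
  ne : u ≠ 0
  sing : φ u u = 0
  sing' : φ (g.1 u) (g.1 u) = 0
  off : ¬ LineTo K g.1 u

/-- a singular line whose stabiliser induces all transvections with the axis `ker χ` -/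
def HasAxis {Q : QuadraticForm F V} (M : Subgroup (quadIsoms Q)) (v : V) (χ : K →ₗ[F] F) : Prop :=
  ∀ i : K, χ i = 0 → ∃ m ∈ M, ∀ k : K, m.1 (k • v) = (k + χ k • i) • v

namespace Ctx

variable [Finite F] [Finite K] [Module.Finite K V] [Module.Finite F K] [FiniteDimensional F V]
  {Q : QuadraticForm F V} {φ : V →ₗ[K] V →ₗ[K] K} {τ : K →ₗ[F] F} {M : Subgroup (quadIsoms Q)}

/-- the maximality dichotomy -/
theorem moved_dich (C : Ctx Q φ τ M) {g : quadIsoms Q} {u : V} (hm : Moved M φ g u)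
    (hmax : ∀ g' u', Moved M φ g' u' → (lineSet K g'.1 u').ncard ≤ (lineSet K g.1 u).ncard)
    {w : V} (hw : φ (g.1 u) w = 0) :
    (∀ k : K, ∃ i : K, g.1 (i • u) = sMap φ (g.1 u) w (g.1 (k • u)) - g.1 (k • u)) ∨
      ∃ g₂ : quadIsoms Q, Moved M φ g₂ u ∧ g₂.1 u = u ∧
        (∀ x, g.1 (g₂.1 x) = sMap φ (g.1 u) w (g.1 x)) ∧
        (lineSet K g₂.1 u).ncard = (lineSet K g.1 u).ncard ∧
        ∀ k : K, (∃ i : K, g.1 (i • u) = sMap φ (g.1 u) w (g.1 (k • u)) - g.1 (k • u)) →
          k ∈ lineSet K g.1 u := by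
  classical
  set v := g.1 u with hv
  obtain ⟨S, hS, -, hSx⟩ := C.exists_S hm.sing' hw
  set g₂ := g⁻¹ * S * g with hg₂
  have hg₂x : ∀ x, g.1 (g₂.1 x) = sMap φ v w (g.1 x) := fun x => by
    rw [hg₂, mul_apply', mul_apply', inv_apply', LinearEquiv.apply_symm_apply, hSx]
  have hfix : g₂.1 u = u := g.1.injective (by
    rw [hg₂x, ← hv, sMap, hm.sing', hw]; simp)
  have hI : ∀ k : K, k ∈ lineSet K g₂.1 u ↔
      ∃ i : K, g.1 (i • u) = sMap φ v w (g.1 (k • u)) - g.1 (k • u) := fun k => by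
    show (∃ c : K, g₂.1 (k • u) = c • g₂.1 u) ↔ _
    rw [hfix]
    constructor
    · rintro ⟨c, hc⟩
      exact ⟨c - k, by rw [← hg₂x, hc, sub_smul, map_sub]⟩
    · rintro ⟨i, hi⟩
      exact ⟨i + k, g.1.injective (by rw [hg₂x, add_smul, map_add, hi, sub_add_cancel])⟩
  by_cases hall : ∀ k : K, ∃ i : K, g.1 (i • u) = sMap φ v w (g.1 (k • u)) - g.1 (k • u)
  · exact Or.inl hall
  have hm₂ : Moved M φ g₂ u :=
    ⟨mul_mem (mul_mem (inv_mem hm.mem) hS) hm.mem, hm.ne, hm.sing, by rw [hfix]; exact hm.sing,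
      fun hl => hall fun k => (hI k).1 (hl k)⟩
  have hsub : lineSet K g.1 u ⊆ lineSet K g₂.1 u := fun k ⟨c, hc⟩ => (hI k).2
    ⟨0, by rw [zero_smul, map_zero, hc, ← hv, sMap, φ.map_smul]; simp [show φ v v = 0 from hm.sing', hw]⟩
  have heq := Set.eq_of_subset_of_ncard_le hsub (hmax g₂ u hm₂) (Set.toFinite _)
  exact Or.inr ⟨g₂, hm₂, hfix, hg₂x, by rw [heq], fun k hk => by rw [heq]; exact (hI k).2 hk⟩

theorem axis_of_beta (C : Ctx Q φ τ M) {g : quadIsoms Q} {u : V} (hm : Moved M φ g u)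
    (hmax : ∀ g' u', Moved M φ g' u' → (lineSet K g'.1 u').ncard ≤ (lineSet K g.1 u).ncard)
    {k₀ : K} (hk₀ : k₀ ∉ lineSet K g.1 u) (hβ' : ∀ k : K, φ (g.1 (k • u)) (g.1 u) = 0) :
    ∃ χ : K →ₗ[F] F, χ ≠ 0 ∧ HasAxis M u χ := by
  classical
  set v := g.1 u with hv
  have hvv : φ v v = 0 := hm.sing'
  have hv0 : v ≠ 0 := fun e => hm.ne (g.1.map_eq_zero_iff.mp e)
  set ρ : K →ₗ[F] V :=
    (g.1 : V →ₗ[F] V) ∘ₗ (LinearMap.toSpanSingleton K V u).restrictScalars F with hρ
  have hρa : ∀ k, ρ k = g.1 (k • u) := fun k => rfl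
  have hρinj : Function.Injective ρ := fun a b h =>
    smul_left_injective K hm.ne (g.1.injective h)
  set line : K →ₗ[F] V := (LinearMap.toSpanSingleton K V v).restrictScalars F with hline
  have hlinea : ∀ c, line c = c • v := fun c => rfl
  have hL : ∀ w k, sMap φ v w (g.1 (k • u)) - g.1 (k • u) =
      φ (ρ k) v • w - (φ (ρ k) w + φ w w / 2 * φ (ρ k) v) • v := fun w k => by
    rw [sMap, hρa]; abel
  have hk₀' : ∀ c : K, ρ k₀ ≠ c • v := fun c hc => hk₀ ⟨c, hc⟩
  have hβ : ∀ k, φ (ρ k) v = 0 := hβ'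
  -- the family moving the image of the line along `v`
  set Wc : Submodule F K := (LinearMap.range ρ).comap line with hWc
  have hmemW : ∀ c, c ∈ Wc ↔ ∃ i, ρ i = c • v := fun c => Iff.rfl
  have h1W : (1 : K) ∈ Wc := ⟨1, by rw [hρa, one_smul, hlinea, one_smul]⟩
  obtain ⟨ψ, hψ1, hψ⟩ := exists_dual_one (p := Submodule.span K {v}) (x := ρ k₀) fun h => by
    obtain ⟨c, hc⟩ := Submodule.mem_span_singleton.mp h
    exact hk₀' c hc.symm
  obtain ⟨w₀, hw₀⟩ := C.exists_dual ψ
  have hvw : φ v w₀ = 0 := by rw [hw₀]; exact hψ v (Submodule.mem_span_singleton_self v)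
  set π : K →ₗ[F] K := ((φ.flip w₀).restrictScalars F) ∘ₗ ρ with hπdef
  have hπa : ∀ k, π k = φ (ρ k) w₀ := fun k => rfl
  have hk₁ : π k₀ ≠ 0 := by rw [hπa, hw₀, hψ1]; exact one_ne_zero
  have hπJ : ∀ k ∈ lineSet K g.1 u, π k = 0 := by
    rintro k ⟨c, hc⟩
    rw [hπa, hρa, hc, φ.map_smul, LinearMap.smul_apply, hvw, smul_zero]
  have hSa : ∀ a k, sMap φ v (-(a • w₀)) (g.1 (k • u)) - g.1 (k • u) = (a * π k) • v := fun a k => by
    rw [hL, hβ, zero_smul, mul_zero, add_zero, zero_sub, map_neg, (φ (ρ k)).map_smul, neg_smul,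
      neg_neg, smul_eq_mul, hπa]
  have hwa : ∀ a : K, φ v (-(a • w₀)) = 0 := fun a => by rw [map_neg, map_smul, hvw, smul_zero, neg_zero]
  have dich : ∀ a : K, (∀ k, a * π k ∈ Wc) ∨ ∀ k, a * π k ∈ Wc → k ∈ lineSet K g.1 u := by
    intro a
    rcases C.moved_dich hm hmax (hwa a) with h | ⟨_, -, -, -, -, h⟩
    · refine Or.inl fun k => ?_
      obtain ⟨i, hi⟩ := h k
      exact ⟨i, by rw [hlinea, hρa, hi, hSa]⟩
    · refine Or.inr fun k hk => h k ?_
      obtain ⟨i, hi⟩ := hk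
      exact ⟨i, by rw [hSa, ← hρa, hi, hlinea]⟩
  have hWne : ∃ c, c ∉ Wc := by
    by_contra hall
    simp only [not_exists, not_not] at hall
    choose i hi using fun c => (hmemW c).1 (hall c)
    have hiinj : Function.Injective i := fun a b h =>
      smul_left_injective K hv0 (show a • v = b • v by rw [← hi, ← hi, h])
    obtain ⟨c, hc⟩ := Finite.surjective_of_injective hiinj k₀
    exact hk₀' c (by rw [← hc, hi])
  have hker : ∀ k, π k = 0 → k ∈ lineSet K g.1 u := by
    intro k hk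
    obtain ⟨c, hc⟩ := hWne
    rcases dich (c * (π k₀)⁻¹) with h | h
    · exact absurd (h k₀) (by rwa [inv_mul_cancel_right₀ hk₁])
    · exact h k (by rw [hk, mul_zero]; exact Wc.zero_mem)
  have hA : ∀ a k k', π k ≠ 0 → a * π k ∈ Wc → a * π k' ∈ Wc := fun a k k' hne h =>
    (dich a).elim (fun h' => h' k') fun h' => absurd (hπJ k (h' k h)) hne
  let S : Subalgebra F K :=
    { carrier := {l | ∀ w ∈ Wc, l * w ∈ Wc}
      mul_mem' := fun {a b} ha hb w hw => by rw [mul_assoc]; exact ha _ (hb w hw)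
      add_mem' := fun {a b} ha hb w hw => by rw [add_mul]; exact add_mem (ha w hw) (hb w hw)
      algebraMap_mem' := fun c w hw => by rw [← Algebra.smul_def]; exact Wc.smul_mem c hw }
  have hSbot : S = ⊥ := by
    have := Subalgebra.isSimpleOrder_of_finrank_prime F K C.prime
    refine (eq_bot_or_eq_top S).resolve_right fun hS => ?_
    obtain ⟨c, hc⟩ := hWne
    have : c ∈ S := by rw [hS]; exact Algebra.mem_top
    exact hc (by simpa using this 1 h1W)
  set e₀ := π k₀ with he₀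
  have hline' : ∀ k, ∃ c : F, π k = c • e₀ := by
    intro k
    have hS : π k * e₀⁻¹ ∈ S := fun w hw => by
      have h := hA (w * e₀⁻¹) k₀ k hk₁ (by rwa [← he₀, inv_mul_cancel_right₀ hk₁])
      rwa [mul_comm (π k) e₀⁻¹, mul_assoc, mul_comm (π k) w, ← mul_assoc, mul_comm e₀⁻¹ w]
    rw [hSbot, Algebra.mem_bot] at hS
    obtain ⟨c, hc⟩ := hS
    exact ⟨c, by rw [Algebra.smul_def, hc, inv_mul_cancel_right₀ hk₁]⟩
  choose χ hχ using hline'
  have hinj : ∀ c c' : F, c • e₀ = c' • e₀ → c = c' := fun c c' h => smul_left_injective F hk₁ h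
  let χl : K →ₗ[F] F :=
    { toFun := χ
      map_add' := fun x y => hinj _ _ (by rw [← hχ, map_add, hχ, hχ, add_smul])
      map_smul' := fun c x => hinj _ _ (by rw [← hχ, map_smul, hχ, smul_smul]; rfl) }
  refine ⟨χl, fun h => hk₁ ?_, fun i hi => ?_⟩
  · show π k₀ = 0
    rw [hχ k₀, show χ k₀ = χl k₀ from rfl, h, LinearMap.zero_apply, zero_smul]
  obtain ⟨c, hc⟩ : i ∈ lineSet K g.1 u := hker i (by rw [hχ i, show χ i = 0 from hi, zero_smul])
  obtain ⟨R, hR, -, hRx⟩ := C.exists_S hvv (hwa (c * e₀⁻¹))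
  refine ⟨g⁻¹ * R * g, mul_mem (mul_mem (inv_mem hm.mem) hR) hm.mem, fun k => g.1.injective ?_⟩
  rw [mul_apply', mul_apply', inv_apply', LinearEquiv.apply_symm_apply, hRx,
    sub_eq_iff_eq_add.mp (hSa _ k), hχ k, mul_smul_comm, inv_mul_cancel_right₀ hk₁, add_smul,
    smul_assoc (χl k) i u, map_add, g.1.map_smul, hc, ← hv, smul_assoc, add_comm]
  rfl

theorem axis_of_ker (C : Ctx Q φ τ M) (h4 : 4 ≤ Module.finrank K V) {g : quadIsoms Q} {u : V} (hm : Moved M φ g u)
    (hmax : ∀ g' u', Moved M φ g' u' → (lineSet K g'.1 u').ncard ≤ (lineSet K g.1 u).ncard)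
    {k₀ : K} (hk₀ : k₀ ∉ lineSet K g.1 u) (hβ₀ : φ (g.1 (k₀ • u)) (g.1 u) = 0) :
    ∃ χ : K →ₗ[F] F, χ ≠ 0 ∧ HasAxis M u χ := by
  classical
  set v := g.1 u with hv
  have hvv : φ v v = 0 := hm.sing'
  have hv0 : v ≠ 0 := fun e => hm.ne (g.1.map_eq_zero_iff.mp e)
  set ρ : K →ₗ[F] V :=
    (g.1 : V →ₗ[F] V) ∘ₗ (LinearMap.toSpanSingleton K V u).restrictScalars F with hρ
  have hρa : ∀ k, ρ k = g.1 (k • u) := fun k => rfl
  have hρinj : Function.Injective ρ := fun a b h =>
    smul_left_injective K hm.ne (g.1.injective h)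
  have hL : ∀ w k, sMap φ v w (g.1 (k • u)) - g.1 (k • u) =
      φ (ρ k) v • w - (φ (ρ k) w + φ w w / 2 * φ (ρ k) v) • v := fun w k => by
    rw [sMap, hρa]; abel
  have hk₀' : ∀ c : K, ρ k₀ ≠ c • v := fun c hc => hk₀ ⟨c, hc⟩
  -- the line is orthogonal to the image
  have hβ : ∀ k, φ (ρ k) v = 0 := by
    obtain ⟨w, ⟨hwv, hw0⟩, hwnot⟩ : ∃ w, (φ v w = 0 ∧ φ (ρ k₀) w = 0) ∧ ∀ c : K, w ≠ c • v := by
      let L : V →ₗ[K] K × K := (φ v).prod (φ (ρ k₀))
      by_contra hall
      push Not at hall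
      have hle : LinearMap.ker L ≤ Submodule.span K {v} := fun w hw => by
        obtain ⟨c, hc⟩ := hall w (Prod.ext_iff.mp hw)
        exact hc ▸ Submodule.smul_mem _ _ (Submodule.mem_span_singleton_self v)
      have h1 := Submodule.finrank_mono hle
      have h2 := LinearMap.finrank_range_add_finrank_ker L
      have h3 := Submodule.finrank_le (LinearMap.range L)
      rw [finrank_span_singleton hv0] at h1
      rw [Module.finrank_prod, Module.finrank_self] at h3
      omega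
    intro k
    by_contra hk
    set x := φ (ρ k) v • w - φ (ρ k) w • v with hx
    have hx0 : x ≠ 0 := fun e => hwnot ((φ (ρ k) v)⁻¹ * φ (ρ k) w) (by
      rw [← smul_smul, ← sub_eq_zero.mp e, inv_smul_smul₀ hk])
    have hmemU : ∀ a : K, ∃ i, ρ i = a • x := by
      intro a
      have hall : ∀ c : K, ∃ i, ρ i = φ (ρ k) v • c • w -
          (φ (ρ k) (c • w) + φ (c • w) (c • w) / 2 * φ (ρ k) v) • v := by
        intro c
        have hcw : φ v (c • w) = 0 := by rw [map_smul, hwv, smul_zero]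
        have h0 : ∃ i : K, g.1 (i • u) =
            sMap φ v (c • w) (g.1 (k₀ • u)) - g.1 (k₀ • u) := ⟨0, by
          rw [zero_smul, map_zero, hL, hρa, hβ₀, ← hρa, (φ (ρ k₀)).map_smul, hw0]; simp⟩
        rcases C.moved_dich hm hmax hcw with h | ⟨_, -, -, -, -, h⟩
        · obtain ⟨i, hi⟩ := h k
          exact ⟨i, by rw [hρa, hi, hL]⟩
        · exact absurd (h k₀ h0) hk₀
      obtain ⟨i, hi⟩ := hall a
      obtain ⟨j, hj⟩ := hall (-a)
      refine ⟨(2 : F)⁻¹ • (i - j), ?_⟩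
      rw [map_smul, map_sub, hi, hj, hx]
      have h2 := C.two'
      simp only [map_smul, LinearMap.smul_apply, neg_smul, map_neg, LinearMap.neg_apply, smul_eq_mul]
      rw [inv_smul_eq_iff₀ C.two, two_smul]
      module
    choose i hi using hmemU
    have hinj : Function.Injective i := fun a b h =>
      smul_left_injective K hx0 (show a • x = b • x by rw [← hi, ← hi, h])
    obtain ⟨a, ha⟩ := Finite.surjective_of_injective hinj 1
    have hva : a • x = v := by rw [← hi, ha, hρa, one_smul]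
    have ha0 : a ≠ 0 := fun e => hv0 (by rw [← hva, e, zero_smul])
    refine hwnot ((φ (ρ k) v)⁻¹ * (a⁻¹ + φ (ρ k) w)) ?_
    have e : φ (ρ k) v • w = (a⁻¹ + φ (ρ k) w) • v := by
      rw [add_smul, show a⁻¹ • v = x by rw [← hva, inv_smul_smul₀ ha0], hx, sub_add_cancel]
    rw [← smul_smul, ← e, inv_smul_smul₀ hk]
  exact C.axis_of_beta hm hmax hk₀ hβ

theorem exists_axis_four (C : Ctx Q φ τ M) (h4 : 4 ≤ Module.finrank K V)
    (h : ∃ g u, Moved M φ g u) :
    ∃ v, v ≠ 0 ∧ φ v v = 0 ∧ ∃ χ : K →ₗ[F] F, χ ≠ 0 ∧ HasAxis M v χ := by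
  classical
  obtain ⟨g₀, u₀, h₀⟩ := h
  have : Finite V := Module.finite_of_finite K
  have : Finite (V ≃ₗ[F] V) :=
    Finite.of_injective (fun g => (g : V → V)) DFunLike.coe_injective
  obtain ⟨⟨g, u⟩, hm, hmax'⟩ := Set.exists_max_image
    {p : quadIsoms Q × V | Moved M φ p.1 p.2} (fun p => (lineSet K p.1.1 p.2).ncard)
    (Set.toFinite _) ⟨(g₀, u₀), h₀⟩
  replace hm : Moved M φ g u := hm
  have hmax : ∀ g' u', Moved M φ g' u' →
      (lineSet K g'.1 u').ncard ≤ (lineSet K g.1 u).ncard := fun g' u' h' => hmax' (g', u') h'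
  by_cases hk : ∃ k₀, k₀ ∉ lineSet K g.1 u ∧ φ (g.1 (k₀ • u)) (g.1 u) = 0
  · obtain ⟨k₀, hk₀, hβ⟩ := hk
    exact ⟨u, hm.ne, hm.sing, C.axis_of_ker h4 hm hmax hk₀ hβ⟩
  push Not at hk
  set v := g.1 u with hv
  have hvv : φ v v = 0 := hm.sing'
  have hv0 : v ≠ 0 := fun e => hm.ne (g.1.map_eq_zero_iff.mp e)
  set ρ : K →ₗ[F] V :=
    (g.1 : V →ₗ[F] V) ∘ₗ (LinearMap.toSpanSingleton K V u).restrictScalars F with hρ
  have hρa : ∀ k, ρ k = g.1 (k • u) := fun k => rfl
  let J : Submodule F K :=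
    (LinearMap.range ((LinearMap.toSpanSingleton K V v).restrictScalars F)).comap ρ
  have hJ : ∀ k, k ∈ J ↔ k ∈ lineSet K g.1 u := fun k =>
    ⟨fun ⟨c, hc⟩ => ⟨c, hc.symm⟩, fun ⟨c, hc⟩ => ⟨c, hc.symm⟩⟩
  obtain ⟨k₁, hk₁⟩ : ∃ k₁, k₁ ∉ lineSet K g.1 u := by
    by_contra hall
    push Not at hall
    exact hm.off hall
  obtain ⟨J', hJJ'⟩ := Submodule.exists_isCompl J
  have hJd : 0 < Module.finrank F J := by
    refine Module.finrank_pos_iff_exists_ne_zero.mpr ⟨⟨1, (hJ 1).2 ⟨1, by simp⟩⟩, ?_⟩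
    intro e
    exact one_ne_zero (congrArg Subtype.val e)
  have hsum := Submodule.finrank_add_eq_of_isCompl hJJ'
  let cb := Module.finBasis F J'
  -- a complement of the line in its orthogonal
  let W₀ : Submodule K V := LinearMap.ker (φ v)
  have hvW₀ : v ∈ W₀ := hvv
  obtain ⟨Wq, hWq⟩ := Submodule.exists_isCompl (Submodule.span K {(⟨v, hvW₀⟩ : W₀)})
  let W : Submodule K V := Wq.map W₀.subtype
  have hWv : ∀ w ∈ W, φ v w = 0 := by rintro _ ⟨x, -, rfl⟩; exact x.2
  have hWnot : ∀ w ∈ W, ∀ c : K, w = c • v → w = 0 := by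
    rintro _ ⟨x, hx, rfl⟩ c hc
    have : x ∈ Submodule.span K {(⟨v, hvW₀⟩ : W₀)} :=
      Submodule.mem_span_singleton.mpr ⟨c, Subtype.ext hc.symm⟩
    have h0 := Submodule.disjoint_def.mp hWq.disjoint x this hx
    rw [h0]; rfl
  have hWdim : Module.finrank K V ≤ Module.finrank K W + 2 := by
    have h1 : Module.finrank K W = Module.finrank K Wq :=
      Submodule.finrank_map_subtype_eq W₀ Wq
    have h2 := Submodule.finrank_add_eq_of_isCompl hWq
    rw [finrank_span_singleton (K := K) (v := (⟨v, hvW₀⟩ : W₀))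
      fun e => hv0 (congrArg Subtype.val e)] at h2
    have h3 := LinearMap.finrank_range_add_finrank_ker (φ v)
    have h4 := Submodule.finrank_le (LinearMap.range (φ v))
    rw [Module.finrank_self] at h4
    have h5 : Module.finrank K W₀ = Module.finrank K (LinearMap.ker (φ v)) := rfl
    omega
  set β := φ (ρ k₁) v with hβ
  let WF : Submodule F V := W.restrictScalars F
  have hWF : 2 * Fintype.card (Fin (Module.finrank F J')) < Module.finrank F WF := by
    rw [Fintype.card_fin, show Module.finrank F WF = Module.finrank F W from rfl,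
      ← Module.finrank_mul_finrank F K W]
    have h1 : Module.finrank F K * 2 ≤ Module.finrank F K * Module.finrank K W := by
      exact Nat.mul_le_mul_left _ (by omega)
    omega
  let lin : Fin (Module.finrank F J') → WF →ₗ[F] F := fun c => τ ∘ₗ
    ((β • φ.flip (ρ (cb c)) -
      φ (ρ (cb c)) v • φ (ρ k₁)).restrictScalars F ∘ₗ WF.subtype)
  let B : Fin (Module.finrank F J') → WF →ₗ[F] WF →ₗ[F] F := fun c =>
    LinearMap.mk₂ F (fun w w' => -τ (φ (w : V) (w' : V) * (β * φ (ρ (cb c)) v / 2)))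
      (fun a b d => by simp only [Submodule.coe_add, map_add, LinearMap.add_apply, add_mul, neg_add])
      (fun t a d => by
        simp only [Submodule.coe_smul, LinearMap.map_smul_of_tower, LinearMap.smul_apply,
          smul_mul_assoc, map_smul, smul_neg])
      (fun a b d => by simp only [Submodule.coe_add, map_add, add_mul, neg_add])
      (fun t a d => by
        simp only [Submodule.coe_smul, LinearMap.map_smul_of_tower, smul_mul_assoc, map_smul,
          smul_neg])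
  obtain ⟨⟨w, hwW⟩, hw0, hwz⟩ := exists_common_zero lin B hWF
  replace hw0 : w ≠ 0 := fun e => hw0 (Subtype.ext e)
  have hvw : φ v w = 0 := hWv w hwW
  have hk₁L : sMap φ v w (ρ k₁) - ρ k₁ = β • w - (φ (ρ k₁) w + φ w w / 2 * β) • v := by
    rw [sMap, ← hβ]; abel
  have hperpU : ∀ s, τ (φ (sMap φ v w (ρ k₁) - ρ k₁) (ρ s)) = 0 := by
    intro s
    let Λ : K →ₗ[F] F := τ ∘ₗ (φ (sMap φ v w (ρ k₁) - ρ k₁)).restrictScalars F ∘ₗ ρ
    have hΛ : Λ = 0 := by
      refine LinearMap.ker_eq_top.mp (top_le_iff.mp ?_)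
      rw [← hJJ'.sup_eq_top, sup_le_iff]
      constructor
      · intro j hj
        obtain ⟨c, hc⟩ := (hJ j).1 hj
        rw [LinearMap.mem_ker]
        show τ (φ (sMap φ v w (ρ k₁) - ρ k₁) (ρ j)) = 0
        rw [hρa j, hc, ← hv, (φ _).map_smul, sMap]
        simp [C.symm w v, hvw, hvv]
      · have hb : ∀ c, Λ (cb c : K) = 0 := fun c => by
          have h := hwz c
          show τ (φ (sMap φ v w (ρ k₁) - ρ k₁) (ρ (cb c))) = 0
          rw [← h, hk₁L]
          simp only [lin, B, LinearMap.comp_apply, LinearMap.mk₂_apply, Submodule.coe_subtype,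
            LinearMap.restrictScalars_apply, LinearMap.sub_apply, LinearMap.smul_apply,
            LinearMap.flip_apply, φ.map_sub, φ.map_smul, smul_eq_mul,
            ← sub_eq_add_neg, C.symm (ρ (cb c)) v, ← map_sub, add_sub_right_comm]
          congr 1
          ring
        intro j hj
        have e : Λ ∘ₗ J'.subtype = 0 := cb.ext fun c => hb c
        exact LinearMap.congr_fun e ⟨j, hj⟩
    exact LinearMap.congr_fun hΛ s
  rcases C.moved_dich hm hmax hvw with hall | ⟨g₂, hm₂, hfix, hg₂, hcard, hin⟩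
  · obtain ⟨i, hi⟩ := hall k₁
    have hiv : φ (g.1 (i • u)) (g.1 u) = 0 := by
      rw [hi, ← hv, sMap]; simp [C.symm w v, hvw, hvv]
    obtain ⟨c, hc⟩ : i ∈ lineSet K g.1 u := by_contra fun hn => hk i hn hiv
    rw [hc, ← hv, ← hρa, hk₁L] at hi
    have hb0 : β ≠ 0 := hk k₁ hk₁
    refine absurd ?_ hw0
    refine hWnot w hwW (β⁻¹ * (c + (φ (ρ k₁) w + φ w w / 2 * β))) ?_
    rw [← smul_smul, add_smul, hi, sub_add_cancel, inv_smul_smul₀ hb0]
  refine ⟨u, hm.ne, hm.sing, C.axis_of_ker h4 hm₂ (fun g' u' h' => hcard ▸ hmax g' u' h') (k₀ := k₁)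
    ?_ ?_⟩
  · rintro ⟨c, hc⟩
    refine hk₁ (hin k₁ ⟨c - k₁, ?_⟩)
    rw [← hg₂, hc, hfix, sub_smul, map_sub]
  · refine C.tau_inj fun s => ?_
    rw [mul_zero, map_zero, hfix, ← smul_eq_mul, ← (φ (g₂.1 (k₁ • u))).map_smul, ← C.iso g,
      hg₂, ← hρa, ← hρa, show sMap φ v w (ρ k₁) = (sMap φ v w (ρ k₁) - ρ k₁) + ρ k₁ by abel,
      map_add, LinearMap.add_apply, map_add, hperpU, zero_add, hρa, hρa, C.iso, φ.map_smul,
      LinearMap.smul_apply, (φ u).map_smul, hm.sing, smul_zero, smul_zero, map_zero]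

end Ctx

end CfsgLib.MaxSub.OExt
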