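import Cfsg.Agent.Lib.MaxSub.ExtBase
import Cfsg.Agent.Lib.MaxSub.OrthSing
import Cfsg.Agent.Lib.Classical.OrthSimple

/-!
The semilinear orthogonal group of a trace form `Q`, `polar Q = τ ∘ φ` with `φ` a symmetric `K`-form:
basic elements, odd characteristic.
-/

set_option autoImplicit false
set_option linter.unusedSectionVars false

namespace CfsgLib.MaxSub.OExt

open CfsgLib.Classical CfsgLib.Geom
open QuadraticMap (polar)

variable {F K V : Type*} [Field F] [Field K] [Algebra F K] [AddCommGroup V] [Module K V]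
  [Module F V] [IsScalarTower F K V]

/-- `g` is linear over `K`. -/
def KLin (K : Type*) {F V : Type*} [Field F] [Field K] [AddCommGroup V] [Module K V]
    [Module F V] (g : V ≃ₗ[F] V) : Prop :=
  ∀ (k : K) (x : V), g (k • x) = k • g x

theorem KLin.semi {g : V ≃ₗ[F] V} (h : KLin K g) : KSemi K g := fun k => ⟨k, h k⟩

/-- `M` realises the map `h`. -/
def InM {Q : QuadraticForm F V} (M : Subgroup (quadIsoms Q)) (h : V → V) : Prop :=
  ∃ g ∈ M, ∀ x, g.1 x = h x

/-- the Siegel element of the `K`-form -/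
def sMap (φ : V →ₗ[K] V →ₗ[K] K) (v w : V) (x : V) : V :=
  x + φ x v • w - (φ x w + φ w w / 2 * φ x v) • v

/-- The setting: `M` contains the semilinear part of the commutator group. -/
structure Ctx (Q : QuadraticForm F V) (φ : V →ₗ[K] V →ₗ[K] K) (τ : K →ₗ[F] F)
    (M : Subgroup (quadIsoms Q)) : Prop where
  sep : ∀ x, (∀ y, polar Q x y = 0) → x = 0
  symm : ∀ u v, φ u v = φ v u
  rel : ∀ u v, polar Q u v = τ (φ u v)
  tau : τ ≠ 0
  two : (2 : F) ≠ 0
  prime : (Module.finrank F K).Prime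
  three : 3 ≤ Module.finrank K V
  gap : 4 ≤ Module.finrank K V ∨ 3 ≤ Module.finrank F K
  sub : M ≤ commutator (quadIsoms Q)
  mem : ∀ g ∈ commutator (quadIsoms Q), KSemi K g.1 → g ∈ M

theorem inv_apply' {Q : QuadraticForm F V} (g : quadIsoms Q) (x : V) :
    (g⁻¹ : quadIsoms Q).1 x = g.1.symm x := rfl

theorem mul_apply' {Q : QuadraticForm F V} (g h : quadIsoms Q) (x : V) :
    (g * h).1 x = g.1 (h.1 x) := rfl

/-- the field automorphism of a semilinear map -/
theorem semi_sigma [Finite K] [Nontrivial V] {g : V ≃ₗ[F] V} (h : KSemi K g) :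
    ∃ σ : K →+* K, Function.Bijective σ ∧ ∀ (k : K) (x : V), g (k • x) = σ k • g x := by
  choose σ hσ using h
  obtain ⟨x, hx⟩ := exists_ne (0 : V)
  have hgx : g x ≠ 0 := fun e => hx (g.map_eq_zero_iff.mp e)
  have inj : ∀ {a b : K}, a • g x = b • g x → a = b := fun h => smul_left_injective K hgx h
  let S : K →+* K :=
    { toFun := σ
      map_one' := inj (by rw [← hσ, one_smul, one_smul])
      map_zero' := inj (by rw [← hσ, zero_smul, zero_smul, map_zero])
      map_add' := fun a b => inj (by rw [← hσ, add_smul, map_add, hσ, hσ, add_smul])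
      map_mul' := fun a b => inj (by rw [← hσ, mul_smul, hσ, hσ, smul_smul]) }
  exact ⟨S, Finite.injective_iff_bijective.mp S.injective, hσ⟩

/-- multiplicative maps of a finite field commute -/
theorem hom_comm [Finite K] (σ ρ : K →+* K) (k : K) : σ (ρ k) = ρ (σ k) := by
  rcases eq_or_ne k 0 with rfl | hk
  · simp
  obtain ⟨ζ, hζ⟩ := IsCyclic.exists_generator (α := Kˣ)
  obtain ⟨i, hi⟩ := (mem_powers_iff_mem_zpowers (x := ζ)).mpr (hζ (Units.map σ.toMonoidHom ζ))
  obtain ⟨j, hj⟩ := (mem_powers_iff_mem_zpowers (x := ζ)).mpr (hζ (Units.map ρ.toMonoidHom ζ))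
  obtain ⟨m, hm⟩ := (mem_powers_iff_mem_zpowers (x := ζ)).mpr (hζ (Units.mk0 k hk))
  have hi' : σ (ζ : K) = (ζ : K) ^ i := (congrArg Units.val hi).symm
  have hj' : ρ (ζ : K) = (ζ : K) ^ j := (congrArg Units.val hj).symm
  have hm' : k = (ζ : K) ^ m := (congrArg Units.val hm).symm
  rw [hm', map_pow, map_pow, map_pow, map_pow, hi', hj', map_pow, map_pow, hi', hj']
  simp only [← pow_mul, mul_assoc, mul_left_comm]

/-- a commutator of semilinear maps is linear -/
theorem kLin_comm [Finite K] [Nontrivial V] {Q : QuadraticForm F V} {a b : quadIsoms Q}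
    (ha : KSemi K a.1) (hb : KSemi K b.1) : KLin K (a * b * a⁻¹ * b⁻¹).1 := by
  obtain ⟨σ, hσb, hσ⟩ := semi_sigma ha
  obtain ⟨ρ, hρb, hρ⟩ := semi_sigma hb
  have hi : ∀ k x, a.1.symm (σ k • x) = k • a.1.symm x := fun k x => by
    rw [LinearEquiv.symm_apply_eq, hσ, LinearEquiv.apply_symm_apply]
  have hj : ∀ k x, b.1.symm (ρ k • x) = k • b.1.symm x := fun k x => by
    rw [LinearEquiv.symm_apply_eq, hρ, LinearEquiv.apply_symm_apply]
  intro k x
  obtain ⟨k, rfl⟩ := hρb.2 k
  obtain ⟨k, rfl⟩ := hσb.2 k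
  simp only [mul_apply', inv_apply']
  rw [hj, hi, hρ, hσ, hom_comm σ ρ]

namespace Ctx

variable [Finite F] [Finite K] [Module.Finite K V] [Module.Finite F K] [FiniteDimensional F V]
  {Q : QuadraticForm F V} {φ : V →ₗ[K] V →ₗ[K] K} {τ : K →ₗ[F] F} {M : Subgroup (quadIsoms Q)}

theorem two' (C : Ctx Q φ τ M) : (2 : K) ≠ 0 := by
  rw [← map_ofNat (algebraMap F K) 2]
  exact (map_ne_zero _).2 C.two

theorem nontriv (C : Ctx Q φ τ M) : Nontrivial V :=
  Module.nontrivial_of_finrank_pos (R := K) (by have := C.three; omega)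

theorem five (C : Ctx Q φ τ M) : 5 ≤ Module.finrank F V := by
  rw [← Module.finrank_mul_finrank F K V]
  have h1 := C.prime.two_le
  have h2 := C.three
  nlinarith

theorem q_zero (C : Ctx Q φ τ M) {v : V} (h : φ v v = 0) (c : K) : Q (c • v) = 0 := by
  have h1 : polar Q (c • v) (c • v) = 0 := by
    rw [C.rel, φ.map_smul, LinearMap.smul_apply, (φ v).map_smul, h, smul_zero, smul_zero, map_zero]
  rw [polar_self_two] at h1
  exact (mul_eq_zero.mp h1).resolve_left C.two

theorem exists_tau (C : Ctx Q φ τ M) {b : K} (hb : b ≠ 0) : ∃ y, τ (b * y) ≠ 0 := by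
  obtain ⟨z, hz⟩ : ∃ z, τ z ≠ 0 := by
    by_contra h
    simp only [not_exists, not_not] at h
    exact C.tau (LinearMap.ext h)
  exact ⟨b⁻¹ * z, by rwa [mul_inv_cancel_left₀ hb]⟩

theorem tau_inj (C : Ctx Q φ τ M) {a b : K} (h : ∀ s, τ (s * a) = τ (s * b)) : a = b := by
  by_contra hne
  obtain ⟨y, hy⟩ := C.exists_tau (sub_ne_zero.2 hne)
  refine hy ?_
  rw [sub_mul, map_sub, mul_comm a, mul_comm b, h, sub_self]

/-- every functional on `K` is `τ (b * ·)` -/
theorem exists_rep (C : Ctx Q φ τ M) (χ : K →ₗ[F] F) : ∃ b, ∀ y, χ y = τ (b * y) := by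
  let e : K →ₗ[F] (K →ₗ[F] F) :=
    { toFun := fun μ => τ ∘ₗ LinearMap.mulLeft F μ
      map_add' := fun μ ν => by ext x; simp [add_mul]
      map_smul' := fun s μ => by ext x; simp }
  have hinj : Function.Injective e := fun a b h => C.tau_inj fun s => by
    have := LinearMap.congr_fun h s
    simpa [e, mul_comm] using this
  obtain ⟨b, hb⟩ := (LinearMap.injective_iff_surjective_of_finrank_eq_finrank
    (Subspace.dual_finrank_eq (K := F) (V := K)).symm).mp hinj χ
  exact ⟨b, fun y => by rw [← hb]; rfl⟩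

theorem nondeg (C : Ctx Q φ τ M) (v : V) (h : ∀ w, φ v w = 0) : v = 0 :=
  C.sep v fun w => by rw [C.rel, h, map_zero]

theorem exists_one (C : Ctx Q φ τ M) {v : V} (hv : v ≠ 0) : ∃ z, φ v z = 1 := by
  by_contra h
  simp only [not_exists] at h
  refine hv (C.nondeg v fun w => ?_)
  by_contra hw
  exact h ((φ v w)⁻¹ • w) (by rw [map_smul, smul_eq_mul, inv_mul_cancel₀ hw])

/-- every `K`-functional is `φ · w` -/
theorem exists_dual (C : Ctx Q φ τ M) (ψ : V →ₗ[K] K) : ∃ w, ∀ x, φ x w = ψ x := by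
  have hinj : Function.Injective φ.flip := by
    rw [← LinearMap.ker_eq_bot, LinearMap.ker_eq_bot']
    intro w hw
    refine C.nondeg w fun x => ?_
    rw [C.symm]
    simpa using LinearMap.congr_fun hw x
  obtain ⟨w, hw⟩ := (LinearMap.injective_iff_surjective_of_finrank_eq_finrank
    (Subspace.dual_finrank_eq (K := K) (V := V)).symm).mp hinj ψ
  exact ⟨w, fun x => by rw [← hw]; rfl⟩

/-- an opposite singular vector -/
theorem exists_opp (C : Ctx Q φ τ M) {v : V} (hv : v ≠ 0) (h : φ v v = 0) :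
    ∃ x, φ x x = 0 ∧ φ x v = 1 := by
  obtain ⟨z, hz⟩ := C.exists_one hv
  refine ⟨z - (φ z z / 2) • v, ?_, ?_⟩
  · have hz' : φ z v = 1 := by rw [C.symm]; exact hz
    simp only [map_sub, map_smul, LinearMap.sub_apply, LinearMap.smul_apply, h, hz, hz',
      smul_eq_mul]
    field_simp [C.two']
    ring
  · simp only [map_sub, map_smul, LinearMap.sub_apply, LinearMap.smul_apply, h, C.symm z v, hz,
      smul_zero, sub_zero]

theorem iso (C : Ctx Q φ τ M) (g : quadIsoms Q) (u v : V) :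
    τ (φ (g.1 u) (g.1 v)) = τ (φ u v) := by
  rw [← C.rel, ← C.rel, polar_quadIsom g.2]

/-- the `K`-linear isometries preserve `φ` -/
theorem iso_lin (C : Ctx Q φ τ M) {g : quadIsoms Q} (hg : KLin K g.1) (u v : V) :
    φ (g.1 u) (g.1 v) = φ u v := C.tau_inj fun s => by
  rw [← smul_eq_mul, ← smul_eq_mul, ← (φ (g.1 u)).map_smul, ← (φ u).map_smul, ← hg, C.iso]

theorem sq_mem (C : Ctx Q φ τ M) (g : quadIsoms Q) : g * g ∈ commutator (quadIsoms Q) := by
  let π : quadIsoms Q →* Abelianization (quadIsoms Q) := Abelianization.of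
  have hle : quadIsoms Q ≤ ((MonoidHom.ker ((powMonoidHom 2).comp π)).map
      (quadIsoms Q).subtype) := by
    conv_lhs => rw [quadIsoms_eq_closure Q C.sep (Or.inr (by have := C.five; omega))]
    rw [Subgroup.closure_le]
    rintro _ ⟨v, hv, rfl⟩
    refine ⟨⟨reflEquiv Q v hv, reflEquiv_mem Q v hv⟩, ?_, rfl⟩
    rw [SetLike.mem_coe, MonoidHom.mem_ker, MonoidHom.comp_apply, powMonoidHom_apply, ← map_pow,
      show (⟨reflEquiv Q v hv, reflEquiv_mem Q v hv⟩ : quadIsoms Q) ^ 2 = 1 from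
        Subtype.ext (by rw [Subgroup.coe_pow, pow_two, reflEquiv_mul_self]; rfl), map_one]
  obtain ⟨g', hg', hgg⟩ := hle g.2
  obtain rfl : g' = g := Subtype.ext hgg
  rw [SetLike.mem_coe, MonoidHom.mem_ker, MonoidHom.comp_apply, powMonoidHom_apply, pow_two,
    ← map_mul] at hg'
  rw [← Abelianization.ker_of]
  exact hg'

theorem mem_lin (C : Ctx Q φ τ M) (h : V ≃ₗ[K] V) (hh : ∀ u v, φ (h u) (h v) = φ u v) :
    InM M fun x => h (h x) := by
  have hQ : h.restrictScalars F ∈ quadIsoms Q := mem_quadIsoms.2 fun x => by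
    have e : polar Q (h x) (h x) = polar Q x x := by rw [C.rel, C.rel, hh]
    rw [polar_self_two, polar_self_two] at e
    exact mul_left_cancel₀ C.two e
  set g : quadIsoms Q := ⟨_, hQ⟩ with hg
  refine ⟨g * g, C.mem _ (C.sq_mem g) (KLin.semi fun k x => ?_), fun x => rfl⟩
  show h (h (k • x)) = k • h (h x)
  rw [map_smul, map_smul]

theorem sMap_comp (C : Ctx Q φ τ M) {v w w' : V} (hv : φ v v = 0) (hw : φ v w = 0)
    (hw' : φ v w' = 0) (x : V) : sMap φ v w (sMap φ v w' x) = sMap φ v (w + w') x := by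
  have h1 : φ w' v = 0 := by rw [C.symm]; exact hw'
  simp only [sMap, map_add, map_sub, map_smul, LinearMap.add_apply, LinearMap.sub_apply,
    LinearMap.smul_apply, hv, hw, h1, smul_eq_mul, C.symm w w', mul_zero, add_zero, sub_zero]
  have h2' := C.two'
  match_scalars <;> field_simp
  ring

theorem sMap_zero (v x : V) : sMap φ v 0 x = x := by simp [sMap]

theorem sMap_iso (C : Ctx Q φ τ M) {v w : V} (hv : φ v v = 0) (hw : φ v w = 0) (x y : V) :
    φ (sMap φ v w x) (sMap φ v w y) = φ x y := by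
  have h2 : φ w v = 0 := by rw [C.symm]; exact hw
  simp only [sMap, map_add, map_sub, map_smul, LinearMap.add_apply, LinearMap.sub_apply,
    LinearMap.smul_apply, hv, hw, h2, smul_eq_mul, C.symm w y, C.symm v y]
  have h2' := C.two'
  field_simp
  ring

/-- the Siegel elements of the `K`-form -/
theorem exists_S (C : Ctx Q φ τ M) {v w : V} (hv : φ v v = 0) (hw : φ v w = 0) :
    ∃ g ∈ M, KLin K g.1 ∧ ∀ x, g.1 x = sMap φ v w x := by
  set w' := (2 : K)⁻¹ • w with hwd
  have h1 : φ v w' = 0 := by rw [hwd, map_smul, hw, smul_zero]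
  have h2 : φ v (-w') = 0 := by rw [map_neg, h1, neg_zero]
  let L : V → V →ₗ[K] V := fun z =>
    { toFun := sMap φ v z
      map_add' := fun x y => by
        simp only [sMap, map_add, LinearMap.add_apply]
        module
      map_smul' := fun c x => by
        simp only [sMap, map_smul, LinearMap.smul_apply, smul_eq_mul, RingHom.id_apply]
        module }
  let e : V ≃ₗ[K] V := LinearEquiv.ofLinearMap (L w') (L (-w'))
    (LinearMap.ext fun x => by
      show sMap φ v w' (sMap φ v (-w') x) = x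
      rw [C.sMap_comp hv h1 h2, add_neg_cancel, sMap_zero])
    (LinearMap.ext fun x => by
      show sMap φ v (-w') (sMap φ v w' x) = x
      rw [C.sMap_comp hv h2 h1, neg_add_cancel, sMap_zero])
  obtain ⟨g, hg, hgx⟩ := C.mem_lin e (C.sMap_iso hv h1)
  have hx : ∀ x, g.1 x = sMap φ v w x := fun x => by
    rw [hgx]
    show sMap φ v w' (sMap φ v w' x) = _
    rw [C.sMap_comp hv h1 h1, hwd, ← add_smul, ← two_mul, mul_inv_cancel₀ C.two', one_smul]
  exact ⟨g, hg, fun k x => by rw [hx, hx]; exact (L w).map_smul k x, hx⟩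

/-- the torus of a hyperbolic pair -/
theorem exists_torus (C : Ctx Q φ τ M) {y z : V} (hy : φ y y = 0) (hz : φ z z = 0)
    (hyz : φ y z = 1) {b : K} (hb : b ≠ 0) :
    ∃ g ∈ M, KLin K g.1 ∧
      ∀ x, g.1 x = x + ((b * b - 1) * φ x z) • y + (((b * b)⁻¹ - 1) * φ x y) • z := by
  have hzy : φ z y = 1 := by rw [C.symm]; exact hyz
  let L : K → V →ₗ[K] V := fun c =>
    LinearMap.id + (c - 1) • (φ.flip z).smulRight y + (c⁻¹ - 1) • (φ.flip y).smulRight z
  have hL : ∀ c x, L c x = x + ((c - 1) * φ x z) • y + ((c⁻¹ - 1) * φ x y) • z := fun c x => by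
    simp [L, smul_smul]
  have hcomp : ∀ c d : K, ∀ x, L c (L d x) = L (c * d) x := fun c d x => by
    simp only [hL, map_add, map_smul, LinearMap.add_apply, LinearMap.smul_apply, hy, hz, hyz, hzy,
      smul_eq_mul, mul_inv]
    module
  have hone : ∀ x, L 1 x = x := fun x => by simp [hL]
  let e : V ≃ₗ[K] V := LinearEquiv.ofLinearMap (L b) (L b⁻¹)
    (LinearMap.ext fun x => by rw [LinearMap.comp_apply, hcomp, mul_inv_cancel₀ hb, hone]; rfl)
    (LinearMap.ext fun x => by rw [LinearMap.comp_apply, hcomp, inv_mul_cancel₀ hb, hone]; rfl)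
  obtain ⟨g, hg, hgx⟩ := C.mem_lin e fun u v => by
    show φ (L b u) (L b v) = φ u v
    simp only [hL, map_add, map_smul, LinearMap.add_apply, LinearMap.smul_apply, hy, hz, hyz, hzy,
      smul_eq_mul, C.symm y v, C.symm z v]
    field_simp
    ring
  have hx : ∀ x, g.1 x = L (b * b) x := fun x => by
    rw [hgx]; exact hcomp b b x
  exact ⟨g, hg, fun k x => by rw [hx, hx, map_smul], fun x => by rw [hx, hL]⟩

end Ctx

end CfsgLib.MaxSub.OExt
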