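import Cfsg.Agent.Lib.MaxSub.OExtThreeGroup

/-!
Overgroups of the semilinear orthogonal group of a trace form: a singular line with an element of the centre
of its radical, and all long root elements in some singular line.
-/

set_option autoImplicit false
set_option linter.unusedSectionVars false

namespace CfsgLib.MaxSub.OExt

open CfsgLib.Classical CfsgLib.Geom
open QuadraticMap (polar)

variable {F K V : Type*} [Field F] [Field K] [Algebra F K] [AddCommGroup V] [Module K V]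
  [Module F V] [IsScalarTower F K V]

namespace Ctx

variable [Finite F] [Finite K] [Module.Finite K V] [Module.Finite F K] [FiniteDimensional F V]
  {Q : QuadraticForm F V} {φ : V →ₗ[K] V →ₗ[K] K} {τ : K →ₗ[F] F} {M : Subgroup (quadIsoms Q)}

/-- some element outside the semilinear ones maps a singular vector to a singular vector -/
theorem exists_fix (C : Ctx Q φ τ M) (hg : ∃ g ∈ M, ¬ KSemi K g.1) :
    ∃ g ∈ M, ¬ KSemi K g.1 ∧ ∃ u, u ≠ 0 ∧ φ u u = 0 ∧ φ (g.1 u) (g.1 u) = 0 := by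
  rcases Nat.lt_or_ge (Module.finrank K V) 4 with h | h
  · exact C.exists_fix_three (by have := C.three; omega) (C.gap.resolve_left (by omega)) hg
  · exact C.exists_fix_four h hg

/-- dimension three: some radical has a central element in `M` -/
theorem exists_center_of_max (C : Ctx Q φ τ M) (h3 : Module.finrank K V = 3)
    (hr : 3 ≤ Module.finrank F K) {g : quadIsoms Q} {u : V} (hm : Moved M φ g u)
    (hmax : ∀ g' u', Moved M φ g' u' → (lineSet K g'.1 u').ncard ≤ (lineSet K g.1 u).ncard) :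
    ∃ v, v ≠ 0 ∧ φ v v = 0 ∧ ∃ D : K →ₗ[F] K, D ≠ 0 ∧ InZ M φ v D := by
  have := Fintype.ofFinite F
  have := Fintype.ofFinite K
  by_contra hno
  obtain ⟨b, hb⟩ := C.exists_rep (Algebra.trace F K)
  obtain ⟨z, hz⟩ : ∃ z, Algebra.trace F K z = 1 := Algebra.trace_surjective F K 1
  have hb0 : b ≠ 0 := fun e => one_ne_zero (α := F) (by rw [← hz, hb, e, zero_mul, map_zero])
  let φ' := b⁻¹ • φ
  have hφ' : ∀ y y', φ' y y' = b⁻¹ * φ y y' := fun y y' => rfl
  have hτ : ∀ y, τ y = Algebra.trace F K (b⁻¹ * y) := fun y => by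
    rw [hb, mul_inv_cancel_left₀ hb0]
  have hz' : ∀ {y y'}, φ' y y' = 0 ↔ φ y y' = 0 := fun {y y'} => by
    rw [hφ', mul_eq_zero, or_iff_right (inv_ne_zero hb0)]
  have C' : Ctx Q φ' (Algebra.trace F K) M :=
    { sep := C.sep
      symm := fun y y' => by rw [hφ', hφ', C.symm]
      rel := fun y y' => by rw [C.rel, hτ]; rfl
      tau := fun e => one_ne_zero (α := F) (by rw [← hz, e, LinearMap.zero_apply])
      two := C.two
      prime := C.prime
      three := C.three
      gap := C.gap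
      sub := C.sub
      mem := C.mem }
  refine C'.false_of_no_center h3 hr (fun y => rfl) (fun v hv hvv D hD => ?_)
    (g := g) (u := u) ⟨hm.mem, hm.ne, hz'.2 hm.sing, hz'.2 hm.sing', hm.off⟩
    (fun g' u' h' => hmax g' u' ⟨h'.mem, h'.ne, hz'.1 h'.sing, hz'.1 h'.sing', h'.off⟩)
  by_contra hD0
  refine hno ⟨v, hv, hz'.1 hvv, D ∘ₗ LinearMap.mulLeft F b⁻¹, fun e => hD0 ?_, ?_⟩
  · refine LinearMap.ext fun y => ?_
    have := LinearMap.congr_fun e (b * y)
    rwa [LinearMap.comp_apply, LinearMap.mulLeft_apply, inv_mul_cancel_left₀ hb0] at this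
  · obtain ⟨m, hm', hmx⟩ := hD
    exact ⟨m, hm', fun y => by rw [hmx]; rfl⟩

/-- some line has an axis -/
theorem exists_axis (C : Ctx Q φ τ M) (h : ∃ g u, Moved M φ g u) :
    ∃ v, v ≠ 0 ∧ φ v v = 0 ∧ ∃ χ : K →ₗ[F] F, χ ≠ 0 ∧ HasAxis M v χ := by
  classical
  rcases Nat.lt_or_ge (Module.finrank K V) 4 with h4 | h4
  swap
  · exact C.exists_axis_four h4 h
  have h3 : Module.finrank K V = 3 := by have := C.three; omega
  have hr := C.gap.resolve_left (by omega)
  obtain ⟨g₀, u₀, h₀⟩ := h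
  have : Finite V := Module.finite_of_finite K
  have : Finite (V ≃ₗ[F] V) :=
    Finite.of_injective (fun g => (g : V → V)) DFunLike.coe_injective
  obtain ⟨⟨g, u⟩, hm, hmax'⟩ := Set.exists_max_image
    {p : quadIsoms Q × V | Moved M φ p.1 p.2} (fun p => (lineSet K p.1.1 p.2).ncard)
    (Set.toFinite _) ⟨(g₀, u₀), h₀⟩
  replace hm : Moved M φ g u := hm
  have hmax : ∀ g' u', Moved M φ g' u' →
      (lineSet K g'.1 u').ncard ≤ (lineSet K g.1 u).ncard := fun g' u' h' => hmax' (g', u') h'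
  refine ⟨u, hm.ne, hm.sing, ?_⟩
  obtain ⟨y, hy, hyy, D, hD, hDz⟩ := C.exists_center_of_max h3 hr hm hmax
  by_cases hk : ∃ k₀, k₀ ∉ lineSet K g.1 u ∧ φ (g.1 (k₀ • u)) (g.1 u) = 0
  · obtain ⟨k₀, hk₀, hβ⟩ := hk
    exact C.axis_of_ker' hm hmax hk₀ hβ hy hyy hD hDz
  exact C.axis_of_center h3 hr hm hmax (fun k hk0 => by_contra fun hn => hk ⟨k, hn, hk0⟩) hy hyy hD
    hDz

/-- a singular line with an element of the centre of its radical, and an axis in odd degree -/
theorem exists_center (C : Ctx Q φ τ M) (hg : ∃ g ∈ M, ¬ KSemi K g.1) :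
    ∃ v, v ≠ 0 ∧ φ v v = 0 ∧ (∃ D : K →ₗ[F] K, D ≠ 0 ∧ InZ M φ v D) ∧
      (3 ≤ Module.finrank F K → ∃ χ : K →ₗ[F] F, χ ≠ 0 ∧ HasAxis M v χ) := by
  have hmoved : ∀ g u, Moved M φ g u → ∃ v, v ≠ 0 ∧ φ v v = 0 ∧
      (∃ D : K →ₗ[F] K, D ≠ 0 ∧ InZ M φ v D) ∧
      (3 ≤ Module.finrank F K → ∃ χ : K →ₗ[F] F, χ ≠ 0 ∧ HasAxis M v χ) := fun g u h => by
    obtain ⟨v, hv, hvv, χ, hχ, hax⟩ := C.exists_axis ⟨g, u, h⟩
    exact ⟨v, hv, hvv, C.center_of_axis hv hvv hχ hax, fun _ => ⟨χ, hχ, hax⟩⟩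
  obtain ⟨g, hgM, hns, u, hu, huu, hguu⟩ := C.exists_fix hg
  by_cases hl : LineTo K g.1 u
  swap
  · exact hmoved g u ⟨hgM, hu, huu, hguu, hl⟩
  rcases C.semi_or_center hgM hu huu hguu hl with h | ⟨v, hv', D, hD, hDz⟩
  · exact absurd h hns
  obtain ⟨hv, hvv⟩ : v ≠ 0 ∧ φ v v = 0 := by
    rcases hv' with rfl | rfl
    · exact ⟨hu, huu⟩
    · exact ⟨fun e => hu (g.1.map_eq_zero_iff.mp e), hguu⟩
  rcases Nat.lt_or_ge (Module.finrank F K) 3 with h3 | h3
  · exact ⟨v, hv, hvv, ⟨D, hD, hDz⟩, fun h => absurd h (by omega)⟩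
  obtain ⟨c, hc, hDc⟩ := C.exists_ker h3 D (C.skew_of_inZ hv hvv hDz)
  obtain ⟨z, hz, hzx⟩ := hDz
  obtain ⟨x, hxx, hxv⟩ := C.exists_opp hv hvv
  have hzc : z.1 (c • x) = c • x := by
    rw [hzx]
    dsimp only
    rw [φ.map_smul, LinearMap.smul_apply, hxv, smul_eq_mul, mul_one, hDc, zero_smul, add_zero]
  have hcc : φ (c • x) (c • x) = 0 := by simp [hxx]
  have hx0 : x ≠ 0 := fun e => one_ne_zero (α := K) (by rw [← hxv, e]; simp)
  refine hmoved z (c • x) ⟨hz, smul_ne_zero hc hx0, hcc, by rw [hzc]; exact hcc, fun hl => hD ?_⟩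
  refine LinearMap.ext fun a => ?_
  obtain ⟨c', hc'⟩ := hl (a / c)
  rw [hzc, smul_smul, div_mul_cancel₀ _ hc, hzx] at hc'
  dsimp only at hc'
  rw [φ.map_smul, LinearMap.smul_apply, hxv, smul_eq_mul, mul_one, smul_smul] at hc'
  have h := congrArg (fun y => φ y x) hc'
  simp only [φ.map_add, φ.map_smul, LinearMap.add_apply, LinearMap.smul_apply, hxx, smul_eq_mul,
    mul_zero, zero_add, C.symm v x, hxv, mul_one] at h
  rw [h, LinearMap.zero_apply]

/-- all the long root elements in some singular line, odd degree -/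
theorem exists_pairs (C : Ctx Q φ τ M) (hg : ∃ g ∈ M, ¬ KSemi K g.1)
    (hr : 3 ≤ Module.finrank F K) : ∃ v, v ≠ 0 ∧ φ v v = 0 ∧ ∀ p q, Pr M φ τ v p q := by
  classical
  obtain ⟨v, hv, hvv, ⟨D, hD, hDz⟩, hax⟩ := C.exists_center hg
  obtain ⟨χ, hχ, hax⟩ := hax hr
  obtain ⟨b₀, hb₀⟩ := C.exists_rep χ
  have hb0 : b₀ ≠ 0 := by
    rintro rfl
    exact hχ (LinearMap.ext fun y => by rw [hb₀, zero_mul, map_zero, LinearMap.zero_apply])
  obtain ⟨x, hxx, hxv⟩ := C.exists_opp hv hvv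
  have hskew := C.skew_of_inZ hv hvv hDz
  -- the axes on the line
  have haxis : ∀ s : K, s ≠ 0 → ∀ i, τ (b₀ * (s * s) * i) = 0 →
      ∃ m ∈ M, ∀ k : K, m.1 (k • v) = (k + τ (b₀ * (s * s) * k) • i) • v := by
    intro s hs i hi
    obtain ⟨m, hm, hmv⟩ := hax (s * s * i) (by rw [hb₀, ← mul_assoc]; exact hi)
    obtain ⟨T, hT, hTl, hTx⟩ := C.exists_torus hvv hxx (by rw [C.symm]; exact hxv) (inv_ne_zero hs)
    have hTv : T.1 v = (s⁻¹ * s⁻¹) • v := by rw [hTx, hvv, C.symm v x, hxv]; module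
    have hss : s * s ≠ 0 := mul_ne_zero hs hs
    have hcan : ∀ k : K, k * (s * s) * (s⁻¹ * s⁻¹) = k := fun k => by field_simp
    refine ⟨T * m * T⁻¹, mul_mem (mul_mem hT hm) (inv_mem hT), fun k => ?_⟩
    have hsym : T.1.symm (k • v) = (k * (s * s)) • v := by
      rw [LinearEquiv.symm_apply_eq, hTl, hTv, smul_smul, hcan]
    rw [mul_apply', mul_apply', inv_apply', hsym, hmv, hTl, hTv, smul_smul]
    congr 1
    rw [add_mul, hcan, smul_mul_assoc, mul_comm (s * s) i, hcan, hb₀,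
      show b₀ * (k * (s * s)) = b₀ * (s * s) * k by ring]
  -- conjugating by an axis
  have hconj : ∀ s, s ≠ 0 → ∀ i, τ (b₀ * (s * s) * i) = 0 → ∀ p q, Pr M φ τ v p q →
      Pr M φ τ v i (τ (b₀ * (s * s) * p) • q - τ (b₀ * (s * s) * q) • p) := by
    intro s hs i hi p q hpq
    obtain ⟨m, hm, hmv⟩ := haxis s hs i hi
    set b := b₀ * (s * s)
    refine C.inZ_sub hvv (C.inZ_conj (θ' := fun y => y + τ (i * y) • b) hpq hm hmv
      fun s y => ?_) hpq fun a => ?_
    · rw [add_mul, mul_add, map_add, map_add, smul_mul_assoc, mul_smul_comm, map_smul, map_smul,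
        smul_eq_mul, smul_eq_mul, mul_comm b s, mul_comm (τ (s * b))]
    · simp only [mul_add, map_add, map_sub, mul_sub, sub_mul, mul_smul_comm, smul_mul_assoc, map_smul,
        smul_eq_mul, mul_comm p b, mul_comm q b]
      module
  -- the first pairs
  obtain ⟨s₁, hs₁, he⟩ : ∃ s₁, s₁ ≠ 0 ∧ D (b₀ * (s₁ * s₁)) ≠ 0 := by
    by_contra h
    push Not at h
    refine hD (LinearMap.ext fun y => C.tau_inj fun z => ?_)
    rw [LinearMap.zero_apply, mul_zero, map_zero]
    by_contra hne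
    have hc : b₀ * D z ≠ 0 := mul_ne_zero hb0 fun h0 => hne (by
      have := hskew z y
      rw [h0, mul_zero, map_zero, add_zero] at this
      exact this)
    obtain ⟨s, hs, hns⟩ := C.exists_sq_tau hc
    refine hns ?_
    have := hskew z (b₀ * (s * s))
    rwa [h s hs, mul_zero, map_zero, zero_add, mul_right_comm] at this
  set b := b₀ * (s₁ * s₁) with hb
  set e := D b with hedef
  have hbe : τ (b * e) = 0 := by
    have := hskew b b
    rw [← two_mul, mul_eq_zero] at this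
    exact this.resolve_left C.two
  have hie : ∀ i, τ (b * i) = 0 → Pr M φ τ v i e := by
    intro i hi
    obtain ⟨m, hm, hmv⟩ := haxis s₁ hs₁ i hi
    rw [← hb] at hmv
    refine C.inZ_sub hvv (C.inZ_conj (θ' := fun y => y + τ (i * y) • b) hDz hm hmv
      fun s y => ?_) hDz fun a => ?_
    · rw [add_mul, mul_add, map_add, map_add, smul_mul_assoc, mul_smul_comm, map_smul, map_smul,
        smul_eq_mul, smul_eq_mul, mul_comm b s, mul_comm (τ (s * b))]
    · have h1 : τ (b * D a) = -τ (e * a) := by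
        rw [mul_comm e, hedef]; linear_combination hskew b a
      simp only [map_add, map_smul, ← hedef, mul_add, mul_smul_comm, hbe, h1, smul_eq_mul, mul_zero,
        add_zero]
      module
  -- a second isotropic square
  obtain ⟨s₂, hs₂, hs₂e, x₀, hx₀, hx₀'⟩ : ∃ s₂, s₂ ≠ 0 ∧ τ (b₀ * (s₂ * s₂) * e) = 0 ∧
      ∃ x₀, τ (b * x₀) = 0 ∧ τ (b₀ * (s₂ * s₂) * x₀) ≠ 0 := by
    obtain ⟨w, hw⟩ := C.exists_tau (b := b₀ * e * s₁)
      (mul_ne_zero (mul_ne_zero hb0 he) hs₁)
    set t := -(τ (b₀ * e * (w * w)) / (2 * τ (b₀ * e * s₁ * w))) with ht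
    set s₂ := w + t • s₁ with hs₂
    have h11 : τ (b₀ * e * (s₁ * s₁)) = 0 := by rw [← hbe, hb]; congr 1; ring
    have h12 : τ (b₀ * e * (s₁ * s₂)) = τ (b₀ * e * s₁ * w) := by
      rw [hs₂]
      simp only [mul_add, mul_smul_comm, map_add, map_smul, h11, smul_zero, add_zero]
      rw [mul_assoc (b₀ * e)]
    have h22 : τ (b₀ * (s₂ * s₂) * e) = 0 := by
      have h2 := C.two
      rw [show b₀ * (s₂ * s₂) * e = b₀ * e * (w * w) + t • (b₀ * e * s₁ * w) +
          t • (b₀ * e * s₁ * w) + (t * t) • (b₀ * e * (s₁ * s₁)) by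
        rw [hs₂]; simp only [Algebra.smul_def, map_mul]; ring]
      simp only [map_add, map_smul, h11, smul_zero, add_zero, smul_eq_mul, ht]
      generalize τ (b₀ * e * s₁ * w) = W at hw ⊢
      field_simp
      ring
    have hs20 : s₂ ≠ 0 := fun h => hw (by rw [← h12, h, mul_zero, mul_zero, map_zero])
    refine ⟨s₂, hs20, h22, ?_⟩
    by_contra hall
    push Not at hall
    -- then the squares are proportional, so the quotient is in `F`
    obtain ⟨y, hy⟩ := C.exists_tau (b := b) (mul_ne_zero hb0 (mul_ne_zero hs₁ hs₁))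
    set T := τ (b₀ * (s₂ * s₂) * y) / τ (b * y) with hT
    have hprop : b₀ * (s₂ * s₂) = T • b := C.tau_inj fun z => by
      have h := hall (z - (τ (b * z) / τ (b * y)) • y) (by
        rw [mul_sub, mul_smul_comm, map_sub, map_smul, smul_eq_mul, div_mul_cancel₀ _ hy, sub_self])
      rw [mul_sub, mul_smul_comm, map_sub, map_smul, smul_eq_mul, sub_eq_zero] at h
      rw [mul_comm z, h, mul_smul_comm, map_smul, smul_eq_mul, hT, mul_comm z b]
      field_simp
    set μ := s₂ / s₁ with hμ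
    have hμ2 : μ * μ = algebraMap F K T := by
      rw [hb, Algebra.smul_def] at hprop
      rw [hμ]
      field_simp at hprop ⊢
      linear_combination hprop
    let S : Subalgebra F K :=
      { carrier := {x | ∃ a c : F, x = algebraMap F K a + algebraMap F K c * μ}
        mul_mem' := fun {p q} ⟨a, c, hp⟩ ⟨a', c', hq⟩ => ⟨a * a' + c * c' * T, a * c' + c * a', by
          rw [hp, hq]; simp only [map_add, map_mul]
          linear_combination (algebraMap F K c * algebraMap F K c') * hμ2⟩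
        add_mem' := fun {p q} ⟨a, c, hp⟩ ⟨a', c', hq⟩ => ⟨a + a', c + c', by
          rw [hp, hq]; simp only [map_add]; ring⟩
        algebraMap_mem' := fun a => ⟨a, 0, by simp⟩ }
    have := Subalgebra.isSimpleOrder_of_finrank_prime F K C.prime
    rcases eq_bot_or_eq_top S with hS | hS
    · have hmem : μ ∈ S := ⟨0, 1, by simp⟩
      rw [hS, Algebra.mem_bot] at hmem
      obtain ⟨a, ha⟩ := hmem
      refine hw ?_
      rw [← h12, show s₂ = a • s₁ by rw [Algebra.smul_def, ha, hμ, div_mul_cancel₀ _ hs₁],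
        mul_smul_comm, mul_smul_comm, map_smul, h11, smul_zero]
    · have hle : (⊤ : Submodule F K) ≤ Submodule.span F (({1, μ} : Finset K) : Set K) := fun x _ => by
        obtain ⟨a, c, hx⟩ : x ∈ S := by rw [hS]; exact Algebra.mem_top
        rw [hx, ← Algebra.smul_def, Algebra.algebraMap_eq_smul_one]
        exact add_mem (Submodule.smul_mem _ _ (Submodule.subset_span (by simp)))
          (Submodule.smul_mem _ _ (Submodule.subset_span (by simp)))
      have h1 := Submodule.finrank_mono hle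
      have h2 := finrank_span_finset_le_card (R := F) ({1, μ} : Finset K)
      have h3 : ({1, μ} : Finset K).card ≤ 2 := Finset.card_le_two
      rw [finrank_top] at h1
      rw [Set.finrank] at h2
      omega
  set b' := b₀ * (s₂ * s₂) with hb'
  have hrow : ∀ z, Pr M φ τ v e z := by
    have hie' : ∀ i, τ (b' * i) = 0 → Pr M φ τ v i e := by
      intro i hi
      set c := τ (b' * x₀) with hc
      have h := hconj s₂ hs₂ (-(c⁻¹ • i)) (by rw [← hb', mul_neg, mul_smul_comm, map_neg, map_smul,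
        hi, smul_zero, neg_zero]) e x₀ (C.pr_swap hvv (hie x₀ hx₀))
      rw [← hb', hs₂e, zero_smul, zero_sub, ← hc] at h
      refine inZ_congr h fun a => ?_
      simp only [neg_mul, map_neg, smul_mul_assoc, map_smul, smul_eq_mul]
      match_scalars <;> field_simp
    intro z
    set t := τ (b' * z) / τ (b' * x₀) with ht
    rw [show z = (z - t • x₀) + t • x₀ by abel]
    refine C.pr_add hvv (C.pr_swap hvv (hie' _ ?_)) (C.pr_swap hvv (hie _ ?_))
    · rw [mul_sub, mul_smul_comm, map_sub, map_smul, ht, smul_eq_mul, div_mul_cancel₀ _ hx₀',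
        sub_self]
    · rw [mul_smul_comm, map_smul, hx₀, smul_zero]
  obtain ⟨s₃, hs₃, hs₃e⟩ := C.exists_sq_tau (mul_ne_zero hb0 he)
  set b₁ := b₀ * (s₃ * s₃) with hb₁
  replace hs₃e : τ (b₁ * e) ≠ 0 := by rwa [hb₁, mul_right_comm]
  refine ⟨v, hv, hvv, fun p q => ?_⟩
  set t := τ (b₁ * p) / τ (b₁ * e) with ht
  rw [show p = (p - t • e) + t • e by abel]
  refine C.pr_swap hvv (C.pr_add hvv (C.pr_swap hvv ?_) ?_)
  · set i := p - t • e with hidef
    have hi : τ (b₁ * i) = 0 := by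
      rw [hidef, mul_sub, mul_smul_comm, map_sub, map_smul, ht, smul_eq_mul,
        div_mul_cancel₀ _ hs₃e, sub_self]
    set q' := (τ (b₁ * e))⁻¹ • q with hq'
    have h := hconj s₃ hs₃ i hi e q' (hrow _)
    rw [← hb₁] at h
    have h' : Pr M φ τ v i (τ (b₁ * q') • e) := pr_smul_comm (C.pr_swap hvv (hrow _))
    have h'' := C.pr_add hvv h h'
    rwa [sub_add_cancel, hq', smul_inv_smul₀ hs₃e] at h''
  · exact C.pr_swap hvv (inZ_congr (hrow (t • q)) fun a => by
      simp only [smul_mul_assoc, map_smul, smul_eq_mul]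
      module)

end Ctx

end CfsgLib.MaxSub.OExt
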