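import Cfsg.Agent.Lib.MaxSub.OExtMove
import Cfsg.Agent.Lib.Geom.SiegelFull

/-!
Overgroups of the semilinear orthogonal group of a trace form: such a group is semilinear or contains the
commutator group of the orthogonal group.
-/

set_option autoImplicit false
set_option linter.unusedSectionVars false

namespace CfsgLib.MaxSub.OExt

open CfsgLib.Classical CfsgLib.Geom
open QuadraticMap (polar)

variable {F K V : Type*} [Field F] [Field K] [Algebra F K] [AddCommGroup V] [Module K V]
  [Module F V] [IsScalarTower F K V]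

namespace Ctx

variable [Finite F] [Finite K] [Module.Finite K V] [Module.Finite F K] [FiniteDimensional F V]
  {Q : QuadraticForm F V} {φ : V →ₗ[K] V →ₗ[K] K} {τ : K →ₗ[F] F} {M : Subgroup (quadIsoms Q)}

theorem polar_smul (C : Ctx Q φ τ M) (p q : K) (u v : V) :
    polar Q (p • u) (q • v) = τ (p * q * φ u v) := by
  rw [C.rel, φ.map_smul, LinearMap.smul_apply, (φ u).map_smul, smul_eq_mul, smul_eq_mul, mul_assoc]

theorem siegel_pair (C : Ctx Q φ τ M) {v : V} (hvv : φ v v = 0) {p q : K}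
    (h : Pr M φ τ v p q) : siegel Q (p • v) (q • v) ∈ M := by
  obtain ⟨g, hg, hgx⟩ := h
  have hp : polar Q (p • v) (q • v) = 0 := by rw [C.polar_smul, hvv, mul_zero, map_zero]
  suffices g = siegel Q (p • v) (q • v) by rwa [this] at hg
  refine quadIsoms_ext Q fun x => ?_
  rw [hgx]
  dsimp only
  rw [siegel_apply Q (C.q_zero hvv p) hp, C.q_zero hvv q, C.rel, C.rel, φ.map_smul,
    LinearMap.smul_apply, φ.map_smul, LinearMap.smul_apply, smul_eq_mul, smul_eq_mul, C.symm v x,
    zero_mul, add_zero, sub_smul, smul_assoc, smul_assoc]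
  abel

theorem siegel_line (C : Ctx Q φ τ M) (hg : ∃ g ∈ M, ¬ KSemi K g.1) {v : V} (hv : v ≠ 0)
    (hvv : φ v v = 0) (q : K) : siegel Q v (q • v) ∈ M := by
  have := C.siegel_pair hvv (C.pr_all hg hv hvv 1 q)
  rwa [one_smul] at this

/-- two singular vectors with `τ (φ u z) = 0`, not orthogonal over `K`, odd degree -/
theorem siegel_cross (C : Ctx Q φ τ M) (hg : ∃ g ∈ M, ¬ KSemi K g.1)
    (hr : 3 ≤ Module.finrank F K) {u z : V} (huu : φ u u = 0) (hzz : φ z z = 0)
    (hc : φ u z ≠ 0) (hτ : τ (φ u z) = 0) : siegel Q z u ∈ M := by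
  set c := φ u z with hcdef
  have hu : u ≠ 0 := fun e => hc (by rw [hcdef, e, map_zero, LinearMap.zero_apply])
  have hz : z ≠ 0 := fun e => hc (by rw [hcdef, e, map_zero])
  obtain ⟨l, hl, hlF⟩ : ∃ l, τ (l * c) = 0 ∧ ∀ t : F, algebraMap F K t ≠ l := by
    by_contra hall
    push Not at hall
    have h0 : LinearMap.ker (τ ∘ₗ LinearMap.mulRight F c) ≤ Submodule.span F {(1 : K)} :=
      fun l hl => by
        obtain ⟨t, rfl⟩ := hall l hl
        exact Submodule.mem_span_singleton.mpr ⟨t, (Algebra.algebraMap_eq_smul_one t).symm⟩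
    have h1 := LinearMap.finrank_range_add_finrank_ker (τ ∘ₗ LinearMap.mulRight F c)
    have h2 := Submodule.finrank_le (LinearMap.range (τ ∘ₗ LinearMap.mulRight F c))
    have h4 := Submodule.finrank_mono h0
    rw [finrank_span_singleton one_ne_zero] at h4
    rw [Module.finrank_self] at h2
    omega
  obtain ⟨m, hm, hml⟩ : ∃ m, τ (m * c) = 0 ∧ τ (m * l * c) = -1 := by
    obtain ⟨m, hm, hm0⟩ : ∃ m, τ (m * c) = 0 ∧ τ (m * l * c) ≠ 0 := by
      by_contra hall
      push Not at hall
      obtain ⟨y, hy⟩ := C.exists_tau hc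
      rw [mul_comm] at hy
      refine hlF (τ (y * l * c) / τ (y * c)) (mul_right_cancel₀ hc (C.tau_inj fun s => ?_))
      have h := hall (s - (τ (s * c) / τ (y * c)) • y) (by
        rw [sub_mul, smul_mul_assoc, map_sub, map_smul, smul_eq_mul, div_mul_cancel₀ _ hy, sub_self])
      rw [sub_mul, sub_mul, smul_mul_assoc, smul_mul_assoc, map_sub, map_smul, smul_eq_mul,
        sub_eq_zero] at h
      rw [← mul_assoc s l c, h, ← Algebra.smul_def, mul_smul_comm, map_smul, smul_eq_mul]
      field_simp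
    refine ⟨(-(τ (m * l * c))⁻¹) • m, by rw [smul_mul_assoc, map_smul, hm, smul_zero], ?_⟩
    rw [smul_mul_assoc, smul_mul_assoc, map_smul, smul_eq_mul, neg_mul, inv_mul_cancel₀ hm0]
  have hX := C.siegel_line hg hu huu m
  have hY := C.siegel_line hg hz hzz l
  set X := siegel Q u (m • u)
  have hQu : Q u = 0 := by simpa using C.q_zero huu 1
  have hQz : Q z = 0 := by simpa using C.q_zero hzz 1
  have hp : polar Q u (m • u) = 0 := by rw [C.rel, (φ u).map_smul, huu, smul_zero, map_zero]
  have hpl : polar Q z (l • z) = 0 := by rw [C.rel, (φ z).map_smul, hzz, smul_zero, map_zero]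
  have hpu : polar Q z u = 0 := by rw [C.rel, C.symm, ← hcdef, hτ]
  have hXz : X.1 z = z := by
    rw [siegel_apply Q hQu hp, C.rel, ← hcdef, hτ, C.rel, φ.map_smul, LinearMap.smul_apply, ← hcdef,
      smul_eq_mul, hm]
    simp
  have hXl : X.1 (l • z) = l • z + u := by
    rw [siegel_apply Q hQu hp, C.rel, (φ u).map_smul, ← hcdef, smul_eq_mul, hl, C.polar_smul,
      ← hcdef, hml]
    simp
  have h := mul_mem (mul_mem hX hY) (inv_mem hX)
  rw [siegel_conj, hXz, hXl, siegel_add Q hQz hpl hpu] at h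
  exact (mul_mem_cancel_left hY).mp h

/-- two orthogonal singular points, degree two -/
theorem siegel_orth (C : Ctx Q φ τ M) (hg : ∃ g ∈ M, ¬ KSemi K g.1)
    (hr : Module.finrank F K = 2) {u y : V} (huu : φ u u = 0) (hyy : φ y y = 0) (huy : φ u y = 0)
    (hind : ∀ c : K, u ≠ c • y) (hy : y ≠ 0) (p q : K) : siegel Q (p • u) (q • y) ∈ M := by
  classical
  have hu : u ≠ 0 := fun e => hind 0 (by rw [e, zero_smul])
  have hyu : φ y u = 0 := by rw [C.symm]; exact huy
  obtain ⟨v, hv, hvv, ⟨D, hD, hDz⟩, -⟩ := C.exists_center hg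
  have hskew := C.skew_of_inZ hv hvv hDz
  obtain ⟨θ, hθ⟩ : ∃ θ : K, ∀ t : F, algebraMap F K t ≠ θ := by
    by_contra hall
    push Not at hall
    have : (⊥ : Subalgebra F K) = ⊤ := eq_top_iff.mpr fun x _ => Algebra.mem_bot.mpr (hall x)
    rw [Subalgebra.bot_eq_top_iff_finrank_eq_one, hr] at this
    exact absurd this (by norm_num)
  let W : (K → K) → Prop := fun f => ∃ g ∈ M, ∃ f' : K → K,
    ∀ x, g.1 x = x + f (φ x u) • y + f' (φ x y) • u
  have hperp : ∀ (x : V) (a b : K), φ (x + a • y + b • u) u = φ x u ∧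
      φ (x + a • y + b • u) y = φ x y := fun x a b => by simp [huu, hyy, huy, hyu]
  have hadd : ∀ f f₂, W f → W f₂ → W fun a => f a + f₂ a := by
    rintro f f₂ ⟨g, hg, f', hgx⟩ ⟨g₂, hg₂, f₂', hgx₂⟩
    refine ⟨g * g₂, mul_mem hg hg₂, fun a => f' a + f₂' a, fun x => ?_⟩
    rw [mul_apply', hgx, hgx₂, (hperp _ _ _).1, (hperp _ _ _).2]
    module
  have hlong : ∀ t : K, W fun a => t * a := by
    intro t
    obtain ⟨g, hg, -, hgx⟩ := C.exists_S huu (w := t • y)
      (by rw [(φ u).map_smul, huy, smul_zero])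
    refine ⟨g, hg, fun a => -(t * a), fun x => ?_⟩
    rw [hgx, sMap]
    simp only [map_smul, LinearMap.smul_apply, hyy, smul_eq_mul]
    module
  have hskw : ∀ t : K, W fun a => t * D a := by
    intro t
    rcases eq_or_ne t 0 with rfl | ht
    · exact ⟨1, one_mem M, fun _ => 0, fun x => by simp⟩
    have hs : φ (u + t • y) (u + t • y) = 0 := by simp [huu, hyy, huy, hyu]
    have hty : φ (t • y) (t • y) = 0 := by simp [hyy]
    have hn : u + t • y ≠ 0 := fun e => hind (-t) (by rw [neg_smul]; exact eq_neg_of_add_eq_zero_left e)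
    obtain ⟨a, ha, hax⟩ := C.skew_all hr hg hn hs D hskew
    obtain ⟨b, hb, hbx⟩ := C.skew_all hr hg hu huu D hskew
    obtain ⟨c, hc, hcx⟩ := C.skew_all hr hg (smul_ne_zero ht hy) hty D hskew
    refine ⟨a * (b * c)⁻¹, mul_mem ha (inv_mem (mul_mem hb hc)), fun s => D (t * s), fun x => ?_⟩
    obtain ⟨w, rfl⟩ := (b * c).1.surjective x
    rw [mul_apply', inv_apply', LinearEquiv.symm_apply_apply, mul_apply', hax, hbx, hcx]
    simp only [map_add, map_smul, LinearMap.add_apply, LinearMap.smul_apply, huu, hyy, huy, hyu,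
      smul_eq_mul, mul_zero, add_zero]
    module
  -- these span all the linear maps
  have hδ : D θ - θ * D 1 ≠ 0 := fun e => hD (C.skew_prop hr hθ hskew (by
    have h2 := hskew θ 1
    rw [one_mul, sub_eq_zero.mp e, ← two_mul, mul_eq_zero] at h2
    exact h2.resolve_left C.two))
  set t₂ := (τ (p * θ) • q - θ * (τ p • q)) / (D θ - θ * D 1) with ht₂
  set t₁ := τ p • q - t₂ * D 1 with ht₁
  obtain ⟨g, hgM, f', hgx⟩ :=
    hadd (fun a => t₁ * a) (fun a => t₂ * D a) (hlong t₁) (hskw t₂)
  have hf : ∀ a, t₁ * a + t₂ * D a = τ (p * a) • q := by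
    have hli : LinearIndependent F ![(1 : K), θ] := by
      rw [LinearIndependent.pair_iff' one_ne_zero]
      intro t ht
      rw [← Algebra.algebraMap_eq_smul_one] at ht
      exact hθ t ht
    have e1 : t₁ * 1 + t₂ * D 1 = τ (p * 1) • q := by rw [ht₁, mul_one, mul_one, sub_add_cancel]
    have eθ : t₁ * θ + t₂ * D θ = τ (p * θ) • q := by
      have h : t₂ * (D θ - θ * D 1) = τ (p * θ) • q - θ * (τ p • q) := div_mul_cancel₀ _ hδ
      rw [ht₁]
      linear_combination h
    intro a
    have hmem : a ∈ Submodule.span F (Set.range ![(1 : K), θ]) := by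
      rw [hli.span_eq_top_of_card_eq_finrank (by rw [Fintype.card_fin]; omega)]
      exact Submodule.mem_top
    rw [Matrix.range_cons, Matrix.range_cons, Matrix.range_empty, Set.union_empty,
      Set.singleton_union, Submodule.mem_span_pair] at hmem
    obtain ⟨r, s, rfl⟩ := hmem
    simp only [map_add, map_smul, mul_add, mul_smul_comm, smul_eq_mul, add_smul, ← smul_smul,
      ← e1, ← eθ, smul_add]
    abel
  simp only [hf] at hgx
  -- the other coefficient is the adjoint
  obtain ⟨ψ, hψu, hψy⟩ := exists_dual_one (p := Submodule.span K {y}) (x := u) fun h => by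
    obtain ⟨c, hc⟩ := Submodule.mem_span_singleton.mp h
    exact hind c hc.symm
  obtain ⟨ψ', hψ'y, hψ'u⟩ := exists_dual_one (p := Submodule.span K {u}) (x := y) fun h => by
    obtain ⟨c, hc⟩ := Submodule.mem_span_singleton.mp h
    have hc0 : c ≠ 0 := fun e => hy (by rw [← hc, e, zero_smul])
    exact hind c⁻¹ (by rw [← hc, inv_smul_smul₀ hc0])
  obtain ⟨x₁, hx₁⟩ := C.exists_dual ψ
  obtain ⟨x₂, hx₂⟩ := C.exists_dual ψ'
  have h1u : φ x₁ u = 1 := by rw [C.symm, hx₁, hψu]
  have h1y : φ x₁ y = 0 := by rw [C.symm, hx₁]; exact hψy y (Submodule.mem_span_singleton_self y)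
  have h2y : φ x₂ y = 1 := by rw [C.symm, hx₂, hψ'y]
  have h2u : φ x₂ u = 0 := by rw [C.symm, hx₂]; exact hψ'u u (Submodule.mem_span_singleton_self u)
  have hf0 : f' 0 = 0 := by
    have h := hgx 0
    have h' : f' 0 • u = 0 := by simpa using h.symm
    exact (smul_eq_zero.mp h').resolve_right hu
  have hadj : ∀ a, f' a = -(τ (q * a) • p) := fun a => C.tau_inj fun b => by
    have h := C.iso g (a • x₂) (b • x₁)
    have h0 : g.1 (a • x₂) = a • x₂ + f' a • u := by simp [hgx, h2u, h2y]
    have h0' : g.1 (b • x₁) = b • x₁ + τ (p * b) • q • y := by simp [hgx, h1u, h1y, hf0]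
    rw [h0, h0'] at h
    simp only [map_add, map_smul, LinearMap.add_apply, LinearMap.smul_apply,
      LinearMap.map_smul_of_tower, C.symm u x₁, h1u, huy, h2y, smul_eq_mul, mul_one, mul_zero,
      smul_zero, add_zero, zero_add, mul_comm q] at h
    rw [mul_neg, map_neg, mul_smul_comm, map_smul, smul_eq_mul]
    simp only [one_mul, zero_mul, smul_zero, mul_zero, map_zero, mul_smul_comm, mul_add, map_add,
      map_smul, smul_eq_mul, add_zero, mul_comm a q] at h
    rw [mul_comm b p, mul_comm b (f' a)]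
    rw [mul_comm b (f' a)] at h
    linear_combination h
  suffices g = siegel Q (p • u) (q • y) by rwa [this] at hgM
  refine quadIsoms_ext Q fun x => ?_
  rw [hgx, hadj, siegel_apply Q (C.q_zero huu p) (by rw [C.polar_smul, huy, mul_zero, map_zero]),
    C.q_zero hyy q, C.rel, C.rel, φ.map_smul, LinearMap.smul_apply, φ.map_smul,
    LinearMap.smul_apply, smul_eq_mul, smul_eq_mul, C.symm u x, C.symm y x, zero_mul, add_zero,
    smul_assoc, neg_smul, smul_assoc]
  abel

/-- a hyperbolic pair orthogonal to a hyperbolic pair -/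
theorem exists_mid_pair (C : Ctx Q φ τ M) (hk : 5 ≤ Module.finrank K V) {u x : V}
    (huu : φ u u = 0) (hxx : φ x x = 0) (hxu : φ x u = 1) :
    ∃ m₁ m₂, φ m₁ m₁ = 0 ∧ φ m₂ m₂ = 0 ∧ φ m₂ m₁ = 1 ∧
      φ m₁ u = 0 ∧ φ m₁ x = 0 ∧ φ m₂ u = 0 ∧ φ m₂ x = 0 := by
  let L : V →ₗ[K] K × K := (φ.flip u).prod (φ.flip x)
  obtain ⟨m₁, hm, hm0, hmm⟩ := exists_singular_in (Q := LinearMap.BilinMap.toQuadraticMap φ)
    (W := LinearMap.ker L) (by
      have h1 := LinearMap.finrank_range_add_finrank_ker L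
      have h2 := Submodule.finrank_le (LinearMap.range L)
      rw [Module.finrank_prod, Module.finrank_self] at h2
      omega)
  replace hmm : φ m₁ m₁ = 0 := hmm
  obtain ⟨hmu, hmx⟩ : φ m₁ u = 0 ∧ φ m₁ x = 0 := Prod.ext_iff.mp hm
  obtain ⟨z, hzz, hzm⟩ := C.exists_opp hm0 hmm
  set y := z - φ z x • u - φ z u • x with hy
  have hux : φ u x = 1 := by rw [C.symm]; exact hxu
  have hyu : φ y u = 0 := by simp [hy, huu, hxu]
  have hyx : φ y x = 0 := by simp [hy, hxx, hux]
  have hym : φ y m₁ = 1 := by simp [hy, hzm, C.symm u m₁, C.symm x m₁, hmu, hmx]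
  refine ⟨m₁, y - (φ y y / 2) • m₁, hmm, ?_, ?_, hmu, hmx, ?_, ?_⟩
  · simp only [map_sub, map_smul, LinearMap.sub_apply, LinearMap.smul_apply, hmm, hym,
      C.symm m₁ y, smul_eq_mul]
    field_simp [C.two']
    ring
  · simp [hym, hmm]
  · simp [hyu, hmu]
  · simp [hyx, hmx]

/-- all Siegel transformations at every singular vector -/
theorem full_all (C : Ctx Q φ τ M) (hg : ∃ g ∈ M, ¬ KSemi K g.1)
    (hk : Module.finrank F K = 2 → 5 ≤ Module.finrank K V) {u : V} (hu : u ≠ 0) (huu : φ u u = 0) :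
    OrthSub.Full M u := by
  classical
  obtain ⟨x, hxx, hxu⟩ := C.exists_opp hu huu
  have hux : φ u x = 1 := by rw [C.symm]; exact hxu
  have hQu : Q u = 0 := by simpa using C.q_zero huu 1
  have hτu : ∀ a : K, polar Q u (a • u) = 0 := fun a => by
    rw [C.rel, (φ u).map_smul, huu, smul_zero, map_zero]
  have hτx : ∀ {c : K}, τ c = 0 → polar Q u (c • x) = 0 := fun {c} hc => by
    rw [C.rel, (φ u).map_smul, hux, smul_eq_mul, mul_one, hc]
  have hτm : ∀ {w}, φ u w = 0 → polar Q u w = 0 := fun h => by rw [C.rel, h, map_zero]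
  suffices hparts : (∀ c : K, τ c = 0 → siegel Q u (c • x) ∈ M) ∧
      ∀ w, φ w u = 0 → φ w x = 0 → siegel Q u w ∈ M by
    intro w hw
    set w' := w - φ w x • u - φ w u • x with hw'
    have h1 : φ w' u = 0 := by simp [hw', huu, hxu]
    have h2 : φ w' x = 0 := by simp [hw', hxx, hux]
    have hc : τ (φ w u) = 0 := by rw [C.symm, ← C.rel]; exact hw
    rw [show w = φ w x • u + φ w u • x + w' by rw [hw']; abel,
      siegel_add Q hQu (by rw [QuadraticMap.polar_add_right, hτu, hτx hc, add_zero])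
        (hτm (by rw [C.symm]; exact h1)),
      siegel_add Q hQu (hτu _) (hτx hc)]
    exact mul_mem (mul_mem (C.siegel_line hg hu huu _) (hparts.1 _ hc)) (hparts.2 _ h1 h2)
  rcases Nat.lt_or_ge (Module.finrank F K) 3 with h3 | h3
  · have hr : Module.finrank F K = 2 := by have := C.prime.two_le; omega
    have hsing : ∀ m, φ m m = 0 → φ m u = 0 → φ m x = 0 → siegel Q u m ∈ M := by
      intro m hmm hmu hmx
      rcases eq_or_ne m 0 with rfl | hm
      · rw [siegel_zero]; exact one_mem M
      have := C.siegel_orth hg hr huu hmm (by rw [C.symm]; exact hmu)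
        (fun c e => one_ne_zero (α := K) (by
          rw [← hxu, e, (φ x).map_smul, C.symm x m, hmx, smul_zero])) hm 1 1
      rwa [one_smul, one_smul] at this
    obtain ⟨m₁, m₂, h11, h22, h21, h1u, h1x, h2u, h2x⟩ := C.exists_mid_pair (hk hr) huu hxx hxu
    have h12 : φ m₁ m₂ = 1 := by rw [C.symm]; exact h21
    refine ⟨fun c hc => ?_, fun w hwu hwx => ?_⟩
    · obtain ⟨d, hd⟩ := C.exists_tau (b := (1 : K)) one_ne_zero
      rw [one_mul] at hd
      set c' := (τ d)⁻¹ • c with hc'
      have hτc' : τ c' = 0 := by rw [hc', map_smul, hc, smul_zero]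
      have hm1 : m₁ ≠ 0 := fun e => one_ne_zero (α := K) (by rw [← h21, e, map_zero])
      have hX : siegel Q m₁ (c' • x) ∈ M := by
        have hx0 : x ≠ 0 := fun e => one_ne_zero (α := K)
          (by rw [← hxu, e, map_zero, LinearMap.zero_apply])
        have := C.siegel_orth hg hr h11 hxx h1x (fun e he => one_ne_zero (α := K) (by
          rw [← h21, he, (φ m₂).map_smul, h2x, smul_zero])) hx0 1 c'
        rwa [one_smul] at this
      set X := siegel Q m₁ (c' • x)
      have hQm : Q m₁ = 0 := by simpa using C.q_zero h11 1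
      have hpm : polar Q m₁ (c' • x) = 0 := by
        rw [C.rel, (φ m₁).map_smul, h1x, smul_zero, map_zero]
      have hXu : X.1 u = u := by
        rw [siegel_apply Q hQm hpm, C.rel, C.rel, h1u, φ.map_smul, LinearMap.smul_apply, hxu,
          smul_eq_mul, mul_one, hτc']
        simp
      have hXm : X.1 (d • m₂) = d • m₂ + c • x := by
        rw [siegel_apply Q hQm hpm, C.rel, C.rel, (φ m₁).map_smul, h12, φ.map_smul,
          LinearMap.smul_apply, (φ x).map_smul, C.symm x m₂, h2x, C.q_zero hxx]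
        simp [hc', smul_smul, mul_inv_cancel₀ hd]
      have hm : siegel Q u (d • m₂) ∈ M := hsing _ (by simp [h22]) (by simp [h2u]) (by simp [h2x])
      have h := mul_mem (mul_mem hX hm) (inv_mem hX)
      rw [siegel_conj, hXu, hXm, siegel_add Q hQu (hτm (by simp [C.symm u m₂, h2u])) (hτx hc)] at h
      exact (mul_mem_cancel_left hm).mp h
    · set a := φ w m₂
      set b := φ w m₁
      set w₂ := w - a • m₁ - b • m₂ with hw₂
      set h := φ w₂ w₂ / 2 with hh
      have e1 : φ w₂ m₁ = 0 := by simp [hw₂, a, b, h11, h21]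
      have e2 : φ w₂ m₂ = 0 := by simp [hw₂, a, b, h22, h12]
      have e3 : φ w₂ u = 0 := by simp [hw₂, hwu, h1u, h2u]
      have e4 : φ w₂ x = 0 := by simp [hw₂, hwx, h1x, h2x]
      have hs : φ (w₂ - h • m₁ + m₂) (w₂ - h • m₁ + m₂) = 0 := by
        simp only [map_add, map_sub, map_smul, LinearMap.add_apply, LinearMap.sub_apply,
          LinearMap.smul_apply, e1, e2, C.symm m₁ w₂, C.symm m₂ w₂, h11, h12, h21, h22, smul_eq_mul,
          hh]
        field_simp [C.two']
        ring
      have hp : ∀ {y}, φ y u = 0 → polar Q u y = 0 := fun h => hτm (by rw [C.symm]; exact h)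
      rw [show w = (w₂ - h • m₁ + m₂) + ((a + h) • m₁ + (b - 1) • m₂) by rw [hw₂]; module,
        siegel_add Q hQu (hp (y := w₂ - h • m₁ + m₂) (by simp [e3, h1u, h2u]))
          (hp (y := (a + h) • m₁ + (b - 1) • m₂) (by simp [h1u, h2u])),
        siegel_add Q hQu (hp (y := (a + h) • m₁) (by simp [h1u]))
          (hp (y := (b - 1) • m₂) (by simp [h2u]))]
      exact mul_mem (hsing _ hs (by simp [e3, h1u, h2u]) (by simp [e4, h1x, h2x]))
        (mul_mem (hsing _ (by simp [h11]) (by simp [h1u]) (by simp [h1x]))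
          (hsing _ (by simp [h22]) (by simp [h2u]) (by simp [h2x])))
  · have hcross : ∀ c, c ≠ 0 → τ c = 0 → ∀ w, φ w u = 0 → φ w x = 0 →
        siegel Q u (c • x + w + (-(φ w w / (2 * c))) • u) ∈ M := by
      intro c hc hτc w hwu hwx
      have hzu : φ (c • x + w + (-(φ w w / (2 * c))) • u) u = c := by simp [hxu, hwu, huu]
      refine C.siegel_cross hg h3 ?_ huu (by rwa [hzu]) (by rwa [hzu])
      simp only [map_add, map_smul, LinearMap.add_apply, LinearMap.smul_apply, hxx, huu, hwu, hwx,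
        hxu, hux, C.symm x w, C.symm u w, smul_eq_mul]
      field_simp [C.two']
      ring
    have hzero : ∀ c, τ c = 0 → siegel Q u (c • x) ∈ M := fun c hτc => by
      rcases eq_or_ne c 0 with rfl | hc
      · rw [zero_smul, siegel_zero]; exact one_mem M
      · have h := hcross c hc hτc 0 (by simp) (by simp)
        simpa using h
    refine ⟨hzero, fun w hwu hwx => ?_⟩
    obtain ⟨c, hτc, hc⟩ : ∃ c ∈ LinearMap.ker τ, c ≠ 0 := by
      refine (LinearMap.ker τ).ne_bot_iff.1 fun h => ?_
      have h1 := LinearMap.finrank_range_add_finrank_ker τ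
      have h2 := Submodule.finrank_le (LinearMap.range τ)
      rw [h, finrank_bot, Module.finrank_self] at *
      omega
    have h := hcross c hc hτc w hwu hwx
    rw [siegel_add Q hQu (by
        rw [QuadraticMap.polar_add_right, hτx hτc, hτm (by rw [C.symm]; exact hwu), add_zero])
        (hτu _), siegel_add Q hQu (hτx hτc) (hτm (by rw [C.symm]; exact hwu))] at h
    exact (mul_mem_cancel_left (hzero c hτc)).mp
      ((mul_mem_cancel_right (C.siegel_line hg hu huu _)).mp h)

theorem commutator_le (C : Ctx Q φ τ M) (hg : ∃ g ∈ M, ¬ KSemi K g.1)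
    (hk : Module.finrank F K = 2 → 5 ≤ Module.finrank K V) :
    commutator (quadIsoms Q) ≤ M := by
  obtain ⟨u, hu, huu⟩ := C.exists_sing
  obtain ⟨x, hxx, hxu⟩ := C.exists_opp hu huu
  obtain ⟨d, hd⟩ := C.exists_tau (b := (1 : K)) one_ne_zero
  rw [one_mul] at hd
  have hd0 : d ≠ 0 := fun e => hd (by rw [e, map_zero])
  have hx : x ≠ 0 := fun e => one_ne_zero (α := K)
    (by rw [← hxu, e, map_zero, LinearMap.zero_apply])
  refine OrthSub.commutator_le_of_pair C.sep C.five (C.full_all hg hk hu huu)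
    (C.full_all hg hk (smul_ne_zero hd0 hx) (by simp [hxx]))
    (by simpa using C.q_zero huu 1) (C.q_zero hxx d) ?_
  rw [C.rel, (φ u).map_smul, C.symm u x, hxu, smul_eq_mul, mul_one]
  exact hd

end Ctx

end CfsgLib.MaxSub.OExt
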