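import Cfsg.Agent.Lib.MaxSub.OExtStart

/-!
An element mapping a singular line to a singular line is semilinear, or gives an element of the centre of
the unipotent radical of a line.
-/

set_option autoImplicit false
set_option linter.unusedSectionVars false

namespace CfsgLib.MaxSub.OExt

open CfsgLib.Classical CfsgLib.Geom
open QuadraticMap (polar)

variable {F K V : Type*} [Field F] [Field K] [Algebra F K] [AddCommGroup V] [Module K V]
  [Module F V] [IsScalarTower F K V]

namespace Ctx

variable [Finite F] [Finite K] [Module.Finite K V] [Module.Finite F K] [FiniteDimensional F V]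
  {Q : QuadraticForm F V} {φ : V →ₗ[K] V →ₗ[K] K} {τ : K →ₗ[F] F} {M : Subgroup (quadIsoms Q)}

theorem eq_smul_of_perp (C : Ctx Q φ τ M) {v x₁ z : V} (hx₁ : φ x₁ v = 1)
    (hz : ∀ w, φ w v = 0 → φ z w = 0) : z = φ z x₁ • v := by
  refine sub_eq_zero.mp (C.nondeg _ fun x => ?_)
  have h := hz (x - φ x v • x₁) (by
    rw [map_sub, LinearMap.sub_apply, φ.map_smul, LinearMap.smul_apply, hx₁, smul_eq_mul, mul_one,
      sub_self])
  rw [map_sub, (φ z).map_smul, smul_eq_mul, sub_eq_zero] at h
  rw [map_sub, LinearMap.sub_apply, φ.map_smul, LinearMap.smul_apply, smul_eq_mul, C.symm v x, h]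
  ring

theorem exists_mid (C : Ctx Q φ τ M) (a b : V) : ∃ w, w ≠ 0 ∧ φ w a = 0 ∧ φ w b = 0 := by
  let L : V →ₗ[K] K × K := (φ.flip a).prod (φ.flip b)
  obtain ⟨w, hw, hw0⟩ := (LinearMap.ker L).exists_mem_ne_zero_of_ne_bot fun h => by
    have h1 := LinearMap.finrank_range_add_finrank_ker L
    have h2 := Submodule.finrank_le (LinearMap.range L)
    rw [h, finrank_bot, Module.finrank_prod, Module.finrank_self] at *
    have := C.three
    omega
  exact ⟨w, hw0, (Prod.ext_iff.mp hw).1, (Prod.ext_iff.mp hw).2⟩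

theorem semi_or_center (C : Ctx Q φ τ M) {g : quadIsoms Q} (hgM : g ∈ M) {u : V} (hu : u ≠ 0)
    (huu : φ u u = 0) (hguu : φ (g.1 u) (g.1 u) = 0)
    (hline : ∀ k : K, ∃ c : K, g.1 (k • u) = c • g.1 u) :
    KSemi K g.1 ∨
      ∃ v, (v = u ∨ v = g.1 u) ∧ ∃ D : K →ₗ[F] K, D ≠ 0 ∧ InZ M φ v D := by
  classical
  set v := g.1 u with hv
  have hv0 : v ≠ 0 := fun e => hu (g.1.map_eq_zero_iff.mp e)
  obtain ⟨x₀, hx₀, hxu⟩ := C.exists_opp hu huu
  obtain ⟨x₁, hx₁, hxv⟩ := C.exists_opp hv0 hguu
  choose θ hθ using hline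
  have hθu : ∀ {a b : K}, a • v = b • v → a = b := fun h => smul_left_injective K hv0 h
  let θl : K →ₗ[F] K :=
    { toFun := θ
      map_add' := fun a b => hθu (by rw [← hθ, add_smul, map_add, hθ, hθ, add_smul])
      map_smul' := fun c a => hθu (by
        rw [← hθ, smul_assoc, map_smul, hθ, RingHom.id_apply, smul_assoc]) }
  have hθ1 : θ 1 = 1 := hθu (by rw [← hθ, one_smul, one_smul])
  have hθinj : Function.Injective θ := fun a b h => smul_left_injective K hu
    (g.1.injective (show g.1 (a • u) = g.1 (b • u) by rw [hθ, hθ, h]))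
  have hθsurj := Finite.surjective_of_injective hθinj
  have hsmul : ∀ (a c : K) (y z : V), φ (a • y) (c • z) = a * c * φ y z := fun a c y z => by
    rw [φ.map_smul, LinearMap.smul_apply, (φ y).map_smul, smul_eq_mul, smul_eq_mul, mul_assoc]
  -- the pairing with the image line
  let A : K →ₗ[F] K := (φ.flip v).restrictScalars F ∘ₗ (g.1 : V →ₗ[F] V) ∘ₗ
    (LinearMap.toSpanSingleton K V x₀).restrictScalars F
  have hA0 : ∀ c, A c = φ (g.1 (c • x₀)) v := fun c => rfl
  have hpair : ∀ y (s : K), τ (θ s * φ (g.1 y) v) = τ (s * φ y u) := fun y s => by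
    rw [← smul_eq_mul, ← (φ (g.1 y)).map_smul, ← hθ, C.iso, (φ y).map_smul, smul_eq_mul]
  have hA : ∀ y, φ (g.1 y) v = A (φ y u) := fun y => by
    rw [hA0]
    refine C.tau_inj fun s => ?_
    obtain ⟨s, rfl⟩ := hθsurj s
    rw [hpair, hpair, φ.map_smul, LinearMap.smul_apply, hxu, smul_eq_mul, mul_one]
  have hperp : ∀ {y}, φ y u = 0 → φ (g.1 y) v = 0 := fun h => by rw [hA, h, map_zero]
  have hAinj : Function.Injective A := LinearMap.ker_eq_bot.mp <| LinearMap.ker_eq_bot'.mpr
    fun c hc => C.tau_inj fun s => by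
      rw [mul_zero, map_zero]
      have h := hpair (c • x₀) s
      rwa [← hA0, hc, mul_zero, map_zero, φ.map_smul, LinearMap.smul_apply, hxu, smul_eq_mul,
        mul_one, eq_comm] at h
  have hAsurj := Finite.surjective_of_injective hAinj
  set π := A 1 with hπ
  have hπ0 : π ≠ 0 := fun e => one_ne_zero (hAinj (e.trans (map_zero A).symm))
  have hsymm_perp : ∀ {z}, φ z v = 0 → φ (g.1.symm z) u = 0 := fun {z} hz => hAinj (by
    rw [map_zero, ← hA, g.1.apply_symm_apply, hz])
  by_contra hcon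
  rw [not_or] at hcon
  obtain ⟨hns, hnoz⟩ := hcon
  have noD : ∀ D : K →ₗ[F] K, InZ M φ v D → D = 0 := fun D hD => by
    by_contra hne
    exact hnoz ⟨v, Or.inr rfl, D, hne, hD⟩
  -- the conjugates of the Siegel elements
  have hN : ∀ w, φ u w = 0 → ∃ N ∈ M, ∀ y, N.1 (g.1 y) =
      g.1 y + g.1 (φ y u • w) - θ (φ y w + φ w w / 2 * φ y u) • v := by
    intro w hw
    obtain ⟨S, hS, -, hSx⟩ := C.exists_S huu hw
    refine ⟨g * S * g⁻¹, mul_mem (mul_mem hgM hS) (inv_mem hgM), fun y => ?_⟩
    rw [mul_apply', mul_apply', inv_apply', LinearEquiv.symm_apply_apply, hSx, sMap, map_sub,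
      map_add, hθ]
  -- first condition
  have hE : ∀ w, φ u w = 0 → ∀ w', φ v w' = 0 → ∀ α : K,
      θ (φ (g.1.symm (A α • w')) w) = φ (g.1 (α • w)) w' := by
    intro w hw w' hw' α
    have hw'v : φ w' v = 0 := by rw [C.symm]; exact hw'
    obtain ⟨N, hN, hNx⟩ := hN w hw
    obtain ⟨S, hS, -, hSx⟩ := C.exists_S hguu hw'
    let e : K ≃ₗ[F] K := LinearEquiv.ofBijective A ⟨hAinj, hAsurj⟩
    let D : K →ₗ[F] K :=
      θl ∘ₗ (φ.flip w).restrictScalars F ∘ₗ (g.1.symm : V →ₗ[F] V) ∘ₗ
          (LinearMap.toSpanSingleton K V w').restrictScalars F -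
        (φ.flip w').restrictScalars F ∘ₗ (g.1 : V →ₗ[F] V) ∘ₗ
          (LinearMap.toSpanSingleton K V w).restrictScalars F ∘ₗ (e.symm : K →ₗ[F] K)
    have hD : ∀ b, D b = θ (φ (g.1.symm (b • w')) w) - φ (g.1 (e.symm b • w)) w' := fun b => rfl
    have hcom : ∀ y, S.1 (N.1 (g.1 y)) = N.1 (S.1 (g.1 y)) + D (φ (g.1 y) v) • v := by
      intro y
      set b := φ (g.1 y) v with hb
      have heb : e.symm b = φ y u := e.symm_apply_eq.mpr (by rw [hb, hA]; rfl)
      set y' := g.1.symm (b • w') with hy'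
      have hy'u : φ y' u = 0 := hsymm_perp (by
        rw [φ.map_smul, LinearMap.smul_apply, hw'v, smul_zero])
      obtain ⟨c, hc⟩ := hθsurj (φ (g.1 y) w' + φ w' w' / 2 * b)
      have hS' : S.1 (g.1 y) = g.1 (y + y' - c • u) := by
        rw [hSx, sMap, ← hb, map_sub, map_add, hθ, hy', g.1.apply_symm_apply, hc]
      have e1 : φ (y + y' - c • u) u = φ y u := by
        rw [map_sub, LinearMap.sub_apply, map_add, LinearMap.add_apply, φ.map_smul,
          LinearMap.smul_apply, huu, hy'u, smul_zero, add_zero, sub_zero]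
      have e2 : φ (y + y' - c • u) w = φ y w + φ y' w := by
        rw [map_sub, LinearMap.sub_apply, map_add, LinearMap.add_apply, φ.map_smul,
          LinearMap.smul_apply, hw, smul_zero, sub_zero]
      have hgw : φ (g.1 (φ y u • w)) v = 0 := hperp (by
        rw [φ.map_smul, LinearMap.smul_apply, C.symm w u, hw, smul_zero])
      have hθadd : ∀ a a', θ (a + a') = θ a + θ a' := θl.map_add
      rw [hS', hNx, hNx, e1, e2, ← hS', hSx, hSx, sMap, sMap, hD, ← hy', heb, add_right_comm (φ y w),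
        hθadd _ (φ y' w)]
      simp only [map_add, map_sub, LinearMap.add_apply, LinearMap.sub_apply, φ.map_smul,
        LinearMap.smul_apply, hgw, hguu, hw', ← hb, smul_eq_mul, mul_zero, add_zero, sub_zero]
      module
    have hD0 : D = 0 := noD D ⟨S * N * S⁻¹ * N⁻¹,
      mul_mem (mul_mem (mul_mem hS hN) (inv_mem hS)) (inv_mem hN), fun x => by
        obtain ⟨y, rfl⟩ : ∃ y, N.1 (S.1 (g.1 y)) = x :=
          ⟨g.1.symm (S.1.symm (N.1.symm x)), by simp only [LinearEquiv.apply_symm_apply]⟩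
        simp only [mul_apply', inv_apply', LinearEquiv.symm_apply_apply]
        rw [hcom]
        congr 3
        obtain ⟨c, hc⟩ := hθsurj (φ (g.1 y) w' + φ w' w' / 2 * φ (g.1 y) v)
        set y' := g.1.symm (φ (g.1 y) v • w') with hy'
        have hS' : S.1 (g.1 y) = g.1 (y + y' - c • u) := by
          rw [hSx, sMap, map_sub, map_add, hθ, hy', g.1.apply_symm_apply, hc]
        rw [hS', hNx, ← hS', map_sub, map_add, LinearMap.sub_apply, LinearMap.add_apply, φ.map_smul,
          LinearMap.smul_apply, hguu, smul_zero, sub_zero, hperp (y := φ _ u • w) (by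
            rw [φ.map_smul, LinearMap.smul_apply, C.symm w u, hw, smul_zero]), add_zero, hSx, sMap]
        simp only [map_add, map_sub, LinearMap.add_apply, LinearMap.sub_apply, φ.map_smul,
          LinearMap.smul_apply, hguu, hw'v, smul_eq_mul, mul_zero, add_zero, sub_zero]⟩
    have h := LinearMap.congr_fun hD0 (A α)
    rw [hD, LinearMap.zero_apply, sub_eq_zero, show e.symm (A α) = α from e.symm_apply_apply α] at h
    exact h
  -- semilinearity on the orthogonal of the line, modulo the line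
  set σ : K → K := fun α => A α / π with hσdef
  have hmod : ∀ w, φ u w = 0 → ∀ α : K, ∃ δ : K, g.1 (α • w) = σ α • g.1 w + δ • v := by
    intro w hw α
    refine ⟨φ (g.1 (α • w) - σ α • g.1 w) x₁, sub_eq_iff_eq_add'.mp ?_⟩
    refine C.eq_smul_of_perp hxv fun w' hw' => ?_
    have hvw' : φ v w' = 0 := by rw [C.symm]; exact hw'
    have h1 := hE w hw ((A α / π) • w') (by rw [map_smul, hvw', smul_zero]) 1
    have h2 := hE w hw w' hvw' α
    rw [smul_smul, ← hπ, mul_div_cancel₀ _ hπ0, one_smul, h2, (φ (g.1 w)).map_smul, smul_eq_mul] at h1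
    rw [map_sub, LinearMap.sub_apply, φ.map_smul, LinearMap.smul_apply, smul_eq_mul, hσdef]
    exact sub_eq_zero.mpr h1
  obtain ⟨w₀, hw₀, hw₀u, hw₀x⟩ := C.exists_mid u x₀
  have hgw₀ : ∀ a b : K, a • g.1 w₀ = b • v → a = 0 := by
    intro a b hab
    by_contra ha
    obtain ⟨c, hc⟩ := hθsurj (a⁻¹ * b)
    have : g.1 w₀ = g.1 (c • u) := by rw [hθ, hc, ← smul_smul, ← hab, inv_smul_smul₀ ha]
    have e := g.1.injective this
    rw [e, φ.map_smul, LinearMap.smul_apply, C.symm u x₀, hxu, smul_eq_mul, mul_one] at hw₀x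
    exact hw₀ (by rw [e, hw₀x, zero_smul])
  have hσ1 : σ 1 = 1 := div_self hπ0
  have hσadd : ∀ a b, σ (a + b) = σ a + σ b := fun a b => by
    simp only [hσdef, map_add, add_div]
  have hσmul : ∀ k l, σ (k * l) = σ k * σ l := by
    intro k l
    have huw : φ u w₀ = 0 := by rw [C.symm]; exact hw₀u
    obtain ⟨δ₁, h1⟩ := hmod w₀ huw (k * l)
    obtain ⟨δ₂, h2⟩ := hmod w₀ huw l
    obtain ⟨δ₃, h3⟩ := hmod (l • w₀) (by rw [map_smul, huw, smul_zero]) k
    rw [smul_smul, h1, h2] at h3
    refine sub_eq_zero.mp (hgw₀ _ (σ k * δ₂ + δ₃ - δ₁) ?_)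
    linear_combination (norm := module) h3
  let S : K →+* K :=
    { toFun := σ
      map_one' := hσ1
      map_zero' := by simp [hσdef]
      map_add' := hσadd
      map_mul' := hσmul }
  have hSbij : Function.Bijective S := Finite.injective_iff_bijective.mp S.injective
  have hAS : ∀ α, A α = S α * π := fun α => (div_mul_cancel₀ _ hπ0).symm
  have hrule : ∀ m, τ (S m * π) = τ m := fun m => by
    have h := hpair (m • x₀) 1
    rwa [hθ1, one_mul, one_mul, ← hA0, hAS, φ.map_smul, LinearMap.smul_apply, hxu, smul_eq_mul,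
      mul_one] at h
  have hθS : ∀ s, θ s = S s := fun s => by
    obtain ⟨t, ht⟩ := hSbij.2 (θ s)
    have : t = s := C.tau_inj fun α => by
      have h := hpair (α • x₀) s
      rw [← hA0, hAS, φ.map_smul, LinearMap.smul_apply, hxu, smul_eq_mul, mul_one, ← ht,
        ← mul_assoc, ← map_mul, hrule] at h
      rw [mul_comm α t, mul_comm α s]; exact h
    rw [← ht, this]
  have hgu : ∀ k : K, g.1 (k • u) = S k • v := fun k => by rw [hθ, hθS]
  have hsim : ∀ y y', φ y u = 0 → φ y' u = 0 → φ (g.1 y) (g.1 y') = S (φ y y') * π := by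
    intro y y' hy hy'
    refine C.tau_inj fun s => ?_
    obtain ⟨c, rfl⟩ := hSbij.2 s
    obtain ⟨δ, hδ⟩ := hmod y (by rw [C.symm]; exact hy) c
    have e : S c • g.1 y = g.1 (c • y) - δ • v := by rw [hδ, add_sub_cancel_right]; rfl
    rw [← smul_eq_mul, ← LinearMap.smul_apply, ← φ.map_smul, e, map_sub, LinearMap.sub_apply,
      φ.map_smul, LinearMap.smul_apply, C.symm v, hperp hy', smul_zero, sub_zero, C.iso,
      φ.map_smul, LinearMap.smul_apply, smul_eq_mul, ← mul_assoc, ← map_mul, hrule]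
  have hgv : ∀ y, φ (g.1 y) v = S (φ y u) * π := fun y => by rw [hA, hAS]
  -- second condition
  have hF : ∀ w, φ u w = 0 → ∀ α : K, g.1 (α • w) - S α • g.1 w =
      (S (α * φ x₀ w) - π⁻¹ * φ (g.1 (α • x₀)) (g.1 w)) • v := by
    intro w hw α
    have hwu : φ w u = 0 := by rw [C.symm]; exact hw
    obtain ⟨N, hN, hNx⟩ := hN w hw
    obtain ⟨R, hR, -, hRx⟩ := C.exists_S hguu (w := π⁻¹ • g.1 w) (by
      rw [map_smul, C.symm v, hperp hwu, smul_zero])
    choose δ hδ using hmod w hw
    have hδu : ∀ {a b : K}, a • v = b • v → a = b := hθu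
    let δl : K →ₗ[F] K :=
      { toFun := δ
        map_add' := fun a b => hδu (by
          have h1 := hδ (a + b)
          rw [add_smul, map_add, hδ, hδ, hσadd, add_smul] at h1
          rw [add_smul]
          linear_combination (norm := module) -h1)
        map_smul' := fun c a => hδu (by
          have h1 := hδ (c • a)
          have h2 : σ (c • a) = c • σ a := by
            simp only [hσdef, map_smul, smul_div_assoc]
          rw [smul_assoc, map_smul, hδ, h2, smul_add, ← smul_assoc, ← smul_assoc] at h1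
          rw [RingHom.id_apply]
          exact (add_left_cancel h1).symm) }
    let e : K ≃ₗ[F] K := LinearEquiv.ofBijective A ⟨hAinj, hAsurj⟩
    let Θ : K →ₗ[F] K :=
      { toFun := fun a => S a
        map_add' := fun a b => map_add S a b
        map_smul' := fun c a => by
          rw [RingHom.id_apply]
          show σ (c • a) = c • σ a
          simp only [hσdef, map_smul, smul_div_assoc] }
    let D₀ : K →ₗ[F] K := δl +
      (LinearMap.mulLeft F π⁻¹) ∘ₗ (φ.flip (g.1 w)).restrictScalars F ∘ₗ (g.1 : V →ₗ[F] V) ∘ₗ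
        (LinearMap.toSpanSingleton K V x₀).restrictScalars F - Θ ∘ₗ LinearMap.mulRight F (φ x₀ w)
    have hD₀ : ∀ a, D₀ a = δ a + π⁻¹ * φ (g.1 (a • x₀)) (g.1 w) - S (a * φ x₀ w) := fun a => rfl
    have hdiff : ∀ y, N.1 (g.1 y) = R.1 (g.1 y) + D₀ (φ y u) • v := by
      intro y
      set a := φ y u with ha
      have hy : φ (y - a • x₀) u = 0 := by
        rw [map_sub, LinearMap.sub_apply, φ.map_smul, LinearMap.smul_apply, hxu, smul_eq_mul,
          mul_one, ha, sub_self]
      have h := hsim _ w hy hwu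
      rw [map_sub, map_sub, LinearMap.sub_apply, map_sub, LinearMap.sub_apply, φ.map_smul,
        LinearMap.smul_apply, smul_eq_mul, sub_eq_iff_eq_add] at h
      have hq : φ (π⁻¹ • g.1 w) (π⁻¹ • g.1 w) = π⁻¹ * S (φ w w) := by
        rw [hsmul, hsim w w hwu hwu]
        field_simp
      rw [hNx, hRx, sMap, hD₀, hδ, hgv, ← ha, hq, (φ (g.1 y)).map_smul, h, hθS, smul_eq_mul]
      have hσS : σ a = S a := rfl
      have h2' := C.two'
      rw [hσS, map_add, map_mul S (φ w w / 2), map_div₀, map_ofNat, map_sub, map_mul S a]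
      match_scalars <;> field_simp
      ring
    let D : K →ₗ[F] K := D₀ ∘ₗ (e.symm : K →ₗ[F] K)
    have hD0 : D = 0 := noD D ⟨N * R⁻¹, mul_mem hN (inv_mem hR), fun x => by
      obtain ⟨y, rfl⟩ : ∃ y, R.1 (g.1 y) = x :=
        ⟨g.1.symm (R.1.symm x), by simp only [LinearEquiv.apply_symm_apply]⟩
      simp only [mul_apply', inv_apply', LinearEquiv.symm_apply_apply]
      rw [hdiff]
      congr 2
      show D₀ (φ y u) = D₀ (e.symm (φ (R.1 (g.1 y)) v))
      congr 1
      rw [LinearEquiv.eq_symm_apply, hRx, sMap]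
      show A (φ y u) = _
      rw [← hA]
      simp only [map_add, map_sub, LinearMap.add_apply, LinearMap.sub_apply, φ.map_smul,
        LinearMap.smul_apply, hguu, hperp hwu, smul_eq_mul, mul_zero, add_zero, sub_zero]⟩
    have h : D (A α) = 0 := by rw [hD0, LinearMap.zero_apply]
    rw [show D (A α) = D₀ α from congrArg D₀ (e.symm_apply_apply α), hD₀] at h
    rw [hδ, show σ α = S α from rfl, add_sub_cancel_left]
    congr 1
    linear_combination h
  -- exactness on the orthogonal of the hyperbolic line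
  have hex : ∀ w, φ w u = 0 → φ w x₀ = 0 →
      (∀ α : K, g.1 (α • w) = S α • g.1 w) ∧ ∀ α : K, φ (g.1 (α • x₀)) (g.1 w) = 0 := by
    intro w hwu hwx
    let Φ : K → K → K := fun α l => φ (g.1 (α • x₀)) (g.1 (l • w))
    have hd : ∀ α l, g.1 (α • l • w) = S α • g.1 (l • w) - (π⁻¹ * Φ α l) • v := fun α l => by
      have h := hF (l • w) (by rw [map_smul, C.symm, hwu, smul_zero]) α
      rw [(φ x₀).map_smul, C.symm x₀, hwx, smul_zero, mul_zero, map_zero, zero_sub, neg_smul,
        sub_eq_iff_eq_add] at h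
      rw [h]; abel
    have h1 : ∀ l, Φ 1 l = 0 := fun l => by
      have h := hd 1 l
      rw [one_smul, map_one, one_smul, eq_comm, sub_eq_self, smul_eq_zero] at h
      exact (mul_eq_zero.mp (h.resolve_right hv0)).resolve_left (inv_ne_zero hπ0)
    have hcoc : ∀ α l, Φ α l = Φ (α * l) 1 - S α * Φ l 1 := fun α l => by
      have h := hd α l
      have e1 := hd (α * l) 1
      have e2 := hd l 1
      rw [one_smul] at e1 e2
      rw [smul_smul, e1, e2, map_mul] at h
      have h' := hθu (a := π⁻¹ * Φ α l) (b := π⁻¹ * (Φ (α * l) 1 - S α * Φ l 1))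
        (by linear_combination (norm := module) h)
      exact mul_left_cancel₀ (inv_ne_zero hπ0) h'
    have hlin : ∀ α l, Φ α l = S l * Φ α 1 - S α * Φ l 1 := fun α l => by
      show φ (g.1 (α • x₀)) (g.1 (l • w)) = _
      have e2 := hd l 1
      rw [one_smul] at e2
      rw [e2, map_sub, (φ (g.1 (α • x₀))).map_smul, (φ (g.1 (α • x₀))).map_smul, smul_eq_mul, smul_eq_mul, hgv,
        φ.map_smul, LinearMap.smul_apply, hxu, smul_eq_mul, mul_one]
      simp only [Φ, one_smul]
      field_simp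
    have hΦ : ∀ l, Φ l 1 = 0 := fun l => by
      have h := hcoc 1 l
      have h2 := hlin 1 l
      rw [one_mul, map_one, one_mul] at h
      rw [map_one, one_mul, h1 1, mul_zero, zero_sub, h1] at h2
      linear_combination h2
    refine ⟨fun α => ?_, fun α => ?_⟩
    · have h := hd α 1
      rwa [one_smul, hΦ, mul_zero, zero_smul, sub_zero] at h
    · have h := hΦ α
      simpa only [Φ, one_smul] using h
  set h₀ := g.1 x₀ with hh₀
  have hdec : ∀ y, φ y u = 0 → ∀ α : K, g.1 (α • y) = S α • g.1 y := by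
    intro y hy α
    have hw : φ (y - φ y x₀ • u) u = 0 ∧ φ (y - φ y x₀ • u) x₀ = 0 := by
      simp [hy, huu, C.symm u x₀, hxu]
    have h := (hex _ hw.1 hw.2).1 α
    rw [smul_sub, smul_smul, map_sub, map_sub, hgu, hgu, smul_sub, smul_smul, map_mul] at h
    exact sub_left_inj.mp h
  have hrest : ∀ α, ∃ c : K, g.1 (α • x₀) = S α • h₀ + S c • v := by
    intro α
    set z := g.1 (α • x₀) - S α • h₀ with hz
    have hzv : φ (g.1.symm z) u = 0 := hsymm_perp (by
      rw [hz, map_sub, LinearMap.sub_apply, φ.map_smul, LinearMap.smul_apply, hh₀, hgv, hgv,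
        φ.map_smul, LinearMap.smul_apply, hxu, smul_eq_mul, smul_eq_mul, map_one, one_mul, mul_one,
        sub_self])
    set y := g.1.symm z with hy
    refine ⟨φ y x₀, ?_⟩
    have hyu : y = φ y x₀ • u := C.eq_smul_of_perp hxu fun w' hw' => by
      have hw : φ (w' - φ w' x₀ • u) u = 0 ∧ φ (w' - φ w' x₀ • u) x₀ = 0 := by
        simp [hw', huu, C.symm u x₀, hxu]
      have e := hsim y _ hzv hw.1
      rw [hy, g.1.apply_symm_apply, hz, map_sub φ, LinearMap.sub_apply, (hex _ hw.1 hw.2).2,
        φ.map_smul, LinearMap.smul_apply, ← one_smul K x₀, hh₀, ← one_smul K x₀] at e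
      simp only [one_smul] at e
      rw [show φ (g.1 x₀) (g.1 (w' - φ w' x₀ • u)) = 0 by
        simpa only [one_smul] using (hex _ hw.1 hw.2).2 1, smul_zero, sub_zero, eq_comm,
        mul_eq_zero] at e
      have e' := (map_eq_zero S).mp (e.resolve_right hπ0)
      rwa [← hz, ← hy, map_sub, (φ y).map_smul, hzv, smul_zero, sub_zero] at e'
    rw [← hgu, ← hyu, hy, g.1.apply_symm_apply, hz]
    abel
  choose γ hγ using hrest
  have hγu : ∀ {a b : K}, S a • v = S b • v → a = b := fun h => hSbij.1 (hθu h)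
  have hSF : ∀ (c : F) a, S (c • a) = c • S a := fun c a => by
    show σ (c • a) = c • σ a
    simp only [hσdef, map_smul, smul_div_assoc]
  let γl : K →ₗ[F] K :=
    { toFun := γ
      map_add' := fun a b => hγu (by
        have h := hγ (a + b)
        rw [add_smul, map_add, hγ, hγ, map_add, add_smul] at h
        rw [map_add, add_smul]
        linear_combination (norm := module) -h)
      map_smul' := fun c a => hγu (by
        have h := hγ (c • a)
        rw [smul_assoc, map_smul, hγ, hSF, smul_add, ← smul_assoc, ← smul_assoc] at h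
        rw [RingHom.id_apply, hSF]
        exact (add_left_cancel h).symm) }
  obtain ⟨μ, hμ⟩ := hSbij.2 (φ h₀ h₀ / (2 * π))
  let Cz : K →ₗ[F] K := -(γl + LinearMap.mulLeft F μ)
  have hCz : ∀ a, Cz a = -(γ a + μ * a) := fun a => rfl
  have hskew : ∀ a b, τ (a * Cz b) + τ (b * Cz a) = 0 := by
    intro a b
    have h := C.iso g (a • x₀) (b • x₀)
    have h2' := C.two'
    rw [hγ, hγ] at h
    simp only [map_add, LinearMap.add_apply, hsmul, hguu, hx₀, mul_zero, add_zero, map_zero] at h
    rw [C.symm v h₀, show φ h₀ v = π by rw [hh₀, hgv, hxu, map_one, one_mul],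
      show φ h₀ h₀ = S μ * (2 * π) by rw [hμ, div_mul_cancel₀ _ (mul_ne_zero h2' hπ0)],
      ← map_add, ← map_add, show S a * S b * (S μ * (2 * π)) + S (γ a) * S b * π + (S a * S (γ b) * π) =
        S (a * (γ b + μ * b) + b * (γ a + μ * a)) * π by simp only [map_add, map_mul]; ring,
      hrule, map_add] at h
    simp only [hCz, mul_neg, map_neg]
    linear_combination -h
  obtain ⟨Z, hZ, hZx⟩ := C.exists_z huu Cz hskew
  have hn : KSemi K (g * Z).1 := by
    intro k
    refine ⟨S k, fun x => ?_⟩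
    set α := φ x u with hα
    have hy : φ (x - α • x₀) u = 0 := by simp [hxu, hα]
    have hn1 : ∀ (c : K), (g * Z).1 (c • (x - α • x₀)) = S c • g.1 (x - α • x₀) := fun c => by
      rw [mul_apply', hZx, φ.map_smul, LinearMap.smul_apply, hy, smul_zero, map_zero, zero_smul,
        add_zero, hdec _ hy]
    have hn2 : ∀ c : K, (g * Z).1 (c • x₀) = S c • (h₀ - S μ • v) := fun c => by
      rw [mul_apply', hZx, φ.map_smul, LinearMap.smul_apply, hxu, smul_eq_mul, mul_one, map_add,
        hγ, hgu, hCz, map_neg, map_add, map_mul]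
      module
    calc (g * Z).1 (k • x) = (g * Z).1 (k • (x - α • x₀)) + (g * Z).1 ((k * α) • x₀) := by
          rw [← map_add, smul_sub, smul_smul, sub_add_cancel]
      _ = S k • ((g * Z).1 ((1 : K) • (x - α • x₀)) + (g * Z).1 (α • x₀)) := by
          rw [hn1, hn1, hn2, hn2, map_mul, map_one, one_smul, smul_add, smul_smul]
      _ = S k • (g * Z).1 x := by rw [← map_add, one_smul, sub_add_cancel]
  have hZM : Z ∈ M := by
    have h := mul_mem (inv_mem hgM) (C.mem _ (mul_mem (C.sub hgM) hZ) hn)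
    rwa [inv_mul_cancel_left] at h
  refine hns ?_
  have hC0 : Cz = 0 := by
    by_contra hne
    exact hnoz ⟨u, Or.inl rfl, Cz, hne, Z, hZM, hZx⟩
  obtain rfl : Z = 1 := quadIsoms_ext Q fun x => by
    rw [hZx, hC0, LinearMap.zero_apply, zero_smul, add_zero]; rfl
  rwa [mul_one] at hn

end Ctx

end CfsgLib.MaxSub.OExt
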