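import Cfsg.Agent.Lib.MaxSub.OExtTwo
import Cfsg.Agent.Lib.MaxSub.OmegaGen
import Cfsg.Agent.Lib.MaxSub.ExtMain
import Cfsg.Prelude.Def_GeometricClasses

/-!
Matrix form: the normaliser of a self-adjoint subfield of prime degree of the matrix algebra is maximal in
`Ω` of a quadratic form, odd characteristic.
-/

set_option autoImplicit false
set_option linter.unusedSectionVars false
set_option linter.style.haveILetI false

namespace CfsgLib.MaxSub.OExt

open Matrix
open CfsgLib.Classical CfsgLib.Geom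
open QuadraticMap (polar)

/-- the normaliser of a field subalgebra is the group of semilinear maps -/
theorem normalizer_iff_semi {F : Type*} [Field F] [Fintype F] {ι : Type} [Fintype ι] [DecidableEq ι]
    {L : Type*} [Field L] [Finite L] [Module L (ι → F)] [Nonempty ι]
    (K : Subalgebra F (Matrix ι ι F)) (em : L → Matrix ι ι F) (hem : ∀ k, em k ∈ K)
    (hemsurj : ∀ a ∈ K, ∃ k, em k = a) (hsmul : ∀ (k : L) (x : ι → F), k • x = em k *ᵥ x)
    (g : GL ι F) (h : (ι → F) ≃ₗ[F] (ι → F)) (hgh : ∀ x, (g : Matrix ι ι F) *ᵥ x = h x) :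
    g ∈ Cfsg.Geo.subalgebraNormalizer K ↔ KSemi L h := by
  constructor
  · intro hg k
    obtain ⟨k', hk'⟩ := hemsurj _ ((hg (em k)).mp (hem k))
    refine ⟨k', fun x => ?_⟩
    rw [← hgh, ← hgh, hsmul, hsmul, mulVec_mulVec, mulVec_mulVec, hk',
      mul_assoc _ _ (g : Matrix ι ι F), ← Units.val_mul, inv_mul_cancel, Units.val_one, mul_one]
  · intro hg
    have hmem : ∀ k : L,
        (g : Matrix ι ι F) * em k * ((g⁻¹ : GL ι F) : Matrix ι ι F) ∈ K := by
      intro k
      obtain ⟨k', hk'⟩ := hg k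
      have : (g : Matrix ι ι F) * em k = em k' * g := by
        refine Matrix.ext_of_mulVec_single fun i => ?_
        have := hk' (Pi.single i 1)
        rw [← hgh, ← hgh, hsmul, hsmul, mulVec_mulVec, mulVec_mulVec] at this
        exact this
      rw [this, mul_assoc, ← Units.val_mul, mul_inv_cancel, Units.val_one, mul_one]
      exact hem k'
    choose f hf using fun k => hemsurj _ (hmem k)
    have heinj : Function.Injective em := fun a b hab =>
      smul_left_injective L (Pi.single_ne_zero_iff.mpr one_ne_zero :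
        (Pi.single (Classical.arbitrary ι) (1 : F) : ι → F) ≠ 0) (by simp only [hsmul, hab])
    have hinj : Function.Injective f := by
      intro a b hab
      have := congrArg em hab
      rw [hf, hf] at this
      refine heinj ?_
      have := congrArg (fun z => ((g⁻¹ : GL ι F) : Matrix ι ι F) * z * (g : Matrix ι ι F)) this
      simpa [mul_assoc] using this
    intro k
    refine ⟨fun hk => ?_, fun hk => ?_⟩
    · obtain ⟨k₀, rfl⟩ := hemsurj k hk
      exact hmem k₀
    · obtain ⟨k₁, hk₁⟩ := hemsurj _ hk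
      obtain ⟨k₀, rfl⟩ := Finite.surjective_of_injective hinj k₁
      rw [hf] at hk₁
      have := congrArg (fun z => ((g⁻¹ : GL ι F) : Matrix ι ι F) * z * (g : Matrix ι ι F)) hk₁
      simp [mul_assoc] at this
      exact this ▸ hem k₀

variable {F : Type*} [Field F] [Fintype F] {ι : Type} [Fintype ι] [DecidableEq ι] {r : ℕ}

theorem extension_maximal_aux {L : Type*} [Field L] [Algebra F L] [Finite L] [Module L (ι → F)]
    [IsScalarTower F L (ι → F)] {f : (ι → F) → F}
    (hQ : Cfsg.Geo.IsNondegenerateQuadraticForm f) (h2 : (2 : F) ≠ 0) (hr : r.Prime)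
    (hfr : Module.finrank F L = r)
    (hk : ∀ k, Fintype.card ι = r * k → 4 ≤ k ∨ k = 3 ∧ 3 ≤ r)
    (K : Subalgebra F (Matrix ι ι F)) (em : L → Matrix ι ι F) (hem : ∀ k, em k ∈ K)
    (hemsurj : ∀ a ∈ K, ∃ k, em k = a) (hsmul : ∀ (k : L) (x : ι → F), k • x = em k *ᵥ x)
    (hsa : Cfsg.Geo.IsSelfAdjointFor (QuadraticMap.polar f) K) :
    Cfsg.Geo.IsMaximalIn (Cfsg.Geo.omegaGL f)
      (Cfsg.Geo.subalgebraNormalizer K ⊓ Cfsg.Geo.omegaGL f) := by
  classical
  have : Module.Finite F L := Module.Finite.of_finite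
  have : Module.Finite L (ι → F) := Module.Finite.of_finite
  set Q := quadFormOf hQ with hQdef
  have hf : ⇑Q = f := quadFormOf_coe hQ
  have hsep : ∀ x, (∀ y, polar Q x y = 0) → x = 0 := quadFormOf_sep hQ
  have hcard : Fintype.card ι = r * Module.finrank L (ι → F) := by
    rw [← hfr, Module.finrank_mul_finrank, Module.finrank_fintype_fun_eq_card]
  have hk4 := hk _ hcard
  have : Nonempty ι := Fintype.card_pos_iff.mp (by rw [hcard]; exact Nat.mul_pos hr.pos (by omega))
  have hiff : ∀ g : quadIsoms Q,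
      isomsToGL Q g ∈ Cfsg.Geo.subalgebraNormalizer K ↔ KSemi L g.1 := fun g =>
    normalizer_iff_semi K em hem hemsurj hsmul _ g.1 (isomsToGL_mulVec Q g)
  -- the form over the field
  obtain ⟨τ, hτ1, -⟩ := exists_dual_one (K := F) (V := L) (p := ⊥) (x := (1 : L)) (by simp)
  have hτ : τ ≠ 0 := fun e => by simp [e] at hτ1
  have hinjτ : ∀ a b : L, (∀ s, τ (s * a) = τ (s * b)) → a = b := by
    intro a b h
    by_contra hne
    refine hτ (LinearMap.ext fun x => ?_)
    have := h (x * (a - b)⁻¹)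
    rw [← sub_eq_zero, ← map_sub, ← mul_sub, inv_mul_cancel_right₀ (sub_ne_zero.2 hne)] at this
    exact this
  have hsa' : ∀ (k : L) u v, polar Q (k • u) v = polar Q u (k • v) := fun k u v => by
    rw [hsmul, hsmul, hf]; exact hsa _ (hem k) u v
  choose ψ hψ using fun v : ι → F =>
    exists_lift_functional (K := L) hτ (Q.polarBilin.flip v)
  have hψ' : ∀ v (s : L) x, τ (s * ψ v x) = polar Q (s • x) v := fun v s x => by
    rw [hψ]; rfl
  let φ : (ι → F) →ₗ[L] (ι → F) →ₗ[L] L :=
    LinearMap.mk₂ L (fun x v => ψ v x) (fun x y v => map_add _ x y) (fun k x v => map_smul _ k x)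
      (fun x v w => hinjτ _ _ fun s => by
        rw [hψ', mul_add, map_add, hψ', hψ', QuadraticMap.polar_add_right])
      (fun k x v => hinjτ _ _ fun s => by
        rw [hψ', smul_eq_mul, ← mul_assoc, hψ', ← hsa', smul_smul, mul_comm])
  have hφ : ∀ x v, τ (φ x v) = polar Q x v := fun x v => by
    have := hψ' v 1 x
    rwa [one_mul, one_smul] at this
  have hsymm : ∀ x v, φ x v = φ v x := fun x v => hinjτ _ _ fun s => by
    show τ (s * ψ v x) = τ (s * ψ x v)
    rw [hψ', hψ', hsa', QuadraticMap.polar_comm]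
  have mkCtx : ∀ M : Subgroup (quadIsoms Q), M ≤ commutator (quadIsoms Q) →
      (∀ g ∈ commutator (quadIsoms Q), KSemi L g.1 → g ∈ M) → Ctx Q φ τ M := fun M hM hmem =>
    ⟨hsep, hsymm, fun u v => (hφ u v).symm, hτ, h2, by rw [hfr]; exact hr, by omega,
      by rw [hfr]; omega, hM, hmem⟩
  refine omega_isMaximalIn_of Q hf _ ?_ fun M hM g hg hgc hgH => ?_
  · -- strictness
    have C := mkCtx _ le_rfl fun g hg _ => hg
    obtain ⟨u, hu, huu⟩ := C.exists_sing
    obtain ⟨x, hxx, hxu⟩ := C.exists_opp hu huu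
    obtain ⟨θ, hθ⟩ : ∃ θ : L, ∀ t : F, algebraMap F L t ≠ θ := by
      by_contra hall
      push Not at hall
      have : (⊥ : Subalgebra F L) = ⊤ := eq_top_iff.mpr fun x _ => Algebra.mem_bot.mpr (hall x)
      rw [Subalgebra.bot_eq_top_iff_finrank_eq_one, hfr] at this
      exact hr.one_lt.ne' this
    set D : L →ₗ[F] L := τ.smulRight θ - (τ ∘ₗ LinearMap.mulLeft F θ).smulRight 1 with hD
    have hDa : ∀ a, D a = τ a • θ - τ (θ * a) • 1 := fun a => rfl
    obtain ⟨g, hg, hgx⟩ := C.exists_z huu D fun a b => by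
      simp only [hDa, mul_sub, mul_smul_comm, map_sub, map_smul, smul_eq_mul, mul_one,
        mul_comm a θ, mul_comm b θ]
      ring
    refine ⟨g, hg, fun hgN => ?_⟩
    obtain ⟨σ, -, hσ⟩ := semi_sigma (V := ι → F) ((hiff g).mp hgN)
    have hgu : ∀ k : L, g.1 (k • u) = k • u := fun k => by
      rw [hgx, φ.map_smul, LinearMap.smul_apply, huu, smul_zero, map_zero, zero_smul, add_zero]
    have hσ1 : ∀ k, σ k = k := fun k => smul_left_injective L hu (show σ k • u = k • u by
      have h := hσ k u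
      rw [hgu, show g.1 u = u by simpa using hgu 1] at h
      exact h.symm)
    have hmul : ∀ k, D k = k * D 1 := fun k => smul_left_injective L hu (show D k • u = (k * D 1) • u by
      have h := hσ k x
      rw [hgx, hgx, hσ1, φ.map_smul, LinearMap.smul_apply, hxu, smul_eq_mul, mul_one, smul_add,
        add_right_inj, smul_smul] at h
      exact h)
    have hskew : ∀ k, τ (k * k * D 1) = 0 := fun k => by
      rw [mul_assoc, ← hmul, hDa, mul_sub, mul_smul_comm, mul_smul_comm, map_sub, map_smul, map_smul,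
        mul_one, mul_comm k θ, smul_eq_mul, smul_eq_mul, mul_comm (τ (θ * k)), sub_self]
    have hD1 : D 1 = 0 := by
      by_contra h
      obtain ⟨s, -, hs⟩ := C.exists_sq_tau h
      exact hs (by rw [mul_comm]; exact hskew s)
    refine hτ (LinearMap.ext fun a => ?_)
    have h : τ a • θ = τ (θ * a) • 1 := by
      rw [← sub_eq_zero, ← hDa, hmul, hD1, mul_zero]
    by_contra hne
    refine hθ ((τ a)⁻¹ * τ (θ * a)) ?_
    rw [Algebra.algebraMap_eq_smul_one, ← smul_smul, ← h, inv_smul_smul₀ hne]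
  · have C := mkCtx (M ⊓ commutator (quadIsoms Q)) inf_le_right fun g hg hs =>
      ⟨hM g hg ((hiff g).mpr hs), hg⟩
    have hg' : ∃ g' ∈ M ⊓ commutator (quadIsoms Q), ¬ KSemi L g'.1 :=
      ⟨g, ⟨hg, hgc⟩, fun hs => hgH ((hiff g).mpr hs)⟩
    by_cases hr2 : Module.finrank F L = 2
    · exact (C.commutator_le_two hr2 hg').trans inf_le_left
    · exact (C.commutator_le hg' fun h => absurd h hr2).trans inf_le_left

/-- the field structure on a field subalgebra lives on this copy -/
def MatFieldO (K : Subalgebra F (Matrix ι ι F)) : Type _ := ↥K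

/-- the normaliser of a self-adjoint subfield of prime degree is maximal in `Ω`, dimension three
over the subfield allowed for odd degree, four for degree two -/
theorem extension_maximal_odd [Nonempty ι] {f : (ι → F) → F}
    (hQ : Cfsg.Geo.IsNondegenerateQuadraticForm f) (h2 : (2 : F) ≠ 0) (hr : r.Prime)
    (hk : ∀ k, Fintype.card ι = r * k → (4 ≤ k ∨ k = 3 ∧ 3 ≤ r))
    (K : Subalgebra F (Matrix ι ι F)) (hK : Cfsg.Geo.IsFieldSubalgebra r K)
    (hsa : Cfsg.Geo.IsSelfAdjointFor (QuadraticMap.polar f) K) :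
    Cfsg.Geo.IsMaximalIn (Cfsg.Geo.omegaGL f)
      (Cfsg.Geo.subalgebraNormalizer K ⊓ Cfsg.Geo.omegaGL f) := by
  have hF : IsField K :=
    { exists_pair_ne := ⟨0, 1, zero_ne_one⟩
      mul_comm := fun x y => Subtype.ext (hK.comm x x.2 y y.2)
      mul_inv_cancel := fun {a} ha => by
        obtain ⟨y, hy, hxy⟩ := hK.inv a a.2 fun e => ha (Subtype.ext e)
        exact ⟨⟨y, hy⟩, Subtype.ext hxy⟩ }
  letI : Field (MatFieldO K) := hF.toField
  letI : Algebra F (MatFieldO K) := (inferInstance : Algebra F ↥K)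
  letI : Module (MatFieldO K) (ι → F) := Module.compHom (ι → F)
    (((Matrix.toLinAlgEquiv' : Matrix ι ι F ≃ₐ[F] _).toRingEquiv.toRingHom.comp
      K.val.toRingHom : ↥K →+* Module.End F (ι → F)) : MatFieldO K →+* Module.End F (ι → F))
  have : Finite (MatFieldO K) := (inferInstance : Finite ↥K)
  have : IsScalarTower F (MatFieldO K) (ι → F) := ⟨fun c k x => by
    show (c • (k : ↥K) : ↥K).1 *ᵥ x = c • ((k : ↥K).1 *ᵥ x)
    exact Matrix.smul_mulVec c (k : ↥K).1 x⟩
  exact extension_maximal_aux (L := MatFieldO K) hQ h2 hr hK.finrank_eq hk K (fun k => (k : ↥K).1)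
    (fun k => (k : ↥K).2) (fun a ha => ⟨(⟨a, ha⟩ : ↥K), rfl⟩) (fun k x => rfl) hsa

/-- the normaliser of a self-adjoint subfield of prime degree is maximal in `Ω`, dimension three
over the subfield allowed for degree at least five, four for degree two -/
theorem extension_maximal'' [Nonempty ι] {f : (ι → F) → F}
    (hQ : Cfsg.Geo.IsNondegenerateQuadraticForm f) (h2 : (2 : F) ≠ 0) (hr : r.Prime)
    (hk : ∀ k, Fintype.card ι = r * k → (4 ≤ k ∨ k = 3 ∧ 5 ≤ r))
    (K : Subalgebra F (Matrix ι ι F)) (hK : Cfsg.Geo.IsFieldSubalgebra r K)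
    (hsa : Cfsg.Geo.IsSelfAdjointFor (QuadraticMap.polar f) K) :
    Cfsg.Geo.IsMaximalIn (Cfsg.Geo.omegaGL f)
      (Cfsg.Geo.subalgebraNormalizer K ⊓ Cfsg.Geo.omegaGL f) :=
  extension_maximal_odd hQ h2 hr (fun k h => (hk k h).imp id fun h' => ⟨h'.1, by omega⟩) K hK hsa

/-- the normaliser of a self-adjoint subfield of prime degree is maximal in `Ω`, dimension three
over the subfield allowed for degree at least five -/
theorem extension_maximal' [Nonempty ι] {f : (ι → F) → F}
    (hQ : Cfsg.Geo.IsNondegenerateQuadraticForm f) (h2 : (2 : F) ≠ 0) (hr : r.Prime)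
    (hk : ∀ k, Fintype.card ι = r * k → (4 ≤ k ∨ k = 3 ∧ 5 ≤ r) ∧ (r = 2 → 5 ≤ k))
    (K : Subalgebra F (Matrix ι ι F)) (hK : Cfsg.Geo.IsFieldSubalgebra r K)
    (hsa : Cfsg.Geo.IsSelfAdjointFor (QuadraticMap.polar f) K) :
    Cfsg.Geo.IsMaximalIn (Cfsg.Geo.omegaGL f)
      (Cfsg.Geo.subalgebraNormalizer K ⊓ Cfsg.Geo.omegaGL f) :=
  extension_maximal'' hQ h2 hr (fun k h => (hk k h).1) K hK hsa

/-- the normaliser of a self-adjoint subfield of prime degree is maximal in `Ω` -/
theorem extension_maximal [Nonempty ι] {f : (ι → F) → F}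
    (hQ : Cfsg.Geo.IsNondegenerateQuadraticForm f) (h2 : (2 : F) ≠ 0) (hr : r.Prime)
    (hk : ∀ k, Fintype.card ι = r * k → 4 ≤ k ∧ (r = 2 → 5 ≤ k))
    (K : Subalgebra F (Matrix ι ι F)) (hK : Cfsg.Geo.IsFieldSubalgebra r K)
    (hsa : Cfsg.Geo.IsSelfAdjointFor (QuadraticMap.polar f) K) :
    Cfsg.Geo.IsMaximalIn (Cfsg.Geo.omegaGL f)
      (Cfsg.Geo.subalgebraNormalizer K ⊓ Cfsg.Geo.omegaGL f) :=
  extension_maximal' hQ h2 hr (fun k h => ⟨Or.inl (hk k h).1, (hk k h).2⟩) K hK hsa

end CfsgLib.MaxSub.OExt
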