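import Cfsg.Agent.Lib.MaxSub.OExtCenter

/-!
Overgroups of the semilinear orthogonal group of a trace form: the long root elements inside every
singular line.
-/

set_option autoImplicit false
set_option linter.unusedSectionVars false

namespace CfsgLib.MaxSub.OExt

open CfsgLib.Classical CfsgLib.Geom
open QuadraticMap (polar)

variable {F K V : Type*} [Field F] [Field K] [Algebra F K] [AddCommGroup V] [Module K V]
  [Module F V] [IsScalarTower F K V]

namespace Ctx

variable [Finite F] [Finite K] [Module.Finite K V] [Module.Finite F K] [FiniteDimensional F V]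
  {Q : QuadraticForm F V} {φ : V →ₗ[K] V →ₗ[K] K} {τ : K →ₗ[F] F} {M : Subgroup (quadIsoms Q)}

/-- in degree two the skew maps are a line -/
theorem skew_prop (C : Ctx Q φ τ M) (hr : Module.finrank F K = 2) {θ : K}
    (hθ : ∀ t : F, algebraMap F K t ≠ θ) {D : K →ₗ[F] K}
    (hD : ∀ a b, τ (a * D b) + τ (b * D a) = 0) (h : τ (θ * D 1) = 0) : D = 0 := by
  have hli : LinearIndependent F ![(1 : K), θ] := by
    rw [LinearIndependent.pair_iff' one_ne_zero]
    intro t ht
    rw [← Algebra.algebraMap_eq_smul_one] at ht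
    exact hθ t ht
  have htop := hli.span_eq_top_of_card_eq_finrank (by rw [Fintype.card_fin]; omega)
  have hsp : ∀ a : K, ∃ p q : F, a = p • 1 + q • θ := fun a => by
    have hmem : a ∈ Submodule.span F (Set.range ![(1 : K), θ]) := by
      rw [htop]; exact Submodule.mem_top
    rw [Matrix.range_cons, Matrix.range_cons, Matrix.range_empty, Set.union_empty,
      Set.singleton_union, Submodule.mem_span_pair] at hmem
    obtain ⟨p, q, hpq⟩ := hmem
    exact ⟨p, q, hpq.symm⟩
  have self : ∀ a, τ (a * D a) = 0 := fun a => by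
    have := hD a a
    rw [← two_mul, mul_eq_zero] at this
    exact this.resolve_left C.two
  refine LinearMap.ext fun x => C.tau_inj fun s => ?_
  obtain ⟨p, q, rfl⟩ := hsp s
  obtain ⟨p', q', rfl⟩ := hsp x
  have h' : τ (1 * D θ) = 0 := by have := hD θ 1; rw [h, zero_add] at this; exact this
  simp only [LinearMap.zero_apply, mul_zero, map_zero, map_add, map_smul, add_mul, mul_add,
    smul_mul_assoc, mul_smul_comm, self 1, self θ, h, h', smul_zero, add_zero]

/-- in degree two every skew map occurs at every singular point -/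
theorem skew_all (C : Ctx Q φ τ M) (hr : Module.finrank F K = 2) (hg : ∃ g ∈ M, ¬ KSemi K g.1)
    {y : V} (hy : y ≠ 0) (hyy : φ y y = 0) (E : K →ₗ[F] K)
    (hE : ∀ a b, τ (a * E b) + τ (b * E a) = 0) : InZ M φ y E := by
  classical
  obtain ⟨v, hv, hvv, ⟨D, hD, hDz⟩, -⟩ := C.exists_center hg
  obtain ⟨g, hgM, hgl, c, hc, hgv⟩ := C.exists_move hv hy hvv hyy
  have hz := C.inZ_move hDz hgM hgl hgv
  set D' : K →ₗ[F] K := LinearMap.mulLeft F c ∘ₗ D ∘ₗ LinearMap.mulLeft F c with hD'
  replace hz : InZ M φ y D' := hz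
  have hskew := C.skew_of_inZ hy hyy hz
  obtain ⟨θ, hθ⟩ : ∃ θ : K, ∀ t : F, algebraMap F K t ≠ θ := by
    by_contra hall
    push Not at hall
    have : (⊥ : Subalgebra F K) = ⊤ := eq_top_iff.mpr fun x _ => Algebra.mem_bot.mpr (hall x)
    rw [Subalgebra.bot_eq_top_iff_finrank_eq_one, hr] at this
    exact absurd this (by norm_num)
  set κ := τ (θ * D' 1) with hκ
  have hκ0 : κ ≠ 0 := fun h0 => hD (LinearMap.ext fun a => by
    have h := LinearMap.congr_fun (C.skew_prop hr hθ hskew h0) (c⁻¹ * a)
    simp only [hD', LinearMap.comp_apply, LinearMap.mulLeft_apply, LinearMap.zero_apply,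
      mul_inv_cancel_left₀ hc, mul_eq_zero, hc, false_or] at h
    rw [h, LinearMap.zero_apply])
  have hprop : ∀ F' : K →ₗ[F] K, (∀ a b, τ (a * F' b) + τ (b * F' a) = 0) →
      F' = (τ (θ * F' 1) / κ) • D' := fun F' hF' => sub_eq_zero.mp <| C.skew_prop hr hθ
    (fun a b => by
      simp only [LinearMap.sub_apply, LinearMap.smul_apply, mul_sub, mul_smul_comm, map_sub,
        map_smul, smul_eq_mul]
      linear_combination hF' a b - τ (θ * F' 1) / κ * hskew a b)
    (by
      rw [LinearMap.sub_apply, LinearMap.smul_apply, mul_sub, mul_smul_comm, map_sub, map_smul,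
        smul_eq_mul, ← hκ, div_mul_cancel₀ _ hκ0, sub_self])
  -- the norms
  have hli : LinearIndependent F ![(1 : K), θ] := by
    rw [LinearIndependent.pair_iff' one_ne_zero]
    intro t ht
    rw [← Algebra.algebraMap_eq_smul_one] at ht
    exact hθ t ht
  obtain ⟨c₀, c₁, hθ2⟩ : ∃ c₀ c₁ : F, θ * θ = c₀ • 1 + c₁ • θ := by
    have hmem : θ * θ ∈ Submodule.span F (Set.range ![(1 : K), θ]) := by
      rw [hli.span_eq_top_of_card_eq_finrank (by rw [Fintype.card_fin]; omega)]
      exact Submodule.mem_top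
    rw [Matrix.range_cons, Matrix.range_cons, Matrix.range_empty, Set.union_empty,
      Set.singleton_union, Submodule.mem_span_pair] at hmem
    obtain ⟨p, q, hpq⟩ := hmem
    exact ⟨p, q, hpq.symm⟩
  let ν : F → F → F := fun a b => a * a + c₁ * a * b - c₀ * (b * b)
  have hν : ∀ a b : F, ∀ s : K, s = a • 1 + b • θ →
      LinearMap.mulLeft F s ∘ₗ D' ∘ₗ LinearMap.mulLeft F s = ν a b • D' := by
    intro a b s hs
    have h := hprop (LinearMap.mulLeft F s ∘ₗ D' ∘ₗ LinearMap.mulLeft F s) fun p q => by
      have := hskew (s * p) (s * q)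
      simp only [LinearMap.comp_apply, LinearMap.mulLeft_apply]
      rwa [mul_left_comm p, mul_left_comm q, ← mul_assoc, ← mul_assoc s q]
    rw [h]
    congr 1
    have self : ∀ p, τ (p * D' p) = 0 := fun p => by
      have := hskew p p
      rw [← two_mul, mul_eq_zero] at this
      exact this.resolve_left C.two
    have hθ1 : τ (D' θ) = -κ := by
      have := hskew θ 1
      rw [one_mul, ← hκ] at this
      linear_combination this
    have h1 : τ (D' 1) = 0 := by simpa using self 1
    rw [div_eq_iff hκ0]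
    simp only [LinearMap.comp_apply, LinearMap.mulLeft_apply, mul_one, hs, map_add, map_smul,
      ← mul_assoc θ, mul_add, mul_one, mul_smul_comm, hθ2, add_mul, smul_mul_assoc, one_mul,
      smul_eq_mul, ← hκ, self θ, hθ1, h1, ν]
    ring
  have hscal : ∀ a b : F, ∀ t : F, InZ M φ y (t • D') → InZ M φ y ((ν a b * ν a b * t) • D') := by
    intro a b t ht
    set s := a • (1 : K) + b • θ with hs
    rcases eq_or_ne s 0 with h0 | h0
    · have h := hν a b s hs
      rw [h0, eq_comm, show LinearMap.mulLeft F (0 : K) ∘ₗ D' ∘ₗ LinearMap.mulLeft F (0 : K) = 0 by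
        ext; simp, smul_eq_zero] at h
      refine C.inZ_zero y fun z => ?_
      rw [Pi.smul_apply, h.resolve_right fun e => hκ0 (by rw [hκ, e]; simp), zero_mul,
        zero_mul, zero_smul]
    obtain ⟨x, hxx, hxy⟩ := C.exists_opp hy hyy
    obtain ⟨T, hT, hTl, hTx⟩ := C.exists_torus hyy hxx (by rw [C.symm]; exact hxy) h0
    have hTy : T.1 y = (s * s) • y := by rw [hTx, hyy, C.symm y x, hxy]; module
    refine inZ_congr (C.inZ_move ht hT hTl hTy) fun z => ?_
    have e := LinearMap.congr_fun (hν a b s hs) (s * z)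
    have e' := LinearMap.congr_fun (hν a b s hs) z
    simp only [LinearMap.comp_apply, LinearMap.mulLeft_apply, LinearMap.smul_apply, Pi.smul_apply] at e e' ⊢
    rw [mul_smul_comm, mul_assoc s s z, mul_assoc s s, e, mul_smul_comm, e', smul_smul, smul_smul]
    ring_nf
  have hνsurj : ∀ l : F, ∃ a b, ν a b = l := by
    intro l
    have := Fintype.ofFinite F
    have h2 := C.two
    set d := c₀ + c₁ * c₁ / 4 with hd
    have h4 : (4 : F) ≠ 0 := by
      rw [show (4 : F) = 2 * 2 by norm_num]; exact mul_ne_zero h2 h2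
    have hd0 : d ≠ 0 := fun e => by
      refine hθ (c₁ / 2) (sub_eq_zero.mp (mul_self_eq_zero.mp ?_)).symm.symm
      have e' := congrArg (algebraMap F K) e
      have h2' := C.two'
      have h4' : (4 : K) ≠ 0 := by rw [show (4 : K) = 2 * 2 by norm_num]; exact mul_ne_zero h2' h2'
      rw [Algebra.smul_def, Algebra.smul_def, mul_one] at hθ2
      rw [hd, map_zero, map_add, map_div₀, map_mul, map_ofNat] at e'
      rw [map_div₀, map_ofNat]
      field_simp at e' ⊢
      linear_combination e' + 4 * hθ2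
    obtain ⟨a, b, hab⟩ := FiniteField.exists_root_sum_quadratic
      (f := Polynomial.X ^ 2 - Polynomial.C l) (g := Polynomial.C (-d) * Polynomial.X ^ 2)
      (Polynomial.degree_X_pow_sub_C (by norm_num) _)
      (Polynomial.degree_C_mul_X_pow 2 (neg_ne_zero.2 hd0))
      (FiniteField.odd_card_of_char_ne_two (fun e => h2 (by
        have := CharP.cast_eq_zero F (ringChar F); rw [e] at this; exact_mod_cast this)))
    refine ⟨a - b * c₁ / 2, b, ?_⟩
    simp only [Polynomial.eval_sub, Polynomial.eval_pow, Polynomial.eval_X, Polynomial.eval_C,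
      Polynomial.eval_mul, hd] at hab
    simp only [ν]
    field_simp at hab ⊢
    linear_combination hab
  have hone : InZ M φ y ((1 : F) • D') := by rwa [one_smul]
  obtain ⟨e, he⟩ : ∃ e, e = τ (θ * E 1) / κ := ⟨_, rfl⟩
  rw [hprop E hE, ← he]
  have h2 := C.two
  obtain ⟨a, b, hab⟩ := hνsurj ((e + 1) / 2)
  obtain ⟨a', b', hab'⟩ := hνsurj ((e - 1) / 2)
  refine C.inZ_sub hyy (hscal a b 1 hone) (hscal a' b' 1 hone) fun z => ?_
  rw [hab, hab', Pi.smul_apply, Pi.smul_apply, LinearMap.smul_apply, ← add_smul]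
  congr 1
  field_simp
  ring

/-- the long root elements inside every singular line -/
theorem pr_all (C : Ctx Q φ τ M) (hg : ∃ g ∈ M, ¬ KSemi K g.1) {y : V} (hy : y ≠ 0)
    (hyy : φ y y = 0) (p q : K) : Pr M φ τ y p q := by
  rcases Nat.lt_or_ge (Module.finrank F K) 3 with h3 | h3
  · have hr : Module.finrank F K = 2 := by have := C.prime.two_le; omega
    refine inZ_congr (C.skew_all hr hg hy hyy
      ((τ ∘ₗ LinearMap.mulLeft F p).smulRight q - (τ ∘ₗ LinearMap.mulLeft F q).smulRight p)
      fun a b => ?_) fun a => rfl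
    simp only [LinearMap.sub_apply, LinearMap.smulRight_apply, LinearMap.comp_apply,
      LinearMap.mulLeft_apply, mul_sub, mul_smul_comm, map_sub, map_smul, smul_eq_mul,
      mul_comm a p, mul_comm a q, mul_comm b p, mul_comm b q]
    ring
  obtain ⟨v, hv, hvv, hall⟩ := C.exists_pairs hg h3
  obtain ⟨g, hgM, hgl, c, hc, hgv⟩ := C.exists_move hv hy hvv hyy
  refine inZ_congr (C.inZ_move (hall (p / c) (q / c)) hgM hgl hgv) fun a => ?_
  rw [mul_sub, mul_smul_comm, mul_smul_comm, mul_div_cancel₀ _ hc, mul_div_cancel₀ _ hc,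
    show p / c * (c * a) = p * a by field_simp, show q / c * (c * a) = q * a by field_simp]

end Ctx

end CfsgLib.MaxSub.OExt
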