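import Cfsg.Agent.Lib.MaxSub.OExtAxis

/-!
Overgroups of the semilinear orthogonal group of a trace form: the long root groups inside a singular line.
-/

set_option autoImplicit false
set_option linter.unusedSectionVars false

namespace CfsgLib.MaxSub.OExt

open CfsgLib.Classical CfsgLib.Geom
open QuadraticMap (polar)

variable {F K V : Type*} [Field F] [Field K] [Algebra F K] [AddCommGroup V] [Module K V]
  [Module F V] [IsScalarTower F K V]

/-- `M` has the long root element of the pair `p • v`, `q • v` -/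
def Pr {Q : QuadraticForm F V} (M : Subgroup (quadIsoms Q)) (φ : V →ₗ[K] V →ₗ[K] K) (τ : K →ₗ[F] F)
    (v : V) (p q : K) : Prop :=
  InZ M φ v fun a => τ (p * a) • q - τ (q * a) • p

namespace Ctx

variable [Finite F] [Finite K] [Module.Finite K V] [Module.Finite F K] [FiniteDimensional F V]
  {Q : QuadraticForm F V} {φ : V →ₗ[K] V →ₗ[K] K} {τ : K →ₗ[F] F} {M : Subgroup (quadIsoms Q)}

theorem exists_sq_tau (C : Ctx Q φ τ M) {c : K} (hc : c ≠ 0) :
    ∃ s : K, s ≠ 0 ∧ τ (c * (s * s)) ≠ 0 := by
  by_contra h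
  push Not at h
  have h' : ∀ s : K, τ (c * (s * s)) = 0 := fun s => by
    rcases eq_or_ne s 0 with rfl | hs
    · simp
    · exact h s hs
  refine hc (C.tau_inj fun y => ?_)
  have h2 := C.two'
  rw [mul_zero, map_zero, show y * c = c * ((y + 1) / 2 * ((y + 1) / 2)) -
      c * ((y - 1) / 2 * ((y - 1) / 2)) by field_simp; ring, map_sub, h', h', sub_zero]

theorem skew_of_inZ (C : Ctx Q φ τ M) {v : V} (hv : v ≠ 0) (hvv : φ v v = 0) {D : K →ₗ[F] K}
    (h : InZ M φ v D) (a b : K) : τ (a * D b) + τ (b * D a) = 0 := by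
  obtain ⟨g, -, hgx⟩ := h
  obtain ⟨x, hxx, hxv⟩ := C.exists_opp hv hvv
  have e := C.iso g (a • x) (b • x)
  simp only [hgx, φ.map_smul, LinearMap.smul_apply, hxv, smul_eq_mul, mul_one, φ.map_add,
    LinearMap.add_apply, map_add, map_smul, hxx, C.symm v x, hvv, mul_zero, add_zero,
    map_zero, zero_add] at e
  rw [mul_comm (D b)] at e
  linear_combination e

/-- a skew map in odd degree has a kernel -/
theorem exists_ker (C : Ctx Q φ τ M) (hr : 3 ≤ Module.finrank F K) (D : K →ₗ[F] K)
    (hD : ∀ a b, τ (a * D b) + τ (b * D a) = 0) : ∃ c, c ≠ 0 ∧ D c = 0 := by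
  classical
  let bK := Module.finBasis F K
  let A : Matrix (Fin (Module.finrank F K)) (Fin (Module.finrank F K)) F :=
    Matrix.of fun i j => τ (bK i * D (bK j))
  have hA : A.transpose = -A := Matrix.ext fun i j => by
    simp only [A, Matrix.transpose_apply, Matrix.of_apply, Matrix.neg_apply]
    linear_combination hD (bK j) (bK i)
  have hdet : A.det = 0 := by
    have h := congrArg Matrix.det hA
    rw [Matrix.det_transpose, Matrix.det_neg, Fintype.card_fin,
      (C.prime.odd_of_ne_two (by omega)).neg_one_pow, neg_one_mul] at h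
    have h2 : (2 : F) * A.det = 0 := by linear_combination h
    exact (mul_eq_zero.mp h2).resolve_left C.two
  obtain ⟨x, hx, hAx⟩ := Matrix.exists_mulVec_eq_zero_iff.mpr hdet
  refine ⟨∑ j, x j • bK j, fun e => hx (funext fun j => ?_), ?_⟩
  · have e' := congrArg (fun z => bK.repr z j) e
    simpa [Finsupp.single_apply] using e'
  · set c := ∑ j, x j • bK j with hc
    have h : ∀ i, τ (bK i * D c) = 0 := fun i => by
      have := congrFun hAx i
      simp only [Matrix.mulVec, dotProduct, A, Matrix.of_apply, Pi.zero_apply] at this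
      rw [hc, map_sum, Finset.mul_sum, map_sum, ← this]
      exact Finset.sum_congr rfl fun j _ => by
        rw [map_smul, mul_smul_comm, map_smul, smul_eq_mul, mul_comm]
    refine C.tau_inj fun s => ?_
    have e : τ ∘ₗ LinearMap.mulRight F (D c) = 0 := bK.ext fun i => h i
    rw [mul_zero, map_zero]
    exact LinearMap.congr_fun e s

theorem inZ_sub (C : Ctx Q φ τ M) {v : V} (hvv : φ v v = 0) {D D' E : K → K}
    (h : InZ M φ v D) (h' : InZ M φ v D') (hE : ∀ y, D y = D' y + E y) : InZ M φ v E := by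
  obtain ⟨g, hg, hgx⟩ := h
  obtain ⟨g', hg', hgx'⟩ := h'
  refine ⟨g'⁻¹ * g, mul_mem (inv_mem hg') hg, fun x => g'.1.injective ?_⟩
  rw [mul_apply', inv_apply', LinearEquiv.apply_symm_apply, hgx, hgx']
  dsimp only
  rw [φ.map_add,
    LinearMap.add_apply, φ.map_smul, LinearMap.smul_apply, hvv, smul_zero, add_zero, hE, add_smul]
  abel

theorem inZ_zero (C : Ctx Q φ τ M) (v : V) {D : K → K} (hD : ∀ y, D y = 0) : InZ M φ v D :=
  ⟨1, one_mem M, fun x => by dsimp only; rw [hD, zero_smul, add_zero]; rfl⟩

theorem inZ_add (C : Ctx Q φ τ M) {v : V} (hvv : φ v v = 0) {D D' E : K → K}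
    (h : InZ M φ v D) (h' : InZ M φ v D') (hE : ∀ y, E y = D y + D' y) : InZ M φ v E :=
  C.inZ_sub hvv h (C.inZ_sub hvv (E := fun y => -D' y) (C.inZ_zero v fun _ => rfl) h'
    fun y => (add_neg_cancel _).symm) fun y => by rw [hE]; ring

theorem inZ_congr {v : V} {D E : K → K} (h : InZ M φ v D) (hE : ∀ y, D y = E y) : InZ M φ v E := by
  rwa [show E = D from funext fun y => (hE y).symm]

theorem inZ_conj (C : Ctx Q φ τ M) {v : V} {D θ θ' : K → K} (h : InZ M φ v D) {m : quadIsoms Q}
    (hm : m ∈ M) (hmv : ∀ k : K, m.1 (k • v) = θ k • v)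
    (hadj : ∀ s y, τ (θ s * y) = τ (s * θ' y)) : InZ M φ v fun y => θ (D (θ' y)) := by
  obtain ⟨g, hg, hgx⟩ := h
  refine ⟨m * g * m⁻¹, mul_mem (mul_mem hm hg) (inv_mem hm), fun x => ?_⟩
  have e : φ (m.1.symm x) v = θ' (φ x v) := C.tau_inj fun s => by
    have hi := C.iso m (m.1.symm x) (s • v)
    rw [LinearEquiv.apply_symm_apply, hmv, (φ x).map_smul, (φ (m.1.symm x)).map_smul, smul_eq_mul,
      smul_eq_mul, hadj] at hi
    exact hi.symm
  rw [mul_apply', mul_apply', inv_apply', hgx]
  dsimp only
  rw [e, map_add, hmv, LinearEquiv.apply_symm_apply]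

theorem inZ_line (C : Ctx Q φ τ M) {v : V} {c : K} {D : K → K} (h : InZ M φ (c • v) D) :
    InZ M φ v fun a => c * D (c * a) := by
  obtain ⟨g, hg, hgx⟩ := h
  refine ⟨g, hg, fun x => ?_⟩
  rw [hgx]
  dsimp only
  rw [(φ x).map_smul, smul_eq_mul, smul_smul, mul_comm c (D _)]

theorem center_of_axis (C : Ctx Q φ τ M) {v : V} (hv : v ≠ 0) (hvv : φ v v = 0)
    {χ : K →ₗ[F] F} (hχ : χ ≠ 0) (hax : HasAxis M v χ) :
    ∃ D : K →ₗ[F] K, D ≠ 0 ∧ InZ M φ v D := by
  classical
  have := C.nontriv
  have hr := C.prime.two_le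
  obtain ⟨i, hi, hi0⟩ : ∃ i ∈ LinearMap.ker χ, i ≠ 0 := by
    refine (LinearMap.ker χ).ne_bot_iff.1 fun h => ?_
    have h1 := LinearMap.finrank_range_add_finrank_ker χ
    have h2 := Submodule.finrank_le (LinearMap.range χ)
    rw [h, finrank_bot, Module.finrank_self] at *
    omega
  replace hi : χ i = 0 := hi
  obtain ⟨m, hm, hmv⟩ := hax i hi
  set c := 1 + χ 1 • i with hc
  have hmv1 : m.1 v = c • v := by rw [← hmv 1, one_smul]
  have hc0 : c ≠ 0 := fun e => hv (m.1.map_eq_zero_iff.mp (by rw [hmv1, e, zero_smul]))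
  have hline : ∀ k : K, ∃ c' : K, m.1 (k • v) = c' • m.1 v := fun k =>
    ⟨(k + χ k • i) * c⁻¹, by rw [hmv1, smul_smul, inv_mul_cancel_right₀ hc0, hmv]⟩
  have hns : ¬ KSemi K m.1 := by
    intro hs
    obtain ⟨σ, -, hσ⟩ := semi_sigma hs
    have hA : ∀ x, x + χ x • i = σ x * c := fun x => smul_left_injective K hv
      (show (x + χ x • i) • v = (σ x * c) • v by rw [← hmv, hσ, hmv1, smul_smul])
    have hσi : σ i * c = i := by rw [← hA, hi, zero_smul, add_zero]
    have key : ∀ x, σ (x / i) = x / i + algebraMap F K (χ x) := fun x => by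
      rw [map_div₀, ← mul_div_mul_right (σ x) (σ i) hc0, hσi, ← hA, add_div, Algebra.smul_def,
        mul_div_cancel_right₀ _ hi0]
    have hfix : ∀ t : F, σ (algebraMap F K t) = algebraMap F K t := fun t => by
      have h := key (t • i)
      rwa [map_smul, hi, smul_zero, map_zero, add_zero, Algebra.smul_def,
        mul_div_cancel_right₀ _ hi0] at h
    rcases Nat.lt_or_ge (Module.finrank F K) 3 with h3 | h3
    · obtain ⟨e, he⟩ : ∃ e, χ e = 1 := by
        obtain ⟨e, he⟩ : ∃ e, χ e ≠ 0 := by
          by_contra h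
          push Not at h
          exact hχ (LinearMap.ext h)
        exact ⟨(χ e)⁻¹ • e, by rw [map_smul, smul_eq_mul, inv_mul_cancel₀ he]⟩
      set s := e / i with hs'
      have hσs : σ s = s + 1 := by rw [key, he, map_one]
      have hli : LinearIndependent F ![(1 : K), s] := by
        rw [LinearIndependent.pair_iff' one_ne_zero]
        intro t ht
        rw [← ht, Algebra.smul_def, mul_one, hfix, left_eq_add] at hσs
        exact one_ne_zero hσs
      have htop := hli.span_eq_top_of_card_eq_finrank (by rw [Fintype.card_fin]; omega)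
      have hmem : s * s ∈ Submodule.span F (Set.range ![(1 : K), s]) := by
        rw [htop]; exact Submodule.mem_top
      rw [Matrix.range_cons, Matrix.range_cons, Matrix.range_empty, Set.union_empty,
        Set.singleton_union, Submodule.mem_span_pair] at hmem
      obtain ⟨a, b, hab⟩ := hmem
      rw [Algebra.smul_def, mul_one, Algebra.smul_def] at hab
      have h := congrArg σ hab
      rw [map_add, map_mul, hfix, hfix, map_mul, hσs] at h
      have h' : algebraMap F K b = 2 * s + 1 := by linear_combination h - hab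
      refine (LinearIndependent.pair_iff' (K := F) one_ne_zero).mp hli ((b - 1) / 2) ?_
      rw [Algebra.smul_def, mul_one, map_div₀, map_sub, map_one, map_ofNat, h',
        add_sub_cancel_right, mul_div_cancel_left₀ _ C.two']
    · obtain ⟨j, hj, hji⟩ : ∃ j, χ j = 0 ∧ j ∉ Submodule.span F {i} := by
        by_contra h
        push Not at h
        have h0 : LinearMap.ker χ ≤ Submodule.span F {i} := fun j hj => h j hj
        have h1 := LinearMap.finrank_range_add_finrank_ker χ
        have h2 := Submodule.finrank_le (LinearMap.range χ)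
        have h4 := Submodule.finrank_mono h0
        rw [finrank_span_singleton hi0] at h4
        rw [Module.finrank_self] at h2
        omega
      let S : Subalgebra F K :=
        { carrier := {x | σ x = x}
          mul_mem' := fun {a b} ha hb => by
            show σ (a * b) = a * b; rw [map_mul, ha, hb]
          add_mem' := fun {a b} ha hb => by
            show σ (a + b) = a + b; rw [map_add, ha, hb]
          algebraMap_mem' := hfix }
      have := Subalgebra.isSimpleOrder_of_finrank_prime F K C.prime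
      rcases eq_bot_or_eq_top S with hS | hS
      · have hmem : j / i ∈ S := by
          show σ (j / i) = j / i
          rw [key, hj, map_zero, add_zero]
        rw [hS, Algebra.mem_bot] at hmem
        obtain ⟨t, ht⟩ := hmem
        exact hji (Submodule.mem_span_singleton.mpr
          ⟨t, by rw [Algebra.smul_def, ht, div_mul_cancel₀ _ hi0]⟩)
      · have hid : ∀ x, σ x = x := fun x => show x ∈ S by rw [hS]; exact Algebra.mem_top
        refine hχ (LinearMap.ext fun x => ?_)
        have h := key x
        rwa [hid, left_eq_add, map_eq_zero] at h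
  rcases C.semi_or_center hm hv hvv (by simp [hmv1, hvv]) hline with h | ⟨v', hv', D, hD, hDz⟩
  · exact absurd h hns
  rcases hv' with rfl | rfl
  · exact ⟨D, hD, hDz⟩
  · refine ⟨LinearMap.mulLeft F c ∘ₗ D ∘ₗ LinearMap.mulLeft F c, fun e => hD (LinearMap.ext fun x => ?_),
      C.inZ_line (by rwa [hmv1] at hDz)⟩
    have h := LinearMap.congr_fun e (c⁻¹ * x)
    simp only [LinearMap.comp_apply, LinearMap.mulLeft_apply, LinearMap.zero_apply,
      mul_inv_cancel_left₀ hc0, mul_eq_zero, hc0, false_or] at h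
    rw [h, LinearMap.zero_apply]

theorem pr_congr {v : V} {p q : K} {E : K → K} (h : InZ M φ v E)
    (hE : ∀ a, E a = τ (p * a) • q - τ (q * a) • p) : Pr M φ τ v p q := inZ_congr h hE

theorem pr_swap (C : Ctx Q φ τ M) {v : V} (hvv : φ v v = 0) {p q : K} (h : Pr M φ τ v p q) :
    Pr M φ τ v q p :=
  C.inZ_sub hvv (C.inZ_zero v fun _ => rfl) h fun a => by abel

theorem pr_add (C : Ctx Q φ τ M) {v : V} (hvv : φ v v = 0) {p q q' : K} (h : Pr M φ τ v p q)
    (h' : Pr M φ τ v p q') : Pr M φ τ v p (q + q') :=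
  C.inZ_add hvv h h' fun a => by rw [add_mul, map_add, add_smul, smul_add]; abel

theorem pr_smul_comm {v : V} {p q : K} {t : F} (h : Pr M φ τ v (t • p) q) :
    Pr M φ τ v p (t • q) :=
  inZ_congr h fun a => by
    simp only [smul_mul_assoc, map_smul, smul_eq_mul]
    module

end Ctx

end CfsgLib.MaxSub.OExt
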