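import Cfsg.Agent.Lib.MaxSub.OExtBase

/-!
Overgroups of the semilinear orthogonal group of a trace form: an element moving a singular vector to a
singular vector, and the analysis of elements mapping a singular line to a singular line.
-/

set_option autoImplicit false
set_option linter.unusedSectionVars false

namespace CfsgLib.MaxSub.OExt

open CfsgLib.Classical CfsgLib.Geom
open QuadraticMap (polar)

variable {F K V : Type*} [Field F] [Field K] [Algebra F K] [AddCommGroup V] [Module K V]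
  [Module F V] [IsScalarTower F K V]

/-- `M` has the element `x ↦ x + D (φ x v) • v` -/
def InZ {Q : QuadraticForm F V} (M : Subgroup (quadIsoms Q)) (φ : V →ₗ[K] V →ₗ[K] K) (v : V)
    (D : K → K) : Prop :=
  InM M fun x => x + D (φ x v) • v

namespace Ctx

variable [Finite F] [Finite K] [Module.Finite K V] [Module.Finite F K] [FiniteDimensional F V]
  {Q : QuadraticForm F V} {φ : V →ₗ[K] V →ₗ[K] K} {τ : K →ₗ[F] F} {M : Subgroup (quadIsoms Q)}

theorem exists_sq_ne_one (C : Ctx Q φ τ M) : ∃ b : K, b ≠ 0 ∧ b * b ≠ 1 := by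
  classical
  by_contra h
  push Not at h
  have := Fintype.ofFinite K
  have hs : (Finset.univ : Finset K) ⊆ {0, 1, -1} := fun b _ => by
    rcases eq_or_ne b 0 with rfl | hb
    · simp
    · rcases mul_self_eq_one_iff.mp (h b hb) with rfl | rfl <;> simp
  have h1 := Finset.card_le_card hs
  have h2 : ({0, 1, -1} : Finset K).card ≤ 3 := Finset.card_le_three
  have h3 := Module.natCard_eq_pow_finrank (K := F) (V := K)
  have h4 : 2 ^ 2 ≤ Nat.card F ^ Module.finrank F K :=
    (Nat.pow_le_pow_left Finite.one_lt_card 2).trans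
      (Nat.pow_le_pow_right Nat.card_pos C.prime.two_le)
  rw [Finset.card_univ, ← Nat.card_eq_fintype_card, h3] at h1
  omega

theorem exists_sing (C : Ctx Q φ τ M) : ∃ u, u ≠ 0 ∧ φ u u = 0 := by
  obtain ⟨u, -, hu, hQ⟩ := exists_singular_in (Q := LinearMap.BilinMap.toQuadraticMap φ)
    (W := (⊤ : Submodule K V)) (by rw [finrank_top]; have := C.three; omega)
  exact ⟨u, hu, hQ⟩

/-- some element outside the semilinear ones maps a singular vector to a singular vector -/
theorem exists_fix_four (C : Ctx Q φ τ M) (h4 : 4 ≤ Module.finrank K V)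
    (hg : ∃ g ∈ M, ¬ KSemi K g.1) :
    ∃ g ∈ M, ¬ KSemi K g.1 ∧ ∃ u, u ≠ 0 ∧ φ u u = 0 ∧ φ (g.1 u) (g.1 u) = 0 := by
  have := C.nontriv
  obtain ⟨g, hgM, hgs⟩ := hg
  obtain ⟨u, hu, huu⟩ := C.exists_sing
  by_contra hno
  set v := g.1 u with hv
  have hc : φ v v ≠ 0 := fun e => hno ⟨g, hgM, hgs, u, hu, huu, e⟩
  have hsemi : ∀ n ∈ M, n.1 u = u → KSemi K n.1 := fun n hn hnu => by
    by_contra hns
    exact hno ⟨n, hn, hns, u, hu, huu, by rw [hnu]; exact huu⟩
  obtain ⟨b, hb, hb1⟩ := C.exists_sq_ne_one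
  set a := b * b with ha
  have claim : ∀ y z w, φ y y = 0 → φ z z = 0 → φ y z = 1 → φ v y = 0 → φ v z = 0 → φ y w = 0 →
      φ z w = 0 → φ v w = 0 → ∀ (k : K) (x : V),
      τ (φ (g.1 (k • u)) (sMap φ y w x - x)) = 0 := by
    intro y z w hy hz hyz hvy hvz hyw hzw hvw k x
    set d := (a - 1)⁻¹ • w with hd
    have hwd : a • d - d = w := by
      rw [hd, show a • ((a - 1)⁻¹ • w) - (a - 1)⁻¹ • w = (a - 1) • ((a - 1)⁻¹ • w) by module,
        smul_inv_smul₀ (sub_ne_zero.2 hb1)]
    have hyd : φ y d = 0 := by rw [hd, map_smul, hyw, smul_zero]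
    have hvd : φ v d = 0 := by rw [hd, map_smul, hvw, smul_zero]
    obtain ⟨T, hT, hTl, hTx⟩ := C.exists_torus hy hz hyz hb
    obtain ⟨S, hS, hSl, hSx⟩ := C.exists_S hy hyd
    obtain ⟨R, hR, hRl, hRx⟩ := C.exists_S hy (w := w) hyw
    have hTy : T.1 y = a • y := by rw [hTx, hy, hyz]; module
    have hTd : T.1 d = d := by
      rw [hTx, C.symm d z, C.symm d y, hyd, show φ z d = 0 by rw [hd, map_smul, hzw, smul_zero]]
      simp
    have hcom : T * S * T⁻¹ * S⁻¹ = R := by
      have h1 : T * S = R * S * T := quadIsoms_ext Q fun x' => by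
        rw [mul_apply', mul_apply', mul_apply', hRx, hSx, hSx]
        have e2 : φ x' y = a * φ (T.1 x') y := by
          rw [← C.iso_lin hTl x' y, hTy, map_smul, smul_eq_mul]
        have e3 : φ x' d = φ (T.1 x') d := by
          conv_lhs => rw [← C.iso_lin hTl x' d, hTd]
        rw [C.sMap_comp hy hyw hyd]
        rw [show w + d = a • d by rw [← hwd]; abel]
        simp only [sMap, map_add, map_sub, hTl _ _, hTy, hTd, e2, e3, φ.map_smul, (φ _).map_smul,
          LinearMap.smul_apply, smul_eq_mul]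
        module
      rw [h1, mul_inv_cancel_right, mul_inv_cancel_right]
    have hTv : T.1 v = v := by rw [hTx, hvy, hvz]; simp
    have hSv : S.1 v = v := by rw [hSx, sMap, hvy, hvd]; simp
    have hfix : ∀ P : quadIsoms Q, P.1 v = v → (g⁻¹ * P * g).1 u = u := fun P hP => by
      rw [mul_apply', mul_apply', ← hv, hP, inv_apply', LinearEquiv.symm_apply_apply]
    have hlin : KLin K (g⁻¹ * R * g).1 := by
      have h := kLin_comm
        (hsemi _ (mul_mem (mul_mem (inv_mem hgM) hT) hgM) (hfix T hTv))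
        (hsemi _ (mul_mem (mul_mem (inv_mem hgM) hS) hgM) (hfix S hSv))
      rwa [← hcom, show g⁻¹ * (T * S * T⁻¹ * S⁻¹) * g =
        g⁻¹ * T * g * (g⁻¹ * S * g) * (g⁻¹ * T * g)⁻¹ * (g⁻¹ * S * g)⁻¹ by group]
    have hRu : (g⁻¹ * R * g).1 u = u := hfix R (by rw [hRx, sMap, hvy, hvw]; simp)
    obtain ⟨x, rfl⟩ := g.1.surjective x
    have h := C.iso_lin hlin (k • u) x
    rw [hlin k u, hRu] at h
    have h' : φ (k • u) ((g⁻¹ * R * g).1 x - x) = 0 := by rw [map_sub, h, sub_self]
    have h'' := C.iso g (k • u) ((g⁻¹ * R * g).1 x - x)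
    rw [h', map_zero, map_sub, mul_apply', mul_apply', inv_apply', LinearEquiv.apply_symm_apply,
      hRx] at h''
    exact h''
  obtain ⟨y, hy, hy0, hyy⟩ := exists_singular_in (Q := LinearMap.BilinMap.toQuadraticMap φ)
    (W := LinearMap.ker (φ v)) (by
      have h1 := LinearMap.finrank_range_add_finrank_ker (φ v)
      have h2 := Submodule.finrank_le (LinearMap.range (φ v))
      rw [Module.finrank_self] at h2
      omega)
  replace hy : φ v y = 0 := hy
  replace hyy : φ y y = 0 := hyy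
  obtain ⟨z, hzz, hyz, hvz⟩ : ∃ z, φ z z = 0 ∧ φ y z = 1 ∧ φ v z = 0 := by
    obtain ⟨z₁, hz₁⟩ := C.exists_one hy0
    obtain ⟨z₂, hz₂, hvz₂⟩ : ∃ z, φ y z = 1 ∧ φ v z = 0 :=
      ⟨z₁ - (φ v z₁ / φ v v) • v,
        by rw [map_sub, map_smul, C.symm y v, hy, smul_zero, sub_zero, hz₁],
        by rw [map_sub, map_smul, smul_eq_mul, div_mul_cancel₀ _ hc, sub_self]⟩
    refine ⟨z₂ - (φ z₂ z₂ / 2) • y, ?_, ?_, ?_⟩
    · simp only [map_sub, map_smul, LinearMap.sub_apply, LinearMap.smul_apply, hyy, hz₂,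
        C.symm z₂ y, smul_eq_mul]
      field_simp [C.two']
      ring
    · rw [map_sub, map_smul, hyy, smul_zero, sub_zero, hz₂]
    · rw [map_sub, map_smul, hy, smul_zero, sub_zero, hvz₂]
  let P : V → V := fun x => x - (φ x v / φ v v) • v - φ x z • y - φ x y • z
  have hP : ∀ x, φ v (P x) = 0 ∧ φ y (P x) = 0 ∧ φ z (P x) = 0 := fun x => by
    simp only [P, map_sub, map_smul, hy, hvz, hyy, hzz, hyz, C.symm y v, C.symm z v, C.symm z y,
      smul_eq_mul]
    rw [C.symm v x, C.symm y x, C.symm z x, div_mul_cancel₀ _ hc]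
    exact ⟨by ring, by ring, by ring⟩
  obtain ⟨w, hwP, hww⟩ : ∃ w, (∃ x, P x = w) ∧ φ w w ≠ 0 := by
    by_contra hall
    push Not at hall
    have hPP : ∀ x x', φ (P x) (P x') = 0 := fun x x' => by
      have h0 := hall (P (x + x')) ⟨_, rfl⟩
      have e : P (x + x') = P x + P x' := by
        simp only [P, map_add, LinearMap.add_apply, add_div]
        module
      rw [e] at h0
      simp only [map_add, LinearMap.add_apply, hall _ ⟨x, rfl⟩, hall _ ⟨x', rfl⟩,
        C.symm (P x') (P x), zero_add, add_zero, ← two_mul, mul_eq_zero] at h0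
      exact h0.resolve_left C.two'
    have hP0 : ∀ x, P x = 0 := fun x => C.nondeg _ fun x' => by
      conv_lhs => rw [show x' = P x' + (φ x' v / φ v v) • v + φ x' z • y + φ x' y • z by
        simp only [P]; abel]
      simp only [map_add, map_smul, hPP, C.symm (P x) v, C.symm (P x) y, C.symm (P x) z,
        (hP x).1, (hP x).2.1, (hP x).2.2]
      simp
    classical
    have htop : (⊤ : Submodule K V) ≤
        Submodule.span K (({v, y, z} : Finset V) : Set V) := fun x _ => by
      have e := hP0 x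
      rw [show x = (φ x v / φ v v) • v + φ x z • y + φ x y • z by
        rw [← sub_eq_zero, ← e]; simp only [P]; abel]
      exact add_mem (add_mem (Submodule.smul_mem _ _ (Submodule.subset_span (by simp)))
        (Submodule.smul_mem _ _ (Submodule.subset_span (by simp))))
        (Submodule.smul_mem _ _ (Submodule.subset_span (by simp)))
    have h1 := Submodule.finrank_mono htop
    have h2 := finrank_span_finset_le_card (R := K) ({v, y, z} : Finset V)
    have h3 : ({v, y, z} : Finset V).card ≤ 3 := Finset.card_le_three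
    rw [finrank_top] at h1
    rw [Set.finrank] at h2
    omega
  have key : ∀ t : V, (∀ w' x, φ v w' = 0 → φ y w' = 0 → φ z w' = 0 →
      τ (φ t (sMap φ y w' x - x)) = 0 ∧ τ (φ t (sMap φ z w' x - x)) = 0) →
      ∃ c : K, t = c • v := by
    intro t ht
    have hlin : ∀ y' z' : V, φ z' y' = 1 → φ y' y' = 0 →
        (∀ w' x, φ v w' = 0 → φ y w' = 0 → φ z w' = 0 →
          τ (φ t (sMap φ y' w' x - x)) = 0) →
        (∀ w', φ v w' = 0 → φ y w' = 0 → φ z w' = 0 → φ z' w' = 0) →
        φ t y' = 0 ∧ ∀ w', φ v w' = 0 → φ y w' = 0 → φ z w' = 0 → φ t w' = 0 := by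
      intro y' z' hzy' _ h horth
      have hform : ∀ w' (c : K), φ v w' = 0 → φ y w' = 0 → φ z w' = 0 →
          τ (c * (φ t w' - φ w' w' / 2 * φ t y')) = 0 := fun w' c h1 h2 h3 => by
        have e : sMap φ y' w' (c • z') - c • z' = c • w' - (φ w' w' / 2 * c) • y' := by
          simp only [sMap, map_smul, LinearMap.smul_apply, hzy', horth w' h1 h2 h3, smul_eq_mul,
            mul_zero, zero_add, mul_one]
          abel
        have := h w' (c • z') h1 h2 h3
        rw [e, map_sub, (φ t).map_smul, (φ t).map_smul, smul_eq_mul, smul_eq_mul] at this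
        rwa [mul_sub, ← mul_assoc, mul_comm c (_ / _)]
      have hz' : ∀ w', φ v w' = 0 → φ y w' = 0 → φ z w' = 0 →
          φ t w' = φ w' w' / 2 * φ t y' := fun w' h1 h2 h3 =>
        C.tau_inj fun s => by rw [← sub_eq_zero, ← map_sub, ← mul_sub]; exact hform w' s h1 h2 h3
      obtain ⟨x, hx⟩ := hwP
      have hw1 : φ v w = 0 ∧ φ y w = 0 ∧ φ z w = 0 := hx ▸ hP x
      have e1 := hz' w hw1.1 hw1.2.1 hw1.2.2
      have e2 := hz' (-w) (by rw [map_neg, hw1.1, neg_zero]) (by rw [map_neg, hw1.2.1, neg_zero])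
        (by rw [map_neg, hw1.2.2, neg_zero])
      simp only [map_neg, LinearMap.neg_apply, neg_neg] at e2
      have hty : φ t y' = 0 := by
        have : φ w w * φ t y' = 0 := by
          have h2 : φ w w / 2 * φ t y' * 2 = 0 := by linear_combination -e1 - e2
          rwa [div_mul_eq_mul_div, div_mul_cancel₀ _ C.two'] at h2
        exact (mul_eq_zero.mp this).resolve_left hww
      exact ⟨hty, fun w' h1 h2 h3 => by rw [hz' w' h1 h2 h3, hty, mul_zero]⟩
    obtain ⟨hty, htw⟩ := hlin y z (by rw [C.symm]; exact hyz) hyy (fun w' x a b c => (ht w' x a b c).1)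
      (fun w' _ _ c => c)
    obtain ⟨htz, -⟩ := hlin z y hyz hzz (fun w' x a b c => (ht w' x a b c).2) (fun w' _ b _ => b)
    refine ⟨φ t v / φ v v, sub_eq_zero.mp (C.nondeg _ fun x => ?_)⟩
    conv_lhs => rw [show x = P x + (φ x v / φ v v) • v + φ x z • y + φ x y • z by simp only [P]; abel]
    simp only [map_add, map_sub, map_smul, LinearMap.sub_apply, LinearMap.smul_apply, smul_eq_mul,
      htw _ (hP x).1 (hP x).2.1 (hP x).2.2, hty, htz, (hP x).1, hy, hvz, div_mul_cancel₀ _ hc]
    ring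
  have hline : ∀ k, ∃ c : K, g.1 (k • u) = c • v := fun k => key _ fun w' x h1 h2 h3 =>
    ⟨claim y z w' hyy hzz hyz hy hvz h2 h3 h1 k x,
      claim z y w' hzz hyy (by rw [C.symm]; exact hyz) hvz hy h3 h2 h1 k x⟩
  choose c hc' using hline
  have hinj : Function.Injective c := fun k k' h => smul_left_injective K hu
    (g.1.injective (show g.1 (k • u) = g.1 (k' • u) by rw [hc', hc', h]))
  refine hc (C.tau_inj fun s => ?_)
  obtain ⟨k, rfl⟩ := Finite.surjective_of_injective hinj s
  rw [mul_zero, map_zero, ← smul_eq_mul, ← LinearMap.smul_apply, ← φ.map_smul, ← hc',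
    show v = g.1 u from rfl, C.iso, φ.map_smul, LinearMap.smul_apply, huu, smul_zero, map_zero]

/-- the elements `x ↦ x + D (φ x v) • v` with `D` skew are in the commutator group -/
theorem exists_z (C : Ctx Q φ τ M) {v : V} (hv : φ v v = 0) (D : K →ₗ[F] K)
    (hD : ∀ a b, τ (a * D b) + τ (b * D a) = 0) :
    ∃ g ∈ commutator (quadIsoms Q), ∀ x, g.1 x = x + D (φ x v) • v := by
  let L : (K →ₗ[F] K) → V →ₗ[F] V := fun E =>
    LinearMap.id + ((LinearMap.toSpanSingleton K V v).restrictScalars F) ∘ₗ E ∘ₗ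
      (φ.flip v).restrictScalars F
  have hL : ∀ E x, L E x = x + E (φ x v) • v := fun E x => rfl
  have hcomp : ∀ E E' x, L E (L E' x) = L (E + E') x := fun E E' x => by
    simp only [hL, map_add, map_smul, LinearMap.add_apply, LinearMap.smul_apply, hv, smul_zero,
      add_zero]
    module
  set D' : K →ₗ[F] K := (2 : F)⁻¹ • D with hD'
  let e : V ≃ₗ[F] V := LinearEquiv.ofLinearMap (L D') (L (-D'))
    (LinearMap.ext fun x => by rw [LinearMap.comp_apply, hcomp, add_neg_cancel, hL]; simp)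
    (LinearMap.ext fun x => by rw [LinearMap.comp_apply, hcomp, neg_add_cancel, hL]; simp)
  have hQ : e ∈ quadIsoms Q := mem_quadIsoms.2 fun x => by
    show Q (L D' x) = Q x
    rw [hL, QuadraticMap.map_add (Q : QuadraticMap F V F), C.q_zero hv, C.rel, map_smul,
      smul_eq_mul, add_zero]
    have h := hD (φ x v) (φ x v)
    rw [← two_mul, mul_eq_zero] at h
    rw [hD', LinearMap.smul_apply, smul_mul_assoc, map_smul, smul_eq_mul, mul_comm (D _),
      h.resolve_left C.two, mul_zero, add_zero]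
  refine ⟨⟨e, hQ⟩ * ⟨e, hQ⟩, C.sq_mem _, fun x => ?_⟩
  show L D' (L D' x) = _
  rw [hcomp, hL, hD', ← add_smul, ← two_mul, mul_inv_cancel₀ C.two, one_smul]

end Ctx

end CfsgLib.MaxSub.OExt
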