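import Cfsg.Agent.Lib.MaxSub.OExtRoot

/-!
Overgroups of the semilinear orthogonal group of a trace form: linear elements moving one singular line to
another.
-/

set_option autoImplicit false
set_option linter.unusedSectionVars false

namespace CfsgLib.MaxSub.OExt

open CfsgLib.Classical CfsgLib.Geom
open QuadraticMap (polar)

variable {F K V : Type*} [Field F] [Field K] [Algebra F K] [AddCommGroup V] [Module K V]
  [Module F V] [IsScalarTower F K V]

namespace Ctx

variable [Finite F] [Finite K] [Module.Finite K V] [Module.Finite F K] [FiniteDimensional F V]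
  {Q : QuadraticForm F V} {φ : V →ₗ[K] V →ₗ[K] K} {τ : K →ₗ[F] F} {M : Subgroup (quadIsoms Q)}

theorem exists_perp_aniso (C : Ctx Q φ τ M) {u x : V} (huu : φ u u = 0) (hxx : φ x x = 0)
    (hxu : φ x u = 1) : ∃ w, φ w u = 0 ∧ φ w x = 0 ∧ φ w w ≠ 0 := by
  obtain ⟨w, hw0, hwu, hwx⟩ := C.exists_mid u x
  rcases ne_or_eq (φ w w) 0 with hww | hww
  · exact ⟨w, hwu, hwx, hww⟩
  obtain ⟨z, hzz, hzw⟩ := C.exists_opp hw0 hww
  set y := z - φ z x • u - φ z u • x with hy
  have hux : φ u x = 1 := by rw [C.symm]; exact hxu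
  have hyu : φ y u = 0 := by simp [hy, huu, hxu]
  have hyx : φ y x = 0 := by simp [hy, hxx, hux]
  have hyw : φ y w = 1 := by simp [hy, hzw, C.symm u w, C.symm x w, hwu, hwx]
  rcases ne_or_eq (φ y y) 0 with hyy | hyy
  · exact ⟨y, hyu, hyx, hyy⟩
  refine ⟨w + y, by simp [hwu, hyu], by simp [hwx, hyx], ?_⟩
  simp only [map_add, LinearMap.add_apply, hww, hyy, C.symm w y, hyw, zero_add, add_zero]
  rw [one_add_one_eq_two]
  exact C.two'

theorem exists_step (C : Ctx Q φ τ M) {v y z : V} (hvv : φ v v = 0) (hyy : φ y y = 0)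
    (hzz : φ z z = 0) (hzv : φ z v ≠ 0) (hzy : φ z y ≠ 0) :
    ∃ g ∈ M, KLin K g.1 ∧ ∃ c : K, c ≠ 0 ∧ g.1 v = c • y := by
  set w := (φ z y)⁻¹ • y - (φ z v)⁻¹ • v with hw
  have hzw : φ z w = 0 := by
    rw [hw, map_sub, (φ z).map_smul, (φ z).map_smul, smul_eq_mul, smul_eq_mul,
      inv_mul_cancel₀ hzy, inv_mul_cancel₀ hzv, sub_self]
  obtain ⟨g, hg, hgl, hgx⟩ := C.exists_S hzz hzw
  refine ⟨g, hg, hgl, φ z v * (φ z y)⁻¹, mul_ne_zero hzv (inv_ne_zero hzy), ?_⟩
  have hvw : φ v w + φ w w / 2 * φ z v = 0 := by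
    simp only [hw, map_sub, map_smul, LinearMap.sub_apply, LinearMap.smul_apply, hvv, hyy,
      C.symm y v, smul_eq_mul]
    have h2 := C.two'
    field_simp
    ring
  rw [hgx, sMap, C.symm v z, hvw, zero_smul, sub_zero, hw, smul_sub, smul_smul, smul_smul,
    mul_inv_cancel₀ hzv, one_smul, add_sub_cancel]

theorem exists_move (C : Ctx Q φ τ M) {v y : V} (hv : v ≠ 0) (hy : y ≠ 0) (hvv : φ v v = 0)
    (hyy : φ y y = 0) : ∃ g ∈ M, KLin K g.1 ∧ ∃ c : K, c ≠ 0 ∧ g.1 v = c • y := by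
  rcases ne_or_eq (φ v y) 0 with hc | hc
  · set x := (φ v y)⁻¹ • y with hx
    have hxx : φ x x = 0 := by simp [hx, hyy]
    have hxv : φ x v = 1 := by
      rw [hx, φ.map_smul, LinearMap.smul_apply, C.symm y v, smul_eq_mul, inv_mul_cancel₀ hc]
    obtain ⟨w, hwv, hwx, hww⟩ := C.exists_perp_aniso hvv hxx hxv
    have hwy : φ w y = 0 := by
      rw [hx, (φ w).map_smul, smul_eq_mul, mul_eq_zero] at hwx
      exact hwx.resolve_left (inv_ne_zero hc)
    have h2 := C.two'
    set α := -(φ w w / (2 * φ v y)) with hα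
    have hα0 : α ≠ 0 := neg_ne_zero.2 (div_ne_zero hww (mul_ne_zero h2 hc))
    refine C.exists_step hvv hyy (z := α • v + w + y) ?_ ?_ ?_
    · simp only [map_add, map_smul, LinearMap.add_apply, LinearMap.smul_apply, hvv, hyy, hwv, hwy,
        C.symm v w, C.symm y w, C.symm y v, smul_eq_mul, hα]
      field_simp
      ring
    · simp only [map_add, map_smul, LinearMap.add_apply, LinearMap.smul_apply, hvv, hwv,
        C.symm y v, smul_eq_mul, mul_zero, zero_add]
      exact hc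
    · simp only [map_add, map_smul, LinearMap.add_apply, LinearMap.smul_apply, hyy, hwy,
        smul_eq_mul, add_zero]
      exact mul_ne_zero hα0 hc
  obtain ⟨xv, hxvv, hxv⟩ := C.exists_opp hv hvv
  obtain ⟨xy, hxyy, hxy⟩ := C.exists_opp hy hyy
  rcases ne_or_eq (φ xv y) 0 with h1 | h1
  · exact C.exists_step hvv hyy hxvv (by rw [hxv]; exact one_ne_zero) h1
  rcases ne_or_eq (φ xy v) 0 with h2 | h2
  · exact C.exists_step hvv hyy hxyy h2 (by rw [hxy]; exact one_ne_zero)
  refine C.exists_step hvv hyy (z := xv + xy - φ xv xy • v) ?_ ?_ ?_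
  · simp only [map_add, map_sub, map_smul, LinearMap.add_apply, LinearMap.sub_apply,
      LinearMap.smul_apply, hvv, hxvv, hxyy, hxv, h2, C.symm v xv, C.symm v xy, C.symm xy xv,
      smul_eq_mul]
    ring
  · simp [hvv, hxv, h2]
  · simp [hc, hxy, h1]

theorem inZ_move (C : Ctx Q φ τ M) {v y : V} {c : K} {D : K → K} (h : InZ M φ v D)
    {g : quadIsoms Q} (hg : g ∈ M) (hgl : KLin K g.1) (hgv : g.1 v = c • y) :
    InZ M φ y fun a => c * D (c * a) := by
  refine C.inZ_line ?_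
  obtain ⟨z, hz, hzx⟩ := h
  refine ⟨g * z * g⁻¹, mul_mem (mul_mem hg hz) (inv_mem hg), fun x => ?_⟩
  rw [mul_apply', mul_apply', inv_apply', hzx]
  dsimp only
  rw [map_add, hgl, hgv, LinearEquiv.apply_symm_apply, ← C.iso_lin hgl (g.1.symm x) v, hgv,
    LinearEquiv.apply_symm_apply]

end Ctx

end CfsgLib.MaxSub.OExt
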