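import Mathlib.Tactic
import Mathlib.FieldTheory.Finite.Basic

/-!
Arithmetic of the degrees of the exceptional characters.
-/

set_option autoImplicit false

namespace CfsgLib.MaxSub.OExt.Three

theorem small_contra {r q x : ℕ} (hr : 5 ≤ r) (hqr : r ≤ q) (hx : r ≤ x + 1)
    (h : 59319 * x * q ^ 2 ≤ 128000 * r * r) : False := by
  have hsq : r * r ≤ q ^ 2 := by rw [sq]; exact Nat.mul_le_mul hqr hqr
  have h1 : 59319 * x * (r * r) ≤ 128000 * (r * r) := by
    calc 59319 * x * (r * r) ≤ 59319 * x * q ^ 2 := Nat.mul_le_mul_left _ hsq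
      _ ≤ 128000 * r * r := h
      _ = 128000 * (r * r) := by ring
  have h2 := Nat.le_of_mul_le_mul_right h1 (Nat.mul_pos (by omega) (by omega))
  omega

/-- the characteristic is the degree -/
theorem arith_char {p e n e' Q c : ℕ} {m δ : ℤ} (hr : p.Prime) (he : 0 < e) (hr5 : 5 ≤ p)
    (hQ : Q = (p ^ e) ^ p) (hQ40 : 40 * p ≤ Q) (hδ : δ = 1 ∨ δ = -1) (hm : 1 ≤ m) (he2 : 2 ≤ e')
    (hnZ : (n : ℤ) = Q * c + 1) (heq : (n : ℤ) * p = (m * Q + δ * p) * e')
    (hnqZ : (39 : ℤ) * (n * ((p ^ e : ℕ) : ℤ) ^ 2) ≤ 80 * (Q * Q)) : False := by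
  set q := p ^ e with hqdef
  have hδ2 : δ * δ = 1 := by rcases hδ with h | h <;> rw [h] <;> norm_num
  have hpq : p ≤ q := Nat.le_self_pow (by omega) p
  obtain ⟨P, hP⟩ : ∃ P, Q = p * P := by
    rw [hQ, hqdef, ← pow_mul]
    exact dvd_pow_self p (Nat.mul_ne_zero (by omega) hr.ne_zero)
  obtain ⟨P', hP'⟩ : (p : ℤ) ∣ P := by
    have h1 : p * p ∣ Q := by
      rw [hQ, hqdef, ← pow_mul, ← pow_two]
      exact pow_dvd_pow p (le_trans (by omega) (Nat.mul_le_mul he le_rfl))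
    rw [hP] at h1
    exact_mod_cast Nat.dvd_of_mul_dvd_mul_left hr.pos h1
  have hQP : (Q : ℤ) = p * P := by exact_mod_cast hP
  have hP40 : 40 ≤ P := Nat.le_of_mul_le_mul_left (by rw [← hP]; linarith : p * 40 ≤ p * P) hr.pos
  have hn' : (n : ℤ) = (m * P + δ) * e' := mul_right_cancel₀ (Nat.cast_ne_zero.2 hr.ne_zero)
    (by rw [heq, hQP]; ring)
  obtain ⟨m', hm'⟩ : ∃ m' : ℤ, (e' : ℤ) = m' * P + δ :=
    ⟨δ * (p * c - m * e'), by linear_combination δ * (hnZ - hn' + c * hQP) - (e' : ℤ) * hδ2⟩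
  have hPZ : (40 : ℤ) ≤ P := by exact_mod_cast hP40
  have he'Z : (2 : ℤ) ≤ e' := by exact_mod_cast he2
  have hm'1 : 1 ≤ m' := by
    by_contra h
    rcases eq_or_lt_of_le (show m' ≤ 0 by omega) with rfl | hm''
    · omega
    · have h1 : m' * (P : ℤ) ≤ -1 * P := mul_le_mul_of_nonneg_right (by omega) (by omega)
      omega
  have hdiv : (p : ℤ) ∣ m + m' := by
    refine ⟨δ * (c - m * m' * P'), ?_⟩
    refine mul_left_cancel₀ (show (P : ℤ) ≠ 0 by omega) ?_
    linear_combination δ * (hnZ - hn' + c * hQP) - δ * (m * P + δ) * hm' - δ * hδ2 -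
      δ * m * m' * P * hP' - (m + m') * P * hδ2
  have hmm : (p : ℤ) ≤ m * m' + 1 := by
    have h1 := Int.le_of_dvd (by omega) hdiv
    linarith [mul_nonneg (show 0 ≤ m - 1 by omega) (show 0 ≤ m' - 1 by omega)]
  have h40 : 1521 * (m * m') * (P * P) ≤ 1600 * (n : ℤ) := by
    rw [hn', hm']
    have h1 : 39 * (m * P) ≤ 40 * (m * P + δ) := by
      rcases hδ with rfl | rfl <;>
        linarith [mul_le_mul_of_nonneg_right hm (show (0:ℤ) ≤ P by omega)]
    have h2 : 39 * (m' * P) ≤ 40 * (m' * P + δ) := by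
      rcases hδ with rfl | rfl <;>
        linarith [mul_le_mul_of_nonneg_right hm'1 (show (0:ℤ) ≤ P by omega)]
    have := mul_le_mul h1 h2 (mul_nonneg (by norm_num) (mul_nonneg (by omega) (by omega)))
      (by linarith [mul_nonneg (show 0 ≤ m by omega) (show (0:ℤ) ≤ P by omega)])
    linarith
  obtain ⟨x, hx⟩ := Int.eq_ofNat_of_zero_le (show 0 ≤ m * m' by positivity)
  refine small_contra hr5 hpq (x := x) (by rw [hx] at hmm; omega) ?_
  have key : (59319 : ℤ) * x * q ^ 2 * (P * P) ≤ 128000 * p * p * (P * P) := by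
    calc (59319 : ℤ) * x * q ^ 2 * (P * P) = (39 : ℤ) * (q : ℤ) ^ 2 * (1521 * (m * m') * (P * P)) := by
          rw [hx]; ring
      _ ≤ (39 : ℤ) * (q : ℤ) ^ 2 * (1600 * (n : ℤ)) := mul_le_mul_of_nonneg_left h40 (by positivity)
      _ = (1600 : ℤ) * (39 * ((n : ℤ) * (q : ℤ) ^ 2)) := by ring
      _ ≤ (1600 : ℤ) * (80 * ((Q : ℤ) * Q)) := by linarith
      _ = (128000 : ℤ) * p * p * ((P : ℤ) * P) := by rw [hQP]; ring
  have := le_of_mul_le_mul_right key (by positivity)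
  exact_mod_cast this

/-- the degree is prime to the characteristic -/
theorem arith_coprime {p e r n e' Q c : ℕ} {m δ : ℤ} (hp : p.Prime) (hr : r.Prime) (hr5 : 5 ≤ r)
    (hpr : p ≠ r) (hq3 : 3 ≤ p ^ e) (hQ : Q = (p ^ e) ^ r) (hQ40 : 40 * r ≤ Q)
    (hδ : δ = 1 ∨ δ = -1) (hm : 1 ≤ m) (he2 : 2 ≤ e')
    (hnZ : (n : ℤ) = Q * c + 1) (heq : (n : ℤ) * r = (m * Q + δ * r) * e')
    (hnqZ : (39 : ℤ) * (n * ((p ^ e : ℕ) : ℤ) ^ 2) ≤ 80 * (Q * Q)) : False := by
  set q := p ^ e with hqdef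
  have hδ2 : δ * δ = 1 := by rcases hδ with h | h <;> rw [h] <;> norm_num
  have hQZ : (40 : ℤ) * r ≤ Q := by exact_mod_cast hQ40
  have : Fact r.Prime := ⟨hr⟩
  have hrQ : ¬ r ∣ Q := fun h => by
    rw [hQ, hqdef] at h
    exact hpr ((Nat.prime_dvd_prime_iff_eq hr hp).1 (hr.dvd_of_dvd_pow (hr.dvd_of_dvd_pow h))).symm
  have hcop : IsCoprime (Q : ℤ) r :=
    Int.isCoprime_iff_nat_coprime.2 ((hr.coprime_iff_not_dvd.2 hrQ).symm)
  obtain ⟨m', hm'⟩ : ∃ m' : ℤ, (e' : ℤ) = m' * Q + δ := by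
    have h1 : (Q : ℤ) ∣ (δ * e' - 1) * r :=
      ⟨c * r - m * e', by linear_combination hnZ * r - heq⟩
    obtain ⟨z, hz⟩ := hcop.dvd_of_dvd_mul_right h1
    exact ⟨δ * z, by linear_combination δ * hz - (e' : ℤ) * hδ2⟩
  have he'Z : (2 : ℤ) ≤ e' := by exact_mod_cast he2
  have hm'1 : 1 ≤ m' := by
    by_contra h
    rcases eq_or_lt_of_le (show m' ≤ 0 by omega) with rfl | hm''
    · omega
    · have h1 : m' * (Q : ℤ) ≤ -1 * Q := mul_le_mul_of_nonneg_right (by omega) (by omega)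
      omega
  have h40 : 1521 * (m * m') * (Q * Q) ≤ 1600 * ((n : ℤ) * r) := by
    rw [heq, hm']
    have h1 : 39 * (m * Q) ≤ 40 * (m * Q + δ * r) := by
      rcases hδ with rfl | rfl <;>
        linarith [mul_le_mul_of_nonneg_right hm (show (0:ℤ) ≤ Q by omega)]
    have h2 : 39 * (m' * Q) ≤ 40 * (m' * Q + δ) := by
      rcases hδ with rfl | rfl <;>
        linarith [mul_le_mul_of_nonneg_right hm'1 (show (0:ℤ) ≤ Q by omega)]
    have := mul_le_mul h1 h2 (mul_nonneg (by norm_num) (mul_nonneg (by omega) (by omega)))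
      (by linarith [mul_nonneg (show 0 ≤ m by omega) (show (0:ℤ) ≤ Q by omega)])
    linarith
  have key : 59319 * (m * m') * (q : ℤ) ^ 2 ≤ 128000 * r := by
    refine le_of_mul_le_mul_right ?_ (mul_pos (show (0 : ℤ) < Q by omega) (show (0 : ℤ) < Q by omega))
    calc 59319 * (m * m') * (q : ℤ) ^ 2 * (Q * Q)
        = (39 : ℤ) * (q : ℤ) ^ 2 * (1521 * (m * m') * (Q * Q)) := by ring
      _ ≤ (39 : ℤ) * (q : ℤ) ^ 2 * (1600 * ((n : ℤ) * r)) := mul_le_mul_of_nonneg_left h40 (by positivity)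
      _ = (1600 : ℤ) * (39 * ((n : ℤ) * (q : ℤ) ^ 2)) * (r : ℤ) := by ring
      _ ≤ (1600 : ℤ) * (80 * ((Q : ℤ) * Q)) * (r : ℤ) := mul_le_mul_of_nonneg_right (by linarith) (by positivity)
      _ = (128000 : ℤ) * r * ((Q : ℤ) * Q) := by ring
  have hq3' : (3 : ℤ) ≤ q := by exact_mod_cast hq3
  have hmr : m < r := by
    have h1 : m * 1 * 3 ^ 2 ≤ m * m' * (q : ℤ) ^ 2 :=
      mul_le_mul (mul_le_mul_of_nonneg_left hm'1 (by omega)) (pow_le_pow_left₀ (by norm_num) hq3' 2)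
        (by norm_num) (by positivity)
    linarith
  have hrd : ¬ (r : ℤ) ∣ m * Q + δ * r := fun h => by
    have h2 : (r : ℤ) ∣ m * Q := (Int.dvd_add_left (dvd_mul_left (r : ℤ) δ)).1 h
    have := Int.le_of_dvd (by omega) (hcop.symm.dvd_of_dvd_mul_right h2)
    omega
  have hre : (r : ℤ) ∣ e' :=
    ((Nat.prime_iff_prime_int.1 hr).dvd_or_dvd ⟨n, by rw [← heq]; ring⟩).resolve_left hrd
  have hQq : (r : ℤ) ∣ Q - q := by
    refine (ZMod.intCast_zmod_eq_zero_iff_dvd _ _).1 ?_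
    rw [hQ]; push_cast
    rw [ZMod.pow_card, sub_self]
  have hfin : (r : ℤ) ∣ m' * q + δ := by
    rw [show m' * (q : ℤ) + δ = e' - m' * (Q - q) by rw [hm']; ring]
    exact dvd_sub hre (dvd_mul_of_dvd_right hQq _)
  have hpos : 0 < m' * (q : ℤ) + δ := by
    have : 1 * (q : ℤ) ≤ m' * q := mul_le_mul_of_nonneg_right hm'1 (by positivity)
    rcases hδ with rfl | rfl <;> omega
  have hle := Int.le_of_dvd hpos hfin
  have h1 : m' * (q : ℤ) * 3 ≤ m * m' * q ^ 2 := by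
    calc m' * (q : ℤ) * 3 ≤ m' * q * q := mul_le_mul_of_nonneg_left hq3' (by positivity)
      _ = 1 * (m' * q * q) := (one_mul _).symm
      _ ≤ m * (m' * q * q) := mul_le_mul_of_nonneg_right hm (by positivity)
      _ = _ := by ring
  rcases hδ with rfl | rfl <;> linarith [show (5 : ℤ) ≤ r by exact_mod_cast hr5]

/-- no such degree exists -/
theorem arith {p e r n t d Q : ℕ} {m δ : ℤ} (hp : p.Prime) (he : 0 < e) (hr : r.Prime)
    (hr5 : 5 ≤ r) (hq3 : 3 ≤ p ^ e) (hQ : Q = (p ^ e) ^ r) (hQt : p ^ e + r * t = Q)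
    (hδ : δ = 1 ∨ δ = -1) (hd : (d : ℤ) = m * Q + δ * r) (hd0 : 0 < d) (hdr : d ≠ r)
    (hdvd : d ∣ n * r) (hsq : t * (d * d) ≤ n * r * Q) (hn1 : Q ∣ n - 1) (hn : 2 ≤ n)
    (hbound : n * (r * t) ≤ 2 * (p ^ e) ^ (3 * r - 2)) : False := by
  set q := p ^ e with hqdef
  -- sizes
  obtain ⟨k, hk⟩ : ∃ k, r = k + 2 := ⟨r - 2, by omega⟩
  have hQ81 : 81 * q ≤ Q := by
    have h1 : 3 ^ 4 ≤ q ^ (r - 1) :=
      (Nat.pow_le_pow_left hq3 4).trans (Nat.pow_le_pow_right (by omega) (by omega))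
    rw [hQ, show r = r - 1 + 1 by omega, pow_succ]
    calc 81 * q ≤ q ^ (r - 1) * q := Nat.mul_le_mul_right q (by norm_num at h1; exact h1)
      _ = _ := rfl
  have hQ40 : 40 * r ≤ Q := by
    have h1 : ∀ j, 40 * (j + 5) ≤ 3 ^ (j + 5) := fun j => by
      induction j with
      | zero => norm_num
      | succ j ih => rw [show j + 1 + 5 = (j + 5) + 1 by omega, pow_succ]; omega
    have h2 := h1 (r - 5)
    rw [show r - 5 + 5 = r by omega] at h2
    exact h2.trans (hQ ▸ Nat.pow_le_pow_left hq3 r)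
  have hQ0 : 0 < Q := by omega
  have hrt : 39 * Q ≤ 40 * (r * t) := by omega
  -- the cofactor
  obtain ⟨e', he'⟩ := hdvd
  have he'0 : 0 < e' := Nat.pos_of_ne_zero fun h => by
    rw [h, mul_zero] at he'; exact (Nat.mul_pos (by omega) hr.pos).ne' he'
  have hδ2 : δ * δ = 1 := by rcases hδ with h | h <;> rw [h] <;> norm_num
  have hQZ : (40 : ℤ) * r ≤ Q := by exact_mod_cast hQ40
  have hm : 1 ≤ m := by
    by_contra h
    rcases eq_or_lt_of_le (show m ≤ 0 by omega) with rfl | hm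
    · rcases hδ with rfl | rfl
      · exact hdr (by omega)
      · omega
    · have h1 : m * (Q : ℤ) ≤ -1 * Q := mul_le_mul_of_nonneg_right (by omega) (Int.natCast_nonneg Q)
      rcases hδ with rfl | rfl <;> omega
  have he2 : 2 ≤ e' := by
    by_contra h
    obtain rfl : e' = 1 := by omega
    rw [mul_one] at he'
    subst he'
    have h1 : t * (n * r) ≤ Q := Nat.le_of_mul_le_mul_right (c := n * r)
      (by linarith [hsq, show t * (n * r * (n * r)) = t * (n * r) * (n * r) by ring,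
        show n * r * Q = Q * (n * r) by ring]) (Nat.mul_pos (by omega) hr.pos)
    have h2 : 2 * (r * t) ≤ t * (n * r) := by
      calc 2 * (r * t) ≤ n * (r * t) := Nat.mul_le_mul_right _ hn
        _ = _ := by ring
    omega
  obtain ⟨c, hc⟩ := hn1
  have hnZ : (n : ℤ) = Q * c + 1 := by
    have : n = Q * c + 1 := by omega
    exact_mod_cast this
  have heq : (n : ℤ) * r = (m * Q + δ * r) * e' := by rw [← hd]; exact_mod_cast he'
  -- the bound on the number of members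
  have hnq : 39 * (n * q ^ 2) ≤ 80 * (Q * Q) := by
    have h2 : n * (r * t) * q ^ 2 ≤ 2 * (Q * Q * Q) := by
      calc n * (r * t) * q ^ 2 ≤ 2 * q ^ (3 * r - 2) * q ^ 2 := Nat.mul_le_mul_right _ hbound
        _ = 2 * q ^ (3 * r - 2 + 2) := by rw [pow_add, mul_assoc]
        _ = 2 * (Q * Q * Q) := by
          rw [show 3 * r - 2 + 2 = r + r + r by omega, pow_add, pow_add, ← hQ]
    refine Nat.le_of_mul_le_mul_right (c := Q) ?_ hQ0
    have h3 : n * q ^ 2 * (39 * Q) ≤ n * q ^ 2 * (40 * (r * t)) := Nat.mul_le_mul_left _ hrt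
    linarith [h2, h3, show n * (r * t) * q ^ 2 * 40 = n * q ^ 2 * (40 * (r * t)) by ring,
      show 39 * (n * q ^ 2) * Q = n * q ^ 2 * (39 * Q) by ring,
      show 80 * (Q * Q) * Q = 2 * (Q * Q * Q) * 40 by ring]
  have hnqZ : (39 : ℤ) * (n * q ^ 2) ≤ 80 * (Q * Q) := by exact_mod_cast hnq
  rcases eq_or_ne p r with rfl | hpr
  · exact arith_char hr he hr5 hQ hQ40 hδ hm he2 hnZ heq hnqZ
  · exact arith_coprime hp hr hr5 hpr hq3 hQ hQ40 hδ hm he2 hnZ heq hnqZ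

end CfsgLib.MaxSub.OExt.Three
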