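import Mathlib.Tactic
import Mathlib.FieldTheory.Finite.Basic

/-!
Arithmetic of the degrees of the exceptional characters, cubic extensions.
-/

set_option autoImplicit false

namespace CfsgLib.MaxSub.OExt.Three

/-- no such degree exists, degree three -/
theorem arith_three {p e n t d Q : ℕ} {m δ : ℤ} (hp : p.Prime) (he : 0 < e) (hodd : p ≠ 2)
    (hQ : Q = (p ^ e) ^ 3) (hQt : p ^ e + 3 * t = Q) (hδ : δ = 1 ∨ δ = -1)
    (hd : (d : ℤ) = m * Q + δ * 3) (hd0 : 0 < d) (hdr : d ≠ 3)
    (hdvd : d ∣ n * 3) (hsq : t * (d * d) ≤ n * 3 * Q) (hn1 : Q ∣ n - 1) (hn : 2 ≤ n)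
    (hbound : n * (3 * t) ≤ (p ^ e + 1) * (p ^ e) ^ 6) : False := by
  set q := p ^ e with hqdef
  have hq3 : 3 ≤ q := by
    have h1 := hp.two_le
    have h2 := Nat.le_self_pow he.ne' p
    omega
  have hQ27 : 27 ≤ Q := hQ ▸ (Nat.pow_le_pow_left hq3 3)
  have hQq : 9 * q ≤ Q := by
    rw [hQ, pow_succ]; exact Nat.mul_le_mul_right q (Nat.pow_le_pow_left hq3 2)
  -- the cofactor
  obtain ⟨e', he'⟩ := hdvd
  have he'0 : 0 < e' := Nat.pos_of_ne_zero fun h => by rw [h, mul_zero] at he'; omega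
  have hm : 1 ≤ m := by
    by_contra h
    rcases eq_or_lt_of_le (show m ≤ 0 by omega) with rfl | hm
    · rcases hδ with rfl | rfl <;> omega
    · have h1 : m * (Q : ℤ) ≤ -1 * Q := mul_le_mul_of_nonneg_right (by omega) (Int.natCast_nonneg Q)
      rcases hδ with rfl | rfl <;> omega
  have he2 : 2 ≤ e' := by
    by_contra h
    obtain rfl : e' = 1 := by omega
    rw [mul_one] at he'
    subst he'
    have h1 : t * (n * 3) ≤ Q := Nat.le_of_mul_le_mul_right (c := n * 3)
      (by linarith [show t * (n * 3 * (n * 3)) = t * (n * 3) * (n * 3) by ring,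
        show n * 3 * Q = Q * (n * 3) by ring]) (by omega)
    have h2 : 2 * (3 * t) ≤ t * (n * 3) := by
      calc 2 * (3 * t) ≤ n * (3 * t) := Nat.mul_le_mul_right _ hn
        _ = _ := by ring
    omega
  obtain ⟨c, hc⟩ := hn1
  have hnZ : (n : ℤ) = Q * c + 1 := by
    have : n = Q * c + 1 := by omega
    exact_mod_cast this
  have heq : (n : ℤ) * 3 = (m * Q + δ * 3) * e' := by rw [← hd]; exact_mod_cast he'
  have he'Z : (2 : ℤ) ≤ e' := by exact_mod_cast he2
  have hδ2 : δ * δ = 1 := by rcases hδ with h | h <;> rw [h] <;> norm_num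
  -- the bound
  have hb : n * (q * (q - 1)) ≤ Q * Q := by
    refine Nat.le_of_mul_le_mul_right (c := q + 1) ?_ (by omega)
    have h1 : (q - 1) * (q + 1) + 1 = q * q := by
      obtain ⟨k, hk⟩ : ∃ k, q = k + 1 := ⟨q - 1, by omega⟩
      simp only [hk, Nat.add_sub_cancel]; ring
    have h2 : q * ((q - 1) * (q + 1)) + q = Q := by rw [hQ, ← Nat.mul_succ, Nat.succ_eq_add_one, h1]; ring
    have h3 : q * ((q - 1) * (q + 1)) = 3 * t := by omega
    calc n * (q * (q - 1)) * (q + 1) = n * (q * ((q - 1) * (q + 1))) := by ring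
      _ = n * (3 * t) := by rw [h3]
      _ ≤ _ := hbound
      _ = Q * Q * (q + 1) := by rw [hQ]; ring
  rcases eq_or_ne p 3 with rfl | hp3
  · -- the characteristic is the degree
    obtain ⟨P, hP⟩ : ∃ P, Q = 3 * P := by
      rw [hQ, hqdef, ← pow_mul]
      exact dvd_pow_self 3 (by omega)
    obtain ⟨P', hP'⟩ : (3 : ℕ) ∣ P := by
      have h1 : 3 * 3 ∣ Q := by
        rw [hQ, hqdef, ← pow_mul, ← pow_two]
        exact pow_dvd_pow 3 (by omega)
      rw [hP] at h1
      exact Nat.dvd_of_mul_dvd_mul_left (by norm_num) h1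
    have hQP : (Q : ℤ) = 3 * P := by exact_mod_cast hP
    have hP'Z : (P : ℤ) = 3 * P' := by exact_mod_cast hP'
    have hP9 : (9 : ℤ) ≤ P := by omega
    have hn' : (n : ℤ) = (m * P + δ) * e' := by
      have := heq; rw [hQP] at this; linarith
    obtain ⟨m', hm'⟩ : ∃ m' : ℤ, (e' : ℤ) = m' * P + δ :=
      ⟨δ * (3 * c - m * e'), by linear_combination δ * (hnZ - hn' + c * hQP) - (e' : ℤ) * hδ2⟩
    have hm'1 : 1 ≤ m' := by
      by_contra h
      rcases eq_or_lt_of_le (show m' ≤ 0 by omega) with rfl | hm''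
      · omega
      · have h1 : m' * (P : ℤ) ≤ -1 * P := mul_le_mul_of_nonneg_right (by omega) (by omega)
        omega
    have hdiv : (3 : ℤ) ∣ m + m' := by
      refine ⟨δ * (c - m * m' * P'), ?_⟩
      refine mul_left_cancel₀ (show (P : ℤ) ≠ 0 by omega) ?_
      linear_combination δ * (hnZ - hn' + c * hQP) - δ * (m * P + δ) * hm' - δ * hδ2 -
        δ * m * m' * P * hP'Z - (m + m') * P * hδ2
    have h23 := Int.le_of_dvd (by omega) hdiv
    have hlow : (2 * (P : ℤ) - 1) * (P - 1) ≤ n := by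
      rw [hn', hm']
      have hδ1 : -1 ≤ δ := by omega
      rcases le_or_gt 2 m with h | h
      · refine mul_le_mul ?_ ?_ (by omega) (by nlinarith)
        · nlinarith
        · nlinarith
      · rw [mul_comm (m * (P : ℤ) + δ)]
        refine mul_le_mul ?_ ?_ (by omega) (by nlinarith)
        · nlinarith
        · nlinarith
    have h6 : 6 ≤ q * (q - 1) := le_trans (by norm_num) (Nat.mul_le_mul hq3 (show 2 ≤ q - 1 by omega))
    have hbZ : (n : ℤ) * 6 ≤ 9 * (P * P) := by
      have : n * 6 ≤ Q * Q := (Nat.mul_le_mul_left n h6).trans hb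
      rw [hP] at this
      have h7 : (n : ℤ) * 6 ≤ 3 * P * (3 * P) := by exact_mod_cast this
      linarith
    nlinarith
  · -- the degree is prime to the characteristic
    have hp5 : 5 ≤ p := by
      have := hp.two_le
      by_contra h
      interval_cases p
      · exact hodd rfl
      · exact hp3 rfl
      · norm_num at hp
    have hq5 : 5 ≤ q := hp5.trans (Nat.le_self_pow he.ne' p)
    have hcop : IsCoprime (Q : ℤ) 3 := by
      have h := Nat.Coprime.pow_left 3 (Nat.Coprime.pow_left e ((Nat.coprime_primes hp Nat.prime_three).2 hp3))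
      rw [← hqdef, ← hQ] at h
      exact Int.isCoprime_iff_nat_coprime.2 h
    obtain ⟨m', hm'⟩ : ∃ m' : ℤ, (e' : ℤ) = m' * Q + δ := by
      have h1 : (Q : ℤ) ∣ (δ * e' - 1) * 3 :=
        ⟨c * 3 - m * e', by linear_combination hnZ * 3 - heq⟩
      obtain ⟨z, hz⟩ := hcop.dvd_of_dvd_mul_right h1
      exact ⟨δ * z, by linear_combination δ * hz - (e' : ℤ) * hδ2⟩
    have hQ125 : (125 : ℤ) ≤ Q := by exact_mod_cast (hQ ▸ Nat.pow_le_pow_left hq5 3 : 5 ^ 3 ≤ Q)
    have hm'1 : 1 ≤ m' := by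
      by_contra h
      rcases eq_or_lt_of_le (show m' ≤ 0 by omega) with rfl | hm''
      · omega
      · have h1 : m' * (Q : ℤ) ≤ -1 * Q := mul_le_mul_of_nonneg_right (by omega) (by omega)
        omega
    have hlow : ((Q : ℤ) - 3) * (Q - 1) ≤ n * 3 := by
      rw [heq, hm']
      have hδ1 : -1 ≤ δ := by omega
      refine mul_le_mul ?_ ?_ (by omega) (by nlinarith)
      · nlinarith
      · nlinarith
    have h20 : 20 ≤ q * (q - 1) := le_trans (by norm_num) (Nat.mul_le_mul hq5 (show 4 ≤ q - 1 by omega))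
    have hbZ : (n : ℤ) * 20 ≤ Q * Q := by exact_mod_cast (Nat.mul_le_mul_left n h20).trans hb
    nlinarith

end CfsgLib.MaxSub.OExt.Three
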