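import Cfsg.Agent.Lib.MaxSub.OExtLine
import Mathlib.FieldTheory.IsAlgClosed.AlgebraicClosure

/-!
Dimension three: some element outside the semilinear ones maps a singular vector to a singular vector.
-/

set_option autoImplicit false
set_option linter.unusedSectionVars false

namespace CfsgLib.MaxSub.OExt

open CfsgLib.Classical CfsgLib.Geom
open QuadraticMap (polar)

variable {F K V : Type*} [Field F] [Field K] [Algebra F K] [AddCommGroup V] [Module K V]
  [Module F V] [IsScalarTower F K V]

namespace Ctx

variable [Finite F] [Finite K] [Module.Finite K V] [Module.Finite F K] [FiniteDimensional F V]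
  {Q : QuadraticForm F V} {φ : V →ₗ[K] V →ₗ[K] K} {τ : K →ₗ[F] F} {M : Subgroup (quadIsoms Q)}

/-- in dimension three the orthogonal of a singular vector is a degenerate plane -/
theorem perp_three (C : Ctx Q φ τ M) (h3 : Module.finrank K V = 3) {v e : V} (hv : v ≠ 0)
    (hvv : φ v v = 0) (he : φ e v = 0) (he' : ∀ c : K, e ≠ c • v) :
    φ e e ≠ 0 ∧ ∀ y, φ y v = 0 → ∃ a c : K, y = a • e + c • v := by
  classical
  obtain ⟨x, hx, hxv⟩ := C.exists_opp hv hvv
  have hve : φ v e = 0 := by rw [C.symm]; exact he
  have hspan : ∀ y, φ y v = 0 → ∃ a c : K, y = a • e + c • v := by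
    have hli : LinearIndependent K ![x, e, v] := by
      rw [Fintype.linearIndependent_iff]
      intro g hg
      simp only [Fin.sum_univ_three, Matrix.cons_val_zero, Matrix.cons_val_one, Matrix.cons_val]
        at hg
      have h0 := congrArg (fun y => φ y v) hg
      simp only [map_add, map_smul, LinearMap.add_apply, LinearMap.smul_apply, hxv, he, hvv,
        smul_eq_mul, mul_one, mul_zero, add_zero, map_zero, LinearMap.zero_apply] at h0
      rw [h0, zero_smul, zero_add] at hg
      have h1 : g 1 = 0 := by
        by_contra h1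
        refine he' (-(g 1)⁻¹ * g 2) ?_
        rw [eq_comm, ← smul_smul, neg_smul, eq_comm, eq_neg_iff_add_eq_zero]
        have := congrArg (fun y => (g 1)⁻¹ • y) hg
        simpa only [smul_add, inv_smul_smul₀ h1, smul_zero] using this
      rw [h1, zero_smul, zero_add, smul_eq_zero] at hg
      intro i
      fin_cases i
      · exact h0
      · exact h1
      · exact hg.resolve_right hv
    intro y hy
    have htop := hli.span_eq_top_of_card_eq_finrank (by rw [Fintype.card_fin, h3])
    have hmem : y ∈ Submodule.span K (Set.range ![x, e, v]) := by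
      rw [htop]; exact Submodule.mem_top
    obtain ⟨g, hg⟩ := (Submodule.mem_span_range_iff_exists_fun K).1 hmem
    simp only [Fin.sum_univ_three, Matrix.cons_val_zero, Matrix.cons_val_one, Matrix.cons_val]
      at hg
    rw [← hg] at hy
    simp only [map_add, map_smul, LinearMap.add_apply, LinearMap.smul_apply, hxv, he, hvv,
      smul_eq_mul, mul_one, mul_zero, add_zero] at hy
    exact ⟨g 1, g 2, by rw [← hg, hy, zero_smul, zero_add]⟩
  refine ⟨fun hee => ?_, hspan⟩
  refine he' (φ e x) (C.eq_smul_of_perp hxv fun w hw => ?_)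
  obtain ⟨a, c, rfl⟩ := hspan w hw
  simp [hee, he]

/-- an anisotropic vector in the image of a self-adjoint projection -/
theorem exists_aniso (C : Ctx Q φ τ M) (P : V →ₗ[K] V) (hP : ∀ x y, φ (P x) y = φ (P x) (P y))
    (hne : ∃ x, P x ≠ 0) : ∃ x, φ (P x) (P x) ≠ 0 := by
  by_contra h
  push Not at h
  have hb : ∀ x y, φ (P x) (P y) = 0 := fun x y => by
    have h0 := h (x + y)
    simp only [map_add, LinearMap.add_apply, h, C.symm (P y) (P x), zero_add, add_zero, ← two_mul,
      mul_eq_zero] at h0
    exact h0.resolve_left C.two'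
  obtain ⟨x, hx⟩ := hne
  exact hx (C.nondeg _ fun y => by rw [hP, hb])

/-- the transpose of a semilinear isometry fixing a singular vector has order dividing twice the
characteristic times the degree -/
theorem semi_fix_pow (C : Ctx Q φ τ M) (h3 : Module.finrank K V = 3) (p : ℕ) [CharP K p]
    [Fact p.Prime] {y : quadIsoms Q} (hy : KSemi K y.1) {u : V} (hu : u ≠ 0) (huu : φ u u = 0)
    (hyu : y.1 u = u) : y ^ (Module.finrank F K * 2 * p) = 1 := by
  classical
  have := C.nontriv
  have := Fintype.ofFinite K
  have := Fintype.ofFinite F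
  obtain ⟨σ, hσb, hσ⟩ := semi_sigma hy
  have hσF : ∀ t : F, σ (algebraMap F K t) = algebraMap F K t := fun t =>
    smul_left_injective K hu (show σ (algebraMap F K t) • u = algebraMap F K t • u by
      have h := hσ (algebraMap F K t) u
      rw [algebraMap_smul, map_smul, hyu] at h
      rw [← h, algebraMap_smul])
  let s : K ≃ₐ[F] K := AlgEquiv.ofBijective { σ with commutes' := hσF } hσb
  have hs : ∀ k, s k = σ k := fun k => rfl
  have hsr : ∀ k, (⇑s)^[Module.finrank F K] k = k := fun k => by
    have h : s ^ Nat.card (K ≃ₐ[F] K) = 1 := pow_card_eq_one'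
    rw [IsGalois.card_aut_eq_finrank] at h
    rw [← AlgEquiv.coe_pow, h, AlgEquiv.one_apply]
  have hpow : ∀ (n : ℕ) (k : K) (x : V), (y ^ n).1 (k • x) = (⇑s)^[n] k • (y ^ n).1 x := by
    intro n
    induction n with
    | zero => intro k x; rfl
    | succ n ih =>
      intro k x
      rw [pow_succ, mul_apply', hσ, ih, Function.iterate_succ_apply, mul_apply', hs]
  set T := y ^ Module.finrank F K with hT
  have hTl : KLin K T.1 := fun k x => by rw [hT, hpow, hsr]
  have hfix : ∀ n : ℕ, (y ^ n).1 u = u := fun n => by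
    induction n with
    | zero => rfl
    | succ n ih => rw [pow_succ, mul_apply', hyu, ih]
  have hTu : T.1 u = u := hfix _
  -- the flag
  obtain ⟨x₀, hx₀, hx₀u⟩ := C.exists_opp hu huu
  obtain ⟨e, he0, heu, hex⟩ := C.exists_mid u x₀
  have he' : ∀ c : K, e ≠ c • u := fun c hc => by
    rw [hc, φ.map_smul, LinearMap.smul_apply, C.symm u x₀, hx₀u, smul_eq_mul, mul_one] at hex
    exact he0 (by rw [hc, hex, zero_smul])
  obtain ⟨hee, hspan⟩ := C.perp_three h3 hu huu heu he'
  have hTperp : ∀ z, φ z u = 0 → φ (T.1 z) u = 0 := fun z hz => by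
    conv_lhs => rw [← hTu]
    rw [C.iso_lin hTl, hz]
  obtain ⟨a, c, hTe⟩ := hspan _ (hTperp e heu)
  have ha : a * a = 1 := by
    have h := C.iso_lin hTl e e
    rw [hTe] at h
    simp only [map_add, map_smul, LinearMap.add_apply, LinearMap.smul_apply, huu, heu,
      C.symm u e, smul_eq_mul, mul_zero, add_zero, ← mul_assoc] at h
    exact mul_right_cancel₀ hee (h.trans (one_mul _).symm)
  let N : V → V := fun z => (T * T).1 z - z
  have hl2 : ∀ (k : K) z, (T * T).1 (k • z) = k • (T * T).1 z := fun k z => by
    simp only [mul_apply', hTl _ _]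
  have hN3 : ∀ z, N (N (N z)) = 0 := by
    intro z
    have hNu : ∀ k : K, N (k • u) = 0 := fun k => by
      simp only [N, mul_apply', hTl _ _, hTu, sub_self]
    have hNe : ∀ k : K, ∃ k', N (k • e) = k' • u := fun k => ⟨k * (a * c + c), by
      simp only [N, mul_apply', hTl _ _, hTe, map_add, hTu]
      rw [← sub_eq_zero]
      linear_combination (norm := module) ha • k • e⟩
    have hN1 : φ (N z) u = 0 := by
      simp only [N, mul_apply', map_sub, LinearMap.sub_apply]
      conv_lhs => arg 1; rw [← hTu, C.iso_lin hTl, ← hTu, C.iso_lin hTl]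
      rw [sub_self]
    obtain ⟨a', c', hz⟩ := hspan _ hN1
    obtain ⟨k', hk'⟩ := hNe a'
    have hadd : ∀ z z', N (z + z') = N z + N z' := fun z z' => by simp only [N, map_add]; abel
    rw [hz, hadd, hk', hNu, add_zero, hNu]
  have hbin : ∀ (n : ℕ) (z : V), ((T * T) ^ n).1 z = z + n • N z + n.choose 2 • N (N z) := by
    intro n
    induction n with
    | zero => intro z; simp [show ((T * T) ^ 0).1 z = z from rfl]
    | succ n ih =>
      intro z
      have hT2 : ∀ w, (T * T).1 w = w + N w := fun w => by simp only [N, add_sub_cancel]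
      rw [pow_succ, mul_apply', ih, hT2]
      have hadd : ∀ z z', N (z + z') = N z + N z' := fun z z' => by simp only [N, map_add]; abel
      have e : (n + 1).choose 2 = n + n.choose 2 := by
        rw [Nat.choose_succ_succ', Nat.choose_one_right]
      simp only [hadd, hN3, add_zero]
      rw [e, add_smul, add_smul, one_smul, nsmul_add]
      abel
  have hchar : ∀ (n : ℕ) (z : V), p ∣ n → n • z = 0 := fun n z hn => by
    rw [← Nat.cast_smul_eq_nsmul K, (CharP.cast_eq_zero_iff K p n).2 hn, zero_smul]
  have hp2 : p ∣ p.choose 2 := by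
    have hp : p.Prime := Fact.out
    refine hp.dvd_choose_self two_ne_zero (lt_of_le_of_ne hp.two_le fun e2 => C.two' ?_)
    exact_mod_cast (e2 ▸ CharP.cast_eq_zero K p : ((2 : ℕ) : K) = 0)
  rw [mul_assoc, pow_mul, pow_mul, ← hT, pow_two]
  exact quadIsoms_ext Q fun z => by
    rw [hbin, hchar p _ dvd_rfl, hchar _ _ hp2, add_zero, add_zero]; rfl

/-- some element outside the semilinear ones maps a singular vector to a singular vector -/
theorem exists_fix_three (C : Ctx Q φ τ M) (h3 : Module.finrank K V = 3)
    (hr : 3 ≤ Module.finrank F K) (hg : ∃ g ∈ M, ¬ KSemi K g.1) :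
    ∃ g ∈ M, ¬ KSemi K g.1 ∧ ∃ u, u ≠ 0 ∧ φ u u = 0 ∧ φ (g.1 u) (g.1 u) = 0 := by
  classical
  have := Fintype.ofFinite K
  have := Fintype.ofFinite F
  obtain ⟨g, hgM, hgs⟩ := hg
  obtain ⟨u, hu, huu⟩ := C.exists_sing
  by_contra hno
  set v := g.1 u with hv
  have hc : φ v v ≠ 0 := fun e => hno ⟨g, hgM, hgs, u, hu, huu, e⟩
  have hv0 : v ≠ 0 := fun e => hu (g.1.map_eq_zero_iff.mp e)
  -- an orthogonal basis of the plane
  let P0 : V →ₗ[K] V := LinearMap.id - ((φ v v)⁻¹ • φ v).smulRight v
  have hP0 : ∀ x, P0 x = x - ((φ v v)⁻¹ * φ v x) • v := fun x => rfl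
  have hP0v : ∀ x, φ v (P0 x) = 0 := fun x => by
    rw [hP0, map_sub, map_smul, smul_eq_mul]; field_simp; ring
  obtain ⟨z1, hz1⟩ := C.exists_aniso P0 (fun x y => by
      conv_lhs => rw [show y = P0 y + ((φ v v)⁻¹ * φ v y) • v by rw [hP0, sub_add_cancel]]
      rw [(φ (P0 x)).map_add, (φ (P0 x)).map_smul, C.symm (P0 x) v, hP0v, smul_zero, add_zero])
    (by
      by_contra hall
      push Not at hall
      have htop : (⊤ : Submodule K V) ≤ Submodule.span K {v} := fun x _ => by
        rw [show x = ((φ v v)⁻¹ * φ v x) • v from sub_eq_zero.1 ((hP0 x).symm.trans (hall x))]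
        exact Submodule.smul_mem _ _ (Submodule.mem_span_singleton_self v)
      have h1 := Submodule.finrank_mono htop
      rw [finrank_top, finrank_span_singleton hv0] at h1
      omega)
  set e1 := P0 z1 with he1
  have hve1 : φ v e1 = 0 := hP0v z1
  set d1 := φ e1 e1 with hd1
  let P1 : V →ₗ[K] V := P0 - (d1⁻¹ • φ e1).smulRight e1
  have hP1 : ∀ x, P1 x = P0 x - (d1⁻¹ * φ e1 x) • e1 := fun x => rfl
  have hP1v : ∀ x, φ v (P1 x) = 0 ∧ φ e1 (P1 x) = 0 := fun x => by
    refine ⟨by rw [hP1, map_sub, map_smul, hP0v, hve1, smul_zero, sub_zero], ?_⟩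
    rw [hP1, map_sub, map_smul, hP0 x, map_sub, map_smul, C.symm e1 v, hve1, smul_eq_mul,
      smul_eq_mul, mul_zero, sub_zero, ← hd1]
    field_simp
    ring
  obtain ⟨z2, hz2⟩ := C.exists_aniso P1 (fun x y => by
      conv_lhs => rw [show y = P1 y + (d1⁻¹ * φ e1 y) • e1 + ((φ v v)⁻¹ * φ v y) • v by
        rw [hP1, sub_add_cancel, hP0, sub_add_cancel]]
      rw [(φ (P1 x)).map_add, (φ (P1 x)).map_add, (φ (P1 x)).map_smul, (φ (P1 x)).map_smul,
        C.symm (P1 x) v, C.symm (P1 x) e1, (hP1v x).1, (hP1v x).2, smul_zero, smul_zero, add_zero,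
        add_zero])
    (by
      by_contra hall
      push Not at hall
      have htop : (⊤ : Submodule K V) ≤ Submodule.span K (({v, e1} : Finset V) : Set V) := fun x _ => by
        rw [show x = (d1⁻¹ * φ e1 x) • e1 + ((φ v v)⁻¹ * φ v x) • v by
          have h := hall x
          rw [hP1, sub_eq_zero, hP0, sub_eq_iff_eq_add] at h
          exact h]
        exact add_mem (Submodule.smul_mem _ _ (Submodule.subset_span (by simp)))
          (Submodule.smul_mem _ _ (Submodule.subset_span (by simp)))
      have h1 := Submodule.finrank_mono htop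
      have h2 := finrank_span_finset_le_card (R := K) ({v, e1} : Finset V)
      rw [Set.finrank] at h2
      have := (Finset.card_le_two (a := v) (b := e1))
      rw [finrank_top] at h1
      omega)
  set e2 := P1 z2 with he2
  set d2 := φ e2 e2 with hd2
  have hve2 : φ v e2 = 0 := (hP1v z2).1
  have h12 : φ e1 e2 = 0 := (hP1v z2).2
  have h21 : φ e2 e1 = 0 := by rw [C.symm]; exact h12
  set δ := d2 / d1 with hδ
  have hδ0 : δ ≠ 0 := div_ne_zero hz2 hz1
  -- the characteristic
  obtain ⟨p, hpF⟩ := CharP.exists F
  obtain ⟨ex, hp, hqp⟩ := FiniteField.card F p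
  have : Fact p.Prime := ⟨hp⟩
  have : CharP K p := charP_of_injective_algebraMap (algebraMap F K).injective p
  set N := 2 * (Module.finrank F K * 2 * p) with hN
  -- the rotations
  let L := AlgebraicClosure K
  obtain ⟨s, hs⟩ := IsAlgClosed.exists_eq_mul_self (-algebraMap K L δ)
  have hrot : ∀ a b : K, a * a + δ * (b * b) = 1 →
      (algebraMap K L a + algebraMap K L b * s) ^ N = 1 := by
    intro a b hab
    let R : V →ₗ[K] V := LinearMap.id +
      ((((a - 1) / d1) • φ.flip e1) - ((δ * b / d2) • φ.flip e2)).smulRight e1 +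
      ((((a - 1) / d2) • φ.flip e2) + ((b / d1) • φ.flip e1)).smulRight e2
    have hR : ∀ x, R x = x + ((a - 1) / d1 * φ x e1 - δ * b / d2 * φ x e2) • e1 +
        ((a - 1) / d2 * φ x e2 + b / d1 * φ x e1) • e2 := fun x => rfl
    have hiso : ∀ x y, φ (R x) (R y) = φ x y := by
      intro x y
      simp only [hR, map_add, map_smul, LinearMap.add_apply, LinearMap.smul_apply, h12, h21,
        smul_eq_mul, C.symm e1 y, C.symm e2 y, ← hd1, ← hd2]
      simp only [hδ] at hab ⊢
      field_simp at hab ⊢
      linear_combination (φ x e1 * φ y e1 * d2 + φ x e2 * φ y e2 * d1) * hab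
    have hinj : Function.Injective R := LinearMap.ker_eq_bot.1 <| LinearMap.ker_eq_bot'.2
      fun x hx => C.nondeg x fun y => by rw [← hiso, hx, map_zero, LinearMap.zero_apply]
    obtain ⟨h, hh, hhx⟩ := C.mem_lin (LinearEquiv.ofInjectiveEndo R hinj) hiso
    have hRv : R v = v := by rw [hR, hve1, hve2]; simp
    have hhv : h.1 v = v := by rw [hhx]; show R (R v) = v; rw [hRv, hRv]
    have hyu : (g⁻¹ * h * g).1 u = u := by
      rw [mul_apply', mul_apply', ← hv, hhv, inv_apply', hv, LinearEquiv.symm_apply_apply]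
    have hys : KSemi K (g⁻¹ * h * g).1 := by
      by_contra hns
      exact hno ⟨_, mul_mem (mul_mem (inv_mem hgM) hh) hgM, hns, u, hu, huu, by rw [hyu]; exact huu⟩
    have hy := C.semi_fix_pow h3 p hys hu huu hyu
    have hh1 : h ^ (Module.finrank F K * 2 * p) = 1 := by
      have e : (g⁻¹ * h * g) ^ (Module.finrank F K * 2 * p) =
          g⁻¹ * h ^ (Module.finrank F K * 2 * p) * g := by
        simpa using conj_pow (a := g⁻¹) (b := h) (i := Module.finrank F K * 2 * p)
      rw [e, mul_eq_one_iff_eq_inv, inv_mul_eq_iff_eq_mul, mul_inv_cancel] at hy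
      exact hy
    have hiter : ∀ n : ℕ, ((h ^ n).1 : V → V) e1 = R^[2 * n] e1 := fun n => by
      induction n with
      | zero => rfl
      | succ n ih =>
        rw [pow_succ', mul_apply', ih, hhx, show 2 * (n + 1) = 2 * n + 1 + 1 by ring,
          Function.iterate_succ_apply', Function.iterate_succ_apply']
        rfl
    have hRN : R^[N] e1 = e1 := by rw [hN, ← hiter, hh1]; rfl
    have hR1 : R e1 = a • e1 + b • e2 := by
      rw [hR, h12, ← hd1]; simp only [mul_zero, sub_zero, zero_add]
      rw [div_mul_cancel₀ _ hz1, div_mul_cancel₀ _ hz1]; module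
    have hR2 : R e2 = (-(δ * b)) • e1 + a • e2 := by
      rw [hR, h21, ← hd2]; simp only [mul_zero, zero_sub, add_zero]
      rw [div_mul_cancel₀ _ hz2, div_mul_cancel₀ _ hz2]; module
    have hn : ∀ n : ℕ, ∃ A B : K, R^[n] e1 = A • e1 + B • e2 ∧
        (algebraMap K L a + algebraMap K L b * s) ^ n = algebraMap K L A + algebraMap K L B * s := by
      intro n
      induction n with
      | zero => exact ⟨1, 0, by simp, by simp⟩
      | succ n ih =>
        obtain ⟨A, B, h1, h2⟩ := ih
        refine ⟨A * a - δ * (B * b), A * b + B * a, ?_, ?_⟩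
        · rw [Function.iterate_succ_apply', h1, map_add, map_smul, map_smul, hR1, hR2]
          module
        · rw [pow_succ, h2]
          simp only [map_add, map_sub, _root_.map_mul]
          linear_combination -(algebraMap K L B * algebraMap K L b) * hs
    obtain ⟨A, B, h1, h2⟩ := hn N
    rw [hRN] at h1
    have hA := congrArg (fun x => φ x e1) h1
    have hB := congrArg (fun x => φ x e2) h1
    simp only [map_add, map_smul, LinearMap.add_apply, LinearMap.smul_apply, h21, h12, smul_eq_mul,
      mul_zero, add_zero, zero_add, ← hd1, ← hd2] at hA hB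
    have hA1 : A = 1 := mul_right_cancel₀ hz1 (by rw [one_mul]; exact hA.symm)
    have hB0 : B = 0 := (mul_eq_zero.1 hB.symm).resolve_right hz2
    rw [h2, hA1, hB0, map_one, map_zero, zero_mul, add_zero]
  -- count them
  let S : Finset K := Finset.univ.filter fun t => 1 + δ * (t * t) ≠ 0
  let Z : K → L := fun t => algebraMap K L ((1 - δ * (t * t)) / (1 + δ * (t * t))) +
    algebraMap K L (2 * t / (1 + δ * (t * t))) * s
  have hcirc : ∀ t ∈ S, (1 - δ * (t * t)) / (1 + δ * (t * t)) * ((1 - δ * (t * t)) / (1 + δ * (t * t))) +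
      δ * (2 * t / (1 + δ * (t * t)) * (2 * t / (1 + δ * (t * t)))) = 1 := fun t ht => by
    have hne : 1 + δ * (t * t) ≠ 0 := (Finset.mem_filter.1 ht).2
    rw [div_mul_div_comm, div_mul_div_comm, mul_div, ← add_div, div_eq_one_iff_eq (mul_ne_zero hne hne)]
    ring
  have hpair : ∀ a b a' b' : K, a * a + δ * (b * b) = 1 → a' * a' + δ * (b' * b') = 1 →
      algebraMap K L a + algebraMap K L b * s = algebraMap K L a' + algebraMap K L b' * s →
      a = a' ∧ b = b' := by
    intro a b a' b' h h' e
    have hprod : ∀ a b : K, a * a + δ * (b * b) = 1 →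
        (algebraMap K L a + algebraMap K L b * s) * (algebraMap K L a - algebraMap K L b * s) = 1 := by
      intro a b h
      have h1 := congrArg (algebraMap K L) h
      simp only [map_add, _root_.map_mul, map_one] at h1
      linear_combination h1 + (algebraMap K L b * algebraMap K L b) * hs
    have hm : algebraMap K L a - algebraMap K L b * s = algebraMap K L a' - algebraMap K L b' * s := by
      have h0 := hprod a' b' h'
      rw [← e] at h0
      exact mul_left_cancel₀ (left_ne_zero_of_mul_eq_one h0) ((hprod a b h).trans h0.symm)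
    have hL2 : (2 : L) ≠ 0 := by
      rw [← map_ofNat (algebraMap K L) 2]; exact (map_ne_zero _).2 C.two'
    have hs0 : s ≠ 0 := fun e0 => by
      rw [e0, mul_zero, neg_eq_zero, map_eq_zero] at hs; exact hδ0 hs
    refine ⟨(algebraMap K L).injective (mul_left_cancel₀ hL2 ?_),
      (algebraMap K L).injective (mul_right_cancel₀ hs0 (mul_left_cancel₀ hL2 ?_))⟩
    · linear_combination e + hm
    · linear_combination e - hm
  have hinjZ : Set.InjOn Z S := fun t ht t' ht' e => by
    obtain ⟨h1, h2⟩ := hpair _ _ _ _ (hcirc t ht) (hcirc t' ht') e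
    have hne : 1 + δ * (t * t) ≠ 0 := (Finset.mem_filter.1 ht).2
    have hne' : 1 + δ * (t' * t') ≠ 0 := (Finset.mem_filter.1 ht').2
    have key : ∀ t : K, 1 + δ * (t * t) ≠ 0 →
        1 + (1 - δ * (t * t)) / (1 + δ * (t * t)) = 2 * (1 / (1 + δ * (t * t))) := fun t h => by
      rw [one_add_div h, mul_one_div]; congr 1; ring
    have h3 := congrArg (1 + ·) h1
    simp only [key t hne, key t' hne'] at h3
    have h4 := mul_left_cancel₀ C.two' h3
    rw [mul_div_assoc, mul_div_assoc] at h2
    have h5 : t * (1 / (1 + δ * (t * t))) = t' * (1 / (1 + δ * (t' * t'))) := by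
      refine mul_left_cancel₀ C.two' ?_
      linear_combination h2
    rw [← h4] at h5
    exact mul_right_cancel₀ (one_div_ne_zero hne) h5
  have hcard : S.card ≤ N := by
    have hNpos : 0 < N := by
      rw [hN]; exact Nat.mul_pos two_pos (Nat.mul_pos (Nat.mul_pos (by omega) two_pos) hp.pos)
    calc S.card ≤ (Polynomial.nthRoots N (1 : L)).toFinset.card := by
          refine Finset.card_le_card_of_injOn Z (fun t ht => ?_) hinjZ
          rw [Finset.mem_coe, Multiset.mem_toFinset, Polynomial.mem_nthRoots hNpos]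
          exact hrot _ _ (hcirc t ht)
      _ ≤ _ := (Multiset.toFinset_card_le _).trans (Polynomial.card_nthRoots N 1)
  have hS : Fintype.card K ≤ S.card + 2 := by
    rw [← Finset.card_univ, ← Finset.card_filter_add_card_filter_not
      (s := Finset.univ) (fun t : K => 1 + δ * (t * t) ≠ 0)]
    refine Nat.add_le_add_left ?_ _
    by_cases hz : ∃ t₀ : K, 1 + δ * (t₀ * t₀) = 0
    · obtain ⟨t₀, ht₀⟩ := hz
      refine le_trans (Finset.card_le_card (t := {t₀, -t₀}) fun t ht => ?_) Finset.card_le_two
      have h : 1 + δ * (t * t) = 0 := not_not.1 (Finset.mem_filter.1 ht).2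
      have h' : t * t = t₀ * t₀ := mul_left_cancel₀ hδ0 (by linear_combination h - ht₀)
      rw [Finset.mem_insert, Finset.mem_singleton]
      exact mul_self_eq_mul_self_iff.1 h'
    · refine (Finset.card_le_card (t := ∅) fun t ht => ?_).trans (by simp)
      exact absurd ⟨t, not_not.1 (Finset.mem_filter.1 ht).2⟩ hz
  -- too many
  have hq3 : 3 ≤ p := lt_of_le_of_ne hp.two_le fun e => C.two' (by
    exact_mod_cast (e ▸ CharP.cast_eq_zero K p : ((2 : ℕ) : K) = 0))
  have hpq : p ≤ Fintype.card F := by rw [hqp]; exact Nat.le_self_pow ex.pos.ne' p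
  have hpow : ∀ j, 4 * (j + 5) + 1 < 3 ^ (j + 4) := fun j => by
    induction j with
    | zero => norm_num
    | succ j ih => rw [show j + 1 + 4 = (j + 4) + 1 by omega, pow_succ]; omega
  have hle : N ≤ 4 * Module.finrank F K * Fintype.card F := by
    rw [hN]; exact le_of_eq_of_le (by ring) (Nat.mul_le_mul_left (4 * Module.finrank F K) hpq)
  by_cases hsmall : Module.finrank F K ≤ 4 ∧ Fintype.card F < 5
  · -- twenty-seven elements: the rotations have order dividing four
    have hr3 : Module.finrank F K = 3 := by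
      obtain ⟨j, hj⟩ := C.prime.odd_of_ne_two (by omega)
      omega
    have hF3 : Fintype.card F = 3 := by
      have h3p : p = 3 := by
        rcases Nat.lt_or_ge p 4 with h | h
        · omega
        · have h4 : p = 4 := by omega
          exact absurd (h4 ▸ hp) (by norm_num)
      have h1 : (p : ℕ) ^ 1 ≤ p ^ (ex : ℕ) := Nat.pow_le_pow_right hp.pos ex.pos
      rw [hqp] at hsmall ⊢
      rcases Nat.lt_or_ge (ex : ℕ) 2 with h | h
      · rw [show (ex : ℕ) = 1 by have := ex.pos; omega, pow_one, h3p]
      · have h2 := Nat.pow_le_pow_right hp.pos h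
        rw [h3p] at h2 hsmall
        omega
    have hp3 : p = 3 := by omega
    have hK27 : Fintype.card K = 27 := by
      rw [Module.card_eq_pow_finrank (K := F) (V := K), hr3, hF3]; rfl
    have hN36 : N = 36 := by rw [hN, hr3, hp3]
    have : CharP L p := charP_of_injective_algebraMap (algebraMap K L).injective p
    have hfr : ∀ a : K, algebraMap K L a ^ 27 = algebraMap K L a := fun a => by
      rw [← map_pow, ← hK27, FiniteField.pow_card]
    have hfour : ∀ t ∈ S, Z t ^ 4 = 1 := fun t ht => by
      have hab := hcirc t ht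
      have h36 := hrot _ _ hab
      rw [hN36] at h36
      set a := (1 - δ * (t * t)) / (1 + δ * (t * t))
      set b := 2 * t / (1 + δ * (t * t))
      have hz0 : Z t ≠ 0 := fun e => by
        change Z t ^ 36 = 1 at h36
        rw [e, zero_pow (by norm_num)] at h36
        exact zero_ne_one h36
      have hs2 : s ^ 27 * s ^ 27 = s * s := by
        rw [← mul_pow, ← hs, show (-algebraMap K L δ) = algebraMap K L (-δ) by rw [map_neg]]
        exact hfr _
      have hz27 : Z t ^ 27 = algebraMap K L a + algebraMap K L b * s ^ 27 := by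
        show (algebraMap K L a + algebraMap K L b * s) ^ 27 = _
        have e := add_pow_char_pow (R := L) (p := p) (n := 3) (algebraMap K L a) (algebraMap K L b * s)
        rw [hp3] at e
        rw [show (27 : ℕ) = 3 ^ 3 by norm_num, e, mul_pow, ← show (27 : ℕ) = 3 ^ 3 by norm_num, hfr, hfr]
      change Z t ^ 36 = 1 at h36
      rcases mul_self_eq_mul_self_iff.1 hs2 with h | h
      · have h26 : Z t ^ 26 = 1 := mul_right_cancel₀ hz0 (by rw [one_mul, ← pow_succ, hz27, h])
        have := Nat.dvd_gcd (orderOf_dvd_of_pow_eq_one h26) (orderOf_dvd_of_pow_eq_one h36)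
        exact orderOf_dvd_iff_pow_eq_one.1 (this.trans (by norm_num))
      · have h28 : Z t ^ 28 = 1 := by
          rw [pow_succ, hz27, h]
          show _ * (algebraMap K L a + algebraMap K L b * s) = 1
          have h1 := congrArg (algebraMap K L) hab
          simp only [map_add, _root_.map_mul, map_one] at h1
          linear_combination h1 + (algebraMap K L b * algebraMap K L b) * hs
        have := Nat.dvd_gcd (orderOf_dvd_of_pow_eq_one h28) (orderOf_dvd_of_pow_eq_one h36)
        exact orderOf_dvd_iff_pow_eq_one.1 (this.trans (by norm_num))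
    have h4 : S.card ≤ 4 := by
      calc S.card ≤ (Polynomial.nthRoots 4 (1 : L)).toFinset.card := by
            refine Finset.card_le_card_of_injOn Z (fun t ht => ?_) hinjZ
            rw [Finset.mem_coe, Multiset.mem_toFinset, Polynomial.mem_nthRoots (by norm_num)]
            exact hfour t ht
        _ ≤ _ := (Multiset.toFinset_card_le _).trans (Polynomial.card_nthRoots 4 1)
    omega
  have hQ : (4 * Module.finrank F K + 2) * Fintype.card F ≤ Fintype.card K := by
    rw [Module.card_eq_pow_finrank (K := F) (V := K)]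
    rcases Nat.lt_or_ge (Module.finrank F K) 5 with h5 | h5
    · have hr3 : Module.finrank F K = 3 := by
        obtain ⟨j, hj⟩ := C.prime.odd_of_ne_two (by omega)
        omega
      rw [hr3, pow_succ, pow_two]
      refine Nat.mul_le_mul_right _ ?_
      have := Nat.mul_le_mul (show 5 ≤ Fintype.card F by omega) (show 5 ≤ Fintype.card F by omega)
      omega
    rw [show Module.finrank F K = Module.finrank F K - 5 + 4 + 1 by omega, pow_succ]
    refine Nat.mul_le_mul_right _ ?_
    have h1 := hpow (Module.finrank F K - 5)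
    have h2 : 3 ^ (Module.finrank F K - 5 + 4) ≤ Fintype.card F ^ (Module.finrank F K - 5 + 4) :=
      Nat.pow_le_pow_left (hq3.trans hpq) _
    omega
  rw [add_mul] at hQ
  omega

end Ctx

end CfsgLib.MaxSub.OExt
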