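import Cfsg.Agent.Lib.MaxSub.OExtStep
import Cfsg.Agent.Lib.MaxSub.OExtThreeFix

/-!
Dimension three: a moved singular line and an element of the centre of some radical give an axis.
-/

set_option autoImplicit false
set_option linter.unusedSectionVars false

namespace CfsgLib.MaxSub.OExt

open CfsgLib.Classical CfsgLib.Geom
open QuadraticMap (polar)

variable {F K V : Type*} [Field F] [Field K] [Algebra F K] [AddCommGroup V] [Module K V]
  [Module F V] [IsScalarTower F K V]

namespace Ctx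

variable [Finite F] [Finite K] [Module.Finite K V] [Module.Finite F K] [FiniteDimensional F V]
  {Q : QuadraticForm F V} {φ : V →ₗ[K] V →ₗ[K] K} {τ : K →ₗ[F] F} {M : Subgroup (quadIsoms Q)}

/-- the centre reaches every value orthogonal to the argument -/
theorem center_surj (C : Ctx Q φ τ M) (hr : 3 ≤ Module.finrank F K) {v : V} (hv : v ≠ 0)
    (hvv : φ v v = 0) {D₀ : K →ₗ[F] K} (hD₀ : D₀ ≠ 0) (hz : InZ M φ v D₀) {b y : K}
    (hb : b ≠ 0) (hy : τ (y * b) = 0) : ∃ D : K → K, InZ M φ v D ∧ D b = y := by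
  classical
  have := C.nontriv
  obtain ⟨p, hpF⟩ := CharP.exists F
  have hp : Fact p.Prime := ⟨CharP.char_is_prime F p⟩
  have : CharP K p := charP_of_injective_algebraMap (algebraMap F K).injective p
  letI : Algebra (ZMod p) K := ZMod.algebra K p
  letI : Algebra (ZMod p) F := ZMod.algebra F p
  have hskew := C.skew_of_inZ hv hvv hz
  let I : Submodule (ZMod p) K := AddSubgroup.toZModSubmodule p
    { carrier := {z | ∃ D : K → K, InZ M φ v D ∧ D b = z}
      zero_mem' := ⟨fun _ => 0, C.inZ_zero v fun _ => rfl, rfl⟩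
      add_mem' := by
        rintro _ _ ⟨D, hD, rfl⟩ ⟨D', hD', rfl⟩
        exact ⟨fun a => D a + D' a, C.inZ_add hvv hD hD' fun _ => rfl, rfl⟩
      neg_mem' := by
        rintro _ ⟨D, hD, rfl⟩
        exact ⟨fun a => -D a, C.inZ_sub hvv (D := fun _ => 0) (C.inZ_zero v fun _ => rfl) hD
          fun a => (add_neg_cancel _).symm, rfl⟩ }
  by_contra hno
  obtain ⟨Ψ, hΨy, hΨI⟩ := exists_dual_one (p := I) (x := y) fun h => hno h
  obtain ⟨lam, hlam, -⟩ := exists_dual_one (K := ZMod p) (V := F) (p := ⊥) (x := (1 : F)) (by simp)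
  -- the functional is a twist of the trace form
  let T : K →+ ZMod p := lam.toAddMonoidHom.comp τ.toAddMonoidHom
  let E : K →ₗ[ZMod p] (K →ₗ[ZMod p] ZMod p) := AddMonoidHom.toZModLinearMap p
    { toFun := fun η => AddMonoidHom.toZModLinearMap p (T.comp (AddMonoidHom.mulLeft η))
      map_zero' := LinearMap.ext fun x => by
        show T (0 * x) = 0; rw [zero_mul, map_zero]
      map_add' := fun a a' => LinearMap.ext fun x => by
        show T ((a + a') * x) = T (a * x) + T (a' * x); rw [add_mul, map_add] }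
  have hE : ∀ η x, E η x = lam (τ (η * x)) := fun η x => rfl
  have hEinj : Function.Injective E := (injective_iff_map_eq_zero E).2 fun η hη => by
    by_contra hη0
    obtain ⟨z, hz⟩ := C.exists_tau hη0
    have h := LinearMap.congr_fun hη ((τ (η * z))⁻¹ • z)
    rw [hE, mul_smul_comm, map_smul, smul_eq_mul, inv_mul_cancel₀ hz, hlam,
      LinearMap.zero_apply] at h
    exact one_ne_zero h
  have : Module.Finite (ZMod p) K := Module.Finite.of_finite
  obtain ⟨η, hη⟩ := (LinearMap.injective_iff_surjective_of_finrank_eq_finrank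
    (Subspace.dual_finrank_eq (K := ZMod p) (V := K)).symm).mp hEinj Ψ
  have hΨ : ∀ x, Ψ x = lam (τ (η * x)) := fun x => by rw [← hη, hE]
  have hη0 : η ≠ 0 := fun e => one_ne_zero (α := ZMod p) (by
    rw [← hΨy, hΨ, e, zero_mul, map_zero, map_zero])
  have h2p : (2 : ZMod p) ≠ 0 := fun e => C.two' (by
    have h := congrArg (algebraMap (ZMod p) K) e
    rwa [map_ofNat, map_zero] at h)
  -- the biadditive function
  let G : K → K → ZMod p := fun t t' => Ψ (t * D₀ (t' * b))
  have hsq : ∀ s : K, G (s * s) (s * s) = 0 := by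
    intro s
    rcases eq_or_ne s 0 with rfl | hs
    · simp [G]
    obtain ⟨x, hxx, hxv⟩ := C.exists_opp hv hvv
    obtain ⟨m, hm, hml, hmx⟩ := C.exists_torus hvv hxx (by rw [C.symm]; exact hxv) hs
    have hmv : m.1 v = (s * s) • v := by rw [hmx, hvv, C.symm v x, hxv]; module
    exact hΨI _ ⟨_, C.inZ_move hz hm hml hmv, rfl⟩
  let A : K → K → ZMod p := fun t t' => G t t' + G t' t
  have hGl : ∀ a a' t, G (a + a') t = G a t + G a' t := fun a a' t => by
    simp only [G, add_mul, map_add]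
  have hGr : ∀ t a a', G t (a + a') = G t a + G t a' := fun t a a' => by
    simp only [G, add_mul, map_add, mul_add]
  have hGln : ∀ a t, G (-a) t = -G a t := fun a t => by simp only [G, neg_mul, map_neg]
  have hGrn : ∀ t a, G t (-a) = -G t a := fun t a => by simp only [G, neg_mul, map_neg, mul_neg]
  have hcancel : ∀ x : ZMod p, 2 * x = 0 → x = 0 := fun x h => (mul_eq_zero.1 h).resolve_left h2p
  have h1 : ∀ s r : K, A (s * s) (r * r) + 2 * A (s * r) (s * r) = 0 := by
    intro s r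
    have hp := hsq (s + r)
    have hm := hsq (s - r)
    rw [show (s + r) * (s + r) = s * s + r * r + (s * r + s * r) by ring] at hp
    rw [show (s - r) * (s - r) = s * s + r * r + -(s * r + s * r) by ring] at hm
    simp only [hGl, hGr, hGln, hGrn] at hp hm
    refine hcancel _ ?_
    simp only [A]
    linear_combination hp + hm - 2 * hsq s - 2 * hsq r
  have hAl : ∀ a a' t, A (a + a') t = A a t + A a' t := fun a a' t => by
    simp only [A, hGl, hGr]; ring
  have hAs : ∀ t t', A t t' = A t' t := fun t t' => by simp only [A]; ring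
  have hAr : ∀ t a a', A t (a + a') = A t a + A t a' := fun t a a' => by
    rw [hAs, hAl, hAs, hAs a']
  have h2 : ∀ s r r' : K, A (s * s) (r * r') + 2 * A (s * r) (s * r') = 0 := by
    intro s r r'
    have h := h1 s (r + r')
    rw [show (r + r') * (r + r') = r * r + r' * r' + (r * r' + r * r') by ring] at h
    simp only [mul_add, hAl, hAr] at h
    refine hcancel _ ?_
    linear_combination h - h1 s r - h1 s r' - 2 * hAs (s * r') (s * r)
  have h3 : ∀ s s' r r' : K,
      A (s * s') (r * r') + A (s * r) (s' * r') + A (s' * r) (s * r') = 0 := by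
    intro s s' r r'
    have h := h2 (s + s') r r'
    rw [show (s + s') * (s + s') = s * s + s' * s' + (s * s' + s * s') by ring, add_mul, add_mul] at h
    simp only [hAl, hAr] at h
    refine hcancel _ ?_
    linear_combination h - h2 s r r' - h2 s' r r'
  let f : K →+ ZMod p := AddMonoidHom.mk' (A 1) (hAr 1)
  have hf : ∀ s t, 2 * A s t + f (s * t) = 0 := fun s t => by
    have h := h3 1 s 1 t
    simp only [one_mul, mul_one] at h
    rw [show f (s * t) = A 1 (s * t) from rfl]
    rw [hAs 1] at h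
    linear_combination h + hAs (s * t) 1
  have hf4 : ∀ s : K, f (s ^ 4) = 0 := fun s => by
    have h := hf (s * s) (s * s)
    simp only [A, hsq, add_zero, mul_zero, zero_add] at h
    rwa [show s ^ 4 = s * s * (s * s) by ring]
  -- fourth powers span
  have hf0 : f = 0 := by
    let P4 : Submonoid K := MonoidHom.mrange (powMonoidHom 4)
    let L : Subring K := Subring.closure (P4 : Set K)
    have hL0 : ∀ x ∈ L, f x = 0 := fun x hx => by
      rw [Subring.mem_closure_iff, Submonoid.closure_eq] at hx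
      refine AddSubgroup.closure_induction (fun z hz => ?_) (map_zero f) (fun a b _ _ ha hb => ?_)
        (fun a _ ha => ?_) hx
      · obtain ⟨s, rfl⟩ := hz; exact hf4 s
      · rw [map_add, ha, hb, add_zero]
      · rw [map_neg, ha, neg_zero]
    refine AddMonoidHom.ext fun x => hL0 x ?_
    letI : Field L := (Finite.isDomain_to_isField L).toField
    have hmod := Module.natCard_eq_pow_finrank (K := L) (V := K)
    have := Fintype.ofFinite K
    have hcard : Nat.card K ≤ 4 * Nat.card L := by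
      rw [Nat.card_eq_fintype_card, Nat.card_eq_fintype_card, ← Finset.card_univ, ← Finset.card_univ]
      have hfib : ∀ c ∈ (Finset.univ : Finset L),
          ((Finset.univ : Finset K).filter fun x =>
            (⟨x ^ 4, Subring.subset_closure ⟨x, rfl⟩⟩ : L) = c).card ≤ 4 := fun c _ => by
        refine le_trans (Finset.card_le_card (t := (Polynomial.nthRoots 4 (c : K)).toFinset)
          fun x hx => ?_) ((Multiset.toFinset_card_le _).trans (Polynomial.card_nthRoots 4 _))
        rw [Multiset.mem_toFinset, Polynomial.mem_nthRoots (by norm_num)]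
        exact congrArg Subtype.val (Finset.mem_filter.1 hx).2
      exact Finset.card_le_mul_card_image_of_maps_to (fun x _ => Finset.mem_univ _) 4 hfib
    have hbig : 27 ≤ Nat.card K := by
      rw [Module.natCard_eq_pow_finrank (K := F) (V := K)]
      have hF : 3 ≤ Nat.card F := by
        have := Fintype.ofFinite F
        rw [Nat.card_eq_fintype_card]
        by_contra hlt
        have h2' : Fintype.card F = 2 := by have := Fintype.one_lt_card (α := F); omega
        exact C.two (by exact_mod_cast (h2' ▸ Nat.cast_card_eq_zero F : ((2 : ℕ) : F) = 0))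
      calc 27 = 3 ^ 3 := rfl
        _ ≤ Nat.card F ^ 3 := Nat.pow_le_pow_left hF 3
        _ ≤ _ := Nat.pow_le_pow_right (by omega) hr
    rcases Nat.lt_or_ge (Module.finrank L K) 2 with hd | hd
    · have hd1 : Module.finrank L K = 1 := by
        have := Module.finrank_pos (R := L) (M := K); omega
      obtain ⟨l, hl⟩ := (finrank_eq_one_iff_of_nonzero' (1 : K) one_ne_zero).1 hd1 x
      rw [← hl]
      show (l : K) * 1 ∈ L
      rw [mul_one]; exact l.2
    · exfalso
      have : Nat.card L ^ 2 ≤ Nat.card K := hmod ▸ Nat.pow_le_pow_right Nat.card_pos hd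
      nlinarith
  have hA0 : ∀ t t', A t t' = 0 := fun t t' => hcancel _ (by
    have h := hf t t'
    rwa [hf0, AddMonoidHom.zero_apply, add_zero] at h)
  -- the element commutes with a multiplication
  have hcomm : ∀ s, η * D₀ s = b * D₀ (η / b * s) := by
    intro s
    rw [← sub_eq_zero]
    by_contra hX
    obtain ⟨z, hz⟩ := C.exists_tau hX
    set t := (τ ((η * D₀ s - b * D₀ (η / b * s)) * z))⁻¹ • z with ht
    have h := hA0 t (s / b)
    simp only [A, G, hΨ, div_mul_cancel₀ _ hb] at h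
    have h' : τ (η * (s / b * D₀ (t * b))) = -τ (t * b * D₀ (η * (s / b))) := by
      rw [← mul_assoc η]; linear_combination hskew (η * (s / b)) (t * b)
    rw [h', map_neg, ← sub_eq_add_neg, ← map_sub, ← map_sub,
      show η * (t * D₀ s) - t * b * D₀ (η * (s / b)) =
        (η * D₀ s - b * D₀ (η / b * s)) * t by rw [show η * (s / b) = η / b * s by ring]; ring,
      ht, mul_smul_comm, map_smul, smul_eq_mul, inv_mul_cancel₀ hz, hlam] at h
    exact one_ne_zero h
  obtain ⟨μ, hμ⟩ : ∃ μ, μ = η / b := ⟨_, rfl⟩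
  let S : Subalgebra F K :=
    { carrier := {l | ∀ s, D₀ (l * s) = l * D₀ s}
      mul_mem' := fun {a a'} ha ha' s => by rw [mul_assoc, ha, ha', mul_assoc]
      add_mem' := fun {a a'} ha ha' s => by rw [add_mul, map_add, ha, ha', add_mul]
      algebraMap_mem' := fun c s => by rw [← Algebra.smul_def, ← Algebra.smul_def, map_smul] }
  have hμS : μ ∈ S := fun s => by
    rw [hμ, ← mul_right_inj' hb, ← mul_assoc, mul_div_cancel₀ _ hb, ← hcomm]
  have := Subalgebra.isSimpleOrder_of_finrank_prime F K C.prime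
  rcases eq_bot_or_eq_top S with hS | hS
  · rw [hS, Algebra.mem_bot] at hμS
    obtain ⟨t, ht⟩ := hμS
    refine one_ne_zero (α := ZMod p) ?_
    rw [← hΨy, hΨ, show η * y = t • (y * b) by
      rw [Algebra.smul_def, ht, hμ]; field_simp, map_smul, hy, smul_zero, map_zero]
  · have hmul : ∀ s, D₀ s = s * D₀ 1 := fun s => by
      have : s ∈ S := by rw [hS]; exact Algebra.mem_top
      simpa using this 1
    refine hD₀ (LinearMap.ext fun s => ?_)
    have hD1 : D₀ 1 = 0 := C.tau_inj fun w => by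
      have h := hskew 1 w
      rw [hmul w, one_mul, ← two_mul, mul_eq_zero] at h
      rw [mul_zero, map_zero, h.resolve_left C.two]
    rw [hmul, hD1, mul_zero, LinearMap.zero_apply]

/-- one point of the kernel and an element of some centre put the whole image in the orthogonal -/
theorem beta_zero_three (C : Ctx Q φ τ M) (h3 : Module.finrank K V = 3)
    (hr : 3 ≤ Module.finrank F K) {g : quadIsoms Q} {u : V} (hm : Moved M φ g u)
    (hmax : ∀ g' u', Moved M φ g' u' → (lineSet K g'.1 u').ncard ≤ (lineSet K g.1 u).ncard)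
    {k₀ : K} (hk₀ : k₀ ∉ lineSet K g.1 u) (hβ₀ : φ (g.1 (k₀ • u)) (g.1 u) = 0)
    {y₀ : V} (hy₀ : y₀ ≠ 0) (hyy : φ y₀ y₀ = 0) {D₁ : K →ₗ[F] K} (hD₁ : D₁ ≠ 0)
    (hDz : InZ M φ y₀ D₁) (k : K) : φ (g.1 (k • u)) (g.1 u) = 0 := by
  classical
  set v := g.1 u with hv
  have hvv : φ v v = 0 := hm.sing'
  have hv0 : v ≠ 0 := fun e => hm.ne (g.1.map_eq_zero_iff.mp e)
  set ρ : K →ₗ[F] V :=
    (g.1 : V →ₗ[F] V) ∘ₗ (LinearMap.toSpanSingleton K V u).restrictScalars F with hρ
  have hρa : ∀ k, ρ k = g.1 (k • u) := fun k => rfl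
  have hρinj : Function.Injective ρ := fun a b h =>
    smul_left_injective K hm.ne (g.1.injective h)
  set e := ρ k₀ with he
  have he' : ∀ c : K, e ≠ c • v := fun c hc => hk₀ ⟨c, hc⟩
  have hev : φ e v = 0 := hβ₀
  obtain ⟨hee, hspan⟩ := C.perp_three (e := e) h3 hv0 hvv hev he'
  set ε := φ e e
  let D : Submodule F K :=
    (LinearMap.range ρ).comap ((LinearMap.toSpanSingleton K V v).restrictScalars F)
  have hD : ∀ c, c ∈ D ↔ ∃ i, ρ i = c • v := fun c => Iff.rfl
  have h1D : (1 : K) ∈ D := ⟨1, by rw [hρa, one_smul]; exact (one_smul K v).symm⟩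
  -- the maximality
  have hall : ∀ x ∈ D, ∀ k, ∃ i, ρ i = φ (ρ k) v • (x / ε) • e -
      (x / ε * φ (ρ k) e + x / ε * (x / ε) * ε / 2 * φ (ρ k) v) • v := by
    intro x hx k
    have hw : φ v ((x / ε) • e) = 0 := by rw [map_smul, C.symm v e, hev, smul_zero]
    have hL : ∀ k, sMap φ v ((x / ε) • e) (g.1 (k • u)) - g.1 (k • u) = φ (ρ k) v • (x / ε) • e -
        (x / ε * φ (ρ k) e + x / ε * (x / ε) * ε / 2 * φ (ρ k) v) • v := fun k => by
      simp only [sMap, hρa, map_smul, LinearMap.smul_apply, smul_eq_mul, ε]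
      module
    rcases C.moved_dich hm hmax hw with h | ⟨_, -, -, -, -, h⟩
    · obtain ⟨i, hi⟩ := h k
      exact ⟨i, by rw [hρa, hi, hL]⟩
    · obtain ⟨i, hi⟩ := (hD x).1 hx
      refine absurd (h k₀ ⟨-i, ?_⟩) hk₀
      rw [hL, ← hρa, map_neg, hi, ← he, hev, div_mul_cancel₀ _ hee, mul_zero, add_zero, zero_smul,
        zero_sub]
  have hquad : ∀ x ∈ D, ∀ k, x * x * (φ (ρ k) v / ε) ∈ D := by
    intro x hx k
    obtain ⟨i, hi⟩ := hall x hx k
    obtain ⟨j, hj⟩ := hall (-x) (D.neg_mem hx) k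
    refine (hD _).2 ⟨-(i + j), ?_⟩
    rw [map_neg, map_add, hi, hj]
    have h2 := C.two'
    match_scalars <;> field_simp <;> ring
  have hbil : ∀ x ∈ D, ∀ x' ∈ D, ∀ k, x * x' * (φ (ρ k) v / ε) ∈ D := by
    intro x hx x' hx' k
    have h := D.smul_mem (2 : F)⁻¹ (D.sub_mem (D.sub_mem (hquad _ (D.add_mem hx hx') k)
      (hquad x hx k)) (hquad x' hx' k))
    convert h using 1
    rw [Algebra.smul_def, map_inv₀, map_ofNat]
    have h2 := C.two'
    field_simp
    ring
  have hlin : ∀ k, φ (ρ k) v = 0 → ∀ x ∈ D, x * (φ (ρ k) e / ε) ∈ D := by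
    intro k hk x hx
    obtain ⟨i, hi⟩ := hall x hx k
    refine (hD _).2 ⟨-i, ?_⟩
    rw [map_neg, hi, hk]
    match_scalars <;> field_simp <;> ring
  -- the stabiliser
  have hDne : ∃ c, c ∉ D := by
    by_contra hall'
    simp only [not_exists, not_not] at hall'
    choose i hi using fun c => (hD c).1 (hall' c)
    have hiinj : Function.Injective i := fun a b h =>
      smul_left_injective K hv0 (show a • v = b • v by rw [← hi, ← hi, h])
    obtain ⟨c, hc⟩ := Finite.surjective_of_injective hiinj k₀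
    exact he' c (by rw [he, ← hc, hi])
  let S : Subalgebra F K :=
    { carrier := {l | ∀ w ∈ D, l * w ∈ D}
      mul_mem' := fun {a b} ha hb w hw => by rw [mul_assoc]; exact ha _ (hb w hw)
      add_mem' := fun {a b} ha hb w hw => by rw [add_mul]; exact add_mem (ha w hw) (hb w hw)
      algebraMap_mem' := fun c w hw => by rw [← Algebra.smul_def]; exact D.smul_mem c hw }
  have hS : ∀ l, (∀ w ∈ D, l * w ∈ D) → ∃ t : F, algebraMap F K t = l := by
    intro l hl
    have := Subalgebra.isSimpleOrder_of_finrank_prime F K C.prime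
    rcases eq_bot_or_eq_top S with h | h
    · exact Algebra.mem_bot.1 (h ▸ (show l ∈ S from hl))
    · obtain ⟨c, hc⟩ := hDne
      have : c ∈ S := by rw [h]; exact Algebra.mem_top
      exact absurd (by simpa using this 1 h1D) hc
  by_contra hk
  -- the kernel is small and the image is a line
  have hDF : ∀ x ∈ D, ∃ t : F, algebraMap F K t = x := by
    intro x hx
    have h1 : ∀ y ∈ D, ∃ t : F, algebraMap F K t = y * (φ (ρ k) v / ε) := fun y hy =>
      hS _ fun w hw => by rw [mul_right_comm]; exact hbil y hy w hw k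
    obtain ⟨t, ht⟩ := h1 x hx
    obtain ⟨t', ht'⟩ := h1 1 h1D
    refine ⟨t / t', ?_⟩
    rw [map_div₀, ht, ht', one_mul,
      mul_div_cancel_right₀ _ (div_ne_zero (show φ (ρ k) v ≠ 0 from hk) hee)]
  set b := φ (ρ k) v with hb
  -- the centre at the image
  obtain ⟨l, hl, hll, c₀, hc₀, hly⟩ := C.exists_move hy₀ hv0 hyy hvv
  have hz : InZ M φ v (LinearMap.mulLeft F c₀ ∘ₗ D₁ ∘ₗ LinearMap.mulLeft F c₀) :=
    C.inZ_move hDz hl hll hly
  have hD' : LinearMap.mulLeft F c₀ ∘ₗ D₁ ∘ₗ LinearMap.mulLeft F c₀ ≠ 0 := fun e =>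
    hD₁ (LinearMap.ext fun x => by
      have h := LinearMap.congr_fun e (c₀⁻¹ * x)
      simp only [LinearMap.comp_apply, LinearMap.mulLeft_apply, LinearMap.zero_apply,
        mul_inv_cancel_left₀ hc₀, mul_eq_zero, hc₀, false_or] at h
      rw [h, LinearMap.zero_apply])
  obtain ⟨y, hyb, hyD⟩ : ∃ y, τ (y * b) = 0 ∧ y ∉ D := by
    by_contra hall'
    push Not at hall'
    let Λ : K →ₗ[F] F := τ ∘ₗ LinearMap.mulRight F b
    have hle : LinearMap.ker Λ ≤ Submodule.span F {(1 : K)} := fun z hz' => by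
      obtain ⟨t, ht⟩ := hDF z (hall' z (by simpa [Λ] using hz'))
      exact Submodule.mem_span_singleton.2 ⟨t, by rw [← Algebra.algebraMap_eq_smul_one, ht]⟩
    have h1 := LinearMap.finrank_range_add_finrank_ker Λ
    have h2 := Submodule.finrank_le (LinearMap.range Λ)
    have h4 := Submodule.finrank_mono hle
    rw [finrank_span_singleton one_ne_zero] at h4
    rw [Module.finrank_self] at h2
    omega
  obtain ⟨E, ⟨z, hzM, hzx⟩, hEb⟩ := C.center_surj hr hv0 hvv hD' hz hk hyb
  have hE0 : E 0 = 0 := by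
    have h := map_zero z.1
    rw [hzx] at h
    simpa [hv0] using h
  set h₂ := g⁻¹ * z * g with hh₂
  have hh₂x : ∀ x, g.1 (h₂.1 x) = g.1 x + E (φ (g.1 x) v) • v := fun x => by
    rw [hh₂, mul_apply', mul_apply', inv_apply', LinearEquiv.apply_symm_apply, hzx]
  have hh₂0 : ∀ x, φ (g.1 x) v = 0 → h₂.1 x = x := fun x hx => g.1.injective (by
    rw [hh₂x, hx, hE0, zero_smul, add_zero])
  have hfixu : h₂.1 u = u := hh₂0 u hvv
  have hsub : insert k₀ (lineSet K g.1 u) ⊆ lineSet K h₂.1 u := fun l hl => by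
    refine ⟨l, ?_⟩
    rw [hfixu]
    rcases hl with rfl | ⟨c, hc⟩
    · exact hh₂0 _ hβ₀
    · exact hh₂0 _ (by rw [hc, φ.map_smul, LinearMap.smul_apply, hvv, smul_zero])
  have hline₂ : LineTo K h₂.1 u := by
    by_contra hno
    have h1 := hmax h₂ u ⟨mul_mem (mul_mem (inv_mem hm.mem) hzM) hm.mem, hm.ne, hm.sing,
      by rw [hfixu]; exact hm.sing, hno⟩
    have h2 := Set.ncard_le_ncard hsub (Set.toFinite _)
    rw [Set.ncard_insert_of_notMem hk₀ (Set.toFinite _)] at h2
    omega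
  obtain ⟨c, hc⟩ := hline₂ k
  rw [hfixu] at hc
  refine hyD ((hD y).2 ⟨c - k, ?_⟩)
  have h := congrArg g.1 hc
  rw [hh₂x, hEb, ← hρa, ← hρa] at h
  rw [map_sub, ← h, add_sub_cancel_left]

/-- the axis from a point of the kernel off the line set -/
theorem axis_of_ker' (C : Ctx Q φ τ M) {g : quadIsoms Q} {u : V} (hm : Moved M φ g u)
    (hmax : ∀ g' u', Moved M φ g' u' → (lineSet K g'.1 u').ncard ≤ (lineSet K g.1 u).ncard)
    {k₀ : K} (hk₀ : k₀ ∉ lineSet K g.1 u) (hβ₀ : φ (g.1 (k₀ • u)) (g.1 u) = 0)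
    {y₀ : V} (hy₀ : y₀ ≠ 0) (hyy : φ y₀ y₀ = 0) {D₁ : K →ₗ[F] K} (hD₁ : D₁ ≠ 0)
    (hDz : InZ M φ y₀ D₁) : ∃ χ : K →ₗ[F] F, χ ≠ 0 ∧ HasAxis M u χ := by
  rcases Nat.lt_or_ge (Module.finrank K V) 4 with h | h
  · have h3 : Module.finrank K V = 3 := by have := C.three; omega
    exact C.axis_of_beta hm hmax hk₀
      (C.beta_zero_three h3 (C.gap.resolve_left (by omega)) hm hmax hk₀ hβ₀ hy₀ hyy hD₁ hDz)
  · exact C.axis_of_ker h hm hmax hk₀ hβ₀

/-- an axis, given an element of the centre of some radical -/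
theorem axis_of_center (C : Ctx Q φ τ M) (h3 : Module.finrank K V = 3)
    (hr : 3 ≤ Module.finrank F K) {g : quadIsoms Q} {u : V} (hm : Moved M φ g u)
    (hmax : ∀ g' u', Moved M φ g' u' → (lineSet K g'.1 u').ncard ≤ (lineSet K g.1 u).ncard)
    (hk : ∀ k : K, φ (g.1 (k • u)) (g.1 u) = 0 → k ∈ lineSet K g.1 u)
    {y₀ : V} (hy₀ : y₀ ≠ 0) (hyy : φ y₀ y₀ = 0) {D : K →ₗ[F] K} (hD : D ≠ 0)
    (hDz : InZ M φ y₀ D) : ∃ χ : K →ₗ[F] F, χ ≠ 0 ∧ HasAxis M u χ := by
  classical
  set v := g.1 u with hv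
  have hvv : φ v v = 0 := hm.sing'
  have hv0 : v ≠ 0 := fun e => hm.ne (g.1.map_eq_zero_iff.mp e)
  -- the centre at the image
  obtain ⟨l, hl, hll, c₀, hc₀, hly⟩ := C.exists_move hy₀ hv0 hyy hvv
  have hz : InZ M φ v (LinearMap.mulLeft F c₀ ∘ₗ D ∘ₗ LinearMap.mulLeft F c₀) :=
    C.inZ_move hDz hl hll hly
  have hD' : LinearMap.mulLeft F c₀ ∘ₗ D ∘ₗ LinearMap.mulLeft F c₀ ≠ 0 := fun e =>
    hD (LinearMap.ext fun x => by
      have h := LinearMap.congr_fun e (c₀⁻¹ * x)
      simp only [LinearMap.comp_apply, LinearMap.mulLeft_apply, LinearMap.zero_apply,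
        mul_inv_cancel_left₀ hc₀, mul_eq_zero, hc₀, false_or] at h
      rw [h, LinearMap.zero_apply])
  set ρ : K →ₗ[F] V :=
    (g.1 : V →ₗ[F] V) ∘ₗ (LinearMap.toSpanSingleton K V u).restrictScalars F with hρ
  have hρa : ∀ k, ρ k = g.1 (k • u) := fun k => rfl
  set β : K →ₗ[F] K := (φ.flip v).restrictScalars F ∘ₗ ρ with hβ
  have hβa : ∀ k, β k = φ (ρ k) v := fun k => rfl
  obtain ⟨k₁, hk₁⟩ : ∃ k₁, k₁ ∉ lineSet K g.1 u := by
    by_contra hall
    push Not at hall
    exact hm.off hall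
  set b := β k₁ with hb
  have hb0 : b ≠ 0 := fun e => hk₁ (hk k₁ e)
  obtain ⟨x, hxx, hxv⟩ := C.exists_opp hv0 hvv
  obtain ⟨e, he0, hev, hex⟩ := C.exists_mid v x
  have he' : ∀ c : K, e ≠ c • v := fun c hc => by
    rw [hc, φ.map_smul, LinearMap.smul_apply, C.symm v x, hxv, smul_eq_mul, mul_one] at hex
    exact he0 (by rw [hc, hex, zero_smul])
  obtain ⟨hee, -⟩ := C.perp_three h3 hv0 hvv hev he'
  set ε := φ e e
  -- an isotropic scalar
  obtain ⟨c, hc0, hcz⟩ := exists_common_zero (F := F) (W := K) (ι := Unit) (fun _ => 0)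
    (fun _ => (LinearMap.mul F K).compr₂ (τ ∘ₗ LinearMap.mulLeft F (ε * (b * b))))
    (by rw [Fintype.card_unit]; omega)
  replace hcz : τ (ε * (b * b) * (c * c)) = 0 := by simpa [mul_assoc] using hcz ()
  have hve : φ v e = 0 := by rw [C.symm]; exact hev
  have hvw : φ v (c • e) = 0 := by rw [map_smul, hve, smul_zero]
  obtain ⟨S, hS, -, hSx⟩ := C.exists_S hvv hvw
  set L := S.1 (ρ k₁) - ρ k₁ with hL
  have hLx : L = (b * c) • e - (c * φ (ρ k₁) e + c * c * ε / 2 * b) • v := by
    rw [hL, hSx, sMap, map_smul, map_smul, φ.map_smul, LinearMap.smul_apply, ← hβa, ← hb]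
    simp only [smul_eq_mul, ε]
    module
  let Λ : K →ₗ[F] F := τ ∘ₗ (φ L).restrictScalars F ∘ₗ ρ
  have hΛ : ∀ s, Λ s = τ (φ L (ρ s)) := fun s => rfl
  have hker : Λ ∈ (LinearMap.ker β).dualAnnihilator := by
    rw [Submodule.mem_dualAnnihilator]
    intro s hs
    obtain ⟨c', hc'⟩ := hk s hs
    rw [hΛ, hρa, hc', ← hv, (φ L).map_smul, hLx]
    simp [hvv, hev]
  rw [← LinearMap.range_dualMap_eq_dualAnnihilator_ker] at hker
  obtain ⟨μ, hμ⟩ := hker
  obtain ⟨y', hy'⟩ := C.exists_rep μ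
  have hΛy : ∀ s, Λ s = τ (y' * β s) := fun s => by rw [← hy', ← hμ]; rfl
  have hyb : τ (-y' * b) = 0 := by
    rw [neg_mul, map_neg, hb, ← hΛy, hΛ, hLx]
    simp only [map_sub, map_smul, LinearMap.sub_apply, LinearMap.smul_apply, C.symm e (ρ k₁),
      C.symm v (ρ k₁), ← hβa, ← hb, smul_eq_mul]
    rw [← map_sub τ, show b * c * φ (ρ k₁) e - (c * φ (ρ k₁) e + c * c * ε / 2 * b) * b =
      -((2 : F)⁻¹ • (ε * (b * b) * (c * c))) by
        rw [Algebra.smul_def, map_inv₀, map_ofNat]; have h2 := C.two'; field_simp; ring,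
      map_neg, map_smul, hcz, smul_zero, neg_zero, neg_zero]
  obtain ⟨E, hE, hEb⟩ := C.center_surj hr hv0 hvv hD' hz hb0 hyb
  obtain ⟨z, hzM, hzx⟩ := hE
  have hSv : ∀ w, φ (S.1 w) v = φ w v := fun w => by
    rw [hSx, sMap]
    simp [hev, hvv]
  have hS' : ∀ w, (z * S).1 w = S.1 w + E (φ w v) • v := fun w => by
    rw [mul_apply', hzx]; dsimp only; rw [hSv]
  have hfixv : ∀ c : K, E (φ (c • v) v) • v = 0 ∧ S.1 (c • v) = c • v := fun c' => by
    have h0 : E 0 = 0 := by
      have h1 : z.1 0 = 0 := map_zero _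
      rw [hzx] at h1
      simpa [hv0] using h1
    refine ⟨by rw [φ.map_smul, LinearMap.smul_apply, hvv, smul_zero, h0, zero_smul], ?_⟩
    rw [hSx, sMap]; simp [hvv, hvw, hve]
  set g₂ := g⁻¹ * (z * S) * g with hg₂
  have hg₂x : ∀ w, g.1 (g₂.1 w) = (z * S).1 (g.1 w) := fun w => by
    rw [hg₂, mul_apply', mul_apply', inv_apply', LinearEquiv.apply_symm_apply]
  have hfix : ∀ k ∈ lineSet K g.1 u, g₂.1 (k • u) = k • u := fun k ⟨c', hc'⟩ => g.1.injective (by
    rw [hg₂x, hc', ← hv, hS', (hfixv c').1, (hfixv c').2, add_zero])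
  have hfixu : g₂.1 u = u := by simpa using hfix 1 ⟨1, by rw [one_smul, one_smul]⟩
  have hL2 : (z * S).1 (ρ k₁) - ρ k₁ = L - y' • v := by
    rw [hS', ← hβa, ← hb, hEb, hL, neg_smul]; abel
  have hoff : ¬ LineTo K g₂.1 u := fun hl' => by
    obtain ⟨c', hc'⟩ := hl' k₁
    rw [hfixu] at hc'
    have h := congrArg g.1 hc'
    rw [hg₂x, ← hρa, ← hρa] at h
    have h' : ρ (c' - k₁) = L - y' • v := by rw [map_sub, ← h, hL2]
    have hker' : β (c' - k₁) = 0 := by
      rw [hβa, h', hLx]; simp [hev, hvv]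
    obtain ⟨c'', hc''⟩ := hk _ hker'
    replace hc'' : ρ (c' - k₁) = c'' • v := hc''
    rw [h'] at hc''
    have h3 := congrArg (fun w => φ w e) hc''
    simp only [hLx, map_sub, map_smul, LinearMap.sub_apply, LinearMap.smul_apply, hve, smul_eq_mul,
      mul_zero, sub_zero] at h3
    exact mul_ne_zero (mul_ne_zero hb0 hc0) hee h3
  have hm₂ : Moved M φ g₂ u :=
    ⟨mul_mem (mul_mem (inv_mem hm.mem) (mul_mem hzM hS)) hm.mem, hm.ne, hm.sing,
      by rw [hfixu]; exact hm.sing, hoff⟩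
  have hsub : lineSet K g.1 u ⊆ lineSet K g₂.1 u := fun k hk' =>
    ⟨k, by rw [hfix k hk', hfixu]⟩
  have heq := Set.eq_of_subset_of_ncard_le hsub (hmax g₂ u hm₂) (Set.toFinite _)
  refine C.axis_of_ker' hm₂ (fun g' u' h' => heq ▸ hmax g' u' h') (k₀ := k₁) (heq ▸ hk₁) ?_ hy₀
    hyy hD hDz
  refine C.tau_inj fun s => ?_
  rw [mul_zero, map_zero, hfixu, ← smul_eq_mul, ← (φ (g₂.1 (k₁ • u))).map_smul, ← C.iso g, hg₂x,
    ← hρa, ← hρa, show (z * S).1 (ρ k₁) = ((z * S).1 (ρ k₁) - ρ k₁) + ρ k₁ by abel, hL2,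
    map_add, LinearMap.add_apply, map_add, map_sub, LinearMap.sub_apply, map_sub, ← hΛ, hΛy,
    φ.map_smul, LinearMap.smul_apply, C.symm v, ← hβa, smul_eq_mul, sub_self, zero_add, hρa, hρa,
    C.iso, φ.map_smul, LinearMap.smul_apply, (φ u).map_smul, hm.sing, smul_zero, smul_zero, map_zero]

end Ctx

end CfsgLib.MaxSub.OExt
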