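import Cfsg.Agent.Lib.Char.TI
import Cfsg.Agent.Lib.Char.Column
import Cfsg.Agent.Lib.Char.Linear
import Cfsg.Agent.Lib.Char.LinearSum
import Cfsg.Agent.Lib.Char.Integral
import Mathlib.NumberTheory.LegendreSymbol.Complex

/-!
A subgroup of a finite group that is the semidirect product of a finite field by its Galois group over a
subfield, with trivial intersections: basic facts and the characters of the subgroup.
-/

set_option autoImplicit false
set_option linter.unusedSectionVars false

namespace CfsgLib.MaxSub.OExt.Three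

open scoped ComplexConjugate

variable (F K : Type*) [Field F] [Fintype F] [Field K] [Fintype K] [Algebra F K]

/-- a Galois invariant primitive character of the additive group of the larger field -/
noncomputable def psi : AddChar K ℂ :=
  (AddChar.FiniteField.primitiveChar_to_Complex F).compAddMonoidHom
    (Algebra.trace F K).toAddMonoidHom

theorem psi_apply (b : K) :
    psi F K b = AddChar.FiniteField.primitiveChar_to_Complex F (Algebra.trace F K b) := rfl

theorem psi_prim : (psi F K).IsPrimitive := by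
  obtain ⟨x, hx⟩ := AddChar.ne_one_iff.1
    (show AddChar.FiniteField.primitiveChar_to_Complex F ≠ 1 by
      simpa using (AddChar.FiniteField.primitiveChar_to_Complex_isPrimitive F) (a := (1 : F))
        one_ne_zero)
  obtain ⟨b, hb⟩ := Algebra.trace_surjective F K x
  exact AddChar.IsPrimitive.of_ne_one (AddChar.ne_one_iff.2 ⟨b, by rwa [psi_apply, hb]⟩)

theorem psi_gal (g : K ≃ₐ[F] K) (b : K) : psi F K (g b) = psi F K b := by
  rw [psi_apply, psi_apply, Algebra.trace_eq_of_algEquiv]

theorem psi_conj (b : K) : conj (psi F K b) = psi F K (-b) := (AddChar.map_neg_eq_conj _ _).symm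

theorem psi_sum [DecidableEq K] (y : K) :
    ∑ b : K, psi F K (b * y) = if y = 0 then (Fintype.card K : ℂ) else 0 := by
  simpa using AddChar.sum_mulShift y (psi_prim F K)

variable {F K}

theorem gal_comm (g h : K ≃ₐ[F] K) : g * h = h * g := by
  refine AlgEquiv.ext fun k => ?_
  rcases eq_or_ne k 0 with rfl | hk
  · simp
  obtain ⟨ζ, hζ⟩ := IsCyclic.exists_generator (α := Kˣ)
  obtain ⟨i, hi⟩ := (mem_powers_iff_mem_zpowers (x := ζ)).mpr
    (hζ (Units.map (g : K →* K) ζ))
  obtain ⟨j, hj⟩ := (mem_powers_iff_mem_zpowers (x := ζ)).mpr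
    (hζ (Units.map (h : K →* K) ζ))
  obtain ⟨m, hm⟩ := (mem_powers_iff_mem_zpowers (x := ζ)).mpr (hζ (Units.mk0 k hk))
  have hi' : g (ζ : K) = (ζ : K) ^ i := (congrArg Units.val hi).symm
  have hj' : h (ζ : K) = (ζ : K) ^ j := (congrArg Units.val hj).symm
  have hm' : k = (ζ : K) ^ m := (congrArg Units.val hm).symm
  show g (h k) = h (g k)
  rw [hm', map_pow, map_pow, map_pow, map_pow, hi', hj', map_pow, map_pow, hi', hj']
  simp only [← pow_mul, mul_assoc, mul_left_comm]

theorem mem_range_of_fix (hr : (Module.finrank F K).Prime) {g : K ≃ₐ[F] K} (hg : g ≠ 1) {k : K}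
    (hk : g k = k) : k ∈ Set.range (algebraMap F K) := by
  have := Subalgebra.isSimpleOrder_of_finrank_prime F K hr
  let S : Subalgebra F K :=
    { carrier := {x | g x = x}
      mul_mem' := fun {a b} ha hb => by show g (a * b) = a * b; rw [map_mul, ha, hb]
      add_mem' := fun {a b} ha hb => by show g (a + b) = a + b; rw [map_add, ha, hb]
      algebraMap_mem' := g.commutes }
  rcases eq_bot_or_eq_top S with h | h
  · exact Algebra.mem_bot.1 (h ▸ (show k ∈ S from hk))
  · exact absurd (AlgEquiv.ext fun x => (show x ∈ S by rw [h]; exact Algebra.mem_top : g x = x) : g = 1) hg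

theorem gal_card : Nat.card (K ≃ₐ[F] K) = Module.finrank F K :=
  IsGalois.card_aut_eq_finrank F K

/-- `N` is the semidirect product of `K` by its Galois group, with trivial intersections -/
structure Model {H : Type*} [Group H] (N : Subgroup H) (σ : N →* (K ≃ₐ[F] K)) (a : N → K) :
    Prop where
  prime : (Module.finrank F K).Prime
  cocycle : ∀ x y, a (x * y) = a x + σ x (a y)
  inj : ∀ x y, σ x = σ y → a x = a y → x = y
  surj : ∀ g b, ∃ x, σ x = g ∧ a x = b
  ti : ∀ x : N, σ x = 1 → x ≠ 1 → ∀ h : H, h * (x : H) * h⁻¹ ∈ N → h ∈ N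

namespace Model

variable {H : Type*} [Group H] {N : Subgroup H} {σ : N →* (K ≃ₐ[F] K)} {a : N → K}

theorem a_one (P : Model N σ a) : a 1 = 0 := by
  have h := P.cocycle 1 1
  rw [mul_one, map_one, AlgEquiv.one_apply, left_eq_add] at h
  exact h

/-- the additive group inside `N` -/
noncomputable def el (P : Model N σ a) (b : K) : N := (P.surj 1 b).choose

theorem sig_el (P : Model N σ a) (b : K) : σ (P.el b) = 1 := (P.surj 1 b).choose_spec.1

theorem a_el (P : Model N σ a) (b : K) : a (P.el b) = b := (P.surj 1 b).choose_spec.2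

theorem eq_el (P : Model N σ a) {x : N} (hx : σ x = 1) : x = P.el (a x) :=
  P.inj _ _ (by rw [hx, P.sig_el]) (by rw [P.a_el])

theorem el_zero (P : Model N σ a) : P.el 0 = 1 := by
  rw [← P.a_one, ← P.eq_el (map_one σ)]

theorem el_add (P : Model N σ a) (b c : K) : P.el (b + c) = P.el b * P.el c :=
  P.inj _ _ (by rw [map_mul, P.sig_el, P.sig_el, P.sig_el, one_mul])
    (by rw [P.a_el, P.cocycle, P.sig_el, P.a_el, P.a_el, AlgEquiv.one_apply])

theorem el_ne_one (P : Model N σ a) {b : K} (hb : b ≠ 0) : P.el b ≠ 1 := fun e =>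
  hb (by rw [← P.a_el b, e, P.a_one])

theorem sig_comm (_P : Model N σ a) (x y : N) : σ (x * y * x⁻¹) = σ y := by
  rw [map_mul, map_mul, map_inv, gal_comm (σ x), mul_inv_cancel_right]

theorem conj_el (P : Model N σ a) (x : N) (b : K) : x * P.el b * x⁻¹ = P.el (σ x b) := by
  rw [mul_inv_eq_iff_eq_mul]
  refine P.inj _ _ ?_ ?_
  · rw [map_mul, map_mul, P.sig_el, P.sig_el, mul_one, one_mul]
  · rw [P.cocycle, P.cocycle, P.a_el, P.a_el, P.sig_el, AlgEquiv.one_apply, add_comm]

/-- the additive group as a homomorphism -/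
noncomputable def elHom (P : Model N σ a) : Multiplicative K →* N where
  toFun b := P.el b.toAdd
  map_one' := P.el_zero
  map_mul' b c := P.el_add b.toAdd c.toAdd

/-- `N` is in bijection with the pairs -/
noncomputable def equivPair (P : Model N σ a) : N ≃ (K ≃ₐ[F] K) × K :=
  Equiv.ofBijective (fun x => (σ x, a x))
    ⟨fun x y h => P.inj x y (Prod.ext_iff.1 h).1 (Prod.ext_iff.1 h).2, fun ⟨g, b⟩ => by
      obtain ⟨x, h1, h2⟩ := P.surj g b
      exact ⟨x, Prod.ext h1 h2⟩⟩

theorem card_N (P : Model N σ a) : Nat.card N = Module.finrank F K * Fintype.card K := by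
  rw [Nat.card_congr P.equivPair, Nat.card_prod, gal_card, Nat.card_eq_fintype_card (α := K)]

/-- the trace of the cocycle -/
noncomputable def tr (_P : Model N σ a) (x : N) : F := Algebra.trace F K (a x)

theorem tr_mul (P : Model N σ a) (x y : N) : P.tr (x * y) = P.tr x + P.tr y := by
  rw [tr, tr, tr, P.cocycle, map_add, Algebra.trace_eq_of_algEquiv]

theorem tr_one (P : Model N σ a) : P.tr 1 = 0 := by rw [tr, P.a_one, map_zero]

theorem tr_conj (P : Model N σ a) (x y : N) : P.tr (x * y * x⁻¹) = P.tr y := by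
  have h := P.tr_mul x x⁻¹
  rw [mul_inv_cancel, P.tr_one] at h
  rw [P.tr_mul, P.tr_mul]
  linear_combination -h

theorem a_pow (P : Model N σ a) (x : N) (m : ℕ) :
    a (x ^ m) = ∑ i ∈ Finset.range m, (σ x ^ i) (a x) := by
  induction m with
  | zero => simp [P.a_one]
  | succ m ih =>
    rw [pow_succ, P.cocycle, ih, Finset.sum_range_succ, map_pow]

/-- a power of an element with nonzero trace is a nontrivial element of the additive group -/
theorem pow_el (P : Model N σ a) {x : N} (hx : σ x ≠ 1) :
    x ^ Module.finrank F K = P.el (algebraMap F K (P.tr x)) := by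
  classical
  have hc : Nat.card (K ≃ₐ[F] K) = Module.finrank F K := gal_card
  have ho : orderOf (σ x) = Module.finrank F K := by
    have h := orderOf_dvd_natCard (σ x)
    rw [hc] at h
    exact ((Nat.dvd_prime P.prime).1 h).resolve_left fun e => hx (orderOf_eq_one_iff.1 e)
  refine P.inj _ _ ?_ ?_
  · rw [P.sig_el, map_pow, ← ho, pow_orderOf_eq_one]
  · rw [P.a_el, P.a_pow, tr, trace_eq_sum_automorphisms]
    refine Finset.sum_bij (fun i _ => σ x ^ i) (fun i _ => Finset.mem_univ _)
      (fun i hi j hj h => ?_) (fun g _ => ?_) (fun i _ => rfl)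
    · rw [Finset.mem_range, ← ho] at hi hj
      exact pow_injOn_Iio_orderOf hi hj h
    · have hg : g ∈ Subgroup.zpowers (σ x) := by
        rw [Subgroup.eq_top_of_card_eq (Subgroup.zpowers (σ x)) (by
          rw [Nat.card_zpowers, ho, hc])]
        exact Subgroup.mem_top g
      obtain ⟨i, hi, rfl⟩ := (IsOfFinOrder.mem_zpowers_iff_mem_range_orderOf
        (isOfFinOrder_of_finite (σ x))).1 hg |> Finset.mem_image.1
      exact ⟨i, by rwa [← ho], rfl⟩

/-- the support of the virtual characters -/
def Dset (P : Model N σ a) (x : N) : Prop := P.tr x ≠ 0 ∨ (σ x = 1 ∧ x ≠ 1)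

theorem dset_conj (P : Model N σ a) (x y : N) : P.Dset (x * y * x⁻¹) ↔ P.Dset y := by
  rw [Dset, Dset, P.tr_conj, P.sig_comm, ne_eq (x * y * x⁻¹), conj_eq_one_iff]

theorem ti_dset (P : Model N σ a) {x : N} (hx : P.Dset x) {h : H}
    (hh : h * (x : H) * h⁻¹ ∈ N) : h ∈ N := by
  rcases hx with hx | ⟨h1, h2⟩
  swap
  · exact P.ti x h1 h2 h hh
  rcases eq_or_ne (σ x) 1 with h1 | h1
  · exact P.ti x h1 (fun e => hx (by rw [e, P.tr_one])) h hh
  refine P.ti (x ^ Module.finrank F K) (by rw [P.pow_el h1, P.sig_el])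
    (by rw [P.pow_el h1]; exact P.el_ne_one ((map_ne_zero _).2 hx)) h ?_
  rw [SubgroupClass.coe_pow, ← conj_pow]
  exact pow_mem hh _

theorem centralizer_eq (P : Model N σ a) {b : K} (hb : b ≠ 0) (h : H) :
    h ∈ Subgroup.centralizer ({(P.el b : H)} : Set H) ↔ ∃ hN : h ∈ N, σ ⟨h, hN⟩ b = b := by
  rw [Subgroup.mem_centralizer_singleton_iff]
  constructor
  · intro e
    have hN : h ∈ N := P.ti _ (P.sig_el b) (P.el_ne_one hb) h
      (by rw [e, mul_inv_cancel_right]; exact (P.el b).2)
    refine ⟨hN, ?_⟩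
    have e' : (⟨h, hN⟩ : N) * P.el b * ⟨h, hN⟩⁻¹ = P.el b := by
      rw [mul_inv_eq_iff_eq_mul]; exact Subtype.ext e
    have h2 := congrArg a (P.conj_el ⟨h, hN⟩ b)
    rw [e', P.a_el, P.a_el] at h2
    exact h2.symm
  · rintro ⟨hN, e⟩
    have e' := P.conj_el ⟨h, hN⟩ b
    rw [e, mul_inv_eq_iff_eq_mul] at e'
    exact congrArg Subtype.val e'

theorem card_centralizer [DecidableEq K] (P : Model N σ a) {b : K} (hb : b ≠ 0)
    [Decidable (b ∈ Set.range (algebraMap F K))] :
    Nat.card (Subgroup.centralizer ({(P.el b : H)} : Set H)) =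
      if b ∈ Set.range (algebraMap F K) then Module.finrank F K * Fintype.card K
      else Fintype.card K := by
  have e : Nat.card (Subgroup.centralizer ({(P.el b : H)} : Set H)) =
      Nat.card {x : N // σ x b = b} :=
    Nat.card_congr
      { toFun := fun h => ⟨⟨h, ((P.centralizer_eq hb h).1 h.2).choose⟩,
          ((P.centralizer_eq hb h).1 h.2).choose_spec⟩
        invFun := fun x => ⟨x.1, (P.centralizer_eq hb _).2 ⟨x.1.2, x.2⟩⟩
        left_inv := fun h => rfl
        right_inv := fun x => rfl }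
  rw [e]
  split_ifs with hF
  · obtain ⟨t, rfl⟩ := hF
    rw [Nat.card_congr (Equiv.subtypeUnivEquiv fun x => (σ x).commutes t), P.card_N]
  · rw [Nat.card_congr
      { toFun := fun x : {x : N // σ x b = b} => a x
        invFun := fun c => (⟨P.el c, by rw [P.sig_el, AlgEquiv.one_apply]⟩ :
          {x : N // σ x b = b})
        left_inv := fun x => Subtype.ext (P.eq_el (by
          by_contra h
          exact hF (mem_range_of_fix P.prime h x.2))).symm
        right_inv := fun c => P.a_el c }, Nat.card_eq_fintype_card]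

end Model

end CfsgLib.MaxSub.OExt.Three
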