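import Cfsg.Agent.Lib.MaxSub.OExtThreeFix
import Cfsg.Agent.Lib.MaxSub.OExtThreeModel
import Mathlib.RingTheory.Norm.Transitivity

/-!
Dimension three, trace form: semilinear isometries fixing a singular vector, in a hyperbolic basis.
-/

set_option autoImplicit false
set_option linter.unusedSectionVars false

namespace CfsgLib.MaxSub.OExt

open CfsgLib.Classical CfsgLib.Geom
open QuadraticMap (polar)

variable {F K V : Type*} [Field F] [Field K] [Algebra F K] [AddCommGroup V] [Module K V]
  [Module F V] [IsScalarTower F K V]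

/-- a hyperbolic basis with middle value in the subfield -/
structure Triple (φ : V →ₗ[K] V →ₗ[K] K) (u x e : V) (ε : F) : Prop where
  ne : u ≠ 0
  uu : φ u u = 0
  xx : φ x x = 0
  xu : φ x u = 1
  eu : φ e u = 0
  ex : φ e x = 0
  ee : φ e e = algebraMap F K ε
  eps : ε ≠ 0

/-- the geometric sum of an odd number of odd powers is odd -/
theorem odd_geom {q r : ℕ} (hq : Odd q) (hr : Odd r) : Odd (∑ i ∈ Finset.range r, q ^ i) := by
  rw [Nat.odd_iff, Finset.sum_nat_mod, Finset.sum_congr rfl fun i _ => Nat.odd_iff.1 (hq.pow (n := i))]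
  simpa using Nat.odd_iff.1 hr

/-- an odd degree extension: every nonzero element becomes one of the subfield after a square factor -/
theorem exists_scale {F K : Type*} [Field F] [Finite F] [Field K] [Finite K] [Algebra F K]
    (hodd : Odd (Nat.card F)) (hr : Odd (Module.finrank F K)) {x : K} (hx : x ≠ 0) :
    ∃ c : K, c ≠ 0 ∧ ∃ t : F, algebraMap F K t = x * (c * c) := by
  classical
  have := Fintype.ofFinite F
  have := Fintype.ofFinite K
  set q := Nat.card F with hq
  set S := ∑ i ∈ Finset.range (Module.finrank F K), q ^ i with hS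
  obtain ⟨m, hm⟩ := odd_geom hodd hr
  rw [← hS] at hm
  refine ⟨x ^ m, pow_ne_zero m hx, ?_⟩
  have hfix : (x * (x ^ m * x ^ m)) ^ q = x * (x ^ m * x ^ m) := by
    have e : x * (x ^ m * x ^ m) = x ^ S := by rw [hm, pow_succ, two_mul, pow_add]; ring
    rw [e, ← pow_mul]
    refine mul_right_cancel₀ hx ?_
    rw [← pow_succ]
    have hgeom : S * q + 1 = S + Fintype.card K := by
      rw [Module.card_eq_pow_finrank (K := F) (V := K), ← Nat.card_eq_fintype_card (α := F), ← hq, hS]
      have h1 := Finset.sum_range_succ (fun i => q ^ i) (Module.finrank F K)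
      rw [Finset.sum_range_succ'] at h1
      simp only [pow_zero, pow_succ, ← Finset.sum_mul] at h1
      exact h1
    rw [hgeom, pow_add, FiniteField.pow_card]
  by_contra hno
  push Not at hno
  let S' : Finset K := insert (x * (x ^ m * x ^ m)) (Finset.univ.image (algebraMap F K))
  have hsub : S' ⊆ (Polynomial.X ^ q - Polynomial.X : Polynomial K).roots.toFinset := by
    intro z hz
    have h1 : 1 < q := Finite.one_lt_card
    rw [Multiset.mem_toFinset, Polynomial.mem_roots (FiniteField.X_pow_card_sub_X_ne_zero K h1)]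
    show Polynomial.eval z _ = 0
    rw [Polynomial.eval_sub, Polynomial.eval_pow, Polynomial.eval_X, sub_eq_zero]
    rcases Finset.mem_insert.1 hz with rfl | hz
    · exact hfix
    · obtain ⟨t, -, rfl⟩ := Finset.mem_image.1 hz
      rw [← map_pow, hq, Nat.card_eq_fintype_card, FiniteField.pow_card]
  have h1 := (Finset.card_le_card hsub).trans ((Multiset.toFinset_card_le _).trans
    (Polynomial.card_roots' _))
  rw [FiniteField.X_pow_card_sub_X_natDegree_eq K (Finite.one_lt_card : 1 < q),
    Finset.card_insert_of_notMem (fun h => by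
      obtain ⟨t, -, ht⟩ := Finset.mem_image.1 h; exact hno t ht),
    Finset.card_image_of_injective _ (algebraMap F K).injective, Finset.card_univ,
    ← Nat.card_eq_fintype_card, ← hq] at h1
  omega

namespace Ctx

variable [Finite F] [Finite K] [Module.Finite K V] [Module.Finite F K] [FiniteDimensional F V]
  {Q : QuadraticForm F V} {φ : V →ₗ[K] V →ₗ[K] K} {τ : K →ₗ[F] F} {M : Subgroup (quadIsoms Q)}

theorem exists_triple (C : Ctx Q φ τ M) (h3 : Module.finrank K V = 3)
    (hr : 3 ≤ Module.finrank F K) {u : V} (hu : u ≠ 0) (huu : φ u u = 0) :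
    ∃ x e ε, Triple (F := F) φ u x e ε := by
  obtain ⟨x, hx, hxu⟩ := C.exists_opp hu huu
  obtain ⟨e, he0, heu, hex⟩ := C.exists_mid u x
  have he' : ∀ c : K, e ≠ c • u := fun c hc => by
    rw [hc, φ.map_smul, LinearMap.smul_apply, C.symm u x, hxu, smul_eq_mul, mul_one] at hex
    exact he0 (by rw [hc, hex, zero_smul])
  obtain ⟨hee, -⟩ := C.perp_three h3 hu huu heu he'
  obtain ⟨c, hc, t, ht⟩ := exists_scale (F := F) (by
    rw [← Nat.not_even_iff_odd]
    intro h
    have := Fintype.ofFinite F
    rw [Nat.card_eq_fintype_card, Nat.even_iff] at h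
    have h2 := FiniteField.even_card_iff_char_two.2 h
    exact C.two (by have := CharP.cast_eq_zero F (ringChar F); rw [h2] at this; exact_mod_cast this))
    (C.prime.odd_of_ne_two (by omega)) hee
  refine ⟨x, c • e, t, hu, huu, hx, hxu, by simp [heu], by simp [hex], ?_, fun e0 => ?_⟩
  · simp only [map_smul, LinearMap.smul_apply, smul_eq_mul, ht]
    ring
  · rw [e0, map_zero, eq_comm, mul_eq_zero] at ht
    exact (ht.resolve_left hee) |> mul_self_ne_zero.2 hc

variable {u x e : V} {ε : F}

theorem triple_decomp (C : Ctx Q φ τ M) (h3 : Module.finrank K V = 3) (T : Triple φ u x e ε) (y : V) :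
    y = φ y u • x + (φ y e / algebraMap F K ε) • e + φ y x • u := by
  have hε : algebraMap F K ε ≠ 0 := (map_ne_zero _).2 T.eps
  have he' : ∀ c : K, e ≠ c • u := fun c hc => hε (by
    rw [← T.ee, hc, φ.map_smul, LinearMap.smul_apply, (φ u).map_smul, T.uu]; simp)
  obtain ⟨-, hspan⟩ := C.perp_three h3 T.ne T.uu T.eu he'
  have hxe : φ x e = 0 := by rw [C.symm]; exact T.ex
  have hux : φ u x = 1 := by rw [C.symm]; exact T.xu
  have hue : φ u e = 0 := by rw [C.symm]; exact T.eu
  refine sub_eq_zero.1 ?_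
  set z := y - (φ y u • x + (φ y e / algebraMap F K ε) • e + φ y x • u) with hz
  have hzu : φ z u = 0 := by simp [hz, T.xu, T.eu, T.uu]
  have hze : φ z e = 0 := by simp [hz, hxe, T.ee, hue, hε]
  have hzx : φ z x = 0 := by simp [hz, T.xx, T.ex, hux]
  obtain ⟨a, c, hac⟩ := hspan z hzu
  rw [hac] at hze hzx
  simp only [map_add, map_smul, LinearMap.add_apply, LinearMap.smul_apply, T.ee, hue, T.ex, hux,
    smul_eq_mul, mul_zero, add_zero, zero_add, mul_one] at hze hzx
  rw [hac, (mul_eq_zero.1 hze).resolve_right hε, hzx, zero_smul, zero_smul, add_zero]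

/-- a semilinear isometry respects the form -/
theorem semi_form (C : Ctx Q φ τ M) (hτ : ∀ z, τ z = Algebra.trace F K z) {n : quadIsoms Q}
    {σ : K ≃ₐ[F] K} (hσ : ∀ (k : K) y, n.1 (k • y) = σ k • n.1 y) (y z : V) :
    φ (n.1 y) (n.1 z) = σ (φ y z) := by
  refine C.tau_inj fun s => ?_
  obtain ⟨s, rfl⟩ := σ.surjective s
  rw [← smul_eq_mul, ← LinearMap.smul_apply, ← φ.map_smul, ← hσ, C.iso, φ.map_smul,
    LinearMap.smul_apply, smul_eq_mul, ← _root_.map_mul, hτ, hτ, Algebra.trace_eq_of_algEquiv]

/-- the field automorphism of a semilinear isometry fixing a nonzero vector -/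
theorem semi_alg (C : Ctx Q φ τ M) {n : quadIsoms Q} (hn : KSemi K n.1) (hu : u ≠ 0)
    (hnu : n.1 u = u) : ∃ σ : K ≃ₐ[F] K, ∀ (k : K) y, n.1 (k • y) = σ k • n.1 y := by
  have := C.nontriv
  obtain ⟨σ, hσb, hσ⟩ := semi_sigma hn
  have hσF : ∀ t : F, σ (algebraMap F K t) = algebraMap F K t := fun t =>
    smul_left_injective K hu (show σ (algebraMap F K t) • u = algebraMap F K t • u by
      have h := hσ (algebraMap F K t) u
      rw [algebraMap_smul, map_smul, hnu] at h
      rw [← h, algebraMap_smul])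
  exact ⟨AlgEquiv.ofBijective { σ with commutes' := hσF } hσb, hσ⟩

theorem exists_S_el (C : Ctx Q φ τ M) (T : Triple φ u x e ε) (b : K) :
    ∃ g ∈ M, KLin K g.1 ∧ g.1 u = u ∧
      g.1 x = x + b • e - (b * b * algebraMap F K ε / 2) • u ∧
      g.1 e = e - (b * algebraMap F K ε) • u ∧ ∀ k : K, g.1 (k • u) = k • u := by
  have hue : φ u (b • e) = 0 := by rw [map_smul, C.symm u e, T.eu, smul_zero]
  obtain ⟨g, hg, hgl, hgx⟩ := C.exists_S T.uu hue
  have hu' : g.1 u = u := by rw [hgx, sMap, T.uu, hue]; simp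
  refine ⟨g, hg, hgl, hu', ?_, ?_, fun k => by rw [hgl, hu']⟩
  · rw [hgx, sMap, T.xu, map_smul, C.symm x e, T.ex]
    simp only [map_smul, LinearMap.smul_apply, T.ee, smul_eq_mul]
    module
  · rw [hgx, sMap, T.eu, map_smul, T.ee, smul_eq_mul]
    module

/-- the shape of a semilinear isometry fixing the singular vector -/
theorem semi_shape (C : Ctx Q φ τ M) (h3 : Module.finrank K V = 3)
    (hr : 3 ≤ Module.finrank F K) (hτ : ∀ z, τ z = Algebra.trace F K z)
    (T : Triple φ u x e ε) {n : quadIsoms Q} (hnM : n ∈ M) {σ : K ≃ₐ[F] K}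
    (hσ : ∀ (k : K) y, n.1 (k • y) = σ k • n.1 y) (hnu : n.1 u = u) :
    ∃ A : K, A = φ (n.1 x) e / algebraMap F K ε ∧
      n.1 x = x + A • e - (A * A * algebraMap F K ε / 2) • u ∧
      n.1 e = e - (A * algebraMap F K ε) • u := by
  classical
  have hε : algebraMap F K ε ≠ 0 := (map_ne_zero _).2 T.eps
  have hue : φ u e = 0 := by rw [C.symm]; exact T.eu
  have hux : φ u x = 1 := by rw [C.symm]; exact T.xu
  have hxe : φ x e = 0 := by rw [C.symm]; exact T.ex
  have h2 := C.two'
  have he' : ∀ c : K, e ≠ c • u := fun c hc => hε (by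
    rw [← T.ee, hc, φ.map_smul, LinearMap.smul_apply, (φ u).map_smul, T.uu]; simp)
  obtain ⟨-, hspan⟩ := C.perp_three h3 T.ne T.uu T.eu he'
  -- the middle vector
  have hmid : ∀ (m : quadIsoms Q) (ρ : K ≃ₐ[F] K), (∀ (k : K) y, m.1 (k • y) = ρ k • m.1 y) →
      m.1 u = u → ∃ a c : K, m.1 e = a • e + c • u ∧ a * a = 1 := by
    intro m ρ hρ hmu
    have h0 : φ (m.1 e) u = 0 := by
      conv_lhs => rw [← hmu]
      rw [C.semi_form hτ hρ, T.eu, map_zero]
    obtain ⟨a, c, hac⟩ := hspan _ h0
    refine ⟨a, c, hac, ?_⟩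
    have h := C.semi_form hτ hρ e e
    rw [hac] at h
    simp only [map_add, map_smul, LinearMap.add_apply, LinearMap.smul_apply, T.ee, T.uu, T.eu, hue,
      smul_eq_mul, mul_zero, add_zero, AlgEquiv.commutes, ← mul_assoc] at h
    exact mul_right_cancel₀ hε (h.trans (one_mul _).symm)
  -- linear elements keep the sign
  have hlin : ∀ m ∈ M, KLin K m.1 → m.1 u = u → ∀ a c : K, m.1 e = a • e + c • u → a = 1 := by
    intro m hm hml hmu a c hac
    obtain ⟨a', c', hac', ha'⟩ := hmid m 1 (fun k y => by rw [hml]; rfl) hmu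
    have haa : a = a' := by
      have h := congrArg (fun y => φ y e) (hac.symm.trans hac')
      simp only [map_add, map_smul, LinearMap.add_apply, LinearMap.smul_apply, T.ee, hue, smul_eq_mul,
        mul_zero, add_zero] at h
      exact mul_right_cancel₀ hε h
    subst haa
    let f : V →ₗ[K] V := { toFun := m.1, map_add' := map_add m.1, map_smul' := hml }
    have hli : LinearIndependent K ![x, e, u] := by
      rw [Fintype.linearIndependent_iff]
      intro g hg
      simp only [Fin.sum_univ_three, Matrix.cons_val_zero, Matrix.cons_val_one, Matrix.cons_val]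
        at hg
      have hu0 := congrArg (fun y => φ y u) hg
      have he0 := congrArg (fun y => φ y e) hg
      have hx0 := congrArg (fun y => φ y x) hg
      simp only [map_add, map_smul, LinearMap.add_apply, LinearMap.smul_apply, map_zero,
        LinearMap.zero_apply, T.xu, T.eu, T.uu, hxe, T.ee, hue, T.xx, T.ex, hux, smul_eq_mul, mul_zero,
        mul_one, add_zero, zero_add] at hu0 he0 hx0
      intro i
      fin_cases i
      · exact hu0
      · exact (mul_eq_zero.1 he0).resolve_right hε
      · exact hx0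
    let B := basisOfLinearIndependentOfCardEqFinrank hli (by rw [Fintype.card_fin, h3])
    have hB : ∀ i, B i = ![x, e, u] i := fun i => by
      simp [B, coe_basisOfLinearIndependentOfCardEqFinrank]
    have hrep : ∀ (p₀ p₁ p₂ : K) (i : Fin 3),
        B.repr (p₀ • x + p₁ • e + p₂ • u) i = ![p₀, p₁, p₂] i := fun p₀ p₁ p₂ i => by
      rw [show p₀ • x + p₁ • e + p₂ • u = ∑ j, ![p₀, p₁, p₂] j • B j by
        simp [Fin.sum_univ_three, hB], B.repr_sum_self]
    obtain ⟨i₀, j₀, hfx⟩ : ∃ i₀ j₀ : K, f x = (1 : K) • x + i₀ • e + j₀ • u := by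
      refine ⟨φ (f x) e / algebraMap F K ε, φ (f x) x, ?_⟩
      have h1 : φ (f x) u = 1 := by
        show φ (m.1 x) u = 1
        rw [← T.xu, ← C.iso_lin hml x u, hmu]
      conv_lhs => rw [C.triple_decomp h3 T (f x), h1]
    have hfe : f e = (0 : K) • x + a • e + c • u := by
      show m.1 e = _
      rw [hac, zero_smul, zero_add]
    have hfu : f u = (0 : K) • x + (0 : K) • e + (1 : K) • u := by
      show m.1 u = _
      rw [hmu, zero_smul, zero_smul, zero_add, zero_add, one_smul]
    have hdetK : LinearMap.det f = a := by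
      rw [← LinearMap.det_toMatrix B, Matrix.det_fin_three]
      simp only [LinearMap.toMatrix_apply, hB, Matrix.cons_val_zero, Matrix.cons_val_one,
        Matrix.cons_val, hfx, hfe, hfu, hrep]
      ring
    have hdetF : LinearMap.det (f.restrictScalars F) = 1 := by
      have h : Abelianization.of m = 1 := by
        rw [← MonoidHom.mem_ker, Abelianization.ker_of]
        exact C.sub hm
      let χ : quadIsoms Q →* Fˣ :=
        (LinearEquiv.det : (V ≃ₗ[F] V) →* Fˣ).comp (quadIsoms Q).subtype
      have h1 : χ m = 1 := Abelianization.commutator_subset_ker χ (C.sub hm)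
      have h2 := congrArg (fun z : Fˣ => (z : F)) h1
      rw [Units.val_one] at h2
      rw [← h2]
      show _ = ((LinearEquiv.det m.1 : Fˣ) : F)
      rw [LinearEquiv.coe_det]
      rfl
    rcases mul_self_eq_one_iff.1 ha' with ha | ha
    · exact ha
    exfalso
    rw [LinearMap.det_restrictScalars, hdetK, ha,
      show (-1 : K) = algebraMap F K (-1) by simp, Algebra.norm_algebraMap,
      (C.prime.odd_of_ne_two (by omega)).neg_one_pow] at hdetF
    exact C.two (by linear_combination -hdetF)
  obtain ⟨a, c, hne, haa⟩ := hmid n σ hσ hnu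
  -- the power is linear
  have hpow : ∀ j : ℕ, (∀ (k : K) y, (n ^ j).1 (k • y) = (σ ^ j) k • (n ^ j).1 y) ∧
      (n ^ j).1 u = u ∧ ∃ c' : K, (n ^ j).1 e = a ^ j • e + c' • u := by
    intro j
    induction j with
    | zero =>
      exact ⟨fun k y => rfl, rfl, 0, by
        rw [zero_smul, add_zero, pow_zero, pow_zero, one_smul]; rfl⟩
    | succ j ih =>
      obtain ⟨h1, h2, c', h3'⟩ := ih
      refine ⟨fun k y => ?_, by rw [pow_succ, mul_apply', hnu, h2], ?_⟩
      · rw [pow_succ, mul_apply', hσ, h1, pow_succ, AlgEquiv.mul_apply, mul_apply']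
      · have hfix : (σ ^ j) a = a := by
          rcases mul_self_eq_one_iff.1 haa with rfl | rfl
          · exact map_one _
          · rw [map_neg, map_one]
        refine ⟨a * c' + (σ ^ j) c, ?_⟩
        rw [pow_succ, mul_apply', hne, map_add, h1, h1, hfix, h3', h2, pow_succ]
        module
  obtain ⟨hpl, hpu, c', hpe⟩ := hpow (Module.finrank F K)
  have hgalr : σ ^ Module.finrank F K = 1 := by
    rw [← IsGalois.card_aut_eq_finrank F K]; exact pow_card_eq_one'
  have ha1 := hlin _ (pow_mem hnM _) (fun k y => by rw [hpl, hgalr]; rfl) hpu _ _ hpe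
  have ha : a = 1 := by
    rcases mul_self_eq_one_iff.1 haa with rfl | rfl
    · rfl
    · rw [(C.prime.odd_of_ne_two (by omega)).neg_one_pow] at ha1; exact ha1
  subst ha
  set A := φ (n.1 x) e / algebraMap F K ε with hA
  have hxu' : φ (n.1 x) u = 1 := by
    conv_lhs => rw [← hnu]
    rw [C.semi_form hτ hσ, T.xu, map_one]
  have hd := C.triple_decomp h3 T (n.1 x)
  rw [hxu', ← hA, one_smul] at hd
  set j := φ (n.1 x) x with hj
  have hxx' := C.semi_form hτ hσ x x
  have hex' := C.semi_form hτ hσ e x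
  rw [hd] at hxx' hex'
  rw [hne] at hex'
  simp only [map_add, map_smul, LinearMap.add_apply, LinearMap.smul_apply, T.xx, T.xu, T.ex, T.ee,
    T.eu, T.uu, hxe, hux, hue, smul_eq_mul, mul_zero, add_zero, zero_add, mul_one, one_mul, map_zero]
    at hxx' hex'
  refine ⟨A, rfl, ?_, ?_⟩
  · rw [hd, show j = -(A * A * algebraMap F K ε / 2) by field_simp; linear_combination hxx',
      neg_smul, sub_eq_add_neg]
  · rw [hne, one_smul, show c = -(A * algebraMap F K ε) by linear_combination hex', neg_smul,
      sub_eq_add_neg]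

/-- a semilinear isometry is determined by its automorphism and its value at the opposite vector -/
theorem semi_ext (C : Ctx Q φ τ M) (h3 : Module.finrank K V = 3) (T : Triple φ u x e ε)
    {n n' : quadIsoms Q} {σ : K ≃ₐ[F] K} (hσ : ∀ (k : K) y, n.1 (k • y) = σ k • n.1 y)
    (hσ' : ∀ (k : K) y, n'.1 (k • y) = σ k • n'.1 y) (hx : n.1 x = n'.1 x) (he : n.1 e = n'.1 e)
    (hu : n.1 u = n'.1 u) : n = n' :=
  quadIsoms_ext Q fun y => by
    rw [C.triple_decomp h3 T y]
    simp only [map_add, hσ, hσ', hx, he, hu]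

/-- every automorphism is realised in `M` -/
theorem exists_galois (C : Ctx Q φ τ M) (h3 : Module.finrank K V = 3)
    (hr : 3 ≤ Module.finrank F K) (hτ : ∀ z, τ z = Algebra.trace F K z)
    (T : Triple φ u x e ε) (σ : K ≃ₐ[F] K) :
    ∃ n ∈ M, (∀ (k : K) y, n.1 (k • y) = σ k • n.1 y) ∧ n.1 u = u ∧ n.1 x = x ∧ n.1 e = e := by
  have hue : φ u e = 0 := by rw [C.symm]; exact T.eu
  have hux : φ u x = 1 := by rw [C.symm]; exact T.xu
  have hxe : φ x e = 0 := by rw [C.symm]; exact T.ex
  have hε : algebraMap F K ε ≠ 0 := (map_ne_zero _).2 T.eps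
  let ε' := algebraMap F K ε
  have hσe : ∀ g : K ≃ₐ[F] K, g ε' = ε' := fun g => g.commutes ε
  let L : (K ≃ₐ[F] K) → V →ₗ[F] V := fun g =>
    { toFun := fun y => g (φ y u) • x + g (φ y e / ε') • e + g (φ y x) • u
      map_add' := fun y z => by simp only [map_add, LinearMap.add_apply, add_div]; module
      map_smul' := fun t y => by
        simp only [LinearMap.map_smul_of_tower, LinearMap.smul_apply, RingHom.id_apply,
          Algebra.smul_def, mul_div_assoc, _root_.map_mul, AlgEquiv.commutes]
        simp only [← smul_smul, ← algebraMap_smul K t]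
        module }
  have hL : ∀ g y, L g y = g (φ y u) • x + g (φ y e / ε') • e + g (φ y x) • u := fun g y => rfl
  have hLu : ∀ g y, φ (L g y) u = g (φ y u) := fun g y => by simp [hL, T.xu, T.eu, T.uu]
  have hLe : ∀ g y, φ (L g y) e = g (φ y e) := fun g y => by
    simp only [hL, map_add, map_smul, LinearMap.add_apply, LinearMap.smul_apply, hxe, T.ee, hue,
      smul_eq_mul, mul_zero, add_zero, zero_add]
    rw [map_div₀, hσe]
    exact div_mul_cancel₀ _ hε
  have hLx : ∀ g y, φ (L g y) x = g (φ y x) := fun g y => by simp [hL, T.xx, T.ex, hux]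
  have hcomp : ∀ g g' y, L g (L g' y) = L (g * g') y := fun g g' y => by
    rw [hL g, hLu, map_div₀, hLe, hσe, hLx, hL (g * g'), AlgEquiv.mul_apply, AlgEquiv.mul_apply,
      AlgEquiv.mul_apply, map_div₀, hσe, map_div₀, hσe]
  have hone : ∀ y, L 1 y = y := fun y => by
    conv_rhs => rw [C.triple_decomp h3 T y]
    rw [hL]; rfl
  let eL : V ≃ₗ[F] V := LinearEquiv.ofLinearMap (L σ) (L σ⁻¹)
    (LinearMap.ext fun y => by rw [LinearMap.comp_apply, hcomp, mul_inv_cancel, hone]; rfl)
    (LinearMap.ext fun y => by rw [LinearMap.comp_apply, hcomp, inv_mul_cancel, hone]; rfl)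
  have hQ : eL ∈ quadIsoms Q := mem_quadIsoms.2 fun y => by
    have e1 : φ (L σ y) (L σ y) = σ (φ y y) := by
      conv_rhs => rw [C.triple_decomp h3 T y]
      simp only [hL, map_add, map_smul, LinearMap.add_apply, LinearMap.smul_apply, T.xx, T.xu, T.ex,
        T.ee, T.eu, T.uu, hxe, hux, hue, smul_eq_mul, _root_.map_mul, map_div₀, map_one, map_zero,
        AlgEquiv.commutes, ε']
    have e : polar Q (L σ y) (L σ y) = polar Q y y := by
      rw [C.rel, C.rel, e1, hτ, hτ, Algebra.trace_eq_of_algEquiv]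
    rw [polar_self_two, polar_self_two] at e
    exact mul_left_cancel₀ C.two e
  set n : quadIsoms Q := ⟨eL, hQ⟩ with hn
  have hnx : ∀ y, n.1 y = L σ y := fun y => rfl
  have hsemi : ∀ (k : K) y, n.1 (k • y) = σ k • n.1 y := fun k y => by
    rw [hnx, hnx, hL, hL]
    simp only [φ.map_smul, LinearMap.smul_apply, smul_eq_mul, mul_div_assoc, _root_.map_mul]
    module
  have hpow : n ^ Module.finrank F K = 1 := by
    have hp : ∀ j : ℕ, ∀ y, (n ^ j).1 y = L (σ ^ j) y := fun j => by
      induction j with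
      | zero => intro y; rw [pow_zero, pow_zero, hone]; rfl
      | succ j ih => intro y; rw [pow_succ, mul_apply', hnx, ih, hcomp, ← pow_succ]
    have hgalr : σ ^ Module.finrank F K = 1 := by
      rw [← IsGalois.card_aut_eq_finrank F K]; exact pow_card_eq_one'
    exact quadIsoms_ext Q fun y => by rw [hp, hgalr, hone]; rfl
  refine ⟨n, C.mem n ?_ fun k => ⟨σ k, hsemi k⟩, hsemi, ?_, ?_, ?_⟩
  · obtain ⟨j, hj⟩ := C.prime.odd_of_ne_two (by omega)
    have : n = n ^ (j + 1) * n ^ (j + 1) := by
      rw [← pow_add, show j + 1 + (j + 1) = Module.finrank F K + 1 by omega, pow_succ, hpow, one_mul]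
    rw [this]
    exact C.sq_mem _
  · rw [hnx, hL, T.uu, hue, hux, zero_div, map_zero, map_one]; module
  · rw [hnx, hL, T.xu, hxe, T.xx, zero_div, map_zero, map_one]; module
  · rw [hnx, hL, T.eu, T.ee, T.ex, div_self hε, map_zero, map_one]; module

end Ctx

end CfsgLib.MaxSub.OExt
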