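import Cfsg.Agent.Lib.Comp.Signalizer
import Mathlib.GroupTheory.Transfer

/-!
An elementary abelian trivial-intersection subgroup of order at least `p²` that contains the normalisers of
its nontrivial elements is the whole group.
-/

set_option autoImplicit false
set_option linter.unusedSectionVars false

namespace CfsgLib.MaxSub.OExt

theorem eq_top_of_ti_elemAb {H : Type*} [Group H] [Finite H] {p : ℕ} [Fact p.Prime]
    {N : Subgroup H} (hE : Cfsg.IsElementaryAbelian p N) (hcard : p ^ 2 ≤ Nat.card N)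
    (hti : ∀ x ∈ N, x ≠ 1 → ∀ h : H, h * x * h⁻¹ ∈ N → h ∈ N) : N = ⊤ := by
  classical
  have hp : p.Prime := Fact.out
  have hNp : IsPGroup p N := CfsgLib.Comp.isPGroup_of_elemAb hE
  have hNne : N ≠ ⊥ := fun e => by
    rw [e, Subgroup.card_bot] at hcard
    have := Nat.le_self_pow two_ne_zero p
    have := hp.two_le
    omega
  obtain ⟨x, hx, hx1⟩ := N.ne_bot_iff_exists_ne_one.1 hNne |>.elim fun x hx =>
    (⟨x.1, x.2, fun e => hx (Subtype.ext e)⟩ : ∃ x, x ∈ N ∧ x ≠ 1)
  have hnorm : ∀ h : H, (∀ y ∈ N, h * y * h⁻¹ ∈ N) → h ∈ N := fun h hh =>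
    hti x hx hx1 h (hh x hx)
  -- it is a Sylow subgroup
  obtain ⟨P, hP⟩ := hNp.exists_le_sylow
  have hPN : (P : Subgroup H) = N := by
    by_contra hne
    have := P.2.isNilpotent
    have hlt : N.subgroupOf (P : Subgroup H) < ⊤ := by
      rw [lt_top_iff_ne_top]
      intro e
      rw [Subgroup.subgroupOf_eq_top] at e
      exact hne (le_antisymm e hP)
    have h2 := normalizerCondition_of_isNilpotent (G := (P : Subgroup H)) _ hlt
    obtain ⟨h, hh, hh'⟩ := SetLike.exists_of_lt h2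
    refine hh' (Subgroup.mem_subgroupOf.2 (hnorm _ fun y hy => ?_))
    have h3 := (Subgroup.mem_normalizer_iff.1 hh ⟨y, hP hy⟩).1 (Subgroup.mem_subgroupOf.2 hy)
    exact Subgroup.mem_subgroupOf.1 h3
  have hPC : Subgroup.normalizer ((P : Subgroup H) : Set H) ≤
      Subgroup.centralizer ((P : Subgroup H) : Set H) := by
    rw [hPN]
    intro h hh
    have hN : h ∈ N := hnorm h fun y hy => (Subgroup.mem_normalizer_iff.1 hh y).1 hy
    rw [Subgroup.mem_centralizer_iff]
    exact fun y hy => congrArg Subtype.val (hE.1.is_comm.comm ⟨y, hy⟩ ⟨h, hN⟩)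
  set R := (MonoidHom.transferSylow P hPC).ker
  have hcompl := MonoidHom.ker_transferSylow_isComplement' P hPC
  have hndvd : ¬ p ∣ Nat.card R := MonoidHom.not_dvd_card_ker_transferSylow P hPC
  have hdisj : R ⊓ N = ⊥ := by rw [← hPN]; exact hcompl.disjoint.eq_bot
  have hR : R = ⊥ := by
    have hnormA : N ≤ Subgroup.normalizer (R : Set H) := by
      rw [Subgroup.normalizer_eq_top]; exact le_top
    rw [CfsgLib.Comp.eq_iSup_centralizer_hyperplane hE hNne hndvd hnormA]
    refine iSup_eq_bot.2 fun B => (Subgroup.eq_bot_iff_forall _).2 fun h hh => ?_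
    obtain ⟨hhR, hhC⟩ := Subgroup.mem_inf.1 hh
    have h2 := Subgroup.relIndex_mul_relIndex ⊥ B.1 N bot_le B.2.1
    rw [Subgroup.relIndex_bot_left, Subgroup.relIndex_bot_left, B.2.2] at h2
    have hB : B.1 ≠ ⊥ := fun e => by
      rw [e, Subgroup.card_bot, one_mul] at h2
      rw [← h2] at hcard
      exact absurd hcard (not_le.2 (lt_self_pow₀ hp.one_lt one_lt_two))
    obtain ⟨⟨y, hy⟩, hy1⟩ := B.1.ne_bot_iff_exists_ne_one.1 hB
    have hhN : h ∈ N := hti y (B.2.1 hy) (fun e => hy1 (Subtype.ext e)) h (by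
      rw [← Subgroup.mem_centralizer_iff.1 hhC y hy, mul_inv_cancel_right]
      exact B.2.1 hy)
    exact Subgroup.mem_bot.1 (hdisj ▸ Subgroup.mem_inf.2 ⟨hhR, hhN⟩)
  rw [← hPN]
  have := hcompl.card_mul
  rw [show (MonoidHom.transferSylow P hPC).ker = ⊥ from hR, Subgroup.card_bot, one_mul] at this
  exact Subgroup.eq_top_of_card_eq _ this

end CfsgLib.MaxSub.OExt
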