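import Cfsg.Agent.Lib.MaxSub.OExtThreeModel

/-!
The characters of the semidirect product, and induction of the virtual characters with small support.
-/

set_option autoImplicit false
set_option linter.unusedSectionVars false

namespace CfsgLib.MaxSub.OExt.Three

open CfsgLib.Char
open scoped ComplexConjugate

variable {F K : Type*} [Field F] [Fintype F] [Field K] [Fintype K] [Algebra F K]
variable {H : Type*} [Group H] {N : Subgroup H} {σ : N →* (K ≃ₐ[F] K)} {a : N → K}

namespace Model

/-- the linear characters -/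
noncomputable def phiHom (P : Model N σ a) (y : F) (w : (K ≃ₐ[F] K) →* ℂˣ) : N →* ℂˣ :=
  ({ toFun := fun x => psi F K (algebraMap F K y * a x)
     map_one' := by rw [P.a_one, mul_zero, AddChar.map_zero_eq_one]
     map_mul' := fun x z => by
      rw [P.cocycle, mul_add, AddChar.map_add_eq_mul]
      congr 1
      conv_lhs => rw [show algebraMap F K y = σ x (algebraMap F K y) from ((σ x).commutes y).symm]
      rw [← _root_.map_mul, psi_gal] } : N →* ℂ).toHomUnits * w.comp σ

theorem phiHom_apply (P : Model N σ a) (y : F) (w : (K ≃ₐ[F] K) →* ℂˣ) (x : N) :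
    (P.phiHom y w x : ℂ) = psi F K (algebraMap F K y * a x) * (w (σ x) : ℂ) := rfl

/-- the linear characters, as functions -/
noncomputable def phi (P : Model N σ a) (y : F) (w : (K ≃ₐ[F] K) →* ℂˣ) (x : N) : ℂ :=
  (P.phiHom y w x : ℂ)

theorem phi_irr (P : Model N σ a) (y : F) (w : (K ≃ₐ[F] K) →* ℂˣ) :
    Cfsg.IsIrrCharacter N (P.phi y w) := isIrrCharacter_linear _

theorem phi_el (P : Model N σ a) (y : F) (w : (K ≃ₐ[F] K) →* ℂˣ) (b : K) :
    P.phi y w (P.el b) = psi F K (algebraMap F K y * b) := by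
  rw [phi, phiHom_apply, P.sig_el, map_one, Units.val_one, mul_one, P.a_el]

theorem phi_inj (P : Model N σ a) {y y' : F} {w : (K ≃ₐ[F] K) →* ℂˣ}
    (h : P.phi y w = P.phi y' w) : y = y' := by
  classical
  by_contra hne
  have h0 : ∑ b : K, psi F K (b * (algebraMap F K y - algebraMap F K y')) =
      (Fintype.card K : ℂ) := by
    rw [Finset.sum_congr rfl fun b _ => ?_, Finset.sum_const, Finset.card_univ, Nat.smul_one_eq_cast]
    have e := congrFun h (P.el b)
    rw [P.phi_el, P.phi_el] at e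
    rw [mul_comm, sub_mul, sub_eq_add_neg, AddChar.map_add_eq_mul, e, ← AddChar.map_add_eq_mul,
      add_neg_cancel, AddChar.map_zero_eq_one]
  rw [psi_sum, if_neg (sub_ne_zero.2 fun e => hne ((algebraMap F K).injective e))] at h0
  exact Nat.cast_ne_zero.2 Fintype.card_ne_zero h0.symm

theorem phi_sub_eq_zero (P : Model N σ a) (y y' : F) (w : (K ≃ₐ[F] K) →* ℂˣ) {x : N}
    (hx : ¬ P.Dset x) : P.phi y w x - P.phi y' w x = 0 := by
  have ht : P.tr x = 0 := not_not.1 fun h => hx (Or.inl h)
  rw [tr] at ht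
  have e : ∀ t : F, psi F K (algebraMap F K t * a x) = 1 := fun t => by
    rw [psi_apply, ← Algebra.smul_def, map_smul, ht, smul_zero, AddChar.map_zero_eq_one]
  rw [phi, phi, phiHom_apply, phiHom_apply, e, e, sub_self]

open scoped Classical in
/-- the characters induced from the additive group -/
noncomputable def theta (_P : Model N σ a) (z : K) (x : N) : ℂ :=
  if σ x = 1 then ∑ g : K ≃ₐ[F] K, psi F K (g z * a x) else 0

theorem theta_el (P : Model N σ a) (z b : K) :
    P.theta z (P.el b) = ∑ g : K ≃ₐ[F] K, psi F K (g z * b) := by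
  rw [theta, if_pos (P.sig_el b), P.a_el]

theorem theta_class (P : Model N σ a) (z : K) : Cfsg.IsClassFunction N (P.theta z) := by
  intro x h
  rw [theta, theta, P.sig_comm h x]
  split_ifs with hx
  swap
  · rfl
  rw [P.eq_el hx, P.conj_el, P.a_el, P.a_el]
  refine Fintype.sum_equiv (Equiv.mulLeft (σ h)⁻¹) _ _ fun g => ?_
  rw [Equiv.coe_mulLeft, ← psi_gal F K ((σ h)⁻¹), _root_.map_mul]
  congr 2
  rw [← AlgEquiv.mul_apply, inv_mul_cancel, AlgEquiv.one_apply]

theorem theta_sub_eq_zero (P : Model N σ a) (z z' : K) {x : N} (hx : ¬ P.Dset x) :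
    P.theta z x - P.theta z' x = 0 := by
  rw [theta, theta]
  split_ifs with h
  · rw [show x = 1 from not_not.1 fun e => hx (Or.inr ⟨h, e⟩)]
    simp [P.a_one]
  · exact sub_zero _

/-- the multiplicities on the additive group -/
noncomputable def coef (P : Model N σ a) (χ : N → ℂ) (y : K) : ℂ :=
  (Fintype.card K : ℂ)⁻¹ * ∑ b : K, χ (P.el b) * psi F K (-(y * b))

theorem coef_nat (P : Model N σ a) {χ : N → ℂ} (hχ : Cfsg.IsCharacter N χ) (y : K) :
    ∃ k : ℕ, P.coef χ y = k := by
  let l : Multiplicative K →* ℂˣ := ({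
      toFun := fun b => psi F K (y * b.toAdd)
      map_one' := by simp
      map_mul' := fun b c => by rw [toAdd_mul, mul_add, AddChar.map_add_eq_mul] } :
    Multiplicative K →* ℂ).toHomUnits
  obtain ⟨k, hk⟩ := classInner_isCharacter_nat (isCharacter_comp hχ P.elHom)
    (irr_isCharacter (isIrrCharacter_linear l))
  refine ⟨k, ?_⟩
  rw [← hk, classInner_def, coef, Nat.card_eq_fintype_card, Fintype.card_multiplicative]
  congr 1
  exact Fintype.sum_equiv Multiplicative.ofAdd _ _ fun b => by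
    show χ (P.el b) * psi F K (-(y * b)) = χ (P.el b) * conj (psi F K (y * b))
    rw [psi_conj]

theorem coef_gal (P : Model N σ a) {χ : N → ℂ} (hχ : Cfsg.IsClassFunction N χ) (g : K ≃ₐ[F] K)
    (y : K) : P.coef χ (g y) = P.coef χ y := by
  obtain ⟨x, hx, -⟩ := P.surj g 0
  rw [coef, coef]
  congr 1
  refine (Fintype.sum_equiv g.toEquiv _ _ fun b => ?_).symm
  show χ (P.el b) * psi F K (-(y * b)) = χ (P.el (g b)) * psi F K (-(g y * g b))
  rw [← _root_.map_mul g, ← map_neg g, psi_gal, ← hx, ← P.conj_el, hχ]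

theorem inversion (P : Model N σ a) (χ : N → ℂ) (x : K) :
    ∑ y : K, P.coef χ y * psi F K (y * x) = χ (P.el x) := by
  classical
  simp only [coef, mul_assoc, Finset.sum_mul, ← Finset.mul_sum]
  rw [Finset.sum_comm]
  simp only [← Finset.mul_sum]
  have h : ∀ b : K, ∑ y : K, psi F K (-(y * b)) * psi F K (y * x) =
      if x - b = 0 then (Fintype.card K : ℂ) else 0 := fun b => by
    rw [← psi_sum F K]
    refine Finset.sum_congr rfl fun y _ => ?_
    rw [← AddChar.map_add_eq_mul]; ring_nf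
  simp only [h, sub_eq_zero, mul_ite, mul_zero, Finset.sum_ite_eq, Finset.mem_univ, if_true]
  rw [mul_comm (χ _), inv_mul_cancel_left₀ (Nat.cast_ne_zero.2 Fintype.card_ne_zero)]

theorem parseval (P : Model N σ a) (χ : N → ℂ) :
    ∑ b : K, χ (P.el b) * conj (χ (P.el b)) =
      (Fintype.card K : ℂ) * ∑ y : K, P.coef χ y * conj (P.coef χ y) := by
  have h : ∀ y, conj (P.coef χ y) =
      (Fintype.card K : ℂ)⁻¹ * ∑ b : K, conj (χ (P.el b)) * psi F K (y * b) := fun y => by
    simp only [coef, _root_.map_mul, map_inv₀, map_natCast, map_sum, psi_conj, neg_neg]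
  simp only [h, Finset.mul_sum, ← mul_assoc]
  rw [Finset.sum_comm]
  refine Finset.sum_congr rfl fun b _ => ?_
  conv_lhs => arg 1; rw [← P.inversion χ b]
  rw [Finset.sum_mul]
  refine Finset.sum_congr rfl fun y _ => ?_
  have := Nat.cast_ne_zero (R := ℂ).2 (Fintype.card_ne_zero (α := K))
  field_simp

theorem sum_coef (P : Model N σ a) (χ : N → ℂ) : ∑ y : K, P.coef χ y = χ 1 := by
  rw [← P.el_zero, ← P.inversion χ 0]
  simp

variable [Fintype N]

theorem sum_el (P : Model N σ a) {f : N → ℂ} (hf : ∀ x, σ x ≠ 1 → f x = 0) :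
    ∑ x : N, f x = ∑ b : K, f (P.el b) := by
  classical
  rw [← Finset.sum_filter_of_ne (p := fun x => σ x = 1) fun x _ h => not_not.1 fun e => h (hf x e)]
  refine Finset.sum_bij' (fun x _ => a x) (fun b _ => P.el b) (fun x _ => Finset.mem_univ _)
    (fun b _ => Finset.mem_filter.2 ⟨Finset.mem_univ _, P.sig_el b⟩) (fun x hx => ?_)
    (fun b _ => P.a_el b) (fun x hx => ?_)
  · exact (P.eq_el (Finset.mem_filter.1 hx).2).symm
  · rw [← P.eq_el (Finset.mem_filter.1 hx).2]

theorem inner_theta (P : Model N σ a) {χ : N → ℂ} (hχ : Cfsg.IsClassFunction N χ) (z : K) :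
    Cfsg.classInner χ (P.theta z) = P.coef χ z := by
  have hr : (Module.finrank F K : ℂ) ≠ 0 := Nat.cast_ne_zero.2 P.prime.ne_zero
  rw [classInner_def, P.sum_el fun x hx => by rw [theta, if_neg hx, map_zero, mul_zero],
    P.card_N]
  simp only [P.theta_el, map_sum, Finset.mul_sum, psi_conj]
  rw [Finset.sum_comm]
  have h : ∀ g : K ≃ₐ[F] K, ∑ b : K,
      ((Module.finrank F K * Fintype.card K : ℕ) : ℂ)⁻¹ * (χ (P.el b) * psi F K (-(g z * b))) =
      (Module.finrank F K : ℂ)⁻¹ * P.coef χ z := fun g => by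
    rw [← P.coef_gal hχ g z, coef, ← Finset.mul_sum, Nat.cast_mul, mul_inv, mul_assoc]
  rw [Finset.sum_congr rfl fun g _ => h g, Finset.sum_const, Finset.card_univ,
    ← Nat.card_eq_fintype_card, gal_card, nsmul_eq_mul, mul_inv_cancel_left₀ hr]

theorem theta_char (P : Model N σ a) (z : K) : Cfsg.IsCharacter N (P.theta z) :=
  isCharacter_of_nat (P.theta_class z) fun χ hχ => by
    obtain ⟨k, hk⟩ := P.coef_nat (irr_isCharacter hχ) z
    exact ⟨k, by rw [← classInner_conj_symm, P.inner_theta (irr_isClassFunction hχ), hk, map_natCast]⟩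

open scoped Classical in
theorem inner_theta_theta (P : Model N σ a) {z z' : K}
    (hz' : z' ∉ Set.range (algebraMap F K)) :
    Cfsg.classInner (P.theta z') (P.theta z) = if ∃ g : K ≃ₐ[F] K, g z' = z then 1 else 0 := by
  rw [P.inner_theta (P.theta_class z'), coef]
  simp only [P.theta_el, Finset.sum_mul]
  rw [Finset.sum_comm]
  have h : ∀ g : K ≃ₐ[F] K, ∑ b : K, psi F K (g z' * b) * psi F K (-(z * b)) =
      if g z' = z then (Fintype.card K : ℂ) else 0 := fun g => by
    have e := psi_sum F K (g z' - z)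
    simp only [sub_eq_zero] at e
    rw [← e]
    refine Finset.sum_congr rfl fun b _ => ?_
    rw [← AddChar.map_add_eq_mul]; ring_nf
  rw [Finset.sum_congr rfl fun g _ => h g]
  split_ifs with he
  · obtain ⟨g, hg⟩ := he
    rw [Finset.sum_eq_single g (fun g' _ hne => if_neg fun e => hne ?_)
      (fun h => absurd (Finset.mem_univ g) h), if_pos hg,
      inv_mul_cancel₀ (Nat.cast_ne_zero.2 Fintype.card_ne_zero)]
    by_contra hne'
    refine hz' (mem_range_of_fix P.prime (g := g⁻¹ * g') (fun e' => hne'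
      (inv_mul_eq_one.1 e').symm) ?_)
    rw [AlgEquiv.mul_apply, e, ← hg, ← AlgEquiv.mul_apply, inv_mul_cancel, AlgEquiv.one_apply]
  · rw [Finset.sum_eq_zero fun g _ => if_neg fun e => he ⟨g, e⟩, mul_zero]

theorem coef_phi (P : Model N σ a) (y : F) (w : (K ≃ₐ[F] K) →* ℂˣ) {z : K}
    (hz : z ∉ Set.range (algebraMap F K)) : P.coef (P.phi y w) z = 0 := by
  classical
  rw [coef, Finset.sum_congr rfl fun b _ => (show P.phi y w (P.el b) * psi F K (-(z * b)) =
    psi F K (b * (algebraMap F K y - z)) by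
      rw [P.phi_el, ← AddChar.map_add_eq_mul]; ring_nf),
    psi_sum, if_neg (sub_ne_zero.2 fun e => hz ⟨y, e⟩), mul_zero]

theorem inner_phi_theta (P : Model N σ a) (y : F) (w : (K ≃ₐ[F] K) →* ℂˣ) {z : K}
    (hz : z ∉ Set.range (algebraMap F K)) : Cfsg.classInner (P.phi y w) (P.theta z) = 0 := by
  rw [P.inner_theta (irr_isClassFunction (P.phi_irr y w)), P.coef_phi y w hz]

theorem gal_sum [Fintype ((K ≃ₐ[F] K) →* ℂˣ)] (g : K ≃ₐ[F] K) [Decidable (g = 1)] :
    ∑ w : (K ≃ₐ[F] K) →* ℂˣ, (w g : ℂ) =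
      if g = 1 then (Module.finrank F K : ℂ) else 0 := by
  classical
  have hc : commutator (K ≃ₐ[F] K) = ⊥ := by
    rw [commutator_def, Subgroup.commutator_eq_bot_iff_le_centralizer]
    exact fun g _ => Subgroup.mem_centralizer_iff.2 fun h _ => gal_comm h g
  rw [sum_linear_apply g]
  simp only [hc, Subgroup.mem_bot, Subgroup.index_bot, gal_card]

theorem sum_inner_phi [Fintype ((K ≃ₐ[F] K) →* ℂˣ)] (P : Model N σ a) (χ : N → ℂ) (y : F) :
    ∑ w : (K ≃ₐ[F] K) →* ℂˣ, Cfsg.classInner χ (P.phi y w) = P.coef χ (algebraMap F K y) := by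
  classical
  simp only [classInner_def, ← Finset.mul_sum]
  rw [Finset.sum_comm]
  have h : ∀ x : N, ∑ w : (K ≃ₐ[F] K) →* ℂˣ, χ x * conj (P.phi y w x) =
      if σ x = 1 then (Module.finrank F K : ℂ) * (χ x * psi F K (-(algebraMap F K y * a x)))
      else 0 := fun x => by
    simp only [phi, phiHom_apply, _root_.map_mul, psi_conj, ← mul_assoc]
    rw [← Finset.mul_sum, ← map_sum, gal_sum]
    split_ifs
    · rw [map_natCast]; ring
    · simp
  rw [Finset.sum_congr rfl fun x _ => h x, P.sum_el fun x hx => if_neg hx, P.card_N, coef]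
  simp only [P.sig_el, if_true, P.a_el, ← Finset.mul_sum, Nat.cast_mul, mul_inv]
  have := Nat.cast_ne_zero (R := ℂ).2 P.prime.ne_zero
  field_simp

variable [Fintype H]

theorem ind_apply (P : Model N σ a) {f : N → ℂ} (hf : Cfsg.IsClassFunction N f) {x : N} (hx : P.Dset x) :
    Cfsg.indFun N f (x : H) = f x := by
  classical
  have hterm : ∀ h : H, Cfsg.extendByZero N f (h⁻¹ * (x : H) * h) =
      if h ∈ N then f x else 0 := by
    intro h
    split_ifs with hh
    · rw [show h⁻¹ * (x : H) * h = ((⟨h, hh⟩⁻¹ * x * ⟨h, hh⟩ : N) : H) from rfl, extendByZero_coe]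
      have := hf x (⟨h, hh⟩ : N)⁻¹
      rwa [inv_inv] at this
    · by_cases hm : h⁻¹ * (x : H) * h ∈ N
      · exact absurd (by simpa using N.inv_mem (P.ti_dset hx (h := h⁻¹) (by rwa [inv_inv]))) hh
      · exact extendByZero_of_not_mem _ hm
  rw [indFun_def, Finset.sum_congr rfl fun h _ => hterm h, ← Finset.sum_filter, Finset.sum_const,
    nsmul_eq_mul, ← Fintype.card_subtype, ← Nat.card_eq_fintype_card,
    inv_mul_cancel_left₀ (Nat.cast_ne_zero.2 Nat.card_pos.ne')]

theorem ind_inner (P : Model N σ a) {f f' : N → ℂ}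
    (hD : ∀ x, ¬ P.Dset x → f x = 0) (hf' : Cfsg.IsClassFunction N f') :
    Cfsg.classInner (Cfsg.indFun N f) (Cfsg.indFun N f') = Cfsg.classInner f f' := by
  rw [frobenius_reciprocity N f _ (indFun_isClassFunction _ f'), classInner_def, classInner_def]
  congr 1
  refine Finset.sum_congr rfl fun x _ => ?_
  by_cases hx : P.Dset x
  · rw [P.ind_apply hf' hx]
  · rw [hD x hx, zero_mul, zero_mul]

end Model

end CfsgLib.MaxSub.OExt.Three
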