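import Cfsg.Agent.Lib.MaxSub.OExtThreeSpecial
import Cfsg.Agent.Lib.MaxSub.OExtThreeArith
import Cfsg.Agent.Lib.MaxSub.OExtThreeArithCubic
import Cfsg.Agent.Lib.Comp.Signalizer
import Cfsg.Agent.Lib.BlockB.Codegree

/-!
No finite group has a proper trivial-intersection subgroup isomorphic to a finite field extended by its
Galois group of prime degree with few conjugates.
-/

set_option autoImplicit false
set_option linter.unusedSectionVars false

namespace CfsgLib.MaxSub.OExt.Three

open CfsgLib.Char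
open scoped ComplexConjugate

variable {F K : Type*} [Field F] [Fintype F] [Field K] [Fintype K] [Algebra F K]

theorem psi_isIntegral (y : K) : IsIntegral ℤ (psi F K y) := by
  obtain ⟨p, hp⟩ := CharP.exists K
  have : Fact p.Prime := ⟨CharP.char_is_prime K p⟩
  refine IsIntegral.of_pow this.out.pos ?_
  rw [← AddChar.map_nsmul_eq_pow, nsmul_eq_mul, CharP.cast_eq_zero, zero_mul,
    AddChar.map_zero_eq_one]
  exact isIntegral_one

variable {H : Type*} [Group H] [Fintype H] {N : Subgroup H} [Fintype N]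
  {σ : N →* (K ≃ₐ[F] K)} {a : N → K}

namespace Model

/-- the additive group as a subgroup of the whole group -/
noncomputable def addSub (P : Model N σ a) : Subgroup H := (N.subtype.comp P.elHom).range

theorem mem_addSub (P : Model N σ a) {h : H} : h ∈ P.addSub ↔ ∃ b : K, (P.el b : H) = h :=
  ⟨fun ⟨b, hb⟩ => ⟨b.toAdd, hb⟩, fun ⟨b, hb⟩ => ⟨Multiplicative.ofAdd b, hb⟩⟩

theorem el_inj (P : Model N σ a) {b c : K} (h : (P.el b : H) = P.el c) : b = c := by
  have := congrArg a (Subtype.ext h : P.el b = P.el c)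
  rwa [P.a_el, P.a_el] at this

theorem card_addSub (P : Model N σ a) : Nat.card P.addSub = Fintype.card K := by
  rw [← Nat.card_eq_fintype_card]
  refine (Nat.card_congr (Equiv.ofBijective (fun b : K => (⟨(P.el b : H), P.mem_addSub.2 ⟨b, rfl⟩⟩ :
    P.addSub)) ⟨fun b c h => P.el_inj (by simpa using h), fun x => ?_⟩)).symm
  obtain ⟨b, hb⟩ := P.mem_addSub.1 x.2
  exact ⟨b, Subtype.ext hb⟩

theorem card_H (P : Model N σ a) :
    Nat.card H = N.index * Module.finrank F K * Fintype.card K := by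
  rw [← N.index_mul_card, P.card_N, mul_assoc]

/-- the additive group moves every other coset freely -/
theorem index_congr (P : Model N σ a) : Fintype.card K ∣ N.index - 1 := by
  classical
  let A := P.addSub
  let x₀ : H ⧸ N := ((1 : H) : H ⧸ N)
  have hst : ∀ x : H ⧸ N, x ≠ x₀ → MulAction.stabilizer A x = ⊥ := by
    intro x hx
    refine (Subgroup.eq_bot_iff_forall _).2 fun y hy => ?_
    obtain ⟨h, rfl⟩ := QuotientGroup.mk_surjective x
    obtain ⟨b, hb⟩ := P.mem_addSub.1 y.2
    by_contra hne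
    have hb0 : b ≠ 0 := fun e => hne (Subtype.ext (by rw [← hb, e, P.el_zero]; rfl))
    have hy' : (((y : H) * h : H) : H ⧸ N) = (h : H ⧸ N) := hy
    rw [eq_comm, QuotientGroup.eq, ← hb, ← mul_assoc] at hy'
    refine hx (QuotientGroup.eq.2 ?_)
    rw [mul_one]
    exact P.ti _ (P.sig_el b) (P.el_ne_one hb0) h⁻¹ (by rwa [inv_inv])
  have hst0 : MulAction.stabilizer A x₀ = ⊤ := by
    refine eq_top_iff.2 fun y _ => ?_
    obtain ⟨b, hb⟩ := P.mem_addSub.1 y.2
    show (((y : H) * 1 : H) : H ⧸ N) = x₀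
    rw [QuotientGroup.eq, mul_one, mul_one, ← hb]
    exact inv_mem (P.el b).2
  have := Fintype.ofFinite (MulAction.orbitRel.Quotient A (H ⧸ N))
  have hc : N.index = ∑ w : MulAction.orbitRel.Quotient A (H ⧸ N),
      Nat.card (A ⧸ MulAction.stabilizer A w.out) := by
    rw [Subgroup.index, Nat.card_congr (MulAction.selfEquivSigmaOrbitsQuotientStabilizer A (H ⧸ N)),
      Nat.card_sigma]
  have hout : (Quotient.mk'' x₀ : MulAction.orbitRel.Quotient A (H ⧸ N)).out = x₀ := by
    obtain ⟨y, hy⟩ := Quotient.exact' (Quotient.out_eq'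
      (Quotient.mk'' x₀ : MulAction.orbitRel.Quotient A (H ⧸ N)))
    rw [← hy]
    exact MulAction.mem_stabilizer_iff.1 (by rw [hst0]; exact Subgroup.mem_top y)
  rw [hc, ← Finset.add_sum_erase _ _ (Finset.mem_univ (Quotient.mk'' x₀ :
    MulAction.orbitRel.Quotient A (H ⧸ N))), hout, hst0]
  have h1 : Nat.card (A ⧸ (⊤ : Subgroup A)) = 1 := Subgroup.index_top
  rw [h1, Nat.add_sub_cancel_left]
  refine Finset.dvd_sum fun w hw => ?_
  rw [hst w.out fun e => Finset.ne_of_mem_erase hw (by rw [← e, Quotient.out_eq']), ← P.card_addSub]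
  exact dvd_of_eq (Nat.card_congr (QuotientGroup.quotientBot (G := A)).toEquiv).symm

/-- a normal subgroup meeting the additive group trivially is trivial -/
theorem normal_eq_bot (P : Model N σ a) (hQ : ∀ p : ℕ, p.Prime → (p : K) = 0 →
    p * Fintype.card F < Fintype.card K) (Kc : Subgroup H) [Kc.Normal]
    (hKc : ∀ b : K, (P.el b : H) ∈ Kc → b = 0) : Kc = ⊥ := by
  classical
  obtain ⟨p, hp⟩ := CharP.exists K
  have : Fact p.Prime := ⟨CharP.char_is_prime K p⟩
  have hlt := hQ p this.out (CharP.cast_eq_zero K p)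
  have hE : Cfsg.IsElementaryAbelian p P.addSub := by
    refine ⟨⟨⟨fun x y => Subtype.ext ?_⟩⟩, fun x hx => ?_⟩
    · obtain ⟨b, hb⟩ := P.mem_addSub.1 x.2
      obtain ⟨c, hc⟩ := P.mem_addSub.1 y.2
      show (x : H) * y = y * x
      rw [← hb, ← hc, ← Subgroup.coe_mul, ← Subgroup.coe_mul, ← P.el_add, ← P.el_add, add_comm]
    · obtain ⟨b, rfl⟩ := P.mem_addSub.1 hx
      have h : ∀ j : ℕ, P.el b ^ j = P.el (j • b) := fun j => by
        induction j with
        | zero => rw [pow_zero, zero_smul, P.el_zero]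
        | succ j ih => rw [pow_succ, ih, ← P.el_add, succ_nsmul]
      rw [← SubgroupClass.coe_pow, h, nsmul_eq_mul, CharP.cast_eq_zero, zero_mul, P.el_zero]
      rfl
  have hnormA : P.addSub ≤ Subgroup.normalizer (Kc : Set H) := by
    rw [Subgroup.normalizer_eq_top]; exact le_top
  -- centralisers of single elements
  have hcen : ∀ (b : K) (h : H), b ∉ Set.range (algebraMap F K) →
      h * (P.el b : H) = (P.el b : H) * h → h ∈ Kc → h = 1 := by
    intro b h hb e hh
    obtain ⟨hN, hfix⟩ := (P.centralizer_eq (fun e0 => hb ⟨0, by rw [e0, map_zero]⟩) h).1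
      (Subgroup.mem_centralizer_singleton_iff.2 e)
    have h1 : σ ⟨h, hN⟩ = 1 := by
      by_contra hne; exact hb (mem_range_of_fix P.prime hne hfix)
    have h2 := P.eq_el h1
    have h3 : a ⟨h, hN⟩ = 0 := hKc _ (by rw [← h2]; exact hh)
    rw [show h = ((⟨h, hN⟩ : N) : H) from rfl, h2, h3, P.el_zero]
    rfl
  obtain ⟨b₀, hb₀⟩ : ∃ b : K, b ∉ Set.range (algebraMap F K) := by
    by_contra hall
    push Not at hall
    have := Fintype.card_le_of_surjective _ (fun k => hall k : Function.Surjective (algebraMap F K))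
    have h2 : 1 * Fintype.card F ≤ p * Fintype.card F :=
      Nat.mul_le_mul_right _ (Fact.out (p := p.Prime)).one_le
    omega
  -- counting
  let act : MulAction P.addSub Kc :=
    { smul := fun x k => ⟨(x : H) * k * (x : H)⁻¹, Subgroup.Normal.conj_mem ‹_› _ k.2 _⟩
      one_smul := fun k => Subtype.ext (by simp [HSMul.hSMul, SMul.smul])
      mul_smul := fun x y k => Subtype.ext (by simp [HSMul.hSMul, SMul.smul, mul_assoc]) }
  have hndvd : ¬ p ∣ Nat.card Kc := by
    have hpg : IsPGroup p P.addSub := CfsgLib.Comp.isPGroup_of_elemAb hE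
    have h := hpg.card_modEq_card_fixedPoints Kc
    have hfix : Nat.card (MulAction.fixedPoints P.addSub Kc) = 1 := by
      rw [Nat.card_eq_one_iff_unique]
      refine ⟨⟨fun x y => ?_⟩, ⟨⟨1, fun g => Subtype.ext (show (g : H) * 1 * (g : H)⁻¹ = 1 by group)⟩⟩⟩
      suffices h1 : ∀ z : MulAction.fixedPoints P.addSub Kc, (z.1 : H) = 1 from
        Subtype.ext (Subtype.ext ((h1 x).trans (h1 y).symm))
      intro z
      refine hcen b₀ _ hb₀ ?_ z.1.2
      have := congrArg Subtype.val (z.2 ⟨(P.el b₀ : H), P.mem_addSub.2 ⟨b₀, rfl⟩⟩)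
      change (P.el b₀ : H) * (z.1 : H) * (P.el b₀ : H)⁻¹ = z.1 at this
      rw [mul_inv_eq_iff_eq_mul] at this
      exact this.symm
    rw [hfix] at h
    intro hd
    have h0 : 1 ≡ 0 [MOD p] := h.symm.trans (Nat.modEq_zero_iff_dvd.2 hd)
    rw [Nat.modEq_zero_iff_dvd, Nat.dvd_one] at h0
    exact (Fact.out (p := p.Prime)).one_lt.ne' h0
  have hne : P.addSub ≠ ⊥ := fun e => hb₀ ⟨0, by
    have h : (P.el b₀ : H) ∈ P.addSub := P.mem_addSub.2 ⟨b₀, rfl⟩
    rw [e, Subgroup.mem_bot] at h
    rw [map_zero]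
    exact (P.el_inj (b := b₀) (c := 0) (by rw [h, P.el_zero]; rfl)).symm⟩
  rw [CfsgLib.Comp.eq_iSup_centralizer_hyperplane hE hne hndvd hnormA]
  refine iSup_eq_bot.2 fun B => (Subgroup.eq_bot_iff_forall _).2 fun h hh => ?_
  obtain ⟨hhK, hhC⟩ := Subgroup.mem_inf.1 hh
  obtain ⟨b, hbB, hb⟩ : ∃ b : K, (P.el b : H) ∈ B.1 ∧ b ∉ Set.range (algebraMap F K) := by
    by_contra hall
    push Not at hall
    have h1 : Nat.card B.1 ≤ Fintype.card F := by
      rw [← Nat.card_eq_fintype_card]
      refine Nat.card_le_card_of_surjective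
        (fun t : F => if ht : (P.el (algebraMap F K t) : H) ∈ B.1 then (⟨_, ht⟩ : B.1) else 1)
        fun x => ?_
      obtain ⟨b, hb⟩ := P.mem_addSub.1 (B.2.1 x.2)
      obtain ⟨t, rfl⟩ := hall b (hb ▸ x.2)
      exact ⟨t, by dsimp only; rw [dif_pos (hb ▸ x.2)]; exact Subtype.ext hb⟩
    have h2 := Subgroup.relIndex_mul_relIndex ⊥ B.1 P.addSub bot_le B.2.1
    rw [Subgroup.relIndex_bot_left, Subgroup.relIndex_bot_left, B.2.2, P.card_addSub] at h2
    have h3 := Nat.mul_le_mul_left p h1
    rw [mul_comm] at h2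
    omega
  exact hcen b h hb (Subgroup.mem_centralizer_iff.1 hhC _ hbB).symm hhK

/-- the degree of the exceptional characters is not the degree of the extension -/
theorem degree_ne (P : Model N σ a) (hQ : ∀ p : ℕ, p.Prime → (p : K) = 0 →
    p * Fintype.card F < Fintype.card K) (hN : ∃ h, h ∉ N) {t : ℕ} {rep : Fin t → K}
    {μ : Fin t → Cfsg.IrrCharacter H}
    (hcov : ∀ z : K, z ∉ Set.range (algebraMap F K) → ∃ l, ∃ g : K ≃ₐ[F] K, g (rep l) = z)
    (h1 : ∀ l, (μ l : H → ℂ) 1 = (Module.finrank F K : ℂ))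
    (hval : ∀ l (b : K), b ≠ 0 →
      (μ l : H → ℂ) (P.el b) = ∑ g : K ≃ₐ[F] K, psi F K (g (rep l) * b)) : False := by
  classical
  have : NeZero (Module.finrank F K) := ⟨P.prime.ne_zero⟩
  have hgal : Fintype.card (K ≃ₐ[F] K) = Module.finrank F K := by
    rw [← Nat.card_eq_fintype_card]; exact gal_card
  let Kc : Subgroup H := ⨅ l, CfsgLib.BlockB.charKer (μ l)
  have hmem : ∀ {h}, h ∈ Kc ↔ ∀ l, (μ l : H → ℂ) h = (μ l : H → ℂ) 1 := fun {h} => by
    simp only [Kc, Subgroup.mem_iInf, CfsgLib.BlockB.mem_charKer]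
  have : Kc.Normal := Subgroup.normal_iInf_normal fun l => inferInstance
  have hbot : Kc = ⊥ := by
    refine P.normal_eq_bot hQ Kc fun b hb => ?_
    by_contra hb0
    have hone : ∀ z : K, z ∉ Set.range (algebraMap F K) → psi F K (z * b) = 1 := by
      intro z hz
      obtain ⟨l, g₀, rfl⟩ := hcov z hz
      have h := hmem.1 hb l
      rw [hval l b hb0, h1] at h
      have hre : ∑ g : K ≃ₐ[F] K, (psi F K (g (rep l) * b)).re = ∑ _g : K ≃ₐ[F] K, (1 : ℝ) := by
        rw [← Complex.re_sum, h, Finset.sum_const, Finset.card_univ, hgal]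
        simp
      have hle : ∀ g : K ≃ₐ[F] K, (psi F K (g (rep l) * b)).re ≤ 1 := fun g =>
        (Complex.re_le_norm _).trans (by rw [AddChar.norm_apply])
      have h2 := (Finset.sum_eq_sum_iff_of_le fun g _ => hle g).1 hre g₀ (Finset.mem_univ _)
      have h3 := Complex.normSq_apply (psi F K (g₀ (rep l) * b))
      rw [Complex.normSq_eq_norm_sq, AddChar.norm_apply, h2] at h3
      refine Complex.ext h2 ?_
      rw [Complex.one_im]
      exact mul_self_eq_zero.1 (by linarith)
    obtain ⟨z, hz⟩ : ∃ b : K, b ∉ Set.range (algebraMap F K) := by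
      by_contra hall
      push Not at hall
      obtain ⟨p, hp⟩ := CharP.exists K
      have := hQ p (CharP.char_is_prime K p) (CharP.cast_eq_zero K p)
      have h2 := Fintype.card_le_of_surjective _
        (fun k => hall k : Function.Surjective (algebraMap F K))
      have h3 : 1 * Fintype.card F ≤ p * Fintype.card F :=
        Nat.mul_le_mul_right _ (CharP.char_is_prime K p).one_le
      omega
    have hall : ∀ y : K, psi F K (y * b) = 1 := fun y => by
      by_cases hy : y ∈ Set.range (algebraMap F K)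
      · have hyz : y + z ∉ Set.range (algebraMap F K) := fun ⟨t, ht⟩ => by
          obtain ⟨s, rfl⟩ := hy
          exact hz ⟨t - s, by rw [map_sub, ht, add_sub_cancel_left]⟩
        have := hone _ hyz
        rwa [add_mul, AddChar.map_add_eq_mul, hone z hz, mul_one] at this
      · exact hone y hy
    have := psi_sum F K b
    rw [Finset.sum_congr rfl fun y _ => hall y, if_neg hb0, Finset.sum_const, Finset.card_univ,
      Nat.smul_one_eq_cast] at this
    exact Nat.cast_ne_zero.2 Fintype.card_ne_zero this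
  obtain ⟨h, hh⟩ := hN
  refine hh ?_
  have hcomm : h * (P.el 1 : H) * h⁻¹ * (P.el 1 : H)⁻¹ ∈ Kc := hmem.2 fun l => by
    obtain ⟨d, ρ, hρ, hχ⟩ := (μ l).2
    have h2 := h1 l
    rw [← hχ, Representation.char_one] at h2
    have hn : ‖ρ.character (P.el 1 : H)‖ = (Module.finrank ℂ (Fin d → ℂ) : ℝ) := by
      rw [hχ, hval l 1 one_ne_zero]
      simp only [mul_one, psi_gal, Finset.sum_const, Finset.card_univ, hgal, nsmul_eq_mul,
        norm_mul, AddChar.norm_apply, Complex.norm_natCast]
      exact congrArg Nat.cast (Nat.cast_injective h2).symm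
    obtain ⟨w, hw, -⟩ := eq_smul_id_of_norm_char_eq ρ _ hn
    rw [← hχ, Representation.char_one]
    show LinearMap.trace ℂ _ (ρ _) = _
    have e : ρ (h * (P.el 1 : H) * h⁻¹ * (P.el 1 : H)⁻¹) = 1 := by
      have hc : ρ h * ρ (P.el 1 : H) = ρ (P.el 1 : H) * ρ h := by
        rw [hw]; exact LinearMap.ext fun x => by simp
      rw [_root_.map_mul, _root_.map_mul, _root_.map_mul, hc, mul_assoc (ρ (P.el 1 : H)),
        ← _root_.map_mul, mul_inv_cancel, _root_.map_one, mul_one, ← _root_.map_mul, mul_inv_cancel,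
        _root_.map_one]
    rw [e, LinearMap.trace_one]
  rw [hbot, Subgroup.mem_bot, mul_inv_eq_one, mul_inv_eq_iff_eq_mul] at hcomm
  exact ((P.centralizer_eq one_ne_zero h).1 (Subgroup.mem_centralizer_singleton_iff.2 hcomm)).choose

end Model

/-- no such configuration -/
theorem false_of_model {a : N → K} (P : Model N σ a) (hr3 : 3 ≤ Module.finrank F K)
    (hodd : Odd (Fintype.card F)) (hN : ∃ h, h ∉ N)
    (hbound : N.index * (Fintype.card K - Fintype.card F) ≤
      (Fintype.card F + 1) * Fintype.card F ^ (3 * Module.finrank F K - 3)) : False := by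
  classical
  obtain ⟨p, hpc⟩ := CharP.exists F
  obtain ⟨e, hp, hq⟩ := FiniteField.card F p
  have : CharP K p := charP_of_injective_algebraMap (algebraMap F K).injective p
  have hq3 : 3 ≤ Fintype.card F := by
    rcases hodd with ⟨k, hk⟩
    have := Fintype.one_lt_card (α := F)
    omega
  set q := Fintype.card F with hqdef
  set r := Module.finrank F K with hrdef
  have hQ : Fintype.card K = q ^ r := Module.card_eq_pow_finrank
  have hlt : ∀ l : ℕ, l.Prime → (l : K) = 0 → l * q < Fintype.card K := by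
    intro l hl hl0
    have hlp : l = p := by
      rw [CharP.cast_eq_zero_iff K p] at hl0
      exact ((Nat.prime_dvd_prime_iff_eq hp hl).1 hl0).symm
    subst hlp
    have h1 : l ≤ q := by rw [hq]; exact Nat.le_self_pow e.pos.ne' l
    calc l * q ≤ q * q := Nat.mul_le_mul_right q h1
      _ = q ^ 2 := (sq q).symm
      _ < q ^ r := Nat.pow_lt_pow_right (by omega) (by omega)
      _ = _ := hQ.symm
  have h3 : 3 * r + q ≤ Fintype.card K := by
    have h1 : ∀ j, 6 * (j + 3) ≤ 3 ^ (j + 3) := fun j => by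
      induction j with
      | zero => norm_num
      | succ j ih => rw [show j + 1 + 3 = (j + 3) + 1 by omega, pow_succ]; omega
    have h2 := h1 (r - 3)
    rw [show r - 3 + 3 = r by omega] at h2
    have h4 : 3 ^ r ≤ Fintype.card K := hQ ▸ Nat.pow_le_pow_left hq3 r
    have h5 : 3 * q ≤ Fintype.card K := by
      rw [hQ, show r = r - 1 + 1 by omega, pow_succ]
      exact Nat.mul_le_mul_right q (hq3.trans (Nat.le_self_pow (by omega) q))
    omega
  obtain ⟨t, rep, δ, m, μ, hQt, hδ, hμ, hcov, hdeg, hval⟩ := P.exists_special hq3 h3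
  rw [← hqdef, ← hrdef] at hQt
  have ht : 0 < t := Nat.pos_of_ne_zero fun h => by subst h; omega
  let l₀ : Fin t := ⟨0, ht⟩
  obtain ⟨d, hd0, hd⟩ := irr_apply_one_pos (μ l₀).2
  have hdZ : (d : ℤ) = m * Fintype.card K + δ * r := by
    have := hdeg l₀
    rw [hd] at this
    exact_mod_cast this
  have hdall : ∀ l, (μ l : H → ℂ) 1 = (d : ℂ) := fun l => by rw [hdeg, ← hdZ, Int.cast_natCast]
  have hdr : d ≠ r := by
    intro hdr
    have hQZ : (3 : ℤ) * r + q ≤ Fintype.card K := by exact_mod_cast h3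
    have hm : m = 0 ∧ δ = 1 := by
      rcases lt_trichotomy m 0 with hm | rfl | hm
      · have h1 : m * (Fintype.card K : ℤ) ≤ -1 * Fintype.card K :=
          mul_le_mul_of_nonneg_right (by omega) (Int.natCast_nonneg _)
        rcases hδ with rfl | rfl <;> omega
      · rcases hδ with rfl | rfl
        · exact ⟨rfl, rfl⟩
        · omega
      · have h1 : 1 * (Fintype.card K : ℤ) ≤ m * Fintype.card K :=
          mul_le_mul_of_nonneg_right (by omega) (Int.natCast_nonneg _)
        rcases hδ with rfl | rfl <;> omega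
    obtain ⟨rfl, rfl⟩ := hm
    exact P.degree_ne hlt hN hcov (fun l => by rw [hdall, hdr]) fun l b hb => by
      rw [hval l b hb, Int.cast_one, one_mul]
  have hcard : Nat.card H = N.index * r * Fintype.card K := P.card_H
  -- divisibility
  have hdvd : d ∣ N.index * r := by
    obtain ⟨k, ρ, hρ, hχ⟩ := (μ l₀).2
    have hk : Module.finrank ℂ (Fin k → ℂ) = d := by
      rw [← hχ, Representation.char_one] at hd; exact_mod_cast hd
    refine dvd_of_isIntegral_div hd0 ?_
    have hind : (Subgroup.centralizer ({(P.el 1 : H)} : Set H)).index = N.index := by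
      have h := (Subgroup.centralizer ({(P.el 1 : H)} : Set H)).index_mul_card
      rw [P.card_centralizer one_ne_zero, if_pos ⟨1, map_one _⟩, hcard, mul_assoc (N.index)] at h
      exact Nat.eq_of_mul_eq_mul_right (Nat.mul_pos P.prime.pos Fintype.card_pos) h
    have h := centralChar_isIntegral ρ (P.el 1 : H)
    rw [hk, hχ, hind, hval l₀ 1 one_ne_zero] at h
    simp only [mul_one, psi_gal, Finset.sum_const, Finset.card_univ, nsmul_eq_mul,
      ← Nat.card_eq_fintype_card (α := K ≃ₐ[F] K), gal_card] at h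
    have h2 := h.mul (((isIntegral_intCast δ).mul (psi_isIntegral (F := F) (-rep l₀))))
    have hψ : psi F K (rep l₀) * psi F K (-rep l₀) = 1 := by
      rw [← AddChar.map_add_eq_mul, add_neg_cancel, AddChar.map_zero_eq_one]
    have hδ2 : (δ : ℂ) * δ = 1 := by rcases hδ with rfl | rfl <;> norm_num
    have key : (N.index : ℂ) * ((δ : ℂ) * ((r : ℂ) * psi F K (rep l₀))) / (d : ℂ) *
        ((δ : ℂ) * psi F K (-rep l₀)) = ((N.index * r : ℕ) : ℂ) / (d : ℂ) := by
      push_cast
      linear_combination ((N.index : ℂ) * r / d) * ((δ : ℂ) * δ) * hψ + ((N.index : ℂ) * r / d) * hδ2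
    rwa [key] at h2
  have hsq : t * (d * d) ≤ N.index * r * Fintype.card K := by
    have := Fintype.ofFinite (Cfsg.IrrCharacter H)
    choose f hf0 hf using fun χ : Cfsg.IrrCharacter H => irr_apply_one_pos χ.2
    have hs : ∑ χ : Cfsg.IrrCharacter H, f χ * f χ = Nat.card H := by
      have h := sum_irr_sq (G := H)
      simp only [hf, sq] at h
      exact_mod_cast h
    rw [← hcard, ← hs]
    have hfl : ∀ l, f (μ l) = d := fun l => by
      have h := hdall l; rw [hf] at h; exact_mod_cast h
    calc t * (d * d) = ∑ l : Fin t, f (μ l) * f (μ l) := by simp [hfl]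
      _ = ∑ χ ∈ Finset.univ.map ⟨μ, hμ⟩, f χ * f χ := by rw [Finset.sum_map]; rfl
      _ ≤ _ := Finset.sum_le_sum_of_subset (Finset.subset_univ _)
  have hn2 : 2 ≤ N.index := by
    have h1 : N.index ≠ 1 := fun e1 => by
      obtain ⟨h, hh⟩ := hN
      exact hh (Subgroup.index_eq_one.1 e1 ▸ Subgroup.mem_top h)
    have := Subgroup.index_ne_zero_of_finite (H := N)
    omega
  have hsub : Fintype.card K - q = r * t := by omega
  rw [hsub] at hbound
  rcases Nat.lt_or_ge r 5 with h5 | h5
  · have hr : r = 3 := by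
      obtain ⟨j, hj⟩ := P.prime.odd_of_ne_two (by omega)
      omega
    have hp2 : p ≠ 2 := fun e2 => by
      rw [hq, e2] at hodd
      exact Nat.not_odd_iff_even.2 (even_two.pow_of_ne_zero e.pos.ne') hodd
    rw [hr] at hQt hQ hdr hdZ hdvd hsq hbound
    rw [hq] at hQt hQ hbound
    exact arith_three hp e.pos hp2 hQ hQt hδ hdZ hd0 hdr hdvd hsq P.index_congr hn2 hbound
  have hbound' : N.index * (r * t) ≤ 2 * q ^ (3 * r - 2) := hbound.trans (by
    rw [show 3 * r - 2 = 3 * r - 3 + 1 by omega, pow_succ]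
    calc (q + 1) * q ^ (3 * r - 3) ≤ (2 * q) * q ^ (3 * r - 3) := Nat.mul_le_mul_right _ (by omega)
      _ = _ := by ring)
  rw [hq] at hQt hQ hq3 hbound'
  exact arith hp e.pos P.prime h5 hq3 hQ hQt hδ hdZ hd0 hdr hdvd hsq P.index_congr hn2 hbound'

end CfsgLib.MaxSub.OExt.Three
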