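import Cfsg.Agent.Lib.MaxSub.OExtThreeChars

/-!
The exceptional characters of a group with such a subgroup: their values are forced by the second
orthogonality relation.
-/

set_option autoImplicit false
set_option linter.unusedSectionVars false

namespace CfsgLib.MaxSub.OExt.Three

open CfsgLib.Char
open scoped ComplexConjugate

variable {F K : Type*} [Field F] [Fintype F] [Field K] [Fintype K] [Algebra F K]
variable {H : Type*} [Group H] [Fintype H] {N : Subgroup H} [Fintype N]
  {σ : N →* (K ≃ₐ[F] K)} {a : N → K}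

/-- the squared norm off the identity, from the multiplicities -/
theorem norm_identity {ι κ : Type*} [Fintype ι] [Fintype κ] (r : ℕ) (A m : ℤ) (i : ι → ℤ)
    (j : κ → ℤ) :
    ((Fintype.card ι + r * Fintype.card κ : ℕ) : ℤ) *
        (∑ y, (A + i y) ^ 2 + r * ∑ l, (m + j l) ^ 2) -
      (∑ y, (A + i y) + r * ∑ l, (m + j l)) ^ 2 =
    ((Fintype.card ι + r * Fintype.card κ : ℕ) : ℤ) *
        (∑ y, i y ^ 2 + r * ∑ l, j l ^ 2) - (∑ y, i y + r * ∑ l, j l) ^ 2 +
      Fintype.card ι * (r * Fintype.card κ) * (A - m) ^ 2 +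
      2 * (A - m) * ((r * Fintype.card κ) * ∑ y, i y - Fintype.card ι * (r * ∑ l, j l)) := by
  simp only [Finset.sum_add_distrib, add_sq, Finset.sum_const, Finset.card_univ, nsmul_eq_mul,
    ← Finset.mul_sum, ← Finset.sum_mul, Nat.cast_add, Nat.cast_mul]
  ring

namespace Model

/-- the restriction of a character -/
def res (_P : Model N σ a) (χ : Cfsg.IrrCharacter H) : N → ℂ := fun x => (χ : H → ℂ) x

theorem res_char (P : Model N σ a) (χ : Cfsg.IrrCharacter H) : Cfsg.IsCharacter N (P.res χ) :=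
  isCharacter_restrict (irr_isCharacter χ.2) N

open scoped Classical in
/-- a family with small support and its irreducible partners -/
theorem exists_family (P : Model N σ a) {ι : Type*} [Fintype ι] (f : ι → N → ℂ) (i₀ : ι)
    (hf : ∀ i, Cfsg.IsCharacter N (f i)) (h1 : ∀ i, f i 1 = f i₀ 1)
    (hsupp : ∀ i x, ¬ P.Dset x → f i x - f i₀ x = 0)
    (horth : ∀ i j, Cfsg.classInner (f i) (f j) = if i = j then 1 else 0) :
    ∃ (δ : ℤ) (μ : ι → Cfsg.IrrCharacter H) (m : Cfsg.IrrCharacter H → ℤ),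
      (δ = 1 ∨ δ = -1) ∧ Function.Injective μ ∧
      (∀ i, (μ i : H → ℂ) 1 = (μ i₀ : H → ℂ) 1) ∧
      (∀ i j, Cfsg.indFun N (f i - f j) = (δ : ℂ) • ((μ i : H → ℂ) - μ j)) ∧
      ∀ χ i, Cfsg.classInner (f i) (P.res χ) = ((δ * (if χ = μ i then 1 else 0) + m χ : ℤ) : ℂ) := by
  let e := (Fintype.equivFin ι).symm
  let k₀ := e.symm i₀
  have hek : e k₀ = i₀ := e.apply_symm_apply i₀
  have hgen : ∀ i j, Cfsg.IsGeneralizedCharacter N (f i - f j) := fun i j =>
    isGeneralized_sub (isGeneralized_of_isCharacter (hf i)) (isGeneralized_of_isCharacter (hf j))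
  have hs : ∀ i x, ¬ P.Dset x → (f i - f i₀) x = 0 := fun i x hx => hsupp i x hx
  obtain ⟨ε, hε, ν, hν, hinj, hτ⟩ := coherent_family (Fintype.card ι) k₀
    (fun k => Cfsg.indFun N (f (e k) - f i₀)) (by simp [hek, indFun_zero])
    (fun k => isGeneralized_indFun _ (hgen _ _))
    (fun k => by simp [indFun_apply_one, h1 (e k)])
    (fun k l hk hl => by
      have hk' : e k ≠ i₀ := fun h => hk (by rw [← hek] at h; exact e.injective h)
      have hl' : i₀ ≠ e l := fun h => hl (by rw [← hek] at h; exact e.injective h.symm)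
      rw [P.ind_inner (hs _) (isGeneralized_isClassFunction (hgen _ _))]
      simp only [classInner_sub_left, classInner_sub_right, horth, e.injective.eq_iff, hk', hl',
        if_true, if_false]
      split_ifs <;> norm_num)
  obtain ⟨δ, hδ, hδε⟩ : ∃ δ : ℤ, (δ = 1 ∨ δ = -1) ∧ (δ : ℂ) = ε := by
    rcases hε with rfl | rfl
    · exact ⟨1, Or.inl rfl, by norm_num⟩
    · exact ⟨-1, Or.inr rfl, by norm_num⟩
  let μ : ι → Cfsg.IrrCharacter H := fun i => ⟨ν (e.symm i), hν _⟩
  have hτ' : ∀ i, Cfsg.indFun N (f i - f i₀) = (δ : ℂ) • ((μ i : H → ℂ) - μ i₀) := fun i => by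
    have := hτ (e.symm i)
    rw [e.apply_symm_apply] at this
    rw [hδε]; exact this
  have hdiff : ∀ i j, Cfsg.indFun N (f i - f j) = (δ : ℂ) • ((μ i : H → ℂ) - μ j) := fun i j => by
    rw [← sub_sub_sub_cancel_right (f i) (f j) (f i₀), indFun_sub, hτ', hτ', ← smul_sub,
      sub_sub_sub_cancel_right]
  have hμ : Function.Injective μ := fun i j h =>
    e.symm.injective (hinj (congrArg Subtype.val h))
  have hχ : ∀ χ : Cfsg.IrrCharacter H, ∃ k : ℤ, Cfsg.classInner (f i₀) (P.res χ) = k := fun χ =>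
    classInner_isGeneralized_int (isGeneralized_of_isCharacter (hf i₀))
      (isGeneralized_of_isCharacter (P.res_char χ))
  choose k hk using hχ
  refine ⟨δ, μ, fun χ => k χ - δ * (if χ = μ i₀ then 1 else 0), hδ, hμ, fun i => ?_, hdiff,
    fun χ i => ?_⟩
  · have h := congrFun (hτ' i) 1
    rw [indFun_apply_one, Pi.sub_apply, h1, sub_self, mul_zero, Pi.smul_apply, Pi.sub_apply,
      eq_comm, smul_eq_zero, sub_eq_zero] at h
    exact h.resolve_left (Int.cast_ne_zero.2 (by omega))
  · have h := frobenius_reciprocity N (f i - f i₀) (χ : H → ℂ) (irr_isClassFunction χ.2)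
    rw [hdiff, classInner_smul_left, classInner_sub_left, irr_classInner (μ i).2 χ.2,
      irr_classInner (μ i₀).2 χ.2, classInner_sub_left] at h
    simp only [← Subtype.ext_iff, eq_comm (b := χ)] at h
    change (δ : ℂ) * _ = Cfsg.classInner (f i) (P.res χ) - Cfsg.classInner (f i₀) (P.res χ) at h
    rw [hk] at h
    push_cast
    linear_combination -h

/-- orthogonal families have different partners -/
theorem family_disjoint (P : Model N σ a) {ι κ : Type*} [Nontrivial ι] [Nontrivial κ]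
    {f : ι → N → ℂ} {f' : κ → N → ℂ} (hclass : ∀ l, Cfsg.IsClassFunction N (f' l))
    (hsupp : ∀ i j x, ¬ P.Dset x → f i x - f j x = 0)
    (horth : ∀ i l, Cfsg.classInner (f i) (f' l) = 0)
    {δ δ' : ℤ} (hδ : δ = 1 ∨ δ = -1) (hδ' : δ' = 1 ∨ δ' = -1)
    {μ : ι → Cfsg.IrrCharacter H} {μ' : κ → Cfsg.IrrCharacter H}
    (hμ : Function.Injective μ) (hμ' : Function.Injective μ')
    (hd : ∀ i j, Cfsg.indFun N (f i - f j) = (δ : ℂ) • ((μ i : H → ℂ) - μ j))
    (hd' : ∀ i j, Cfsg.indFun N (f' i - f' j) = (δ' : ℂ) • ((μ' i : H → ℂ) - μ' j))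
    (i : ι) (l : κ) : μ i ≠ μ' l := by
  classical
  intro e
  obtain ⟨j, hj⟩ := exists_ne i
  obtain ⟨l', hl'⟩ := exists_ne l
  have h := P.ind_inner (f := f i - f j) (f' := f' l - f' l') (fun x hx => hsupp i j x hx)
    (fun x y => by simp only [Pi.sub_apply, hclass l x y, hclass l' x y])
  rw [hd, hd', classInner_smul_left, classInner_smul_right] at h
  simp only [classInner_sub_left, classInner_sub_right, horth, irr_classInner (μ _).2 (μ' _).2,
    sub_self, mul_eq_zero] at h
  simp only [← Subtype.ext_iff, e, if_true] at h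
  rw [if_neg (fun h' => hl' (hμ' h').symm), if_neg (fun h' : μ j = μ' l => hj (hμ (h'.trans e.symm)))]
    at h
  rcases h with h | h | h
  · exact Int.cast_ne_zero.2 (show δ ≠ 0 by omega) h
  · rw [map_intCast] at h
    exact Int.cast_ne_zero.2 (show δ' ≠ 0 by omega) h
  · split_ifs at h <;> norm_num at h

end Model

end CfsgLib.MaxSub.OExt.Three
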