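import Cfsg.Agent.Lib.MaxSub.OExtThreeBasis

/-!
Dimension three, trace form: a semilinear isometry with a nontrivial automorphism does not fix the image
of a singular line unless some radical has a central element.
-/

set_option autoImplicit false
set_option linter.unusedSectionVars false

namespace CfsgLib.MaxSub.OExt

open CfsgLib.Classical CfsgLib.Geom
open QuadraticMap (polar)

variable {F K V : Type*} [Field F] [Field K] [Algebra F K] [AddCommGroup V] [Module K V]
  [Module F V] [IsScalarTower F K V]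

namespace Ctx

variable [Finite F] [Finite K] [Module.Finite K V] [Module.Finite F K] [FiniteDimensional F V]
  {Q : QuadraticForm F V} {φ : V →ₗ[K] V →ₗ[K] K} {τ : K →ₗ[F] F} {M : Subgroup (quadIsoms Q)}
  {u x e : V} {ε : F}

/-- without central elements no semilinear isometry with a nontrivial automorphism fixes the image of
a singular line -/
theorem fixed_small (C : Ctx Q φ τ M) (h3 : Module.finrank K V = 3)
    (hr : 3 ≤ Module.finrank F K) (hτ : ∀ z, τ z = Algebra.trace F K z)
    (T : Triple φ u x e ε) {n : quadIsoms Q} (hnM : n ∈ M) {σ : K ≃ₐ[F] K}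
    (hσ : ∀ (k : K) y, n.1 (k • y) = σ k • n.1 y) (hσ1 : σ ≠ 1) (hnu : n.1 u = u)
    (hno : ∀ v : V, v ≠ 0 → φ v v = 0 → ∀ D : K →ₗ[F] K, InZ M φ v D → D = 0)
    {g : quadIsoms Q} (hgM : g ∈ M) {w : V} (hw : w ≠ 0) (hww : φ w w = 0)
    (hfix : ∀ k : K, n.1 (g.1 (k • w)) = g.1 (k • w)) : False := by
  classical
  have := Fintype.ofFinite F
  have := Fintype.ofFinite K
  obtain ⟨A, -, hnx, hne⟩ := C.semi_shape h3 hr hτ T hnM hσ hnu
  have hue : φ u e = 0 := by rw [C.symm]; exact T.eu
  have hux : φ u x = 1 := by rw [C.symm]; exact T.xu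
  have hxe : φ x e = 0 := by rw [C.symm]; exact T.ex
  have hε : algebraMap F K ε ≠ 0 := (map_ne_zero _).2 T.eps
  have h2 := C.two'
  have hF : ∀ {k : K}, σ k = k → k ∈ Set.range (algebraMap F K) :=
    Three.mem_range_of_fix C.prime hσ1
  have hspan1 : ∀ {k : K}, σ k = k → k ∈ Submodule.span F {(1 : K)} := fun {k} hk => by
    obtain ⟨t, ht⟩ := hF hk
    exact Submodule.mem_span_singleton.2 ⟨t, by rw [← Algebra.algebraMap_eq_smul_one, ht]⟩
  let f : K →ₗ[F] V :=
    (g.1 : V →ₗ[F] V) ∘ₗ (LinearMap.toSpanSingleton K V w).restrictScalars F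
  have hfa : ∀ k, f k = g.1 (k • w) := fun k => rfl
  have hf : Function.Injective f := fun a b h => smul_left_injective K hw (g.1.injective h)
  let L : K →ₗ[F] K := (φ.flip u).restrictScalars F ∘ₗ f
  let L' : K →ₗ[F] K :=
    LinearMap.mulLeft F (algebraMap F K ε)⁻¹ ∘ₗ (φ.flip e).restrictScalars F ∘ₗ f
  let L'' : K →ₗ[F] K := (φ.flip x).restrictScalars F ∘ₗ f
  have hdec : ∀ k, f k = L k • x + L' k • e + L'' k • u := fun k => by
    conv_lhs => rw [C.triple_decomp h3 T (f k), div_eq_inv_mul]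
    rfl
  have hcoef : ∀ k, σ (L k) = L k ∧ σ (L' k) + σ (L k) * A = L' k ∧
      (L k = 0 → L' k = 0 → σ (L'' k) = L'' k) := fun k => by
    have h : n.1 (f k) = f k := hfix k
    rw [hdec, map_add, map_add, hσ, hσ, hσ, hnx, hne, hnu] at h
    have h1 := congrArg (fun y => φ y u) h
    have h2 := congrArg (fun y => φ y e) h
    have h3 := congrArg (fun y => φ y x) h
    simp only [map_add, map_sub, map_smul, LinearMap.add_apply, LinearMap.sub_apply,
      LinearMap.smul_apply, T.xu, T.eu, T.uu, hxe, T.ee, hue, T.xx, T.ex, hux, smul_eq_mul, mul_zero,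
      mul_one, add_zero, sub_zero, zero_add, zero_sub] at h1 h2 h3
    refine ⟨h1, mul_right_cancel₀ hε ?_, fun e1 e2 => ?_⟩
    · linear_combination h2
    · rw [e1, e2, map_zero] at h3
      simpa using h3
  -- normalise the basis
  obtain ⟨k₁, hk₁⟩ : ∃ k, L k ≠ 0 := by
    by_contra hall
    push Not at hall
    have h1 := LinearMap.finrank_range_add_finrank_ker L'
    have hr' : Module.finrank F (LinearMap.range L') ≤ 1 := by
      refine (Submodule.finrank_mono ?_).trans_eq (finrank_span_singleton (one_ne_zero (α := K)))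
      rintro _ ⟨k, rfl⟩
      have h := (hcoef k).2.1
      rw [hall k, map_zero, zero_mul, add_zero] at h
      exact hspan1 h
    have hk' : Module.finrank F (LinearMap.ker L') ≤ 1 := by
      let G : LinearMap.ker L' →ₗ[F] K := L'' ∘ₗ (LinearMap.ker L').subtype
      have hG : Function.Injective G := fun a b hab => by
        refine Subtype.ext (hf ?_)
        rw [hdec, hdec, hall, hall, LinearMap.mem_ker.1 a.2, LinearMap.mem_ker.1 b.2,
          show L'' a.1 = L'' b.1 from hab]
      rw [← LinearMap.finrank_range_of_inj hG]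
      refine (Submodule.finrank_mono ?_).trans_eq (finrank_span_singleton (one_ne_zero (α := K)))
      rintro _ ⟨a, rfl⟩
      exact hspan1 ((hcoef a.1).2.2 (hall _) (LinearMap.mem_ker.1 a.2))
    omega
  set b := L' k₁ / L k₁ with hb
  have hAb : A + σ b = b := by
    have h := (hcoef k₁).2.1
    rw [(hcoef k₁).1] at h
    rw [hb, map_div₀, (hcoef k₁).1]
    field_simp
    linear_combination h
  set x' := x + b • e - (b * b * algebraMap F K ε / 2) • u with hx'
  set e' := e - (b * algebraMap F K ε) • u with he'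
  have T' : Triple (F := F) φ u x' e' ε := by
    refine ⟨T.ne, T.uu, ?_, ?_, ?_, ?_, ?_, T.eps⟩ <;>
      simp only [hx', he', map_add, map_sub, map_smul, LinearMap.add_apply, LinearMap.sub_apply,
        LinearMap.smul_apply, T.xx, T.xu, T.ex, T.ee, T.eu, T.uu, hxe, hux, hue, smul_eq_mul] <;>
      field_simp <;> ring
  have hne' : n.1 e' = e' := by
    rw [he', map_sub, hσ, hne, hnu, _root_.map_mul, AlgEquiv.commutes, sub_sub, ← add_smul,
      ← add_mul, hAb]
  have hnx' : n.1 x' = x' := by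
    have hbb : σ (b * b * algebraMap F K ε / 2) =
        (b - A) * (b - A) * algebraMap F K ε / 2 := by
      rw [map_div₀, _root_.map_mul, _root_.map_mul, AlgEquiv.commutes, map_ofNat,
        show σ b = b - A by linear_combination hAb]
    rw [hx', map_sub, map_add, hσ, hσ, hnx, hne, hnu, hbb, show σ b = b - A by linear_combination hAb]
    match_scalars <;> field_simp <;> ring
  -- the fixed space
  let Φ : (Fin 3 → F) →ₗ[F] V :=
    (LinearMap.proj 0).smulRight x' + (LinearMap.proj 1).smulRight e' +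
      (LinearMap.proj 2).smulRight u
  have hΦ : ∀ p, Φ p = p 0 • x' + p 1 • e' + p 2 • u := fun p => rfl
  have hmemΦ : ∀ k, f k ∈ LinearMap.range Φ := fun k => by
    have hd := C.triple_decomp h3 T' (f k)
    have h : n.1 (f k) = f k := hfix k
    nth_rw 1 [hd] at h
    rw [map_add, map_add, hσ, hσ, hσ, hnx', hne', hnu] at h
    have hue' : φ u e' = 0 := by rw [C.symm]; exact T'.eu
    have hux' : φ u x' = 1 := by rw [C.symm]; exact T'.xu
    have hxe' : φ x' e' = 0 := by rw [C.symm]; exact T'.ex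
    have h1 := congrArg (fun y => φ y u) h
    have h2' := congrArg (fun y => φ y e') h
    have h3' := congrArg (fun y => φ y x') h
    simp only [map_add, map_smul, LinearMap.add_apply,
      LinearMap.smul_apply, T'.xu, T'.eu, T'.uu, hxe', T'.ee, hue', T'.xx, T'.ex, hux', smul_eq_mul,
      mul_zero, mul_one, add_zero, zero_add] at h1 h2' h3'
    obtain ⟨t0, ht0⟩ := hF h1
    obtain ⟨t1, ht1⟩ := hF (k := φ (f k) e' / algebraMap F K ε) (by
      rw [eq_div_iff hε]; exact h2')
    obtain ⟨t2, ht2⟩ := hF h3'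
    refine ⟨![t0, t1, t2], ?_⟩
    rw [hΦ, hd, ← ht0, ← ht1, ← ht2, algebraMap_smul, algebraMap_smul, algebraMap_smul]
    rfl
  have hle : LinearMap.range f ≤ LinearMap.range Φ := fun _ ⟨k, hk⟩ => hk ▸ hmemΦ k
  have hfr := LinearMap.finrank_range_of_inj hf
  have hΦr : Module.finrank F (LinearMap.range Φ) ≤ 3 :=
    (LinearMap.finrank_range_le Φ).trans (by simp)
  have hr3 : Module.finrank F K = 3 := by
    have := Submodule.finrank_mono hle
    omega
  have heq : LinearMap.range f = LinearMap.range Φ :=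
    Submodule.eq_of_le_of_finrank_le hle (by omega)
  have hΦf : ∀ p, ∃ k, f k = Φ p := fun p => by
    rw [← LinearMap.mem_range, heq]; exact ⟨p, rfl⟩
  -- a rational rotation
  set c := algebraMap F K ε with hc
  set e1 := x' + (c / 2) • u with he1
  set y2 := x' - (c / 2) • u with hy2
  have hxe' : φ x' e' = 0 := by rw [C.symm]; exact T'.ex
  have hux' : φ u x' = 1 := by rw [C.symm]; exact T'.xu
  have hue' : φ u e' = 0 := by rw [C.symm]; exact T'.eu
  have h11 : φ e1 e1 = c := by
    simp only [he1, map_add, map_smul, LinearMap.add_apply, LinearMap.smul_apply, T'.xx, T'.xu, hux',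
      T'.uu, smul_eq_mul]
    field_simp
    ring
  have h12 : φ e1 e' = 0 := by simp [he1, hxe', hue']
  have h21 : φ e' e1 = 0 := by rw [C.symm]; exact h12
  let R : V →ₗ[K] V := LinearMap.id +
    ((-c⁻¹) • (φ.flip e1 + φ.flip e')).smulRight e1 + (c⁻¹ • (φ.flip e1 - φ.flip e')).smulRight e'
  have hR : ∀ y, R y = y + (-c⁻¹ * (φ y e1 + φ y e')) • e1 + (c⁻¹ * (φ y e1 - φ y e')) • e' :=
    fun y => rfl
  have hiso : ∀ y z, φ (R y) (R z) = φ y z := by
    intro y z
    simp only [hR, map_add, map_smul, LinearMap.add_apply, LinearMap.smul_apply, h12, h21, h11,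
      T'.ee, smul_eq_mul, C.symm e1 z, C.symm e' z, ← hc]
    field_simp
    ring
  have hinj : Function.Injective R := LinearMap.ker_eq_bot.1 <| LinearMap.ker_eq_bot'.2
    fun y hy => C.nondeg y fun z => by rw [← hiso, hy, map_zero, LinearMap.zero_apply]
  obtain ⟨m, hm, hmx⟩ := C.mem_lin (LinearEquiv.ofInjectiveEndo R hinj) hiso
  replace hmx : ∀ y, m.1 y = R (R y) := fun y => by rw [hmx]; rfl
  have hR1 : R e1 = e' := by
    rw [hR, h11, h12]; match_scalars <;> field_simp <;> ring
  have hR2 : R e' = -e1 := by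
    rw [hR, h21, T'.ee]; match_scalars <;> field_simp <;> ring
  have hRy : R y2 = y2 := by
    have ha : φ y2 e1 = 0 := by
      simp only [hy2, he1, map_add, map_sub, map_smul, LinearMap.add_apply, LinearMap.sub_apply,
        LinearMap.smul_apply, T'.xx, T'.xu, hux', T'.uu, smul_eq_mul]
      ring
    have hb' : φ y2 e' = 0 := by simp [hy2, hxe', hue']
    rw [hR, ha, hb']; simp
  have hm1 : m.1 e1 = -e1 := by rw [hmx, hR1, hR2]
  have hm2 : m.1 y2 = y2 := by rw [hmx, hRy, hRy]
  have hme : m.1 e' = -e' := by rw [hmx, hR2, map_neg, hR1]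
  let ι := algebraMap F K
  have hΦ' : ∀ p, Φ p =
      (ι (p 0) / 2 + ι (p 2) / c) • e1 + ι (p 1) • e' + (ι (p 0) / 2 - ι (p 2) / c) • y2 := by
    intro p
    simp only [hΦ, he1, hy2, ι]
    rw [← algebraMap_smul K (p 0) x', ← algebraMap_smul K (p 1) e', ← algebraMap_smul K (p 2) u]
    clear_value x' e'
    match_scalars <;> field_simp <;> ring
  have hmK : ∀ (k : K) y, m.1 (k • y) = k • m.1 y := fun k y => by
    rw [hmx, hmx, map_smul, map_smul]
  have hmm : ∀ p, m.1 (m.1 (Φ p)) = Φ p := fun p => by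
    rw [hΦ' p]; simp only [map_add, hmK, map_neg, hm1, hm2, hme, neg_neg]
  have hmem' : ∀ p, ∃ p', m.1 (Φ p) = Φ p' := fun p =>
    ⟨![-(2 * p 2 / ε), -p 1, -(p 0 * ε / 2)], by
      rw [hΦ' p, hΦ']
      simp only [map_add, hmK, hm1, hm2, hme, Matrix.cons_val_zero, Matrix.cons_val_one,
        Matrix.cons_val, ι, map_neg, map_div₀, _root_.map_mul, map_ofNat]
      rw [← hc]
      clear_value e1 y2 e'
      match_scalars <;> field_simp <;> ring⟩
  -- pulled back to the line
  set t := g⁻¹ * m * g with ht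
  have htM : t ∈ M := mul_mem (mul_mem (inv_mem hgM) hm) hgM
  have htx : ∀ y, g.1 (t.1 y) = m.1 (g.1 y) := fun y => by
    rw [ht, mul_apply', mul_apply', inv_apply', LinearEquiv.apply_symm_apply]
  have hmf : ∀ k, ∃ l, t.1 (k • w) = l • w := fun k => by
    obtain ⟨p, hp⟩ := hmemΦ k
    obtain ⟨p', hp'⟩ := hmem' p
    obtain ⟨l, hl⟩ := hΦf p'
    exact ⟨l, g.1.injective (by rw [htx, ← hfa, ← hp, hp', ← hl, hfa])⟩
  obtain ⟨l₁, hl₁⟩ := hmf 1
  rw [one_smul] at hl₁
  have hl0 : l₁ ≠ 0 := fun e0 => hw (t.1.map_eq_zero_iff.mp (by rw [hl₁, e0, zero_smul]))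
  have hline : LineTo K t.1 w := fun k => by
    obtain ⟨l, hl⟩ := hmf k
    exact ⟨l / l₁, by rw [hl, hl₁, smul_smul, div_mul_cancel₀ _ hl0]⟩
  have hts : φ (t.1 w) (t.1 w) = 0 := by simp [hl₁, hww]
  have hsemi : KSemi K t.1 := by
    rcases C.semi_or_center htM hw hww hts hline with h | ⟨v', hv', D, hD, hDz⟩
    · exact h
    · refine absurd (hno v' ?_ ?_ D hDz) hD <;> rcases hv' with rfl | rfl <;>
        simp [hl₁, hl0, hw, hww]
  have := C.nontriv
  obtain ⟨σ', hσb, hσ'⟩ := semi_sigma hsemi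
  have htt : ∀ k, t.1 (t.1 (k • w)) = k • w := fun k => g.1.injective (by
    rw [htx, htx, ← hfa]
    obtain ⟨p, hp⟩ := hmemΦ k
    rw [← hp, hmm])
  have hone : σ' l₁ * l₁ = 1 := smul_left_injective K hw (show (σ' l₁ * l₁) • w = (1 : K) • w by
    have h := htt 1
    rw [one_smul, hl₁, hσ', hl₁, smul_smul] at h
    rw [h, one_smul])
  have hσF : ∀ s : F, σ' (algebraMap F K s) = algebraMap F K s := fun s =>
    smul_left_injective K (fun e0 => hw (t.1.map_eq_zero_iff.mp e0))
      (show σ' (algebraMap F K s) • t.1 w = algebraMap F K s • t.1 w by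
        have h := hσ' (algebraMap F K s) w
        rwa [algebraMap_smul, map_smul, ← algebraMap_smul K s (t.1 w), eq_comm] at h)
  let s : K ≃ₐ[F] K := AlgEquiv.ofBijective { σ' with commutes' := hσF } hσb
  have hs : ∀ k, s k = σ' k := fun k => rfl
  have hs2 : s ^ 2 = 1 := AlgEquiv.ext fun k => smul_left_injective K hw
    (show (s ^ 2) k • w = k • w by
      have h := htt k
      rw [hσ', hl₁, smul_smul, hσ', hl₁, smul_smul, _root_.map_mul, mul_assoc, hone, mul_one] at h
      rw [pow_two, AlgEquiv.mul_apply, hs, hs, h])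
  have hs3 : s ^ 3 = 1 := by
    rw [← hr3, ← IsGalois.card_aut_eq_finrank F K]; exact pow_card_eq_one'
  have hs1 : s = 1 := by
    calc s = s ^ 3 * (s ^ 2)⁻¹ := by group
      _ = 1 := by rw [hs2, hs3, inv_one, mul_one]
  have hlin : ∀ k, t.1 (k • w) = (k * l₁) • w := fun k => by
    rw [hσ', hl₁, smul_smul, ← hs, hs1, AlgEquiv.one_apply]
  have hmfk : ∀ k, m.1 (f k) = f (k * l₁) := fun k => by rw [hfa, hfa, ← htx, hlin]
  have hl11 : l₁ * l₁ = 1 := by rwa [← hs, hs1, AlgEquiv.one_apply] at hone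
  have hne1 : e1 ≠ 0 := fun e0 => hε (by simpa [e0] using h11.symm)
  obtain ⟨k2, hk2⟩ := hΦf ![1, 0, ε / 2]
  obtain ⟨k3, hk3⟩ := hΦf ![1, 0, -(ε / 2)]
  have hk2' : f k2 = e1 := by
    rw [hk2, hΦ, he1, hc, show algebraMap F K ε / 2 = algebraMap F K (ε / 2) by
      rw [map_div₀, map_ofNat], algebraMap_smul]
    simp
  have hk3' : f k3 = y2 := by
    rw [hk3, hΦ, hy2, hc, show algebraMap F K ε / 2 = algebraMap F K (ε / 2) by
      rw [map_div₀, map_ofNat], algebraMap_smul]
    simp [sub_eq_add_neg]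
  rcases mul_self_eq_one_iff.1 hl11 with h | h
  · have h' := hmfk k2
    rw [h, mul_one, hk2', hm1] at h'
    exact hne1 ((smul_eq_zero.1 (show (2 : F) • e1 = 0 by
      rw [two_smul]; nth_rw 1 [← h']; exact neg_add_cancel e1)).resolve_left C.two)
  · have h' := hmfk k3
    rw [h, mul_neg, mul_one, map_neg, hk3', hm2] at h'
    have hy0 : y2 = 0 := (smul_eq_zero.1 (show (2 : F) • y2 = 0 by
      rw [two_smul]; nth_rw 2 [h']; exact add_neg_cancel y2)).resolve_left C.two
    have h0 := congrArg (fun y => φ y u) hy0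
    simp [hy2, T'.xu, T'.uu] at h0

end Ctx

end CfsgLib.MaxSub.OExt
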