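import Cfsg.Agent.Lib.MaxSub.OExtThreeAxis
import Cfsg.Agent.Lib.MaxSub.OExtThreeFixed
import Cfsg.Agent.Lib.MaxSub.OExtThreeBurnside
import Cfsg.Agent.Lib.MaxSub.OExtThreeCore

/-!
Dimension three, trace form: without elements in the centres of the radicals no singular line is moved.
-/

set_option autoImplicit false
set_option linter.unusedSectionVars false

namespace CfsgLib.MaxSub.OExt

open CfsgLib.Classical CfsgLib.Geom
open QuadraticMap (polar)

universe uu

variable {F K : Type*} {V : Type uu} [Field F] [Field K] [Algebra F K] [AddCommGroup V] [Module K V]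
  [Module F V] [IsScalarTower F K V]

/-- two orthogonal vectors spanning an anisotropic plane -/
theorem exists_aniso_pair {W : Type*} [Finite F] [AddCommGroup W] [Module F W] [FiniteDimensional F W]
    (h2 : (2 : F) ≠ 0) (Q : QuadraticForm F W) (hQ : ∀ x, (∀ y, polar Q x y = 0) → x = 0)
    (hn : 3 ≤ Module.finrank F W) :
    ∃ y₁ y₂ : W, polar Q y₁ y₂ = 0 ∧ ∀ a b : F, Q (a • y₁ + b • y₂) = 0 → a = 0 ∧ b = 0 := by
  classical
  have := Fintype.ofFinite F
  have : Invertible (2 : F) := invertibleOfNonzero h2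
  obtain ⟨B, hB⟩ := LinearMap.BilinForm.exists_orthogonal_basis
    (B := Q.polarBilin) ⟨fun x y => QuadraticMap.polar_comm Q x y⟩
  have hBo : ∀ i j, i ≠ j → polar Q (B i) (B j) = 0 := fun i j h => hB h
  have hBQ : ∀ i, Q (B i) ≠ 0 := by
    intro i hi
    refine B.ne_zero i (hQ (B i) ?_)
    have : Q.polarBilin (B i) = 0 := B.ext fun j => by
      by_cases hij : i = j
      · subst hij; simp [hi]
      · simpa using hB hij
    exact fun y => LinearMap.congr_fun this y
  set i₀ : Fin (Module.finrank F W) := ⟨0, by omega⟩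
  set i₁ : Fin (Module.finrank F W) := ⟨1, by omega⟩
  set i₂ : Fin (Module.finrank F W) := ⟨2, by omega⟩
  obtain ⟨d, hd⟩ := FiniteField.exists_nonsquare (ringChar_ne_two_of_ne h2)
  obtain ⟨s, t, hst⟩ := exists_binary_eq h2 (hBQ i₁) (hBQ i₂) (-d * Q (B i₀))
  have h0 : polar Q (B i₀) (s • B i₁ + t • B i₂) = 0 := by
    rw [QuadraticMap.polar_add_right, QuadraticMap.polar_smul_right, QuadraticMap.polar_smul_right,
      hBo _ _ (by simp [i₀, i₁]), hBo _ _ (by simp [i₀, i₂]), smul_zero, smul_zero, add_zero]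
  refine ⟨B i₀, s • B i₁ + t • B i₂, h0, fun a b hab => ?_⟩
  have hz : Q (s • B i₁ + t • B i₂) = -d * Q (B i₀) := by
    rw [quad_map_add_smul, quad_smul, QuadraticMap.polar_smul_left, hBo _ _ (by simp [i₁, i₂]),
      smul_zero, mul_zero, add_zero]
    linear_combination hst
  rw [quad_map_add_smul, quad_smul, QuadraticMap.polar_smul_left, h0, smul_zero, mul_zero, add_zero,
    hz] at hab
  have hb : b = 0 := by
    by_contra hb
    refine hd ⟨a / b, ?_⟩
    field_simp
    exact mul_right_cancel₀ (hBQ i₀) (by linear_combination -hab)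
  subst hb
  refine ⟨?_, rfl⟩
  have : a * a * Q (B i₀) = 0 := by linear_combination hab
  simpa [hBQ i₀] using this

/-- few singular vectors in a hyperplane containing an anisotropic plane -/
theorem card_singular_perp [Finite F] [FiniteDimensional F V] [Finite V] (Q : QuadraticForm F V)
    {u y₁ y₂ : V} (h1 : polar Q u y₁ = 0) (h2 : polar Q u y₂ = 0) (h12 : polar Q y₁ y₂ = 0)
    (han : ∀ a b : F, Q (a • y₁ + b • y₂) = 0 → a = 0 ∧ b = 0) (hu : ∃ z, polar Q u z ≠ 0) :
    Nat.card {w : V // polar Q u w = 0 ∧ Q w = 0} ≤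
      (Nat.card F + 1) * Nat.card F ^ (Module.finrank F V - 3) := by
  classical
  have := Fintype.ofFinite F
  let W : Submodule F V := LinearMap.ker (Q.polarBilin u)
  let j : (Fin 2 → F) →ₗ[F] W :=
    (LinearMap.proj 0).smulRight (⟨y₁, h1⟩ : W) + (LinearMap.proj 1).smulRight (⟨y₂, h2⟩ : W)
  let Y : Submodule F W := LinearMap.range j
  have hj : Function.Injective j := LinearMap.ker_eq_bot.1 <| LinearMap.ker_eq_bot'.2 fun p hp => by
    have h : p 0 • y₁ + p 1 • y₂ = 0 := congrArg Subtype.val hp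
    obtain ⟨e0, e1⟩ := han (p 0) (p 1) (by rw [h, QuadraticMap.map_zero])
    funext i; fin_cases i
    · exact e0
    · exact e1
  have hW : Module.finrank F W + 1 = Module.finrank F V := by
    have h := LinearMap.finrank_range_add_finrank_ker (Q.polarBilin u)
    have hr : Module.finrank F (LinearMap.range (Q.polarBilin u)) = 1 := by
      rw [LinearMap.range_eq_top.2, finrank_top, Module.finrank_self]
      intro t
      obtain ⟨z, hz⟩ := hu
      refine ⟨(t / polar Q u z) • z, ?_⟩
      rw [map_smul, QuadraticMap.polarBilin_apply_apply, smul_eq_mul, div_mul_cancel₀ _ hz]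
    have : Module.finrank F W = Module.finrank F (LinearMap.ker (Q.polarBilin u)) := rfl
    omega
  have hq : Nat.card (W ⧸ Y) = Nat.card F ^ (Module.finrank F V - 3) := by
    rw [Module.natCard_eq_pow_finrank (K := F)]
    congr 1
    have h1 := Submodule.finrank_quotient_add_finrank Y
    have h2 : Module.finrank F Y = 2 := (LinearMap.finrank_range_of_inj hj).trans (by simp)
    omega
  have hQ1 : Q y₁ ≠ 0 := fun e => one_ne_zero (han 1 0 (by simp [e])).1
  have hQ2 : Q y₂ ≠ 0 := fun e => one_ne_zero (han 0 1 (by simp [e])).2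
  have := Fintype.ofFinite V
  have := Fintype.ofFinite (W ⧸ Y)
  rw [← hq, Nat.card_eq_fintype_card, Nat.card_eq_fintype_card, Nat.card_eq_fintype_card,
    ← Finset.card_univ, ← Finset.card_univ (α := W ⧸ Y)]
  refine Finset.card_le_mul_card_image_of_maps_to
    (f := fun w : {w : V // polar Q u w = 0 ∧ Q w = 0} =>
      (Submodule.Quotient.mk (⟨w.1, w.2.1⟩ : W) : W ⧸ Y))
    (fun _ _ => Finset.mem_univ _) (Fintype.card F + 1) fun c _ => ?_
  rcases Finset.eq_empty_or_nonempty (Finset.univ.filter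
      fun w : {w : V // polar Q u w = 0 ∧ Q w = 0} =>
        (Submodule.Quotient.mk (⟨w.1, w.2.1⟩ : W) : W ⧸ Y) = c) with h0 | ⟨w₀, hw₀⟩
  · rw [h0]; simp
  rw [← Finset.card_map (Function.Embedding.subtype _)]
  set l₁ := polar Q w₀.1 y₁
  set l₂ := polar Q w₀.1 y₂
  -- the second zero on the line of each slope
  let A : F → F := fun s => -(l₁ + s * l₂) / (Q y₁ + s * s * Q y₂)
  let pt : F → V := fun s => w₀.1 + A s • y₁ + (s * A s) • y₂
  let t₁ : Finset V := {w₀.1, w₀.1 + (-(l₂ / Q y₂)) • y₂}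
  let t : Finset V := t₁ ∪
    (if l₂ = 0 then Finset.univ else Finset.univ.erase (-(l₁ / l₂))).image pt
  have htc : t.card ≤ Fintype.card F + 1 := by
    refine (Finset.card_union_le _ _).trans ?_
    by_cases hl : l₂ = 0
    · rw [if_pos hl]
      have e1 : t₁.card = 1 := by simp [t₁, hl]
      have e2 := Finset.card_image_le (s := (Finset.univ : Finset F)) (f := pt)
      rw [Finset.card_univ] at e2
      omega
    · rw [if_neg hl]
      have e1 : t₁.card ≤ 2 := Finset.card_le_two
      have e2 := Finset.card_image_le (s := (Finset.univ : Finset F).erase (-(l₁ / l₂))) (f := pt)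
      rw [Finset.card_erase_of_mem (Finset.mem_univ _), Finset.card_univ] at e2
      have := Fintype.card_pos (α := F)
      omega
  refine le_trans (Finset.card_le_card fun w' hw' => ?_) htc
  obtain ⟨w, hw, rfl⟩ := Finset.mem_map.1 hw'
  have heq := (Finset.mem_filter.1 hw).2.trans (Finset.mem_filter.1 hw₀).2.symm
  rw [Submodule.Quotient.eq] at heq
  obtain ⟨p, hp⟩ := heq
  have hwv : w.1 = w₀.1 + p 0 • y₁ + p 1 • y₂ := by
    have h : p 0 • y₁ + p 1 • y₂ = w.1 - w₀.1 := congrArg Subtype.val hp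
    rw [add_assoc, h, add_sub_cancel]
  have h := w.2.2
  rw [hwv] at h
  simp only [QuadraticMap.map_add Q, QuadraticMap.map_smul, QuadraticMap.polar_add_left,
    QuadraticMap.polar_smul_left, QuadraticMap.polar_smul_right, w₀.2.2, h12, smul_eq_mul, mul_zero,
    add_zero, zero_add] at h
  rw [Function.Embedding.coe_subtype, hwv]
  by_cases hb : p 0 = 0
  · refine Finset.mem_union_left _ ?_
    rw [hb, zero_smul, add_zero, Finset.mem_insert, Finset.mem_singleton]
    rcases eq_or_ne (p 1) 0 with hc | hc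
    · exact Or.inl (by rw [hc, zero_smul, add_zero])
    · refine Or.inr ?_
      rw [hb] at h
      have h' : p 1 * Q y₂ + l₂ = 0 :=
        (mul_eq_zero.1 (show p 1 * (p 1 * Q y₂ + l₂) = 0 by linear_combination h)).resolve_left hc
      rw [show p 1 = -(l₂ / Q y₂) by field_simp; linear_combination h']
  · refine Finset.mem_union_right _ ?_
    set s := p 1 / p 0 with hs
    have hps : p 1 = s * p 0 := by rw [hs, div_mul_cancel₀ _ hb]
    rw [hps] at h ⊢
    have h' : p 0 * (Q y₁ + s * s * Q y₂) + (l₁ + s * l₂) = 0 :=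
      (mul_eq_zero.1 (show p 0 * (p 0 * (Q y₁ + s * s * Q y₂) + (l₁ + s * l₂)) = 0 by
        linear_combination h)).resolve_left hb
    have hden : Q y₁ + s * s * Q y₂ ≠ 0 := fun e => one_ne_zero (han 1 s (by
      rw [QuadraticMap.map_add Q, QuadraticMap.map_smul, QuadraticMap.map_smul,
        QuadraticMap.polar_smul_left, QuadraticMap.polar_smul_right, h12]
      simp only [smul_eq_mul]
      linear_combination e)).1
    have hp0 : p 0 = A s := by
      show _ = -(l₁ + s * l₂) / (Q y₁ + s * s * Q y₂)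
      rw [eq_div_iff hden]
      linear_combination h'
    refine Finset.mem_image.2 ⟨s, ?_, by simp only [pt, ← hp0]⟩
    by_cases hl : l₂ = 0
    · rw [if_pos hl]; exact Finset.mem_univ _
    · rw [if_neg hl]
      refine Finset.mem_erase.2 ⟨fun e => hb ?_, Finset.mem_univ _⟩
      have : l₁ + s * l₂ = 0 := by rw [e, neg_mul, div_mul_cancel₀ _ hl, add_neg_cancel]
      exact (mul_eq_zero.1 (show p 0 * (Q y₁ + s * s * Q y₂) = 0 by
        linear_combination h' - this)).resolve_right hden

namespace Ctx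

variable [Finite F] [Finite K] [Module.Finite K V] [Module.Finite F K] [FiniteDimensional F V]
  {Q : QuadraticForm F V} {φ : V →ₗ[K] V →ₗ[K] K} {τ : K →ₗ[F] F} {M : Subgroup (quadIsoms Q)}

theorem false_of_no_center (C : Ctx Q φ τ M) (h3 : Module.finrank K V = 3)
    (hr : 3 ≤ Module.finrank F K) (hτ : ∀ z, τ z = Algebra.trace F K z)
    (hno : ∀ v : V, v ≠ 0 → φ v v = 0 → ∀ D : K →ₗ[F] K, InZ M φ v D → D = 0)
    {g : quadIsoms Q} {u : V} (hm : Moved M φ g u)
    (hmax : ∀ g' u', Moved M φ g' u' → (lineSet K g'.1 u').ncard ≤ (lineSet K g.1 u).ncard) :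
    False := by
  classical
  have := Fintype.ofFinite F
  have := Fintype.ofFinite K
  have : Finite V := Module.finite_of_finite K
  have : Finite (V ≃ₗ[F] V) :=
    Finite.of_injective (fun m => (m : V → V)) DFunLike.coe_injective
  have hu := hm.ne
  have huu := hm.sing
  set v := g.1 u with hv
  have hvv : φ v v = 0 := hm.sing'
  have hv0 : v ≠ 0 := fun e => hu (g.1.map_eq_zero_iff.mp e)
  have hsemi : ∀ m ∈ M, m.1 u = u → LineTo K m.1 u → KSemi K m.1 := fun m hmM hmu hl => by
    rcases C.semi_or_center hmM hu huu (by rw [hmu]; exact huu) hl with h | ⟨v', hv', D, hD, hDz⟩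
    · exact h
    · refine absurd (hno v' ?_ ?_ D hDz) hD <;> rcases hv' with rfl | rfl <;> simp [hmu, hu, huu]
  obtain ⟨x, e, ε, T⟩ := C.exists_triple h3 hr hu huu
  have hε : algebraMap F K ε ≠ 0 := (map_ne_zero _).2 T.eps
  have hue : φ u e = 0 := by rw [C.symm]; exact T.eu
  have hux : φ u x = 1 := by rw [C.symm]; exact T.xu
  have hxe : φ x e = 0 := by rw [C.symm]; exact T.ex
  have h1J : (1 : K) ∈ lineSet K g.1 u := ⟨1, by rw [one_smul, one_smul]⟩
  -- the group and the semilinear subgroup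
  let H : Subgroup (quadIsoms Q) :=
    { carrier := {m | m ∈ M ∧ ∀ k ∈ lineSet K g.1 u, m.1 (k • u) = k • u}
      one_mem' := ⟨one_mem M, fun k _ => rfl⟩
      mul_mem' := fun {a b} ha hb => ⟨mul_mem ha.1 hb.1, fun k hk => by
        rw [mul_apply', hb.2 k hk, ha.2 k hk]⟩
      inv_mem' := fun {a} ha => ⟨inv_mem ha.1, fun k hk => by
        rw [inv_apply', LinearEquiv.symm_apply_eq, ha.2 k hk]⟩ }
  have hfixu : ∀ h : H, h.1.1 u = u := fun h => by simpa using h.2.2 1 h1J
  let N : Subgroup H :=
    { carrier := {h | KSemi K h.1.1}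
      one_mem' := fun k => ⟨k, fun y => rfl⟩
      mul_mem' := fun {a b} ha hb k => by
        obtain ⟨k1, h1⟩ := hb k
        obtain ⟨k2, h2⟩ := ha k1
        exact ⟨k2, fun y => by
          show (a.1 * b.1).1 (k • y) = k2 • (a.1 * b.1).1 y
          rw [mul_apply', h1, h2, mul_apply']⟩
      inv_mem' := fun {a} ha k => by
        obtain ⟨s, hs⟩ := C.semi_alg ha hu (hfixu a)
        exact ⟨s.symm k, fun y => by
          show (a.1⁻¹).1 (k • y) = s.symm k • (a.1⁻¹).1 y
          rw [inv_apply', inv_apply', LinearEquiv.symm_apply_eq, hs, AlgEquiv.apply_symm_apply,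
            LinearEquiv.apply_symm_apply]⟩ }
  choose sg hsg using fun n : N => C.semi_alg n.2 hu (hfixu n.1)
  have sg_eq : ∀ (n : N) (s : K ≃ₐ[F] K), (∀ (k : K) y, n.1.1.1 (k • y) = s k • n.1.1.1 y) →
      sg n = s := fun n s hs => AlgEquiv.ext fun k => smul_left_injective K hu
    (show sg n k • u = s k • u by
      have h := (hsg n k u).symm.trans (hs k u)
      rwa [hfixu] at h)
  let σ : N →* (K ≃ₐ[F] K) := MonoidHom.mk' sg fun m n => sg_eq _ _ fun k y => by
    show (m.1.1 * n.1.1).1 (k • y) = (sg m * sg n) k • (m.1.1 * n.1.1).1 y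
    rw [mul_apply', hsg, hsg, mul_apply', AlgEquiv.mul_apply]
  let a : N → K := fun n => φ (n.1.1.1 x) e / algebraMap F K ε
  have hshape : ∀ n : N, n.1.1.1 x = x + a n • e - (a n * a n * algebraMap F K ε / 2) • u ∧
      n.1.1.1 e = e - (a n * algebraMap F K ε) • u := fun n => by
    obtain ⟨A, hA, h1, h2⟩ := C.semi_shape h3 hr hτ T n.1.2.1 (hsg n) (hfixu n.1)
    obtain rfl : A = a n := hA
    exact ⟨h1, h2⟩
  have hcocycle : ∀ m n, a (m * n) = a m + σ m (a n) := fun m n => by
    show φ ((m.1.1 * n.1.1).1 x) e / algebraMap F K ε = a m + sg m (a n)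
    rw [mul_apply', (hshape n).1, map_sub, map_add, hsg, hsg, (hshape m).1, (hshape m).2, hfixu]
    simp only [map_add, map_sub, map_smul, LinearMap.add_apply, LinearMap.sub_apply,
      LinearMap.smul_apply, hxe, T.ee, hue, smul_eq_mul, mul_zero, sub_zero, zero_add]
    field_simp
  have hinj : ∀ m n : N, σ m = σ n → a m = a n → m = n := fun m n h1 h2 =>
    Subtype.ext (Subtype.ext (C.semi_ext h3 T (hsg m)
      (by rw [show sg m = sg n from h1]; exact hsg n)
      (by rw [(hshape m).1, (hshape n).1, h2]) (by rw [(hshape m).2, (hshape n).2, h2])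
      (by rw [hfixu, hfixu])))
  have hel : ∀ b : K, ∃ n : N, σ n = 1 ∧ a n = b := fun b => by
    obtain ⟨s, hsM, hsl, -, hsx, -, hsk⟩ := C.exists_S_el T b
    let n : N := ⟨⟨s, hsM, fun k _ => hsk k⟩, hsl.semi⟩
    refine ⟨n, sg_eq n 1 fun k y => hsl k y, ?_⟩
    show φ (s.1 x) e / algebraMap F K ε = b
    rw [hsx]
    simp only [map_add, map_sub, map_smul, LinearMap.add_apply, LinearMap.sub_apply,
      LinearMap.smul_apply, hxe, T.ee, hue, smul_eq_mul, mul_zero, sub_zero, zero_add]
    exact mul_div_cancel_right₀ b hε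
  -- fixed vectors of a linear element
  have hlinfix : ∀ n : N, σ n = 1 → n ≠ 1 → ∀ y, n.1.1.1 y = y → y = φ y x • u := by
    intro n hn1 hne y hy
    have ha : a n ≠ 0 := fun h0 => hne (hinj n 1 (by rw [hn1, map_one]) (by
      rw [h0]
      show (0 : K) = φ x e / algebraMap F K ε
      rw [hxe, zero_div]))
    have hl : ∀ (k : K) z, n.1.1.1 (k • z) = k • n.1.1.1 z := fun k z => by
      rw [hsg, show sg n = 1 from hn1]; rfl
    have hd := C.triple_decomp h3 T y
    rw [hd, map_add, map_add, hl, hl, hl, (hshape n).1, (hshape n).2, hfixu] at hy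
    have h1 := congrArg (fun z => φ z e) hy
    have h2 := congrArg (fun z => φ z x) hy
    simp only [map_add, map_sub, map_smul, LinearMap.add_apply, LinearMap.sub_apply,
      LinearMap.smul_apply, hxe, T.ee, hue, T.xx, T.ex, hux, smul_eq_mul, mul_zero, mul_one, sub_zero,
      add_zero, zero_add] at h1 h2
    have hy0 : φ y u = 0 := by
      have h1' : φ y u * (a n * algebraMap F K ε) = 0 := by linear_combination h1
      exact (mul_eq_zero.1 h1').resolve_right (mul_ne_zero ha hε)
    rw [hy0, zero_mul, zero_add, add_eq_right, zero_sub, mul_neg, neg_eq_zero, mul_eq_zero] at h2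
    rw [hy0, h2.resolve_right (mul_ne_zero ha hε), zero_smul, zero_smul, zero_add, zero_add] at hd
    exact hd
  -- a semilinear element fixing the image of a line
  have hfixed : ∀ n : N, n ≠ 1 → ∀ m : quadIsoms Q, m ∈ M → ∀ w : V, w ≠ 0 → φ w w = 0 →
      (∀ k : K, n.1.1.1 (m.1 (k • w)) = m.1 (k • w)) →
      ∀ k : K, m.1 (k • w) = φ (m.1 (k • w)) x • u := by
    intro n hne m hmM w hw hww hfix k
    by_cases hn1 : σ n = 1
    · exact hlinfix n hn1 hne _ (hfix k)
    · exact (C.fixed_small h3 hr hτ T n.1.2.1 (hsg n) hn1 (hfixu n.1) hno hmM hw hww hfix).elim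
  have hti : ∀ n : N, σ n = 1 → n ≠ 1 → ∀ h : H, h * (n : H) * h⁻¹ ∈ N → h ∈ N := by
    intro n hn1 hne h hh
    refine hsemi h.1 h.2.1 (hfixu h) fun k => ?_
    let f : K →ₗ[F] V :=
      (h.1.1 : V →ₗ[F] V) ∘ₗ (LinearMap.toSpanSingleton K V u).restrictScalars F
    have hf : Function.Injective f := fun p q e => smul_left_injective K hu (h.1.1.injective e)
    refine ⟨φ (f k) x, ?_⟩
    rw [hfixu]
    refine hfixed ⟨_, hh⟩ (fun e => hne ?_) h.1 h.2.1 u hu huu (fun l => ?_) k
    · exact Subtype.ext (conj_eq_one_iff.1 (congrArg Subtype.val e))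
    · show (h.1 * n.1.1 * h.1⁻¹).1 (h.1.1 (l • u)) = h.1.1 (l • u)
      rw [mul_apply', mul_apply', inv_apply', LinearEquiv.symm_apply_apply, hsg,
        show sg n = 1 from hn1, AlgEquiv.one_apply, hfixu]
  -- an element outside
  have hout : ∃ h : H, h ∉ N := by
    obtain ⟨x', e', ε', T'⟩ := C.exists_triple h3 hr hv0 hvv
    obtain ⟨s, hsM, -, -, hsx, -, hsk⟩ := C.exists_S_el T' 1
    let h : H := ⟨g⁻¹ * s * g, mul_mem (mul_mem (inv_mem hm.mem) hsM) hm.mem,
      fun k ⟨c, hc⟩ => g.1.injective (by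
        rw [mul_apply', mul_apply', inv_apply', LinearEquiv.apply_symm_apply, hc, ← hv, hsk])⟩
    refine ⟨h, fun hh => hm.off fun k => ?_⟩
    let n : N := ⟨h, hh⟩
    let f : K →ₗ[F] V :=
      (g.1.symm : V →ₗ[F] V) ∘ₗ (LinearMap.toSpanSingleton K V v).restrictScalars F
    have hne : n ≠ 1 := fun e1 => by
      have h1 : g⁻¹ * s * g = 1 := congrArg (fun z : N => z.1.1) e1
      have h2 : s = 1 := by
        rwa [mul_eq_one_iff_eq_inv, inv_mul_eq_iff_eq_mul, mul_inv_cancel] at h1
      rw [h2] at hsx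
      have h3' := congrArg (fun z => φ z e') hsx
      change φ x' e' = _ at h3'
      simp only [map_add, map_sub, map_smul, LinearMap.add_apply, LinearMap.sub_apply,
        LinearMap.smul_apply, C.symm x' e', T'.ex, T'.ee, C.symm v e', T'.eu, smul_eq_mul, mul_zero,
        sub_zero, zero_add, one_mul] at h3'
      exact T'.eps ((map_eq_zero _).1 h3'.symm)
    have hf : Function.Injective f := fun p q e => smul_left_injective K hv0 (g.1.symm.injective e)
    have hfix : ∀ l, n.1.1.1 (f l) = f l := fun l => by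
      show (g⁻¹ * s * g).1 (g.1.symm (l • v)) = g.1.symm (l • v)
      rw [mul_apply', mul_apply', LinearEquiv.apply_symm_apply, hsk, inv_apply']
    have hall : ∀ l, f l = φ (f l) x • u :=
      hfixed n hne g⁻¹ (inv_mem hm.mem) v hv0 hvv hfix
    have hinjc : Function.Injective fun l => φ (f l) x := fun p q e => hf (by
      rw [hall p, hall q]; exact congrArg (· • u) e)
    obtain ⟨l, hl⟩ := Finite.surjective_of_injective hinjc k
    refine ⟨l, ?_⟩
    rw [← hl, ← hv]
    show g.1 (φ (f l) x • u) = l • v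
    rw [← hall l]
    exact g.1.apply_symm_apply (l • v)
  obtain ⟨p, hpF⟩ := CharP.exists F
  have : Fact p.Prime := ⟨CharP.char_is_prime F p⟩
  have : CharP K p := charP_of_injective_algebraMap (algebraMap F K).injective p
  by_cases hσall : ∀ n : N, σ n = 1
  · -- elementary abelian
    obtain ⟨h₀, hh₀⟩ := hout
    refine hh₀ ?_
    have hmul : ∀ m n : N, a (m * n) = a m + a n := fun m n => by
      rw [hcocycle, hσall, AlgEquiv.one_apply]
    have hE : Cfsg.IsElementaryAbelian p N := by
      refine ⟨⟨⟨fun m n => hinj _ _ (by rw [hσall, hσall]) (by rw [hmul, hmul, add_comm])⟩⟩,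
        fun h hh => ?_⟩
      have hpow : ∀ j : ℕ, a ((⟨h, hh⟩ : N) ^ j) = j • a ⟨h, hh⟩ := fun j => by
        induction j with
        | zero =>
          rw [pow_zero, zero_smul]
          show φ x e / algebraMap F K ε = 0
          rw [hxe, zero_div]
        | succ j ih => rw [pow_succ, hmul, ih, succ_nsmul]
      have h1 : (⟨h, hh⟩ : N) ^ p = 1 := hinj _ _ (by rw [hσall, hσall]) (by
        rw [hpow, nsmul_eq_mul, CharP.cast_eq_zero, zero_mul]
        show (0 : K) = φ x e / algebraMap F K ε
        rw [hxe, zero_div])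
      exact congrArg Subtype.val h1
    have hcard : p ^ 2 ≤ Nat.card N := by
      choose el hel1 hel2 using hel
      refine le_trans ?_ (Nat.card_le_card_of_injective el fun b c h => by rw [← hel2 b, ← hel2 c, h])
      rw [Module.natCard_eq_pow_finrank (K := F)]
      obtain ⟨j, -, hj⟩ := FiniteField.card F p
      rw [Nat.card_eq_fintype_card, hj, ← pow_mul]
      refine Nat.pow_le_pow_right (CharP.char_is_prime F p).pos ?_
      have := j.pos
      nlinarith
    rw [eq_top_of_ti_elemAb hE hcard fun y hy hy1 => hti ⟨y, hy⟩ (hσall _)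
      fun e1 => hy1 (congrArg Subtype.val e1)]
    exact Subgroup.mem_top _
  -- the full semidirect product
  push Not at hσall
  obtain ⟨n₀, hn₀⟩ := hσall
  have hJ : ∀ k ∈ lineSet K g.1 u, k ∈ Set.range (algebraMap F K) := fun k hk =>
    Three.mem_range_of_fix C.prime hn₀ (smul_left_injective K hu (show σ n₀ k • u = k • u by
      have h := hsg n₀ k u
      rw [hfixu, n₀.1.2.2 k hk] at h
      exact h.symm))
  have hsurj : ∀ (s : K ≃ₐ[F] K) (b : K), ∃ n : N, σ n = s ∧ a n = b := by
    intro s b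
    obtain ⟨n, hnM, hns, hnu, hnx, -⟩ := C.exists_galois h3 hr hτ T s
    have hnH : ∀ k ∈ lineSet K g.1 u, n.1 (k • u) = k • u := fun k hk => by
      obtain ⟨t, rfl⟩ := hJ k hk
      rw [hns, hnu, AlgEquiv.commutes]
    let n' : N := ⟨⟨n, hnM, hnH⟩, fun k => ⟨s k, hns k⟩⟩
    obtain ⟨m, hm1, hm2⟩ := hel b
    refine ⟨m * n', by rw [map_mul, hm1, one_mul]; exact sg_eq n' s hns, ?_⟩
    rw [hcocycle, hm1, hm2, AlgEquiv.one_apply,
      show a n' = 0 by show φ (n.1 x) e / algebraMap F K ε = 0; rw [hnx, hxe, zero_div], add_zero]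
  have P : Three.Model N σ a := ⟨C.prime, hcocycle, hinj, hsurj, hti⟩
  have : Fintype H := Fintype.ofFinite H
  have : Fintype N := Fintype.ofFinite N
  have hodd : Odd (Fintype.card F) := by
    rw [← Nat.not_even_iff_odd]
    intro h
    rw [Nat.even_iff] at h
    have h2 := FiniteField.even_card_iff_char_two.2 h
    exact C.two (by have := ringChar.Nat.cast_ringChar (R := F); rw [h2] at this; exact_mod_cast this)
  refine Three.false_of_model P hr hodd hout ?_
  -- the members lie among the singular vectors orthogonal to the point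
  let je : K →ₗ[F] V := (LinearMap.toSpanSingleton K V e).restrictScalars F
  have hje : ∀ k, je k = k • e := fun k => rfl
  have hyu : ∀ k : K, polar Q u (k • e) = 0 := fun k => by
    rw [C.rel, map_smul, hue, smul_zero, map_zero]
  have hsepe : ∀ k, (∀ l, polar (Q.comp je) k l = 0) → k = 0 := by
    intro k hk
    refine mul_left_injective₀ hε (C.tau_inj (b := 0 * algebraMap F K ε) fun s => ?_)
    have h : polar Q (s • e) (k • e) = 0 := by
      have h := hk s
      rw [QuadraticMap.polar_comm] at h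
      simpa [QuadraticMap.polar, QuadraticMap.comp_apply, je, add_smul] using h
    rw [C.rel, map_smul, φ.map_smul, LinearMap.smul_apply, T.ee, smul_eq_mul, smul_eq_mul] at h
    rw [zero_mul, mul_zero, map_zero, ← h]
    congr 1; ring
  obtain ⟨k₁, k₂, hk12, han⟩ := exists_aniso_pair C.two (Q.comp je) hsepe hr
  have hdim : Module.finrank F V = 3 * Module.finrank F K := by
    rw [← Module.finrank_mul_finrank F K V, h3, mul_comm]
  have hS := card_singular_perp Q (hyu k₁) (hyu k₂)
    (by simpa [QuadraticMap.polar, QuadraticMap.comp_apply, je, add_smul] using hk12)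
    (fun a b hab => han a b (by
      rw [QuadraticMap.comp_apply, map_add, map_smul, map_smul, hje, hje]; exact hab)) (by
    obtain ⟨d, hd⟩ := C.exists_tau (b := (1 : K)) one_ne_zero
    exact ⟨d • x, by rwa [C.rel, map_smul, hux, smul_eq_mul, mul_one, ← one_mul d]⟩)
  rw [hdim, Nat.card_eq_fintype_card (α := F)] at hS
  refine le_trans ?_ hS
  let X := {k : K // k ∉ Set.range (algebraMap F K)}
  have hX : Nat.card X = Fintype.card K - Fintype.card F := by
    rw [Nat.card_eq_fintype_card, Fintype.card_subtype_compl]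
    congr 1
    rw [← Fintype.card_congr (Equiv.ofInjective _ (algebraMap F K).injective)]
  rw [← hX, Subgroup.index, ← Nat.card_prod]
  refine Nat.card_le_card_of_injective (fun z : (H ⧸ N) × X =>
    (⟨z.1.out.1.1 (z.2.1 • u), ?_, ?_⟩ : {w : V // polar Q u w = 0 ∧ Q w = 0})) ?_
  · conv_lhs => arg 2; rw [← hfixu z.1.out]
    rw [polar_quadIsom z.1.out.1.2, C.rel, map_smul, huu, smul_zero, map_zero]
  · rw [mem_quadIsoms.1 z.1.out.1.2]
    exact C.q_zero huu _
  rintro ⟨i, k⟩ ⟨i', k'⟩ heq
  have h : i.out.1.1 (k.1 • u) = i'.out.1.1 (k'.1 • u) := congrArg Subtype.val heq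
  have hii : i = i' := by
    rw [← Quotient.out_eq i, ← Quotient.out_eq i']
    refine QuotientGroup.eq.2 (?_ : i.out⁻¹ * i'.out ∈ N)
    by_contra hnN
    set m := i.out⁻¹ * i'.out
    have hm' : m.1.1 (k'.1 • u) = k.1 • u := by
      show (i.out.1⁻¹ * i'.out.1).1 _ = _
      rw [mul_apply', ← h, inv_apply', LinearEquiv.symm_apply_apply]
    have hmv : Moved M φ m.1 u := ⟨m.2.1, hu, huu, by rw [hfixu]; exact huu,
      fun hl => hnN (hsemi _ m.2.1 (hfixu m) hl)⟩
    have hle : lineSet K g.1 u ⊆ lineSet K m.1.1 u := fun l hl => ⟨l, by rw [m.2.2 l hl, hfixu]⟩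
    have hsub : lineSet K g.1 u ⊂ lineSet K m.1.1 u := by
      rw [Set.ssubset_iff_of_subset hle]
      exact ⟨k'.1, ⟨k.1, by rw [hm', hfixu]⟩, fun hk => k'.2 (hJ _ hk)⟩
    exact absurd (hmax _ _ hmv) (not_le.2 (Set.ncard_lt_ncard hsub (Set.toFinite _)))
  subst hii
  exact Prod.ext rfl (Subtype.ext (smul_left_injective K hu (i.out.1.1.injective h)))

end Ctx

end CfsgLib.MaxSub.OExt
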