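import Cfsg.Agent.Lib.MaxSub.OExtThreeFamily

/-!
The exceptional characters of a group with a trivial-intersection semidirect product of a field by its
Galois group: the second orthogonality relation forces their values.
-/

set_option autoImplicit false
set_option linter.unusedSectionVars false

namespace CfsgLib.MaxSub.OExt.Three

open CfsgLib.Char
open scoped ComplexConjugate

variable {F K : Type*} [Field F] [Fintype F] [Field K] [Fintype K] [Algebra F K]
variable {H : Type*} [Group H] [Fintype H] {N : Subgroup H} [Fintype N]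
  {σ : N →* (K ≃ₐ[F] K)} {a : N → K}

namespace Model

/-- the orbits of the Galois group outside the subfield -/
def orbitSetoid (F K : Type*) [Field F] [Field K] [Algebra F K] :
    Setoid {z : K // z ∉ Set.range (algebraMap F K)} where
  r z z' := ∃ g : K ≃ₐ[F] K, g z = z'
  iseqv :=
    ⟨fun z => ⟨1, rfl⟩, fun {z z'} ⟨g, hg⟩ => ⟨g.symm, by rw [← hg, AlgEquiv.symm_apply_apply]⟩,
      fun {x y z} ⟨g, hg⟩ ⟨g', hg'⟩ => ⟨g' * g, by rw [AlgEquiv.mul_apply, hg, hg']⟩⟩

theorem orbit_bijective (hr : (Module.finrank F K).Prime) :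
    Function.Bijective (fun p : F ⊕ (Quotient (orbitSetoid F K) × (K ≃ₐ[F] K)) =>
      Sum.elim (algebraMap F K) (fun p => p.2 (p.1.out : K)) p) := by
  have hout : ∀ (l : Quotient (orbitSetoid F K)) (g : K ≃ₐ[F] K),
      g (l.out : K) ∉ Set.range (algebraMap F K) := by
    rintro l g ⟨t, ht⟩
    exact l.out.2 ⟨t, g.injective (by rw [g.commutes, ht])⟩
  constructor
  · rintro (t | ⟨l, g⟩) (t' | ⟨l', g'⟩) h
    · simpa using h
    · exact absurd ⟨t, h⟩ (hout l' g')
    · exact absurd ⟨t', h.symm⟩ (hout l g)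
    · simp only [Sum.elim_inr] at h
      have hl : l = l' := by
        rw [← Quotient.out_eq l, ← Quotient.out_eq l']
        exact Quotient.sound ⟨g'⁻¹ * g, by rw [AlgEquiv.mul_apply, h, ← AlgEquiv.mul_apply,
          inv_mul_cancel, AlgEquiv.one_apply]⟩
      subst hl
      congr 2
      by_contra hne
      refine l.out.2 (mem_range_of_fix hr (g := g'⁻¹ * g) (fun e => hne (inv_mul_eq_one.1 e).symm) ?_)
      rw [AlgEquiv.mul_apply, h, ← AlgEquiv.mul_apply, inv_mul_cancel, AlgEquiv.one_apply]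
  · intro z
    by_cases hz : z ∈ Set.range (algebraMap F K)
    · obtain ⟨t, rfl⟩ := hz
      exact ⟨Sum.inl t, rfl⟩
    · obtain ⟨g, hg⟩ := Quotient.mk_out (s := orbitSetoid F K) ⟨z, hz⟩
      exact ⟨Sum.inr (⟦⟨z, hz⟩⟧, g), hg⟩

theorem finite_lin (F K : Type*) [Field F] [Fintype F] [Field K] [Fintype K] [Algebra F K] :
    Finite ((K ≃ₐ[F] K) →* ℂˣ) :=
  Nat.finite_of_card_ne_zero (by rw [natCard_linear]; exact Subgroup.index_ne_zero_of_finite)

theorem card_lin [Fintype ((K ≃ₐ[F] K) →* ℂˣ)] :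
    Fintype.card ((K ≃ₐ[F] K) →* ℂˣ) = Module.finrank F K := by
  have hc : commutator (K ≃ₐ[F] K) = ⊥ := by
    rw [commutator_def, Subgroup.commutator_eq_bot_iff_le_centralizer]
    exact fun g _ => Subgroup.mem_centralizer_iff.2 fun h _ => gal_comm h g
  rw [← Nat.card_eq_fintype_card, natCard_linear, hc, Subgroup.index_bot]
  exact gal_card

theorem card_split [Fintype (Quotient (orbitSetoid F K))] (P : Model N σ a) :
    Fintype.card F + Module.finrank F K * Fintype.card (Quotient (orbitSetoid F K)) =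
      Fintype.card K := by
  rw [← Fintype.card_congr (Equiv.ofBijective _ (orbit_bijective (F := F) (K := K) P.prime)),
    Fintype.card_sum, Fintype.card_prod, ← Nat.card_eq_fintype_card (α := K ≃ₐ[F] K), gal_card,
    mul_comm]

theorem sum_split [Fintype (Quotient (orbitSetoid F K))] (P : Model N σ a) {A : Type*}
    [AddCommMonoid A] (f : K → A) :
    ∑ z, f z = ∑ y : F, f (algebraMap F K y) +
      ∑ l : Quotient (orbitSetoid F K), ∑ g : K ≃ₐ[F] K, f (g (l.out : K)) := by
  rw [← (Equiv.ofBijective _ (orbit_bijective (F := F) (K := K) P.prime)).sum_comp,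
    Fintype.sum_sum_type, Fintype.sum_prod_type]
  rfl

open scoped Classical in
/-- the families and the multiplicities of every irreducible character -/
theorem exists_coef [Fintype (Quotient (orbitSetoid F K))] [Fintype ((K ≃ₐ[F] K) →* ℂˣ)]
    (P : Model N σ a) (ht : 1 < Fintype.card (Quotient (orbitSetoid F K))) :
    ∃ (δA : ((K ≃ₐ[F] K) →* ℂˣ) → ℤ) (μA : ((K ≃ₐ[F] K) →* ℂˣ) → F → Cfsg.IrrCharacter H)
      (A mB : Cfsg.IrrCharacter H → ℤ) (δ : ℤ)
      (μ : Quotient (orbitSetoid F K) → Cfsg.IrrCharacter H),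
      (∀ w, δA w = 1 ∨ δA w = -1) ∧ (δ = 1 ∨ δ = -1) ∧
      (∀ w w' y y', μA w y = μA w' y' → w = w' ∧ y = y') ∧ Function.Injective μ ∧
      (∀ w y l, μA w y ≠ μ l) ∧ (∀ l l', (μ l : H → ℂ) 1 = (μ l' : H → ℂ) 1) ∧
      (∀ χ y, P.coef (P.res χ) (algebraMap F K y) =
        ((A χ + ∑ w, δA w * (if χ = μA w y then 1 else 0) : ℤ) : ℂ)) ∧
      ∀ χ l (g : K ≃ₐ[F] K), P.coef (P.res χ) (g (l.out : K)) =
        ((mB χ + δ * (if χ = μ l then 1 else 0) : ℤ) : ℂ) := by
  let W := (K ≃ₐ[F] K) →* ℂˣ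
  let L := Quotient (orbitSetoid F K)
  let rep : L → K := fun l => (l.out : K)
  have hrep : ∀ l, rep l ∉ Set.range (algebraMap F K) := fun l => l.out.2
  have hsA : ∀ (w : W) y x, ¬ P.Dset x → P.phi y w x - P.phi 0 w x = 0 := fun w y x hx =>
    P.phi_sub_eq_zero y 0 w hx
  have hfamA := fun w : W => P.exists_family (fun y => P.phi y w) 0
    (fun y => irr_isCharacter (P.phi_irr y w))
    (fun y => by simp [phi, _root_.map_one]) (hsA w) (fun y y' => by
      rw [irr_classInner (P.phi_irr y w) (P.phi_irr y' w)]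
      exact if_congr ⟨P.phi_inj, fun h => h ▸ rfl⟩ rfl rfl)
  choose δA μA mA hδA hμA hμA1 hdA hrA using hfamA
  obtain ⟨l₀⟩ : Nonempty L := Fintype.card_pos_iff.1 (Nat.zero_lt_one.trans ht)
  obtain ⟨δ, μ, mB, hδ, hμ, hμ1, hdB, hrB⟩ := P.exists_family (fun l => P.theta (rep l)) l₀
    (fun l => P.theta_char _) (fun l => by simp [theta, _root_.map_one, P.a_one])
    (fun l x hx => P.theta_sub_eq_zero _ _ hx) (fun l l' => by
      rw [P.inner_theta_theta (hrep l)]
      by_cases hll : l = l'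
      · subst hll; rw [if_pos rfl, if_pos ⟨1, rfl⟩]
      · rw [if_neg hll, if_neg]
        rintro ⟨g, hg⟩
        refine hll ?_
        rw [← Quotient.out_eq l, ← Quotient.out_eq l']
        exact Quotient.sound ⟨g, hg⟩)
  have : Nontrivial F := inferInstance
  have : Nontrivial L := Fintype.one_lt_card_iff_nontrivial.1 ht
  have hne : ∀ w y l, μA w y ≠ μ l := fun w => P.family_disjoint (f := fun y => P.phi y w) (f' := fun l => P.theta (rep l))
    (fun l => P.theta_class _)
    (fun y y' x hx => P.phi_sub_eq_zero y y' w hx) (fun y l => P.inner_phi_theta y w (hrep l))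
    (hδA w) hδ (hμA w) hμ (hdA w) hdB
  have hneA : ∀ w w' y y', μA w y = μA w' y' → w = w' := fun w w' y y' h => by
    by_contra hww
    refine P.family_disjoint (f := fun u => P.phi u w) (f' := fun u => P.phi u w')
      (fun l => irr_isClassFunction (P.phi_irr l w'))
      (fun y y' x hx => P.phi_sub_eq_zero y y' w hx) (fun u u' => ?_)
      (hδA w) (hδA w') (hμA w) (hμA w') (hdA w) (hdA w') y y' h
    rw [irr_classInner (P.phi_irr u w) (P.phi_irr u' w'), if_neg]
    intro e
    refine hww (MonoidHom.ext fun g => Units.ext ?_)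
    obtain ⟨x, hx1, hx2⟩ := P.surj g 0
    have := congrFun e x
    simpa [phi, phiHom_apply, hx1, hx2] using this
  refine ⟨δA, μA, fun χ => ∑ w, mA w χ, mB, δ, μ, hδA, hδ, fun w w' y y' h => ?_, hμ, hne,
    fun l l' => (hμ1 l).trans (hμ1 l').symm, fun χ y => ?_, fun χ l g => ?_⟩
  · obtain rfl := hneA w w' y y' h
    exact ⟨rfl, hμA w h⟩
  · rw [← P.sum_inner_phi, ← Finset.sum_add_distrib, Int.cast_sum]
    refine Finset.sum_congr rfl fun w _ => ?_
    rw [← classInner_conj_symm, hrA, map_intCast, add_comm]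
  · have hcl := isCharacter_isClassFunction (P.res_char χ)
    rw [P.coef_gal hcl, ← P.inner_theta hcl, ← classInner_conj_symm, hrB, map_intCast, add_comm]

/-- the norms off the identity, and their total -/
theorem sum_norm [Fintype (Quotient (orbitSetoid F K))] [Fintype (Cfsg.IrrCharacter H)]
    (P : Model N σ a) (cA : Cfsg.IrrCharacter H → F → ℤ)
    (cB : Cfsg.IrrCharacter H → Quotient (orbitSetoid F K) → ℤ)
    (hA : ∀ χ y, P.coef (P.res χ) (algebraMap F K y) = (cA χ y : ℂ))
    (hB : ∀ χ l (g : K ≃ₐ[F] K), P.coef (P.res χ) (g (l.out : K)) = (cB χ l : ℂ)) :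
    (∀ χ : Cfsg.IrrCharacter H, (χ : H → ℂ) 1 =
      ((∑ y, cA χ y + Module.finrank F K * ∑ l, cB χ l : ℤ) : ℂ)) ∧
    ∑ χ, ((Fintype.card K : ℤ) * (∑ y, cA χ y ^ 2 + Module.finrank F K * ∑ l, cB χ l ^ 2) -
        (∑ y, cA χ y + Module.finrank F K * ∑ l, cB χ l) ^ 2) =
      ((Fintype.card F : ℤ) - 1) * (Module.finrank F K * Fintype.card K) +
        Module.finrank F K * Fintype.card (Quotient (orbitSetoid F K)) * Fintype.card K := by
  classical
  let r := Module.finrank F K
  let q := Fintype.card F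
  let L := Quotient (orbitSetoid F K)
  let t := Fintype.card L
  let rep : L → K := fun l => (l.out : K)
  have hrep : ∀ l, rep l ∉ Set.range (algebraMap F K) := fun l => l.out.2
  let E := Equiv.ofBijective _ (orbit_bijective (F := F) (K := K) P.prime)
  have hgal : Fintype.card (K ≃ₐ[F] K) = r := by rw [← Nat.card_eq_fintype_card]; exact gal_card
  have hQt := P.card_split
  have hgal' : Fintype.card (K ≃ₐ[F] K) = r := hgal
  have hone : ∀ χ : Cfsg.IrrCharacter H, (χ : H → ℂ) 1 =
      ((∑ y, cA χ y + r * ∑ l, cB χ l : ℤ) : ℂ) := by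
    intro χ
    rw [show (χ : H → ℂ) 1 = P.res χ 1 from rfl, ← P.sum_coef (P.res χ), P.sum_split]
    simp only [hA, hB, Finset.sum_const, Finset.card_univ, hgal, Int.cast_add, Int.cast_mul,
      Int.cast_sum, Int.cast_natCast, nsmul_eq_mul, Finset.mul_sum]
  refine ⟨hone, Int.cast_injective (α := ℂ) ?_⟩
  have hnorm : ∀ χ : Cfsg.IrrCharacter H,
      ∑ b ∈ Finset.univ.erase (0 : K), (χ : H → ℂ) (P.el b) * conj ((χ : H → ℂ) (P.el b)) =
        (((Fintype.card K : ℤ) * (∑ y, cA χ y ^ 2 + r * ∑ l, cB χ l ^ 2) -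
          (∑ y, cA χ y + r * ∑ l, cB χ l) ^ 2 : ℤ) : ℂ) := by
    intro χ
    rw [Finset.sum_erase_eq_sub (Finset.mem_univ _)]
    have h := P.parseval (P.res χ)
    rw [P.sum_split (fun y => P.coef (P.res χ) y * conj (P.coef (P.res χ) y))] at h
    simp only [hA, hB, map_intCast, Finset.sum_const, Finset.card_univ, hgal, nsmul_eq_mul,
      ← Finset.mul_sum] at h
    change ∑ b, (χ : H → ℂ) (P.el b) * conj ((χ : H → ℂ) (P.el b)) = _ at h
    rw [h, P.el_zero, OneMemClass.coe_one, hone, map_intCast]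
    simp only [Int.cast_sub, Int.cast_mul, Int.cast_add, Int.cast_sum, Int.cast_pow,
      Int.cast_natCast, sq]
  rw [Int.cast_sum, ← Finset.sum_congr rfl fun χ _ => hnorm χ, Finset.sum_comm]
  rw [Finset.sum_congr rfl fun b hb => (show ∑ χ : Cfsg.IrrCharacter H,
      (χ : H → ℂ) (P.el b) * conj ((χ : H → ℂ) (P.el b)) =
      ((if b ∈ Set.range (algebraMap F K) then r * Fintype.card K else Fintype.card K : ℕ) : ℂ) by
    rw [column_orthogonality, if_pos (IsConj.refl _),
      P.card_centralizer (Finset.ne_of_mem_erase hb)])]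
  rw [Finset.sum_erase_eq_sub (Finset.mem_univ _),
    P.sum_split (fun b => ((if b ∈ Set.range (algebraMap F K) then r * Fintype.card K
      else Fintype.card K : ℕ) : ℂ))]
  have hn : ∀ (l : L) (g : K ≃ₐ[F] K), g (l.out : K) ∉ Set.range (algebraMap F K) := by
    rintro l g ⟨s, hs⟩
    exact hrep l ⟨s, g.injective (by rw [g.commutes, hs])⟩
  simp only [Set.mem_range_self, if_true, hn, if_false,
    if_pos (show (0 : K) ∈ Set.range (algebraMap F K) from ⟨0, map_zero _⟩),
    Finset.sum_const, Finset.card_univ, hgal, nsmul_eq_mul]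
  push_cast
  ring

open scoped Classical in
/-- each character carries at least its share, with equality only for equal multiplicities -/
theorem share {X W L : Type*} [Fintype W] [Fintype L] [DecidableEq X] (q r t : ℕ)
    (ι : Type*) [Fintype ι] (hι : Fintype.card ι = q) (hL : Fintype.card L = t)
    (hq : 3 ≤ q) (ht : 3 ≤ t) (hr : 2 ≤ r)
    (δA : W → ℤ) (hδA : ∀ w, δA w = 1 ∨ δA w = -1) (δ : ℤ) (hδ : δ = 1 ∨ δ = -1)
    (μA : W → ι → X) (μ : L → X) (hμA : ∀ w w' y y', μA w y = μA w' y' → w = w' ∧ y = y')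
    (hμ : Function.Injective μ) (hne : ∀ w y l, μA w y ≠ μ l) (A m : ℤ) (χ : X) :
    let cA : ι → ℤ := fun y => A + ∑ w, δA w * (if χ = μA w y then 1 else 0)
    let cB : L → ℤ := fun l => m + δ * (if χ = μ l then 1 else 0)
    let S := ((q + r * t : ℕ) : ℤ) * (∑ y, cA y ^ 2 + r * ∑ l, cB l ^ 2) -
      (∑ y, cA y + r * ∑ l, cB l) ^ 2
    let base := ∑ w, ∑ y, (((q + r * t : ℕ) : ℤ) - 1) * (if χ = μA w y then 1 else 0) +
      ∑ l, (r * (((q + r * t : ℕ) : ℤ) - r)) * (if χ = μ l then 1 else 0)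
    base ≤ S ∧ (base = S → A = m) := by
  intro cA cB S base
  have key := norm_identity r A m (fun y => ∑ w, δA w * (if χ = μA w y then 1 else 0))
    (fun l => δ * (if χ = μ l then 1 else 0))
  rw [hι, hL] at key
  change S = _ at key
  rw [key]
  obtain ⟨d, hd⟩ : ∃ d, d = A - m := ⟨_, rfl⟩
  rw [← hd, ← sub_eq_zero (a := A), ← hd]
  have hq' : (3 : ℤ) ≤ q := by exact_mod_cast hq
  have ht' : (3 : ℤ) ≤ t := by exact_mod_cast ht
  have hr' : (2 : ℤ) ≤ r := by exact_mod_cast hr
  by_cases hA : ∃ w y, χ = μA w y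
  · obtain ⟨w, y, hχ⟩ := hA
    have h1 : ∀ w' y', (if χ = μA w' y' then (1 : ℤ) else 0) =
        if w' = w then (if y' = y then 1 else 0) else 0 := fun w' y' => by
      rw [← ite_and]
      exact if_congr ⟨fun h => hμA w' w y' y (h.symm.trans hχ),
        fun ⟨h1, h2⟩ => h1 ▸ h2 ▸ hχ⟩ rfl rfl
    have h2 : ∀ l, χ ≠ μ l := fun l h => hne w y l (hχ.symm.trans h)
    have hd2 : δA w ^ 2 = 1 := by rcases hδA w with h | h <;> rw [h] <;> norm_num
    simp only [base, h1, h2, if_false, mul_ite, mul_one, mul_zero, Finset.sum_const_zero, add_zero,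
      Finset.sum_ite_eq', Finset.mem_univ, if_true, ite_pow, hd2, zero_pow two_ne_zero, sub_zero,
      Finset.sum_ite_irrel]
    rcases eq_or_ne d 0 with rfl | hd0
    · simp
    · have h3 : 0 < (r : ℤ) * t * (q * d ^ 2 + 2 * d * δA w) := by
        refine mul_pos (mul_pos (by linarith) (by linarith)) ?_
        rcases hδA w with h | h <;> rw [h] <;>
          rcases lt_or_gt_of_ne hd0 with hd1 | hd1 <;>
          nlinarith [mul_le_mul_of_nonneg_right hq' (sq_nonneg d)]
      constructor <;> intros <;> linarith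
  push Not at hA
  by_cases hB : ∃ l, χ = μ l
  · obtain ⟨l, rfl⟩ := hB
    have hd2 : δ ^ 2 = 1 := by rcases hδ with h | h <;> rw [h] <;> norm_num
    simp only [base, hA, if_false, hμ.eq_iff, mul_ite, mul_one, mul_zero, Finset.sum_const_zero,
      zero_add, Finset.sum_ite_eq, Finset.sum_ite_eq', Finset.mem_univ, if_true, ite_pow, hd2, mul_pow,
      zero_pow two_ne_zero, zero_sub]
    rcases eq_or_ne d 0 with rfl | hd0
    · constructor <;> intros <;> linarith
    · have h3 : 0 < (r : ℤ) * q * (t * d ^ 2 - 2 * d * δ) := by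
        refine mul_pos (mul_pos (by linarith) (by linarith)) ?_
        rcases hδ with h | h <;> rw [h] <;>
          rcases lt_or_gt_of_ne hd0 with hd1 | hd1 <;>
          nlinarith [mul_le_mul_of_nonneg_right ht' (sq_nonneg d)]
      constructor <;> intros <;> linarith
  push Not at hB
  simp only [base, hA, hB, if_false, mul_zero, Finset.sum_const_zero, add_zero,
    zero_pow two_ne_zero, sub_zero, zero_add]
  have h1 : 0 ≤ (q : ℤ) * (r * t) * d ^ 2 := by positivity
  refine ⟨h1, fun h => ?_⟩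
  have := h.symm
  simp only [mul_eq_zero, pow_eq_zero_iff two_ne_zero] at this
  omega

open scoped Classical in
/-- the exceptional characters: degree and values on the additive group -/
theorem exists_special (P : Model N σ a) (hq : 3 ≤ Fintype.card F)
    (hQ : 3 * Module.finrank F K + Fintype.card F ≤ Fintype.card K) :
    ∃ (t : ℕ) (rep : Fin t → K) (δ : ℤ) (m : ℤ) (μ : Fin t → Cfsg.IrrCharacter H),
      Fintype.card F + Module.finrank F K * t = Fintype.card K ∧ (δ = 1 ∨ δ = -1) ∧
      Function.Injective μ ∧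
      (∀ z : K, z ∉ Set.range (algebraMap F K) → ∃ l, ∃ g : K ≃ₐ[F] K, g (rep l) = z) ∧
      (∀ l, (μ l : H → ℂ) 1 = ((m * Fintype.card K + δ * Module.finrank F K : ℤ) : ℂ)) ∧
      ∀ l (b : K), b ≠ 0 →
        (μ l : H → ℂ) (P.el b) = (δ : ℂ) * ∑ g : K ≃ₐ[F] K, psi F K (g (rep l) * b) := by
  have := Fintype.ofFinite (Quotient (orbitSetoid F K))
  have := finite_lin F K
  have := Fintype.ofFinite ((K ≃ₐ[F] K) →* ℂˣ)
  have := Fintype.ofFinite (Cfsg.IrrCharacter H)
  have hQt := P.card_split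
  have ht : 3 ≤ Fintype.card (Quotient (orbitSetoid F K)) := Nat.le_of_mul_le_mul_left (by omega :
    (Module.finrank F K) * 3 ≤ (Module.finrank F K) * Fintype.card (Quotient (orbitSetoid F K))) P.prime.pos
  obtain ⟨δA, μA, A, mB, δ, μ, hδA, hδ, hμA, hμ, hne, hμ1, hA, hB⟩ := P.exists_coef (by omega)
  obtain ⟨hone, htot⟩ := P.sum_norm _ _ hA hB
  have hshare := fun χ => share (Fintype.card F) (Module.finrank F K) (Fintype.card (Quotient (orbitSetoid F K))) F rfl rfl hq ht P.prime.two_le δA hδA δ hδ μA μ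
    hμA hμ hne (A χ) (mB χ) χ
  dsimp only at hshare
  simp only [hQt] at hshare
  have hbase : ∑ χ : Cfsg.IrrCharacter H,
      (∑ w, ∑ y : F, ((Fintype.card K : ℤ) - 1) * (if χ = μA w y then 1 else 0) +
      ∑ l : (Quotient (orbitSetoid F K)), (((Module.finrank F K) : ℤ) * ((Fintype.card K : ℤ) - (Module.finrank F K))) * (if χ = μ l then 1 else 0)) =
      (((Fintype.card F) : ℤ) - 1) * ((Module.finrank F K) * Fintype.card K) + (Module.finrank F K) * Fintype.card (Quotient (orbitSetoid F K)) * Fintype.card K := by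
    simp only [Finset.sum_add_distrib]
    rw [Finset.sum_comm (γ := Cfsg.IrrCharacter H), Finset.sum_comm (γ := Cfsg.IrrCharacter H)]
    simp only [Finset.sum_comm (γ := Cfsg.IrrCharacter H), mul_ite, mul_one, mul_zero,
      Finset.sum_ite_eq', Finset.mem_univ, if_true, Finset.sum_const, Finset.card_univ, card_lin,
      nsmul_eq_mul, ← hQt]
    push_cast
    ring
  have hall : ∀ χ, A χ = mB χ := fun χ => (hshare χ).2
    ((Finset.sum_eq_sum_iff_of_le fun χ _ => (hshare χ).1).1 (hbase.trans htot.symm) χ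
      (Finset.mem_univ χ))
  have hgal : Fintype.card (K ≃ₐ[F] K) = (Module.finrank F K) := by rw [← Nat.card_eq_fintype_card]; exact gal_card
  obtain ⟨l₀⟩ : Nonempty (Quotient (orbitSetoid F K)) := Fintype.card_pos_iff.1 (by omega)
  let e := (Fintype.equivFin (Quotient (orbitSetoid F K))).symm
  have hi : ∀ l y, ∑ w, δA w * (if μ l = μA w y then 1 else 0) = 0 := fun l y =>
    Finset.sum_eq_zero fun w _ => by rw [if_neg (hne w y l).symm, mul_zero]
  have hdeg : ∀ l, (μ l : H → ℂ) 1 = ((mB (μ l) * Fintype.card K + δ * (Module.finrank F K) : ℤ) : ℂ) := fun l => by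
    rw [hone, hall, ← hQt]
    simp only [hi]
    simp only [hμ.eq_iff, mul_ite, mul_one, mul_zero, add_zero, Finset.sum_add_distrib,
      Finset.sum_const, Finset.card_univ, nsmul_eq_mul, Finset.sum_ite_eq, Finset.mem_univ, if_true]
    push_cast
    ring
  have hm : ∀ l, mB (μ l) = mB (μ l₀) := fun l => by
    have h := hμ1 l l₀
    rw [hdeg, hdeg] at h
    exact mul_right_cancel₀ (Nat.cast_ne_zero.2 Fintype.card_ne_zero)
      (add_right_cancel (Int.cast_injective h))
  refine ⟨Fintype.card (Quotient (orbitSetoid F K)), fun i => ((e i).out : K), δ, mB (μ l₀), μ ∘ e, hQt, hδ,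
    hμ.comp e.injective, fun z hz => ?_, fun l => by rw [Function.comp_apply, hdeg, hm],
    fun l b hb => ?_⟩
  · obtain ⟨g, hg⟩ := Quotient.mk_out (s := orbitSetoid F K) ⟨z, hz⟩
    exact ⟨e.symm ⟦⟨z, hz⟩⟧, g, by simp only [e.apply_symm_apply]; exact hg⟩
  · show P.res (μ (e l)) (P.el b) = _
    set l' := e l
    have h0 : ∑ y : K, (mB (μ l') : ℂ) * psi F K (y * b) = 0 := by
      rw [← Finset.mul_sum, psi_sum, if_neg hb, mul_zero]
    rw [← P.inversion (P.res (μ l')), ← sub_zero (∑ y : K, P.coef _ _ * _), ← h0, ← Finset.sum_sub_distrib]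
    simp only [← sub_mul]
    rw [P.sum_split (fun y => (P.coef (P.res (μ l')) y - (mB (μ l') : ℂ)) * psi F K (y * b))]
    simp only [hA, hB, hall, hi]
    simp only [hμ.eq_iff, Int.cast_add, Int.cast_mul, Int.cast_zero, add_zero, sub_self, zero_mul,
      Finset.sum_const_zero, zero_add, add_sub_cancel_left, apply_ite (Int.cast (R := ℂ)),
      Int.cast_one, ite_mul, mul_ite, mul_zero, mul_one, Finset.sum_ite_irrel, Finset.sum_ite_eq,
      Finset.mem_univ, if_true, ← Finset.mul_sum]
    rfl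

end Model

end CfsgLib.MaxSub.OExt.Three
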