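import Cfsg.Agent.Lib.MaxSub.OExtFill

/-!
Degree two: overgroups of the semilinear orthogonal group of a trace form are semilinear or contain the
commutator group, dimension at least three over the subfield (no hyperbolic pair in the orthogonal of a
hyperbolic pair is needed).
-/

set_option autoImplicit false
set_option linter.unusedSectionVars false

namespace CfsgLib.MaxSub.OExt

open CfsgLib.Classical CfsgLib.Geom
open QuadraticMap (polar)

variable {F K V : Type*} [Field F] [Field K] [Algebra F K] [AddCommGroup V] [Module K V]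
  [Module F V] [IsScalarTower F K V]

namespace Ctx

variable [Finite F] [Finite K] [Module.Finite K V] [Module.Finite F K] [FiniteDimensional F V]
  {Q : QuadraticForm F V} {φ : V →ₗ[K] V →ₗ[K] K} {τ : K →ₗ[F] F} {M : Subgroup (quadIsoms Q)}

/-- a normalised basis `1, θ` of a quadratic extension and coordinates -/
theorem decomp_two (hr : Module.finrank F K = 2) {θ : K} {d : F} (hd : d ≠ 0)
    (hθd : θ * θ = algebraMap F K d) (h1 : τ 1 = 1) (hθ : τ θ = 0) (a : K) :
    a = τ a • (1 : K) + (τ (θ * a) / d) • θ := by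
  have hli : LinearIndependent F ![(1 : K), θ] := by
    rw [LinearIndependent.pair_iff' one_ne_zero]
    intro t ht
    have hθ0 : θ ≠ 0 := fun e => hd ((map_eq_zero (algebraMap F K)).1 (by rw [← hθd, e, mul_zero]))
    have e := congrArg τ ht
    rw [map_smul, h1, hθ, smul_eq_mul, mul_one] at e
    exact hθ0 (by rw [← ht, e, zero_smul])
  have hmem : a ∈ Submodule.span F (Set.range ![(1 : K), θ]) := by
    rw [hli.span_eq_top_of_card_eq_finrank (by rw [Fintype.card_fin]; omega)]
    exact Submodule.mem_top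
  rw [Matrix.range_cons, Matrix.range_cons, Matrix.range_empty, Set.union_empty,
    Set.singleton_union, Submodule.mem_span_pair] at hmem
  obtain ⟨r, s, rfl⟩ := hmem
  have e1 : τ (r • (1 : K) + s • θ) = r := by simp [h1, hθ]
  have e2 : τ (θ * (r • (1 : K) + s • θ)) = s * d := by
    rw [mul_add, mul_smul_comm, mul_smul_comm, mul_one, hθd, Algebra.algebraMap_eq_smul_one]
    simp [h1, hθ]
  rw [e1, e2, mul_div_assoc, div_self hd, mul_one]

/-- the two Siegel transformations making up a Siegel element of the `K`-form -/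
theorem two_siegel_mem (C : Ctx Q φ τ M) (hr : Module.finrank F K = 2) (hg : ∃ g ∈ M, ¬ KSemi K g.1)
    {θ : K} {d : F} (hd : d ≠ 0) (hθd : θ * θ = algebraMap F K d) (h1 : τ 1 = 1) (hθ : τ θ = 0)
    {v w : V} (hv : v ≠ 0) (hvv : φ v v = 0) (hvw : φ v w = 0) :
    siegel Q v w * siegel Q (θ • v) ((d⁻¹ • θ) • w) ∈ M := by
  obtain ⟨g, hgM, -, hgx⟩ := C.exists_S hvv hvw
  set μ : F := τ (θ * φ w w) / d with hμ
  let E : K →ₗ[F] K := (μ / 2) • (τ.smulRight θ - (τ ∘ₗ LinearMap.mulLeft F θ).smulRight 1)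
  have hEa : ∀ a, E a = (μ / 2) • (τ a • θ - τ (θ * a) • 1) := fun a => rfl
  obtain ⟨L, hLM, hLx⟩ := C.skew_all hr hg hv hvv E fun a b => by
    simp only [hEa, mul_sub, mul_smul_comm, map_sub, map_smul, smul_eq_mul, mul_one, mul_comm a θ,
      mul_comm b θ]
    ring
  have hQv : Q v = 0 := by simpa using C.q_zero hvv 1
  have hQt : Q (θ • v) = 0 := C.q_zero hvv θ
  have hp1 : polar Q v w = 0 := by rw [C.rel, hvw, map_zero]
  have hp2 : polar Q (θ • v) ((d⁻¹ • θ) • w) = 0 := by
    rw [C.polar_smul, hvw, mul_zero, map_zero]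
  suffices siegel Q v w * siegel Q (θ • v) ((d⁻¹ • θ) • w) = g * L by
    rw [this]; exact mul_mem hgM hLM
  refine quadIsoms_ext Q fun z => ?_
  rw [mul_apply', mul_apply', hgx, hLx, siegel_apply Q hQv hp1, siegel_apply Q hQt hp2]
  have hQw : Q w = τ (φ w w) / 2 := by
    rw [eq_div_iff C.two, ← C.rel, polar_self_two, mul_comm]
  have hQw' : Q ((d⁻¹ • θ) • w) = d⁻¹ * τ (φ w w) / 2 := by
    rw [eq_div_iff C.two, mul_comm (Q _), ← polar_self_two, C.polar_smul,
      show d⁻¹ • θ * d⁻¹ • θ * φ w w = (d⁻¹ * d⁻¹ * d) • φ w w by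
        rw [smul_mul_assoc, mul_smul_comm, smul_smul, hθd, Algebra.smul_def, Algebra.smul_def, map_mul _ (d⁻¹ * d⁻¹) d, mul_assoc]]
    rw [map_smul, smul_eq_mul]
    field_simp
  have hA : ∀ (t : F) (u : V), t • u = algebraMap F K t • u := fun t u =>
    (IsScalarTower.algebraMap_smul K t u).symm
  have hs1 : ∀ a : K, a = algebraMap F K (τ a) + algebraMap F K (τ (θ * a) / d) * θ := fun a => by
    have := decomp_two (τ := τ) hr hd hθd h1 hθ a
    rw [Algebra.smul_def, Algebra.smul_def, mul_one] at this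
    exact this
  have ea := hs1 (φ v z)
  have eb := hs1 (φ w z)
  have ec := hs1 (φ w w)
  have hd0 : algebraMap F K d ≠ 0 := (map_ne_zero _).2 hd
  have h2 := C.two'
  simp only [C.rel, map_add, map_sub, map_smul, LinearMap.add_apply,
    LinearMap.sub_apply, LinearMap.smul_apply, LinearMap.map_smul_of_tower, sMap, hQw, hQw', hμ,
    hvv, hvw, C.symm w v, C.symm z v, C.symm z w, smul_eq_mul, mul_zero, map_zero, add_zero, sub_zero, hEa,
    smul_mul_assoc]
  simp only [hA, smul_smul, Algebra.smul_def, map_add, map_sub, map_mul, map_div₀, map_inv₀, map_ofNat,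
    mul_one] at ea eb ec ⊢
  generalize φ v z = a at *
  generalize φ w z = b at *
  generalize φ w w = c at *
  match_scalars
  · ring
  · linear_combination -ea
  · linear_combination (norm := (field_simp; ring)) eb + (a / 2) * ec +
      ((algebraMap F K (τ c) + algebraMap F K (τ (θ * c)) / algebraMap F K d * θ) / 2) * ea +
      (algebraMap F K (τ (θ * c)) * algebraMap F K (τ (θ * a)) / (2 * algebraMap F K d ^ 2)) * hθd

/-- all Siegel transformations with one parameter orthogonal to a hyperbolic pair -/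
theorem root_two (C : Ctx Q φ τ M) (hr : Module.finrank F K = 2) (hg : ∃ g ∈ M, ¬ KSemi K g.1)
    {θ : K} {d : F} (hd : d ≠ 0) (hθd : θ * θ = algebraMap F K d) (h1 : τ 1 = 1) (hθ : τ θ = 0)
    {u x : V} (huu : φ u u = 0) (hxx : φ x x = 0) (hxu : φ x u = 1) {w : V} (hwu : φ w u = 0)
    (hwx : φ w x = 0) : siegel Q (θ • x) w ∈ M ∧ siegel Q x w ∈ M := by
  have hu : u ≠ 0 := fun e => one_ne_zero (α := K) (by rw [← hxu, e, map_zero])
  have hx : x ≠ 0 := fun e => one_ne_zero (α := K) (by rw [← hxu, e, map_zero, LinearMap.zero_apply])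
  have hux : φ u x = 1 := by rw [C.symm]; exact hxu
  have huw : φ u w = 0 := by rw [C.symm]; exact hwu
  have hxw : φ x w = 0 := by rw [C.symm]; exact hwx
  have hQx : Q x = 0 := by simpa using C.q_zero hxx 1
  have hQt : Q (θ • x) = 0 := C.q_zero hxx θ
  have hpx : ∀ (r : K) (v : V), φ x v = 0 → polar Q (r • x) v = 0 := fun r v h => by
    rw [C.rel, φ.map_smul, LinearMap.smul_apply, h, smul_zero, map_zero]
  have hpx1 : ∀ (v : V), φ x v = 0 → polar Q x v = 0 := fun v h => by rw [C.rel, h, map_zero]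
  -- the semilinear element exchanging the two points
  let D : K →ₗ[F] K := τ.smulRight θ - (τ ∘ₗ LinearMap.mulLeft F θ).smulRight 1
  have hDa : ∀ a, D a = τ a • θ - τ (θ * a) • 1 := fun a => rfl
  have hskew : ∀ (c : F) a b, τ (a * (c • D) b) + τ (b * (c • D) a) = 0 := fun c a b => by
    simp only [LinearMap.smul_apply, hDa, mul_sub, mul_smul_comm, map_sub, map_smul, smul_eq_mul, mul_one,
      mul_comm a θ, mul_comm b θ]
    ring
  obtain ⟨A, hA, hAz⟩ := C.skew_all hr hg hu huu ((1 : F) • D) (hskew 1)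
  obtain ⟨B, hB, hBz⟩ := C.skew_all hr hg hx hxx (d⁻¹ • D) (hskew _)
  have hn : A * B * A ∈ M := mul_mem (mul_mem hA hB) hA
  have hD1 : D 1 = θ := by rw [hDa, h1, mul_one, hθ, one_smul, zero_smul, sub_zero]
  have hDθ : D θ = -(d • (1 : K)) := by
    rw [hDa, hθ, hθd, Algebra.algebraMap_eq_smul_one, map_smul, h1, smul_eq_mul, mul_one, zero_smul, zero_sub]
  have hA' : ∀ z, A.1 z = z + D (φ z u) • u := fun z => by
    rw [hAz]; simp only [LinearMap.smul_apply, one_smul]
  have hB' : ∀ z, B.1 z = z + (d⁻¹ • D (φ z x)) • x := fun z => by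
    rw [hBz]; simp only [LinearMap.smul_apply]
  have hnu : ∀ a : K, (A * B * A).1 (a • u) = (a + D (d⁻¹ • D a)) • u + (d⁻¹ • D a) • x := by
    intro a
    rw [mul_apply', mul_apply', hA' (a • u),
      show φ (a • u) u = 0 by rw [φ.map_smul, LinearMap.smul_apply, huu, smul_zero],
      map_zero, zero_smul, add_zero, hB',
      show φ (a • u) x = a by rw [φ.map_smul, LinearMap.smul_apply, hux, smul_eq_mul, mul_one], hA',
      show φ (a • u + (d⁻¹ • D a) • x) u = d⁻¹ • D a by simp [huu, hxu], add_smul]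
    abel
  have hn1 : (A * B * A).1 u = (d⁻¹ • θ) • x := by
    have h := hnu 1
    rw [one_smul, hD1, map_smul, hDθ, smul_neg, smul_smul, inv_mul_cancel₀ hd, one_smul, add_neg_cancel,
      zero_smul, zero_add] at h
    exact h
  have hnθ : (A * B * A).1 (θ • u) = -x := by
    have h := hnu θ
    rw [hDθ, smul_neg, smul_smul, inv_mul_cancel₀ hd, one_smul, map_neg, hD1, add_neg_cancel, zero_smul,
      zero_add, neg_one_smul] at h
    exact h
  have hnw : ∀ v, φ v u = 0 → φ v x = 0 → (A * B * A).1 v = v := fun v hvu hvx => by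
    rw [mul_apply', mul_apply', hA' v, hvu, map_zero, zero_smul, add_zero, hB' v, hvx, map_zero, smul_zero,
      zero_smul, add_zero, hA' v, hvu, map_zero, zero_smul, add_zero]
  have key0 : ∀ v, φ v u = 0 → φ v x = 0 → siegel Q (θ • x) ((2 * d⁻¹) • v) ∈ M := by
    intro v hvu hvx
    have huv : φ u v = 0 := by rw [C.symm]; exact hvu
    have hxv : φ x v = 0 := by rw [C.symm]; exact hvx
    have hxt : ∀ r : K, φ x (r • v) = 0 := fun r => by rw [(φ x).map_smul, hxv, smul_zero]
    have h2 := mul_mem (mul_mem hn (C.two_siegel_mem hr hg hd hθd h1 hθ hu huu huv)) (inv_mem hn)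
    rw [show A * B * A * (siegel Q u v * siegel Q (θ • u) ((d⁻¹ • θ) • v)) * (A * B * A)⁻¹ =
      (A * B * A * siegel Q u v * (A * B * A)⁻¹) * (A * B * A * siegel Q (θ • u) ((d⁻¹ • θ) • v) *
        (A * B * A)⁻¹) by group, siegel_conj, siegel_conj, hn1, hnθ, hnw v hvu hvx,
      hnw ((d⁻¹ • θ) • v) (by simp [hvu]) (by simp [hvx]), smul_assoc d⁻¹ θ x,
      siegel_smul Q hQt (hpx θ v hxv), ← neg_one_smul F x, siegel_smul Q hQx (hpx1 _ (hxt _)), neg_one_smul,
      ← siegel_neg Q hQx (hpx1 _ (hxt _))] at h2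
    have h3 := C.two_siegel_mem hr hg hd hθd h1 hθ hx hxx (hxt (d⁻¹ • θ))
    rw [show (d⁻¹ • θ) • (d⁻¹ • θ) • v = d⁻¹ • v by
      rw [smul_smul, smul_mul_assoc, mul_smul_comm, smul_smul, hθd, Algebra.algebraMap_eq_smul_one, smul_smul,
        mul_assoc, inv_mul_cancel₀ hd, mul_one, smul_one_smul]] at h3
    have h4 : siegel Q (θ • x) (d⁻¹ • v) * siegel Q (θ • x) (d⁻¹ • v) ∈ M := by
      have h := mul_mem h2 h3
      rwa [show ∀ (p q : quadIsoms Q), p * q⁻¹ * (q * p) = p * p from fun p q => by group] at h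
    have hpv : ∀ s : F, polar Q (θ • x) (s • v) = 0 := fun s => by
      rw [QuadraticMap.polar_smul_right, hpx θ v hxv, smul_zero]
    rw [← siegel_add Q hQt (hpv _) (hpv _), ← add_smul, ← two_mul] at h4
    exact h4
  have key : ∀ v, φ v u = 0 → φ v x = 0 → siegel Q (θ • x) v ∈ M := fun v hvu hvx => by
    have h := key0 ((d / 2) • v) (by simp [hvu]) (by simp [hvx])
    rwa [smul_smul, show 2 * d⁻¹ * (d / 2) = 1 by field_simp [C.two], one_smul] at h
  have key' : ∀ v, φ v u = 0 → φ v x = 0 → siegel Q x v ∈ M := fun v hvu hvx => by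
    have hxv : φ x v = 0 := by rw [C.symm]; exact hvx
    exact (Subgroup.mul_mem_cancel_right M (key _ (by simp [hvu]) (by simp [hvx]))).1
      (C.two_siegel_mem hr hg hd hθd h1 hθ hx hxx hxv)
  exact ⟨key w hwu hwx, key' w hwu hwx⟩

/-- all Siegel transformations at every singular vector, degree two, normalised trace -/
theorem full_two (C : Ctx Q φ τ M) (hr : Module.finrank F K = 2) (hg : ∃ g ∈ M, ¬ KSemi K g.1)
    {θ : K} {d : F} (hd : d ≠ 0) (hθd : θ * θ = algebraMap F K d) (h1 : τ 1 = 1) (hθ : τ θ = 0)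
    {u : V} (hu : u ≠ 0) (huu : φ u u = 0) : OrthSub.Full M u := by
  obtain ⟨x, hxx, hxu⟩ := C.exists_opp hu huu
  have hux : φ u x = 1 := by rw [C.symm]; exact hxu
  have hQu : Q u = 0 := by simpa using C.q_zero huu 1
  have hQt : Q (θ • x) = 0 := C.q_zero hxx θ
  have hτu : ∀ a : K, polar Q u (a • u) = 0 := fun a => by
    rw [C.rel, (φ u).map_smul, huu, smul_zero, map_zero]
  have hτx : ∀ {c : K}, τ c = 0 → polar Q u (c • x) = 0 := fun {c} hc => by
    rw [C.rel, (φ u).map_smul, hux, smul_eq_mul, mul_one, hc]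
  have hτm : ∀ {w}, φ w u = 0 → polar Q u w = 0 := fun h => by rw [C.rel, C.symm, h, map_zero]
  have hperp : ∀ {w}, φ w u = 0 → φ w x = 0 → siegel Q u w ∈ M := fun hwu hwx =>
    (C.root_two hr hg hd hθd h1 hθ hxx huu hux hwx hwu).2
  -- two vectors of the orthogonal plane
  obtain ⟨w, hw0, hwu, hwx⟩ : ∃ w, w ≠ 0 ∧ φ w u = 0 ∧ φ w x = 0 := by
    let L : V →ₗ[K] K × K := (φ.flip u).prod (φ.flip x)
    obtain ⟨w, hw, hw0⟩ := Submodule.exists_mem_ne_zero_of_ne_bot (p := LinearMap.ker L) fun e => by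
      have h := LinearMap.finrank_range_add_finrank_ker L
      have h2 := Submodule.finrank_le (LinearMap.range L)
      rw [Module.finrank_prod, Module.finrank_self] at h2
      rw [e, finrank_bot] at h
      have := C.three
      omega
    obtain ⟨h2, h3⟩ : φ w u = 0 ∧ φ w x = 0 := Prod.ext_iff.mp hw
    exact ⟨w, hw0, h2, h3⟩
  obtain ⟨z, hz⟩ : ∃ z, polar Q w z = 1 := exists_partner Q C.sep hw0
  set w' := z - φ z x • u - φ z u • x with hw'
  have hw'u : φ w' u = 0 := by simp [hw', huu, hxu]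
  have hw'x : φ w' x = 0 := by simp [hw', hxx, hux]
  have hww' : polar Q w w' = 1 := by
    rw [← hz, C.rel, C.rel]
    simp [hw', hwu, hwx]
  have hline : ∀ c : K, τ c = 0 → siegel Q u (c • x) ∈ M := by
    intro c hc
    obtain ⟨t, rfl⟩ : ∃ t : F, c = t • θ := ⟨τ (θ * c) / d, by
      conv_lhs => rw [decomp_two (τ := τ) hr hd hθd h1 hθ c]
      rw [hc, zero_smul, zero_add]⟩
    have hX := (C.root_two hr hg hd hθd h1 hθ huu hxx hxu hwu hwx).1
    set X := siegel Q (θ • x) w
    have hpw : polar Q (θ • x) w = 0 := by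
      rw [C.rel, φ.map_smul, LinearMap.smul_apply, C.symm, hwx, smul_zero, map_zero]
    have hXu : X.1 u = u := by
      rw [siegel_apply Q hQt hpw, C.rel, C.rel, φ.map_smul, LinearMap.smul_apply, hxu, hwu, smul_eq_mul,
        mul_one, hθ, map_zero]
      simp
    have hXw : X.1 ((-t) • w') = (-t) • w' + (t • θ) • x := by
      have hz0 : polar Q (θ • x) ((-t) • w') = 0 := by
        rw [QuadraticMap.polar_smul_right, C.rel, φ.map_smul, LinearMap.smul_apply, C.symm x w', hw'x, smul_zero,
          map_zero, smul_zero]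
      rw [siegel_apply Q hQt hpw, hz0, QuadraticMap.polar_smul_right, hww', zero_smul, add_zero, mul_zero,
        add_zero, smul_eq_mul, mul_one, smul_assoc, neg_smul t (θ • x), sub_neg_eq_add]
    have hm : siegel Q u ((-t) • w') ∈ M := hperp (by simp [hw'u]) (by simp [hw'x])
    have h := mul_mem (mul_mem hX hm) (inv_mem hX)
    rw [siegel_conj, hXu, hXw, siegel_add Q hQu (hτm (by simp [hw'u])) (hτx hc)] at h
    exact (mul_mem_cancel_left hm).mp h
  intro v hv
  set v' := v - φ v x • u - φ v u • x with hv'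
  have e1 : φ v' u = 0 := by simp [hv', huu, hxu]
  have e2 : φ v' x = 0 := by simp [hv', hxx, hux]
  have hc : τ (φ v u) = 0 := by rw [C.symm, ← C.rel]; exact hv
  rw [show v = φ v x • u + φ v u • x + v' by rw [hv']; abel,
    siegel_add Q hQu (by rw [QuadraticMap.polar_add_right, hτu, hτx hc, add_zero]) (hτm e1),
    siegel_add Q hQu (hτu _) (hτx hc)]
  exact mul_mem (mul_mem (C.siegel_line hg hu huu _) (hline _ hc)) (hperp e1 e2)

/-- degree two: a non-semilinear element gives the commutator group -/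
theorem commutator_le_two (C : Ctx Q φ τ M) (hr : Module.finrank F K = 2) (hg : ∃ g ∈ M, ¬ KSemi K g.1) :
    commutator (quadIsoms Q) ≤ M := by
  -- a square root of a scalar outside the subfield
  obtain ⟨θ, d, hd, hθd, hli⟩ : ∃ (θ : K) (d : F), d ≠ 0 ∧ θ * θ = algebraMap F K d ∧
      LinearIndependent F ![(1 : K), θ] := by
    obtain ⟨θ₀, hθ₀⟩ : ∃ θ : K, ∀ t : F, algebraMap F K t ≠ θ := by
      by_contra hall
      push Not at hall
      have : (⊥ : Subalgebra F K) = ⊤ := eq_top_iff.mpr fun x _ => Algebra.mem_bot.mpr (hall x)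
      rw [Subalgebra.bot_eq_top_iff_finrank_eq_one, hr] at this
      exact absurd this (by norm_num)
    have hli0 : LinearIndependent F ![(1 : K), θ₀] := by
      rw [LinearIndependent.pair_iff' one_ne_zero]
      intro t ht
      rw [← Algebra.algebraMap_eq_smul_one] at ht
      exact hθ₀ t ht
    have hmem : θ₀ * θ₀ ∈ Submodule.span F (Set.range ![(1 : K), θ₀]) := by
      rw [hli0.span_eq_top_of_card_eq_finrank (by rw [Fintype.card_fin]; omega)]
      exact Submodule.mem_top
    rw [Matrix.range_cons, Matrix.range_cons, Matrix.range_empty, Set.union_empty,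
      Set.singleton_union, Submodule.mem_span_pair] at hmem
    obtain ⟨a, b, hab⟩ := hmem
    have h2 := C.two'
    have hsq : (θ₀ - algebraMap F K (b / 2)) * (θ₀ - algebraMap F K (b / 2)) =
        algebraMap F K (a + b / 2 * (b / 2)) := by
      rw [Algebra.smul_def, Algebra.smul_def, mul_one] at hab
      rw [map_add, map_mul, map_div₀, map_ofNat]
      linear_combination (norm := (field_simp; ring)) -hab
    refine ⟨_, _, fun e => ?_, hsq, ?_⟩
    · rw [e, map_zero, mul_self_eq_zero, sub_eq_zero] at hsq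
      exact hθ₀ _ hsq.symm
    · rw [LinearIndependent.pair_iff' one_ne_zero]
      intro t ht
      rw [← Algebra.algebraMap_eq_smul_one, eq_sub_iff_add_eq, ← map_add] at ht
      exact hθ₀ _ ht
  have htop := hli.span_eq_top_of_card_eq_finrank (by rw [Fintype.card_fin]; omega)
  let bb := Module.Basis.mk hli htop.ge
  obtain ⟨b, hb⟩ := C.exists_rep (bb.coord 0)
  have hb1 : bb.coord 0 1 = 1 := by
    rw [show (1 : K) = bb 0 by rw [Module.Basis.mk_apply]; rfl, Module.Basis.coord_apply, Module.Basis.repr_self]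
    simp
  have hbθ : bb.coord 0 θ = 0 := by
    rw [show θ = bb 1 by rw [Module.Basis.mk_apply]; rfl, Module.Basis.coord_apply, Module.Basis.repr_self]
    simp
  have hb0 : b ≠ 0 := fun e => one_ne_zero (α := F) (by rw [← hb1, hb, e, zero_mul, map_zero])
  have C' : Ctx Q (b⁻¹ • φ) (bb.coord 0) M :=
    ⟨C.sep, fun y z => by simp [C.symm y z], fun y z => by
        rw [C.rel, hb, LinearMap.smul_apply, LinearMap.smul_apply, smul_eq_mul, mul_inv_cancel_left₀ hb0],
      fun e => one_ne_zero (α := F) (by rw [← hb1, e, LinearMap.zero_apply]), C.two, C.prime, C.three, C.gap,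
      C.sub, C.mem⟩
  obtain ⟨u, hu, huu⟩ := C'.exists_sing
  obtain ⟨x, hxx, hxu⟩ := C'.exists_opp hu huu
  have hx : x ≠ 0 := fun e => one_ne_zero (α := K) (by rw [← hxu, e, map_zero, LinearMap.zero_apply])
  have hux : (b⁻¹ • φ) u x = 1 := by rw [C'.symm]; exact hxu
  refine OrthSub.commutator_le_of_pair C.sep C.five (C'.full_two hr hg hd hθd hb1 hbθ hu huu)
    (C'.full_two hr hg hd hθd hb1 hbθ hx hxx) (by simpa using C'.q_zero huu 1) (by simpa using C'.q_zero hxx 1) ?_
  rw [C'.rel, hux, hb1]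
  exact one_ne_zero

end Ctx

end CfsgLib.MaxSub.OExt
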