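import Cfsg.Agent.Lib.MaxSub.OFiveTools

/-!
An overgroup of the stabiliser of a three-space and its perpendicular plane in the five-dimensional orthogonal
space: one Siegel transformation off the three-space gives the commutator subgroup, and an element keeping a
singular vector of the three-space keeps the three-space.
-/

set_option autoImplicit false
set_option linter.unusedSectionVars false

namespace CfsgLib.MaxSub.OFive

open CfsgLib.Classical CfsgLib.Geom CfsgLib.Geom.OrthSub CfsgLib.MaxSub CfsgLib.MaxSub.OFrame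
open CfsgLib.MaxSub.ORefl (rs rs_apply rs_fix rs_self rs_conj_pair rs_pair_mem_commutator rs_shift)
open QuadraticMap (polar)

variable {F V : Type*} [Field F] [Finite F] [AddCommGroup V] [Module F V] [FiniteDimensional F V]
variable {Q : QuadraticForm F V}

/-- `g` maps `A` into itself -/
def Keeps (A : Submodule F V) (g : quadIsoms Q) : Prop := ∀ x ∈ A, g.1 x ∈ A

theorem Keeps.inv {A : Submodule F V} {g : quadIsoms Q} (hg : Keeps A g) : Keeps A g⁻¹ := fun x hx => by
  obtain ⟨⟨y, hy⟩, e⟩ := (LinearMap.injective_iff_surjective (f := g.1.toLinearMap.restrict hg)).1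
    (fun a b e => Subtype.ext (g.1.injective (congrArg Subtype.val e))) ⟨x, hx⟩
  have e' : g.1 y = x := congrArg Subtype.val e
  rw [← e', show (g⁻¹).1 (g.1 y) = y from congrArg (fun k : quadIsoms Q => k.1 y) (inv_mul_cancel g)]
  exact hy

/-- An overgroup of the stabiliser of `A ⊕ B`. -/
structure Pair (Q : QuadraticForm F V) (A B : Submodule F V) (M : Subgroup (quadIsoms Q)) : Prop where
  two : (2 : F) ≠ 0
  card : 5 ≤ Nat.card F
  sep : ∀ x, (∀ y, polar Q x y = 0) → x = 0
  perp : ∀ a ∈ A, ∀ b ∈ B, polar Q a b = 0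
  sup : A ⊔ B = ⊤
  dimA : Module.finrank F A = 3
  dimB : Module.finrank F B = 2
  hH : ∀ g ∈ commutator (quadIsoms Q), Keeps A g → g ∈ M

namespace Pair

variable {A B : Submodule F V} {M : Subgroup (quadIsoms Q)} (h : Pair Q A B M)
include h

theorem perp' {a b : V} (hb : b ∈ B) (ha : a ∈ A) : polar Q b a = 0 := by
  rw [QuadraticMap.polar_comm]; exact h.perp a ha b hb

theorem decomp (v : V) : ∃ a ∈ A, ∃ b ∈ B, a + b = v :=
  Submodule.mem_sup.1 (h.sup ▸ Submodule.mem_top : v ∈ A ⊔ B)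

theorem ndA : NdOn Q A := fun x hx h0 => h.sep x fun v => by
  obtain ⟨a, ha, b, hb, rfl⟩ := h.decomp v
  rw [QuadraticMap.polar_add_right, h0 a ha, h.perp x hx b hb, add_zero]

theorem ndB : NdOn Q B := fun x hx h0 => h.sep x fun v => by
  obtain ⟨a, ha, b, hb, rfl⟩ := h.decomp v
  rw [QuadraticMap.polar_add_right, h0 b hb, h.perp' hx ha, add_zero]

theorem eq_zero {x : V} (hA : x ∈ A) (hB : x ∈ B) : x = 0 := h.ndA x hA fun y hy => h.perp' hB hy

theorem five : Module.finrank F V = 5 := by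
  have h1 := Submodule.finrank_sup_add_finrank_inf_eq A B
  have h2 : A ⊓ B = ⊥ := (Submodule.eq_bot_iff _).2 fun x hx => h.eq_zero hx.1 hx.2
  rw [h2, h.sup, finrank_top, finrank_bot, h.dimA, h.dimB] at h1
  omega

theorem siegel_comm (x w : V) : siegel Q x w ∈ commutator (quadIsoms Q) :=
  siegel_mem_commutator h.sep (by rw [h.five]) x w

theorem mem_A {v : V} (hv : ∀ b ∈ B, polar Q v b = 0) : v ∈ A := by
  obtain ⟨a, ha, b, hb, rfl⟩ := h.decomp v
  have : b = 0 := h.ndB b hb fun y hy => by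
    have := hv y hy
    rwa [QuadraticMap.polar_add_left, h.perp a ha y hy, zero_add] at this
  rwa [this, add_zero]

theorem mem_B {v : V} (hv : ∀ a ∈ A, polar Q v a = 0) : v ∈ B := by
  obtain ⟨a, ha, b, hb, rfl⟩ := h.decomp v
  have : a = 0 := h.ndA a ha fun y hy => by
    have := hv y hy
    rwa [QuadraticMap.polar_add_left, h.perp' hb hy, add_zero] at this
  rwa [this, zero_add]

/-- elements fixing the plane keep the three-space -/
theorem keeps_of_fix {g : quadIsoms Q} (hg : ∀ b ∈ B, g.1 b = b) : Keeps A g := fun x hx =>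
  h.mem_A fun b hb => by rw [← hg b hb, polar_map, h.perp x hx b hb]

/-- Siegel transformations inside `A` -/
theorem memA {u w : V} (hu : u ∈ A) (hw : w ∈ A) : siegel Q u w ∈ M := by
  refine h.hH _ (h.siegel_comm u w) fun z hz => ?_
  by_cases hc : Q u = 0 ∧ polar Q u w = 0
  · rw [siegel_apply Q hc.1 hc.2]
    exact sub_mem (add_mem hz (A.smul_mem _ hw)) (A.smul_mem _ hu)
  · rw [siegel_of_not Q hc]
    exact hz

theorem siegel_fix {u w b : V} (hu : u ∈ A) (hw : w ∈ A) (hb : b ∈ B) : (siegel Q u w).1 b = b := by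
  by_cases hc : Q u = 0 ∧ polar Q u w = 0
  · rw [siegel_apply Q hc.1 hc.2, h.perp u hu b hb, h.perp w hw b hb]
    simp
  · rw [siegel_of_not Q hc]
    rfl

theorem rs_keeps {r : V} (hr : r ∈ A ∨ r ∈ B) (hQ : Q r ≠ 0) : ∀ z ∈ A, (rs Q r).1 z ∈ A := by
  intro z hz
  rcases hr with hrA | hrB
  · rw [rs_apply hQ]
    exact sub_mem hz (A.smul_mem _ hrA)
  · rw [rs_fix (h.perp' hrB hz)]
    exact hz

/-- pairs of reflections at the summands -/
theorem pair_mem {x y : V} (hx : x ∈ A ∨ x ∈ B) (hy : y ∈ A ∨ y ∈ B) (hQ : Q x ≠ 0) (hxy : Q x = Q y) :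
    rs Q x * rs Q y ∈ M :=
  h.hH _ (rs_pair_mem_commutator h.sep hQ hxy) fun z hz =>
    h.rs_keeps hx hQ _ (h.rs_keeps hy (hxy ▸ hQ) z hz)

theorem perp_plane {y : V} (hy : y ∈ A) (hQy : Q y ≠ 0) :
    Module.finrank F (A ⊓ LinearMap.ker (pLin Q y) : Submodule F V) = 2 ∧
      NdOn Q (A ⊓ LinearMap.ker (pLin Q y)) := by
  have h2 := h.two
  have hy' : polar Q y y ≠ 0 := by rw [polar_self_two]; exact mul_ne_zero h2 hQy
  constructor
  · have d1 := finrank_le_inf_ker A (pLin Q y)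
    have hlt : Module.finrank F (A ⊓ LinearMap.ker (pLin Q y) : Submodule F V) < Module.finrank F A :=
      Submodule.finrank_lt_finrank_of_lt (lt_of_le_of_ne inf_le_left fun e => hy' (by
        have := e.symm ▸ hy
        exact this.2))
    rw [h.dimA] at d1 hlt
    omega
  · intro x hx hperp
    refine h.ndA x hx.1 fun z hz => ?_
    obtain ⟨c, hc⟩ : ∃ c, c = polar Q z y / polar Q y y := ⟨_, rfl⟩
    have hmem : z - c • y ∈ A ⊓ LinearMap.ker (pLin Q y) := ⟨sub_mem hz (A.smul_mem _ hy), by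
      show polar Q (z - c • y) y = 0
      rw [QuadraticMap.polar_sub_left, QuadraticMap.polar_smul_left, smul_eq_mul, hc, div_mul_cancel₀ _ hy',
        sub_self]⟩
    have := hperp _ hmem
    rwa [QuadraticMap.polar_sub_right, QuadraticMap.polar_smul_right, (show polar Q x y = 0 from hx.2),
      smul_zero, sub_zero] at this

/-- a hyperbolic pair and an anisotropic vector -/
theorem exists_frame {u : V} (hu : u ∈ A) (hu0 : u ≠ 0) (hQu : Q u = 0) :
    ∃ v ∈ A, ∃ e ∈ A, Q v = 0 ∧ polar Q u v = 1 ∧ polar Q u e = 0 ∧ polar Q v e = 0 ∧ Q e ≠ 0 ∧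
      ∀ z ∈ A, ∃ a b c : F, z = a • u + b • v + c • e := by
  obtain ⟨v, hv, hQv, huv⟩ := h.ndA.exists_opposite hu hu0 hQu
  obtain ⟨e₀, he₀, hue₀, hQe₀⟩ := h.ndA.exists_aniso_perp (by rw [h.dimA]) hu hu0
  obtain ⟨e, he⟩ : ∃ e, e = e₀ + (-polar Q v e₀) • u := ⟨_, rfl⟩
  have hue : polar Q u e = 0 := by
    rw [he, QuadraticMap.polar_add_right, QuadraticMap.polar_smul_right, hue₀, polar_self_of_singular Q hQu,
      smul_zero, add_zero]
  have hve : polar Q v e = 0 := by
    rw [he, QuadraticMap.polar_add_right, QuadraticMap.polar_smul_right, QuadraticMap.polar_comm _ v u, huv,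
      smul_eq_mul, mul_one, add_neg_cancel]
  have hQe : Q e ≠ 0 := by
    rw [he, quad_map_add_smul, hQu, QuadraticMap.polar_comm _ e₀ u, hue₀]
    simpa using hQe₀
  have heA : e ∈ A := he ▸ add_mem he₀ (A.smul_mem _ hu)
  refine ⟨v, hv, e, heA, hQv, huv, hue, hve, hQe, span_of_three h.dimA hu hv heA fun a b c hz => ?_⟩
  have e1 := congrArg (polar Q u) hz
  have e2 := congrArg (polar Q v) hz
  have e3 := congrArg (polar Q e) hz
  simp only [QuadraticMap.polar_add_right, QuadraticMap.polar_smul_right, QuadraticMap.polar_zero_right,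
    polar_self_of_singular Q hQu, polar_self_of_singular Q hQv, polar_self_two, QuadraticMap.polar_comm _ v u,
    QuadraticMap.polar_comm _ e u, QuadraticMap.polar_comm _ e v, huv, hue, hve, smul_eq_mul, mul_zero,
    mul_one, zero_add, add_zero] at e1 e2 e3
  exact ⟨e2, e1, (mul_eq_zero.1 e3).resolve_right (mul_ne_zero h.two hQe)⟩

/-- One Siegel transformation leaving `A` gives the commutator subgroup. -/
theorem le_of_siegel {u w : V} (hu : u ∈ A) (hQu : Q u = 0) (hu0 : u ≠ 0) (huw : polar Q u w = 0) (hw : w ∉ A)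
    (hM : siegel Q u w ∈ M) : commutator (quadIsoms Q) ≤ M := by
  classical
  have h2 := h.two
  obtain ⟨a, ha, c, hc, rfl⟩ := h.decomp w
  have hua : polar Q u a = 0 := by
    rwa [QuadraticMap.polar_add_right, h.perp u hu c hc, add_zero] at huw
  have hcM : siegel Q u c ∈ M := by
    rw [siegel_add Q hQu hua (h.perp u hu c hc)] at hM
    exact (Subgroup.mul_mem_cancel_left M (h.memA hu ha)).1 hM
  obtain ⟨v, hv, e, he, hQv, huv, hue, hve, hQe, -⟩ := h.exists_frame hu hu0 hQu
  let L : AddSubgroup V :=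
    { carrier := {x | x ∈ B ∧ siegel Q u x ∈ M}
      add_mem' := fun {x y} hx hy => ⟨add_mem hx.1 hy.1, by
        rw [siegel_add Q hQu (h.perp u hu _ hx.1) (h.perp u hu _ hy.1)]; exact mul_mem hx.2 hy.2⟩
      zero_mem' := ⟨B.zero_mem, by rw [siegel_zero]; exact one_mem M⟩
      neg_mem' := fun {x} hx => ⟨B.neg_mem hx.1, by
        rw [← siegel_neg Q hQu (h.perp u hu _ hx.1)]; exact inv_mem hx.2⟩ }
  have hp : ∀ t : F, Q (u + t • v) = t ∧ polar Q (u + t • v) u = t ∧ polar Q (u + t • v) v = 1 ∧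
      (u + t • v ∈ A) := fun t => by
    refine ⟨?_, ?_, ?_, add_mem hu (A.smul_mem _ hv)⟩
    · rw [quad_map_add_smul, hQu, hQv, huv]; ring
    · rw [QuadraticMap.polar_add_left, QuadraticMap.polar_smul_left, polar_self_of_singular Q hQu,
        QuadraticMap.polar_comm _ v u, huv, smul_eq_mul]; ring
    · rw [QuadraticMap.polar_add_left, QuadraticMap.polar_smul_left, polar_self_of_singular Q hQv, huv,
        smul_zero, add_zero]
  -- multiplication by squares
  have hsq : ∀ (κ : F), ∀ x ∈ L, (κ * κ) • x ∈ L := by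
    intro κ x hx
    rcases eq_or_ne κ 0 with rfl | hκ
    · rw [mul_zero, zero_smul]; exact L.zero_mem
    refine ⟨B.smul_mem _ hx.1, ?_⟩
    obtain ⟨p, hpd⟩ : ∃ p, p = u + v := ⟨_, rfl⟩
    obtain ⟨p', hpd'⟩ : ∃ p', p' = κ • u + κ⁻¹ • v := ⟨_, rfl⟩
    have hQp : Q p = 1 := by
      rw [hpd, QuadraticMap.map_add (Q : QuadraticMap F V F) u v, hQu, hQv, huv, zero_add, zero_add]
    have hQp' : Q p' = 1 := by
      rw [hpd', QuadraticMap.map_add (Q : QuadraticMap F V F) (κ • u) (κ⁻¹ • v), quad_smul, quad_smul, hQu, hQv,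
        QuadraticMap.polar_smul_left, QuadraticMap.polar_smul_right, huv, smul_eq_mul, smul_eq_mul, mul_zero,
        mul_zero, mul_one, zero_add, zero_add, mul_inv_cancel₀ hκ]
    have hp0 : Q p ≠ 0 := hQp ▸ one_ne_zero
    have hp'0 : Q p' ≠ 0 := hQp' ▸ one_ne_zero
    have hpA : p ∈ A := hpd ▸ add_mem hu hv
    have hp'A : p' ∈ A := hpd' ▸ add_mem (A.smul_mem _ hu) (A.smul_mem _ hv)
    have hk := h.pair_mem (Or.inl hp'A) (Or.inl hpA) hp'0 (hQp'.trans hQp.symm)
    have := mul_mem (mul_mem hk hx.2) (inv_mem hk)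
    rw [siegel_conj] at this
    have e1 : (rs Q p').1 ((rs Q p).1 u) = (κ * κ) • u := by
      rw [rs_apply hp0, hQp, hpd, QuadraticMap.polar_add_left, polar_self_of_singular Q hQu,
        QuadraticMap.polar_comm _ v u, huv, inv_one, one_mul, zero_add, one_smul, rs_apply hp'0, hQp', hpd',
        show u - (u + v) = -v by abel, QuadraticMap.polar_neg_right, QuadraticMap.polar_add_left,
        QuadraticMap.polar_smul_left, QuadraticMap.polar_smul_left, polar_self_of_singular Q hQv, huv,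
        smul_eq_mul, smul_eq_mul]
      match_scalars <;> field_simp <;> ring
    have e2 : (rs Q p').1 ((rs Q p).1 x) = x := by
      rw [rs_fix (h.perp p hpA x hx.1), rs_fix (h.perp p' hp'A x hx.1)]
    rw [← siegel_smul Q hQu (h.perp u hu x hx.1)]
    rwa [show (rs Q p' * rs Q p).1 u = (κ * κ) • u from e1, show (rs Q p' * rs Q p).1 x = x from e2] at this
  have hsmul : ∀ (t : F), ∀ x ∈ L, t • x ∈ L := by
    intro t x hx
    obtain ⟨p, q, hpq⟩ := exists_binary_eq h2 (one_ne_zero (α := F)) one_ne_zero t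
    have := L.add_mem (hsq p x hx) (hsq q x hx)
    rw [← add_smul, show p * p + q * q = t by linear_combination hpq] at this
    exact this
  let S : Submodule F V := { toAddSubmonoid := L.toAddSubmonoid, smul_mem' := fun t x hx => hsmul t x hx }
  -- reflections of `B`
  have hrefl : ∀ r ∈ B, Q r ≠ 0 → ∀ x ∈ S, (rs Q r).1 x ∈ S := by
    intro r hr hQr x hx
    obtain ⟨hQp, hpu, hpv, hpA⟩ := hp (Q r)
    obtain ⟨hQp', hp'u, hp'v, hp'A⟩ := hp (Q e)
    have hk := mul_mem (h.pair_mem (Or.inr hr) (Or.inl hpA) hQr hQp.symm)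
      (h.pair_mem (Or.inl he) (Or.inl hp'A) hQe hQp'.symm)
    have := mul_mem (mul_mem hk hx.2) (inv_mem hk)
    rw [siegel_conj] at this
    have e1 : (rs Q r).1 ((rs Q (u + Q r • v)).1 ((rs Q e).1 ((rs Q (u + Q e • v)).1 u))) = (Q e / Q r) • u := by
      rw [rs_apply (v := u + Q e • v) (by rw [hQp']; exact hQe), hp'u, hQp', inv_mul_cancel₀ hQe, one_smul,
        show u - (u + Q e • v) = (-Q e) • v by module, map_smul,
        rs_fix (show polar Q e v = 0 by rw [QuadraticMap.polar_comm]; exact hve), map_smul,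
        rs_apply (v := u + Q r • v) (by rw [hQp]; exact hQr), hpv, hQp, map_smul, map_sub, map_smul, map_add,
        map_smul, rs_fix (h.perp' hr hv), rs_fix (h.perp' hr hu)]
      match_scalars <;> field_simp <;> ring
    have e2 : (rs Q r).1 ((rs Q (u + Q r • v)).1 ((rs Q e).1 ((rs Q (u + Q e • v)).1 x))) = (rs Q r).1 x := by
      rw [rs_fix (h.perp _ hp'A x hx.1), rs_fix (h.perp e he x hx.1), rs_fix (h.perp _ hpA x hx.1)]
    rw [show (rs Q r * rs Q (u + Q r • v) * (rs Q e * rs Q (u + Q e • v))).1 u = (Q e / Q r) • u from e1,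
      show (rs Q r * rs Q (u + Q r • v) * (rs Q e * rs Q (u + Q e • v))).1 x = (rs Q r).1 x from e2] at this
    have hxB : (rs Q r).1 x ∈ B := by
      rw [rs_apply hQr]; exact sub_mem hx.1 (B.smul_mem _ hr)
    rw [siegel_smul Q hQu (h.perp u hu _ hxB)] at this
    exact (S.smul_mem_iff (div_ne_zero hQe hQr)).1 ⟨B.smul_mem _ hxB, this⟩
  have hc0 : c ≠ 0 := fun e => hw (by rw [e, add_zero]; exact ha)
  have hcS : c ∈ S := ⟨hc, hcM⟩
  have hoff : ∀ r ∈ B, Q r ≠ 0 → polar Q r c ≠ 0 → r ∈ S := by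
    intro r hr hQr hrc
    have h1 : c - (rs Q r).1 c ∈ S := sub_mem hcS (hrefl r hr hQr c hcS)
    rw [rs_apply hQr, sub_sub_cancel] at h1
    exact (S.smul_mem_iff (mul_ne_zero (inv_ne_zero hQr) hrc)).1 h1
  -- `S` is all of `B`
  have hBS : B ≤ S := by
    rcases eq_or_ne (Q c) 0 with hQc | hQc
    · obtain ⟨z, hz, hcz⟩ := h.ndB.exists_partner hc hc0
      have hr := hoff (z + (1 - Q z) • c) (add_mem hz (B.smul_mem _ hc))
        (by rw [quad_map_add_smul, hQc, QuadraticMap.polar_comm _ z c, hcz]; simp)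
        (by rw [QuadraticMap.polar_add_left, QuadraticMap.polar_smul_left, polar_self_of_singular Q hQc,
          smul_zero, add_zero, QuadraticMap.polar_comm, hcz]; exact one_ne_zero)
      have hzS : z ∈ S := by simpa using sub_mem hr (S.smul_mem (1 - Q z) hcS)
      refine mem_of_span_two h.dimB hc hz hc0 (fun hm => ?_) hcS hzS
      obtain ⟨t, rfl⟩ := Submodule.mem_span_singleton.1 hm
      rw [QuadraticMap.polar_smul_right, polar_self_of_singular Q hQc, smul_zero] at hcz
      exact zero_ne_one hcz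
    · have d1 := finrank_le_inf_ker B (pLin Q c)
      obtain ⟨s, ⟨hs, hsc⟩, hs0⟩ := Submodule.exists_mem_ne_zero_of_ne_bot
        (p := B ⊓ LinearMap.ker (pLin Q c)) (fun e => by rw [e, finrank_bot, h.dimB] at d1; omega)
      have hsc' : polar Q s c = 0 := hsc
      have hsn : s ∉ F ∙ c := by
        intro hm
        obtain ⟨t, rfl⟩ := Submodule.mem_span_singleton.1 hm
        rw [QuadraticMap.polar_smul_left, polar_self_two, smul_eq_mul, mul_eq_zero] at hsc'
        exact hs0 (by rw [hsc'.resolve_right (mul_ne_zero h2 hQc), zero_smul])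
      have hQs : Q s ≠ 0 := fun e => hs0 (h.ndB s hs fun y hy => by
        rw [QuadraticMap.polar_comm]
        exact mem_of_span_two h.dimB hc hs hc0 hsn (S := LinearMap.ker (pLin Q s))
          (show polar Q c s = 0 by rw [QuadraticMap.polar_comm]; exact hsc')
          (show polar Q s s = 0 by rw [polar_self_two, e, mul_zero]) hy)
      obtain ⟨t, ht, hne⟩ := exists_comb_ne h.card (Q c) hQs
      have hr := hoff (c + t • s) (add_mem hc (B.smul_mem _ hs))
        (by rwa [quad_map_add_smul, QuadraticMap.polar_comm _ c s, hsc', mul_zero, add_zero])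
        (by rw [QuadraticMap.polar_add_left, QuadraticMap.polar_smul_left, hsc', smul_zero, add_zero,
          polar_self_two]; exact mul_ne_zero h2 hQc)
      exact mem_of_span_two h.dimB hc hs hc0 hsn hcS
        ((S.smul_mem_iff ht).1 (by simpa using sub_mem hr hcS))
  have hfull : Full M u := by
    intro z hz
    obtain ⟨zA, hzA, zB, hzB, rfl⟩ := h.decomp z
    have hzA' : polar Q u zA = 0 := by
      rwa [QuadraticMap.polar_add_right, h.perp u hu zB hzB, add_zero] at hz
    rw [siegel_add Q hQu hzA' (h.perp u hu zB hzB)]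
    exact mul_mem (h.memA hu hzA) (hBS hzB).2
  -- the opposite point
  obtain ⟨hQp', hp'u, hp'v, hp'A⟩ := hp (Q e)
  have hfv := hfull.conj (h.pair_mem (Or.inl hp'A) (Or.inl he) (by rw [hQp']; exact hQe) hQp')
  rw [show (rs Q (u + Q e • v) * rs Q e).1 u = (rs Q (u + Q e • v)).1 ((rs Q e).1 u) from rfl,
    rs_fix (show polar Q e u = 0 by rw [QuadraticMap.polar_comm]; exact hue),
    rs_apply (v := u + Q e • v) (by rw [hQp']; exact hQe), hp'u, hQp',
    inv_mul_cancel₀ hQe, one_smul, show u - (u + Q e • v) = (-Q e) • v by module] at hfv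
  exact commutator_le_of_pair h.sep (by rw [h.five]) hfull hfv hQu (by rw [quad_smul, hQv, mul_zero])
    (by rw [QuadraticMap.polar_smul_right, huv, smul_eq_mul, mul_one, neg_ne_zero]; exact hQe)

variable (hle : ¬ commutator (quadIsoms Q) ≤ M)
include hle

theorem mem_of_siegel {u w : V} (hu : u ∈ A) (hQu : Q u = 0) (hu0 : u ≠ 0) (huw : polar Q u w = 0)
    (hM : siegel Q u w ∈ M) : w ∈ A :=
  by_contra fun hw => hle (h.le_of_siegel hu hQu hu0 huw hw hM)

/-- an element keeping one singular vector of `A` in `A` keeps `A` -/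
theorem keeps_of_sing {k : quadIsoms Q} (hk : k ∈ M) {u : V} (hu : u ∈ A) (hQu : Q u = 0) (hu0 : u ≠ 0)
    (hku : k.1 u ∈ A) : Keeps A k := by
  have h2 := h.two
  obtain ⟨w, hw⟩ : ∃ w, w = k.1 u := ⟨_, rfl⟩
  rw [← hw] at hku
  have hQw : Q w = 0 := by rw [hw, k.2, hQu]
  have hw0 : w ≠ 0 := fun e => hu0 (k.1.injective (by rw [← hw, e, map_zero]))
  obtain ⟨v, hv, e, he, hQv, huv, hue, hve, hQe, -⟩ := h.exists_frame hu hu0 hQu
  have hwe : polar Q w (k.1 e) = 0 := by rw [hw, polar_map, hue]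
  have hkeA : k.1 e ∈ A := h.mem_of_siegel hle hku hQw hw0 hwe (by
    rw [hw, ← siegel_conj]; exact mul_mem (mul_mem hk (h.memA hu he)) (inv_mem hk))
  obtain ⟨v', hv', e', he', hQv', hwv', hwe', hve', hQe', hspan⟩ := h.exists_frame hku hw0 hQw
  -- the image of the plane, up to multiples of `w`
  have hB : ∀ z ∈ B, ∃ l : F, ∃ z' ∈ B, k.1 z = z' + l • w := by
    intro z hz
    obtain ⟨zA, hzA, z', hz', hkz⟩ := h.decomp (k.1 z)
    obtain ⟨a, b, c, hzabc⟩ := hspan zA hzA
    obtain ⟨a', b', c', hkeabc⟩ := hspan (k.1 e) hkeA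
    have h1 : polar Q zA w = 0 := by
      have e1 : polar Q (k.1 z) w = 0 := by rw [hw, polar_map]; exact h.perp' hz hu
      rwa [← hkz, QuadraticMap.polar_add_left, h.perp' hz' hku, add_zero] at e1
    have h2' : polar Q zA (k.1 e) = 0 := by
      have e1 : polar Q (k.1 z) (k.1 e) = 0 := by rw [polar_map]; exact h.perp' hz he
      rwa [← hkz, QuadraticMap.polar_add_left, h.perp' hz' hkeA, add_zero] at e1
    have hQke : Q (k.1 e) ≠ 0 := by rw [k.2]; exact hQe
    rw [hkeabc] at hwe hQke h2'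
    rw [hzabc] at h1 h2'
    simp only [QuadraticMap.polar_add_right, QuadraticMap.polar_add_left, QuadraticMap.polar_smul_right,
      QuadraticMap.polar_smul_left, polar_self_of_singular Q hQw, polar_self_of_singular Q hQv', polar_self_two,
      QuadraticMap.polar_comm _ v' w, QuadraticMap.polar_comm _ e' w, QuadraticMap.polar_comm _ e' v', hwv',
      hwe', hve', smul_eq_mul, mul_zero, mul_one, zero_add, add_zero] at hwe h1 h2'
    have hc' : c' ≠ 0 := by
      intro e0
      rw [hwe, e0, zero_smul, zero_smul, add_zero, add_zero, quad_smul, hQw, mul_zero] at hQke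
      exact hQke rfl
    rw [hwe, h1] at h2'
    simp only [zero_mul, mul_zero, zero_add] at h2'
    have hc0 : c = 0 := by
      rcases mul_eq_zero.1 h2' with h0 | h0
      · exact absurd h0 hc'
      · exact (mul_eq_zero.1 h0).resolve_right (mul_ne_zero h2 hQe')
    refine ⟨a, z', hz', ?_⟩
    rw [← hkz, hzabc, h1, hc0, zero_smul, zero_smul, add_zero, add_zero, add_comm]
  obtain ⟨r₁, hr₁, r₂, hr₂, hQr, hQ2, hind⟩ := exists_equal_values h2 h.card h.ndB h.dimB
  obtain ⟨l₁, s₁, hs₁, hk₁⟩ := hB r₁ hr₁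
  obtain ⟨l₂, s₂, hs₂, hk₂⟩ := hB r₂ hr₂
  have hval : ∀ {r s : V} {l : F}, r ∈ B → s ∈ B → k.1 r = s + l • w → Q s = Q r := by
    intro r s l _ hs hks
    have e1 := k.2 r
    rw [hks, quad_map_add_smul, hQw, h.perp' hs hku] at e1
    linear_combination e1
  have hQ1' := hval hr₁ hs₁ hk₁
  have hQ2' := hval hr₂ hs₂ hk₂
  -- conjugating a pair of reflections
  have hM1 : rs Q (k.1 r₁) * rs Q (k.1 r₂) ∈ M := by
    rw [← rs_conj_pair]
    exact mul_mem (mul_mem hk (h.pair_mem (Or.inr hr₁) (Or.inr hr₂) hQr hQ2.symm)) (inv_mem hk)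
  rw [hk₁, hk₂, rs_shift (hQ1'.symm ▸ hQr) (by rw [hQ1', hQ2', hQ2]) hQw (h.perp' hs₁ hku) (h.perp' hs₂ hku)]
    at hM1
  have hM2 := (Subgroup.mul_mem_cancel_left M
    (h.pair_mem (Or.inr hs₁) (Or.inr hs₂) (hQ1'.symm ▸ hQr) (by rw [hQ1', hQ2', hQ2]))).1 hM1
  have hQs₂ : Q s₂ ≠ 0 := by rw [hQ2', hQ2]; exact hQr
  obtain ⟨β, hβ⟩ : ∃ β, β = l₁ • (rs Q s₂).1 s₁ + l₂ • s₂ := ⟨_, rfl⟩
  have hβB : β ∈ B := by
    rw [hβ, rs_apply hQs₂]
    exact add_mem (B.smul_mem _ (sub_mem hs₁ (B.smul_mem _ hs₂))) (B.smul_mem _ hs₂)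
  rw [← hβ] at hM2
  have hβ0 : β = 0 := by
    have := h.eq_zero (h.mem_of_siegel hle hku hQw hw0 (h.perp w hku _ (B.smul_mem _ hβB)) hM2) (B.smul_mem _ hβB)
    exact (smul_eq_zero.1 this).resolve_left (inv_ne_zero (hQ1'.symm ▸ hQr))
  have hl₁ : l₁ = 0 := by
    by_contra hl
    rw [hβ, rs_apply hQs₂] at hβ0
    obtain ⟨t, ht⟩ : ∃ t : F, s₁ = t • s₂ := ⟨(Q s₂)⁻¹ * polar Q s₂ s₁ - l₂ / l₁, by
      apply smul_right_injective V hl
      show l₁ • s₁ = l₁ • _
      rw [smul_sub, smul_smul] at hβ0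
      rw [smul_smul, mul_sub, mul_div_cancel₀ _ hl, sub_smul]
      linear_combination (norm := module) hβ0⟩
    have e1 : k.1 (r₁ - t • r₂) = (l₁ - t * l₂) • k.1 u := by
      rw [map_sub, map_smul, hk₁, hk₂, ht, ← hw]; module
    rw [← map_smul] at e1
    have e2 := k.1.injective e1
    have := h.eq_zero (e2 ▸ A.smul_mem _ hu) (sub_mem hr₁ (B.smul_mem t hr₂))
    rw [sub_eq_zero] at this
    rcases eq_or_ne t 0 with ht0 | ht0
    · rw [ht0, zero_smul] at this
      exact hQr (by rw [this, QuadraticMap.map_zero])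
    · exact hind (Submodule.mem_span_singleton.2 ⟨t⁻¹, by rw [this, inv_smul_smul₀ ht0]⟩)
  have hl₂ : l₂ = 0 := by
    rw [hβ, hl₁, zero_smul, zero_add, smul_eq_zero] at hβ0
    exact hβ0.resolve_right fun e0 => hQs₂ (by rw [e0, QuadraticMap.map_zero])
  rw [hl₁, zero_smul, add_zero] at hk₁
  rw [hl₂, zero_smul, add_zero] at hk₂
  have hr₁0 : r₁ ≠ 0 := fun e => hQr (by rw [e, QuadraticMap.map_zero])
  have hBB : B ≤ B.comap k.1.toLinearMap := mem_of_span_two h.dimB hr₁ hr₂ hr₁0 hind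
    (show k.1 r₁ ∈ B from hk₁ ▸ hs₁) (show k.1 r₂ ∈ B from hk₂ ▸ hs₂)
  intro x hx
  refine h.mem_A fun b hb => ?_
  obtain ⟨⟨y', hy'⟩, ey⟩ := (LinearMap.injective_iff_surjective
    (f := k.1.toLinearMap.restrict (fun z (hz : z ∈ B) => (hBB hz : k.1 z ∈ B)))).1
    (fun a b e => Subtype.ext (k.1.injective (congrArg Subtype.val e))) ⟨b, hb⟩
  have ey' : k.1 y' = b := congrArg Subtype.val ey
  rw [← ey', polar_map, h.perp x hx y' hy']

end Pair

end CfsgLib.MaxSub.OFive
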