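import Cfsg.Agent.Lib.MaxSub.OFivePair

/-!
The stabiliser of a non-degenerate plane is maximal in the five-dimensional orthogonal group over fields of at
least five elements.
-/

set_option autoImplicit false
set_option linter.unusedSectionVars false

namespace CfsgLib.MaxSub.OFive

open CfsgLib.Classical CfsgLib.Geom CfsgLib.Geom.OrthSub CfsgLib.MaxSub CfsgLib.MaxSub.OFrame
open CfsgLib.MaxSub.ORefl (rs rs_apply rs_fix rs_self rs_conj_pair rs_pair_mem_commutator rs_shift)
open QuadraticMap (polar)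

variable {F V : Type*} [Field F] [Finite F] [AddCommGroup V] [Module F V] [FiniteDimensional F V]
variable {Q : QuadraticForm F V}

theorem inv_apply (g : quadIsoms Q) (x : V) : (g⁻¹).1 (g.1 x) = x :=
  congrArg (fun k : quadIsoms Q => k.1 x) (inv_mul_cancel g)

theorem conj_apply (g k : quadIsoms Q) (x : V) : (g * k * g⁻¹).1 (g.1 x) = g.1 (k.1 x) := by
  show g.1 (k.1 ((g⁻¹).1 (g.1 x))) = _
  rw [inv_apply]

namespace Pair

variable {A B : Submodule F V} {M : Subgroup (quadIsoms Q)} (h : Pair Q A B M)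
include h

/-- a rotation of a plane of `A` moving a basis vector in general position -/
theorem exists_rot {y n : V} (hy : y ∈ A) (hn : n ∈ A) (hQy : Q y ≠ 0) (hQn : Q n ≠ 0)
    (hyn : polar Q y n = 0) (hns : ¬ IsSquare (Q n / Q y)) :
    ∃ k ∈ M, (∀ z ∈ B, k.1 z = z) ∧ (∀ z, polar Q y z = 0 → polar Q n z = 0 → k.1 z = z) ∧
      ∃ a b : F, k.1 y = a • y + b • n ∧ a ≠ 0 ∧ b ≠ 0 := by
  have h2 := h.two
  obtain ⟨t, ht0, hT⟩ := exists_comb_ne h.card (Q y) hQn
  obtain ⟨T, hTd⟩ : ∃ T, T = Q y + t * t * Q n := ⟨_, rfl⟩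
  rw [← hTd] at hT
  have hQt : Q (y + t • n) = T := by rw [quad_map_add_smul, hyn, hTd]; ring
  have hpt : polar Q (y + t • n) y = 2 * Q y := by
    rw [QuadraticMap.polar_add_left, QuadraticMap.polar_smul_left, polar_self_two, QuadraticMap.polar_comm _ n y,
      hyn, smul_zero, add_zero]
  obtain ⟨p, hp⟩ : ∃ p, p = (t * t * Q n - Q y) / T := ⟨_, rfl⟩
  obtain ⟨q, hq⟩ : ∃ q, q = -(2 * Q y * t) / T := ⟨_, rfl⟩
  have hx : (rs Q (y + t • n)).1 y = p • y + q • n := by
    rw [rs_apply (hQt ▸ hT), hQt, hpt, hp, hq]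
    match_scalars <;> field_simp <;> rw [hTd] <;> ring
  have hQx : Q (p • y + q • n) = Q y := by rw [← hx]; exact (rs Q (y + t • n)).2 y
  have hxA : p • y + q • n ∈ A := add_mem (A.smul_mem _ hy) (A.smul_mem _ hn)
  have hp0 : p ≠ 0 := by
    intro e
    rw [hp, div_eq_zero_iff, sub_eq_zero] at e
    exact hns ⟨t⁻¹, by rw [← e.resolve_right hT]; field_simp⟩
  have hq0 : q ≠ 0 := by
    rw [hq]
    exact div_ne_zero (neg_ne_zero.2 (mul_ne_zero (mul_ne_zero h2 hQy) ht0)) hT
  have ha : 2 * p * p - 1 ≠ 0 := by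
    intro e
    obtain ⟨U, hU⟩ : ∃ U, U = t * t * Q n / Q y := ⟨_, rfl⟩
    have hU0 : U + 1 ≠ 0 := by
      intro e1
      apply hT
      rw [hTd]
      rw [hU] at e1
      field_simp at e1
      linear_combination e1
    have hpU : p = (U - 1) / (U + 1) := by
      rw [hp, hU, hTd]
      field_simp
      ring
    rw [hpU] at e
    field_simp at e
    refine hns ⟨(U - 1) / (2 * t), ?_⟩
    have h4 : (U - 1) / (2 * t) * ((U - 1) / (2 * t)) = U / (t * t) := by
      field_simp
      linear_combination e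
    rw [h4, hU]
    field_simp
  refine ⟨rs Q (p • y + q • n) * rs Q y, h.pair_mem (Or.inl hxA) (Or.inl hy) (hQx ▸ hQy) hQx,
    fun z hz => ?_, fun z hyz hnz => ?_, 2 * p * p - 1, 2 * p * q, ?_, ha, mul_ne_zero (mul_ne_zero h2 hp0) hq0⟩
  · show (rs Q _).1 ((rs Q y).1 z) = z
    rw [rs_fix (h.perp y hy z hz), rs_fix (h.perp _ hxA z hz)]
  · show (rs Q _).1 ((rs Q y).1 z) = z
    rw [rs_fix hyz, rs_fix (by
      rw [QuadraticMap.polar_add_left, QuadraticMap.polar_smul_left, QuadraticMap.polar_smul_left, hyz, hnz,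
        smul_zero, smul_zero, add_zero])]
  · show (rs Q _).1 ((rs Q y).1 y) = _
    rw [rs_self hQy, rs_apply (hQx ▸ hQy), hQx, QuadraticMap.polar_neg_right, QuadraticMap.polar_add_left,
      QuadraticMap.polar_smul_left, QuadraticMap.polar_smul_left, polar_self_two, QuadraticMap.polar_comm _ n y,
      hyn]
    simp only [smul_eq_mul]
    match_scalars <;> field_simp <;> ring

/-- a line kept by everything fixing `w` -/
theorem fixed_line {w n : V} (hw : w ∈ A) (hn : n ∈ A) (hQn : Q n ≠ 0)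
    (hinv : ∀ k ∈ M, (∀ b ∈ B, k.1 b = b) → k.1 w = w → k.1 n ∈ F ∙ n) :
    w ∈ F ∙ n ∨ polar Q w n = 0 := by
  have h2 := h.two
  by_cases hwn : polar Q w n = 0
  · exact Or.inr hwn
  refine Or.inl ?_
  have hfix : ∀ k ∈ M, (∀ b ∈ B, k.1 b = b) → k.1 w = w → k.1 n = n := fun k hk hkB hkw => by
    obtain ⟨μ, hμ⟩ := Submodule.mem_span_singleton.1 (hinv k hk hkB hkw)
    have e := polar_map k w n
    rw [hkw, ← hμ, QuadraticMap.polar_smul_right, smul_eq_mul] at e
    rw [← hμ, mul_left_eq_self₀.1 e |>.resolve_right hwn, one_smul]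
  rcases eq_or_ne (Q w) 0 with hQw | hQw
  · exfalso
    rcases eq_or_ne w 0 with rfl | hw0
    · exact hwn (QuadraticMap.polar_zero_left _ _)
    obtain ⟨v, hv, e, he, -, -, hwe, -, hQe, -⟩ := h.exists_frame hw hw0 hQw
    have hk := hfix _ (h.memA hw he) (fun b hb => h.siegel_fix hw he hb) (by
      rw [siegel_apply Q hQw hwe, polar_self_of_singular Q hQw, QuadraticMap.polar_comm _ e w, hwe]
      simp)
    rw [siegel_apply Q hQw hwe] at hk
    have e1 := congrArg (polar Q e) hk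
    rw [QuadraticMap.polar_sub_right, QuadraticMap.polar_add_right, QuadraticMap.polar_smul_right,
      QuadraticMap.polar_smul_right, QuadraticMap.polar_comm _ e w, hwe, smul_zero, sub_zero, add_eq_left,
      polar_self_two, smul_eq_mul] at e1
    exact mul_ne_zero hwn (mul_ne_zero h2 hQe) e1
  · obtain ⟨hd, hnd⟩ := h.perp_plane hw hQw
    obtain ⟨x, hx, x', hx', hQx, hQx', hind⟩ := exists_equal_values h2 h.card hnd hd
    have hxw : polar Q x w = 0 := hx.2
    have hx'w : polar Q x' w = 0 := hx'.2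
    have hk := hfix _ (h.pair_mem (Or.inl hx.1) (Or.inl hx'.1) hQx hQx'.symm)
      (fun b hb => by
        show (rs Q x).1 ((rs Q x').1 b) = b
        rw [rs_fix (h.perp x' hx'.1 b hb), rs_fix (h.perp x hx.1 b hb)])
      (by
        show (rs Q x).1 ((rs Q x').1 w) = w
        rw [rs_fix hx'w, rs_fix hxw])
    have e := congrArg (rs Q x).1 hk
    rw [show (rs Q x).1 ((rs Q x * rs Q x').1 n) = (rs Q x).1 ((rs Q x).1 ((rs Q x').1 n)) from rfl,
      ORefl.rs_rs, rs_apply (hQx' ▸ hQx), rs_apply hQx, sub_right_inj, hQx'] at e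
    have hx0 : x ≠ 0 := fun e0 => hQx (by rw [e0, QuadraticMap.map_zero])
    have hc' : (Q x)⁻¹ * polar Q x' n = 0 := by
      by_contra hc
      exact hind (Submodule.mem_span_singleton.2 ⟨((Q x)⁻¹ * polar Q x' n)⁻¹ * ((Q x)⁻¹ * polar Q x n), by
        rw [mul_smul, ← e, inv_smul_smul₀ hc]⟩)
    rw [hc', zero_smul, eq_comm, smul_eq_zero] at e
    have hxn := (mul_eq_zero.1 (e.resolve_right hx0)).resolve_left (inv_ne_zero hQx)
    have hx'n := (mul_eq_zero.1 hc').resolve_left (inv_ne_zero hQx)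
    obtain ⟨d, hd'⟩ : ∃ d, d = polar Q n w / polar Q w w := ⟨_, rfl⟩
    have hww : polar Q w w ≠ 0 := by rw [polar_self_two]; exact mul_ne_zero h2 hQw
    have hP : n - d • w ∈ A ⊓ LinearMap.ker (pLin Q w) := ⟨sub_mem hn (A.smul_mem _ hw), by
      show polar Q (n - d • w) w = 0
      rw [QuadraticMap.polar_sub_left, QuadraticMap.polar_smul_left, smul_eq_mul, hd', div_mul_cancel₀ _ hww,
        sub_self]⟩
    have hz : n - d • w = 0 := hnd _ hP fun y hy => by
      rw [QuadraticMap.polar_comm]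
      exact mem_of_span_two hd hx hx' hx0 hind (S := LinearMap.ker (pLin Q (n - d • w)))
        (show polar Q x (n - d • w) = 0 by
          rw [QuadraticMap.polar_sub_right, QuadraticMap.polar_smul_right, hxn, hxw, smul_zero, sub_zero])
        (show polar Q x' (n - d • w) = 0 by
          rw [QuadraticMap.polar_sub_right, QuadraticMap.polar_smul_right, hx'n, hx'w, smul_zero, sub_zero]) hy
    rw [sub_eq_zero] at hz
    refine Submodule.mem_span_singleton.2 ⟨d⁻¹, ?_⟩
    rw [hz, inv_smul_smul₀ fun e0 => hQn (by rw [hz, e0, zero_smul, QuadraticMap.map_zero])]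

variable (hle : ¬ commutator (quadIsoms Q) ≤ M)
include hle

/-- an element moving `A` in a way that keeps a line projects `A` back into that line -/
theorem key {g : quadIsoms Q} (hg : g ∈ M) {n : V} (hn : n ∈ A) (hQn : Q n ≠ 0)
    (hinv : ∀ k ∈ M, Keeps A k → Keeps A (g * k * g⁻¹) → k.1 n ∈ F ∙ n)
    (hpol : ∃ a ∈ A, polar Q ((g⁻¹).1 a) n ≠ 0) : ∀ a ∈ A, ∃ c : F, (g⁻¹).1 a - c • n ∈ B := by
  classical
  obtain ⟨T₁, hT₁⟩ : ∃ T, T = (Submodule.span F {n} ⊔ B).comap (g⁻¹).1.toLinearMap := ⟨_, rfl⟩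
  obtain ⟨T₂, hT₂⟩ : ∃ T, T = (LinearMap.ker (pLin Q n)).comap (g⁻¹).1.toLinearMap := ⟨_, rfl⟩
  have hor : ∀ s ∈ A, Q s = 0 → s ∈ T₁ ∨ s ∈ T₂ := by
    intro s hs hQs
    rcases eq_or_ne s 0 with rfl | hs0
    · exact Or.inl (T₁.zero_mem)
    obtain ⟨wA, hwA, wB, hwB, hsum⟩ := h.decomp ((g⁻¹).1 s)
    rcases h.fixed_line hwA hn hQn (fun k hk hkB hkw => hinv k hk (h.keeps_of_fix hkB) (by
      refine h.keeps_of_sing hle (mul_mem (mul_mem hg hk) (inv_mem hg)) hs hQs hs0 ?_
      show g.1 (k.1 ((g⁻¹).1 s)) ∈ A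
      rw [← hsum, map_add, hkw, hkB wB hwB, hsum, apply_inv]
      exact hs)) with e | e
    · refine Or.inl ?_
      rw [hT₁]
      show (g⁻¹).1 s ∈ Submodule.span F {n} ⊔ B
      rw [← hsum]
      exact add_mem (Submodule.mem_sup_left e) (Submodule.mem_sup_right hwB)
    · refine Or.inr ?_
      rw [hT₂]
      show polar Q ((g⁻¹).1 s) n = 0
      rw [← hsum, QuadraticMap.polar_add_left, e, h.perp' hwB hn, add_zero]
  obtain ⟨u, hu, hu0, hQu⟩ := exists_singular_in (Q := Q) (W := A) (by rw [h.dimA])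
  obtain ⟨v, hv, e, he, hQv, huv, hue, hve, hQe, hspan⟩ := h.exists_frame hu hu0 hQu
  obtain ⟨σ, hσ⟩ : ∃ σ : F → V, σ = fun t => u + t • e + (-(t * t * Q e)) • v := ⟨_, rfl⟩
  have hσA : ∀ t, σ t ∈ A ∧ Q (σ t) = 0 := fun t => by
    rw [hσ]
    refine ⟨add_mem (add_mem hu (A.smul_mem _ he)) (A.smul_mem _ hv), ?_⟩
    rw [quad_map_add_smul, quad_map_add_smul, hQu, hQv, QuadraticMap.polar_add_left,
      QuadraticMap.polar_smul_left, huv, QuadraticMap.polar_comm _ e v, hve, hue]
    simp only [smul_eq_mul]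
    ring
  have three : ∀ (T : Submodule F V) (a b c : F), a ≠ b → a ≠ c → b ≠ c → σ a ∈ T → σ b ∈ T → σ c ∈ T →
      ∀ z ∈ A, z ∈ T := by
    intro T a b c hab hac hbc ha hb hc z hz
    have e1 : e - ((a + b) * Q e) • v ∈ T := by
      refine (T.smul_mem_iff (sub_ne_zero.2 hab)).1 ?_
      convert sub_mem ha hb using 1
      rw [hσ]; module
    have e2 : e - ((a + c) * Q e) • v ∈ T := by
      refine (T.smul_mem_iff (sub_ne_zero.2 hac)).1 ?_
      convert sub_mem ha hc using 1
      rw [hσ]; module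
    have hvT : v ∈ T := by
      refine (T.smul_mem_iff (mul_ne_zero (sub_ne_zero.2 (Ne.symm hbc)) hQe)).1 ?_
      convert sub_mem e1 e2 using 1
      module
    have heT : e ∈ T := by simpa using add_mem e1 (T.smul_mem ((a + b) * Q e) hvT)
    have huT : u ∈ T := by
      convert sub_mem ha (add_mem (T.smul_mem a heT) (T.smul_mem (-(a * a * Q e)) hvT)) using 1
      rw [hσ]; module
    obtain ⟨x, y, w, rfl⟩ := hspan z hz
    exact add_mem (add_mem (T.smul_mem _ huT) (T.smul_mem _ hvT)) (T.smul_mem _ heT)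
  letI := Fintype.ofFinite F
  have hA1 : ∀ z ∈ A, z ∈ T₁ := by
    by_cases h1 : 2 < (Finset.univ.filter fun t => σ t ∈ T₁).card
    · obtain ⟨a, b, c, ha, hb, hc, hab, hac, hbc⟩ := Finset.two_lt_card_iff.1 h1
      exact three T₁ a b c hab hac hbc (Finset.mem_filter.1 ha).2 (Finset.mem_filter.1 hb).2
        (Finset.mem_filter.1 hc).2
    · exfalso
      have hsum := Finset.card_filter_add_card_filter_not (s := (Finset.univ : Finset F))
        (fun t => σ t ∈ T₁)
      have := h.card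
      rw [Finset.card_univ, ← Nat.card_eq_fintype_card] at hsum
      obtain ⟨a, b, c, ha, hb, hc, hab, hac, hbc⟩ := Finset.two_lt_card_iff.1
        (show 2 < (Finset.univ.filter fun t => ¬ σ t ∈ T₁).card by omega)
      have hin : ∀ t, t ∈ Finset.univ.filter (fun t => ¬ σ t ∈ T₁) → σ t ∈ T₂ := fun t ht =>
        (hor _ (hσA t).1 (hσA t).2).resolve_left (Finset.mem_filter.1 ht).2
      obtain ⟨z, hz, hzn⟩ := hpol
      have := three T₂ a b c hab hac hbc (hin a ha) (hin b hb) (hin c hc) z hz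
      rw [hT₂] at this
      exact hzn this
  intro a ha
  have := hA1 a ha
  rw [hT₁] at this
  obtain ⟨_, hcn, b, hb, hsum⟩ := Submodule.mem_sup.1 this
  obtain ⟨c, rfl⟩ := Submodule.mem_span_singleton.1 hcn
  exact ⟨c, by show (g⁻¹).1 a - c • n ∈ B; rw [show (g⁻¹).1 a = c • n + b from hsum.symm, add_sub_cancel_left]; exact hb⟩

/-- no element fixes a plane of `A` and tilts its normal -/
theorem plane_false {x : quadIsoms Q} (hx : x ∈ M) {p₁ p₂ z : V} (h1 : p₁ ∈ A) (h2' : p₂ ∈ A) (hz : z ∈ A)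
    (hf1 : x.1 p₁ = p₁) (hf2 : x.1 p₂ = p₂) (hQz : Q z ≠ 0) (hp1 : p₁ ≠ 0) (hz1 : polar Q p₁ z = 0)
    (hz2 : polar Q p₂ z = 0) (hspan : ∀ w ∈ A, ∃ a b c : F, w = a • p₁ + b • p₂ + c • z)
    (hxz : polar Q (x.1 z) z ≠ 0) (hnot : x.1 z ∉ F ∙ z) : False := by
  have h2 := h.two
  have hout : x.1 z ∉ A := by
    intro hmem
    obtain ⟨a, b, c, he⟩ := hspan _ hmem
    refine hnot (Submodule.mem_span_singleton.2 ⟨c, (sub_eq_zero.1 (h.ndA _
      (sub_mem hmem (A.smul_mem c hz)) fun y hy => ?_)).symm⟩)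
    obtain ⟨a', b', c', rfl⟩ := hspan y hy
    have q1 : polar Q (x.1 z) p₁ = 0 := by
      conv_lhs => rw [← hf1]
      rw [polar_map, QuadraticMap.polar_comm, hz1]
    have q2 : polar Q (x.1 z) p₂ = 0 := by
      conv_lhs => rw [← hf2]
      rw [polar_map, QuadraticMap.polar_comm, hz2]
    have q3 : polar Q (x.1 z) z = c * polar Q z z := by
      conv_lhs => rw [he]
      rw [QuadraticMap.polar_add_left, QuadraticMap.polar_add_left, QuadraticMap.polar_smul_left,
        QuadraticMap.polar_smul_left, QuadraticMap.polar_smul_left, hz1, hz2]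
      simp
    simp only [QuadraticMap.polar_add_right, QuadraticMap.polar_sub_left, QuadraticMap.polar_smul_right,
      QuadraticMap.polar_smul_left, q1, q2, q3, QuadraticMap.polar_comm _ z p₁, hz1,
      QuadraticMap.polar_comm _ z p₂, hz2, smul_eq_mul, mul_zero, sub_zero, zero_add, add_zero]
    ring
  have hstep : ∀ k, Keeps A k → Keeps A (x * k * x⁻¹) → ∀ p ∈ A, x.1 p = p → polar Q (k.1 p) z = 0 := by
    intro k hk hk' p hp hfp
    obtain ⟨a, b, c, he⟩ := hspan _ (hk p hp)
    have hm : x.1 (k.1 p) ∈ A := by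
      have := hk' p hp
      conv at this => arg 2; rw [← hfp]
      rwa [conj_apply] at this
    rw [he, map_add, map_add, map_smul, map_smul, map_smul, hf1, hf2] at hm
    have hc : c = 0 := by
      by_contra hc
      exact hout ((A.smul_mem_iff hc).1 (by
        simpa using sub_mem hm (add_mem (A.smul_mem a h1) (A.smul_mem b h2'))))
    rw [he, hc, zero_smul, add_zero, QuadraticMap.polar_add_left, QuadraticMap.polar_smul_left,
      QuadraticMap.polar_smul_left, hz1, hz2, smul_zero, smul_zero, add_zero]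
  have hinv : ∀ k ∈ M, Keeps A k → Keeps A (x * k * x⁻¹) → k.1 z ∈ F ∙ z := by
    intro k hk hkA hkx
    have hk' : Keeps A (x * k⁻¹ * x⁻¹) := by
      have := hkx.inv
      rwa [show (x * k * x⁻¹)⁻¹ = x * k⁻¹ * x⁻¹ by group] at this
    have hperp : ∀ p ∈ A, x.1 p = p → polar Q (k.1 z) p = 0 := fun p hp hfp => by
      have := hstep k⁻¹ hkA.inv hk' p hp hfp
      rw [← polar_map k, apply_inv] at this
      rw [QuadraticMap.polar_comm]
      exact this
    obtain ⟨c, hc⟩ : ∃ c, c = polar Q (k.1 z) z / polar Q z z := ⟨_, rfl⟩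
    refine Submodule.mem_span_singleton.2 ⟨c, (sub_eq_zero.1 (h.ndA _
      (sub_mem (hkA z hz) (A.smul_mem c hz)) fun y hy => ?_)).symm⟩
    obtain ⟨a', b', c', rfl⟩ := hspan y hy
    have hzz : polar Q z z ≠ 0 := by rw [polar_self_two]; exact mul_ne_zero h2 hQz
    simp only [QuadraticMap.polar_add_right, QuadraticMap.polar_sub_left, QuadraticMap.polar_smul_right,
      QuadraticMap.polar_smul_left, hperp p₁ h1 hf1, hperp p₂ h2' hf2, QuadraticMap.polar_comm _ z p₁, hz1,
      QuadraticMap.polar_comm _ z p₂, hz2, smul_eq_mul, mul_zero, sub_zero, zero_add, add_zero]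
    rw [hc, div_mul_cancel₀ _ hzz, sub_self, mul_zero]
  obtain ⟨c, hc⟩ := h.key hle hx hz hQz hinv ⟨z, hz, by
    rw [← polar_map x, apply_inv, QuadraticMap.polar_comm]; exact hxz⟩ p₁ h1
  rw [show (x⁻¹).1 p₁ = p₁ by conv_lhs => rw [← hf1, inv_apply]] at hc
  have e := h.eq_zero (sub_mem h1 (A.smul_mem c hz)) hc
  rw [sub_eq_zero] at e
  rw [e, QuadraticMap.polar_smul_left, polar_self_two, smul_eq_mul, mul_eq_zero] at hz1
  exact hp1 (by rw [e, hz1.resolve_right (mul_ne_zero h2 hQz), zero_smul])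

/-- everything in the overgroup keeps `A` -/
theorem keeps {g : quadIsoms Q} (hg : g ∈ M) : Keeps A g := by
  classical
  have h2 := h.two
  by_contra hns
  obtain ⟨ν, hν⟩ : ∃ ν : F, ¬ IsSquare ν :=
    FiniteField.exists_nonsquare fun hc => h2 (by haveI := ringChar.of_eq hc; exact CharTwo.two_eq_zero)
  have hν0 : ν ≠ 0 := fun e => hν (e ▸ IsSquare.zero)
  have hνinv : ¬ IsSquare ν⁻¹ := fun e => hν (inv_inv ν ▸ e.inv)
  obtain ⟨L, hL⟩ : ∃ L : Submodule F V, L = A ⊓ A.comap g.1.toLinearMap := ⟨_, rfl⟩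
  have hLmem : ∀ x, x ∈ L ↔ x ∈ A ∧ g.1 x ∈ A := fun x => by rw [hL]; exact Iff.rfl
  have haniso : ∀ x ∈ L, x ≠ 0 → Q x ≠ 0 := fun x hx hx0 hQx =>
    hns (h.keeps_of_sing hle hg ((hLmem x).1 hx).1 hQx hx0 ((hLmem x).1 hx).2)
  obtain ⟨y, hyL, hy0⟩ : ∃ y ∈ L, y ≠ 0 := by
    have h1 := Submodule.finrank_sup_add_finrank_inf_eq (A.map g.1.toLinearMap) A
    have hm : Module.finrank F (A.map g.1.toLinearMap) = 3 := by
      rw [← (Submodule.equivMapOfInjective _ g.1.injective A).finrank_eq, h.dimA]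
    have h3 := Submodule.finrank_le (A.map g.1.toLinearMap ⊔ A)
    rw [h.five] at h3
    rw [hm, h.dimA] at h1
    obtain ⟨z, ⟨⟨y, hy, hyz⟩, hz⟩, hz0⟩ := Submodule.exists_mem_ne_zero_of_ne_bot
      (p := A.map g.1.toLinearMap ⊓ A) (fun e => by rw [e, finrank_bot] at h1; omega)
    refine ⟨y, (hLmem y).2 ⟨hy, hyz ▸ hz⟩, fun e => hz0 ?_⟩
    rw [← hyz, e, map_zero]
  obtain ⟨hyA, hgy⟩ := (hLmem y).1 hyL
  have hQy := haniso y hyL hy0
  have hkeepL : ∀ k : quadIsoms Q, Keeps A k → Keeps A (g * k * g⁻¹) → ∀ x ∈ L, k.1 x ∈ L := by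
    intro k hk hk' x hx
    obtain ⟨hxA, hgx⟩ := (hLmem x).1 hx
    exact (hLmem _).2 ⟨hk x hxA, by rw [← conj_apply g k x]; exact hk' _ hgx⟩
  by_cases hcase : ∀ x ∈ L, x ∈ F ∙ y
  · -- the common part is a line
    have hkey := h.key hle hg hyA hQy (fun k _ hk hk' => hcase _ (hkeepL k hk hk' y hyL))
      ⟨g.1 y, hgy, by rw [inv_apply, polar_self_two]; exact mul_ne_zero h2 hQy⟩
    have hgy0 : g.1 y ≠ 0 := fun e => hy0 (g.1.injective (by rw [e, map_zero]))
    obtain ⟨N, hN⟩ : ∃ N : Submodule F V, N = A ⊓ B.comap (g⁻¹).1.toLinearMap := ⟨_, rfl⟩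
    have hle' : A ≤ Submodule.span F {g.1 y} ⊔ N := fun a ha => by
      obtain ⟨c, hc⟩ := hkey a ha
      refine Submodule.mem_sup.2 ⟨c • g.1 y, Submodule.smul_mem _ _ (Submodule.mem_span_singleton_self _),
        a - c • g.1 y, ?_, add_sub_cancel _ _⟩
      rw [hN]
      refine ⟨sub_mem ha (A.smul_mem _ hgy), ?_⟩
      show (g⁻¹).1 (a - c • g.1 y) ∈ B
      rwa [map_sub, map_smul, inv_apply]
    have hN2 : 2 ≤ Module.finrank F N := by
      have d1 := Submodule.finrank_mono hle'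
      have d2 := Submodule.finrank_sup_add_finrank_inf_eq (Submodule.span F {g.1 y}) N
      rw [finrank_span_singleton hgy0] at d2
      rw [h.dimA] at d1
      omega
    have hmapN : N.map (g⁻¹).1.toLinearMap = B := by
      refine Submodule.eq_of_le_of_finrank_le ?_ ?_
      · rintro _ ⟨a, ha, rfl⟩
        rw [hN] at ha
        exact ha.2
      · rw [← (Submodule.equivMapOfInjective _ (g⁻¹).1.injective N).finrank_eq, h.dimB]
        exact hN2
    have hgB : ∀ b ∈ B, g.1 b ∈ A := fun b hb => by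
      rw [← hmapN] at hb
      obtain ⟨a, ha, rfl⟩ := hb
      rw [hN] at ha
      show g.1 ((g⁻¹).1 a) ∈ A
      rw [apply_inv]
      exact ha.1
    obtain ⟨hd, hnd⟩ := h.perp_plane hyA hQy
    obtain ⟨n, hn, -, -, hQn, -, -, -⟩ := exists_orth h2 hnd hd (Q y * ν) (mul_ne_zero hQy hν0)
    obtain ⟨k, hk, hkB, -, a, b, hky, ha0, hb0⟩ := h.exists_rot hyA hn.1 hQy (hQn ▸ mul_ne_zero hQy hν0)
      (by rw [QuadraticMap.polar_comm]; exact hn.2) (by rw [hQn, mul_div_cancel_left₀ _ hQy]; exact hν)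
    obtain ⟨b₁, hb₁, b₂, hb₂, hQb₁, hQb₂, hb12, -⟩ := exists_orth h2 h.ndB h.dimB 1 one_ne_zero
    have hfix : ∀ b ∈ B, (g * k * g⁻¹).1 (g.1 b) = g.1 b := fun b hb => by rw [conj_apply, hkB b hb]
    refine h.plane_false hle (mul_mem (mul_mem hg hk) (inv_mem hg)) (hgB b₁ hb₁) (hgB b₂ hb₂) hgy
      (hfix b₁ hb₁) (hfix b₂ hb₂) (by rw [g.2]; exact hQy) (fun e => ?_)
      (by rw [polar_map]; exact h.perp' hb₁ hyA) (by rw [polar_map]; exact h.perp' hb₂ hyA)
      (span_orth h2 h.dimA (hgB b₁ hb₁) (hgB b₂ hb₂) hgy (fun e => ?_) (by rw [g.2]; exact hQb₂)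
        (by rw [g.2]; exact hQy) (by rw [polar_map]; exact hb12) (by rw [polar_map]; exact h.perp' hb₁ hyA)
        (by rw [polar_map]; exact h.perp' hb₂ hyA)) ?_ ?_
    · have := g.2 b₁
      rw [e, QuadraticMap.map_zero, hQb₁] at this
      exact zero_ne_one this
    · have := g.2 b₁
      rw [e, QuadraticMap.map_zero, hQb₁] at this
      exact zero_ne_one this
    · rw [conj_apply, polar_map, hky, QuadraticMap.polar_add_left, QuadraticMap.polar_smul_left,
        QuadraticMap.polar_smul_left, polar_self_two, (show polar Q n y = 0 from hn.2), smul_zero, add_zero,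
        smul_eq_mul]
      exact mul_ne_zero ha0 (mul_ne_zero h2 hQy)
    · rw [conj_apply, hky]
      intro hm
      obtain ⟨c, hc⟩ := Submodule.mem_span_singleton.1 hm
      rw [← map_smul] at hc
      have e := congrArg (polar Q n) (g.1.injective hc)
      rw [QuadraticMap.polar_smul_right, QuadraticMap.polar_add_right, QuadraticMap.polar_smul_right,
        QuadraticMap.polar_smul_right, (show polar Q n y = 0 from hn.2), polar_self_two, smul_zero, smul_zero,
        zero_add, smul_eq_mul] at e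
      exact mul_ne_zero hb0 (mul_ne_zero h2 (hQn ▸ mul_ne_zero hQy hν0)) e.symm
  · -- the common part is a plane
    push Not at hcase
    obtain ⟨y₂, hy₂L, hy₂⟩ := hcase
    obtain ⟨hy₂A, -⟩ := (hLmem y₂).1 hy₂L
    have hL2 : Module.finrank F L = 2 := by
      have hlo : 2 ≤ Module.finrank F L := by
        have hli : LinearIndependent F ![y, y₂] := by
          rw [LinearIndependent.pair_iff' hy0]
          exact fun a e => hy₂ (Submodule.mem_span_singleton.2 ⟨a, e⟩)
        have hsp : Submodule.span F (Set.range ![y, y₂]) ≤ L := Submodule.span_le.2 (by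
          rintro _ ⟨i, rfl⟩
          fin_cases i
          · exact hyL
          · exact hy₂L)
        have := Submodule.finrank_mono hsp
        rwa [finrank_span_eq_card hli, Fintype.card_fin] at this
      have hhi : Module.finrank F L < Module.finrank F A :=
        Submodule.finrank_lt_finrank_of_lt (lt_of_le_of_ne (fun x hx => ((hLmem x).1 hx).1)
          fun e => hns fun x hx => ((hLmem x).1 (e.symm ▸ hx)).2)
      rw [h.dimA] at hhi
      omega
    have hndL : NdOn Q L := fun x hx hperp => by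
      by_contra hx0
      have := hperp x hx
      rw [polar_self_two, mul_eq_zero] at this
      exact haniso x hx hx0 (this.resolve_left h2)
    obtain ⟨n, ⟨⟨hnA, hny⟩, hny₂⟩, hn0⟩ := Submodule.exists_mem_ne_zero_of_ne_bot
      (p := A ⊓ LinearMap.ker (pLin Q y) ⊓ LinearMap.ker (pLin Q y₂)) (fun e => by
        have d1 := finrank_le_inf_ker A (pLin Q y)
        have d2 := finrank_le_inf_ker (A ⊓ LinearMap.ker (pLin Q y)) (pLin Q y₂)
        rw [e, finrank_bot] at d2
        rw [h.dimA] at d1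
        omega)
    have hperpn : ∀ x ∈ L, polar Q n x = 0 := fun x hx => by
      rw [QuadraticMap.polar_comm]
      exact mem_of_span_two hL2 hyL hy₂L hy0 hy₂ (S := LinearMap.ker (pLin Q n))
        (show polar Q y n = 0 by rw [QuadraticMap.polar_comm]; exact hny)
        (show polar Q y₂ n = 0 by rw [QuadraticMap.polar_comm]; exact hny₂) hx
    have hnL : n ∉ L := fun hm => hn0 (hndL n hm hperpn)
    have hspan : ∀ w ∈ A, ∃ a b c : F, w = a • y + b • y₂ + c • n := by
      refine span_of_three h.dimA hyA hy₂A hnA fun a b c e => ?_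
      have hc : c = 0 := by
        by_contra hc
        refine hnL ((L.smul_mem_iff hc).1 ?_)
        rw [eq_neg_of_add_eq_zero_right e]
        exact L.neg_mem (add_mem (L.smul_mem _ hyL) (L.smul_mem _ hy₂L))
      rw [hc, zero_smul, add_zero] at e
      obtain ⟨ha, hb⟩ := (LinearIndependent.pair_iff.1 ((LinearIndependent.pair_iff' hy0).2
        fun a e => hy₂ (Submodule.mem_span_singleton.2 ⟨a, e⟩))) a b e
      exact ⟨ha, hb, hc⟩
    have hQn : Q n ≠ 0 := by
      intro e
      refine hn0 (h.ndA n hnA fun w hw => ?_)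
      obtain ⟨a, b, c, rfl⟩ := hspan w hw
      rw [QuadraticMap.polar_add_right, QuadraticMap.polar_add_right, QuadraticMap.polar_smul_right,
        QuadraticMap.polar_smul_right, QuadraticMap.polar_smul_right, hperpn y hyL, hperpn y₂ hy₂L,
        polar_self_two, e, mul_zero, smul_zero, smul_zero, smul_zero, add_zero, add_zero]
    have hinv : ∀ k ∈ M, Keeps A k → Keeps A (g * k * g⁻¹) → k.1 n ∈ F ∙ n := by
      intro k _ hk hk'
      have hk'' : Keeps A (g * k⁻¹ * g⁻¹) := by
        have := hk'.inv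
        rwa [show (g * k * g⁻¹)⁻¹ = g * k⁻¹ * g⁻¹ by group] at this
      have hkn : ∀ x ∈ L, polar Q (k.1 n) x = 0 := fun x hx => by
        rw [← apply_inv k x, polar_map]
        exact hperpn _ (hkeepL _ hk.inv hk'' x hx)
      obtain ⟨a, b, c, he⟩ := hspan _ (hk n hnA)
      have hm : a • y + b • y₂ ∈ L := add_mem (L.smul_mem _ hyL) (L.smul_mem _ hy₂L)
      have h0 : a • y + b • y₂ = 0 := hndL _ hm fun x hx => by
        have := hkn x hx
        rwa [he, QuadraticMap.polar_add_left, QuadraticMap.polar_smul_left _ c, hperpn x hx, smul_zero,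
          add_zero] at this
      rw [he, h0, zero_add]
      exact Submodule.smul_mem _ _ (Submodule.mem_span_singleton_self _)
    by_cases hpol : ∃ a ∈ A, polar Q ((g⁻¹).1 a) n ≠ 0
    · obtain ⟨c, hc⟩ := h.key hle hg hnA hQn hinv hpol (g.1 y) hgy
      rw [inv_apply] at hc
      have e := h.eq_zero (sub_mem hyA (A.smul_mem c hnA)) hc
      rw [sub_eq_zero] at e
      have hp := hperpn y hyL
      rw [e, QuadraticMap.polar_smul_right, polar_self_two, smul_eq_mul, mul_eq_zero] at hp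
      exact hy0 (by rw [e, hp.resolve_right (mul_ne_zero h2 hQn), zero_smul])
    push Not at hpol
    have hgL : ∀ x ∈ L, g.1 x ∈ A := fun x hx => ((hLmem x).1 hx).2
    obtain ⟨a₀, ⟨⟨ha₀, ha₀y⟩, ha₀y₂⟩, ha₀0⟩ := Submodule.exists_mem_ne_zero_of_ne_bot
      (p := A ⊓ LinearMap.ker (pLin Q (g.1 y)) ⊓ LinearMap.ker (pLin Q (g.1 y₂))) (fun e => by
        have d1 := finrank_le_inf_ker A (pLin Q (g.1 y))
        have d2 := finrank_le_inf_ker (A ⊓ LinearMap.ker (pLin Q (g.1 y))) (pLin Q (g.1 y₂))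
        rw [e, finrank_bot] at d2
        rw [h.dimA] at d1
        omega)
    have ha₀B : (g⁻¹).1 a₀ ∈ B := h.mem_B fun w hw => by
      obtain ⟨a, b, c, rfl⟩ := hspan w hw
      rw [QuadraticMap.polar_add_right, QuadraticMap.polar_add_right, QuadraticMap.polar_smul_right,
        QuadraticMap.polar_smul_right, QuadraticMap.polar_smul_right, hpol a₀ ha₀]
      rw [← polar_map g ((g⁻¹).1 a₀) y, ← polar_map g ((g⁻¹).1 a₀) y₂, apply_inv,
        (show polar Q a₀ (g.1 y) = 0 from ha₀y), (show polar Q a₀ (g.1 y₂) = 0 from ha₀y₂)]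
      simp
    have ha₀L : ∀ x ∈ L, polar Q a₀ (g.1 x) = 0 := fun x hx => by
      rw [← apply_inv g a₀, polar_map, QuadraticMap.polar_comm]
      exact h.perp x ((hLmem x).1 hx).1 _ ha₀B
    obtain ⟨d', hd', d, hd, hQd', hQd, hdd, -⟩ := exists_orth h2 hndL hL2 (Q n * ν) (mul_ne_zero hQn hν0)
    have hd'n : polar Q d' n = 0 := by rw [QuadraticMap.polar_comm]; exact hperpn d' hd'
    obtain ⟨k, hk, hkB, hkfix, a, b, hkd, ha, hb⟩ := h.exists_rot ((hLmem d').1 hd').1 hnA
      (hQd' ▸ mul_ne_zero hQn hν0) hQn hd'n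
      (by rw [hQd', div_mul_cancel_left₀ hQn]; exact hνinv)
    refine h.plane_false hle (mul_mem (mul_mem hg hk) (inv_mem hg)) ha₀ (hgL d hd) (hgL d' hd') ?_ ?_
      (by rw [g.2, hQd']; exact mul_ne_zero hQn hν0) ha₀0 (ha₀L d' hd')
      (by rw [polar_map, QuadraticMap.polar_comm]; exact hdd)
      (span_orth h2 h.dimA ha₀ (hgL d hd) (hgL d' hd') ha₀0 (by rw [g.2]; exact hQd)
        (by rw [g.2, hQd']; exact mul_ne_zero hQn hν0) (ha₀L d hd) (ha₀L d' hd')
        (by rw [polar_map, QuadraticMap.polar_comm]; exact hdd)) ?_ ?_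
    · conv_lhs => rw [← apply_inv g a₀]
      rw [conj_apply, hkB _ ha₀B, apply_inv]
    · rw [conj_apply, hkfix d hdd (hperpn d hd)]
    · rw [conj_apply, polar_map, hkd, QuadraticMap.polar_add_left, QuadraticMap.polar_smul_left,
        QuadraticMap.polar_smul_left, polar_self_two, QuadraticMap.polar_comm _ n d', hd'n, smul_zero, add_zero,
        smul_eq_mul]
      exact mul_ne_zero ha (mul_ne_zero h2 (hQd' ▸ mul_ne_zero hQn hν0))
    · rw [conj_apply, hkd]
      intro hm
      obtain ⟨c, hc⟩ := Submodule.mem_span_singleton.1 hm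
      rw [← map_smul] at hc
      have e := congrArg (polar Q n) (g.1.injective hc)
      rw [QuadraticMap.polar_smul_right, QuadraticMap.polar_add_right, QuadraticMap.polar_smul_right,
        QuadraticMap.polar_smul_right, hperpn d' hd', polar_self_two, smul_zero, smul_zero, zero_add,
        smul_eq_mul] at e
      exact mul_ne_zero hb (mul_ne_zero h2 hQn) e.symm

end Pair

/-- something moves the three-space -/
theorem exists_moved {A B : Submodule F V} {M : Subgroup (quadIsoms Q)} (h : Pair Q A B M) :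
    ∃ k ∈ commutator (quadIsoms Q), ¬ Keeps A k := by
  obtain ⟨u, hu, hu0, hQu⟩ := exists_singular_in (Q := Q) (W := A) (by rw [h.dimA])
  obtain ⟨v, hv, hQv, huv⟩ := h.ndA.exists_opposite hu hu0 hQu
  obtain ⟨b, hb, hb0⟩ := Submodule.exists_mem_ne_zero_of_ne_bot
    (p := B) (fun e => by have := h.dimB; rw [e, finrank_bot] at this; omega)
  refine ⟨siegel Q u b, h.siegel_comm u b, fun hk => hb0 (h.eq_zero ?_ hb)⟩
  have := hk v hv
  rw [siegel_apply Q hQu (h.perp u hu b hb), huv, h.perp' hb hv, one_smul] at this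
  have h' := add_mem (sub_mem this hv) (A.smul_mem (0 + Q b * 1) hu)
  convert h' using 1
  module

end CfsgLib.MaxSub.OFive
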