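import Cfsg.Agent.Lib.MaxSub.OFrameSpan
import Cfsg.Agent.Lib.MaxSub.ORefl.Refl
import Cfsg.Agent.Lib.Geom.NondegMax

/-!
Tools for the stabiliser of a non-degenerate plane of the five-dimensional orthogonal space.
-/

set_option autoImplicit false
set_option linter.unusedSectionVars false

namespace CfsgLib.MaxSub.OFive

open CfsgLib.Classical CfsgLib.Geom CfsgLib.Geom.OrthSub CfsgLib.MaxSub CfsgLib.MaxSub.OFrame
open CfsgLib.MaxSub.ORefl (rs rs_apply rs_fix rs_self rs_pair_mem_commutator)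
open QuadraticMap (polar)

variable {F V : Type*} [Field F] [AddCommGroup V] [Module F V] {Q : QuadraticForm F V}

theorem mem_of_span_two [FiniteDimensional F V] {E S : Submodule F V} (hE : Module.finrank F E = 2) {x y : V}
    (hx : x ∈ E) (hy : y ∈ E) (hx0 : x ≠ 0) (hyx : y ∉ F ∙ x) (hxS : x ∈ S) (hyS : y ∈ S) : E ≤ S := by
  have hli : LinearIndependent F ![x, y] := by
    rw [LinearIndependent.pair_iff' hx0]
    exact fun a e => hyx (Submodule.mem_span_singleton.2 ⟨a, e⟩)
  have hle : Submodule.span F (Set.range ![x, y]) ≤ E := Submodule.span_le.2 (by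
    rintro _ ⟨i, rfl⟩
    fin_cases i
    · exact hx
    · exact hy)
  have he := Submodule.eq_of_le_of_finrank_eq hle (by rw [finrank_span_eq_card hli, hE, Fintype.card_fin])
  rw [← he]
  refine Submodule.span_le.2 ?_
  rintro _ ⟨i, rfl⟩
  fin_cases i
  · exact hxS
  · exact hyS

theorem span_of_three [FiniteDimensional F V] {E : Submodule F V} (hE : Module.finrank F E = 3) {x y z : V}
    (hx : x ∈ E) (hy : y ∈ E) (hz : z ∈ E)
    (h : ∀ a b c : F, a • x + b • y + c • z = 0 → a = 0 ∧ b = 0 ∧ c = 0) :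
    ∀ w ∈ E, ∃ a b c : F, w = a • x + b • y + c • z := by
  have hli : LinearIndependent F ![x, y, z] := by
    rw [Fintype.linearIndependent_iff]
    intro g hg i
    simp [Fin.sum_univ_three] at hg
    obtain ⟨e1, e2, e3⟩ := h _ _ _ hg
    fin_cases i <;> assumption
  have hle : Submodule.span F (Set.range ![x, y, z]) ≤ E := Submodule.span_le.2 (by
    rintro _ ⟨i, rfl⟩
    fin_cases i
    · exact hx
    · exact hy
    · exact hz)
  have he := Submodule.eq_of_le_of_finrank_eq hle (by rw [finrank_span_eq_card hli, hE, Fintype.card_fin])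
  intro w hw
  rw [← he, Submodule.mem_span_range_iff_exists_fun] at hw
  obtain ⟨c, rfl⟩ := hw
  exact ⟨c 0, c 1, c 2, by simp [Fin.sum_univ_three]⟩

/-- three mutually orthogonal vectors, two of them anisotropic, span -/
theorem span_orth [FiniteDimensional F V] (h2 : (2 : F) ≠ 0) {E : Submodule F V} (hE : Module.finrank F E = 3)
    {x y z : V} (hx : x ∈ E) (hy : y ∈ E) (hz : z ∈ E) (hx0 : x ≠ 0) (hy0 : Q y ≠ 0) (hz0 : Q z ≠ 0)
    (hxy : polar Q x y = 0) (hxz : polar Q x z = 0) (hyz : polar Q y z = 0) :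
    ∀ w ∈ E, ∃ a b c : F, w = a • x + b • y + c • z := by
  refine span_of_three hE hx hy hz fun a b c e => ?_
  have e1 := congrArg (polar Q y) e
  have e2 := congrArg (polar Q z) e
  simp only [QuadraticMap.polar_add_right, QuadraticMap.polar_smul_right, QuadraticMap.polar_zero_right,
    polar_self_two, QuadraticMap.polar_comm _ y x, QuadraticMap.polar_comm _ z x, QuadraticMap.polar_comm _ z y,
    hxy, hxz, hyz, smul_eq_mul, mul_zero, zero_add, add_zero] at e1 e2
  have hb : b = 0 := (mul_eq_zero.1 e1).resolve_right (mul_ne_zero h2 hy0)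
  have hc : c = 0 := (mul_eq_zero.1 e2).resolve_right (mul_ne_zero h2 hz0)
  rw [hb, hc, zero_smul, zero_smul, add_zero, add_zero] at e
  exact ⟨(smul_eq_zero.1 e).resolve_right hx0, hb, hc⟩

variable [Finite F]

/-- four values are avoided -/
theorem exists_not_mem (h5 : 5 ≤ Nat.card F) (S : Finset F) (hS : S.card ≤ 4) : ∃ a, a ∉ S := by
  by_contra h
  push Not at h
  haveI : Fintype F := Fintype.ofFinite F
  have := Finset.card_le_card (s := Finset.univ) (t := S) fun a _ => h a
  rw [Finset.card_univ, ← Nat.card_eq_fintype_card] at this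
  omega

/-- a non-zero value whose square avoids a given one -/
theorem exists_sq_ne (h5 : 5 ≤ Nat.card F) (k : F) : ∃ a : F, a ≠ 0 ∧ a * a ≠ k := by
  classical
  by_cases h : IsSquare k
  · obtain ⟨r, rfl⟩ := h
    obtain ⟨a, ha⟩ := exists_not_mem h5 ({0, r, -r} : Finset F) (le_trans Finset.card_le_three (by norm_num))
    simp only [Finset.mem_insert, Finset.mem_singleton, not_or] at ha
    exact ⟨a, ha.1, fun e => (mul_self_eq_mul_self_iff.1 e).elim ha.2.1 ha.2.2⟩
  · exact ⟨1, one_ne_zero, fun e => h ⟨1, e.symm⟩⟩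

/-- a combination with a prescribed non-zero square avoiding zero -/
theorem exists_comb_ne (h5 : 5 ≤ Nat.card F) (c : F) {d : F} (hd : d ≠ 0) :
    ∃ a : F, a ≠ 0 ∧ c + a * a * d ≠ 0 := by
  obtain ⟨a, ha0, ha⟩ := exists_sq_ne h5 (-c / d)
  exact ⟨a, ha0, fun e => ha (by rw [eq_div_iff hd]; linear_combination e)⟩

variable [FiniteDimensional F V]

/-- an orthogonal basis of a plane with the first value prescribed -/
theorem exists_orth (h2 : (2 : F) ≠ 0) {P : Submodule F V} (hP : NdOn Q P) (hd : Module.finrank F P = 2)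
    (c : F) (hc : c ≠ 0) :
    ∃ x ∈ P, ∃ s ∈ P, Q x = c ∧ Q s ≠ 0 ∧ polar Q x s = 0 ∧ s ∉ F ∙ x := by
  obtain ⟨x, hx⟩ := exists_value (Q.comp P.subtype) h2 (fun x hx => Subtype.ext (hP x x.2 fun y hy => hx ⟨y, hy⟩))
    (by rw [hd]) c hc
  have hx' : Q (x : V) = c := hx
  have hx0 : (x : V) ≠ 0 := fun e => hc (by rw [← hx', e, QuadraticMap.map_zero])
  have d1 := finrank_le_inf_ker P (pLin Q (x : V))
  obtain ⟨s, ⟨hs, hsx⟩, hs0⟩ := Submodule.exists_mem_ne_zero_of_ne_bot
    (p := P ⊓ LinearMap.ker (pLin Q (x : V))) (fun e => by rw [e, finrank_bot] at d1; omega)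
  have hxs : polar Q (x : V) s = 0 := by rw [QuadraticMap.polar_comm]; exact hsx
  have hsn : s ∉ F ∙ (x : V) := by
    intro hm
    obtain ⟨a, rfl⟩ := Submodule.mem_span_singleton.1 hm
    rw [QuadraticMap.polar_smul_right, polar_self_two, hx', smul_eq_mul, mul_eq_zero] at hxs
    exact hs0 (by rw [hxs.resolve_right (mul_ne_zero h2 hc), zero_smul])
  refine ⟨x, x.2, s, hs, hx', fun hQs => hs0 (hP s hs fun y hy => ?_), hxs, hsn⟩
  rw [QuadraticMap.polar_comm]
  exact mem_of_span_two hd x.2 hs hx0 hsn (S := LinearMap.ker (pLin Q s))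
    (show polar Q (x : V) s = 0 from hxs) (show polar Q s s = 0 by rw [polar_self_two, hQs, mul_zero]) hy

/-- two independent vectors of the same non-zero value in a plane -/
theorem exists_equal_values (h2 : (2 : F) ≠ 0) (h5 : 5 ≤ Nat.card F) {P : Submodule F V} (hP : NdOn Q P)
    (hd : Module.finrank F P = 2) :
    ∃ x ∈ P, ∃ x' ∈ P, Q x ≠ 0 ∧ Q x' = Q x ∧ x' ∉ F ∙ x := by
  obtain ⟨x, hx, s, hs, hQx, hQs, hxs, hsn⟩ := exists_orth h2 hP hd 1 one_ne_zero
  obtain ⟨a, ha, hT⟩ := exists_comb_ne h5 (1 : F) hQs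
  obtain ⟨t, ht⟩ : ∃ t, t = x + a • s := ⟨_, rfl⟩
  have hQt : Q t = 1 + a * a * Q s := by
    rw [ht, quad_map_add_smul, hQx, hxs]; ring
  have htx : polar Q t x = 2 := by
    rw [ht, QuadraticMap.polar_add_left, QuadraticMap.polar_smul_left, polar_self_two, hQx,
      QuadraticMap.polar_comm _ s x, hxs, smul_zero, add_zero, mul_one]
  refine ⟨x, hx, (rs Q t).1 x, ?_, hQx ▸ one_ne_zero, (rs Q t).2 x, fun hm => hsn ?_⟩
  · rw [rs_apply (hQt ▸ hT)]
    exact sub_mem hx (P.smul_mem _ (ht ▸ add_mem hx (P.smul_mem _ hs)))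
  · rw [rs_apply (hQt ▸ hT), htx, hQt, ht] at hm
    have h' := sub_mem (Submodule.mem_span_singleton_self x) hm
    rw [sub_sub_cancel, smul_add, smul_smul] at h'
    have := sub_mem h' (Submodule.smul_mem _ ((1 + a * a * Q s)⁻¹ * 2) (Submodule.mem_span_singleton_self x))
    rw [add_sub_cancel_left] at this
    exact (Submodule.smul_mem_iff _ (mul_ne_zero (mul_ne_zero (inv_ne_zero hT) h2) ha)).1 this

end CfsgLib.MaxSub.OFive
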