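import Cfsg.Agent.Lib.MaxSub.OFrameSpan

/-!
Overgroups of the stabiliser of an orthogonal decomposition into isometric pieces, odd characteristic: one
Siegel transformation linking two pieces gives the whole commutator subgroup.
-/

set_option autoImplicit false
set_option linter.unusedSectionVars false

namespace CfsgLib.MaxSub.OFrame

open CfsgLib.Classical CfsgLib.Geom CfsgLib.Geom.OrthSub CfsgLib.MaxSub
open QuadraticMap (polar)

variable {F V : Type*} [Field F] [AddCommGroup V] [Module F V] {Q : QuadraticForm F V} {t : ℕ}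

/-- each piece is mapped into a piece -/
def Stab (D : Fin t → Submodule F V) (g : quadIsoms Q) : Prop :=
  ∀ i, ∃ j, ∀ x ∈ D i, g.1 x ∈ D j

/-- an overgroup of the stabiliser of an orthogonal decomposition -/
structure Setting (Q : QuadraticForm F V) (D : Fin t → Submodule F V) (p : Fin t → V →ₗ[F] V) (k : ℕ)
    (M : Subgroup (quadIsoms Q)) : Prop where
  sep : ∀ x, (∀ y, polar Q x y = 0) → x = 0
  five : 5 ≤ Module.finrank F V
  two : (2 : F) ≠ 0
  kge : 3 ≤ k
  big : k = 3 → 5 ≤ Nat.card F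
  dim : ∀ i, Module.finrank F (D i) = k
  orth : ∀ i j, i ≠ j → ∀ x ∈ D i, ∀ y ∈ D j, polar Q x y = 0
  nd : ∀ i, NdOn Q (D i)
  mem : ∀ i x, p i x ∈ D i
  sum : ∀ x, ∑ i, p i x = x
  iso : ∀ i j, ∃ e : D i ≃ₗ[F] D j, ∀ x : D i, Q ((e x : D j) : V) = Q (x : V)
  extend : ∀ g ∈ commutator (quadIsoms Q), Stab D g → g ∈ M

/-- `w` is in the group of Siegel parameters at `u` -/
def InW (M : Subgroup (quadIsoms Q)) (u w : V) : Prop := polar Q u w = 0 ∧ siegel Q u w ∈ M

/-- the additive group of Siegel parameters at `u` -/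
def wSub (M : Subgroup (quadIsoms Q)) {u : V} (hu : Q u = 0) : AddSubgroup V where
  carrier := {w | InW M u w}
  add_mem' {a b} ha hb := ⟨by rw [QuadraticMap.polar_add_right, ha.1, hb.1, add_zero],
    by rw [siegel_add Q hu ha.1 hb.1]; exact mul_mem ha.2 hb.2⟩
  zero_mem' := ⟨QuadraticMap.polar_zero_right Q u, by rw [siegel_zero]; exact one_mem M⟩
  neg_mem' {a} ha := ⟨by rw [QuadraticMap.polar_neg_right, ha.1, neg_zero],
    by rw [← siegel_neg Q hu ha.1]; exact inv_mem ha.2⟩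

theorem mem_wSub {M : Subgroup (quadIsoms Q)} {u w : V} {hu : Q u = 0} :
    w ∈ wSub M hu ↔ InW M u w := Iff.rfl

theorem InW.conj {M : Subgroup (quadIsoms Q)} {u w : V} (h : InW M u w) {g : quadIsoms Q} (hg : g ∈ M) :
    InW M (g.1 u) (g.1 w) :=
  ⟨by rw [polar_map, h.1], by rw [← siegel_conj]; exact mul_mem (mul_mem hg h.2) (inv_mem hg)⟩

namespace Setting

variable [FiniteDimensional F V] [Finite F] {D : Fin t → Submodule F V} {p : Fin t → V →ₗ[F] V} {k : ℕ}
  {M : Subgroup (quadIsoms Q)} (st : Setting Q D p k M)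
include st

theorem polar_p {i : Fin t} (x : V) {y : V} (hy : y ∈ D i) : polar Q (p i x) y = polar Q x y := by
  conv_rhs => rw [← st.sum x]
  have h : polar Q (∑ j, p j x) y = ∑ j, polar Q (p j x) y := by
    show QuadraticMap.polarBilin Q (∑ j, p j x) y = _
    rw [map_sum, LinearMap.sum_apply]; rfl
  rw [h, Finset.sum_eq_single i (fun j _ hj => st.orth j i hj _ (st.mem j x) _ hy) (by simp)]

theorem p_self {i : Fin t} {x : V} (hx : x ∈ D i) : p i x = x := by
  refine sub_eq_zero.1 (st.nd i _ (sub_mem (st.mem i x) hx) fun y hy => ?_)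
  rw [QuadraticMap.polar_sub_left, st.polar_p x hy, sub_self]

theorem p_other {i j : Fin t} (hij : j ≠ i) {x : V} (hx : x ∈ D i) : p j x = 0 :=
  st.nd j _ (st.mem j x) fun y hy => by rw [st.polar_p x hy]; exact st.orth i j (Ne.symm hij) x hx y hy

theorem disjoint {i j : Fin t} (hij : i ≠ j) {x : V} (hi : x ∈ D i) (hj : x ∈ D j) : x = 0 := by
  rw [← st.p_self hi]; exact st.p_other hij hj

theorem block_eq {i j : Fin t} {x : V} (hi : x ∈ D i) (hj : x ∈ D j) (hx : x ≠ 0) : i = j :=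
  by_contra fun h => hx (st.disjoint h hi hj)

theorem siegel_stab {i : Fin t} {u w : V} (hu : u ∈ D i) (hQu : Q u = 0) (hw : w ∈ D i)
    (huw : polar Q u w = 0) : Stab D (siegel Q u w) := fun j => ⟨j, fun z hz => by
  rw [siegel_apply Q hQu huw]
  rcases eq_or_ne i j with rfl | hij
  · exact sub_mem (add_mem hz ((D i).smul_mem _ hw)) ((D i).smul_mem _ hu)
  · rw [st.orth i j hij u hu z hz, st.orth i j hij w hw z hz]
    simpa using hz⟩

theorem siegel_mem {i : Fin t} {u w : V} (hu : u ∈ D i) (hQu : Q u = 0) (hw : w ∈ D i)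
    (huw : polar Q u w = 0) : siegel Q u w ∈ M :=
  st.extend _ (siegel_mem_commutator st.sep st.five u w) (st.siegel_stab hu hQu hw huw)

theorem inW_block {i : Fin t} {u w : V} (hu : u ∈ D i) (hQu : Q u = 0) (hw : w ∈ D i)
    (huw : polar Q u w = 0) : InW M u w := ⟨huw, st.siegel_mem hu hQu hw huw⟩

theorem inW_zero (w : V) : InW M 0 w := by
  refine ⟨QuadraticMap.polar_zero_left Q w, ?_⟩
  have h : siegel Q 0 w = 1 := quadIsoms_ext Q fun z => by
    rw [siegel_apply Q (map_zero Q) (QuadraticMap.polar_zero_left Q w)]; simp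
  rw [h]; exact one_mem M

/-- all of `D l` is in the group of every singular point of `D a` -/
def Spread (_ : Setting Q D p k M) (a l : Fin t) : Prop :=
  ∀ u ∈ D a, Q u = 0 → ∀ w ∈ D l, InW M u w

theorem spread_one {a l : Fin t} (hal : a ≠ l) {u : V} (hu : u ∈ D a) (hQu : Q u = 0) {w : V}
    (hw : InW M u w) (hwl : p l w ≠ 0) : ∀ w' ∈ D l, InW M u w' := by
  refine fun w' hw' => mem_wSub.1 (span_of_siegel st.two (st.nd l) (by rw [st.dim]; exact st.kge)
    (wSub M hQu) (r := w) ?_ (fun s hs hQs x hx hsx => ?_) w' hw')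
  · obtain ⟨z, hz, hz1⟩ := (st.nd l).exists_partner (st.mem l w) hwl
    refine ⟨z, hz, ?_⟩
    rw [QuadraticMap.polar_comm, ← st.polar_p w hz, hz1]
    exact one_ne_zero
  · have hh := st.siegel_mem hs hQs hx hsx
    have hfix : (siegel Q s x).1 u = u := by
      rw [siegel_apply Q hQs hsx, st.orth l a (Ne.symm hal) s hs u hu, st.orth l a (Ne.symm hal) x hx u hu]
      simp
    have h1 := hw.conj hh
    rw [hfix] at h1
    have h2 : (siegel Q s x).1 w - w ∈ wSub M hQu := sub_mem (mem_wSub.2 h1) (mem_wSub.2 hw)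
    rw [siegel_apply Q hQs hsx] at h2
    rw [show polar Q s w • x - (polar Q x w + Q x * polar Q s w) • s =
      w + polar Q s w • x - (polar Q x w + Q x * polar Q s w) • s - w by abel]
    exact h2

theorem spread_pair {a l : Fin t} (hal : a ≠ l) {u : V} (hu : u ∈ D a) (hu0 : u ≠ 0) (hQu : Q u = 0) {w : V}
    (hw : InW M u w) (hwl : p l w ≠ 0) : st.Spread a l ∧ st.Spread l a := by
  have h1 := st.spread_one hal hu hQu hw hwl
  have hla : st.Spread l a := by
    intro w₁ hw₁ hQw₁ u₁ hu₁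
    rcases eq_or_ne w₁ 0 with rfl | hw0
    · exact st.inW_zero u₁
    have h2 : InW M w₁ (-u) := by
      have h := h1 w₁ hw₁
      refine ⟨by rw [QuadraticMap.polar_neg_right, QuadraticMap.polar_comm, h.1, neg_zero], ?_⟩
      rw [← siegel_swap hQw₁ hQu (by rw [QuadraticMap.polar_comm]; exact h.1)]
      exact h.2
    refine st.spread_one (Ne.symm hal) hw₁ hQw₁ h2 ?_ u₁ hu₁
    rw [map_neg, st.p_self hu]
    exact neg_ne_zero.2 hu0
  refine ⟨fun u₁ hu₁ hQu₁ w₁ hw₁ => ?_, hla⟩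
  rcases eq_or_ne u₁ 0 with rfl | hu10
  · exact st.inW_zero w₁
  obtain ⟨s, hs, hs0, hQs⟩ := exists_singular_in (Q := Q) (W := D l) (by rw [st.dim]; exact st.kge)
  have h := hla s hs hQs u₁ hu₁
  have h2 : InW M u₁ (-s) := by
    refine ⟨by rw [QuadraticMap.polar_neg_right, QuadraticMap.polar_comm, h.1, neg_zero], ?_⟩
    rw [← siegel_swap hQu₁ hQs (by rw [QuadraticMap.polar_comm]; exact h.1)]
    exact h.2
  refine st.spread_one hal hu₁ hQu₁ h2 ?_ w₁ hw₁
  rw [map_neg, st.p_self hs]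
  exact neg_ne_zero.2 hs0

theorem exists_swap {a l : Fin t} (hal : a ≠ l) : ∃ s : quadIsoms Q, s * s = 1 ∧
    (∀ x ∈ D a, s.1 x ∈ D l) ∧ (∀ x ∈ D l, s.1 x ∈ D a) ∧
    ∀ i, i ≠ a → i ≠ l → ∀ x ∈ D i, s.1 x = x := by
  obtain ⟨e, he⟩ := st.iso a l
  obtain ⟨A, hA⟩ : ∃ A : V →ₗ[F] V, ∀ x, A x = (e ⟨p a x, st.mem a x⟩ : D l) :=
    ⟨(D l).subtype ∘ₗ e.toLinearMap ∘ₗ (p a).codRestrict (D a) (st.mem a), fun x => rfl⟩
  obtain ⟨B, hB⟩ : ∃ B : V →ₗ[F] V, ∀ x, B x = (e.symm ⟨p l x, st.mem l x⟩ : D a) :=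
    ⟨(D a).subtype ∘ₗ e.symm.toLinearMap ∘ₗ (p l).codRestrict (D l) (st.mem l), fun x => rfl⟩
  obtain ⟨L, hL⟩ : ∃ L : V →ₗ[F] V, ∀ x, L x = x - p a x - p l x + A x + B x :=
    ⟨LinearMap.id - p a - p l + A + B, fun x => rfl⟩
  have hAm : ∀ x, A x ∈ D l := fun x => by rw [hA]; exact Subtype.coe_prop _
  have hBm : ∀ x, B x ∈ D a := fun x => by rw [hB]; exact Subtype.coe_prop _
  have hA0 : ∀ x, p a x = 0 → A x = 0 := fun x h => by
    rw [hA, show (⟨p a x, st.mem a x⟩ : D a) = 0 from Subtype.ext h, map_zero]; rfl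
  have hB0 : ∀ x, p l x = 0 → B x = 0 := fun x h => by
    rw [hB, show (⟨p l x, st.mem l x⟩ : D l) = 0 from Subtype.ext h, map_zero]; rfl
  have hLa : ∀ x ∈ D a, L x = A x := fun x hx => by
    rw [hL, st.p_self hx, st.p_other (Ne.symm hal) hx, hB0 x (st.p_other (Ne.symm hal) hx)]; abel
  have hLl : ∀ x ∈ D l, L x = B x := fun x hx => by
    rw [hL, st.p_self hx, st.p_other hal hx, hA0 x (st.p_other hal hx)]; abel
  have hAA : ∀ x, B (A x) = p a x := fun x => by
    rw [hB, show (⟨p l (A x), st.mem l _⟩ : D l) = e ⟨p a x, st.mem a x⟩ from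
      Subtype.ext ((st.p_self (hAm x)).trans (hA x)), LinearEquiv.symm_apply_apply]
  have hBB : ∀ x, A (B x) = p l x := fun x => by
    rw [hA, show (⟨p a (B x), st.mem a _⟩ : D a) = e.symm ⟨p l x, st.mem l x⟩ from
      Subtype.ext ((st.p_self (hBm x)).trans (hB x)), LinearEquiv.apply_symm_apply]
  have hrest : ∀ x, p a (x - p a x - p l x) = 0 ∧ p l (x - p a x - p l x) = 0 := fun x => by
    simp only [map_sub, st.p_self (st.mem a x), st.p_self (st.mem l x), st.p_other hal (st.mem l x),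
      st.p_other (Ne.symm hal) (st.mem a x)]
    constructor <;> abel
  have hLL : ∀ x, L (L x) = x := fun x => by
    have h0 : L (x - p a x - p l x) = x - p a x - p l x := by
      rw [hL, (hrest x).1, (hrest x).2, hA0 _ (hrest x).1, hB0 _ (hrest x).2]; abel
    rw [hL x, map_add, map_add, h0, hLl _ (hAm x), hLa _ (hBm x), hAA, hBB]; abel
  have hQ : ∀ x, Q (L x) = Q x := by
    intro x
    obtain ⟨r, hr⟩ : ∃ r, r = x - p a x - p l x := ⟨_, rfl⟩
    have hra : ∀ y ∈ D a, polar Q r y = 0 := fun y hy => by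
      rw [← st.polar_p r hy, hr, (hrest x).1, QuadraticMap.polar_zero_left]
    have hrl : ∀ y ∈ D l, polar Q r y = 0 := fun y hy => by
      rw [← st.polar_p r hy, hr, (hrest x).2, QuadraticMap.polar_zero_left]
    have key : ∀ y ∈ D a, ∀ z ∈ D l, Q (r + y + z) = Q r + Q y + Q z := fun y hy z hz => by
      rw [QuadraticMap.map_add (Q : QuadraticMap F V F) (r + y), QuadraticMap.polar_add_left, hrl z hz,
        st.orth a l hal y hy z hz, QuadraticMap.map_add (Q : QuadraticMap F V F) r, hra y hy]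
      ring
    have e1 : L x = r + B x + A x := by rw [hL, hr]; abel
    have e2 : x = r + p a x + p l x := by rw [hr]; abel
    rw [e1, key _ (hBm x) _ (hAm x)]
    conv_rhs => rw [e2, key _ (st.mem a x) _ (st.mem l x)]
    have e3 : Q (A x) = Q (p a x) := by rw [hA]; exact he _
    have e4 : Q (B x) = Q (p l x) := by
      rw [hB]
      have := he (e.symm ⟨p l x, st.mem l x⟩)
      rw [LinearEquiv.apply_symm_apply] at this
      exact this.symm
    rw [e3, e4]; ring
  refine ⟨⟨LinearEquiv.ofLinearMap L L (LinearMap.ext hLL) (LinearMap.ext hLL), mem_quadIsoms.2 hQ⟩,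
    quadIsoms_ext Q hLL, fun x hx => ?_, fun x hx => ?_, fun i hia hil x hx => ?_⟩
  · show L x ∈ D l; rw [hLa x hx]; exact hAm x
  · show L x ∈ D a; rw [hLl x hx]; exact hBm x
  · show L x = x
    have e1 := st.p_other (Ne.symm hia) hx
    have e2 := st.p_other (Ne.symm hil) hx
    rw [hL, e1, e2, hA0 x e1, hB0 x e2]; abel

theorem exists_cycle {a l j : Fin t} (hal : a ≠ l) (haj : a ≠ j) (hlj : l ≠ j) :
    ∃ g ∈ M, (∀ x ∈ D a, g.1 x ∈ D j) ∧ ∀ x ∈ D l, g.1 x ∈ D a := by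
  obtain ⟨s₁, hs₁, h1a, h1l, h1o⟩ := st.exists_swap hal
  obtain ⟨s₂, hs₂, h2l, h2j, h2o⟩ := st.exists_swap hlj
  have ha : ∀ x ∈ D a, (s₁ * s₂ * (s₁ * s₂)).1 x ∈ D j := fun x hx => by
    show s₁.1 (s₂.1 (s₁.1 (s₂.1 x))) ∈ D j
    rw [h2o a hal haj x hx]
    have h := h2l _ (h1a x hx)
    rw [h1o j (Ne.symm haj) (Ne.symm hlj) _ h]
    exact h
  have hl : ∀ x ∈ D l, (s₁ * s₂ * (s₁ * s₂)).1 x ∈ D a := fun x hx => by
    show s₁.1 (s₂.1 (s₁.1 (s₂.1 x))) ∈ D a
    rw [h1o j (Ne.symm haj) (Ne.symm hlj) _ (h2l x hx)]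
    exact h1l _ (h2j _ (h2l x hx))
  have hj : ∀ x ∈ D j, (s₁ * s₂ * (s₁ * s₂)).1 x ∈ D l := fun x hx => by
    show s₁.1 (s₂.1 (s₁.1 (s₂.1 x))) ∈ D l
    have h := h1l _ (h2j x hx)
    rw [h2o a hal haj _ h]
    exact h1a _ h
  refine ⟨_, st.extend _ ?_ fun i => ?_, ha, hl⟩
  · have e1 : s₁⁻¹ = s₁ := inv_eq_of_mul_eq_one_right hs₁
    have e2 : s₂⁻¹ = s₂ := inv_eq_of_mul_eq_one_right hs₂
    have e : s₁ * s₂ * (s₁ * s₂) = s₁ * s₂ * s₁⁻¹ * s₂⁻¹ := by rw [e1, e2, mul_assoc (s₁ * s₂)]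
    rw [e]
    exact Subgroup.commutator_mem_commutator (Subgroup.mem_top s₁) (Subgroup.mem_top s₂)
  · rcases eq_or_ne i a with rfl | hia
    · exact ⟨j, ha⟩
    rcases eq_or_ne i l with rfl | hil
    · exact ⟨a, hl⟩
    rcases eq_or_ne i j with rfl | hij
    · exact ⟨l, hj⟩
    refine ⟨i, fun x hx => ?_⟩
    show s₁.1 (s₂.1 (s₁.1 (s₂.1 x))) ∈ D i
    rwa [h2o i hil hij x hx, h1o i hia hil x hx, h2o i hil hij x hx, h1o i hia hil x hx]

/-- One Siegel transformation linking two pieces generates. -/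
theorem le_of_link {a l : Fin t} (hal : a ≠ l) {u : V} (hu : u ∈ D a) (hu0 : u ≠ 0) (hQu : Q u = 0) {w : V}
    (hw : InW M u w) (hwl : p l w ≠ 0) : commutator (quadIsoms Q) ≤ M := by
  obtain ⟨hR, -⟩ := st.spread_pair hal hu hu0 hQu hw hwl
  have hall : ∀ j, j ≠ a → st.Spread a j := by
    intro j hja
    rcases eq_or_ne j l with rfl | hjl
    · exact hR
    obtain ⟨g, hg, ga, gl⟩ := st.exists_cycle hal (Ne.symm hja) (Ne.symm hjl)
    obtain ⟨w', hw', hw'0, -⟩ := exists_singular_in (Q := Q) (W := D l) (by rw [st.dim]; exact st.kge)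
    refine (st.spread_pair hja (ga u hu) (fun e => hu0 ?_) (by rw [g.2, hQu])
      ((hR u hu hQu w' hw').conj hg) ?_).2
    · exact g.1.injective (e.trans (map_zero _).symm)
    · rw [st.p_self (gl w' hw')]
      exact fun e => hw'0 (g.1.injective (e.trans (map_zero _).symm))
  have hfull : ∀ x ∈ D a, Q x = 0 → Full M x := by
    intro x hx hQx z hz
    have h : z ∈ wSub M hQx := by
      rw [← st.sum z]
      refine sum_mem fun i _ => ?_
      rcases eq_or_ne i a with rfl | hia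
      · refine st.inW_block hx hQx (st.mem i z) ?_
        rw [QuadraticMap.polar_comm, st.polar_p z hx, QuadraticMap.polar_comm, hz]
      · exact hall i hia x hx hQx _ (st.mem i z)
    exact h.2
  obtain ⟨v, hv, hQv, huv⟩ := (st.nd a).exists_opposite hu hu0 hQu
  exact commutator_le_of_pair st.sep st.five (hfull u hu hQu) (hfull v hv hQv) hQu hQv
    (by rw [huv]; exact one_ne_zero)

end Setting

end CfsgLib.MaxSub.OFrame
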