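import Cfsg.Agent.Lib.MaxSub.OFrameNoLink
import Cfsg.Agent.Lib.MaxSub.OmegaGen
import Cfsg.Agent.Lib.MaxSub.DecompCoord

/-!
Maximality in `Ω` of the stabiliser of an orthogonal decomposition into isometric pieces of dimension at
least three, odd characteristic.
-/

set_option autoImplicit false
set_option linter.unusedSectionVars false

namespace CfsgLib.MaxSub.OFrame

open Cfsg.Geo CfsgLib.Classical CfsgLib.Geom CfsgLib.Geom.OrthSub CfsgLib.MaxSub
open QuadraticMap (polar)

variable {ι : Type} [Fintype ι] [DecidableEq ι] {F : Type*} [Field F] [Fintype F]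

theorem exists_setting (Q : QuadraticForm F (ι → F)) (hsep : ∀ x, (∀ y, polar Q x y = 0) → x = 0)
    (h5 : 5 ≤ Module.finrank F (ι → F)) (h2 : (2 : F) ≠ 0) {t k : ℕ} (hk : 3 ≤ k)
    (hbig : k = 3 → 5 ≤ Nat.card F) {D : Fin t → Submodule F (ι → F)}
    (hD : IsOrthogonalMDecomposition Q k D) : ∃ p : Fin t → (ι → F) →ₗ[F] (ι → F),
      ∀ M : Subgroup (quadIsoms Q), (∀ g ∈ commutator (quadIsoms Q), Stab D g → g ∈ M) → Setting Q D p k M := by
  classical
  obtain ⟨ψ, hψ⟩ := Decomp.exists_coord hD.decomp.decomp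
  refine ⟨fun i => ψ.symm.toLinearMap ∘ₗ
    (LinearMap.single F (fun _ : Fin t => Fin k → F) i ∘ₗ LinearMap.proj i) ∘ₗ ψ.toLinearMap,
    fun M hM => ⟨hsep, h5, h2, hk, hbig, hD.decomp.decomp.finrank_eq,
      fun i j hij x hx y hy => hD.decomp.orthogonal i j hij x hx y hy, fun i x hx h => ?_,
      fun i x => Decomp.single_of_coord ψ hψ i _, fun x => ?_, fun i j => ?_, hM⟩⟩
  · by_contra hne
    obtain ⟨-, y, hy, hxy⟩ := hD.decomp.nondegenerate i x hx hne
    exact hxy (h y hy)
  · show ∑ i, ψ.symm (Pi.single i (ψ x i)) = x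
    rw [← map_sum, Finset.univ_sum_single, ψ.symm_apply_apply]
  · exact hD.isometric i j

theorem mem_stab_of_stab {t k : ℕ} {Q : QuadraticForm F (ι → F)} {D : Fin t → Submodule F (ι → F)}
    (hD : IsMDecomposition k D) {g : quadIsoms Q} (hg : Stab D g) : isomsToGL Q g ∈ decompositionStabilizer D := by
  choose π hπ using hg
  have hinj : Function.Injective (Matrix.toLin' (isomsToGL Q g : Matrix ι ι F)) := fun u v h => by
    simp only [Matrix.toLin'_apply, isomsToGL_mulVec] at h
    exact g.1.injective h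
  have heq : ∀ i, (D i).map (Matrix.toLin' (isomsToGL Q g : Matrix ι ι F)) = D (π i) := fun i =>
    Submodule.eq_of_le_of_finrank_eq (by
      rintro _ ⟨x, hx, rfl⟩
      rw [Matrix.toLin'_apply, isomsToGL_mulVec]
      exact hπ i x hx) (by
      rw [← (Submodule.equivMapOfInjective _ hinj (D i)).finrank_eq, hD.finrank_eq, hD.finrank_eq])
  have hπi : Function.Injective π := fun a b h => by
    by_contra hab
    have e1 := Submodule.map_injective_of_injective hinj ((heq a).trans (h ▸ (heq b).symm))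
    have e2 := hD.indep.pairwiseDisjoint hab
    simp only [Function.onFun, e1, disjoint_self] at e2
    have h1 := hD.finrank_eq b
    have h0 := hD.pos
    rw [e2, finrank_bot] at h1
    omega
  exact ⟨Equiv.ofBijective π ⟨hπi, Finite.injective_iff_surjective.1 hπi⟩, heq⟩

theorem stab_of_mem_stab {t : ℕ} {Q : QuadraticForm F (ι → F)} {D : Fin t → Submodule F (ι → F)}
    {g : quadIsoms Q} (hg : isomsToGL Q g ∈ decompositionStabilizer D) : Stab D g := by
  obtain ⟨σ, hσ⟩ := hg
  refine fun i => ⟨σ i, fun x hx => ?_⟩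
  rw [← hσ i]
  exact ⟨x, hx, by rw [Matrix.toLin'_apply, isomsToGL_mulVec]⟩

/-- The stabiliser of an orthogonal isometric decomposition is maximal in `Ω`: pieces of dimension at least three,
odd characteristic. -/
theorem isMaximalIn_decomposition (Q : QuadraticForm F (ι → F)) {f : (ι → F) → F} (hf : ⇑Q = f)
    (hsep : ∀ x, (∀ y, polar Q x y = 0) → x = 0) (h5 : 5 ≤ Module.finrank F (ι → F)) (h2 : (2 : F) ≠ 0)
    {t k : ℕ} (hk : 3 ≤ k) (hbig : k = 3 → 5 ≤ Nat.card F) {D : Fin t → Submodule F (ι → F)}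
    (hD : IsOrthogonalMDecomposition f k D) :
    Cfsg.Geo.IsMaximalIn (omegaGL f) (decompositionStabilizer D ⊓ omegaGL f) := by
  subst hf
  obtain ⟨p, hp⟩ := exists_setting Q hsep h5 h2 hk hbig hD
  refine omega_isMaximalIn_of Q rfl (decompositionStabilizer D) ?_ fun M hM g hg _ hgH =>
    (hp M fun h hh hs => hM h hh (mem_stab_of_stab hD.decomp.decomp hs)).dichotomy hg
      fun hs => hgH (mem_stab_of_stab hD.decomp.decomp hs)
  have st := hp ⊤ fun _ _ _ => trivial
  have ht := hD.decomp.decomp.two_le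
  obtain ⟨a, ha⟩ : ∃ a : Fin t, a = ⟨0, by omega⟩ := ⟨_, rfl⟩
  obtain ⟨b, hb⟩ : ∃ b : Fin t, b = ⟨1, by omega⟩ := ⟨_, rfl⟩
  have hab : a ≠ b := by rw [ha, hb]; simp
  obtain ⟨u, hu, hu0, hQu⟩ := exists_singular_in (Q := Q) (W := D a) (by rw [st.dim]; exact hk)
  obtain ⟨s, hs, hs0, hQs⟩ := exists_singular_in (Q := Q) (W := D b) (by rw [st.dim]; exact hk)
  obtain ⟨w, hw, -, hQw⟩ := (st.nd b).exists_aniso_perp (by rw [st.dim]; exact hk) hs hs0
  obtain ⟨z, hz, huz⟩ := (st.nd a).exists_partner hu hu0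
  have huw : polar Q u w = 0 := st.orth a b hab u hu w hw
  refine ⟨siegel Q u w, siegel_mem_commutator hsep h5 u w, fun hH => ?_⟩
  obtain ⟨j, hj⟩ := stab_of_mem_stab hH a
  have h1 := hj z hz
  rw [siegel_apply Q hQu huw, huz, one_smul, mul_one, QuadraticMap.polar_comm Q w z,
    st.orth a b hab z hz w hw, zero_add] at h1
  rcases eq_or_ne b j with rfl | hbj
  · have h2' : p a (z + w - Q w • u) = 0 := st.p_other hab h1
    rw [map_sub, map_add, map_smul, st.p_self hz, st.p_self hu, st.p_other hab hw, add_zero, sub_eq_zero] at h2'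
    have h3 := huz
    rw [h2', QuadraticMap.polar_smul_right, polar_self_of_singular Q hQu, smul_zero] at h3
    exact zero_ne_one h3
  · have h2' : p b (z + w - Q w • u) = 0 := st.p_other hbj h1
    rw [map_sub, map_add, map_smul, st.p_other (Ne.symm hab) hz, st.p_other (Ne.symm hab) hu, st.p_self hw,
      zero_add, smul_zero, sub_zero] at h2'
    exact hQw (by rw [h2', QuadraticMap.map_zero])

end CfsgLib.MaxSub.OFrame
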