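import Cfsg.Agent.Lib.MaxSub.OFrameCoord
import Cfsg.Agent.Lib.Geom.NondegMax

/-!
Overgroups of the stabiliser of an orthogonal decomposition into four-dimensional pieces of Witt index one,
characteristic two.
-/

set_option autoImplicit false
set_option linter.unusedSectionVars false

namespace CfsgLib.MaxSub.OFrame

open CfsgLib.Classical CfsgLib.Geom CfsgLib.Geom.OrthSub CfsgLib.MaxSub
open QuadraticMap (polar)

variable {F V : Type*} [Field F] [AddCommGroup V] [Module F V] {Q : QuadraticForm F V} {t : ℕ}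

/-- an overgroup of the stabiliser of a decomposition into four-spaces of Witt index one, characteristic two -/
structure Four (Q : QuadraticForm F V) (D : Fin t → Submodule F V) (p : Fin t → V →ₗ[F] V)
    (M : Subgroup (quadIsoms Q)) : Prop where
  sep : ∀ x, (∀ y, polar Q x y = 0) → x = 0
  five : 5 ≤ Module.finrank F V
  two : (2 : F) = 0
  dim : ∀ i, Module.finrank F (D i) = 4
  orth : ∀ i j, i ≠ j → ∀ x ∈ D i, ∀ y ∈ D j, polar Q x y = 0
  nd : ∀ i, NdOn Q (D i)
  mem : ∀ i x, p i x ∈ D i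
  sum : ∀ x, ∑ i, p i x = x
  iso : ∀ i j, ∃ e : D i ≃ₗ[F] D j, ∀ x : D i, Q ((e x : D j) : V) = Q (x : V)
  witt : ∀ i, ∀ x ∈ D i, ∀ y ∈ D i, Q x = 0 → Q y = 0 → polar Q x y = 0 → x ≠ 0 → y ∈ F ∙ x
  extend : ∀ g ∈ commutator (quadIsoms Q), Stab D g → g ∈ M

namespace Four

variable [FiniteDimensional F V] [Finite F] {D : Fin t → Submodule F V} {p : Fin t → V →ₗ[F] V}
  {M : Subgroup (quadIsoms Q)} (st : Four Q D p M)
include st

theorem polar_p {i : Fin t} (x : V) {y : V} (hy : y ∈ D i) : polar Q (p i x) y = polar Q x y := by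
  conv_rhs => rw [← st.sum x]
  have h : polar Q (∑ j, p j x) y = ∑ j, polar Q (p j x) y := by
    show QuadraticMap.polarBilin Q (∑ j, p j x) y = _
    rw [map_sum, LinearMap.sum_apply]; rfl
  rw [h, Finset.sum_eq_single i (fun j _ hj => st.orth j i hj _ (st.mem j x) _ hy) (by simp)]

theorem p_self {i : Fin t} {x : V} (hx : x ∈ D i) : p i x = x := by
  refine sub_eq_zero.1 (st.nd i _ (sub_mem (st.mem i x) hx) fun y hy => ?_)
  rw [QuadraticMap.polar_sub_left, st.polar_p x hy, sub_self]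

theorem p_other {i j : Fin t} (hij : j ≠ i) {x : V} (hx : x ∈ D i) : p j x = 0 :=
  st.nd j _ (st.mem j x) fun y hy => by rw [st.polar_p x hy]; exact st.orth i j (Ne.symm hij) x hx y hy

theorem disjoint {i j : Fin t} (hij : i ≠ j) {x : V} (hi : x ∈ D i) (hj : x ∈ D j) : x = 0 := by
  rw [← st.p_self hi]; exact st.p_other hij hj

theorem block_eq {i j : Fin t} {x : V} (hi : x ∈ D i) (hj : x ∈ D j) (hx : x ≠ 0) : i = j :=
  by_contra fun h => hx (st.disjoint h hi hj)

theorem siegel_stab {i : Fin t} {u w : V} (hu : u ∈ D i) (hQu : Q u = 0) (hw : w ∈ D i)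
    (huw : polar Q u w = 0) : Stab D (siegel Q u w) := fun j => ⟨j, fun z hz => by
  rw [siegel_apply Q hQu huw]
  rcases eq_or_ne i j with rfl | hij
  · exact sub_mem (add_mem hz ((D i).smul_mem _ hw)) ((D i).smul_mem _ hu)
  · rw [st.orth i j hij u hu z hz, st.orth i j hij w hw z hz]
    simpa using hz⟩

theorem siegel_mem {i : Fin t} {u w : V} (hu : u ∈ D i) (hQu : Q u = 0) (hw : w ∈ D i)
    (huw : polar Q u w = 0) : siegel Q u w ∈ M :=
  st.extend _ (siegel_mem_commutator st.sep st.five u w) (st.siegel_stab hu hQu hw huw)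

theorem inW_block {i : Fin t} {u w : V} (hu : u ∈ D i) (hQu : Q u = 0) (hw : w ∈ D i)
    (huw : polar Q u w = 0) : InW M u w := ⟨huw, st.siegel_mem hu hQu hw huw⟩

theorem inW_zero (w : V) : InW M 0 w := by
  refine ⟨QuadraticMap.polar_zero_left Q w, ?_⟩
  have h : siegel Q 0 w = 1 := quadIsoms_ext Q fun z => by
    rw [siegel_apply Q (map_zero Q) (QuadraticMap.polar_zero_left Q w)]; simp
  rw [h]; exact one_mem M

theorem exists_swap {a l : Fin t} (hal : a ≠ l) : ∃ s : quadIsoms Q, s * s = 1 ∧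
    (∀ x ∈ D a, s.1 x ∈ D l) ∧ (∀ x ∈ D l, s.1 x ∈ D a) ∧
    ∀ i, i ≠ a → i ≠ l → ∀ x ∈ D i, s.1 x = x := by
  obtain ⟨e, he⟩ := st.iso a l
  obtain ⟨A, hA⟩ : ∃ A : V →ₗ[F] V, ∀ x, A x = (e ⟨p a x, st.mem a x⟩ : D l) :=
    ⟨(D l).subtype ∘ₗ e.toLinearMap ∘ₗ (p a).codRestrict (D a) (st.mem a), fun x => rfl⟩
  obtain ⟨B, hB⟩ : ∃ B : V →ₗ[F] V, ∀ x, B x = (e.symm ⟨p l x, st.mem l x⟩ : D a) :=
    ⟨(D a).subtype ∘ₗ e.symm.toLinearMap ∘ₗ (p l).codRestrict (D l) (st.mem l), fun x => rfl⟩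
  obtain ⟨L, hL⟩ : ∃ L : V →ₗ[F] V, ∀ x, L x = x - p a x - p l x + A x + B x :=
    ⟨LinearMap.id - p a - p l + A + B, fun x => rfl⟩
  have hAm : ∀ x, A x ∈ D l := fun x => by rw [hA]; exact Subtype.coe_prop _
  have hBm : ∀ x, B x ∈ D a := fun x => by rw [hB]; exact Subtype.coe_prop _
  have hA0 : ∀ x, p a x = 0 → A x = 0 := fun x h => by
    rw [hA, show (⟨p a x, st.mem a x⟩ : D a) = 0 from Subtype.ext h, map_zero]; rfl
  have hB0 : ∀ x, p l x = 0 → B x = 0 := fun x h => by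
    rw [hB, show (⟨p l x, st.mem l x⟩ : D l) = 0 from Subtype.ext h, map_zero]; rfl
  have hLa : ∀ x ∈ D a, L x = A x := fun x hx => by
    rw [hL, st.p_self hx, st.p_other (Ne.symm hal) hx, hB0 x (st.p_other (Ne.symm hal) hx)]; abel
  have hLl : ∀ x ∈ D l, L x = B x := fun x hx => by
    rw [hL, st.p_self hx, st.p_other hal hx, hA0 x (st.p_other hal hx)]; abel
  have hAA : ∀ x, B (A x) = p a x := fun x => by
    rw [hB, show (⟨p l (A x), st.mem l _⟩ : D l) = e ⟨p a x, st.mem a x⟩ from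
      Subtype.ext ((st.p_self (hAm x)).trans (hA x)), LinearEquiv.symm_apply_apply]
  have hBB : ∀ x, A (B x) = p l x := fun x => by
    rw [hA, show (⟨p a (B x), st.mem a _⟩ : D a) = e.symm ⟨p l x, st.mem l x⟩ from
      Subtype.ext ((st.p_self (hBm x)).trans (hB x)), LinearEquiv.apply_symm_apply]
  have hrest : ∀ x, p a (x - p a x - p l x) = 0 ∧ p l (x - p a x - p l x) = 0 := fun x => by
    simp only [map_sub, st.p_self (st.mem a x), st.p_self (st.mem l x), st.p_other hal (st.mem l x),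
      st.p_other (Ne.symm hal) (st.mem a x)]
    constructor <;> abel
  have hLL : ∀ x, L (L x) = x := fun x => by
    have h0 : L (x - p a x - p l x) = x - p a x - p l x := by
      rw [hL, (hrest x).1, (hrest x).2, hA0 _ (hrest x).1, hB0 _ (hrest x).2]; abel
    rw [hL x, map_add, map_add, h0, hLl _ (hAm x), hLa _ (hBm x), hAA, hBB]; abel
  have hQ : ∀ x, Q (L x) = Q x := by
    intro x
    obtain ⟨r, hr⟩ : ∃ r, r = x - p a x - p l x := ⟨_, rfl⟩
    have hra : ∀ y ∈ D a, polar Q r y = 0 := fun y hy => by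
      rw [← st.polar_p r hy, hr, (hrest x).1, QuadraticMap.polar_zero_left]
    have hrl : ∀ y ∈ D l, polar Q r y = 0 := fun y hy => by
      rw [← st.polar_p r hy, hr, (hrest x).2, QuadraticMap.polar_zero_left]
    have key : ∀ y ∈ D a, ∀ z ∈ D l, Q (r + y + z) = Q r + Q y + Q z := fun y hy z hz => by
      rw [QuadraticMap.map_add (Q : QuadraticMap F V F) (r + y), QuadraticMap.polar_add_left, hrl z hz,
        st.orth a l hal y hy z hz, QuadraticMap.map_add (Q : QuadraticMap F V F) r, hra y hy]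
      ring
    have e1 : L x = r + B x + A x := by rw [hL, hr]; abel
    have e2 : x = r + p a x + p l x := by rw [hr]; abel
    rw [e1, key _ (hBm x) _ (hAm x)]
    conv_rhs => rw [e2, key _ (st.mem a x) _ (st.mem l x)]
    have e3 : Q (A x) = Q (p a x) := by rw [hA]; exact he _
    have e4 : Q (B x) = Q (p l x) := by
      rw [hB]
      have := he (e.symm ⟨p l x, st.mem l x⟩)
      rw [LinearEquiv.apply_symm_apply] at this
      exact this.symm
    rw [e3, e4]; ring
  refine ⟨⟨LinearEquiv.ofLinearMap L L (LinearMap.ext hLL) (LinearMap.ext hLL), mem_quadIsoms.2 hQ⟩,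
    quadIsoms_ext Q hLL, fun x hx => ?_, fun x hx => ?_, fun i hia hil x hx => ?_⟩
  · show L x ∈ D l; rw [hLa x hx]; exact hAm x
  · show L x ∈ D a; rw [hLl x hx]; exact hBm x
  · show L x = x
    have e1 := st.p_other (Ne.symm hia) hx
    have e2 := st.p_other (Ne.symm hil) hx
    rw [hL, e1, e2, hA0 x e1, hB0 x e2]; abel

theorem exists_cycle {a l j : Fin t} (hal : a ≠ l) (haj : a ≠ j) (hlj : l ≠ j) :
    ∃ g ∈ M, (∀ x ∈ D a, g.1 x ∈ D j) ∧ ∀ x ∈ D l, g.1 x ∈ D a := by
  obtain ⟨s₁, hs₁, h1a, h1l, h1o⟩ := st.exists_swap hal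
  obtain ⟨s₂, hs₂, h2l, h2j, h2o⟩ := st.exists_swap hlj
  have ha : ∀ x ∈ D a, (s₁ * s₂ * (s₁ * s₂)).1 x ∈ D j := fun x hx => by
    show s₁.1 (s₂.1 (s₁.1 (s₂.1 x))) ∈ D j
    rw [h2o a hal haj x hx]
    have h := h2l _ (h1a x hx)
    rw [h1o j (Ne.symm haj) (Ne.symm hlj) _ h]
    exact h
  have hl : ∀ x ∈ D l, (s₁ * s₂ * (s₁ * s₂)).1 x ∈ D a := fun x hx => by
    show s₁.1 (s₂.1 (s₁.1 (s₂.1 x))) ∈ D a
    rw [h1o j (Ne.symm haj) (Ne.symm hlj) _ (h2l x hx)]
    exact h1l _ (h2j _ (h2l x hx))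
  have hj : ∀ x ∈ D j, (s₁ * s₂ * (s₁ * s₂)).1 x ∈ D l := fun x hx => by
    show s₁.1 (s₂.1 (s₁.1 (s₂.1 x))) ∈ D l
    have h := h1l _ (h2j x hx)
    rw [h2o a hal haj _ h]
    exact h1a _ h
  refine ⟨_, st.extend _ ?_ fun i => ?_, ha, hl⟩
  · have e1 : s₁⁻¹ = s₁ := inv_eq_of_mul_eq_one_right hs₁
    have e2 : s₂⁻¹ = s₂ := inv_eq_of_mul_eq_one_right hs₂
    have e : s₁ * s₂ * (s₁ * s₂) = s₁ * s₂ * s₁⁻¹ * s₂⁻¹ := by rw [e1, e2, mul_assoc (s₁ * s₂)]
    rw [e]
    exact Subgroup.commutator_mem_commutator (Subgroup.mem_top s₁) (Subgroup.mem_top s₂)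
  · rcases eq_or_ne i a with rfl | hia
    · exact ⟨j, ha⟩
    rcases eq_or_ne i l with rfl | hil
    · exact ⟨a, hl⟩
    rcases eq_or_ne i j with rfl | hij
    · exact ⟨l, hj⟩
    refine ⟨i, fun x hx => ?_⟩
    show s₁.1 (s₂.1 (s₁.1 (s₂.1 x))) ∈ D i
    rwa [h2o i hil hij x hx, h1o i hia hil x hx, h2o i hil hij x hx, h1o i hia hil x hx]

theorem polar_p' {i : Fin t} {y : V} (hy : y ∈ D i) (x : V) : polar Q y (p i x) = polar Q y x := by
  rw [QuadraticMap.polar_comm, st.polar_p x hy, QuadraticMap.polar_comm]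

theorem mem_of_comp {b : Fin t} {x : V} (h : ∀ l, b ≠ l → p l x = 0) : x ∈ D b := by
  rw [← st.sum x, Finset.sum_eq_single b (fun l _ hl => h l (Ne.symm hl)) (by simp)]
  exact st.mem b x

theorem keep (hNL : NoLink M D p) {T : quadIsoms Q} (hT : T ∈ M) {a b : Fin t} {u x : V} (hu : u ∈ D a)
    (hu0 : u ≠ 0) (hQu : Q u = 0) (hTu : T.1 u ∈ D b) (hx : x ∈ D a) (hux : polar Q u x = 0) :
    T.1 x ∈ D b :=
  st.mem_of_comp fun l hl => hNL b l hl _ hTu (fun e => hu0 (T.1.injective (e.trans (map_zero _).symm)))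
    (by rw [T.2, hQu]) _ ((st.inW_block hu hQu hx hux).conj hT)

theorem hneg (x : V) : -x = x := by
  rw [← neg_one_smul F x, show (-1 : F) = 1 by linear_combination -st.two, one_smul]

theorem pself (x : V) : polar Q x x = 0 := by rw [polar_self_two, st.two, zero_mul]

theorem three_le (i : Fin t) : 3 ≤ Module.finrank F (D i) := by rw [st.dim]; norm_num

/-- a non-zero singular vector with a given product non-zero -/
theorem exists_sing_nonperp {l : Fin t} {w : V} (hw : p l w ≠ 0) :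
    ∃ s ∈ D l, Q s = 0 ∧ polar Q s w ≠ 0 := by
  by_contra hall
  push Not at hall
  obtain ⟨s, hs, hs0, hQs⟩ := exists_singular_in (Q := Q) (W := D l) (st.three_le l)
  obtain ⟨z, hz, hQz, hsz⟩ := (st.nd l).exists_opposite hs hs0 hQs
  refine hw (st.nd l _ (st.mem l w) fun e he => ?_)
  rw [st.polar_p w he, QuadraticMap.polar_comm]
  set a := e - polar Q s e • z
  set k := Q a + polar Q z a
  have ha : a ∈ D l := sub_mem he ((D l).smul_mem _ hz)
  have hsa : polar Q s a = 0 := by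
    rw [QuadraticMap.polar_sub_right, QuadraticMap.polar_smul_right, hsz, smul_eq_mul, mul_one, sub_self]
  have hzk : Q (z + a + k • s) = 0 := by
    rw [quad_map_add_smul, hQs, QuadraticMap.map_add (Q : QuadraticMap F V F), hQz, QuadraticMap.polar_add_left,
      QuadraticMap.polar_comm _ z s, hsz, QuadraticMap.polar_comm _ a s, hsa]
    linear_combination k * st.two
  have h1 := hall _ (add_mem (add_mem hz ha) ((D l).smul_mem _ hs)) hzk
  rw [QuadraticMap.polar_add_left, QuadraticMap.polar_add_left, QuadraticMap.polar_smul_left, hall z hz hQz,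
    hall s hs hQs, smul_zero, add_zero, zero_add, QuadraticMap.polar_sub_left, QuadraticMap.polar_smul_left,
    hall z hz hQz, smul_zero, sub_zero] at h1
  exact h1

/-- two vectors orthogonal to a singular one with product one -/
theorem exists_perp_two {l : Fin t} {s : V} (hs : s ∈ D l) (hs0 : s ≠ 0) (hQs : Q s = 0) :
    ∃ z₁ ∈ D l, ∃ z₂ ∈ D l, polar Q s z₁ = 0 ∧ polar Q s z₂ = 0 ∧ polar Q z₁ z₂ = 1 := by
  obtain ⟨z, hz, hQz, hsz⟩ := (st.nd l).exists_opposite hs hs0 hQs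
  obtain ⟨e, ⟨⟨he, hes⟩, hez⟩, he0⟩ := (D l ⊓ LinearMap.ker (pLin Q s) ⊓
      LinearMap.ker (pLin Q z)).exists_mem_ne_zero_of_ne_bot (fun h => by
    have d1 := finrank_le_inf_ker (D l) (pLin Q s)
    have d2 := finrank_le_inf_ker (D l ⊓ LinearMap.ker (pLin Q s)) (pLin Q z)
    rw [h, finrank_bot] at d2
    rw [st.dim] at d1
    omega)
  have e1 : polar Q s e = 0 := by rw [QuadraticMap.polar_comm]; exact hes
  have e2 : polar Q z e = 0 := by rw [QuadraticMap.polar_comm]; exact hez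
  obtain ⟨f, hf, hef⟩ := (st.nd l).exists_partner he he0
  refine ⟨e, he, f - polar Q s f • z, sub_mem hf ((D l).smul_mem _ hz), e1, ?_, ?_⟩
  · rw [QuadraticMap.polar_sub_right, QuadraticMap.polar_smul_right, hsz, smul_eq_mul, mul_one, sub_self]
  · rw [QuadraticMap.polar_sub_right, QuadraticMap.polar_smul_right, QuadraticMap.polar_comm _ e z, e2, hef,
      smul_zero, sub_zero]

/-- the differences of Siegel transformations at a singular point contain its line -/
theorem line_mem {l : Fin t} {s r : V} (hs : s ∈ D l) (hs0 : s ≠ 0) (hQs : Q s = 0) (hσ : polar Q s r ≠ 0)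
    (A : AddSubgroup V)
    (hA : ∀ z ∈ D l, polar Q s z = 0 → polar Q s r • z - (polar Q z r + Q z * polar Q s r) • s ∈ A) (b : F) :
    b • s ∈ A := by
  obtain ⟨z₁, h1, z₂, h2, e1, e2, e12⟩ := st.exists_perp_two hs hs0 hQs
  set c := b / polar Q s r
  have h := sub_mem (add_mem (hA (c • z₁) ((D l).smul_mem _ h1) (by
      rw [QuadraticMap.polar_smul_right, e1, smul_zero]))
    (hA z₂ h2 e2)) (hA (c • z₁ + z₂) (add_mem ((D l).smul_mem _ h1) h2) (by
      rw [QuadraticMap.polar_add_right, QuadraticMap.polar_smul_right, e1, e2, smul_zero, add_zero]))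
  convert h using 1
  rw [QuadraticMap.map_add (Q : QuadraticMap F V F), QuadraticMap.polar_add_left, QuadraticMap.polar_smul_left,
    QuadraticMap.polar_smul_left, e12, smul_eq_mul, smul_eq_mul]
  have e : b = c * 1 * polar Q s r := by rw [mul_one, div_mul_cancel₀ _ hσ]
  conv_lhs => rw [e]
  module

/-- all of `D l` is in the group of every singular point of `D a` -/
def Spread (_ : Four Q D p M) (a l : Fin t) : Prop :=
  ∀ u ∈ D a, Q u = 0 → ∀ w ∈ D l, InW M u w

theorem spread_one {a l : Fin t} (hal : a ≠ l) {u : V} (hu : u ∈ D a) (hQu : Q u = 0) {w : V}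
    (hw : InW M u w) (hwl : p l w ≠ 0) : ∀ w' ∈ D l, InW M u w' := by
  have hA : ∀ s ∈ D l, Q s = 0 → ∀ x ∈ D l, polar Q s x = 0 →
      polar Q s w • x - (polar Q x w + Q x * polar Q s w) • s ∈ wSub M hQu := by
    intro s hs hQs x hx hsx
    have hfix : (siegel Q s x).1 u = u := by
      rw [siegel_apply Q hQs hsx, st.orth l a (Ne.symm hal) s hs u hu, st.orth l a (Ne.symm hal) x hx u hu]
      simp
    have h1 := hw.conj (st.siegel_mem hs hQs hx hsx)
    rw [hfix] at h1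
    have h2 : (siegel Q s x).1 w - w ∈ wSub M hQu := sub_mem (mem_wSub.2 h1) (mem_wSub.2 hw)
    rw [siegel_apply Q hQs hsx] at h2
    rw [show polar Q s w • x - (polar Q x w + Q x * polar Q s w) • s =
      w + polar Q s w • x - (polar Q x w + Q x * polar Q s w) • s - w by abel]
    exact h2
  have hhalf : ∀ s ∈ D l, Q s = 0 → polar Q s w ≠ 0 → ∀ x ∈ D l, polar Q s x = 0 → x ∈ wSub M hQu := by
    intro s hs hQs hσ x hx hsx
    have hs0 : s ≠ 0 := fun e => hσ (by rw [e, QuadraticMap.polar_zero_left])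
    have h := hA s hs hQs ((polar Q s w)⁻¹ • x) ((D l).smul_mem _ hx) (by
      rw [QuadraticMap.polar_smul_right, hsx, smul_zero])
    rw [smul_inv_smul₀ hσ] at h
    have h2 := add_mem h (st.line_mem hs hs0 hQs hσ _ (fun z hz hsz => hA s hs hQs z hz hsz)
      (polar Q ((polar Q s w)⁻¹ • x) w + Q ((polar Q s w)⁻¹ • x) * polar Q s w))
    rwa [sub_add_cancel] at h2
  obtain ⟨s, hs, hQs, hσ⟩ := st.exists_sing_nonperp hwl
  have hs0 : s ≠ 0 := fun e => hσ (by rw [e, QuadraticMap.polar_zero_left])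
  obtain ⟨s', hs', hQs', hσ', hss'⟩ : ∃ s' ∈ D l, Q s' = 0 ∧ polar Q s' w ≠ 0 ∧ polar Q s s' ≠ 0 := by
    by_contra hno
    push Not at hno
    obtain ⟨z, hz, hQz, hsz⟩ := (st.nd l).exists_opposite hs hs0 hQs
    have key : ∀ a ∈ D l, polar Q s a = 0 →
        polar Q a w + (Q a + polar Q z a) * polar Q s w = 0 := by
      intro a ha hsa
      have hn : ∀ v ∈ D l, Q v = 0 → polar Q s v = 1 → polar Q v w = 0 := fun v hv hQv hsv => by
        by_contra hvw
        exact one_ne_zero (hsv.symm.trans (hno v hv hQv hvw))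
      have hz0 := hn z hz hQz hsz
      have hsing : Q (z + a + (Q a + polar Q z a) • s) = 0 := by
        rw [quad_map_add_smul, hQs, QuadraticMap.map_add (Q : QuadraticMap F V F), hQz,
          QuadraticMap.polar_add_left, QuadraticMap.polar_comm _ z s, hsz, QuadraticMap.polar_comm _ a s, hsa]
        linear_combination (Q a + polar Q z a) * st.two
      have := hn _ (add_mem (add_mem hz ha) ((D l).smul_mem _ hs)) hsing (by
        rw [QuadraticMap.polar_add_right, QuadraticMap.polar_add_right, QuadraticMap.polar_smul_right, hsz, hsa,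
          polar_self_of_singular Q hQs, smul_zero, add_zero, add_zero])
      rw [QuadraticMap.polar_add_left, QuadraticMap.polar_add_left, QuadraticMap.polar_smul_left, hz0,
        smul_eq_mul, zero_add] at this
      exact this
    obtain ⟨z₁, h1, z₂, h2, e1, e2, e12⟩ := st.exists_perp_two hs hs0 hQs
    have k3 := key (z₁ + z₂) (add_mem h1 h2) (by rw [QuadraticMap.polar_add_right, e1, e2, add_zero])
    rw [QuadraticMap.map_add (Q : QuadraticMap F V F), e12, QuadraticMap.polar_add_left,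
      QuadraticMap.polar_add_right] at k3
    exact hσ (by linear_combination k3 - key z₁ h1 e1 - key z₂ h2 e2)
  intro e he
  refine (mem_wSub (hu := hQu)).1 ?_
  obtain ⟨z, hz, hQz, hsz⟩ := (st.nd l).exists_opposite hs hs0 hQs
  -- a vector orthogonal to `s` pairing with `s'`
  obtain ⟨x, hx, hsx, hs'x⟩ : ∃ x ∈ D l, polar Q s x = 0 ∧ polar Q s' x ≠ 0 := by
    refine ⟨s, hs, polar_self_of_singular Q hQs, ?_⟩
    rw [QuadraticMap.polar_comm]
    exact hss'
  set c := polar Q s' e / polar Q s' x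
  have h1 := hhalf s' hs' hQs' hσ' (e - c • x) (sub_mem he ((D l).smul_mem _ hx)) (by
    rw [QuadraticMap.polar_sub_right, QuadraticMap.polar_smul_right, smul_eq_mul, div_mul_cancel₀ _ hs'x, sub_self])
  have h2 := hhalf s hs hQs hσ (c • x) ((D l).smul_mem _ hx) (by
    rw [QuadraticMap.polar_smul_right, hsx, smul_zero])
  simpa using add_mem h1 h2

theorem spread_pair {a l : Fin t} (hal : a ≠ l) {u : V} (hu : u ∈ D a) (hu0 : u ≠ 0) (hQu : Q u = 0) {w : V}
    (hw : InW M u w) (hwl : p l w ≠ 0) : st.Spread a l ∧ st.Spread l a := by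
  have h1 := st.spread_one hal hu hQu hw hwl
  have hla : st.Spread l a := by
    intro w₁ hw₁ hQw₁ u₁ hu₁
    rcases eq_or_ne w₁ 0 with rfl | hw0
    · exact st.inW_zero u₁
    have h2 : InW M w₁ (-u) := by
      have h := h1 w₁ hw₁
      refine ⟨by rw [QuadraticMap.polar_neg_right, QuadraticMap.polar_comm, h.1, neg_zero], ?_⟩
      rw [← siegel_swap hQw₁ hQu (by rw [QuadraticMap.polar_comm]; exact h.1)]
      exact h.2
    refine st.spread_one (Ne.symm hal) hw₁ hQw₁ h2 ?_ u₁ hu₁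
    rw [map_neg, st.p_self hu]
    exact neg_ne_zero.2 hu0
  refine ⟨fun u₁ hu₁ hQu₁ w₁ hw₁ => ?_, hla⟩
  rcases eq_or_ne u₁ 0 with rfl | hu10
  · exact st.inW_zero w₁
  obtain ⟨s, hs, hs0, hQs⟩ := exists_singular_in (Q := Q) (W := D l) (st.three_le l)
  have h := hla s hs hQs u₁ hu₁
  have h2 : InW M u₁ (-s) := by
    refine ⟨by rw [QuadraticMap.polar_neg_right, QuadraticMap.polar_comm, h.1, neg_zero], ?_⟩
    rw [← siegel_swap hQu₁ hQs (by rw [QuadraticMap.polar_comm]; exact h.1)]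
    exact h.2
  refine st.spread_one hal hu₁ hQu₁ h2 ?_ w₁ hw₁
  rw [map_neg, st.p_self hs]
  exact neg_ne_zero.2 hs0

/-- One Siegel transformation linking two pieces generates. -/
theorem le_of_link {a l : Fin t} (hal : a ≠ l) {u : V} (hu : u ∈ D a) (hu0 : u ≠ 0) (hQu : Q u = 0) {w : V}
    (hw : InW M u w) (hwl : p l w ≠ 0) : commutator (quadIsoms Q) ≤ M := by
  obtain ⟨hR, -⟩ := st.spread_pair hal hu hu0 hQu hw hwl
  have hall : ∀ j, j ≠ a → st.Spread a j := by
    intro j hja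
    rcases eq_or_ne j l with rfl | hjl
    · exact hR
    obtain ⟨g, hg, ga, gl⟩ := st.exists_cycle hal (Ne.symm hja) (Ne.symm hjl)
    obtain ⟨w', hw', hw'0, -⟩ := exists_singular_in (Q := Q) (W := D l) (st.three_le l)
    refine (st.spread_pair hja (ga u hu) (fun e => hu0 ?_) (by rw [g.2, hQu])
      ((hR u hu hQu w' hw').conj hg) ?_).2
    · exact g.1.injective (e.trans (map_zero _).symm)
    · rw [st.p_self (gl w' hw')]
      exact fun e => hw'0 (g.1.injective (e.trans (map_zero _).symm))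
  have hfull : ∀ x ∈ D a, Q x = 0 → Full M x := by
    intro x hx hQx z hz
    have h : z ∈ wSub M hQx := by
      rw [← st.sum z]
      refine sum_mem fun i _ => ?_
      rcases eq_or_ne i a with rfl | hia
      · refine st.inW_block hx hQx (st.mem i z) ?_
        rw [QuadraticMap.polar_comm, st.polar_p z hx, QuadraticMap.polar_comm, hz]
      · exact hall i hia x hx hQx _ (st.mem i z)
    exact h.2
  obtain ⟨v, hv, hQv, huv⟩ := (st.nd a).exists_opposite hu hu0 hQu
  exact commutator_le_of_pair st.sep st.five (hfull u hu hQu) (hfull v hv hQv) hQu hQv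
    (by rw [huv]; exact one_ne_zero)

variable (hNL : NoLink M D p)
include hNL

/-- Two non-orthogonal singular vectors going into pieces carry their whole piece into one. -/
theorem nonperp_good {T : quadIsoms Q} (hT : T ∈ M) {a b c : Fin t} {u v : V} (hu : u ∈ D a) (hQu : Q u = 0)
    (hv : v ∈ D a) (hQv : Q v = 0) (huv : polar Q u v ≠ 0) (hTu : T.1 u ∈ D b) (hTv : T.1 v ∈ D c) :
    ∀ x ∈ D a, T.1 x ∈ D b := by
  have hu0 : u ≠ 0 := fun e => huv (by rw [e, QuadraticMap.polar_zero_left])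
  have hv0 : v ≠ 0 := fun e => huv (by rw [e, QuadraticMap.polar_zero_right])
  obtain ⟨x₀, ⟨⟨hx₀, hx₀u⟩, hx₀v⟩, hx₀0⟩ := (D a ⊓ LinearMap.ker (pLin Q u) ⊓
      LinearMap.ker (pLin Q v)).exists_mem_ne_zero_of_ne_bot (fun e => by
    have d1 := finrank_le_inf_ker (D a) (pLin Q u)
    have d2 := finrank_le_inf_ker (D a ⊓ LinearMap.ker (pLin Q u)) (pLin Q v)
    rw [e, finrank_bot] at d2
    rw [st.dim] at d1
    omega)
  have e1 : polar Q u x₀ = 0 := by rw [QuadraticMap.polar_comm]; exact hx₀u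
  have e2 : polar Q v x₀ = 0 := by rw [QuadraticMap.polar_comm]; exact hx₀v
  obtain rfl : b = c := st.block_eq (st.keep hNL hT hu hu0 hQu hTu hx₀ e1)
    (st.keep hNL hT hv hv0 hQv hTv hx₀ e2) (apply_ne_zero T hx₀0)
  intro x hx
  have h1 := st.keep hNL hT hu hu0 hQu hTu (sub_mem hx ((D a).smul_mem (polar Q u x / polar Q u v) hv)) (by
    rw [QuadraticMap.polar_sub_right, QuadraticMap.polar_smul_right, smul_eq_mul, div_mul_cancel₀ _ huv, sub_self])
  have h2 := add_mem h1 ((D b).smul_mem (polar Q u x / polar Q u v) hTv)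
  rwa [map_sub, map_smul, sub_add_cancel] at h2

theorem exists_bad {g : quadIsoms Q} (hg : g ∈ M) {a : Fin t} (hbad : ∀ b, ∃ x ∈ D a, g.1 x ∉ D b) :
    ∃ u ∈ D a, u ≠ 0 ∧ Q u = 0 ∧ ∀ b, g.1 u ∉ D b := by
  obtain ⟨u, hu, hu0, hQu⟩ := exists_singular_in (Q := Q) (W := D a) (st.three_le a)
  obtain ⟨v, hv, hQv, huv⟩ := (st.nd a).exists_opposite hu hu0 hQu
  by_contra hno
  push Not at hno
  obtain ⟨b, hb⟩ := hno u hu hu0 hQu
  obtain ⟨c, hc⟩ := hno v hv (fun e => by simp [e] at huv) hQv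
  obtain ⟨x, hx, hxb⟩ := hbad b
  exact hxb (st.nonperp_good hNL hg hu hQu hv hQv (by rw [huv]; exact one_ne_zero) hb hc x hx)

variable {g : quadIsoms Q} (hg : g ∈ M) {a : Fin t}
include hg

theorem zSub_aniso {u : V} (hu : u ∈ D a) (hgu : ∀ b, g.1 u ∉ D b) {l : Fin t} {x : V} (hx : x ∈ D a)
    (hux : polar Q u x = 0) (hl : g.1 x ∈ D l) (hx0 : x ≠ 0) : Q x ≠ 0 := fun hQx =>
  hgu l (st.keep hNL hg hx hx0 hQx hl hu (by rw [QuadraticMap.polar_comm]; exact hux))

/-- the differences of the piece `D l` fixing the image of a singular vector come from the piece `D a` -/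
theorem diff_mem {u : V} (hu : u ∈ D a) (hu0 : u ≠ 0) (hQu : Q u = 0) {l : Fin t} {s z : V} (hs : s ∈ D l)
    (hQs : Q s = 0) (hz : z ∈ D l) (hsz : polar Q s z = 0) (h1 : polar Q s (p l (g.1 u)) = 0)
    (h2 : polar Q z (p l (g.1 u)) = 0) {x : V} (hx : x ∈ D a) (hux : polar Q u x = 0) :
    ∃ y ∈ D a, polar Q u y = 0 ∧
      g.1 y = polar Q s (g.1 x) • z - (polar Q z (g.1 x) + Q z * polar Q s (g.1 x)) • s := by
  rw [st.polar_p' hs] at h1
  rw [st.polar_p' hz] at h2
  set h := siegel Q s z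
  have hy : h.1 (g.1 u) = g.1 u := by rw [siegel_apply Q hQs hsz, h1, h2]; simp
  have hT : g⁻¹ * h * g ∈ M := mul_mem (mul_mem (inv_mem hg) (st.siegel_mem hs hQs hz hsz)) hg
  have hTu : (g⁻¹ * h * g).1 u = u := by
    show (g⁻¹).1 (h.1 (g.1 u)) = u
    rw [hy, OFrame.inv_apply']
  have hm := st.keep hNL hT hu hu0 hQu (b := a) (by rw [hTu]; exact hu) hx hux
  have hp : polar Q u ((g⁻¹ * h * g).1 x) = 0 := by
    conv_lhs => rw [← hTu]
    rw [polar_map, hux]
  refine ⟨(g⁻¹ * h * g).1 x - x, sub_mem hm hx, by rw [QuadraticMap.polar_sub_right, hp, hux, sub_zero], ?_⟩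
  rw [map_sub]
  show g.1 ((g⁻¹).1 (h.1 (g.1 x))) - g.1 x = _
  rw [apply_inv, siegel_apply Q hQs hsz]
  abel

/-- an anisotropic component of the image of a vector orthogonal to a bad one sits over an anisotropic component -/
theorem comp_aniso {u : V} (hu : u ∈ D a) (hu0 : u ≠ 0) (hQu : Q u = 0) (hgu : ∀ b, g.1 u ∉ D b) {l : Fin t}
    {x : V} (hx : x ∈ D a) (hux : polar Q u x = 0) (hQw : Q (p l (g.1 x)) ≠ 0) : Q (p l (g.1 u)) ≠ 0 := by
  intro hQl
  set yl := p l (g.1 u)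
  set w := p l (g.1 x)
  have hw0 : w ≠ 0 := fun e => hQw (by rw [e, QuadraticMap.map_zero])
  have hkill : ∀ v ∈ D l, v ≠ 0 → Q v = 0 → ∀ y ∈ D a, polar Q u y = 0 → g.1 y = v → False := by
    intro v hv hv0 hQv y hy huy hgy
    refine st.zSub_aniso hNL hg hu hgu hy huy (hgy ▸ hv) (fun e => hv0 (by rw [← hgy, e, map_zero])) ?_
    rw [← mem_quadIsoms.1 g.2 y, hgy, hQv]
  obtain ⟨s, hs, hQs, hs0, hsy, hperp⟩ : ∃ s ∈ D l, Q s = 0 ∧ s ≠ 0 ∧ polar Q s yl = 0 ∧
      (polar Q s (g.1 x) ≠ 0 → ∀ z ∈ D l, polar Q s z = 0 → polar Q z yl = 0) := by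
    rcases eq_or_ne yl 0 with hy0 | hy0
    · obtain ⟨s, hs, hQs, hsw⟩ := st.exists_sing_nonperp (w := g.1 x) hw0
      exact ⟨s, hs, hQs, fun e => hsw (by rw [e, QuadraticMap.polar_zero_left]),
        by rw [hy0, QuadraticMap.polar_zero_right], fun _ z _ _ => by rw [hy0, QuadraticMap.polar_zero_right]⟩
    · exact ⟨yl, st.mem l _, hQl, hy0, st.pself yl, fun _ z _ hz => by rw [QuadraticMap.polar_comm]; exact hz⟩
  rcases eq_or_ne (polar Q s (g.1 x)) 0 with hσ | hσ
  · -- then `s` is the component of the image of `u`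
    rcases eq_or_ne yl 0 with hy0 | hy0
    · obtain ⟨s', hs', hQs', hsw⟩ := st.exists_sing_nonperp (w := g.1 x) hw0
      have hs'0 : s' ≠ 0 := fun e => hsw (by rw [e, QuadraticMap.polar_zero_left])
      have hmem := st.line_mem hs' hs'0 hQs' hsw ((D a ⊓ LinearMap.ker (pLin Q u)).map g.1.toLinearMap).toAddSubgroup
        (fun z hz hsz => by
          obtain ⟨y, hy, huy, hgy⟩ := st.diff_mem hNL hg hu hu0 hQu hs' hQs' hz hsz
            (by show polar Q s' yl = 0; rw [hy0, QuadraticMap.polar_zero_right])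
            (by show polar Q z yl = 0; rw [hy0, QuadraticMap.polar_zero_right]) hx hux
          exact ⟨y, ⟨hy, show polar Q y u = 0 by rw [QuadraticMap.polar_comm]; exact huy⟩, hgy⟩) 1
      obtain ⟨y, ⟨hy, hyu⟩, hgy⟩ := hmem
      exact hkill s' hs' hs'0 hQs' y hy (by rw [QuadraticMap.polar_comm]; exact hyu)
        (by rw [one_smul] at hgy; exact hgy)
    have hylm : yl ∈ D l := st.mem l _
    obtain ⟨z, hz, hyz, hzw⟩ : ∃ z ∈ D l, polar Q yl z = 0 ∧ polar Q z w ≠ 0 := by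
      by_contra hno
      push Not at hno
      obtain ⟨e, he, hye⟩ := (st.nd l).exists_partner hylm hy0
      have e' := (st.nd l).prop_of_perp hylm he hye (st.mem l (g.1 x)) fun v hv hv' => by
        rw [QuadraticMap.polar_comm]; exact hno v hv hv'
      exact hQw (by
        show Q (p l (g.1 x)) = 0
        rw [e', quad_smul, show Q yl = 0 from hQl, mul_zero])
    have hσ' : polar Q yl (g.1 x) = 0 := by
      by_contra h
      have hmem := st.line_mem hylm hy0 hQl h ((D a ⊓ LinearMap.ker (pLin Q u)).map g.1.toLinearMap).toAddSubgroup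
        (fun z hz hsz => by
          obtain ⟨y, hy, huy, hgy⟩ := st.diff_mem hNL hg hu hu0 hQu hylm hQl hz hsz (st.pself yl)
            (by rw [QuadraticMap.polar_comm]; exact hsz) hx hux
          exact ⟨y, ⟨hy, show polar Q y u = 0 by rw [QuadraticMap.polar_comm]; exact huy⟩, hgy⟩) 1
      obtain ⟨y, ⟨hy, hyu⟩, hgy⟩ := hmem
      exact hkill yl hylm hy0 hQl y hy (by rw [QuadraticMap.polar_comm]; exact hyu)
        (by rw [one_smul] at hgy; exact hgy)
    obtain ⟨y, hy, huy, hgy⟩ := st.diff_mem hNL hg hu hu0 hQu hylm hQl hz hyz (st.pself yl)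
      (by rw [QuadraticMap.polar_comm]; exact hyz) hx hux
    rw [hσ', zero_smul, mul_zero, add_zero, zero_sub, st.hneg, ← st.polar_p' hz] at hgy
    refine hkill (polar Q z w • yl) ((D l).smul_mem _ hylm) (smul_ne_zero hzw hy0) ?_ y hy huy hgy
    rw [quad_smul, show Q yl = 0 from hQl, mul_zero]
  · have hmem := st.line_mem hs hs0 hQs hσ ((D a ⊓ LinearMap.ker (pLin Q u)).map g.1.toLinearMap).toAddSubgroup
      (fun z hz hsz => by
        obtain ⟨y, hy, huy, hgy⟩ := st.diff_mem hNL hg hu hu0 hQu hs hQs hz hsz hsy (hperp hσ z hz hsz) hx hux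
        exact ⟨y, ⟨hy, show polar Q y u = 0 by rw [QuadraticMap.polar_comm]; exact huy⟩, hgy⟩) 1
    obtain ⟨y, ⟨hy, hyu⟩, hgy⟩ := hmem
    exact hkill s hs hs0 hQs y hy (by rw [QuadraticMap.polar_comm]; exact hyu)
      (by rw [one_smul] at hgy; exact hgy)

/-- a vector orthogonal to a bad one goes into each piece with an anisotropic component -/
theorem exists_single {u : V} (hu : u ∈ D a) (hu0 : u ≠ 0) (hQu : Q u = 0) (hgu : ∀ b, g.1 u ∉ D b) {l : Fin t}
    (hQl : Q (p l (g.1 u)) ≠ 0) : ∃ x ∈ D a, x ≠ 0 ∧ polar Q u x = 0 ∧ g.1 x ∈ D l := by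
  set yl := p l (g.1 u)
  have hylm : yl ∈ D l := st.mem l _
  obtain ⟨s, ⟨hs, hsy⟩, hs0, hQs⟩ : ∃ s ∈ D l ⊓ LinearMap.ker (pLin Q yl), s ≠ 0 ∧ Q s = 0 :=
    exists_singular_in (Q := Q) (W := D l ⊓ LinearMap.ker (pLin Q yl)) (by
      have := finrank_le_inf_ker (D l) (pLin Q yl)
      rw [st.dim] at this
      omega)
  have hsy' : polar Q s yl = 0 := hsy
  obtain ⟨f, hf, hsf⟩ := (st.nd l).exists_partner hs hs0
  obtain ⟨z, hz, hsz, hyz⟩ : ∃ z ∈ D l, polar Q s z = 0 ∧ polar Q yl z ≠ 0 := by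
    by_contra hno
    push Not at hno
    refine hQl ?_
    rw [(st.nd l).prop_of_perp hs hf hsf hylm hno, quad_smul, hQs, mul_zero]
  obtain ⟨x₀, ⟨⟨hx₀, hx₀u⟩, hx₀s⟩, hx₀n⟩ : ∃ x₀ ∈ D a ⊓ LinearMap.ker (pLin Q u) ⊓
      LinearMap.ker (pLin Q ((g⁻¹).1 s)), x₀ ∉ Submodule.span F {u} := by
    by_contra hno
    push Not at hno
    have h1 := finrank_le_inf_ker (D a) (pLin Q u)
    have h2 := finrank_le_inf_ker (D a ⊓ LinearMap.ker (pLin Q u)) (pLin Q ((g⁻¹).1 s))
    have h3 := Submodule.finrank_mono (fun x hx => hno x hx :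
      D a ⊓ LinearMap.ker (pLin Q u) ⊓ LinearMap.ker (pLin Q ((g⁻¹).1 s)) ≤ Submodule.span F {u})
    rw [finrank_span_singleton hu0] at h3
    rw [st.dim] at h1
    omega
  have e1 : polar Q u x₀ = 0 := by rw [QuadraticMap.polar_comm]; exact hx₀u
  have e2 : polar Q (g.1 x₀) s = 0 := by
    have : polar Q x₀ ((g⁻¹).1 s) = 0 := hx₀s
    rw [← polar_map g x₀, apply_inv] at this
    exact this
  have hgQ : Q (g.1 u) = 0 := by rw [mem_quadIsoms.1 g.2, hQu]
  have hge : polar Q (g.1 u) (g.1 x₀) = 0 := by rw [polar_map, e1]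
  have hys : ∀ e ∈ D l, polar Q (g.1 u) e = polar Q yl e := fun e he => (st.polar_p (g.1 u) he).symm
  obtain ⟨h, hh⟩ : ∃ h, h = siegel Q (g.1 u) (g.1 x₀) := ⟨_, rfl⟩
  have hT : h ∈ M := hh ▸ ((st.inW_block hu hQu hx₀ e1).conj hg).2
  have hTs : h.1 s = s := by
    rw [hh, siegel_apply Q hgQ hge, hys s hs, QuadraticMap.polar_comm _ yl s, hsy', e2]
    simp
  have hm := st.keep hNL hT hs hs0 hQs (b := l) (by rw [hTs]; exact hs) hz hsz
  rw [hh, siegel_apply Q hgQ hge, hys z hz, add_sub_assoc] at hm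
  have hm2 := (D l).smul_mem (polar Q yl z)⁻¹ ((Submodule.add_mem_iff_right _ hz).1 hm)
  rw [smul_sub, inv_smul_smul₀ hyz, smul_smul, ← map_smul, ← map_sub] at hm2
  refine ⟨_, sub_mem hx₀ ((D a).smul_mem _ hu), fun e => hx₀n ?_, ?_, hm2⟩
  · rw [sub_eq_zero.1 e]
    exact Submodule.smul_mem _ _ (Submodule.mem_span_singleton_self u)
  · rw [QuadraticMap.polar_sub_right, QuadraticMap.polar_smul_right, e1, st.pself, smul_zero, sub_zero]

omit hNL hg in
/-- the plane orthogonal to a singular vector and to an anisotropic one orthogonal to it -/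
theorem dep {u x y : V} (hu : u ∈ D a) (hu0 : u ≠ 0) (hQu : Q u = 0) (hx : x ∈ D a) (hQx : Q x ≠ 0)
    (hux : polar Q u x = 0) (hy : y ∈ D a) (huy : polar Q u y = 0) (hxy : polar Q x y = 0) :
    ∃ α β : F, y = α • x + β • u := by
  obtain ⟨v, hv, -, huv⟩ := (st.nd a).exists_opposite hu hu0 hQu
  obtain ⟨e, he, heu, hxe⟩ : ∃ e ∈ D a, polar Q u e = 0 ∧ polar Q x e ≠ 0 := by
    by_contra hno
    push Not at hno
    refine hQx ?_
    rw [(st.nd a).prop_of_perp hu hv huv hx hno, quad_smul, hQu, mul_zero]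
  have hlt₁ : D a ⊓ LinearMap.ker (pLin Q u) < D a := lt_of_le_of_ne inf_le_left fun h => by
    have h' : v ∈ D a ⊓ LinearMap.ker (pLin Q u) := by rw [h]; exact hv
    have h'' : polar Q v u = 0 := h'.2
    rw [QuadraticMap.polar_comm, huv] at h''
    exact one_ne_zero h''
  have hlt₂ : D a ⊓ LinearMap.ker (pLin Q u) ⊓ LinearMap.ker (pLin Q x) < D a ⊓ LinearMap.ker (pLin Q u) :=
    lt_of_le_of_ne inf_le_left fun h => by
      have h' : e ∈ D a ⊓ LinearMap.ker (pLin Q u) ⊓ LinearMap.ker (pLin Q x) := by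
        rw [h]; exact ⟨he, show polar Q e u = 0 by rw [QuadraticMap.polar_comm]; exact heu⟩
      have h'' : polar Q e x = 0 := h'.2
      rw [QuadraticMap.polar_comm] at h''
      exact hxe h''
  have d1 := Submodule.finrank_lt_finrank_of_lt hlt₁
  have d2 := Submodule.finrank_lt_finrank_of_lt hlt₂
  rw [st.dim] at d1
  have hli : LinearIndependent F ![x, u] := LinearIndependent.pair_iff.2 fun c d h => by
    have h1 : c • x = (-d) • u := by rw [neg_smul]; exact eq_neg_of_add_eq_zero_left h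
    have hc : c = 0 := by
      by_contra hc
      apply hQx
      have := congrArg Q h1
      rw [quad_smul, quad_smul, hQu, mul_zero] at this
      exact (mul_eq_zero.1 this).resolve_left (mul_ne_zero hc hc)
    rw [hc, zero_smul, zero_add] at h
    exact ⟨hc, (smul_eq_zero.1 h).resolve_right hu0⟩
  have hsp : Submodule.span F (Set.range ![x, u]) =
      D a ⊓ LinearMap.ker (pLin Q u) ⊓ LinearMap.ker (pLin Q x) := by
    refine Submodule.eq_of_le_of_finrank_le (Submodule.span_le.2 ?_) ?_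
    · rintro _ ⟨i, rfl⟩
      fin_cases i
      · exact ⟨⟨hx, show polar Q x u = 0 by rw [QuadraticMap.polar_comm]; exact hux⟩, st.pself x⟩
      · exact ⟨⟨hu, st.pself u⟩, hux⟩
    · rw [finrank_span_eq_card hli, Fintype.card_fin]
      omega
  have hy' : y ∈ Submodule.span F (Set.range ![x, u]) := by
    rw [hsp]
    exact ⟨⟨hy, show polar Q y u = 0 by rw [QuadraticMap.polar_comm]; exact huy⟩,
      show polar Q y x = 0 by rw [QuadraticMap.polar_comm]; exact hxy⟩
  rw [Matrix.range_cons, Matrix.range_cons, Matrix.range_empty, Set.union_empty, Set.singleton_union,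
    Submodule.mem_span_pair] at hy'
  obtain ⟨α, β, h⟩ := hy'
  exact ⟨α, β, h.symm⟩

/-- the image of a bad vector has two components -/
theorem shape {u : V} (hu : u ∈ D a) (hu0 : u ≠ 0) (hQu : Q u = 0) (hgu : ∀ b, g.1 u ∉ D b) :
    ∃ l m, l ≠ m ∧ ∃ x ∈ D a, Q x ≠ 0 ∧ polar Q u x = 0 ∧ g.1 x ∈ D l ∧ g.1 (x + u) ∈ D m ∧
      p l (g.1 u) = g.1 x := by
  obtain ⟨x₁, hx₁, hux₁, hQx₁⟩ := (st.nd a).exists_aniso_perp (st.three_le a) hu hu0
  have hQs : ∀ w, Q w = ∑ i, Q (p i w) := by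
    intro w
    classical
    have h : ∀ S : Finset (Fin t), Q (∑ i ∈ S, p i w) = ∑ i ∈ S, Q (p i w) := by
      intro S
      induction S using Finset.induction_on with
      | empty => simp
      | insert i S hi ih =>
        rw [Finset.sum_insert hi, Finset.sum_insert hi, QuadraticMap.map_add (Q : QuadraticMap F V F), ih]
        have : polar Q (p i w) (∑ j ∈ S, p j w) = 0 := by
          show QuadraticMap.polarBilin Q (p i w) (∑ j ∈ S, p j w) = 0
          rw [map_sum]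
          exact Finset.sum_eq_zero fun j hj => st.orth i j (fun e => hi (e ▸ hj)) _ (st.mem i w) _ (st.mem j w)
        rw [this, add_zero]
    conv_lhs => rw [← st.sum w]
    exact h Finset.univ
  obtain ⟨l, hl⟩ : ∃ l, Q (p l (g.1 x₁)) ≠ 0 := by
    by_contra hno
    push Not at hno
    exact hQx₁ (by rw [← mem_quadIsoms.1 g.2 x₁, hQs]; exact Finset.sum_eq_zero fun i _ => hno i)
  have hQl := st.comp_aniso hNL hg hu hu0 hQu hgu hx₁ hux₁ hl
  obtain ⟨m, hml, hQm⟩ : ∃ m, m ≠ l ∧ Q (p m (g.1 u)) ≠ 0 := by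
    by_contra hno
    push Not at hno
    have h := hQs (g.1 u)
    rw [mem_quadIsoms.1 g.2, hQu, Finset.sum_eq_single l (fun i _ hi => hno i hi) (by simp)] at h
    exact hQl h.symm
  obtain ⟨xl, hxl, hxl0, huxl, hgxl⟩ := st.exists_single hNL hg hu hu0 hQu hgu hQl
  obtain ⟨xm, hxm, hxm0, huxm, hgxm⟩ := st.exists_single hNL hg hu hu0 hQu hgu hQm
  have hQxl : Q xl ≠ 0 := st.zSub_aniso hNL hg hu hgu hxl huxl hgxl hxl0
  have hperp : polar Q xl xm = 0 := by
    rw [← polar_map g xl xm]; exact st.orth l m (Ne.symm hml) _ hgxl _ hgxm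
  obtain ⟨α, β, hxm'⟩ := st.dep hu hu0 hQu hxl hQxl huxl hxm huxm hperp
  have e : g.1 xm = α • g.1 xl + β • g.1 u := by rw [hxm', map_add, map_smul, map_smul]
  have hβ : β ≠ 0 := fun hb => by
    rw [hb, zero_smul, add_zero] at e
    have h1 : g.1 xm ∈ D l := by rw [e]; exact (D l).smul_mem _ hgxl
    exact apply_ne_zero g hxm0 (st.disjoint hml hgxm h1)
  have h1 := congrArg (p l) e
  rw [map_add, map_smul, map_smul, st.p_other (Ne.symm hml) hgxm, st.p_self hgxl] at h1
  have h2 : p l (g.1 u) = g.1 ((-α / β) • xl) := by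
    have h4 : β • p l (g.1 u) = (-α) • g.1 xl := by rw [neg_smul]; exact eq_neg_of_add_eq_zero_right h1.symm
    rw [map_smul, ← inv_smul_smul₀ hβ (p l (g.1 u)), h4, smul_smul]
    congr 1
    ring
  refine ⟨l, m, Ne.symm hml, (-α / β) • xl, (D a).smul_mem _ hxl, fun hQ => hQl ?_,
    by rw [QuadraticMap.polar_smul_right, huxl, smul_zero], by rw [map_smul]; exact (D l).smul_mem _ hgxl, ?_, h2⟩
  · rw [h2, mem_quadIsoms.1 g.2]; exact hQ
  · have h5 : (-α / β) • xl + u = (1 / β) • xm + ((-2 * α / β)) • xl := by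
      rw [hxm']
      match_scalars <;> field_simp <;> ring
    rw [h5, show (-2 * α / β) = 0 by rw [st.two]; ring, zero_smul, add_zero, map_smul]
    exact (D m).smul_mem _ hgxm

/-- a bad vector forces the field with two elements -/
theorem two_field {u : V} (hu : u ∈ D a) (hu0 : u ≠ 0) (hQu : Q u = 0) (hgu : ∀ b, g.1 u ∉ D b) (b : F) :
    b = 0 ∨ b = 1 := by
  obtain ⟨l, m, hlm, x, hx, hQx, hux, hgx, hgxu, hyl⟩ := st.shape hNL hg hu hu0 hQu hgu
  obtain ⟨v, hv, -, huv⟩ := (st.nd a).exists_opposite hu hu0 hQu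
  obtain ⟨e, he, hue, hxe⟩ : ∃ e ∈ D a, polar Q u e = 0 ∧ polar Q x e = 1 := by
    obtain ⟨e, he, hue, hxe⟩ : ∃ e ∈ D a, polar Q u e = 0 ∧ polar Q x e ≠ 0 := by
      by_contra hno
      push Not at hno
      exact hQx (by rw [(st.nd a).prop_of_perp hu hv huv hx hno, quad_smul, hQu, mul_zero])
    exact ⟨(polar Q x e)⁻¹ • e, (D a).smul_mem _ he,
      by rw [QuadraticMap.polar_smul_right, hue, smul_zero],
      by rw [QuadraticMap.polar_smul_right, smul_eq_mul, inv_mul_cancel₀ hxe]⟩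
  have hyle : polar Q (g.1 x) (g.1 e) = 1 := by rw [polar_map, hxe]
  obtain ⟨s, ⟨hs, hsy⟩, hs0, hQs⟩ : ∃ s ∈ D l ⊓ LinearMap.ker (pLin Q (g.1 x)), s ≠ 0 ∧ Q s = 0 :=
    exists_singular_in (Q := Q) (W := D l ⊓ LinearMap.ker (pLin Q (g.1 x))) (by
      have := finrank_le_inf_ker (D l) (pLin Q (g.1 x))
      rw [st.dim] at this
      omega)
  have hsy' : polar Q s (g.1 x) = 0 := hsy
  have hys : polar Q (g.1 x) s = 0 := by rw [QuadraticMap.polar_comm]; exact hsy'
  have key : ∀ c : F, c ≠ 0 → 1 + c * Q (g.1 x) * polar Q s (g.1 e) = 0 := by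
    intro c hc
    obtain ⟨y, hy, huy, hgy⟩ := st.diff_mem hNL hg hu hu0 hQu hs hQs ((D l).smul_mem c hgx) (by
        rw [QuadraticMap.polar_smul_right, hsy', smul_zero]) (by rw [hyl]; exact hsy') (by
        rw [hyl, QuadraticMap.polar_smul_left, st.pself, smul_zero]) he hue
    rw [QuadraticMap.polar_smul_left, hyle, smul_eq_mul, mul_one, quad_smul] at hgy
    have hyl' : g.1 y ∈ D l := by
      rw [hgy]; exact sub_mem ((D l).smul_mem _ ((D l).smul_mem _ hgx)) ((D l).smul_mem _ hs)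
    have hxy : polar Q x y = 0 := by
      rw [← polar_map g x y, hgy, QuadraticMap.polar_sub_right, QuadraticMap.polar_smul_right,
        QuadraticMap.polar_smul_right, QuadraticMap.polar_smul_right, st.pself, hys]
      simp
    obtain ⟨α, β, hy'⟩ := st.dep hu hu0 hQu hx hQx hux hy huy hxy
    have hgy' : g.1 y = α • g.1 x + β • g.1 u := by rw [hy', map_add, map_smul, map_smul]
    have hβ : β = 0 := by
      by_contra hβ
      refine hgu l ?_
      have := (D l).smul_mem β⁻¹ (sub_mem hyl' ((D l).smul_mem α hgx))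
      rwa [hgy', add_sub_cancel_left, inv_smul_smul₀ hβ] at this
    rw [hβ, zero_smul, add_zero, hgy] at hgy'
    by_contra hne
    have hs' : (c + c * c * Q (g.1 x) * polar Q s (g.1 e)) • s =
        (polar Q s (g.1 e) * c - α) • g.1 x := by
      linear_combination (norm := module) -hgy'
    have h := congrArg Q hs'
    rw [quad_smul, quad_smul, hQs, mul_zero] at h
    have h0 : polar Q s (g.1 e) * c - α = 0 := by
      have := (mul_eq_zero.1 h.symm).resolve_right (fun e => hQx (by rw [← mem_quadIsoms.1 g.2 x]; exact e))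
      exact (mul_self_eq_zero.1 this)
    rw [h0, zero_smul] at hs'
    refine (mul_ne_zero hc hne) ?_
    linear_combination (smul_eq_zero.1 hs').resolve_right hs0
  by_cases hb : b = 0
  · exact Or.inl hb
  refine Or.inr ?_
  linear_combination b * key 1 one_ne_zero - key b hb

/-- a partner of a mapped vector -/
theorem single_mate {u : V} (hu : u ∈ D a) (hu0 : u ≠ 0) (hQu : Q u = 0) (hgu : ∀ b, g.1 u ∉ D b) {v : V}
    (hv : v ∈ D a) (huv : polar Q u v = 0) (hv0 : v ≠ 0) {l : Fin t} (hgv : g.1 v ∈ D l) :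
    ∃ m, m ≠ l ∧ g.1 (v + u) ∈ D m := by
  obtain ⟨l₀, m₀, hlm, x, hx, hQx, hux, hgx, hgxu, -⟩ := st.shape hNL hg hu hu0 hQu hgu
  have hxv : polar Q x v = 0 := by
    rcases eq_or_ne l₀ l with rfl | hl
    · have h : polar Q (g.1 (x + u)) (g.1 v) = 0 := st.orth m₀ l₀ (Ne.symm hlm) _ hgxu _ hgv
      rwa [polar_map, QuadraticMap.polar_add_left, huv, add_zero] at h
    · have h : polar Q (g.1 x) (g.1 v) = 0 := st.orth l₀ l hl _ hgx _ hgv
      rwa [polar_map] at h
  obtain ⟨α, β, hv'⟩ := st.dep hu hu0 hQu hx hQx hux hv huv hxv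
  rcases st.two_field hNL hg hu hu0 hQu hgu α with rfl | rfl <;>
    rcases st.two_field hNL hg hu hu0 hQu hgu β with rfl | rfl <;>
      simp only [zero_smul, one_smul, zero_add, add_zero] at hv'
  · exact absurd hv' hv0
  · exact absurd (hv' ▸ hgv) (hgu l)
  · subst hv'
    obtain rfl := st.block_eq hgv hgx (apply_ne_zero g hv0)
    exact ⟨m₀, Ne.symm hlm, hgxu⟩
  · subst hv'
    obtain rfl := st.block_eq hgv hgxu (apply_ne_zero g hv0)
    refine ⟨l₀, hlm, ?_⟩
    rwa [add_assoc, ← two_smul F u, st.two, zero_smul, add_zero]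

omit hNL hg in
theorem exists_sing_partner {u x : V} (hu : u ∈ D a) (hu0 : u ≠ 0) (hQu : Q u = 0) (hx : x ∈ D a)
    (hQx : Q x ≠ 0) (hux : polar Q u x = 0) :
    ∃ w ∈ D a, Q w = 0 ∧ polar Q u w = 1 ∧ polar Q x w = 0 := by
  obtain ⟨f, hf, hxf⟩ := (st.nd a).exists_partner hx (fun e => hQx (by rw [e, QuadraticMap.map_zero]))
  obtain ⟨e, he, hxe, hue⟩ : ∃ e ∈ D a, polar Q x e = 0 ∧ polar Q u e ≠ 0 := by
    by_contra hno
    push Not at hno
    have h := (st.nd a).prop_of_perp hx hf hxf hu hno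
    have h' := congrArg Q h
    rw [quad_smul, hQu] at h'
    refine hu0 ?_
    rw [h, mul_self_eq_zero.1 ((mul_eq_zero.1 h'.symm).resolve_right hQx), zero_smul]
  refine ⟨(polar Q u e)⁻¹ • e + ((polar Q u e)⁻¹ * (polar Q u e)⁻¹ * Q e) • u,
    add_mem ((D a).smul_mem _ he) ((D a).smul_mem _ hu), ?_, ?_, ?_⟩
  · rw [quad_map_add_smul, quad_smul, hQu, QuadraticMap.polar_smul_left, QuadraticMap.polar_comm _ e u,
      smul_eq_mul, inv_mul_cancel₀ hue]
    linear_combination ((polar Q u e)⁻¹ * (polar Q u e)⁻¹ * Q e) * st.two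
  · rw [QuadraticMap.polar_add_right, QuadraticMap.polar_smul_right, QuadraticMap.polar_smul_right, st.pself,
      smul_eq_mul, inv_mul_cancel₀ hue, smul_zero, add_zero]
  · rw [QuadraticMap.polar_add_right, QuadraticMap.polar_smul_right, QuadraticMap.polar_smul_right, hxe,
      QuadraticMap.polar_comm _ x u, hux, smul_zero, smul_zero, add_zero]

/-- every singular vector of a piece goes into a piece -/
theorem no_bad {u : V} (hu : u ∈ D a) (hu0 : u ≠ 0) (hQu : Q u = 0) (hgu : ∀ b, g.1 u ∉ D b) : False := by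
  obtain ⟨l, m, hlm, x, hx, hQx, hux, hgx, hgxu, -⟩ := st.shape hNL hg hu hu0 hQu hgu
  have hx0 : x ≠ 0 := fun e => hQx (by rw [e, QuadraticMap.map_zero])
  have hxu : polar Q x u = 0 := by rw [QuadraticMap.polar_comm]; exact hux
  obtain ⟨u₂, hu₂, hQu₂, huu₂, hxu₂⟩ := st.exists_sing_partner hu hu0 hQu hx hQx hux
  have hu₂0 : u₂ ≠ 0 := fun e => by rw [e, QuadraticMap.polar_zero_right] at huu₂; exact zero_ne_one huu₂
  have hgu₂ : ∀ b, g.1 u₂ ∉ D b := fun b hb => by
    have h1 := st.keep hNL hg hu₂ hu₂0 hQu₂ hb hx (by rw [QuadraticMap.polar_comm]; exact hxu₂)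
    obtain rfl := st.block_eq hgx h1 (apply_ne_zero g hx0)
    have h2 : polar Q (g.1 (x + u)) (g.1 u₂) = 0 := st.orth m l (Ne.symm hlm) _ hgxu _ hb
    rw [polar_map, QuadraticMap.polar_add_left, hxu₂, huu₂, zero_add] at h2
    exact one_ne_zero h2
  obtain ⟨m₂, hm₂, hgxu₂⟩ := st.single_mate hNL hg hu₂ hu₂0 hQu₂ hgu₂ hx
    (by rw [QuadraticMap.polar_comm]; exact hxu₂) hx0 hgx
  obtain rfl : m₂ = m := by
    by_contra hne
    have h2 : polar Q (g.1 (x + u₂)) (g.1 (x + u)) = 0 := st.orth m₂ m hne _ hgxu₂ _ hgxu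
    rw [polar_map, QuadraticMap.polar_add_left, QuadraticMap.polar_add_right, QuadraticMap.polar_add_right,
      st.pself, hxu, QuadraticMap.polar_comm _ u₂ x, hxu₂, QuadraticMap.polar_comm _ u₂ u, huu₂, zero_add,
      zero_add, zero_add] at h2
    exact one_ne_zero h2
  have hQxu : Q (x + u) ≠ 0 := by
    rw [QuadraticMap.map_add (Q : QuadraticMap F V F), hQu, hxu, add_zero, add_zero]; exact hQx
  have huxu : polar Q u (x + u) = 0 := by rw [QuadraticMap.polar_add_right, hux, st.pself, add_zero]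
  have hxu0 : x + u ≠ 0 := fun e => hQxu (by rw [e, QuadraticMap.map_zero])
  obtain ⟨u₄, hu₄, hQu₄, huu₄, hxu₄⟩ := st.exists_sing_partner hu hu0 hQu (add_mem hx hu) hQxu huxu
  have hxu₄' : polar Q x u₄ + 1 = 0 := by rw [← huu₄, ← QuadraticMap.polar_add_left]; exact hxu₄
  have hu₄0 : u₄ ≠ 0 := fun e => by rw [e, QuadraticMap.polar_zero_right] at huu₄; exact zero_ne_one huu₄
  have hgu₄ : ∀ b, g.1 u₄ ∉ D b := fun b hb => by
    have h1 := st.keep hNL hg hu₄ hu₄0 hQu₄ hb (add_mem hx hu) (by rw [QuadraticMap.polar_comm]; exact hxu₄)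
    obtain rfl := st.block_eq hgxu h1 (apply_ne_zero g hxu0)
    have h2 : polar Q (g.1 x) (g.1 u₄) = 0 := st.orth l m₂ hlm _ hgx _ hb
    rw [polar_map] at h2
    rw [h2, zero_add] at hxu₄'
    exact one_ne_zero hxu₄'
  obtain ⟨k, hk, hgk⟩ := st.single_mate hNL hg hu₄ hu₄0 hQu₄ hgu₄ (add_mem hx hu)
    (by rw [QuadraticMap.polar_comm]; exact hxu₄) hxu0 hgxu
  have h3 : polar Q (g.1 (x + u + u₄)) (g.1 (x + u₂)) = 0 := st.orth k m₂ hk _ hgk _ hgxu₂
  rw [polar_map] at h3
  simp only [QuadraticMap.polar_add_left, QuadraticMap.polar_add_right, st.pself, hux, hxu₂, huu₂,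
    QuadraticMap.polar_comm _ u₄ x] at h3
  have h4 : polar Q u₄ u₂ = 0 := by linear_combination h3 - hxu₄'
  obtain ⟨c, hc⟩ := Submodule.mem_span_singleton.1 (st.witt a u₄ hu₄ u₂ hu₂ hQu₄ hQu₂ h4 hu₄0)
  have h5 := hxu₂
  rw [← hc, QuadraticMap.polar_smul_right, smul_eq_mul] at h5
  have hc0 : c ≠ 0 := fun e => hu₂0 (by rw [← hc, e, zero_smul])
  rw [(mul_eq_zero.1 h5).resolve_left hc0, zero_add] at hxu₄'
  exact one_ne_zero hxu₄'

omit hg in
theorem stab_of_noLink (hg : g ∈ M) : Stab D g := by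
  intro a
  by_contra hno
  push Not at hno
  obtain ⟨u, hu, hu0, hQu, hgu⟩ := st.exists_bad hNL hg hno
  exact st.no_bad hNL hg hu hu0 hQu hgu

omit hNL hg in
theorem dichotomy {g : quadIsoms Q} (hg : g ∈ M) (hns : ¬ Stab D g) : commutator (quadIsoms Q) ≤ M := by
  by_cases hlink : NoLink M D p
  · exact absurd (st.stab_of_noLink hlink hg) hns
  simp only [NoLink, not_forall] at hlink
  obtain ⟨a, l, hal, u, hu, hu0, hQu, w, hw, hwl⟩ := hlink
  exact st.le_of_link hal hu hu0 hQu hw hwl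

end Four

open Cfsg.Geo

/-- The stabiliser of an orthogonal decomposition into isometric four-spaces of Witt index one is maximal in `Ω`:
characteristic two. -/
theorem isMaximalIn_decomposition_four {ι : Type} [Fintype ι] [DecidableEq ι] {F : Type*} [Field F] [Fintype F]
    (Q : QuadraticForm F (ι → F)) {f : (ι → F) → F} (hf : ⇑Q = f) (hsep : ∀ x, (∀ y, polar Q x y = 0) → x = 0)
    (h5 : 5 ≤ Module.finrank F (ι → F)) (h2 : (2 : F) = 0) {t : ℕ} {D : Fin t → Submodule F (ι → F)}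
    (hD : IsOrthogonalMDecomposition f 4 D)
    (hwitt : ∀ i, ∀ x ∈ D i, ∀ y ∈ D i, Q x = 0 → Q y = 0 → polar Q x y = 0 → x ≠ 0 → y ∈ F ∙ x) :
    Cfsg.Geo.IsMaximalIn (omegaGL f) (decompositionStabilizer D ⊓ omegaGL f) := by
  classical
  subst hf
  obtain ⟨ψ, hψ⟩ := Decomp.exists_coord hD.decomp.decomp
  obtain ⟨p, hp⟩ : ∃ p : Fin t → (ι → F) →ₗ[F] (ι → F), ∀ M : Subgroup (quadIsoms Q),
      (∀ g ∈ commutator (quadIsoms Q), Stab D g → g ∈ M) → Four Q D p M := by
    refine ⟨fun i => ψ.symm.toLinearMap ∘ₗ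
      (LinearMap.single F (fun _ : Fin t => Fin 4 → F) i ∘ₗ LinearMap.proj i) ∘ₗ ψ.toLinearMap,
      fun M hM => ⟨hsep, h5, h2, hD.decomp.decomp.finrank_eq,
        fun i j hij x hx y hy => hD.decomp.orthogonal i j hij x hx y hy, fun i x hx h => ?_,
        fun i x => Decomp.single_of_coord ψ hψ i _, fun x => ?_, fun i j => hD.isometric i j, hwitt, hM⟩⟩
    · by_contra hne
      obtain ⟨-, y, hy, hxy⟩ := hD.decomp.nondegenerate i x hx hne
      exact hxy (h y hy)
    · show ∑ i, ψ.symm (Pi.single i (ψ x i)) = x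
      rw [← map_sum, Finset.univ_sum_single, ψ.symm_apply_apply]
  refine omega_isMaximalIn_of Q rfl (decompositionStabilizer D) ?_ fun M hM g hg _ hgH =>
    (hp M fun h hh hs => hM h hh (mem_stab_of_stab hD.decomp.decomp hs)).dichotomy hg
      fun hs => hgH (mem_stab_of_stab hD.decomp.decomp hs)
  have st := hp ⊤ fun _ _ _ => trivial
  have ht := hD.decomp.decomp.two_le
  obtain ⟨a, ha⟩ : ∃ a : Fin t, a = ⟨0, by omega⟩ := ⟨_, rfl⟩
  obtain ⟨b, hb⟩ : ∃ b : Fin t, b = ⟨1, by omega⟩ := ⟨_, rfl⟩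
  have hab : a ≠ b := by rw [ha, hb]; simp
  obtain ⟨u, hu, hu0, hQu⟩ := exists_singular_in (Q := Q) (W := D a) (st.three_le a)
  obtain ⟨s, hs, hs0, hQs⟩ := exists_singular_in (Q := Q) (W := D b) (st.three_le b)
  obtain ⟨w, hw, -, hQw⟩ := (st.nd b).exists_aniso_perp (st.three_le b) hs hs0
  obtain ⟨z, hz, huz⟩ := (st.nd a).exists_partner hu hu0
  have huw : polar Q u w = 0 := st.orth a b hab u hu w hw
  refine ⟨siegel Q u w, siegel_mem_commutator hsep h5 u w, fun hH => ?_⟩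
  obtain ⟨j, hj⟩ := stab_of_mem_stab hH a
  have h1 := hj z hz
  rw [siegel_apply Q hQu huw, huz, one_smul, mul_one, QuadraticMap.polar_comm Q w z,
    st.orth a b hab z hz w hw, zero_add] at h1
  rcases eq_or_ne b j with rfl | hbj
  · have h2' : p a (z + w - Q w • u) = 0 := st.p_other hab h1
    rw [map_sub, map_add, map_smul, st.p_self hz, st.p_self hu, st.p_other hab hw, add_zero, sub_eq_zero] at h2'
    have h3 := huz
    rw [h2', QuadraticMap.polar_smul_right, polar_self_of_singular Q hQu, smul_zero] at h3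
    exact zero_ne_one h3
  · have h2' : p b (z + w - Q w • u) = 0 := st.p_other hbj h1
    rw [map_sub, map_add, map_smul, st.p_other (Ne.symm hab) hz, st.p_other (Ne.symm hab) hu, st.p_self hw,
      zero_add, smul_zero, sub_zero] at h2'
    exact hQw (by rw [h2', QuadraticMap.map_zero])

end CfsgLib.MaxSub.OFrame
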