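import Cfsg.Agent.Lib.MaxSub.OFrameThree

/-!
Overgroups of the stabiliser of an orthogonal decomposition: an element outside the stabiliser forces a link.
-/

set_option autoImplicit false
set_option linter.unusedSectionVars false

namespace CfsgLib.MaxSub.OFrame

open CfsgLib.Classical CfsgLib.Geom CfsgLib.Geom.OrthSub CfsgLib.MaxSub
open QuadraticMap (polar)

variable {F V : Type*} [Field F] [AddCommGroup V] [Module F V] {Q : QuadraticForm F V} {t : ℕ}

/-- the images in `D l` of the vectors of `D a` orthogonal to `u` -/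
def zSub (Q : QuadraticForm F V) (g : quadIsoms Q) (Da Dl : Submodule F V) (u : V) : AddSubgroup V :=
  (((Da ⊓ LinearMap.ker (pLin Q u)).map g.1.toLinearMap) ⊓ Dl).toAddSubgroup

theorem mem_zSub {g : quadIsoms Q} {Da Dl : Submodule F V} {u w : V} :
    w ∈ zSub Q g Da Dl u ↔ (∃ x ∈ Da, polar Q u x = 0 ∧ g.1 x = w) ∧ w ∈ Dl := by
  rw [zSub, Submodule.mem_toAddSubgroup, Submodule.mem_inf, Submodule.mem_map]
  refine and_congr_left fun _ => ⟨?_, ?_⟩
  · rintro ⟨x, ⟨hx, hxu⟩, rfl⟩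
    have h : polar Q x u = 0 := hxu
    exact ⟨x, hx, by rw [QuadraticMap.polar_comm]; exact h, rfl⟩
  · rintro ⟨x, hx, hux, rfl⟩
    exact ⟨x, ⟨hx, show polar Q x u = 0 by rw [QuadraticMap.polar_comm]; exact hux⟩, rfl⟩

theorem apply_ne_zero (g : quadIsoms Q) {x : V} (hx : x ≠ 0) : g.1 x ≠ 0 := fun e =>
  hx (g.1.injective (e.trans (map_zero _).symm))

namespace Setting

variable [FiniteDimensional F V] [Finite F] {D : Fin t → Submodule F V} {p : Fin t → V →ₗ[F] V} {k : ℕ}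
  {M : Subgroup (quadIsoms Q)} (st : Setting Q D p k M) (hNL : NoLink M D p)
include st hNL

/-- Two non-orthogonal singular vectors going into pieces carry their whole piece into one. -/
theorem nonperp_good {T : quadIsoms Q} (hT : T ∈ M) {a b c : Fin t} {u v : V} (hu : u ∈ D a) (hQu : Q u = 0)
    (hv : v ∈ D a) (hQv : Q v = 0) (huv : polar Q u v ≠ 0) (hTu : T.1 u ∈ D b) (hTv : T.1 v ∈ D c) :
    ∀ x ∈ D a, T.1 x ∈ D b := by
  have hu0 : u ≠ 0 := fun e => huv (by rw [e, QuadraticMap.polar_zero_left])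
  have hv0 : v ≠ 0 := fun e => huv (by rw [e, QuadraticMap.polar_zero_right])
  obtain ⟨x₀, ⟨⟨hx₀, hx₀u⟩, hx₀v⟩, hx₀0⟩ := (D a ⊓ LinearMap.ker (pLin Q u) ⊓
      LinearMap.ker (pLin Q v)).exists_mem_ne_zero_of_ne_bot (fun e => by
    have d1 := finrank_le_inf_ker (D a) (pLin Q u)
    have d2 := finrank_le_inf_ker (D a ⊓ LinearMap.ker (pLin Q u)) (pLin Q v)
    have := st.kge
    rw [e, finrank_bot] at d2
    rw [st.dim] at d1
    omega)
  have e1 : polar Q u x₀ = 0 := by rw [QuadraticMap.polar_comm]; exact hx₀u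
  have e2 : polar Q v x₀ = 0 := by rw [QuadraticMap.polar_comm]; exact hx₀v
  obtain rfl : b = c := st.block_eq (st.keep hNL hT hu hu0 hQu hTu hx₀ e1)
    (st.keep hNL hT hv hv0 hQv hTv hx₀ e2) (apply_ne_zero T hx₀0)
  intro x hx
  have h1 := st.keep hNL hT hu hu0 hQu hTu (sub_mem hx ((D a).smul_mem (polar Q u x / polar Q u v) hv)) (by
    rw [QuadraticMap.polar_sub_right, QuadraticMap.polar_smul_right, smul_eq_mul, div_mul_cancel₀ _ huv, sub_self])
  have h2 := add_mem h1 ((D b).smul_mem (polar Q u x / polar Q u v) hTv)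
  rwa [map_sub, map_smul, sub_add_cancel] at h2

theorem exists_bad {g : quadIsoms Q} (hg : g ∈ M) {a : Fin t} (hbad : ∀ b, ∃ x ∈ D a, g.1 x ∉ D b) :
    ∃ u ∈ D a, u ≠ 0 ∧ Q u = 0 ∧ ∀ b, g.1 u ∉ D b := by
  obtain ⟨u, hu, hu0, hQu⟩ := exists_singular_in (Q := Q) (W := D a) (by rw [st.dim]; exact st.kge)
  obtain ⟨v, hv, hQv, huv⟩ := (st.nd a).exists_opposite hu hu0 hQu
  by_contra hno
  push Not at hno
  obtain ⟨b, hb⟩ := hno u hu hu0 hQu
  obtain ⟨c, hc⟩ := hno v hv (fun e => by simp [e] at huv) hQv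
  obtain ⟨x, hx, hxb⟩ := hbad b
  exact hxb (st.nonperp_good hNL hg hu hQu hv hQv (by rw [huv]; exact one_ne_zero) hb hc x hx)

variable {g : quadIsoms Q} (hg : g ∈ M) {a : Fin t} {u : V} (hu : u ∈ D a) (hu0 : u ≠ 0) (hQu : Q u = 0)
  (hgu : ∀ b, g.1 u ∉ D b)
include hg hu hu0 hQu hgu

theorem diff_mem {l : Fin t} {h : quadIsoms Q} (hh : h ∈ M) (hy : h.1 (g.1 u) = g.1 u) {x : V} (hx : x ∈ D a)
    (hux : polar Q u x = 0) (hd : h.1 (g.1 x) - g.1 x ∈ D l) :
    h.1 (g.1 x) - g.1 x ∈ zSub Q g (D a) (D l) u := by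
  have hT : g⁻¹ * h * g ∈ M := mul_mem (mul_mem (inv_mem hg) hh) hg
  have hTu : (g⁻¹ * h * g).1 u = u := by
    show (g⁻¹).1 (h.1 (g.1 u)) = u
    rw [hy, inv_apply']
  have hm := st.keep hNL hT hu hu0 hQu (b := a) (by rw [hTu]; exact hu) hx hux
  have hp : polar Q u ((g⁻¹ * h * g).1 x) = 0 := by
    conv_lhs => rw [← hTu]
    rw [polar_map, hux]
  refine mem_zSub.2 ⟨⟨(g⁻¹ * h * g).1 x - x, sub_mem hm hx,
    by rw [QuadraticMap.polar_sub_right, hp, hux, sub_zero], ?_⟩, hd⟩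
  rw [map_sub]
  show g.1 ((g⁻¹).1 (h.1 (g.1 x))) - g.1 x = _
  rw [apply_inv]

theorem zSub_aniso {l : Fin t} {w : V} (hw : w ∈ zSub Q g (D a) (D l) u) (hQw : Q w = 0) : w = 0 := by
  obtain ⟨⟨x, hx, hux, rfl⟩, hl⟩ := mem_zSub.1 hw
  by_contra hne
  have hx0 : x ≠ 0 := fun e => hne (by rw [e, map_zero])
  refine hgu l (st.keep hNL hg hx hx0 ?_ hl hu (by rw [QuadraticMap.polar_comm]; exact hux))
  rw [← g.2 x]; exact hQw

theorem siegel_fix {l : Fin t} {s x : V} (hs : s ∈ D l) (hQs : Q s = 0) (hx : x ∈ D l) (hsx : polar Q s x = 0)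
    (h1 : polar Q s (p l (g.1 u)) = 0) (h2 : polar Q x (p l (g.1 u)) = 0) :
    (siegel Q s x).1 (g.1 u) = g.1 u := by
  rw [st.polar_p' hs] at h1
  rw [st.polar_p' hx] at h2
  rw [siegel_apply Q hQs hsx, h1, h2]
  simp

theorem siegel_diff {l : Fin t} {s x : V} (hs : s ∈ D l) (hQs : Q s = 0) (hx : x ∈ D l) (hsx : polar Q s x = 0)
    (h1 : polar Q s (p l (g.1 u)) = 0) (h2 : polar Q x (p l (g.1 u)) = 0) {z : V} (hz : z ∈ D a)
    (huz : polar Q u z = 0) :
    polar Q s (g.1 z) • x - (polar Q x (g.1 z) + Q x * polar Q s (g.1 z)) • s ∈ zSub Q g (D a) (D l) u := by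
  have e : (siegel Q s x).1 (g.1 z) - g.1 z =
      polar Q s (g.1 z) • x - (polar Q x (g.1 z) + Q x * polar Q s (g.1 z)) • s := by
    rw [siegel_apply Q hQs hsx]; abel
  rw [← e]
  refine st.diff_mem hNL hg hu hu0 hQu hgu (st.siegel_mem hs hQs hx hsx)
    (st.siegel_fix hNL hg hu hu0 hQu hgu hs hQs hx hsx h1 h2) hz huz ?_
  rw [e]
  exact sub_mem ((D l).smul_mem _ hx) ((D l).smul_mem _ hs)

/-- the part of `D l` orthogonal to the component of `g u` -/
theorem perp_nd {l : Fin t} (hQl : Q (p l (g.1 u)) ≠ 0) : NdOn Q (D l ⊓ LinearMap.ker (pLin Q (p l (g.1 u)))) := by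
  rintro x ⟨hx, hxy⟩ h
  have hxy' : polar Q x (p l (g.1 u)) = 0 := hxy
  refine st.nd l x hx fun z hz => ?_
  obtain ⟨r, hr⟩ : ∃ r, r = polar Q z (p l (g.1 u)) / (2 * Q (p l (g.1 u))) := ⟨_, rfl⟩
  have h1 := h (z - r • p l (g.1 u)) ⟨sub_mem hz ((D l).smul_mem _ (st.mem l _)), by
    show polar Q _ _ = 0
    rw [QuadraticMap.polar_sub_left, QuadraticMap.polar_smul_left, polar_self_two, hr, smul_eq_mul,
      div_mul_cancel₀ _ (mul_ne_zero st.two hQl), sub_self]⟩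
  rwa [QuadraticMap.polar_sub_right, QuadraticMap.polar_smul_right, hxy', smul_zero, sub_zero] at h1

/-- no vector orthogonal to a bad one goes into a piece -/
theorem no_single {l : Fin t} {x : V} (hx : x ∈ D a) (hux : polar Q u x = 0) (hl : g.1 x ∈ D l) : x = 0 := by
  by_contra hx0
  have hv0 : g.1 x ≠ 0 := apply_ne_zero g hx0
  have hQv : Q (g.1 x) ≠ 0 := fun e =>
    hv0 (st.zSub_aniso hNL hg hu hu0 hQu hgu (mem_zSub.2 ⟨⟨x, hx, hux, rfl⟩, hl⟩) e)
  have hyv : polar Q (g.1 u) (g.1 x) = 0 := by rw [polar_map, hux]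
  obtain ⟨yl, hyl⟩ : ∃ yl, yl = p l (g.1 u) := ⟨_, rfl⟩
  have hylm : yl ∈ D l := hyl ▸ st.mem l _
  have hvyl : polar Q (g.1 x) yl = 0 := by rw [hyl, st.polar_p' hl, QuadraticMap.polar_comm, hyv]
  have hzs : ∀ w, w ∈ zSub Q g (D a) (D l) u → Q w = 0 → w = 0 := fun w hw => st.zSub_aniso hNL hg hu hu0 hQu hgu hw
  rcases eq_or_ne yl 0 with hy0 | hy0
  · -- trivial component
    have hperp : ∀ z, polar Q z (p l (g.1 u)) = 0 := fun z => by
      rw [← hyl, hy0, QuadraticMap.polar_zero_right]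
    obtain ⟨e, he, hve⟩ := (st.nd l).exists_partner hl hv0
    have hA := span_of_siegel st.two (st.nd l) (by rw [st.dim]; exact st.kge) (zSub Q g (D a) (D l) u)
      (r := g.1 x) ⟨e, he, by rw [QuadraticMap.polar_comm, hve]; exact one_ne_zero⟩
      (fun s hs hQs z hz hsz => st.siegel_diff hNL hg hu hu0 hQu hgu hs hQs hz hsz (hperp s) (hperp z) hx hux)
    obtain ⟨s, hs, hs0, hQs⟩ := exists_singular_in (Q := Q) (W := D l) (by rw [st.dim]; exact st.kge)
    exact hs0 (hzs s (hA s hs) hQs)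
  by_cases hQl : Q yl = 0
  · -- singular component
    have hylv : polar Q yl (g.1 x) = 0 := by rw [QuadraticMap.polar_comm]; exact hvyl
    have h1 := st.siegel_diff hNL hg hu hu0 hQu hgu hylm hQl hl hylv
      (by rw [← hyl]; exact polar_self_of_singular Q hQl) (by rw [← hyl]; exact hvyl) hx hux
    rw [hylv, mul_zero, add_zero, zero_smul, zero_sub, polar_self_two] at h1
    have h3 := hzs _ h1 (by rw [QuadraticMap.map_neg, quad_smul, hQl, mul_zero])
    rw [neg_eq_zero, smul_eq_zero] at h3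
    exact hy0 (h3.resolve_left (mul_ne_zero st.two hQv))
  -- anisotropic component
  rw [hyl] at hQl
  rcases Nat.lt_or_ge 3 k with hk | hk
  · have hE := st.perp_nd hNL hg hu hu0 hQu hgu hQl
    have hd := finrank_le_inf_ker (D l) (pLin Q (p l (g.1 u)))
    rw [st.dim] at hd
    obtain ⟨e, he, hve⟩ := hE.exists_partner (x := g.1 x) ⟨hl, hyl ▸ hvyl⟩ hv0
    have hA := span_of_siegel st.two hE (by omega) (zSub Q g (D a) (D l) u) (r := g.1 x)
      ⟨e, he, by rw [QuadraticMap.polar_comm, hve]; exact one_ne_zero⟩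
      (fun s hs hQs z hz hsz => st.siegel_diff hNL hg hu hu0 hQu hgu hs.1 hQs hz.1 hsz hs.2 hz.2 hx hux)
    obtain ⟨s, hs, hs0, hQs⟩ := exists_singular_in (Q := Q)
      (W := D l ⊓ LinearMap.ker (pLin Q (p l (g.1 u)))) (by omega)
    exact hs0 (hzs s (hA s hs) hQs)
  have hk3 : k = 3 := le_antisymm hk st.kge
  have hy : ∀ r : F, r • g.1 u ∈ D l → r = 0 := fun r hr => by
    by_contra hr0
    exact hgu l ((Submodule.smul_mem_iff _ hr0).1 hr)
  have hcv : ∀ c : F, InW M (g.1 u) (c • g.1 x) := fun c => by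
    rw [← map_smul]
    exact (st.inW_block hu hQu ((D a).smul_mem c hx) (by
      rw [QuadraticMap.polar_smul_right, hux, smul_zero])).conj hg
  refine st.three_false hNL (st.big hk3) (by rw [st.dim, hk3]) (by rw [g.2, hQu]) hy hl hQv hyv hcv hQl
    fun h hh hhy => ?_
  by_cases hd : h.1 (g.1 x) - g.1 x ∈ D l
  swap
  · exact ⟨0, Or.inr hd⟩
  obtain ⟨⟨z, hz, huz, hzv⟩, -⟩ := mem_zSub.1 (st.diff_mem hNL hg hu hu0 hQu hgu hh hhy hx hux hd)
  have hUle : Submodule.span F {u, x} = D a ⊓ LinearMap.ker (pLin Q u) := by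
    have hle : Submodule.span F {u, x} ≤ D a ⊓ LinearMap.ker (pLin Q u) := by
      rw [Submodule.span_le]
      intro w hw
      rcases hw with hw | hw
      · rw [hw]; exact ⟨hu, polar_self_of_singular Q hQu⟩
      · rw [Set.mem_singleton_iff.1 hw]; exact ⟨hx, show polar Q x u = 0 by rw [QuadraticMap.polar_comm]; exact hux⟩
    have hlt : D a ⊓ LinearMap.ker (pLin Q u) < D a := lt_of_le_of_ne inf_le_left fun e => by
      obtain ⟨w, hw, huw⟩ := (st.nd a).exists_partner hu hu0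
      rw [← e] at hw
      have h1 : polar Q w u = 0 := hw.2
      rw [QuadraticMap.polar_comm, huw] at h1
      exact one_ne_zero h1
    have hlt' : Submodule.span F {u} < Submodule.span F {u, x} :=
      lt_of_le_of_ne (Submodule.span_mono (by simp)) fun e => by
        have hm : x ∈ Submodule.span F {u} := by rw [e]; exact Submodule.subset_span (by simp)
        obtain ⟨r, hr⟩ := Submodule.mem_span_singleton.1 hm
        refine hQv ?_
        rw [g.2, ← hr, quad_smul, hQu, mul_zero]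
    have d1 := Submodule.finrank_lt_finrank_of_lt hlt
    have d2 := Submodule.finrank_lt_finrank_of_lt hlt'
    rw [st.dim] at d1
    rw [finrank_span_singleton hu0] at d2
    exact Submodule.eq_of_le_of_finrank_le hle (by omega)
  have hzm : z ∈ Submodule.span F {u, x} := by
    rw [hUle]; exact ⟨hz, show polar Q z u = 0 by rw [QuadraticMap.polar_comm]; exact huz⟩
  obtain ⟨α, β, rfl⟩ := Submodule.mem_span_pair.1 hzm
  rw [map_add, map_smul, map_smul] at hzv
  refine ⟨β, Or.inl ?_⟩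
  have hα : α • g.1 u ∈ D l := by
    rw [show α • g.1 u = (h.1 (g.1 x) - g.1 x) - β • g.1 x by rw [← hzv]; abel]
    exact sub_mem hd ((D l).smul_mem _ hl)
  rw [← hzv, hy α hα, zero_smul, zero_add]

theorem diff_eq {l : Fin t} {h : quadIsoms Q} (hh : h ∈ M) (hy : h.1 (g.1 u) = g.1 u) {x : V} (hx : x ∈ D a)
    (hux : polar Q u x = 0) (hd : h.1 (g.1 x) - g.1 x ∈ D l) : h.1 (g.1 x) = g.1 x := by
  obtain ⟨⟨z, hz, huz, hzv⟩, hl⟩ := mem_zSub.1 (st.diff_mem hNL hg hu hu0 hQu hgu hh hy hx hux hd)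
  rw [← hzv] at hl
  rw [st.no_single hNL hg hu hu0 hQu hgu hz huz hl, map_zero] at hzv
  exact sub_eq_zero.1 hzv.symm

theorem siegel_eq_zero {l : Fin t} {s x : V} (hs : s ∈ D l) (hQs : Q s = 0) (hx : x ∈ D l) (hsx : polar Q s x = 0)
    (h1 : polar Q s (p l (g.1 u)) = 0) (h2 : polar Q x (p l (g.1 u)) = 0) {z : V} (hz : z ∈ D a)
    (huz : polar Q u z = 0) :
    polar Q s (g.1 z) • x - (polar Q x (g.1 z) + Q x * polar Q s (g.1 z)) • s = 0 := by
  obtain ⟨⟨w, hw, huw, hwv⟩, hl⟩ := mem_zSub.1 (st.siegel_diff hNL hg hu hu0 hQu hgu hs hQs hx hsx h1 h2 hz huz)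
  rw [← hwv] at hl ⊢
  rw [st.no_single hNL hg hu hu0 hQu hgu hw huw hl, map_zero]

/-- components of the image of the hyperplane of a bad vector are proportional -/
theorem comp_prop (l : Fin t) {x : V} (hx : x ∈ D a) (hux : polar Q u x = 0) :
    ∃ c : F, p l (g.1 x) = c • p l (g.1 u) := by
  obtain ⟨yl, hyl⟩ : ∃ yl, yl = p l (g.1 u) := ⟨_, rfl⟩
  have hylm : yl ∈ D l := hyl ▸ st.mem l _
  have h3 : 3 ≤ Module.finrank F (D l) := by rw [st.dim]; exact st.kge
  rcases eq_or_ne yl 0 with hy0 | hy0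
  · refine ⟨0, ?_⟩
    rw [zero_smul]
    by_contra hne
    have hperp : ∀ z, polar Q z (p l (g.1 u)) = 0 := fun z => by
      rw [← hyl, hy0, QuadraticMap.polar_zero_right]
    obtain ⟨e, he, hze⟩ := (st.nd l).exists_partner (st.mem l _) hne
    have hA := span_of_siegel st.two (st.nd l) h3 (⊥ : AddSubgroup V) (r := g.1 x)
      ⟨e, he, by rw [← st.polar_p' he, QuadraticMap.polar_comm, hze]; exact one_ne_zero⟩
      (fun s hs hQs z hz hsz => AddSubgroup.mem_bot.2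
        (st.siegel_eq_zero hNL hg hu hu0 hQu hgu hs hQs hz hsz (hperp s) (hperp z) hx hux))
    have he0 : e = 0 := AddSubgroup.mem_bot.1 (hA e he)
    rw [he0, QuadraticMap.polar_zero_right] at hze
    exact zero_ne_one hze
  by_cases hQl : Q yl = 0
  · obtain ⟨w, hw, hylw⟩ := (st.nd l).exists_partner hylm hy0
    have hz : ∀ v ∈ D l, polar Q yl v = 0 →
        polar Q yl (g.1 x) • v - (polar Q v (g.1 x) + Q v * polar Q yl (g.1 x)) • yl = 0 := fun v hv hv' =>
      st.siegel_eq_zero hNL hg hu hu0 hQu hgu hylm hQl hv hv' (by rw [← hyl]; exact polar_self_of_singular Q hQl)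
        (by rw [← hyl, QuadraticMap.polar_comm]; exact hv') hx hux
    obtain ⟨v₀, hv₀, hylv₀, hQv₀⟩ := (st.nd l).exists_aniso_perp h3 hylm hy0
    have e0 : polar Q yl (g.1 x) = 0 := by
      have h := congrArg Q (sub_eq_zero.1 (hz v₀ hv₀ hylv₀))
      rw [quad_smul, quad_smul, hQl, mul_zero] at h
      exact mul_self_eq_zero.1 ((mul_eq_zero.1 h).resolve_right hQv₀)
    refine ⟨polar Q (p l (g.1 x)) w, ?_⟩
    rw [← hyl]
    refine (st.nd l).prop_of_perp hylm hw hylw (st.mem l _) fun v hv hv' => ?_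
    have h := hz v hv hv'
    rw [e0, zero_smul, mul_zero, add_zero, zero_sub, neg_eq_zero, smul_eq_zero] at h
    rw [QuadraticMap.polar_comm, st.polar_p' hv]
    exact h.resolve_right hy0
  rw [hyl] at hQl
  refine ⟨polar Q (p l (g.1 x)) yl / (2 * Q yl), ?_⟩
  obtain ⟨w, hw⟩ : ∃ w, w = p l (g.1 x) - (polar Q (p l (g.1 x)) yl / (2 * Q yl)) • yl := ⟨_, rfl⟩
  have hwm : w ∈ D l := hw ▸ sub_mem (st.mem l _) ((D l).smul_mem _ hylm)
  have hwy : polar Q w yl = 0 := by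
    rw [hw, QuadraticMap.polar_sub_left, QuadraticMap.polar_smul_left, polar_self_two, smul_eq_mul,
      div_mul_cancel₀ _ (mul_ne_zero st.two (hyl ▸ hQl)), sub_self]
  have hwe : ∀ v ∈ D l, polar Q v yl = 0 → polar Q v w = polar Q v (g.1 x) := fun v hv hv' => by
    rw [hw, QuadraticMap.polar_sub_right, QuadraticMap.polar_smul_right, hv', smul_zero, sub_zero, st.polar_p' hv]
  suffices hw0 : w = 0 by
    rw [← hyl]; exact sub_eq_zero.1 (hw ▸ hw0)
  rcases Nat.lt_or_ge 3 k with hk | hk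
  · by_contra hne
    have hE := st.perp_nd hNL hg hu hu0 hQu hgu hQl
    have hd := finrank_le_inf_ker (D l) (pLin Q (p l (g.1 u)))
    rw [st.dim] at hd
    obtain ⟨e, he, hze⟩ := hE.exists_partner (x := w) ⟨hwm, hyl ▸ hwy⟩ hne
    have he' : polar Q e yl = 0 := hyl ▸ he.2
    have hA := span_of_siegel st.two hE (by omega) (⊥ : AddSubgroup V) (r := g.1 x)
      ⟨e, he, by rw [← hwe e he.1 he', QuadraticMap.polar_comm, hze]; exact one_ne_zero⟩
      (fun s hs hQs z hz hsz => AddSubgroup.mem_bot.2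
        (st.siegel_eq_zero hNL hg hu hu0 hQu hgu hs.1 hQs hz.1 hsz hs.2 hz.2 hx hux))
    have he0 : e = 0 := AddSubgroup.mem_bot.1 (hA e he)
    rw [he0, QuadraticMap.polar_zero_right] at hze
    exact zero_ne_one hze
  have hk3 : k = 3 := le_antisymm hk st.kge
  have hdl : Module.finrank F (D l) = 3 := by rw [st.dim, hk3]
  rw [← hyl] at hQl
  obtain ⟨v, hv, hyv, hQv⟩ := (st.nd l).exists_aniso_perp h3 hylm hy0
  have hvyl : polar Q v yl = 0 := by rw [QuadraticMap.polar_comm]; exact hyv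
  obtain ⟨v₂, ⟨⟨hv₂, hv₂v'⟩, hv₂y'⟩, hv₂0⟩ := (D l ⊓ LinearMap.ker (pLin Q v) ⊓
      LinearMap.ker (pLin Q yl)).exists_mem_ne_zero_of_ne_bot (fun e => by
    have d1 := finrank_le_inf_ker (D l) (pLin Q v)
    have d2 := finrank_le_inf_ker (D l ⊓ LinearMap.ker (pLin Q v)) (pLin Q yl)
    rw [e, finrank_bot] at d2
    omega)
  have hv₂v : polar Q v₂ v = 0 := hv₂v'
  have hv₂y : polar Q v₂ yl = 0 := hv₂y'
  obtain ⟨hQv₂, hbasis⟩ := (st.nd l).three hdl st.two hv hylm hv₂ hQv hQl hv₂0 hvyl hv₂v hv₂y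
  obtain ⟨r, hr0, hr, -⟩ := exists_sq_avoid st.two (-(Q v / Q v₂)) (-(Q v / Q v₂)) (Or.inr ⟨st.big hk3, rfl⟩)
  have hN : Q v + r ^ 2 * Q v₂ ≠ 0 := fun e => hr (by field_simp; linear_combination e)
  obtain ⟨h, hh, hfix, hW, -, -, hfixed⟩ := exists_reflSq (Q := Q) (p := v) (p₂ := v₂)
    (by rw [QuadraticMap.polar_comm]; exact hv₂v) hQv₂ hQv st.two hN rfl rfl rfl
  have hhM := st.reflSq_mem hh hv hv₂ hfix hW
  have hy' : h.1 (g.1 u) = g.1 u := hfix _ (by rw [← st.polar_p' hv, ← hyl, hvyl])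
    (by rw [← st.polar_p' hv₂, ← hyl, hv₂y])
  have hd : h.1 (g.1 x) - g.1 x ∈ D l := by
    have hrest : h.1 (g.1 x - p l (g.1 x)) = g.1 x - p l (g.1 x) := hfix _
      (by rw [QuadraticMap.polar_sub_right, st.polar_p' hv, sub_self])
      (by rw [QuadraticMap.polar_sub_right, st.polar_p' hv₂, sub_self])
    rw [map_sub] at hrest
    rw [show h.1 (g.1 x) - g.1 x = h.1 (p l (g.1 x)) - p l (g.1 x) by linear_combination (norm := abel) hrest]
    exact sub_mem (hW _ hv hv₂ _ (st.mem l _)) (st.mem l _)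
  obtain ⟨i1, i2⟩ := hfixed hr0 _ (st.diff_eq hNL hg hu hu0 hQu hgu hhM hy' hx hux hd)
  exact hbasis w hwm (by rw [QuadraticMap.polar_comm, hwe v hv hvyl, i1]) hwy
    (by rw [QuadraticMap.polar_comm, hwe v₂ hv₂ hv₂y, i2])

omit hu hu0 hQu hgu in
/-- each component of a bad piece has rank at most one -/
theorem rank_le (hbad : ∀ b, ∃ x ∈ D a, g.1 x ∉ D b) (l : Fin t) :
    ∃ w, ∀ x ∈ D a, ∃ c : F, p l (g.1 x) = c • w := by
  obtain ⟨u, hu, hu0, hQu, hgu⟩ := st.exists_bad hNL hg hbad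
  obtain ⟨u₀, hu₀, hQu₀, huu₀⟩ := (st.nd a).exists_opposite hu hu0 hQu
  obtain ⟨x, hx, hxu, hxu₀, hQx⟩ : ∃ x ∈ D a, polar Q u x = 0 ∧ polar Q u₀ x = 0 ∧ Q x ≠ 0 := by
    by_contra hno
    push Not at hno
    obtain ⟨U, hU⟩ : ∃ U, U = D a ⊓ LinearMap.ker (pLin Q u) ⊓ LinearMap.ker (pLin Q u₀) := ⟨_, rfl⟩
    obtain ⟨w, hw, hw0⟩ := U.exists_mem_ne_zero_of_ne_bot (fun e => by
      have d1 := finrank_le_inf_ker (D a) (pLin Q u)
      have d2 := finrank_le_inf_ker (D a ⊓ LinearMap.ker (pLin Q u)) (pLin Q u₀)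
      have := st.kge
      rw [← hU, e, finrank_bot] at d2
      rw [st.dim] at d1
      omega)
    have hsing : ∀ z ∈ U, Q z = 0 := fun z hz => by
      rw [hU] at hz
      obtain ⟨⟨hz1, hz2⟩, hz3⟩ := hz
      exact hno z hz1 (by rw [QuadraticMap.polar_comm]; exact hz2) (by rw [QuadraticMap.polar_comm]; exact hz3)
    have hw' := hw
    rw [hU] at hw'
    obtain ⟨⟨hw1, hw2⟩, hw3⟩ := hw'
    have hw2' : polar Q w u = 0 := hw2
    have hw3' : polar Q w u₀ = 0 := hw3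
    refine hw0 (st.nd a w hw1 fun e he => ?_)
    have hm : e - polar Q e u₀ • u - polar Q e u • u₀ ∈ U := by
      rw [hU]
      refine ⟨⟨sub_mem (sub_mem he ((D a).smul_mem _ hu)) ((D a).smul_mem _ hu₀), ?_⟩, ?_⟩
      · show polar Q _ u = 0
        rw [QuadraticMap.polar_sub_left, QuadraticMap.polar_sub_left, QuadraticMap.polar_smul_left,
          QuadraticMap.polar_smul_left, polar_self_of_singular Q hQu, QuadraticMap.polar_comm _ u₀ u, huu₀,
          smul_zero, sub_zero, smul_eq_mul, mul_one, sub_self]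
      · show polar Q _ u₀ = 0
        rw [QuadraticMap.polar_sub_left, QuadraticMap.polar_sub_left, QuadraticMap.polar_smul_left,
          QuadraticMap.polar_smul_left, polar_self_of_singular Q hQu₀, huu₀,
          smul_zero, sub_zero, smul_eq_mul, mul_one, sub_self]
    have h := polar_of_singular hsing hw hm
    rwa [QuadraticMap.polar_sub_right, QuadraticMap.polar_sub_right, QuadraticMap.polar_smul_right,
      QuadraticMap.polar_smul_right, hw2', hw3', smul_zero, smul_zero, sub_zero, sub_zero] at h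
  obtain ⟨s, hs⟩ : ∃ s : F → V, ∀ c, s c = u₀ + c • x + (-(c ^ 2 * Q x)) • u :=
    ⟨fun c => u₀ + c • x + (-(c ^ 2 * Q x)) • u, fun c => rfl⟩
  have hxu' : polar Q x u = 0 := by rw [QuadraticMap.polar_comm]; exact hxu
  have hxu₀' : polar Q x u₀ = 0 := by rw [QuadraticMap.polar_comm]; exact hxu₀
  have huu₀' : polar Q u₀ u = 1 := by rw [QuadraticMap.polar_comm]; exact huu₀
  have hsm : ∀ c, s c ∈ D a := fun c => by
    rw [hs]; exact add_mem (add_mem hu₀ ((D a).smul_mem _ hx)) ((D a).smul_mem _ hu)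
  have hsu : ∀ c, polar Q u (s c) = 1 := fun c => by
    simp only [hs, QuadraticMap.polar_add_right, QuadraticMap.polar_smul_right, huu₀, hxu,
      polar_self_of_singular Q hQu, smul_zero, add_zero]
  have hQs : ∀ c, Q (s c) = 0 := fun c => by
    simp only [hs, quad_map_add_smul, hQu, hQu₀, QuadraticMap.polar_add_left, QuadraticMap.polar_smul_left,
      hxu₀, hxu', huu₀', smul_eq_mul, mul_zero, add_zero, mul_one]
    ring
  have hss : ∀ c d, polar Q (s c) (s d) = -((c - d) ^ 2 * Q x) := fun c d => by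
    simp only [hs, QuadraticMap.polar_add_left, QuadraticMap.polar_add_right, QuadraticMap.polar_smul_left,
      QuadraticMap.polar_smul_right, polar_self_of_singular Q hQu, polar_self_of_singular Q hQu₀,
      hxu, hxu', hxu₀, hxu₀', huu₀, huu₀', polar_self_two, smul_eq_mul, mul_zero, add_zero, zero_add, mul_one]
    ring
  have hgood : ∀ c d : F, c ≠ d → ¬ ((∃ b, g.1 (s c) ∈ D b) ∧ ∃ b, g.1 (s d) ∈ D b) := by
    rintro c d hcd ⟨⟨b, hb⟩, b', hb'⟩
    obtain ⟨z, hz, hzb⟩ := hbad b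
    exact hzb (st.nonperp_good hNL hg (hsm c) (hQs c) (hsm d) (hQs d) (by
      rw [hss]; exact neg_ne_zero.2 (mul_ne_zero (pow_ne_zero 2 (sub_ne_zero.2 hcd)) hQx)) hb hb' z hz)
  obtain ⟨c, d, hcd, hc, hd⟩ : ∃ c d : F, c ≠ d ∧ (∀ b, g.1 (s c) ∉ D b) ∧ ∀ b, g.1 (s d) ∉ D b := by
    have h2 := st.two
    have h12 : (1 : F) ≠ 2 := fun e => one_ne_zero (by linear_combination -e : (1 : F) = 0)
    by_cases h0 : ∃ b, g.1 (s 0) ∈ D b
    · refine ⟨1, 2, h12, fun b hb => hgood 0 1 zero_ne_one ⟨h0, b, hb⟩,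
        fun b hb => hgood 0 2 (Ne.symm h2) ⟨h0, b, hb⟩⟩
    by_cases h1 : ∃ b, g.1 (s 1) ∈ D b
    · exact ⟨0, 2, Ne.symm h2, fun b hb => h0 ⟨b, hb⟩, fun b hb => hgood 1 2 h12 ⟨h1, b, hb⟩⟩
    · exact ⟨0, 1, zero_ne_one, fun b hb => h0 ⟨b, hb⟩, fun b hb => h1 ⟨b, hb⟩⟩
  have hs0 : ∀ c, s c ≠ 0 := fun c e => by
    have := hsu c
    rw [e, QuadraticMap.polar_zero_right] at this
    exact zero_ne_one this
  obtain ⟨B, hB⟩ : ∃ B : V →ₗ[F] V, ∀ z, B z = p l (g.1 z) := ⟨p l ∘ₗ g.1.toLinearMap, fun z => rfl⟩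
  -- a bad vector carries its hyperplane onto its line
  have hline : ∀ v, v ∈ D a → v ≠ 0 → Q v = 0 → (∀ b, g.1 v ∉ D b) → ∀ z ∈ D a, polar Q v z = 0 →
      ∃ r : F, B z = r • B v := fun v hv hv0 hQv hgv z hz hvz => by
    obtain ⟨r, hr⟩ := st.comp_prop hNL hg hv hv0 hQv hgv l hz hvz
    exact ⟨r, by rw [hB, hB]; exact hr⟩
  have hdep : ∀ v v', v ∈ D a → v ≠ 0 → Q v = 0 → (∀ b, g.1 v ∉ D b) → v' ∈ D a → polar Q v v' ≠ 0 →
      (∃ w, ∃ r r' : F, B v = r • w ∧ B v' = r' • w) → ∃ w, ∀ z ∈ D a, ∃ e : F, p l (g.1 z) = e • w := by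
    rintro v v' hv hv0 hQv hgv hv' hvv' ⟨w, r, r', hr, hr'⟩
    refine ⟨w, fun z hz => ?_⟩
    obtain ⟨e, he⟩ := hline v hv hv0 hQv hgv (z - (polar Q v z / polar Q v v') • v')
      (sub_mem hz ((D a).smul_mem _ hv')) (by
        rw [QuadraticMap.polar_sub_right, QuadraticMap.polar_smul_right, smul_eq_mul, div_mul_cancel₀ _ hvv',
          sub_self])
    refine ⟨e * r + polar Q v z / polar Q v v' * r', ?_⟩
    rw [map_sub, map_smul, hr, hr', smul_smul, smul_smul, hB] at he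
    rw [add_smul, ← he]
    abel
  have hkill : ∀ v v', v ∈ D a → v ≠ 0 → Q v = 0 → (∀ b, g.1 v ∉ D b) → v' ∈ D a → v' ≠ 0 → Q v' = 0 →
      (∀ b, g.1 v' ∉ D b) → (¬ ∃ w, ∃ r r' : F, B v = r • w ∧ B v' = r' • w) →
      ∀ z ∈ D a, polar Q v z = 0 → polar Q v' z = 0 → B z = 0 := by
    intro v v' hv hv0 hQv hgv hv' hv'0 hQv' hgv' hind z hz hvz hv'z
    obtain ⟨r, hr⟩ := hline v hv hv0 hQv hgv z hz hvz
    obtain ⟨r', hr'⟩ := hline v' hv' hv'0 hQv' hgv' z hz hv'z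
    rcases eq_or_ne r 0 with rfl | hr0
    · rw [hr, zero_smul]
    · refine absurd ⟨B v', r⁻¹ * r', 1, ?_, (one_smul F _).symm⟩ hind
      rw [mul_smul, ← hr', hr, inv_smul_smul₀ hr0]
  have hσ : polar Q (s c) (s d) ≠ 0 := by
    rw [hss]; exact neg_ne_zero.2 (mul_ne_zero (pow_ne_zero 2 (sub_ne_zero.2 hcd)) hQx)
  by_cases d1 : ∃ w, ∃ r r' : F, B u = r • w ∧ B (s c) = r' • w
  · exact hdep u (s c) hu hu0 hQu hgu (hsm c) (by rw [hsu]; exact one_ne_zero) d1
  by_cases d2 : ∃ w, ∃ r r' : F, B u = r • w ∧ B (s d) = r' • w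
  · exact hdep u (s d) hu hu0 hQu hgu (hsm d) (by rw [hsu]; exact one_ne_zero) d2
  exfalso
  obtain ⟨σ, hσe⟩ : ∃ σ, σ = polar Q (s c) (s d) := ⟨_, rfl⟩
  have hsc : polar Q (s c) u = 1 := by rw [QuadraticMap.polar_comm, hsu]
  have hsd : polar Q (s d) u = 1 := by rw [QuadraticMap.polar_comm, hsu]
  have k1 := hkill u (s d) hu hu0 hQu hgu (hsm d) (hs0 d) (hQs d) hd d2 (s c - s d + (-σ) • u)
    (add_mem (sub_mem (hsm c) (hsm d)) ((D a).smul_mem _ hu))
    (by simp only [QuadraticMap.polar_add_right, QuadraticMap.polar_sub_right, QuadraticMap.polar_smul_right,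
      hsu, polar_self_of_singular Q hQu, smul_zero, add_zero, sub_self])
    (by simp only [QuadraticMap.polar_add_right, QuadraticMap.polar_sub_right, QuadraticMap.polar_smul_right,
      QuadraticMap.polar_comm Q (s d) (s c), polar_self_of_singular Q (hQs d), hsd, smul_eq_mul, ← hσe] <;> ring)
  have k2 := hkill u (s c) hu hu0 hQu hgu (hsm c) (hs0 c) (hQs c) hc d1 (s c - s d + σ • u)
    (add_mem (sub_mem (hsm c) (hsm d)) ((D a).smul_mem _ hu))
    (by simp only [QuadraticMap.polar_add_right, QuadraticMap.polar_sub_right, QuadraticMap.polar_smul_right,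
      hsu, polar_self_of_singular Q hQu, smul_zero, add_zero, sub_self])
    (by simp only [QuadraticMap.polar_add_right, QuadraticMap.polar_sub_right, QuadraticMap.polar_smul_right,
      polar_self_of_singular Q (hQs c), hsc, smul_eq_mul, ← hσe] <;> ring)
  have k3 : B ((2 * σ) • u) = 0 := by
    rw [show (2 * σ) • u = (s c - s d + σ • u) - (s c - s d + (-σ) • u) by module, map_sub, k2, k1, sub_zero]
  rw [map_smul, smul_eq_zero] at k3
  have hBu : B u = 0 := k3.resolve_left (mul_ne_zero st.two (hσe ▸ hσ))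
  exact d1 ⟨B (s c), 0, 1, by rw [hBu, zero_smul], (one_smul F _).symm⟩

omit hg hu hu0 hQu hgu in
/-- Without links the pieces are permuted. -/
theorem stab_of_noLink {g : quadIsoms Q} (hg : g ∈ M) : Stab D g := by
  by_contra hns
  simp only [Stab, not_forall, not_exists] at hns
  obtain ⟨a, hbad'⟩ := hns
  have hbad : ∀ b, ∃ x ∈ D a, g.1 x ∉ D b := fun b => by
    obtain ⟨x, hx, hxb⟩ := hbad' b
    exact ⟨x, hx, hxb⟩
  obtain ⟨u, hu, hu0, -, -⟩ := st.exists_bad hNL hg hbad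
  obtain ⟨l, hl⟩ : ∃ l, p l (g.1 u) ≠ 0 := by
    by_contra hno
    push Not at hno
    exact apply_ne_zero g hu0 (by rw [← st.sum (g.1 u), Finset.sum_eq_zero fun l _ => hno l])
  obtain ⟨w, hw⟩ := st.rank_le hNL hg hbad l
  obtain ⟨c₀, hc₀⟩ := hw u hu
  have hc₀0 : c₀ ≠ 0 := fun e => hl (by rw [hc₀, e, zero_smul])
  have hwm : w ∈ D l := by
    have := (D l).smul_mem c₀⁻¹ (hc₀ ▸ st.mem l (g.1 u) : c₀ • w ∈ D l)
    rwa [inv_smul_smul₀ hc₀0] at this
  have hw0 : w ≠ 0 := fun e => hl (by rw [hc₀, e, smul_zero])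
  obtain ⟨v, hv, hwv⟩ := (st.nd l).exists_partner hwm hw0
  -- vectors of `D l` orthogonal to `w` are fixed
  have hperp : ∀ z ∈ D l, polar Q w z = 0 → ∀ x ∈ D a, polar Q x ((g⁻¹).1 z) = 0 := by
    intro z hz hwz x hx
    rw [← polar_map g, apply_inv, ← st.polar_p (g.1 x) hz]
    obtain ⟨c, hc⟩ := hw x hx
    rw [hc, QuadraticMap.polar_smul_left, hwz, smul_zero]
  obtain ⟨z₁, ⟨hz₁, hz₁w'⟩, hz₁0⟩ := (D l ⊓ LinearMap.ker (pLin Q w)).exists_mem_ne_zero_of_ne_bot (fun e => by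
    have d1 := finrank_le_inf_ker (D l) (pLin Q w)
    have := st.kge
    rw [e, finrank_bot, st.dim] at d1
    omega)
  have hz₁w : polar Q w z₁ = 0 := by rw [QuadraticMap.polar_comm]; exact hz₁w'
  obtain ⟨z₂, ⟨hz₂, hz₂w'⟩, hz₂s⟩ : ∃ z₂ ∈ D l ⊓ LinearMap.ker (pLin Q w), z₂ ∉ Submodule.span F {z₁} := by
    by_contra hno
    push Not at hno
    have d1 := finrank_le_inf_ker (D l) (pLin Q w)
    have d2 := Submodule.finrank_mono (fun z hz => hno z hz :
      D l ⊓ LinearMap.ker (pLin Q w) ≤ Submodule.span F {z₁})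
    have := st.kge
    rw [finrank_span_singleton hz₁0] at d2
    rw [st.dim] at d1
    omega
  have hz₂w : polar Q w z₂ = 0 := by rw [QuadraticMap.polar_comm]; exact hz₂w'
  have hA : ∀ x ∈ D a, x ∈ (D a ⊓ (D l).comap g.1.toLinearMap).toAddSubgroup := by
    refine span_of_siegel st.two (st.nd a) (by rw [st.dim]; exact st.kge) _ (r := (g⁻¹).1 v) ⟨u, hu, ?_⟩ ?_
    · rw [← polar_map g, apply_inv, ← st.polar_p (g.1 u) hv, hc₀, QuadraticMap.polar_smul_left, hwv]
      simpa using hc₀0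
    intro s hs hQs x hx hsx
    obtain ⟨T, hT⟩ : ∃ T, T = g * siegel Q s x * g⁻¹ := ⟨_, rfl⟩
    have hTM : T ∈ M := hT ▸ mul_mem (mul_mem hg (st.siegel_mem hs hQs hx hsx)) (inv_mem hg)
    have hTz : ∀ z, T.1 z = g.1 ((siegel Q s x).1 ((g⁻¹).1 z)) := fun z => by rw [hT]; rfl
    have hfix : ∀ z ∈ D l, polar Q w z = 0 → T.1 z = z := fun z hz hwz => by
      rw [hTz, siegel_apply Q hQs hsx, hperp z hz hwz s hs, hperp z hz hwz x hx]
      simp only [zero_smul, add_zero, mul_zero, sub_zero]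
      exact apply_inv g z
    obtain ⟨b, hb⟩ : ∃ b, ∀ z ∈ D l, T.1 z ∈ D b := by
      by_contra hno
      push Not at hno
      obtain ⟨w', hw'⟩ := st.rank_le hNL hTM hno l
      obtain ⟨c₁, hc₁⟩ := hw' z₁ hz₁
      obtain ⟨c₂, hc₂⟩ := hw' z₂ hz₂
      rw [hfix z₁ hz₁ hz₁w, st.p_self hz₁] at hc₁
      rw [hfix z₂ hz₂ hz₂w, st.p_self hz₂] at hc₂
      have hc₁0 : c₁ ≠ 0 := fun e => hz₁0 (by rw [hc₁, e, zero_smul])
      exact hz₂s (Submodule.mem_span_singleton.2 ⟨c₂ * c₁⁻¹, by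
        rw [hc₁, hc₂, smul_smul, inv_mul_cancel_right₀ hc₁0]⟩)
    obtain rfl : b = l := st.block_eq (by have := hb z₁ hz₁; rwa [hfix z₁ hz₁ hz₁w] at this) hz₁ hz₁0
    have hd := sub_mem (hb v hv) hv
    refine ⟨sub_mem ((D a).smul_mem _ hx) ((D a).smul_mem _ hs), ?_⟩
    show g.1 _ ∈ D b
    rw [hTz, siegel_apply Q hQs hsx, map_sub, map_add, apply_inv] at hd
    rw [map_sub]
    convert hd using 1
    abel
  obtain ⟨x, hx, hxl⟩ := hbad l
  exact hxl (hA x hx).2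

omit hNL hg hu hu0 hQu hgu in
/-- Overgroups of the stabiliser are in the stabiliser or contain the commutator subgroup. -/
theorem dichotomy {g : quadIsoms Q} (hg : g ∈ M) (hns : ¬ Stab D g) : commutator (quadIsoms Q) ≤ M := by
  by_cases hlink : NoLink M D p
  · exact absurd (st.stab_of_noLink hlink hg) hns
  simp only [NoLink, not_forall] at hlink
  obtain ⟨a, l, hal, u, hu, hu0, hQu, w, hw, hwl⟩ := hlink
  exact st.le_of_link hal hu hu0 hQu hw hwl

end Setting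

end CfsgLib.MaxSub.OFrame
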