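import Cfsg.Agent.Lib.MaxSub.OrthPolar
import Cfsg.Agent.Lib.MaxSub.OrthSing

/-!
Tools for orthogonal decompositions in odd characteristic: additive groups invariant under the Siegel
transformations of a piece, and squares of products of two reflections.
-/

set_option autoImplicit false
set_option linter.unusedSectionVars false

namespace CfsgLib.MaxSub.OFrame

open CfsgLib.Classical CfsgLib.Geom CfsgLib.MaxSub
open QuadraticMap (polar)

variable {F V : Type*} [Field F] [AddCommGroup V] [Module F V] {Q : QuadraticForm F V}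

/-- a subspace on which the polar form is non-degenerate -/
def NdOn (Q : QuadraticForm F V) (E : Submodule F V) : Prop :=
  ∀ x ∈ E, (∀ y ∈ E, polar Q x y = 0) → x = 0

theorem NdOn.exists_partner {E : Submodule F V} (hE : NdOn Q E) {x : V} (hx : x ∈ E) (hx0 : x ≠ 0) :
    ∃ z ∈ E, polar Q x z = 1 := by
  obtain ⟨y, hy, hxy⟩ : ∃ y ∈ E, polar Q x y ≠ 0 := by
    by_contra h
    push Not at h
    exact hx0 (hE x hx h)
  exact ⟨(polar Q x y)⁻¹ • y, E.smul_mem _ hy, by
    rw [QuadraticMap.polar_smul_right, smul_eq_mul, inv_mul_cancel₀ hxy]⟩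

theorem NdOn.prop_of_perp {E : Submodule F V} (hE : NdOn Q E) {s z w : V} (hs : s ∈ E) (hz : z ∈ E)
    (hsz : polar Q s z = 1) (hw : w ∈ E) (h : ∀ x ∈ E, polar Q s x = 0 → polar Q w x = 0) :
    w = polar Q w z • s := by
  refine sub_eq_zero.1 (hE _ (sub_mem hw (E.smul_mem _ hs)) fun e he => ?_)
  have h1 := h (e - polar Q s e • z) (sub_mem he (E.smul_mem _ hz)) (by
    rw [QuadraticMap.polar_sub_right, QuadraticMap.polar_smul_right, hsz, smul_eq_mul, mul_one, sub_self])
  rw [QuadraticMap.polar_sub_right, QuadraticMap.polar_smul_right, smul_eq_mul] at h1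
  rw [QuadraticMap.polar_sub_left, QuadraticMap.polar_smul_left, smul_eq_mul]
  linear_combination h1

/-- an isotropic line meets an opposite singular vector -/
theorem NdOn.exists_opposite {E : Submodule F V} (hE : NdOn Q E) {s : V} (hs : s ∈ E) (hs0 : s ≠ 0)
    (hQs : Q s = 0) : ∃ z ∈ E, Q z = 0 ∧ polar Q s z = 1 := by
  obtain ⟨z, hz, hsz⟩ := hE.exists_partner hs hs0
  refine ⟨z + (-Q z) • s, add_mem hz (E.smul_mem _ hs), ?_, ?_⟩
  · rw [quad_map_add_smul, hQs, QuadraticMap.polar_comm _ z s, hsz]; ring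
  · rw [QuadraticMap.polar_add_right, QuadraticMap.polar_smul_right, polar_self_of_singular Q hQs,
      smul_zero, add_zero, hsz]

variable [FiniteDimensional F V] [Finite F]

theorem NdOn.exists_aniso_perp {E : Submodule F V} (hE : NdOn Q E) (h3 : 3 ≤ Module.finrank F E) {s : V}
    (hs : s ∈ E) (hs0 : s ≠ 0) : ∃ x ∈ E, polar Q s x = 0 ∧ Q x ≠ 0 := by
  by_contra hno
  push Not at hno
  obtain ⟨z, hz, hsz⟩ := hE.exists_partner hs hs0
  have hle : E ⊓ LinearMap.ker (pLin Q s) ≤ Submodule.span F {s} := by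
    rintro w ⟨hw, hws⟩
    have hws' : polar Q w s = 0 := hws
    refine Submodule.mem_span_singleton.2 ⟨_, (hE.prop_of_perp hs hz hsz hw fun x hx hsx => ?_).symm⟩
    refine polar_of_singular (A := E ⊓ LinearMap.ker (pLin Q s)) (fun u hu => hno u hu.1 ?_)
      ⟨hw, hws⟩ ⟨hx, ?_⟩
    · have : polar Q u s = 0 := hu.2
      rwa [QuadraticMap.polar_comm]
    · show polar Q x s = 0
      rwa [QuadraticMap.polar_comm]
  have h1 := finrank_le_inf_ker E (pLin Q s)
  have h2 := Submodule.finrank_mono hle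
  rw [finrank_span_singleton hs0] at h2
  omega

/-- An additive group containing all `siegel s x r - r` with `s`, `x` in `E` contains `E`. -/
theorem span_of_siegel (h2 : (2 : F) ≠ 0) {E : Submodule F V} (hE : NdOn Q E)
    (h3 : 3 ≤ Module.finrank F E) (A : AddSubgroup V) {r : V} (hr : ∃ e ∈ E, polar Q e r ≠ 0)
    (hA : ∀ s ∈ E, Q s = 0 → ∀ x ∈ E, polar Q s x = 0 →
      polar Q s r • x - (polar Q x r + Q x * polar Q s r) • s ∈ A) : ∀ e ∈ E, e ∈ A := by
  have half : ∀ s ∈ E, Q s = 0 → s ≠ 0 → polar Q s r ≠ 0 →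
      ∀ x ∈ E, polar Q s x = 0 → x ∈ A := by
    intro s hs hQs hs0 hσ
    obtain ⟨x₀, hx₀, hsx₀, hQx₀⟩ := hE.exists_aniso_perp h3 hs hs0
    have hsq : ∀ c : F, ((c * c) * (-2 * Q x₀ * polar Q s r)) • s ∈ A := by
      intro c
      have h1 := add_mem (hA s hs hQs (c • x₀) (E.smul_mem _ hx₀) (by
        rw [QuadraticMap.polar_smul_right, hsx₀, smul_zero]))
        (hA s hs hQs ((-c) • x₀) (E.smul_mem _ hx₀) (by
        rw [QuadraticMap.polar_smul_right, hsx₀, smul_zero]))
      convert h1 using 1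
      rw [quad_smul, quad_smul, QuadraticMap.polar_smul_left, QuadraticMap.polar_smul_left]
      simp only [smul_eq_mul]
      module
    have hline : ∀ b : F, b • s ∈ A := by
      intro b
      obtain ⟨d, hd⟩ : ∃ d, d = -2 * Q x₀ * polar Q s r := ⟨_, rfl⟩
      have hd0 : d ≠ 0 := by
        rw [hd]; exact mul_ne_zero (mul_ne_zero (neg_ne_zero.2 h2) hQx₀) hσ
      have h4 : (4 : F) ≠ 0 := by
        rw [show (4 : F) = 2 * 2 by norm_num]; exact mul_ne_zero h2 h2
      have h1 := sub_mem (hsq ((b / d + 1) / 2)) (hsq ((b / d - 1) / 2))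
      rw [← hd, ← sub_smul] at h1
      rwa [show (b / d + 1) / 2 * ((b / d + 1) / 2) * d - (b / d - 1) / 2 * ((b / d - 1) / 2) * d = b by
        field_simp; ring] at h1
    intro x hx hsx
    obtain ⟨y, hy⟩ : ∃ y, y = (polar Q s r)⁻¹ • x := ⟨_, rfl⟩
    have h1 := add_mem (hA s hs hQs y (hy ▸ E.smul_mem _ hx) (by
      rw [hy, QuadraticMap.polar_smul_right, hsx, smul_zero])) (hline (polar Q y r + Q y * polar Q s r))
    rwa [sub_add_cancel, hy, smul_inv_smul₀ hσ] at h1
  -- singular vectors not orthogonal to `r`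
  have step : ∀ s ∈ E, Q s = 0 → s ≠ 0 → ∀ z ∈ E, Q z = 0 → polar Q s z = 1 → polar Q z r = 0 →
      ∀ x ∈ E, polar Q s x = 0 →
      (∀ w ∈ E, Q w = 0 → polar Q s w ≠ 0 → polar Q w r = 0) →
      polar Q x r = (Q x + polar Q z x) * polar Q s r := by
    intro s hs hQs hs0 z hz hQz hsz hzr x hx hsx h
    obtain ⟨μ, hμ⟩ : ∃ μ, μ = Q x + polar Q z x := ⟨_, rfl⟩
    have h1 : polar Q s (z + x + (-μ) • s) = 1 := by
      rw [QuadraticMap.polar_add_right, QuadraticMap.polar_add_right, QuadraticMap.polar_smul_right,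
        polar_self_of_singular Q hQs, hsz, hsx, smul_zero, add_zero, add_zero]
    have h2' := h (z + x + (-μ) • s) (add_mem (add_mem hz hx) (E.smul_mem _ hs)) (by
      rw [quad_map_add_smul, hQs, QuadraticMap.map_add (Q : QuadraticMap F V F), hQz,
        QuadraticMap.polar_add_left, QuadraticMap.polar_comm _ z s, hsz, QuadraticMap.polar_comm _ x s, hsx, hμ]
      ring) (by rw [h1]; exact one_ne_zero)
    rw [QuadraticMap.polar_add_left, QuadraticMap.polar_add_left, QuadraticMap.polar_smul_left, hzr,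
      smul_eq_mul] at h2'
    rw [← hμ]
    linear_combination h2'
  obtain ⟨s₀, hs₀, hs₀0, hQs₀⟩ := exists_singular_in (Q := Q) (W := E) h3
  obtain ⟨s, hs, hs0, hQs, hσ⟩ : ∃ s ∈ E, s ≠ 0 ∧ Q s = 0 ∧ polar Q s r ≠ 0 := by
    by_contra hno
    push Not at hno
    obtain ⟨z, hz, hQz, hsz⟩ := hE.exists_opposite hs₀ hs₀0 hQs₀
    have hzr : polar Q z r = 0 := hno z hz (fun e => by simp [e] at hsz) hQz
    obtain ⟨e, he, her⟩ := hr
    have h1 := step s₀ hs₀ hQs₀ hs₀0 z hz hQz hsz hzr (e - polar Q s₀ e • z)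
      (sub_mem he (E.smul_mem _ hz)) (by
        rw [QuadraticMap.polar_sub_right, QuadraticMap.polar_smul_right, hsz, smul_eq_mul, mul_one, sub_self])
      fun w hw hQw hsw => hno w hw (fun e => by simp [e] at hsw) hQw
    rw [hno s₀ hs₀ hs₀0 hQs₀, mul_zero, QuadraticMap.polar_sub_left, QuadraticMap.polar_smul_left, hzr,
      smul_zero, sub_zero] at h1
    exact her h1
  obtain ⟨s', hs', hs'0, hQs', hσ', hss'⟩ : ∃ s' ∈ E, s' ≠ 0 ∧ Q s' = 0 ∧ polar Q s' r ≠ 0 ∧
      polar Q s s' ≠ 0 := by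
    by_contra hno
    push Not at hno
    obtain ⟨z, hz, hQz, hsz⟩ := hE.exists_opposite hs hs0 hQs
    have hn : ∀ w ∈ E, Q w = 0 → polar Q s w ≠ 0 → polar Q w r = 0 := fun w hw hQw hsw => by
      by_contra hwr
      exact hsw (hno w hw (fun e => by simp [e] at hsw) hQw hwr)
    have hzr : polar Q z r = 0 := hn z hz hQz (by rw [hsz]; exact one_ne_zero)
    obtain ⟨x, hx, hsx, hQx⟩ := hE.exists_aniso_perp h3 hs hs0
    have e1 := step s hs hQs hs0 z hz hQz hsz hzr x hx hsx hn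
    have e2 := step s hs hQs hs0 z hz hQz hsz hzr (-x) (neg_mem hx) (by
      rw [QuadraticMap.polar_neg_right, hsx, neg_zero]) hn
    rw [QuadraticMap.polar_neg_left, QuadraticMap.polar_neg_right, QuadraticMap.map_neg] at e2
    have : 2 * Q x * polar Q s r = 0 := by linear_combination -e1 - e2
    exact mul_ne_zero (mul_ne_zero h2 hQx) hσ this
  intro e he
  -- split along the two hyperplanes
  obtain ⟨x, hx, hsx, hs'x⟩ : ∃ x ∈ E, polar Q s x = 0 ∧ polar Q s' x ≠ 0 := by
    by_contra hno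
    push Not at hno
    obtain ⟨z, hz, hsz⟩ := hE.exists_partner hs hs0
    have := hE.prop_of_perp hs hz hsz hs' hno
    rw [this, QuadraticMap.polar_smul_right, polar_self_of_singular Q hQs, smul_zero] at hss'
    exact hss' rfl
  obtain ⟨c, hc⟩ : ∃ c, c = polar Q s' e / polar Q s' x := ⟨_, rfl⟩
  have h1 : e - c • x ∈ A := half s' hs' hQs' hs'0 hσ' _ (sub_mem he (E.smul_mem _ hx)) (by
    rw [QuadraticMap.polar_sub_right, QuadraticMap.polar_smul_right, hc, smul_eq_mul, div_mul_cancel₀ _ hs'x,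
      sub_self])
  have h2' := half s hs hQs hs0 hσ (c • x) (E.smul_mem _ hx) (by
    rw [QuadraticMap.polar_smul_right, hsx, smul_zero])
  simpa using add_mem h1 h2'

omit [FiniteDimensional F V] [Finite F] in
/-- the commutator of two reflections in a plane -/
theorem exists_reflSq {p p₂ : V} (hpp : polar Q p p₂ = 0) (hb : Q p₂ ≠ 0) (ha : Q p ≠ 0) {l α β γ : F}
    (h2 : (2 : F) ≠ 0) (hN : Q p + l ^ 2 * Q p₂ ≠ 0)
    (hα : α = (Q p - l ^ 2 * Q p₂) / (Q p + l ^ 2 * Q p₂))
    (hβ : β = -(2 * Q p * l) / (Q p + l ^ 2 * Q p₂))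
    (hγ : γ = 2 * l * Q p₂ / (Q p + l ^ 2 * Q p₂)) :
    ∃ h ∈ commutator (quadIsoms Q),
      (∀ z, polar Q p z = 0 → polar Q p₂ z = 0 → h.1 z = z) ∧
      (∀ W : Submodule F V, p ∈ W → p₂ ∈ W → ∀ z ∈ W, h.1 z ∈ W) ∧
      h.1 p = (α * α + β * γ) • p + (2 * α * β) • p₂ ∧
      h.1 p₂ = (2 * α * γ) • p + (α * α + β * γ) • p₂ ∧
      (l ≠ 0 → ∀ z, h.1 z = z → polar Q p z = 0 ∧ polar Q p₂ z = 0) := by
  obtain ⟨p', hp'⟩ : ∃ p', p' = p + l • p₂ := ⟨_, rfl⟩
  have hQp' : Q p' = Q p + l ^ 2 * Q p₂ := by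
    rw [hp', quad_map_add_smul, hpp]; ring
  have hN' : Q p' ≠ 0 := by rw [hQp']; exact hN
  obtain ⟨R, hR⟩ : ∃ R : quadIsoms Q, R = ⟨reflEquiv Q p ha, reflEquiv_mem Q p ha⟩ := ⟨_, rfl⟩
  obtain ⟨R', hR'⟩ : ∃ R' : quadIsoms Q, R' = ⟨reflEquiv Q p' hN', reflEquiv_mem Q p' hN'⟩ := ⟨_, rfl⟩
  have hRi : R⁻¹ = R := Subtype.ext (by rw [hR]; exact reflEquiv_inv Q p ha)
  have hR'i : R'⁻¹ = R' := Subtype.ext (by rw [hR']; exact reflEquiv_inv Q p' hN')
  have hr : ∀ z, R.1 z = z - ((Q p)⁻¹ * polar Q p z) • p := fun z => by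
    rw [hR]; exact reflEquiv_apply Q p ha z
  have hr' : ∀ z, R'.1 z = z - ((Q p')⁻¹ * polar Q p' z) • p' := fun z => by
    rw [hR']; exact reflEquiv_apply Q p' hN' z
  have hhz : ∀ z, (R * R' * R⁻¹ * R'⁻¹).1 z = R.1 (R'.1 (R.1 (R'.1 z))) := fun z => by
    rw [hRi, hR'i]; rfl
  have e1 : R.1 (R'.1 p) = α • p + β • p₂ := by
    rw [hr', hr, QuadraticMap.polar_sub_right, QuadraticMap.polar_smul_right, hQp', hp',
      QuadraticMap.polar_add_left, QuadraticMap.polar_smul_left, QuadraticMap.polar_add_right,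
      QuadraticMap.polar_smul_right, polar_self_two, QuadraticMap.polar_comm _ p₂ p, hpp, hα, hβ]
    simp only [smul_eq_mul, mul_zero, add_zero]
    match_scalars <;> field_simp <;> ring
  have e2 : R.1 (R'.1 p₂) = γ • p + α • p₂ := by
    rw [hr', hr, QuadraticMap.polar_sub_right, QuadraticMap.polar_smul_right, hQp', hp',
      QuadraticMap.polar_add_left, QuadraticMap.polar_smul_left, QuadraticMap.polar_add_right,
      QuadraticMap.polar_smul_right, polar_self_two, polar_self_two, hpp, hα, hγ]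
    simp only [smul_eq_mul, mul_zero, add_zero, zero_add]
    match_scalars <;> field_simp <;> ring
  refine ⟨_, Subgroup.commutator_mem_commutator (Subgroup.mem_top R) (Subgroup.mem_top R'),
    fun z h1 h1' => ?_, fun W hW hW₂ z hz => ?_, ?_, ?_, fun hl z hz => ?_⟩
  · show (R * R' * R⁻¹ * R'⁻¹).1 z = z
    have a1 : R'.1 z = z := by
      rw [hr', hp', QuadraticMap.polar_add_left, QuadraticMap.polar_smul_left, h1, h1', smul_zero, add_zero,
        mul_zero, zero_smul, sub_zero]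
    have a2 : R.1 z = z := by rw [hr, h1, mul_zero, zero_smul, sub_zero]
    rw [hhz, a1, a2, a1, a2]
  · show (R * R' * R⁻¹ * R'⁻¹).1 z ∈ W
    have hW' : p' ∈ W := hp' ▸ add_mem hW (W.smul_mem _ hW₂)
    have a1 : ∀ x ∈ W, R'.1 x ∈ W := fun x hx => by rw [hr']; exact sub_mem hx (W.smul_mem _ hW')
    have a2 : ∀ x ∈ W, R.1 x ∈ W := fun x hx => by rw [hr]; exact sub_mem hx (W.smul_mem _ hW)
    rw [hhz]; exact a2 _ (a1 _ (a2 _ (a1 z hz)))
  · show (R * R' * R⁻¹ * R'⁻¹).1 p = _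
    rw [hhz, e1, map_add, map_smul, map_smul, map_add, map_smul, map_smul, e1, e2]
    module
  · show (R * R' * R⁻¹ * R'⁻¹).1 p₂ = _
    rw [hhz, e2, map_add, map_smul, map_smul, map_add, map_smul, map_smul, e1, e2]
    module
  · have hz' : R.1 (R'.1 (R.1 (R'.1 z))) = z := (hhz z).symm.trans hz
    have hRR : ∀ x, R.1 (R.1 x) = x := fun x => by rw [hR]; exact reflLin_reflLin Q ha x
    have hR'R' : ∀ x, R'.1 (R'.1 x) = x := fun x => by rw [hR']; exact reflLin_reflLin Q hN' x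
    have heq : R.1 (R'.1 z) = R'.1 (R.1 z) := by
      have := congrArg (fun x => R'.1 (R.1 x)) hz'
      simpa only [hRR, hR'R'] using this
    rw [hr', hr, hr, hr', QuadraticMap.polar_sub_right, QuadraticMap.polar_smul_right,
      QuadraticMap.polar_sub_right, QuadraticMap.polar_smul_right] at heq
    have hσ : polar Q p p' = 2 * Q p := by
      rw [hp', QuadraticMap.polar_add_right, QuadraticMap.polar_smul_right, hpp, polar_self_two, smul_zero,
        add_zero]
    rw [QuadraticMap.polar_comm _ p' p, hσ] at heq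
    simp only [smul_eq_mul] at heq
    obtain ⟨c, hc⟩ : ∃ c, c = (Q p')⁻¹ * (Q p)⁻¹ * (2 * Q p) := ⟨_, rfl⟩
    have hv : (c * polar Q p' z) • p = (c * polar Q p z) • p' := by
      rw [hc]
      linear_combination (norm := module) heq
    have hc0 : c ≠ 0 := by
      rw [hc]; exact mul_ne_zero (mul_ne_zero (inv_ne_zero hN') (inv_ne_zero ha)) (mul_ne_zero h2 ha)
    have i1 := congrArg (fun x => polar Q p₂ x) hv
    simp only [hp', QuadraticMap.polar_smul_right, QuadraticMap.polar_add_right, polar_self_two,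
      QuadraticMap.polar_comm _ p₂ p, hpp, smul_eq_mul, mul_zero, zero_add] at i1
    have hP : polar Q p z = 0 := by
      by_contra hne
      exact mul_ne_zero (mul_ne_zero hc0 hne) (mul_ne_zero hl (mul_ne_zero h2 hb)) i1.symm
    refine ⟨hP, ?_⟩
    rw [hP, mul_zero, zero_smul] at hv
    have hp0 : p ≠ 0 := fun e => ha (by rw [e, QuadraticMap.map_zero])
    have h5 : c * polar Q p' z = 0 := (smul_eq_zero.1 hv).resolve_right hp0
    rw [hp', QuadraticMap.polar_add_left, QuadraticMap.polar_smul_left, hP, zero_add, smul_eq_mul] at h5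
    exact (mul_eq_zero.1 ((mul_eq_zero.1 h5).resolve_left hc0)).resolve_left hl

theorem card_sq_le (h2 : (2 : F) ≠ 0) [Fintype F] [DecidableEq F] (c : F) :
    (Finset.univ.filter fun l : F => l ^ 2 = c).card ≤ 2 := by
  rcases (Finset.univ.filter fun l : F => l ^ 2 = c).eq_empty_or_nonempty with h | ⟨μ, hμ⟩
  · rw [h, Finset.card_empty]; omega
  refine le_trans (Finset.card_le_card fun x hx => ?_) (Finset.card_le_two (a := μ) (b := -μ))
  simp only [Finset.mem_filter, Finset.mem_univ, true_and] at hμ hx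
  simp only [Finset.mem_insert, Finset.mem_singleton]
  exact sq_eq_sq_iff_eq_or_eq_neg.1 (hx.trans hμ.symm)

/-- a non-zero element whose square avoids two values -/
theorem exists_sq_avoid (h2 : (2 : F) ≠ 0) (c d : F) (h : 5 < Nat.card F ∨ (5 ≤ Nat.card F ∧ c = d)) :
    ∃ l : F, l ≠ 0 ∧ l ^ 2 ≠ c ∧ l ^ 2 ≠ d := by
  classical
  haveI := Fintype.ofFinite F
  rw [Nat.card_eq_fintype_card] at h
  by_contra hno
  push Not at hno
  obtain ⟨S, hS⟩ : ∃ S : F → Finset F, S = fun c => Finset.univ.filter fun l : F => l ^ 2 = c := ⟨_, rfl⟩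
  have hsub : Finset.univ ⊆ insert (0 : F) (S c ∪ S d) := fun l _ => by
    by_cases hl : l = 0
    · simp [hl]
    · by_cases hc : l ^ 2 = c
      · simp [hS, hc]
      · simp [hS, hno l hl hc]
  have h1 := Finset.card_le_card hsub
  have h3 := Finset.card_insert_le (0 : F) (S c ∪ S d)
  have h4 := Finset.card_union_le (S c) (S d)
  have hc2 : (S c).card ≤ 2 := by rw [hS]; exact card_sq_le h2 c
  have hd2 : (S d).card ≤ 2 := by rw [hS]; exact card_sq_le h2 d
  rw [Finset.card_univ] at h1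
  rcases h with h | ⟨h, rfl⟩
  · omega
  · rw [Finset.union_self] at h1 h3; omega

omit [FiniteDimensional F V] in
/-- the field with five elements -/
theorem five_cases (h : Nat.card F = 5) :
    (5 : F) = 0 ∧ ∀ x : F, x = 0 ∨ x = 1 ∨ x = 2 ∨ x = 3 ∨ x = 4 := by
  classical
  haveI := Fintype.ofFinite F
  rw [Nat.card_eq_fintype_card] at h
  have h5 : (5 : F) = 0 := by
    have := Nat.cast_card_eq_zero F
    rw [h] at this; exact_mod_cast this
  haveI : Fact (Nat.Prime 5) := ⟨Nat.prime_five⟩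
  haveI : CharP F 5 := (CharP.charP_iff_prime_eq_zero Nat.prime_five).2 (by exact_mod_cast h5)
  have hbij := (Fintype.bijective_iff_injective_and_card (fun i : Fin 5 => ((i : ℕ) : F))).2
    ⟨fun i j hij => Fin.ext ((CharP.natCast_injOn_Iio F 5) i.2 j.2 hij), by simp [h]⟩
  refine ⟨h5, fun x => ?_⟩
  obtain ⟨i, rfl⟩ := hbij.2 x
  fin_cases i <;> simp

end CfsgLib.MaxSub.OFrame
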