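import Cfsg.Agent.Lib.MaxSub.OFrame

/-!
Overgroups without links: the single-piece lemma for pieces of dimension three.
-/

set_option autoImplicit false
set_option linter.unusedSectionVars false

namespace CfsgLib.MaxSub.OFrame

open CfsgLib.Classical CfsgLib.Geom CfsgLib.Geom.OrthSub CfsgLib.MaxSub
open QuadraticMap (polar)

variable {F V : Type*} [Field F] [AddCommGroup V] [Module F V] {Q : QuadraticForm F V} {t : ℕ}

theorem inv_apply' (g : quadIsoms Q) (x : V) : (g⁻¹).1 (g.1 x) = x := by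
  have : g⁻¹ * g = 1 := inv_mul_cancel g
  exact congrArg (fun k : quadIsoms Q => k.1 x) this

/-- no Siegel transformation in `M` links two pieces -/
def NoLink (M : Subgroup (quadIsoms Q)) (D : Fin t → Submodule F V) (p : Fin t → V →ₗ[F] V) : Prop :=
  ∀ a l, a ≠ l → ∀ u ∈ D a, u ≠ 0 → Q u = 0 → ∀ w, InW M u w → p l w = 0

/-- orthogonal anisotropic vectors in a three-dimensional non-degenerate space -/
theorem NdOn.three [FiniteDimensional F V] {E : Submodule F V} (hE : NdOn Q E) (h3 : Module.finrank F E = 3)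
    (h2 : (2 : F) ≠ 0) {a b c : V} (ha : a ∈ E) (hb : b ∈ E) (hc : c ∈ E) (hQa : Q a ≠ 0) (hQb : Q b ≠ 0)
    (hc0 : c ≠ 0) (hab : polar Q a b = 0) (hca : polar Q c a = 0) (hcb : polar Q c b = 0) :
    Q c ≠ 0 ∧ ∀ w ∈ E, polar Q w a = 0 → polar Q w b = 0 → polar Q w c = 0 → w = 0 := by
  obtain ⟨U, hU⟩ : ∃ U, U = E ⊓ LinearMap.ker (pLin Q a) ⊓ LinearMap.ker (pLin Q b) := ⟨_, rfl⟩
  have hcU : c ∈ U := by rw [hU]; exact ⟨⟨hc, hca⟩, hcb⟩
  have l1 : E ⊓ LinearMap.ker (pLin Q a) < E := lt_of_le_of_ne inf_le_left fun e => by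
    have : a ∈ E ⊓ LinearMap.ker (pLin Q a) := by rw [e]; exact ha
    have h : polar Q a a = 0 := this.2
    rw [polar_self_two] at h
    exact mul_ne_zero h2 hQa h
  have l2 : U < E ⊓ LinearMap.ker (pLin Q a) := lt_of_le_of_ne (hU ▸ inf_le_left) fun e => by
    have : b ∈ U := by
      rw [e]; exact ⟨hb, show polar Q b a = 0 by rw [QuadraticMap.polar_comm]; exact hab⟩
    rw [hU] at this
    have h : polar Q b b = 0 := this.2
    rw [polar_self_two] at h
    exact mul_ne_zero h2 hQb h
  have d1 := Submodule.finrank_lt_finrank_of_lt l1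
  have d2 := Submodule.finrank_lt_finrank_of_lt l2
  have hspan : Submodule.span F {c} = U := Submodule.eq_of_le_of_finrank_le
    ((Submodule.span_singleton_le_iff_mem _ _).2 hcU) (by rw [finrank_span_singleton hc0]; omega)
  have hQc : Q c ≠ 0 := by
    obtain ⟨z, hz, hcz⟩ := hE.exists_partner hc hc0
    obtain ⟨r, hr⟩ : ∃ r : F, r • c = z - (polar Q z a / (2 * Q a)) • a - (polar Q z b / (2 * Q b)) • b := by
      refine Submodule.mem_span_singleton.1 ?_
      rw [hspan, hU]
      refine ⟨⟨sub_mem (sub_mem hz (E.smul_mem _ ha)) (E.smul_mem _ hb), ?_⟩, ?_⟩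
      · show polar Q _ a = 0
        simp only [QuadraticMap.polar_sub_left, QuadraticMap.polar_smul_left, polar_self_two,
          QuadraticMap.polar_comm Q b a, hab, smul_eq_mul, mul_zero, sub_zero]
        field_simp
        ring
      · show polar Q _ b = 0
        simp only [QuadraticMap.polar_sub_left, QuadraticMap.polar_smul_left, polar_self_two, hab,
          smul_eq_mul, mul_zero, sub_zero]
        field_simp
        ring
    intro h0
    have h := congrArg (polar Q c) hr
    simp only [QuadraticMap.polar_smul_right, QuadraticMap.polar_sub_right, polar_self_two, h0, mul_zero,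
      smul_eq_mul, hcz, hca, hcb, sub_zero] at h
    exact zero_ne_one h
  refine ⟨hQc, fun w hw hwa hwb hwc => ?_⟩
  have hwU : w ∈ U := by rw [hU]; exact ⟨⟨hw, hwa⟩, hwb⟩
  rw [← hspan] at hwU
  obtain ⟨r, rfl⟩ := Submodule.mem_span_singleton.1 hwU
  rw [QuadraticMap.polar_smul_left, polar_self_two, smul_eq_mul] at hwc
  rw [(mul_eq_zero.1 hwc).resolve_right (mul_ne_zero h2 hQc), zero_smul]

namespace Setting

variable [FiniteDimensional F V] [Finite F] {D : Fin t → Submodule F V} {p : Fin t → V →ₗ[F] V} {k : ℕ}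
  {M : Subgroup (quadIsoms Q)} (st : Setting Q D p k M)
include st

theorem polar_p' {i : Fin t} {y : V} (hy : y ∈ D i) (x : V) : polar Q y (p i x) = polar Q y x := by
  rw [QuadraticMap.polar_comm, st.polar_p x hy, QuadraticMap.polar_comm]

theorem mem_of_comp {b : Fin t} {x : V} (h : ∀ l, b ≠ l → p l x = 0) : x ∈ D b := by
  rw [← st.sum x, Finset.sum_eq_single b (fun l _ hl => h l (Ne.symm hl)) (by simp)]
  exact st.mem b x

theorem keep (hNL : NoLink M D p) {T : quadIsoms Q} (hT : T ∈ M) {a b : Fin t} {u x : V} (hu : u ∈ D a)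
    (hu0 : u ≠ 0) (hQu : Q u = 0) (hTu : T.1 u ∈ D b) (hx : x ∈ D a) (hux : polar Q u x = 0) :
    T.1 x ∈ D b :=
  st.mem_of_comp fun l hl => hNL b l hl _ hTu (fun e => hu0 (T.1.injective (e.trans (map_zero _).symm)))
    (by rw [T.2, hQu]) _ ((st.inW_block hu hQu hx hux).conj hT)

theorem reflSq_mem {i : Fin t} {h : quadIsoms Q} (hh : h ∈ commutator (quadIsoms Q)) {v w : V}
    (hv : v ∈ D i) (hw : w ∈ D i) (hfix : ∀ z, polar Q v z = 0 → polar Q w z = 0 → h.1 z = z)
    (hW : ∀ W : Submodule F V, v ∈ W → w ∈ W → ∀ z ∈ W, h.1 z ∈ W) : h ∈ M :=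
  st.extend h hh fun j => ⟨j, fun z hz => by
    rcases eq_or_ne i j with rfl | hij
    · exact hW _ hv hw z hz
    · rw [hfix z (st.orth i j hij v hv z hz) (st.orth i j hij w hw z hz)]
      exact hz⟩

/-- the coefficient of `y` in the image of a vector of the piece, with pairings `X` and `Y` -/
def kap (_ : Setting Q D p k M) (a e c d X Y : F) : F :=
  (d * X - d ^ 2 * a * Y) * (1 + 4 * c ^ 2 * (a * e)) + c * X + (c ^ 2 - 2 * c * d) * a * Y

/-- the product of two Siegel transformations over the field with five elements -/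
theorem kap_false (hNL : NoLink M D p) {l : Fin t} {y v : V} (hQy : Q y = 0) (hyl : ∀ r : F, r • y ∈ D l → r = 0)
    (hv : v ∈ D l) (hyv : polar Q y v = 0) {c d : F} (hc : InW M y (c • v))
    (hd : siegel Q (y - (2 : F) • p l y) (d • v) ∈ M) {s w : V} (hs : s ∈ D l) (hw : w ∈ D l) (hs0 : s ≠ 0)
    (hQs : Q s = 0) (hsw : polar Q s w = 0)
    (hks : st.kap (Q v) (Q (p l y)) c d (polar Q v s) (polar Q y s) = 0)
    (hkw : st.kap (Q v) (Q (p l y)) c d (polar Q v w) (polar Q y w) ≠ 0) : False := by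
  obtain ⟨yl, hyl'⟩ : ∃ yl, yl = p l y := ⟨_, rfl⟩
  rw [← hyl'] at hd hks hkw
  have hylm : yl ∈ D l := hyl' ▸ st.mem l y
  have hyyl : polar Q y yl = 2 * Q yl := by
    rw [QuadraticMap.polar_comm, ← st.polar_p' hylm, ← hyl', polar_self_two]
  have hvyl : polar Q v yl = 0 := by
    rw [hyl', st.polar_p' hv, QuadraticMap.polar_comm, hyv]
  have hvy : polar Q v y = 0 := by rw [QuadraticMap.polar_comm, hyv]
  have hvy' : polar Q v (y - (2 : F) • yl) = 0 := by
    rw [QuadraticMap.polar_sub_right, QuadraticMap.polar_smul_right, hvy, hvyl, smul_zero, sub_zero]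
  have hy'v : polar Q (y - (2 : F) • yl) (d • v) = 0 := by
    rw [QuadraticMap.polar_smul_right, QuadraticMap.polar_comm, hvy', smul_zero]
  have hQy' : Q (y - (2 : F) • yl) = 0 := by
    rw [sub_eq_add_neg, ← neg_smul, quad_map_add_smul, hQy, hyyl]; ring
  have hyy' : polar Q y (y - (2 : F) • yl) = -4 * Q yl := by
    rw [QuadraticMap.polar_sub_right, QuadraticMap.polar_smul_right, polar_self_of_singular Q hQy, hyyl,
      smul_eq_mul]
    ring
  have key : ∀ z ∈ D l, (siegel Q y (c • v) * siegel Q (y - (2 : F) • yl) (d • v)).1 z ∈ D l ↔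
      st.kap (Q v) (Q yl) c d (polar Q v z) (polar Q y z) = 0 := by
    intro z hz
    have hylz : polar Q yl z = polar Q y z := by rw [hyl', st.polar_p y hz]
    have hy'z : polar Q (y - (2 : F) • yl) z = -polar Q y z := by
      rw [QuadraticMap.polar_sub_left, QuadraticMap.polar_smul_left, hylz, smul_eq_mul]; ring
    obtain ⟨X, hX⟩ : ∃ X, X = polar Q v z := ⟨_, rfl⟩
    obtain ⟨Y, hY⟩ : ∃ Y, Y = polar Q y z := ⟨_, rfl⟩
    obtain ⟨K, hK⟩ : ∃ K, K = d * X - d ^ 2 * Q v * Y := ⟨_, rfl⟩
    obtain ⟨κ, hκ⟩ : ∃ κ, κ = st.kap (Q v) (Q yl) c d X Y := ⟨_, rfl⟩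
    have e : (siegel Q y (c • v) * siegel Q (y - (2 : F) • yl) (d • v)).1 z =
        (z + (c * (Y + 4 * Q yl * K) - d * Y) • v + (2 * K) • yl) - κ • y := by
      show (siegel Q y (c • v)).1 ((siegel Q (y - (2 : F) • yl) (d • v)).1 z) = _
      rw [siegel_apply Q hQy' hy'v, siegel_apply Q hQy hc.1]
      simp only [QuadraticMap.polar_sub_right, QuadraticMap.polar_add_right, QuadraticMap.polar_smul_right,
        QuadraticMap.polar_smul_left, quad_smul, hy'z, hyy', hyv, hvy', hvy, hvyl, hyyl, polar_self_two,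
        polar_self_of_singular Q hQy, smul_eq_mul, ← hX, ← hY, hκ, hK, kap]
      module
    rw [e, ← hX, ← hY, ← hκ]
    have hm : z + (c * (Y + 4 * Q yl * K) - d * Y) • v + (2 * K) • yl ∈ D l :=
      add_mem (add_mem hz ((D l).smul_mem _ hv)) ((D l).smul_mem _ hylm)
    refine ⟨fun h => hyl κ ?_, fun h => ?_⟩
    · have := sub_mem hm h
      rwa [sub_sub_cancel] at this
    · rw [h, zero_smul, sub_zero]; exact hm
  exact hkw ((key w hw).1 (st.keep hNL (mul_mem hc.2 hd) hs hs0 hQs ((key s hs).2 hks) hw hsw))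

/-- the residual case over the field with five elements -/
theorem five_false (hNL : NoLink M D p) (hq : Nat.card F = 5) {l : Fin t} {y v w : V} (hQy : Q y = 0)
    (hyl : ∀ r : F, r • y ∈ D l → r = 0) (hv : v ∈ D l) (hQv : Q v ≠ 0) (hyv : polar Q y v = 0)
    (hcv : ∀ c : F, InW M y (c • v)) (hw : w ∈ D l) (hQw : Q w = Q v) (hwy : polar Q w y = 0)
    (hwv : polar Q w v = 0) (hQl : Q (p l y) ≠ 0) : False := by
  obtain ⟨h5, hF⟩ := five_cases hq
  obtain ⟨yl, hyl'⟩ : ∃ yl, yl = p l y := ⟨_, rfl⟩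
  rw [← hyl'] at hQl
  have hylm : yl ∈ D l := hyl' ▸ st.mem l y
  have hwyl : polar Q w yl = 0 := by rw [hyl', st.polar_p' hw, hwy]
  have hvyl : polar Q v yl = 0 := by rw [hyl', st.polar_p' hv, QuadraticMap.polar_comm, hyv]
  have hylw : polar Q yl w = 0 := by rw [QuadraticMap.polar_comm]; exact hwyl
  have hylv : polar Q yl v = 0 := by rw [QuadraticMap.polar_comm]; exact hvyl
  have hvw : polar Q v w = 0 := by rw [QuadraticMap.polar_comm]; exact hwv
  have hvy : polar Q v y = 0 := by rw [QuadraticMap.polar_comm]; exact hyv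
  have hyw : polar Q y w = 0 := by rw [QuadraticMap.polar_comm]; exact hwy
  have hyyl : polar Q y yl = 2 * Q yl := by
    rw [QuadraticMap.polar_comm, ← st.polar_p' hylm, ← hyl', polar_self_two]
  have h2 := st.two
  have hpair : ∀ α β γ : F, polar Q v (α • w + β • yl + γ • v) = γ * (2 * Q v) ∧
      polar Q y (α • w + β • yl + γ • v) = β * (2 * Q yl) ∧
      Q (α • w + β • yl + γ • v) = α ^ 2 * Q v + β ^ 2 * Q yl + γ ^ 2 * Q v := by
    intro α β γ
    refine ⟨?_, ?_, ?_⟩
    · simp only [QuadraticMap.polar_add_right, QuadraticMap.polar_smul_right, polar_self_two, hvw, hvyl,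
        smul_eq_mul, mul_zero, zero_add, add_zero]
    · simp only [QuadraticMap.polar_add_right, QuadraticMap.polar_smul_right, hyw, hyyl, hyv,
        smul_eq_mul, mul_zero, zero_add, add_zero]
    · simp only [quad_map_add_smul, quad_smul, QuadraticMap.polar_add_left, QuadraticMap.polar_smul_left, hwv, sq,
        hwyl, hylv, hQw, smul_eq_mul, mul_zero, add_zero]
  have hnz : ∀ α β γ : F, (α ≠ 0 ∨ β ≠ 0) → α • w + β • yl + γ • v ≠ 0 := by
    intro α β γ hor e
    rcases hor with h | h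
    · have := congrArg (polar Q w) e
      simp only [QuadraticMap.polar_add_right, QuadraticMap.polar_smul_right, polar_self_two, hwyl, hwv, hQw,
        QuadraticMap.polar_zero_right, smul_eq_mul, mul_zero, add_zero] at this
      exact mul_ne_zero h (mul_ne_zero h2 hQv) this
    · have := (hpair α β γ).2.1
      rw [e, QuadraticMap.polar_zero_right] at this
      exact mul_ne_zero h (mul_ne_zero h2 hQl) this.symm
  have hmem : ∀ α β γ : F, α • w + β • yl + γ • v ∈ D l := fun α β γ =>
    add_mem (add_mem ((D l).smul_mem _ hw) ((D l).smul_mem _ hylm)) ((D l).smul_mem _ hv)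
  obtain ⟨a, ha⟩ : ∃ a, a = Q v := ⟨_, rfl⟩
  obtain ⟨e, he⟩ : ∃ e, e = Q yl := ⟨_, rfl⟩
  -- general form of the argument
  have main : ∀ (c d α β γ α' β' γ' : F),
      siegel Q (y - (2 : F) • yl) (d • v) ∈ M → (α ≠ 0 ∨ β ≠ 0) →
      α ^ 2 * a + β ^ 2 * e + γ ^ 2 * a = 0 →
      α * α' * (2 * a) + β * β' * (2 * e) + γ * γ' * (2 * a) = 0 →
      st.kap a e c d (γ * (2 * a)) (β * (2 * e)) = 0 →
      st.kap a e c d (γ' * (2 * a)) (β' * (2 * e)) ≠ 0 → False := by
    intro c d α β γ α' β' γ' hd hor hQs hsw hks hkw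
    rw [ha, he] at *
    refine st.kap_false hNL hQy hyl hv hyv (hcv c) (hyl' ▸ hd) (hmem α β γ) (hmem α' β' γ')
      (hnz α β γ hor) ((hpair α β γ).2.2.trans hQs) ?_ ?_ ?_
    · rw [← hsw]
      simp only [QuadraticMap.polar_add_left, QuadraticMap.polar_smul_left, QuadraticMap.polar_add_right,
        QuadraticMap.polar_smul_right, polar_self_two, hwv, hwyl, hylw, hylv, hvw, hvyl, hQw, smul_eq_mul,
        mul_zero, add_zero, zero_add]
      ring
    · rw [(hpair α β γ).1, (hpair α β γ).2.1, ← hyl']; exact hks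
    · rw [(hpair α' β' γ').1, (hpair α' β' γ').2.1, ← hyl']; exact hkw
  have hzero : siegel Q (y - (2 : F) • yl) ((0 : F) • v) ∈ M := by
    rw [zero_smul, siegel_zero]; exact one_mem M
  have ha0 : a ≠ 0 := ha ▸ hQv
  have he0 : e ≠ 0 := he ▸ hQl
  have hm0 : a * e ≠ 0 := mul_ne_zero ha0 he0
  -- the involution for a square product
  have hinv : ∀ r : F, r ≠ 0 → r ^ 2 = a * e → ∀ d : F, siegel Q (y - (2 : F) • yl) (d • v) ∈ M := by
    intro r hr0 hr d
    have hN : Q yl + (r / a) ^ 2 * Q w = 2 * e := by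
      rw [hQw, ← he, ← ha, div_pow, hr]; field_simp; ring
    obtain ⟨h, hh, hfix, hW, hhy, -, -⟩ := exists_reflSq (Q := Q) (p := yl) (p₂ := w) hylw (by rw [hQw]; exact hQv)
      hQl h2 (by rw [hN]; exact mul_ne_zero h2 he0) rfl rfl rfl
    have hhM := st.reflSq_mem hh hylm hw hfix hW
    have hα : Q yl - (r / a) ^ 2 * Q w = 0 := by rw [hQw, ← he, ← ha, div_pow, hr]; field_simp; ring
    have hβγ : -(2 * Q yl * (r / a)) / (Q yl + (r / a) ^ 2 * Q w) *
        (2 * (r / a) * Q w / (Q yl + (r / a) ^ 2 * Q w)) = -1 := by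
      rw [hN, hQw, ← he, ← ha]
      field_simp
      linear_combination (-1 : F) * hr
    rw [hα, zero_div, zero_mul, zero_add, hβγ, mul_zero, zero_mul, zero_smul, add_zero, neg_one_smul] at hhy
    have h1 : h.1 (y - yl) = y - yl := hfix _ (by
        rw [QuadraticMap.polar_sub_right, polar_self_two, QuadraticMap.polar_comm, hyyl, sub_self]) (by
        rw [QuadraticMap.polar_sub_right, hwy, hwyl, sub_zero])
    have h3 : h.1 y = y - (2 : F) • yl := by
      conv_lhs => rw [show y = (y - yl) + yl by abel]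
      rw [map_add, h1, hhy]
      module
    have h4 : h.1 (d • v) = d • v := hfix _ (by rw [QuadraticMap.polar_smul_right, hylv, smul_zero])
      (by rw [QuadraticMap.polar_smul_right, hwv, smul_zero])
    have h6 := (hcv d).conj hhM
    rw [h3, h4] at h6
    exact h6.2
  have h1n : (1 : F) ≠ 0 := one_ne_zero
  rcases hF (a * e) with hm | hm | hm | hm | hm
  · exact hm0 hm
  · -- product one
    refine main 1 3 2 a 0 0 0 1 (hinv 1 h1n (by rw [hm]; ring) 3) (Or.inl h2) ?_ (by ring) ?_ ?_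
    · linear_combination a * hm + a * h5
    · simp only [kap]; linear_combination (-18 * a) * (1 + 4 * (a * e)) * hm + (-10 * a) * hm
        + (-18 * a) * (4 : F) * hm + (-20 * a) * h5
    · simp only [kap]
      intro h
      refine mul_ne_zero h2 ha0 ?_
      linear_combination h + (-24 * a) * hm - 6 * a * h5
  · -- product two
    refine main 1 0 2 a (-2) 0 a 1 hzero (Or.inl h2) ?_ ?_ ?_ ?_
    · linear_combination a * hm + 2 * a * h5
    · linear_combination (2 * a) * hm
    · simp only [kap]; linear_combination (2 * a) * hm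
    · simp only [kap]
      intro h
      refine ha0 ?_
      linear_combination h - (2 * a) * hm - a * h5
  · -- product three
    refine main 2 0 1 a (-1) 0 (2 * a) 1 hzero (Or.inl h1n) ?_ ?_ ?_ ?_
    · linear_combination a * hm + a * h5
    · linear_combination (4 * a) * hm + 2 * a * h5
    · simp only [kap]; linear_combination (8 * a) * hm + 4 * a * h5
    · simp only [kap]
      intro h
      refine mul_ne_zero h2 ha0 ?_
      linear_combination h - (16 * a) * hm - 10 * a * h5
  · -- product four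
    refine main 1 2 2 0 1 0 1 0 (hinv 2 h2 (by rw [hm]; ring) 2) (Or.inl h2) ?_ (by ring) ?_ ?_
    · linear_combination a * h5
    · simp only [kap]; linear_combination (16 * a) * hm + 14 * a * h5
    · simp only [kap]
      intro h
      refine h2 ?_
      linear_combination h + (32 * (a * e) + 142) * hm + 114 * h5

/-- In a piece of dimension three the group of a vector moves off its line. -/
theorem three_false (hNL : NoLink M D p) (h5 : 5 ≤ Nat.card F) {l : Fin t} {y v : V} (hk : Module.finrank F (D l) = 3)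
    (hQy : Q y = 0) (hyl : ∀ r : F, r • y ∈ D l → r = 0) (hv : v ∈ D l) (hQv : Q v ≠ 0) (hyv : polar Q y v = 0)
    (hcv : ∀ c : F, InW M y (c • v)) (hQl : Q (p l y) ≠ 0)
    (hline : ∀ h ∈ M, h.1 y = y → ∃ c : F, h.1 v - v = c • v ∨ h.1 v - v ∉ D l) : False := by
  obtain ⟨yl, hyl'⟩ : ∃ yl, yl = p l y := ⟨_, rfl⟩
  rw [← hyl'] at hQl
  have hylm : yl ∈ D l := hyl' ▸ st.mem l y
  obtain ⟨w, ⟨⟨hw, hwv'⟩, hwy'⟩, hw0⟩ := (D l ⊓ LinearMap.ker (pLin Q v) ⊓
      LinearMap.ker (pLin Q yl)).exists_mem_ne_zero_of_ne_bot (fun e => by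
    have d1 := finrank_le_inf_ker (D l) (pLin Q v)
    have d2 := finrank_le_inf_ker (D l ⊓ LinearMap.ker (pLin Q v)) (pLin Q yl)
    rw [e, finrank_bot] at d2
    omega)
  have hwv : polar Q w v = 0 := hwv'
  have hwyl : polar Q w yl = 0 := hwy'
  have hwy : polar Q w y = 0 := by rw [← st.polar_p' hw, ← hyl', hwyl]
  have hvyl : polar Q v yl = 0 := by rw [hyl', st.polar_p' hv, QuadraticMap.polar_comm, hyv]
  have hQw : Q w ≠ 0 := ((st.nd l).three hk st.two hv hylm hw hQv hQl hw0 hvyl hwv hwyl).1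
  have hvw : polar Q v w = 0 := by rw [QuadraticMap.polar_comm]; exact hwv
  by_cases hex : ∃ r : F, r ≠ 0 ∧ r ^ 2 ≠ Q v / Q w ∧ r ^ 2 ≠ -(Q v / Q w)
  · obtain ⟨r, hr0, hr1, hr2⟩ := hex
    have hN : Q v + r ^ 2 * Q w ≠ 0 := fun e => hr2 (by
      field_simp; linear_combination e)
    obtain ⟨h, hh, hfix, hW, hhv, -, -⟩ := exists_reflSq (Q := Q) (p := v) (p₂ := w) hvw hQw hQv st.two hN
      rfl rfl rfl
    have hhM := st.reflSq_mem hh hv hw hfix hW
    obtain ⟨c, hc | hc⟩ := hline h hhM (hfix y (by rw [QuadraticMap.polar_comm]; exact hyv) hwy)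
    · have e1 := congrArg (polar Q w) hc
      rw [hhv] at e1
      simp only [QuadraticMap.polar_sub_right, QuadraticMap.polar_add_right, QuadraticMap.polar_smul_right,
        hwv, polar_self_two, smul_eq_mul, mul_zero, zero_add, sub_zero] at e1
      refine mul_ne_zero (mul_ne_zero (mul_ne_zero st.two ?_) ?_) (mul_ne_zero st.two hQw) e1
      · exact div_ne_zero (fun e => hr1 (by field_simp; linear_combination -e)) hN
      · exact div_ne_zero (neg_ne_zero.2 (mul_ne_zero (mul_ne_zero st.two hQv) hr0)) hN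
    · exact hc (sub_mem (hW _ hv hw v hv) hv)
  · have hq : Nat.card F = 5 := by
      by_contra hne
      exact hex (exists_sq_avoid st.two _ _ (Or.inl (lt_of_le_of_ne h5 (Ne.symm hne))))
    obtain ⟨hF5, -⟩ := five_cases hq
    push Not at hex
    by_cases h1 : (1 : F) ^ 2 = Q v / Q w
    · refine st.five_false hNL hq hQy hyl hv hQv hyv hcv hw ?_ hwy hwv (hyl' ▸ hQl)
      field_simp at h1
      linear_combination h1
    · have h1' := hex 1 one_ne_zero h1
      refine st.five_false hNL hq hQy hyl hv hQv hyv hcv ((D l).smul_mem (2 : F) hw) ?_ ?_ ?_ (hyl' ▸ hQl)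
      · rw [quad_smul]
        field_simp at h1'
        linear_combination 4 * h1' - Q v * hF5
      · rw [QuadraticMap.polar_smul_left, hwy, smul_zero]
      · rw [QuadraticMap.polar_smul_left, hwv, smul_zero]

end Setting

end CfsgLib.MaxSub.OFrame
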