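import Cfsg.Agent.Lib.MaxSub.OrthPolar

/-!
An orthonormal frame of a quadratic space in odd characteristic: coordinates, monomial isometries and the
monomial elements of the commutator subgroup.
-/

set_option autoImplicit false
set_option linter.unusedSectionVars false

namespace CfsgLib.MaxSub.OLines

open CfsgLib.Classical CfsgLib.Geom
open QuadraticMap (polar)

variable {F V ι : Type*} [Field F] [AddCommGroup V] [Module F V] [Fintype ι] [DecidableEq ι]
  {Q : QuadraticForm F V}

/-- The basis consists of pairwise orthogonal vectors with one non-zero value. -/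
structure Frame (Q : QuadraticForm F V) (b : Module.Basis ι F V) (c : F) : Prop where
  value : ∀ i, Q (b i) = c
  ne : c ≠ 0
  orth : ∀ i j, i ≠ j → polar Q (b i) (b j) = 0
  two : (2 : F) ≠ 0

variable (b : Module.Basis ι F V)

/-- vectors supported in a set of coordinates -/
def sp (K : Finset ι) : Submodule F V where
  carrier := {v | ∀ i, i ∉ K → b.repr v i = 0}
  add_mem' {u v} hu hv i hi := by simp [hu i hi, hv i hi]
  zero_mem' i _ := by simp
  smul_mem' a v hv i hi := by simp [hv i hi]

theorem mem_sp {K : Finset ι} {v : V} : v ∈ sp b K ↔ ∀ i, i ∉ K → b.repr v i = 0 := Iff.rfl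

theorem basis_mem_sp {K : Finset ι} {i : ι} (h : i ∈ K) : b i ∈ sp b K := fun j hj => by
  rw [b.repr_self, Finsupp.single_eq_of_ne]
  rintro rfl
  exact hj h

theorem sp_mono {K L : Finset ι} (h : K ⊆ L) : sp b K ≤ sp b L := fun _ hv i hi =>
  hv i fun h' => hi (h h')

/-- the element fixes the frame vectors outside `K` -/
def FixOff (K : Finset ι) (g : quadIsoms Q) : Prop := ∀ i, i ∉ K → g.1 (b i) = b i

/-- the element maps every frame vector to a multiple of a frame vector -/
def Mono (g : quadIsoms Q) : Prop := ∀ i, ∃ (j : ι) (a : F), g.1 (b i) = a • b j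

variable {b}

theorem repr_smul_basis (a : F) (j i : ι) : b.repr (a • b j) i = if i = j then a else 0 := by
  rw [map_smul, b.repr_self, Finsupp.smul_apply, smul_eq_mul, Finsupp.single_apply]
  by_cases h : i = j
  · subst h; simp
  · simp [h, Ne.symm h]

theorem ext_basis {g h : quadIsoms Q} (H : ∀ i, g.1 (b i) = h.1 (b i)) : g = h :=
  Subtype.ext (LinearEquiv.toLinearMap_injective (b.ext fun i => H i))

theorem iso_polar (g : quadIsoms Q) (x y : V) : polar Q (g.1 x) (g.1 y) = polar Q x y :=
  OrthSub.polar_map g x y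

theorem iso_value (g : quadIsoms Q) (x : V) : Q (g.1 x) = Q x := g.2 x

theorem inv_app (g : quadIsoms Q) (x : V) : (g⁻¹).1 (g.1 x) = x := by
  rw [← LinearEquiv.mul_apply, ← Subgroup.coe_mul, inv_mul_cancel]; rfl

theorem app_inv (g : quadIsoms Q) (x : V) : g.1 ((g⁻¹).1 x) = x := by
  rw [← LinearEquiv.mul_apply, ← Subgroup.coe_mul, mul_inv_cancel]; rfl

theorem mul_app (g h : quadIsoms Q) (x : V) : (g * h).1 x = g.1 (h.1 x) := rfl

theorem FixOff.mul {K : Finset ι} {g h : quadIsoms Q} (hg : FixOff b K g) (hh : FixOff b K h) :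
    FixOff b K (g * h) := fun i hi => by rw [mul_app, hh i hi, hg i hi]

theorem FixOff.inv {K : Finset ι} {g : quadIsoms Q} (hg : FixOff b K g) : FixOff b K g⁻¹ :=
  fun i hi => by
    conv_lhs => rw [← hg i hi]
    exact inv_app g _

theorem FixOff.one {K : Finset ι} : FixOff b K (1 : quadIsoms Q) := fun _ _ => rfl

theorem FixOff.mono {K L : Finset ι} (h : K ⊆ L) {g : quadIsoms Q} (hg : FixOff b K g) : FixOff b L g :=
  fun i hi => hg i fun h' => hi (h h')

variable {c : F} (hb : Frame Q b c)
include hb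

theorem polar_basis_self (i : ι) : polar Q (b i) (b i) = 2 * c := by
  rw [polar_self_two, hb.value]

theorem two_c_ne : 2 * c ≠ 0 := mul_ne_zero hb.two hb.ne

theorem polar_basis (v : V) (i : ι) : polar Q v (b i) = 2 * c * b.repr v i := by
  conv_lhs => rw [← b.sum_repr v]
  rw [show polar Q (∑ j, b.repr v j • b j) (b i) =
    (QuadraticMap.polarBilin Q (∑ j, b.repr v j • b j)) (b i) from rfl, map_sum, LinearMap.sum_apply,
    Finset.sum_eq_single i]
  · simp only [map_smul, LinearMap.smul_apply, QuadraticMap.polarBilin_apply_apply, smul_eq_mul,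
      polar_basis_self hb]
    ring
  · intro j _ hj
    simp [hb.orth j i hj]
  · simp

theorem repr_eq (v : V) (i : ι) : b.repr v i = (2 * c)⁻¹ * polar Q v (b i) := by
  rw [polar_basis hb, inv_mul_cancel_left₀ (two_c_ne hb)]

theorem polar_eq_sum (v w : V) : polar Q v w = 2 * c * ∑ i, b.repr v i * b.repr w i := by
  conv_lhs => rw [← b.sum_repr w]
  rw [show polar Q v (∑ j, b.repr w j • b j) =
    (QuadraticMap.polarBilin Q v) (∑ j, b.repr w j • b j) from rfl, map_sum, Finset.mul_sum]
  refine Finset.sum_congr rfl fun i _ => ?_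
  simp only [map_smul, QuadraticMap.polarBilin_apply_apply, smul_eq_mul, polar_basis hb]
  ring

theorem value_eq_sum (v : V) : Q v = c * ∑ i, b.repr v i * b.repr v i := by
  refine mul_left_cancel₀ hb.two ?_
  rw [← polar_self_two, polar_eq_sum hb]
  ring

theorem sep : ∀ x, (∀ y, polar Q x y = 0) → x = 0 := fun x h =>
  b.repr.injective (Finsupp.ext fun i => by rw [repr_eq hb, h, mul_zero, map_zero]; rfl)

theorem polar_sp {K : Finset ι} {v : V} : v ∈ sp b K ↔ ∀ i, i ∉ K → polar Q v (b i) = 0 := by
  refine ⟨fun h i hi => by rw [polar_basis hb, h i hi, mul_zero], fun h i hi => ?_⟩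
  rw [repr_eq hb, h i hi, mul_zero]

theorem FixOff.repr {K : Finset ι} {g : quadIsoms Q} (hg : FixOff b K g) (v : V) {i : ι} (hi : i ∉ K) :
    b.repr (g.1 v) i = b.repr v i := by
  rw [repr_eq hb, repr_eq hb]
  conv_lhs => rw [← hg i hi]
  rw [iso_polar]

theorem FixOff.map_sp {K : Finset ι} {g : quadIsoms Q} (hg : FixOff b K g) {v : V} (hv : v ∈ sp b K) :
    g.1 v ∈ sp b K := fun i hi => by rw [FixOff.repr hb hg v hi]; exact hv i hi

theorem sign_sq {g : quadIsoms Q} {i j : ι} {a : F} (h : g.1 (b i) = a • b j) : a * a = 1 := by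
  have h1 := iso_value g (b i)
  rw [h, quad_smul, hb.value, hb.value] at h1
  exact mul_right_cancel₀ hb.ne (h1.trans (one_mul c).symm)

theorem Mono.exists_perm {g : quadIsoms Q} (hg : Mono b g) :
    ∃ (σ : Equiv.Perm ι) (s : ι → F), ∀ i, g.1 (b i) = s i • b (σ i) ∧ s i * s i = 1 := by
  choose f s hs using hg
  have hinj : Function.Injective f := fun i j h => by
    by_contra hne
    have h1 := iso_polar g (b i) (b j)
    rw [hs, hs, h, QuadraticMap.polar_smul_left, QuadraticMap.polar_smul_right, polar_basis_self hb,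
      hb.orth i j hne, smul_eq_mul, smul_eq_mul] at h1
    have hi := sign_sq hb (hs i)
    have hj := sign_sq hb (hs j)
    exact two_c_ne hb (by linear_combination (s i * s j) * h1 - 2 * c * (s j * s j) * hi - 2 * c * hj)
  exact ⟨Equiv.ofBijective f ⟨hinj, Finite.injective_iff_surjective.1 hinj⟩, s,
    fun i => ⟨hs i, sign_sq hb (hs i)⟩⟩

theorem Mono.mul {g h : quadIsoms Q} (hg : Mono b g) (hh : Mono b h) : Mono b (g * h) := fun i => by
  obtain ⟨j, a, e⟩ := hh i
  obtain ⟨k, a', e'⟩ := hg j
  exact ⟨k, a * a', by rw [mul_app, e, map_smul, e', smul_smul]⟩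

theorem Mono.inv {g : quadIsoms Q} (hg : Mono b g) : Mono b g⁻¹ := fun i => by
  obtain ⟨σ, s, hs⟩ := Mono.exists_perm hb hg
  refine ⟨σ.symm i, s (σ.symm i), g.1.injective ?_⟩
  rw [app_inv, map_smul, (hs _).1, σ.apply_symm_apply, smul_smul, (hs _).2, one_smul]

end CfsgLib.MaxSub.OLines
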