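import Cfsg.Agent.Lib.MaxSub.OLinesBasic
import Cfsg.Agent.Lib.Geom.QuadRefl

/-!
Monomial elements of the commutator subgroup for an orthonormal frame: products of two reflections, sign
changes on even sets, three-cycles and double transpositions; determinants of monomial elements.
-/

set_option autoImplicit false
set_option linter.unusedSectionVars false

namespace CfsgLib.MaxSub.OLines

open CfsgLib.Classical CfsgLib.Geom
open QuadraticMap (polar)

variable {F V ι : Type*} [Field F] [AddCommGroup V] [Module F V] [Fintype ι] [DecidableEq ι]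
  {Q : QuadraticForm F V}

/-- a reflection as an element of the isometry group -/
def refl (Q : QuadraticForm F V) (v : V) (hv : Q v ≠ 0) : quadIsoms Q :=
  ⟨reflEquiv Q v hv, reflEquiv_mem Q v hv⟩

theorem refl_apply (v : V) (hv : Q v ≠ 0) (z : V) :
    (refl Q v hv).1 z = z - ((Q v)⁻¹ * polar Q v z) • v := reflEquiv_apply Q v hv z

theorem refl_mul_self (v : V) (hv : Q v ≠ 0) : refl Q v hv * refl Q v hv = 1 :=
  Subtype.ext (reflEquiv_mul_self Q v hv)

theorem refl_fix (v : V) (hv : Q v ≠ 0) {z : V} (h : polar Q v z = 0) : (refl Q v hv).1 z = z :=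
  reflEquiv_fix Q v hv h

theorem conj_refl (g : quadIsoms Q) (v : V) (hv : Q v ≠ 0) :
    g * refl Q v hv * g⁻¹ = refl Q (g.1 v) (by rwa [g.2 v]) :=
  Subtype.ext (conj_reflEquiv Q g.2 v hv)

theorem pair_mem_commutator (h2 : (2 : F) ≠ 0) {u v : V} (hu : Q u ≠ 0) (hv : Q v ≠ 0) (h : Q u = Q v) :
    refl Q u hu * refl Q v hv ∈ commutator (quadIsoms Q) := by
  have hex : ∃ g : quadIsoms Q, g * refl Q u hu * g⁻¹ = refl Q v hv := by
    by_cases hd : Q (v - u) = 0
    · have h4 : (4 : F) ≠ 0 := by
        rw [show (4 : F) = 2 * 2 by norm_num]; exact mul_ne_zero h2 h2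
      have hp : polar Q v u = 2 * Q u := by
        have h1 := QuadraticMap.map_add (Q : QuadraticMap F V F) (v - u) u
        rw [sub_add_cancel, hd, ← h, zero_add, QuadraticMap.polar_sub_left, polar_self_two] at h1
        linear_combination -h1
      have hs : Q (-v - u) ≠ 0 := by
        rw [show -v - u = -(v + u) by abel, QuadraticMap.map_neg,
          QuadraticMap.map_add (Q : QuadraticMap F V F) v u, hp, ← h,
          show Q u + Q u + 2 * Q u = 4 * Q u by ring]
        exact mul_ne_zero h4 hu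
      refine ⟨refl Q (-v - u) hs, ?_⟩
      rw [conj_refl]
      have h1 : (refl Q (-v - u) hs).1 u = -v :=
        reflEquiv_sub Q (by rw [QuadraticMap.map_neg, h]) hs
      refine Subtype.ext (LinearEquiv.ext fun z => ?_)
      simp only [refl_apply, h1, QuadraticMap.map_neg, QuadraticMap.polar_neg_left]
      module
    · refine ⟨refl Q (v - u) hd, ?_⟩
      rw [conj_refl]
      refine Subtype.ext (LinearEquiv.ext fun z => ?_)
      have h1 : (refl Q (v - u) hd).1 u = v := reflEquiv_sub Q h hd
      simp only [refl_apply, h1]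
  obtain ⟨g, hg⟩ := hex
  have hinv : (refl Q u hu)⁻¹ = refl Q u hu := inv_eq_of_mul_eq_one_right (refl_mul_self u hu)
  have e : refl Q u hu * refl Q v hv = refl Q u hu * g * (refl Q u hu)⁻¹ * g⁻¹ := by
    rw [← hg, hinv]; group
  rw [e, commutator_def]
  exact Subgroup.commutator_mem_commutator (Subgroup.mem_top _) (Subgroup.mem_top _)

variable {b : Module.Basis ι F V} {c : F} (hb : Frame Q b c)
include hb

theorem basis_aniso (i : ι) : Q (b i) ≠ 0 := by rw [hb.value]; exact hb.ne

theorem sub_value {i j : ι} (hij : i ≠ j) : Q (b i - b j) = 2 * c := by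
  rw [sub_eq_add_neg, QuadraticMap.map_add (Q : QuadraticMap F V F), QuadraticMap.map_neg, hb.value,
    hb.value, QuadraticMap.polar_neg_right, hb.orth i j hij]
  ring

theorem sub_aniso {i j : ι} (hij : i ≠ j) : Q (b i - b j) ≠ 0 := by
  rw [sub_value hb hij]; exact two_c_ne hb

theorem refl_basis_self (i : ι) : (refl Q (b i) (basis_aniso hb i)).1 (b i) = -b i :=
  reflEquiv_self Q (b i) (basis_aniso hb i)

theorem refl_basis_ne {i l : ι} (h : i ≠ l) : (refl Q (b i) (basis_aniso hb i)).1 (b l) = b l :=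
  refl_fix _ _ (hb.orth i l h)

theorem refl_sub_left {i j : ι} (hij : i ≠ j) :
    (refl Q (b i - b j) (sub_aniso hb hij)).1 (b i) = b j := by
  rw [refl_apply, sub_value hb hij, QuadraticMap.polar_sub_left, polar_basis_self hb,
    hb.orth j i (Ne.symm hij), sub_zero, inv_mul_cancel₀ (two_c_ne hb), one_smul, sub_sub_cancel]

theorem refl_sub_right {i j : ι} (hij : i ≠ j) :
    (refl Q (b i - b j) (sub_aniso hb hij)).1 (b j) = b i := by
  rw [refl_apply, sub_value hb hij, QuadraticMap.polar_sub_left, polar_basis_self hb, hb.orth i j hij,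
    zero_sub, mul_neg, inv_mul_cancel₀ (two_c_ne hb), neg_one_smul, sub_neg_eq_add]
  abel

theorem refl_sub_other {i j l : ι} (hij : i ≠ j) (hi : i ≠ l) (hj : j ≠ l) :
    (refl Q (b i - b j) (sub_aniso hb hij)).1 (b l) = b l :=
  refl_fix _ _ (by rw [QuadraticMap.polar_sub_left, hb.orth i l hi, hb.orth j l hj, sub_zero])

/-- the three-cycle `i → j → k → i` -/
theorem exists_cycle {i j k : ι} (hij : i ≠ j) (hjk : j ≠ k) (hik : i ≠ k) :
    ∃ g ∈ commutator (quadIsoms Q), g.1 (b i) = b j ∧ g.1 (b j) = b k ∧ g.1 (b k) = b i ∧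
      ∀ l, l ≠ i → l ≠ j → l ≠ k → g.1 (b l) = b l := by
  refine ⟨refl Q (b i - b j) (sub_aniso hb hij) * refl Q (b j - b k) (sub_aniso hb hjk),
    pair_mem_commutator hb.two _ _ (by rw [sub_value hb hij, sub_value hb hjk]), ?_, ?_, ?_,
    fun l h1 h2 h3 => ?_⟩
  · rw [mul_app, refl_sub_other hb hjk (Ne.symm hij) (Ne.symm hik), refl_sub_left hb hij]
  · rw [mul_app, refl_sub_left hb hjk, refl_sub_other hb hij hik hjk]
  · rw [mul_app, refl_sub_right hb hjk, refl_sub_right hb hij]
  · rw [mul_app, refl_sub_other hb hjk (Ne.symm h2) (Ne.symm h3),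
      refl_sub_other hb hij (Ne.symm h1) (Ne.symm h2)]

/-- the double transposition `(i j)(k l)` -/
theorem exists_swaps {i j k l : ι} (hij : i ≠ j) (hkl : k ≠ l) (hik : i ≠ k) (hil : i ≠ l)
    (hjk : j ≠ k) (hjl : j ≠ l) :
    ∃ g ∈ commutator (quadIsoms Q), g.1 (b i) = b j ∧ g.1 (b j) = b i ∧ g.1 (b k) = b l ∧
      g.1 (b l) = b k ∧ ∀ a, a ≠ i → a ≠ j → a ≠ k → a ≠ l → g.1 (b a) = b a := by
  refine ⟨refl Q (b i - b j) (sub_aniso hb hij) * refl Q (b k - b l) (sub_aniso hb hkl),
    pair_mem_commutator hb.two _ _ (by rw [sub_value hb hij, sub_value hb hkl]), ?_, ?_, ?_, ?_,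
    fun a h1 h2 h3 h4 => ?_⟩
  · rw [mul_app, refl_sub_other hb hkl (Ne.symm hik) (Ne.symm hil), refl_sub_left hb hij]
  · rw [mul_app, refl_sub_other hb hkl (Ne.symm hjk) (Ne.symm hjl), refl_sub_right hb hij]
  · rw [mul_app, refl_sub_left hb hkl, refl_sub_other hb hij hil hjl]
  · rw [mul_app, refl_sub_right hb hkl, refl_sub_other hb hij hik hjk]
  · rw [mul_app, refl_sub_other hb hkl (Ne.symm h3) (Ne.symm h4),
      refl_sub_other hb hij (Ne.symm h1) (Ne.symm h2)]

/-- sign changes on a set of even size -/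
theorem exists_diag (R : Finset ι) (hR : Even R.card) :
    ∃ g ∈ commutator (quadIsoms Q), ∀ i, g.1 (b i) = if i ∈ R then -b i else b i := by
  induction R using Finset.strongInduction with
  | _ R ih =>
    rcases R.eq_empty_or_nonempty with rfl | ⟨i, hi⟩
    · exact ⟨1, one_mem _, fun j => by simp⟩
    have hpos : 0 < (R.erase i).card := by
      rw [Finset.card_erase_of_mem hi]
      obtain ⟨m, hm⟩ := hR
      have := Finset.card_pos.2 ⟨i, hi⟩
      omega
    obtain ⟨j, hj⟩ := Finset.card_pos.1 hpos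
    have hji := Finset.ne_of_mem_erase hj
    obtain ⟨g, hg, hgb⟩ := ih ((R.erase i).erase j)
      ((Finset.erase_ssubset hj).trans (Finset.erase_ssubset hi)) (by
        rw [Finset.card_erase_of_mem hj, Finset.card_erase_of_mem hi]
        obtain ⟨m, hm⟩ := hR
        rw [Finset.card_erase_of_mem hi] at hpos
        exact ⟨m - 1, by omega⟩)
    refine ⟨refl Q (b i) (basis_aniso hb i) * refl Q (b j) (basis_aniso hb j) * g,
      mul_mem (pair_mem_commutator hb.two _ _ (by rw [hb.value, hb.value])) hg, fun l => ?_⟩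
    rw [mul_app, mul_app, hgb]
    by_cases hli : l = i
    · subst hli
      simp only [Finset.mem_erase, ne_eq, not_true_eq_false, false_and, and_false, if_false, hi, if_true]
      rw [refl_basis_ne hb hji, refl_basis_self hb]
    by_cases hlj : l = j
    · subst hlj
      simp only [Finset.mem_erase, ne_eq, not_true_eq_false, false_and, if_false,
        Finset.mem_of_mem_erase hj, if_true]
      rw [refl_basis_self hb, map_neg, refl_basis_ne hb (Ne.symm hli)]
    have e : (l ∈ (R.erase i).erase j) ↔ l ∈ R := by simp [hli, hlj]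
    simp only [e]
    split_ifs
    · rw [map_neg, map_neg, refl_basis_ne hb (Ne.symm hlj), refl_basis_ne hb (Ne.symm hli)]
    · rw [refl_basis_ne hb (Ne.symm hlj), refl_basis_ne hb (Ne.symm hli)]

omit hb in
theorem det_commutator {g : quadIsoms Q} (hg : g ∈ commutator (quadIsoms Q)) :
    LinearMap.det (g.1 : V →ₗ[F] V) = 1 := by
  have h := Abelianization.commutator_subset_ker (LinearEquiv.det.comp (quadIsoms Q).subtype) hg
  rw [MonoidHom.mem_ker, MonoidHom.comp_apply, Subgroup.coe_subtype] at h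
  have h' := congrArg Units.val h
  rwa [LinearEquiv.coe_det, Units.val_one] at h'

omit hb in
/-- the determinant of a monomial element -/
theorem det_mono (g : quadIsoms Q) (σ : Equiv.Perm ι) (s : ι → F)
    (h : ∀ i, g.1 (b i) = s i • b (σ i)) :
    LinearMap.det (g.1 : V →ₗ[F] V) = Equiv.Perm.sign σ * ∏ i, s i := by
  rw [← LinearMap.det_toMatrix b]
  have e : LinearMap.toMatrix b b (g.1 : V →ₗ[F] V) = (Matrix.diagonal s).submatrix σ.symm id := by
    ext i j
    rw [LinearMap.toMatrix_apply]
    simp only [LinearEquiv.coe_coe, h, repr_smul_basis, Matrix.submatrix_apply, Matrix.diagonal_apply, id]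
    by_cases hij : i = σ j
    · subst hij; simp
    · rw [if_neg hij, if_neg fun e => hij (by rw [← e, σ.apply_symm_apply])]
  rw [e, Matrix.det_permute, Matrix.det_diagonal, Equiv.Perm.sign_symm]

end CfsgLib.MaxSub.OLines
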