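import Cfsg.Agent.Lib.MaxSub.OMonoMain

/-!
The isometry group of the sum of squares on all coordinates but one, inside that on all coordinates.
-/

set_option autoImplicit false
set_option linter.unusedSectionVars false

namespace CfsgLib.MaxSub.OLines

open CfsgLib.Classical CfsgLib.Geom CfsgLib.MaxSub
open scoped Matrix

variable {ι F : Type*} [Fintype ι] [DecidableEq ι] [Field F] (i : ι)

/-- a linear map on the coordinates other than `i`, extended by the identity -/
def extLin (g : ({j // j ≠ i} → F) →ₗ[F] ({j // j ≠ i} → F)) : (ι → F) →ₗ[F] (ι → F) where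
  toFun z l := if h : l = i then z i else g (fun j => z j.1) ⟨l, h⟩
  map_add' y z := funext fun l => by
    by_cases h : l = i
    · simp [h]
    · simp only [h, dite_false, Pi.add_apply]
      rw [show (fun j : {j // j ≠ i} => y j.1 + z j.1) = (fun j => y j.1) + fun j => z j.1 from rfl, map_add]
      rfl
  map_smul' a z := funext fun l => by
    by_cases h : l = i
    · simp [h]
    · simp only [h, dite_false, Pi.smul_apply, RingHom.id_apply]
      rw [show (fun j : {j // j ≠ i} => a • z j.1) = a • fun j => z j.1 from rfl, map_smul]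
      rfl

theorem extLin_self (g : ({j // j ≠ i} → F) →ₗ[F] ({j // j ≠ i} → F)) (z : ι → F) : extLin i g z i = z i := by
  simp [extLin]

theorem extLin_sub (g : ({j // j ≠ i} → F) →ₗ[F] ({j // j ≠ i} → F)) (z : ι → F) :
    (fun j : {j // j ≠ i} => extLin i g z j.1) = g fun j => z j.1 := by
  funext j
  simp [extLin, j.2]

theorem ext_coords {x y : ι → F} (h : x i = y i)
    (h' : (fun j : {j // j ≠ i} => x j.1) = fun j => y j.1) : x = y := funext fun l => by
  by_cases hl : l = i
  · rw [hl, h]
  · exact congrFun h' ⟨l, hl⟩

theorem dot_split (x y : ι → F) :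
    x ⬝ᵥ y = x i * y i + (fun j : {j // j ≠ i} => x j.1) ⬝ᵥ fun j => y j.1 :=
  Fintype.sum_eq_add_sum_subtype_ne _ i

/-- isometries of the other coordinates as isometries of all coordinates -/
def embed : quadIsoms (OMono.sq {j // j ≠ i} F) →* quadIsoms (OMono.sq ι F) where
  toFun g := ⟨LinearEquiv.ofLinearMap (extLin i g.1.toLinearMap) (extLin i (g⁻¹).1.toLinearMap)
      (LinearMap.ext fun z => ext_coords i
        (by simp [extLin_self]) (by
          simp only [LinearMap.comp_apply, LinearMap.id_apply, extLin_sub]
          exact g.1.apply_symm_apply _))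
      (LinearMap.ext fun z => ext_coords i
        (by simp [extLin_self]) (by
          simp only [LinearMap.comp_apply, LinearMap.id_apply, extLin_sub]
          exact g.1.symm_apply_apply _)),
    mem_quadIsoms.2 fun z => by
      rw [OMono.sq_apply, OMono.sq_apply]
      show extLin i g.1.toLinearMap z ⬝ᵥ extLin i g.1.toLinearMap z = _
      rw [dot_split i, dot_split i z, extLin_self, extLin_sub]
      have h := g.2 fun j => z j.1
      rw [OMono.sq_apply, OMono.sq_apply] at h
      exact congrArg _ h⟩
  map_one' := Subtype.ext (LinearEquiv.ext fun z => ext_coords i (extLin_self i _ _) (extLin_sub i _ _))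
  map_mul' g h := Subtype.ext (LinearEquiv.ext fun z => by
    show extLin i (g * h).1.toLinearMap z = extLin i g.1.toLinearMap (extLin i h.1.toLinearMap z)
    refine ext_coords i (by simp [extLin_self]) ?_
    simp only [extLin_sub]
    rfl)

theorem embed_self (g : quadIsoms (OMono.sq {j // j ≠ i} F)) (z : ι → F) : (embed i g).1 z i = z i :=
  extLin_self i _ z

theorem embed_sub (g : quadIsoms (OMono.sq {j // j ≠ i} F)) (z : ι → F) :
    (fun j : {j // j ≠ i} => (embed i g).1 z j.1) = g.1 fun j => z j.1 :=
  extLin_sub i _ z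

theorem embed_commutator {g : quadIsoms (OMono.sq {j // j ≠ i} F)}
    (hg : g ∈ commutator (quadIsoms (OMono.sq {j // j ≠ i} F))) :
    embed i g ∈ commutator (quadIsoms (OMono.sq ι F)) := by
  have h := Subgroup.mem_map_of_mem (embed i) hg
  rw [commutator_def, Subgroup.map_commutator] at h
  exact Subgroup.commutator_mono le_top le_top h

theorem single_sub (l : {j // j ≠ i}) :
    (fun j : {j // j ≠ i} => (Pi.single l.1 1 : ι → F) j.1) = Pi.single l 1 := by
  funext j
  simp only [Pi.single_apply, Subtype.ext_iff]

theorem embed_mono {g : quadIsoms (OMono.sq {j // j ≠ i} F)} (hg : OMono.Mono g) :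
    OMono.Mono (embed i g) := by
  intro l
  by_cases hl : l = i
  · subst hl
    refine ⟨l, 1, ext_coords l (by rw [embed_self]) ?_⟩
    rw [embed_sub, show (fun j : {j // j ≠ l} => (Pi.single l 1 : ι → F) j.1) = 0 from
      funext fun j => Pi.single_eq_of_ne j.2 1, map_zero]
  · obtain ⟨m, a, ha⟩ := hg ⟨l, hl⟩
    refine ⟨m.1, a, ext_coords i ?_ ?_⟩
    · rw [embed_self, Pi.single_eq_of_ne (Ne.symm hl), Pi.single_eq_of_ne (Ne.symm m.2)]
    · rw [embed_sub, single_sub i ⟨l, hl⟩, ha]
      funext j
      simp only [Pi.single_apply, Subtype.ext_iff]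

/-- an isometry fixing the coordinate vector `i` comes from the other coordinates -/
theorem exists_embed (h2 : (2 : F) ≠ 0) (g : quadIsoms (OMono.sq ι F))
    (hg : g.1 (Pi.single i 1) = Pi.single i 1) : ∃ k, embed i k = g := by
  have hself : ∀ (h : quadIsoms (OMono.sq ι F)), h.1 (Pi.single i 1) = Pi.single i 1 →
      ∀ z, h.1 z i = z i := fun h hh z => by
    have := OMono.isom_dot h2 h z (Pi.single i 1)
    rw [hh] at this
    simpa using this
  have hinv : (g⁻¹).1 (Pi.single i 1) = Pi.single i 1 := by
    conv_lhs => rw [← hg]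
    exact g.1.symm_apply_apply _
  set up : ({j // j ≠ i} → F) → ι → F := fun x l => if h : l = i then 0 else x ⟨l, h⟩ with hup
  have hupi : ∀ x, up x i = 0 := fun x => by simp [hup]
  have hsub : ∀ x, (fun j : {j // j ≠ i} => up x j.1) = x := fun x => funext fun j => by simp [hup, j.2]
  have hup' : ∀ z : ι → F, z i = 0 → up (fun j => z j.1) = z := fun z hz =>
    ext_coords i ((hupi fun j => z j.1).trans hz.symm) (hsub fun j => z j.1)
  let k₀ : ({j // j ≠ i} → F) ≃ₗ[F] ({j // j ≠ i} → F) :=
    { toFun := fun x j => g.1 (up x) j.1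
      invFun := fun x j => (g⁻¹).1 (up x) j.1
      map_add' := fun x y => funext fun j => by
        rw [show up (x + y) = up x + up y from funext fun l => by
          by_cases h : l = i <;> simp [hup, h], map_add]; rfl
      map_smul' := fun a x => funext fun j => by
        rw [show up (a • x) = a • up x from funext fun l => by
          by_cases h : l = i <;> simp [hup, h], map_smul]; rfl
      left_inv := fun x => by
        show (fun j : {j // j ≠ i} => (g⁻¹).1 (up fun j => g.1 (up x) j.1) j.1) = x
        rw [hup' _ (by rw [hself g hg, hupi]), show (g⁻¹).1 (g.1 (up x)) = up x from g.1.symm_apply_apply _,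
          hsub]
      right_inv := fun x => by
        show (fun j : {j // j ≠ i} => g.1 (up fun j => (g⁻¹).1 (up x) j.1) j.1) = x
        rw [hup' _ (by rw [hself _ hinv, hupi]), show g.1 ((g⁻¹).1 (up x)) = up x from g.1.apply_symm_apply _,
          hsub] }
  refine ⟨⟨k₀, mem_quadIsoms.2 fun x => ?_⟩, ?_⟩
  · have h := g.2 (up x)
    rw [OMono.sq_apply, OMono.sq_apply, dot_split i, dot_split i (up x), hsub, hself g hg, hupi] at h
    rw [OMono.sq_apply, OMono.sq_apply]
    exact add_left_cancel h
  · refine Subtype.ext (LinearEquiv.ext fun z => ext_coords i (by rw [embed_self, hself g hg]) ?_)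
    rw [embed_sub]
    have hz : z = up (fun j => z j.1) + (z i) • Pi.single i 1 := ext_coords i (by simp [hupi]) (by
      funext j; simp [hup, j.2])
    funext j
    conv_rhs => rw [hz, map_add, map_smul, hg]
    simp [k₀, j.2]

end CfsgLib.MaxSub.OLines
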