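import Cfsg.Agent.Lib.MaxSub.OLinesPlane

/-!
Even numbers of coordinates, at least ten: if the elements fixing a frame vector are monomial, then so is
every element of the overgroup.
-/

set_option autoImplicit false
set_option linter.unusedSectionVars false

namespace CfsgLib.MaxSub.OLines

open CfsgLib.Classical CfsgLib.Geom
open QuadraticMap (polar)

variable {F V ι : Type*} [Field F] [AddCommGroup V] [Module F V] [Fintype ι] [DecidableEq ι]
  {Q : QuadraticForm F V}

variable {b : Module.Basis ι F V} {c : F} (hb : Frame Q b c) {u s : V}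
  {M : Subgroup (quadIsoms Q)} (hM : Over b M)

include hb

theorem no_common_zero (hfull : ∀ l, b.repr u l ≠ 0 ∨ b.repr s l ≠ 0) {p q : V}
    (hspan : plane (F := F) u s ≤ plane p q) (l : ι) : b.repr p l ≠ 0 ∨ b.repr q l ≠ 0 := by
  by_contra h
  push Not at h
  obtain ⟨a₁, b₁, e₁⟩ := mem_plane.1 (hspan (left_mem_plane u s))
  obtain ⟨a₂, b₂, e₂⟩ := mem_plane.1 (hspan (right_mem_plane u s))
  rcases hfull l with h' | h'
  · exact h' (by rw [← e₁, map_add, map_smul, map_smul]; simp [h.1, h.2])
  · exact h' (by rw [← e₂, map_add, map_smul, map_smul]; simp [h.1, h.2])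

/-- the reflection formula of the pair along an orthogonal basis of its plane -/
theorem pair_along (hu : Q u ≠ 0) (hs : Q s ≠ 0) (hor : polar Q u s = 0) {p q : V}
    (hp : p ∈ plane (F := F) u s) (hp0 : p ≠ 0) (hpq : polar Q p q = 0)
    (hspan : plane (F := F) u s ≤ plane p q) {v : V} (hv : polar Q q v = 0) :
    (refl Q u hu * refl Q s hs).1 v = v - ((Q p)⁻¹ * polar Q p v) • p := by
  have hQp := aniso_of_basis hb hu hs hor hp hp0 hpq hspan
  obtain ⟨k, hk⟩ : ∃ k, k = (2 * Q p)⁻¹ * polar Q p v := ⟨_, rfl⟩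
  have h2k : 2 * k = (Q p)⁻¹ * polar Q p v := by rw [hk]; field_simp [hb.two, hQp]
  have hp' : polar Q p (v - k • p) = 0 := by
    rw [QuadraticMap.polar_sub_right, QuadraticMap.polar_smul_right, polar_self_two, smul_eq_mul, hk]
    field_simp [hb.two, hQp]
    ring
  have hperp : ∀ w ∈ plane (F := F) u s, polar Q w (v - k • p) = 0 := fun w hw => by
    obtain ⟨α, β, rfl⟩ := mem_plane.1 (hspan hw)
    rw [QuadraticMap.polar_add_left, QuadraticMap.polar_smul_left, QuadraticMap.polar_smul_left, hp',
      QuadraticMap.polar_sub_right, QuadraticMap.polar_smul_right, hv, QuadraticMap.polar_comm Q q p, hpq]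
    simp
  nth_rw 1 [show v = (v - k • p) + k • p by abel]
  rw [map_add, map_smul, pair_fix hu hs hor (hperp u (left_mem_plane u s)) (hperp s (right_mem_plane u s)),
    pair_neg hb hu hs hor hp, ← h2k]
  module

include hM

/-- two disjointly supported vectors of the plane -/
theorem false_of_disjoint (hn : 9 ≤ Fintype.card ι)
    (hsm : ∀ i, Small b M ((Finset.univ : Finset ι).erase i)) (hu : Q u ≠ 0) (hs : Q s ≠ 0)
    (hor : polar Q u s = 0) (hx : refl Q u hu * refl Q s hs ∈ M)
    (hfull : ∀ l, b.repr u l ≠ 0 ∨ b.repr s l ≠ 0) {p q : V} (hp : p ∈ plane (F := F) u s)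
    (hq : q ∈ plane (F := F) u s) (hp0 : p ≠ 0) (hq0 : q ≠ 0)
    (hdis : ∀ l, b.repr p l = 0 ∨ b.repr q l = 0) : False := by
  classical
  have hspan : plane (F := F) u s ≤ plane p q := plane_span hp hq hp0 fun t ht =>
    hq0 (b.repr.injective (Finsupp.ext fun l => by
      rcases hdis l with h | h
      · rw [ht, map_smul, Finsupp.smul_apply, h, smul_zero, map_zero, Finsupp.zero_apply]
      · rw [h, map_zero, Finsupp.zero_apply]))
  have hnz := no_common_zero hb hfull hspan
  obtain ⟨Sq, hSq⟩ : ∃ Sq, Sq = Finset.univ.filter fun l => b.repr q l ≠ 0 := ⟨_, rfl⟩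
  wlog h5 : 5 ≤ Sq.card generalizing p q Sq with H
  · refine H hq hp hq0 hp0 (fun l => (hdis l).symm) (hspan.trans ?_) (fun l => (hnz l).symm) _ rfl ?_
    · exact le_of_eq (by rw [plane, plane, Set.pair_comm])
    · have hu' : (Finset.univ : Finset ι) ⊆ Sq ∪ Finset.univ.filter fun l => b.repr p l ≠ 0 := fun l _ => by
        simp only [hSq, Finset.mem_union, Finset.mem_filter, Finset.mem_univ, true_and]
        exact (hnz l).symm
      have := (Finset.card_le_card hu').trans (Finset.card_union_le _ _)
      rw [Finset.card_univ] at this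
      omega
  have hpq : polar Q p q = 0 := by
    rw [polar_eq_sum hb, Finset.sum_eq_zero fun l _ => mul_eq_zero.2 (hdis l), mul_zero]
  have hqp : polar Q q p = 0 := by rw [QuadraticMap.polar_comm]; exact hpq
  have hQq : Q q ≠ 0 := aniso_of_basis hb hu hs hor hq hq0 hqp
    (hspan.trans (le_of_eq (by rw [plane, plane, Set.pair_comm])))
  have hspan' : plane (F := F) u s ≤ plane q p :=
    hspan.trans (le_of_eq (by rw [plane, plane, Set.pair_comm]))
  obtain ⟨a, a', ha, ha', haa⟩ := Finset.one_lt_card_iff.1 (show 1 < Sq.card by omega)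
  obtain ⟨r, r', hr, hr', hrr⟩ := Finset.one_lt_card_iff.1 (show 1 < ((Sq.erase a).erase a').card by
    rw [Finset.card_erase_of_mem (Finset.mem_erase.2 ⟨Ne.symm haa, ha'⟩), Finset.card_erase_of_mem ha]
    omega)
  obtain ⟨t, ht⟩ := Finset.card_pos.1 (show 0 < ((((Sq.erase a).erase a').erase r).erase r').card by
    rw [Finset.card_erase_of_mem (Finset.mem_erase.2 ⟨Ne.symm hrr, hr'⟩), Finset.card_erase_of_mem hr,
      Finset.card_erase_of_mem (Finset.mem_erase.2 ⟨Ne.symm haa, ha'⟩), Finset.card_erase_of_mem ha]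
    omega)
  simp only [Finset.mem_erase] at hr hr' ht
  have hqnz : ∀ {l}, l ∈ Sq → b.repr q l ≠ 0 := fun {l} hl => by
    rw [hSq] at hl; exact (Finset.mem_filter.1 hl).2
  obtain ⟨d, hd, hdm, hda, hda', hdo⟩ := exists_flip hb hM a a' haa
  set x := refl Q u hu * refl Q s hs with hxdef
  set w := x * d * x * d with hw
  have hwM : w ∈ M := mul_mem (mul_mem (mul_mem hx hd) hx) hd
  have hdfix : ∀ v, b.repr v a = 0 → b.repr v a' = 0 → d.1 v = v := fun v e1 e2 =>
    FixOff.fix_perp (K := {a, a'}) hb (fun l hl => by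
      simp only [Finset.mem_insert, Finset.mem_singleton, not_or] at hl
      exact hdo l hl.1 hl.2) fun l hl => by
      rcases Finset.mem_insert.1 hl with rfl | hl
      · exact e1
      · rw [Finset.mem_singleton.1 hl]; exact e2
  have hpa : b.repr p a = 0 := (hdis a).resolve_right (hqnz ha)
  have hpa' : b.repr p a' = 0 := (hdis a').resolve_right (hqnz ha')
  -- a frame vector of the other support is fixed
  obtain ⟨e, he⟩ : ∃ e, b.repr p e ≠ 0 := by
    by_contra h
    push Not at h
    exact hp0 (b.repr.map_eq_zero_iff.1 (Finsupp.ext h))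
  have hqe : b.repr q e = 0 := (hdis e).resolve_left he
  have hea : e ≠ a := fun h => hqnz ha (h ▸ hqe)
  have hea' : e ≠ a' := fun h => hqnz ha' (h ▸ hqe)
  have hqbe : polar Q q (b e) = 0 := by rw [polar_basis hb, hqe, mul_zero]
  have hdp : d.1 p = p := hdfix p hpa hpa'
  have hxbe := pair_along hb hu hs hor hp hp0 hpq hspan hqbe
  have hwe : w.1 (b e) = b e := by
    rw [hw, mul_app, mul_app, mul_app, hdo e hea hea', hxdef, hxbe, map_sub, map_smul, hdo e hea hea', hdp,
      map_sub, map_smul, hxbe, pair_neg hb hu hs hor hp]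
    module
  have hwm : Mono b w := hsm e w hwM fun l hl => by
    rw [show l = e from by_contra fun h => hl (Finset.mem_erase.2 ⟨h, Finset.mem_univ l⟩)]; exact hwe
  -- the image of a frame vector of the large support
  obtain ⟨htr', htr, hta', hta, htS⟩ : t ≠ r' ∧ t ≠ r ∧ t ≠ a' ∧ t ≠ a ∧ t ∈ Sq := ht
  have hpt : polar Q p (b t) = 0 := by rw [polar_basis hb, (hdis t).resolve_right (hqnz htS), mul_zero]
  obtain ⟨K, hK⟩ : ∃ K, K = (Q q)⁻¹ * polar Q q (b t) := ⟨_, rfl⟩
  have hK0 : K ≠ 0 := by
    rw [hK, polar_basis hb]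
    exact mul_ne_zero (inv_ne_zero hQq) (mul_ne_zero (two_c_ne hb) (hqnz htS))
  have hxbt := pair_along hb hu hs hor hq hq0 hqp hspan' hpt
  rw [← hK] at hxbt
  have hpdq : polar Q p (d.1 q) = 0 := by rw [← hdp, iso_polar, hpq]
  have hwt : ∃ A : F, w.1 (b t) = b t + A • q - K • d.1 q := by
    refine ⟨-K + K * ((Q q)⁻¹ * polar Q q (d.1 q)), ?_⟩
    rw [hw, mul_app, mul_app, mul_app, hdo t hta hta', hxdef, hxbt, map_sub, map_smul, hdo t hta hta',
      map_sub, map_smul, hxbt, pair_along hb hu hs hor hq hq0 hqp hspan' hpdq]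
    module
  obtain ⟨A, hA⟩ := hwt
  have hco : ∀ l, l ≠ t → b.repr (w.1 (b t)) l =
      if l = a ∨ l = a' then (A + K) * b.repr q l else (A - K) * b.repr q l := by
    intro l hl
    rw [hA, map_sub, map_add, map_smul, map_smul, Finsupp.sub_apply, Finsupp.add_apply, Finsupp.smul_apply,
      Finsupp.smul_apply, b.repr_self, Finsupp.single_eq_of_ne hl,
      diag_repr hb (e := fun l => if l = a ∨ l = a' then (-1 : F) else 1) (g := d) (fun i => by
        by_cases h1 : i = a
        · subst h1; simp [hda]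
        by_cases h2 : i = a'
        · subst h2; simp [hda']
        simp [h1, h2, hdo i h1 h2]) q l]
    split_ifs <;> simp only [smul_eq_mul] <;> ring
  obtain ⟨j, f, hj⟩ := hwm t
  have htwo : ∀ l l', l ≠ l' → b.repr (w.1 (b t)) l = 0 ∨ b.repr (w.1 (b t)) l' = 0 := fun l l' hll => by
    rw [hj, repr_smul_basis, repr_smul_basis]
    by_cases h : l = j
    · exact Or.inr (if_neg fun h' => hll (h.trans h'.symm))
    · exact Or.inl (if_neg h)
  have hAK : A + K = 0 := by
    rcases htwo a a' haa with h | h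
    · rw [hco a (Ne.symm hta), if_pos (Or.inl rfl)] at h
      exact (mul_eq_zero.1 h).resolve_right (hqnz ha)
    · rw [hco a' (Ne.symm hta'), if_pos (Or.inr rfl)] at h
      exact (mul_eq_zero.1 h).resolve_right (hqnz ha')
  have hAmK : A - K = 0 := by
    rcases htwo r r' hrr with h | h
    · rw [hco r (Ne.symm htr), if_neg (not_or.2 ⟨hr.2.1, hr.1⟩)] at h
      exact (mul_eq_zero.1 h).resolve_right (hqnz hr.2.2)
    · rw [hco r' (Ne.symm htr'), if_neg (not_or.2 ⟨hr'.2.1, hr'.1⟩)] at h
      exact (mul_eq_zero.1 h).resolve_right (hqnz hr'.2.2)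
  exact hK0 ((mul_eq_zero.1 (show (2 : F) * K = 0 by linear_combination hAK - hAmK)).resolve_left hb.two)

/-- involutions negating a plane are monomial -/
theorem mono_of_pair_refl [Finite F] (hn : 10 ≤ Fintype.card ι)
    (hsm : ∀ i, Small b M ((Finset.univ : Finset ι).erase i)) (hu : Q u ≠ 0) (hs : Q s ≠ 0)
    (hor : polar Q u s = 0) (hx : refl Q u hu * refl Q s hs ∈ M) :
    Mono b (refl Q u hu * refl Q s hs) := by
  classical
  by_contra hnm
  have hfull : ∀ l, b.repr u l ≠ 0 ∨ b.repr s l ≠ 0 := by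
    intro l
    by_contra h
    push Not at h
    refine hnm (hsm l _ hx fun i hi => ?_)
    rw [show i = l from by_contra fun h' => hi (Finset.mem_erase.2 ⟨h', Finset.mem_univ i⟩)]
    exact pair_fix hu hs hor (by rw [polar_basis hb, h.1, mul_zero]) (by rw [polar_basis hb, h.2, mul_zero])
  have hcases := plane_cases hb hM hn hsm hu hs hor hx hfull
  have hdisj : ∀ {p q : V}, p ∈ plane (F := F) u s → q ∈ plane (F := F) u s → p ≠ 0 → q ≠ 0 →
      (∀ l, b.repr p l = 0 ∨ b.repr q l = 0) → False := fun hp hq hp0 hq0 h =>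
    false_of_disjoint hb hM (by omega) hsm hu hs hor hx hfull hp hq hp0 hq0 h
  set T : V → Finset ι := fun v => Finset.univ.filter fun l => b.repr v l ≠ 0 with hT
  have hmemT : ∀ {v : V} {l}, l ∈ T v ↔ b.repr v l ≠ 0 := fun {v l} => by simp [hT]
  have hTne : ∀ {v : V}, v ≠ 0 → (T v).Nonempty := fun {v} hv => by
    rw [Finset.nonempty_iff_ne_empty]
    intro h
    exact hv (b.repr.map_eq_zero_iff.1 (Finsupp.ext fun l => by_contra fun hl =>
      Finset.notMem_empty l (h ▸ hmemT.2 hl)))
  have hTsmul : ∀ {v : V} {k : F}, k ≠ 0 → T (k • v) = T v := fun {v k} hk => by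
    ext l; simp [hmemT, hk]
  have hprop : ∀ {v w : V}, v ∈ plane (F := F) u s → w ∈ plane (F := F) u s → v ≠ 0 →
      (∀ k : F, w ≠ k • v) → ∀ l, l ∈ T v ∨ l ∈ T w := fun hv hw hv0 h l => by
    rw [hmemT, hmemT]
    exact no_common_zero hb hfull (plane_span hv hw hv0 h) l
  -- the vector found by the second alternative has a small support
  have hsmallS : ∀ {S : Finset ι} {p : V}, S.card = 4 →
      ((Finset.univ \ S).filter fun l => b.repr p l ≠ 0).card ≤ 2 → (T p).card ≤ 6 := by
    intro S p hS h
    have hsub : T p ⊆ S ∪ (Finset.univ \ S).filter fun l => b.repr p l ≠ 0 := fun l hl => by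
      simp only [Finset.mem_union, Finset.mem_filter, Finset.mem_sdiff, Finset.mem_univ, true_and]
      by_cases hlS : l ∈ S
      · exact Or.inl hlS
      · exact Or.inr ⟨hlS, hmemT.1 hl⟩
    have := (Finset.card_le_card hsub).trans (Finset.card_union_le _ _)
    omega
  have hout : ∀ {S : Finset ι} {p : V}, T p \ S ⊆ (Finset.univ \ S).filter fun l => b.repr p l ≠ 0 :=
    fun {S p} l hl => by
      simp only [Finset.mem_sdiff] at hl
      simp [hl.2, hmemT.1 hl.1]
  by_cases hex : ∃ u₁ ∈ plane (F := F) u s, u₁ ≠ 0 ∧ (T u₁).card ≤ 6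
  · obtain ⟨u₁, hu₁, hu₁0, hT₁⟩ := hex
    by_cases hone : ∀ v ∈ plane (F := F) u s, v ≠ 0 → (T v).card ≤ 6 → ∃ k : F, v = k • u₁
    · -- one small line
      obtain ⟨q, hqdef⟩ : ∃ q, q = polar Q u₁ u • s - polar Q u₁ s • u := ⟨_, rfl⟩
      have hqP : q ∈ plane (F := F) u s := hqdef ▸ sub_mem (Submodule.smul_mem _ _ (right_mem_plane u s))
        (Submodule.smul_mem _ _ (left_mem_plane u s))
      obtain ⟨α, β, he₁⟩ := mem_plane.1 hu₁
      have hpu : polar Q u₁ u = α * (2 * Q u) := by
        rw [← he₁, QuadraticMap.polar_add_left, QuadraticMap.polar_smul_left, QuadraticMap.polar_smul_left,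
          QuadraticMap.polar_comm Q s u, hor, polar_self_two, smul_zero, add_zero, smul_eq_mul]
      have hps : polar Q u₁ s = β * (2 * Q s) := by
        rw [← he₁, QuadraticMap.polar_add_left, QuadraticMap.polar_smul_left, QuadraticMap.polar_smul_left,
          hor, polar_self_two, smul_zero, zero_add, smul_eq_mul]
      have h1q : polar Q u₁ q = 0 := by
        rw [hqdef, QuadraticMap.polar_sub_right, QuadraticMap.polar_smul_right,
          QuadraticMap.polar_smul_right, smul_eq_mul, smul_eq_mul]
        ring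
      have hq0 : q ≠ 0 := fun h => by
        rw [hqdef] at h
        have e1 := congrArg (fun v => polar Q s v) h
        have e2 := congrArg (fun v => polar Q u v) h
        simp only [QuadraticMap.polar_sub_right, QuadraticMap.polar_smul_right, polar_self_two, hor,
          QuadraticMap.polar_comm Q s u, smul_zero, sub_zero, zero_sub, smul_eq_mul,
          QuadraticMap.polar_zero_right, mul_zero, sub_zero, zero_sub, neg_eq_zero] at e1 e2
        rw [hpu] at e1
        rw [hps] at e2
        refine hu₁0 ?_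
        have hα : α = 0 := by simpa [hb.two, hs, hu] using e1
        have hβ : β = 0 := by simpa [hb.two, hs, hu] using e2
        rw [← he₁, hα, hβ, zero_smul, zero_smul, add_zero]
      refine hdisj hu₁ hqP hu₁0 hq0 fun a => or_iff_not_imp_left.2 fun haT => ?_
      obtain ⟨Z, hZ, hZc⟩ := Finset.exists_subset_card_eq (show 3 ≤ (Finset.univ \ T u₁).card by
        rw [Finset.card_sdiff_of_subset (Finset.subset_univ _), Finset.card_univ]; omega)
      have hZz : ∀ z ∈ Z, b.repr u₁ z = 0 := fun z hz => by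
        by_contra h; exact (Finset.mem_sdiff.1 (hZ hz)).2 (hmemT.2 h)
      have haZ : a ∉ Z := fun h => haT (hZz a h)
      have hS : (insert a Z).card = 4 := by rw [Finset.card_insert_of_notMem haZ, hZc]
      rcases hcases _ hS with hII | ⟨p', q', hp', hq', hp'0, hpq', hspan', hsmall, h3⟩
      · obtain ⟨a', ha', haa', e, he, hv⟩ := hII a (Finset.mem_insert_self a Z)
        have h1 := hv u₁ hu₁
        rw [hZz a' ((Finset.mem_insert.1 ha').resolve_left haa')] at h1
        exact absurd h1.symm (mul_ne_zero (fun h => by simp [h] at he) haT)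
      · obtain ⟨k, hk⟩ := hone p' hp' hp'0 (hsmallS hS hsmall)
        have hk0 : k ≠ 0 := fun h => hp'0 (by rw [hk, h, zero_smul])
        have hq'a : b.repr q' a = 0 := h3 a (Finset.mem_insert_self a Z) (fun a' ha' haa' => by
          rw [hk, map_smul, Finsupp.smul_apply, hZz a' ((Finset.mem_insert.1 ha').resolve_left haa'),
            smul_zero]) (by rw [hk, map_smul, Finsupp.smul_apply, smul_eq_mul]; exact mul_ne_zero hk0 haT)
        obtain ⟨x, y, hxy⟩ := mem_plane.1 (hspan' hqP)
        have hQp := aniso_of_basis hb hu hs hor hp' hp'0 hpq' hspan'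
        have hxz : x = 0 := by
          have h1 : polar Q p' q = 0 := by rw [hk, QuadraticMap.polar_smul_left, h1q, smul_zero]
          rw [← hxy, QuadraticMap.polar_add_right, QuadraticMap.polar_smul_right,
            QuadraticMap.polar_smul_right, hpq', polar_self_two, smul_zero, add_zero, smul_eq_mul] at h1
          exact (mul_eq_zero.1 h1).resolve_right (mul_ne_zero hb.two hQp)
        rw [← hxy, hxz, zero_smul, zero_add, map_smul, Finsupp.smul_apply, hq'a, smul_zero]
    · -- two small lines
      push Not at hone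
      obtain ⟨u₂, hu₂, hu₂0, hT₂, hnp⟩ := hone
      have hnp' : ∀ k : F, u₁ ≠ k • u₂ := fun k h => by
        have hk : k ≠ 0 := fun hk => hu₁0 (by rw [h, hk, zero_smul])
        exact hnp k⁻¹ (by rw [h, smul_smul, inv_mul_cancel₀ hk, one_smul])
      have key : ∀ {w₁ w₂ : V}, w₁ ∈ plane (F := F) u s → w₂ ∈ plane (F := F) u s → w₁ ≠ 0 → w₂ ≠ 0 →
          (T w₁).card ≤ 6 → (T w₂).card ≤ 6 → (∀ k : F, w₂ ≠ k • w₁) → (∀ k : F, w₁ ≠ k • w₂) →
          (T w₁).card = 6 → False := by
        intro w₁ w₂ hw₁ hw₂ hw₁0 hw₂0 hc₁ hc₂ hn₁ hn₂ h6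
        have hcov := hprop hw₁ hw₂ hw₁0 hn₁
        have hcardT : Fintype.card ι ≤ (T w₁).card + (T w₂).card := by
          rw [← Finset.card_univ]
          exact (Finset.card_le_card fun l _ => Finset.mem_union.2 (hcov l)).trans (Finset.card_union_le _ _)
        obtain ⟨a, ha⟩ := Finset.card_pos.1 (show 0 < (Finset.univ \ T w₁).card by
          rw [Finset.card_sdiff_of_subset (Finset.subset_univ _), Finset.card_univ]; omega)
        obtain ⟨Z, hZ, hZc⟩ := Finset.exists_subset_card_eq (show 3 ≤ (Finset.univ \ T w₂).card by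
          rw [Finset.card_sdiff_of_subset (Finset.subset_univ _), Finset.card_univ]; omega)
        have ha1 : a ∉ T w₁ := (Finset.mem_sdiff.1 ha).2
        have hZ2 : ∀ z ∈ Z, z ∉ T w₂ := fun z hz => (Finset.mem_sdiff.1 (hZ hz)).2
        have haZ : a ∉ Z := fun h => (hcov a).elim ha1 (hZ2 a h)
        have hS : (insert a Z).card = 4 := by rw [Finset.card_insert_of_notMem haZ, hZc]
        rcases hcases _ hS with hII | ⟨p', q', hp', -, hp'0, -, -, hsmall, -⟩
        · obtain ⟨a', ha', haa', e, he, hv⟩ := hII a (Finset.mem_insert_self a Z)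
          have h1 := hv w₁ hw₁
          rw [show b.repr w₁ a = 0 from by_contra fun h => ha1 (hmemT.2 h), mul_zero] at h1
          exact (hcov a').elim (fun h => hmemT.1 h h1)
            (hZ2 a' ((Finset.mem_insert.1 ha').resolve_left haa'))
        · have hsm6 := hsmallS hS hsmall
          have h2le : ((T p') \ insert a Z).card ≤ 2 := (Finset.card_le_card hout).trans hsmall
          by_cases hk1 : ∃ k : F, p' = k • w₁
          · obtain ⟨k, hk⟩ := hk1
            rw [hk, hTsmul (fun h => hp'0 (by rw [hk, h, zero_smul]))] at h2le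
            have hsub : T w₁ \ Z ⊆ T w₁ \ insert a Z := fun l hl => by
              simp only [Finset.mem_sdiff, Finset.mem_insert, not_or] at hl ⊢
              exact ⟨hl.1, fun e => ha1 (e ▸ hl.1), hl.2⟩
            have := Finset.card_le_card hsub
            have := Finset.le_card_sdiff Z (T w₁)
            omega
          by_cases hk2 : ∃ k : F, p' = k • w₂
          · obtain ⟨k, hk⟩ := hk2
            rw [hk, hTsmul (fun h => hp'0 (by rw [hk, h, zero_smul]))] at h2le
            have hsub : T w₂ \ {a} ⊆ T w₂ \ insert a Z := fun l hl => by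
              simp only [Finset.mem_sdiff, Finset.mem_insert, Finset.mem_singleton, not_or] at hl ⊢
              exact ⟨hl.1, hl.2, fun e => hZ2 l e hl.1⟩
            have := Finset.card_le_card hsub
            have := Finset.le_card_sdiff {a} (T w₂)
            rw [Finset.card_singleton] at this
            omega
          push Not at hk1 hk2
          have hc1 := hprop hw₁ hp' hw₁0 hk1
          have hc2 := hprop hw₂ hp' hw₂0 hk2
          have hz : (Finset.univ \ T w₁) ∪ (Finset.univ \ T w₂) ⊆ T p' := fun l hl => by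
            rcases Finset.mem_union.1 hl with h | h
            · exact (hc1 l).resolve_left (Finset.mem_sdiff.1 h).2
            · exact (hc2 l).resolve_left (Finset.mem_sdiff.1 h).2
          have h7 := Finset.card_le_card hz
          rw [Finset.card_union_of_disjoint (Finset.disjoint_left.2 fun l h1 h2 =>
            (hcov l).elim (Finset.mem_sdiff.1 h1).2 (Finset.mem_sdiff.1 h2).2),
            Finset.card_sdiff_of_subset (Finset.subset_univ _), Finset.card_sdiff_of_subset
            (Finset.subset_univ _), Finset.card_univ] at h7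
          omega
      by_cases hR : ∀ l, b.repr u₁ l = 0 ∨ b.repr u₂ l = 0
      · exact hdisj hu₁ hu₂ hu₁0 hu₂0 hR
      push Not at hR
      obtain ⟨r, hr₁, hr₂⟩ := hR
      have hcov := hprop hu₁ hu₂ hu₁0 hnp
      have hsum : Fintype.card ι + 1 ≤ (T u₁).card + (T u₂).card := by
        rw [← Finset.card_union_add_card_inter, ← Finset.card_univ]
        exact add_le_add (Finset.card_le_card fun l _ => Finset.mem_union.2 (hcov l))
          (Finset.card_pos.2 ⟨r, Finset.mem_inter.2 ⟨hmemT.2 hr₁, hmemT.2 hr₂⟩⟩)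
      rcases (show (T u₁).card = 6 ∨ (T u₂).card = 6 by omega) with h6 | h6
      · exact key hu₁ hu₂ hu₁0 hu₂0 hT₁ hT₂ hnp hnp' h6
      · exact key hu₂ hu₁ hu₂0 hu₁0 hT₂ hT₁ hnp' hnp h6
  · -- no small line
    push Not at hex
    have hII : ∀ S : Finset ι, S.card = 4 → ∀ a ∈ S, ∃ a' ∈ S, a' ≠ a ∧ ∃ e : F, e * e = 1 ∧
        ∀ v ∈ plane (F := F) u s, b.repr v a' = e * b.repr v a := fun S hS => by
      rcases hcases S hS with h | ⟨p', q', hp', -, hp'0, -, -, hsmall, -⟩
      · exact h
      · exact absurd (hsmallS hS hsmall) (by have := hex p' hp' hp'0; omega)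
    obtain ⟨R, hR⟩ : ∃ R : ι → ι → Prop, R = fun a a' => ∃ e : F, e * e = 1 ∧
        ∀ v ∈ plane (F := F) u s, b.repr v a' = e * b.repr v a := ⟨_, rfl⟩
    have hline : ∀ a q, q ∈ plane (F := F) u s → q = b.repr u a • s - b.repr s a • u → q ≠ 0 := by
      intro a q _ hq h
      rw [hq] at h
      have e1 := congrArg (fun v => polar Q s v) h
      have e2 := congrArg (fun v => polar Q u v) h
      simp only [QuadraticMap.polar_sub_right, QuadraticMap.polar_smul_right, polar_self_two, hor,
        QuadraticMap.polar_comm Q s u, smul_zero, sub_zero, zero_sub, smul_eq_mul,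
        QuadraticMap.polar_zero_right, mul_zero, sub_zero, zero_sub, neg_eq_zero] at e1 e2
      rcases hfull a with h' | h'
      · exact mul_ne_zero h' (mul_ne_zero hb.two hs) e1
      · exact mul_ne_zero h' (mul_ne_zero hb.two hu) e2
    obtain ⟨a⟩ : Nonempty ι := Fintype.card_pos_iff.1 (by omega)
    have hvec : ∀ a, b.repr u a • s - b.repr s a • u ∈ plane (F := F) u s := fun a =>
      sub_mem (Submodule.smul_mem _ _ (right_mem_plane u s)) (Submodule.smul_mem _ _ (left_mem_plane u s))
    have hzero : ∀ a l, R a l → b.repr (b.repr u a • s - b.repr s a • u) l = 0 := fun a l h => by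
      rw [hR] at h
      obtain ⟨e, -, hv⟩ := h
      rw [hv _ (hvec a), map_sub, map_smul, map_smul, Finsupp.sub_apply, Finsupp.smul_apply,
        Finsupp.smul_apply, smul_eq_mul, smul_eq_mul]
      ring
    obtain ⟨a', haa'⟩ : ∃ a', ¬ R a a' := by
      by_contra h
      push Not at h
      exact hline a _ (hvec a) rfl (b.repr.map_eq_zero_iff.1 (Finsupp.ext fun l => hzero a l (h l)))
    have hne : a ≠ a' := fun h => haa' (by rw [hR]; exact ⟨1, one_mul 1, fun v _ => by rw [h, one_mul]⟩)
    refine hdisj (hvec a) (hvec a') (hline a _ (hvec a) rfl) (hline a' _ (hvec a') rfl) fun l => ?_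
    by_cases hla : l = a
    · exact Or.inl (hzero a l (by rw [hR, hla]; exact ⟨1, one_mul 1, fun v _ => (one_mul _).symm⟩))
    by_cases hla' : l = a'
    · exact Or.inr (hzero a' l (by rw [hR, hla']; exact ⟨1, one_mul 1, fun v _ => (one_mul _).symm⟩))
    obtain ⟨m, hm⟩ := Finset.card_pos.1 (show 0 < (((Finset.univ.erase a).erase a').erase l).card by
      rw [Finset.card_erase_of_mem (by simp [hla, hla']), Finset.card_erase_of_mem (by simp [Ne.symm hne]),
        Finset.card_erase_of_mem (Finset.mem_univ a), Finset.card_univ]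
      omega)
    simp only [Finset.mem_erase, Finset.mem_univ, and_true] at hm
    have hS : ({a, a', l, m} : Finset ι).card = 4 := by
      rw [Finset.card_insert_of_notMem (by simp [hne, Ne.symm hla, Ne.symm hm.2.2]),
        Finset.card_insert_of_notMem (by simp [Ne.symm hla', Ne.symm hm.2.1]),
        Finset.card_pair (Ne.symm hm.1)]
    obtain ⟨x, hx', hxa, ex, hex1, hex2⟩ := hII _ hS a (by simp)
    obtain ⟨y, hy', hya, ey, hey1, hey2⟩ := hII _ hS a' (by simp)
    simp only [Finset.mem_insert, Finset.mem_singleton] at hx' hy'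
    have hxa' : x ≠ a' := fun h => haa' (by rw [hR]; exact ⟨ex, hex1, fun v hv => h ▸ hex2 v hv⟩)
    have hya2 : y ≠ a := fun h => haa' (by
      rw [hR]
      refine ⟨ey, hey1, fun v hv => ?_⟩
      have := hey2 v hv
      rw [h] at this
      rw [this, ← mul_assoc, hey1, one_mul])
    have hxy : x ≠ y := fun h => haa' (by
      rw [hR]
      refine ⟨ey * ex, by rw [mul_mul_mul_comm, hey1, hex1, one_mul], fun v hv => ?_⟩
      have h1 := hex2 v hv
      have h2 := hey2 v hv
      rw [← h, h1] at h2
      rw [mul_assoc, h2, ← mul_assoc, hey1, one_mul])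
    rcases hx' with h | h | h | h
    · exact absurd h hxa
    · exact absurd h hxa'
    · exact Or.inl (hzero a l (by rw [hR]; exact ⟨ex, hex1, h ▸ hex2⟩))
    · rcases hy' with h' | h' | h' | h'
      · exact absurd h' hya2
      · exact absurd h' hya
      · exact Or.inr (hzero a' l (by rw [hR]; exact ⟨ey, hey1, h' ▸ hey2⟩))
      · exact absurd (h.trans h'.symm) hxy

/-- all elements are monomial -/
theorem all_mono_even [Finite F] (hn : 10 ≤ Fintype.card ι)
    (hsm : ∀ i, Small b M ((Finset.univ : Finset ι).erase i)) {g : quadIsoms Q} (hg : g ∈ M) : Mono b g := by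
  classical
  haveI := finite_quadIsoms b (Q := Q)
  have hconj : ∀ (h : quadIsoms Q), h ∈ M → ∀ (p q : V) (hp : Q p ≠ 0) (hq : Q q ≠ 0), polar Q p q = 0 →
      refl Q p hp * refl Q q hq ∈ M → Mono b (h * (refl Q p hp * refl Q q hq) * h⁻¹) := by
    intro h hh p q hp hq hpq hmem
    have hp' : Q (h.1 p) ≠ 0 := by rwa [iso_value]
    have hq' : Q (h.1 q) ≠ 0 := by rwa [iso_value]
    have e : h * (refl Q p hp * refl Q q hq) * h⁻¹ = refl Q (h.1 p) hp' * refl Q (h.1 q) hq' := by
      rw [← conj_refl h p hp, ← conj_refl h q hq]; group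
    rw [e]
    refine mono_of_pair_refl hb hM hn hsm hp' hq' (by rw [iso_polar, hpq]) ?_
    rw [← e]
    exact mul_mem (mul_mem hh hmem) (inv_mem hh)
  intro i
  refine monomial_side_of hb hM (R := Finset.univ) (R' := Finset.univ) rfl (by rw [Finset.card_univ]; omega)
    (by rw [Finset.card_univ]; omega) hg (fun l _ a ha => absurd (Finset.mem_univ a) ha) ?_ ?_ i
    (Finset.mem_univ i)
  · intro f hf i j hij hfi hfj hfo _
    have e : f = refl Q (b i) (basis_aniso hb i) * refl Q (b j) (basis_aniso hb j) := by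
      refine ext_basis (b := b) fun l => ?_
      rw [mul_app]
      by_cases h1 : l = i
      · subst h1; rw [refl_basis_ne hb (Ne.symm hij), refl_basis_self hb, hfi]
      by_cases h2 : l = j
      · subst h2; rw [refl_basis_self hb, map_neg, refl_basis_ne hb hij, hfj]
      rw [refl_basis_ne hb (Ne.symm h2), refl_basis_ne hb (Ne.symm h1), hfo l h1 h2]
    rw [e]
    exact hconj g hg _ _ _ _ (hb.orth i j hij) (e ▸ hf)
  · rintro τ hτ ⟨p, q, r, hpq, hqr, hpr, t1, t2, t3, t4⟩ _
    obtain ⟨a, a', ha, ha', haa⟩ := Finset.one_lt_card_iff.1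
      (show 1 < (((Finset.univ.erase p).erase q).erase r).card by
        rw [Finset.card_erase_of_mem (by simp [Ne.symm hpr, Ne.symm hqr]),
          Finset.card_erase_of_mem (by simp [Ne.symm hpq]),
          Finset.card_erase_of_mem (Finset.mem_univ p), Finset.card_univ]
        omega)
    simp only [Finset.mem_erase, Finset.mem_univ, and_true] at ha ha'
    set A := refl Q (b p - b q) (sub_aniso hb hpq) with hA
    set B := refl Q (b q - b r) (sub_aniso hb hqr) with hB
    set C := refl Q (b a - b a') (sub_aniso hb haa) with hC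
    have e : τ = (A * C) * (C * B) := by
      rw [mul_assoc A C (C * B), ← mul_assoc C C B, hC, refl_mul_self, one_mul]
      refine ext_basis (b := b) fun l => ?_
      rw [mul_app, hA, hB]
      by_cases h1 : l = p
      · subst h1; rw [refl_sub_other hb hqr (Ne.symm hpq) (Ne.symm hpr), refl_sub_left hb hpq, t1]
      by_cases h2 : l = q
      · subst h2; rw [refl_sub_left hb hqr, refl_sub_other hb hpq hpr hqr, t2]
      by_cases h3 : l = r
      · subst h3; rw [refl_sub_right hb hqr, refl_sub_right hb hpq, t3]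
      rw [refl_sub_other hb hqr (Ne.symm h2) (Ne.symm h3), refl_sub_other hb hpq (Ne.symm h1) (Ne.symm h2),
        t4 l h1 h2 h3]
    have hmemAC : A * C ∈ M ∧ C * B ∈ M := by
      constructor
      all_goals refine hM.mono_mem _ (pair_mem_commutator hb.two _ _ (by rw [sub_value hb, sub_value hb] <;>
        assumption)) (mono_of_cases hb fun l => ?_)
      all_goals simp only [mul_app, hA, hB, hC]
      · by_cases h1 : l = a
        · exact ⟨a', Or.inl (by rw [h1, refl_sub_left hb haa, refl_sub_other hb hpq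
            (Ne.symm ha'.2.2) (Ne.symm ha'.2.1)])⟩
        by_cases h2 : l = a'
        · exact ⟨a, Or.inl (by rw [h2, refl_sub_right hb haa, refl_sub_other hb hpq
            (Ne.symm ha.2.2) (Ne.symm ha.2.1)])⟩
        rw [refl_sub_other hb haa (Ne.symm h1) (Ne.symm h2)]
        by_cases h3 : l = p
        · exact ⟨q, Or.inl (by rw [h3, refl_sub_left hb hpq])⟩
        by_cases h4 : l = q
        · exact ⟨p, Or.inl (by rw [h4, refl_sub_right hb hpq])⟩
        exact ⟨l, Or.inl (refl_sub_other hb hpq (Ne.symm h3) (Ne.symm h4))⟩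
      · by_cases h1 : l = q
        · exact ⟨r, Or.inl (by rw [h1, refl_sub_left hb hqr, refl_sub_other hb haa ha.1 ha'.1])⟩
        by_cases h2 : l = r
        · exact ⟨q, Or.inl (by rw [h2, refl_sub_right hb hqr, refl_sub_other hb haa ha.2.1 ha'.2.1])⟩
        rw [refl_sub_other hb hqr (Ne.symm h1) (Ne.symm h2)]
        by_cases h3 : l = a
        · exact ⟨a', Or.inl (by rw [h3, refl_sub_left hb haa])⟩
        by_cases h4 : l = a'
        · exact ⟨a, Or.inl (by rw [h4, refl_sub_right hb haa])⟩
        exact ⟨l, Or.inl (refl_sub_other hb haa (Ne.symm h3) (Ne.symm h4))⟩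
    have hg' : g⁻¹ ∈ M := inv_mem hg
    have m1 := hconj g⁻¹ hg' (b p - b q) (b a - b a') _ _ (by
      simp [QuadraticMap.polar_sub_left, QuadraticMap.polar_sub_right, hb.orth _ _ (Ne.symm ha.2.2),
        hb.orth _ _ (Ne.symm ha'.2.2), hb.orth _ _ (Ne.symm ha.2.1), hb.orth _ _ (Ne.symm ha'.2.1)]) hmemAC.1
    have m2 := hconj g⁻¹ hg' (b a - b a') (b q - b r) _ _ (by
      simp [QuadraticMap.polar_sub_left, QuadraticMap.polar_sub_right, hb.orth _ _ ha.1, hb.orth _ _ ha'.1,
        hb.orth _ _ ha.2.1, hb.orth _ _ ha'.2.1]) hmemAC.2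
    rw [inv_inv] at m1 m2
    rw [e, show g⁻¹ * (A * C * (C * B)) * g = g⁻¹ * (A * C) * g * (g⁻¹ * (C * B) * g) by group]
    exact Mono.mul hb m1 m2

end CfsgLib.MaxSub.OLines
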