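import Cfsg.Agent.Lib.MaxSub.OLinesOrbit

/-!
Odd sets of coordinates: if the elements supported on one coordinate fewer, or (for at least seven
coordinates, or five outside characteristic three) on two coordinates fewer, are monomial, then so are the
elements supported on the set.
-/

set_option autoImplicit false
set_option linter.unusedSectionVars false

namespace CfsgLib.MaxSub.OLines

open CfsgLib.Classical CfsgLib.Geom
open QuadraticMap (polar)

variable {F V ι : Type*} [Field F] [AddCommGroup V] [Module F V] [Fintype ι] [DecidableEq ι]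
  {Q : QuadraticForm F V}

variable {b : Module.Basis ι F V} {c : F} (hb : Frame Q b c)
  {M : Subgroup (quadIsoms Q)} {K : Finset ι}

include hb

theorem repr_axis {x : quadIsoms Q} {v : V}
    (hx : ∀ u ∈ sp b K, x.1 u = (c⁻¹ * polar Q u v) • v - u) {w : V} (hw : w ∈ sp b K) (l : ι) :
    b.repr (x.1 w) l = 2 * (∑ i ∈ K, b.repr w i * b.repr v i) * b.repr v l - b.repr w l := by
  rw [hx w hw, map_sub, map_smul, Finsupp.sub_apply, Finsupp.smul_apply, smul_eq_mul, polar_sp_sum hb hw]
  field_simp [hb.ne]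

theorem repr_axis_basis {x : quadIsoms Q} {v : V}
    (hx : ∀ u ∈ sp b K, x.1 u = (c⁻¹ * polar Q u v) • v - u) {i : ι} (hi : i ∈ K) (l : ι) :
    b.repr (x.1 (b i)) l = 2 * b.repr v i * b.repr v l - if l = i then 1 else 0 := by
  rw [repr_axis hb hx (basis_mem_sp b hi), Finset.sum_eq_single i]
  · rw [b.repr_self]
    by_cases h : l = i
    · subst h; simp
    · simp [Finsupp.single_eq_of_ne h, h]
  · intro j _ hj
    simp [Finsupp.single_eq_of_ne hj]
  · exact fun h => absurd hi h

theorem short_of_axis_mono {x : quadIsoms Q} {v : V}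
    (hx : ∀ u ∈ sp b K, x.1 u = (c⁻¹ * polar Q u v) • v - u) (hvK : v ∈ sp b K) (hm : Mono b x) :
    Short b v ∧ ∀ i l, i ≠ l → b.repr v i ≠ 0 → b.repr v l ≠ 0 → 2 * b.repr v i * b.repr v i = 1 := by
  have key : ∀ i l, i ≠ l → b.repr v i ≠ 0 → b.repr v l ≠ 0 →
      2 * b.repr v i * b.repr v i = 1 ∧ ∀ a, a ≠ i → a ≠ l → b.repr v a = 0 := by
    intro i l hil vi vl
    have hi : i ∈ K := by_contra fun h => vi (hvK i h)
    obtain ⟨j, s, hj⟩ := hm i
    have hco : ∀ t, (2 * b.repr v i * b.repr v t - if t = i then 1 else 0) = if t = j then s else 0 :=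
      fun t => by rw [← repr_axis_basis hb hx hi, hj, repr_smul_basis]
    have hl := hco l
    rw [if_neg (Ne.symm hil), sub_zero] at hl
    have hlj : l = j := by
      by_contra hne
      rw [if_neg hne] at hl
      exact mul_ne_zero (mul_ne_zero hb.two vi) vl hl
    refine ⟨?_, fun a ha1 ha2 => ?_⟩
    · have := hco i
      rw [if_pos rfl, if_neg fun e => hil (e.trans hlj.symm)] at this
      linear_combination this
    · have := hco a
      rw [if_neg ha1, if_neg fun e => ha2 (e.trans hlj.symm), sub_zero] at this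
      exact (mul_eq_zero.1 this).resolve_left (mul_ne_zero hb.two vi)
  refine ⟨fun i l a hil hia hla => ?_, fun i l hil vi vl => (key i l hil vi vl).1⟩
  by_contra h
  push Not at h
  exact h.2.2 ((key i l hil h.1 h.2.1).2 a (Ne.symm hia) (Ne.symm hla))

variable (hM : Over b M)
include hM

theorem short_of_two_zeros (hodd : Odd K.card) (h4 : 4 ≤ K.card) (hs : Small₂ b M K) {v : V}
    (hv : InOrbit b M K v) {m₁ m₂ : ι} (h₁ : m₁ ∈ K) (h₂ : m₂ ∈ K) (hne : m₁ ≠ m₂)
    (z₁ : b.repr v m₁ = 0) (z₂ : b.repr v m₂ = 0) :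
    Short b v ∧ ∀ i l, i ≠ l → b.repr v i ≠ 0 → b.repr v l ≠ 0 → 2 * b.repr v i * b.repr v i = 1 := by
  obtain ⟨x, hxM, hxK, -, hxu⟩ := exists_axis hb hM hodd hv
  have hcol : ∀ m ∈ K, b.repr v m = 0 → x.1 (b m) = (-1 : F) • b m := fun m hm hz => by
    refine b.repr.injective (Finsupp.ext fun t => ?_)
    rw [repr_axis_basis hb hxu hm, hz, repr_smul_basis]
    split_ifs <;> ring
  exact short_of_axis_mono hb hxu (hv.mem_sp hb)
    (finish₂ hb hM h4 hxM hxK h₁ h₂ hne (hcol m₁ h₁ z₁) (hcol m₂ h₂ z₂) (hs m₁ h₁ m₂ h₂ hne))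

theorem ne_zero_of_not_short (hodd : Odd K.card) (h4 : 4 ≤ K.card) (hs : Small₂ b M K) {v : V}
    (hv : InOrbit b M K v) (hns : ¬ Short b v) {m : ι} (hm : m ∈ K) (hz : b.repr v m = 0) {i : ι}
    (hi : i ∈ K) (him : i ≠ m) : b.repr v i ≠ 0 :=
  fun h => hns (short_of_two_zeros hb hM hodd h4 hs hv hi hm him h hz).1

/-- five non-zero coordinates have equal squares -/
theorem sq_eq [Finite F] (hodd : Odd K.card) (hs : Small₂ b M K) {v : V} (hv : InOrbit b M K v)
    {S : Finset ι} (hSK : S ⊆ K) (hS : 5 ≤ S.card) (hnz : ∀ i ∈ S, b.repr v i ≠ 0) {i j : ι}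
    (hi : i ∈ S) (hj : j ∈ S) : b.repr v i * b.repr v i = b.repr v j * b.repr v j := by
  by_contra hne
  have hij : i ≠ j := fun e => hne (by rw [e])
  obtain ⟨l, a, a', hl, ha, ha', hla, hla', haa'⟩ := Finset.two_lt_card_iff.1
    (show 2 < ((S.erase i).erase j).card by
      rw [Finset.card_erase_of_mem (Finset.mem_erase.2 ⟨Ne.symm hij, hj⟩), Finset.card_erase_of_mem hi]
      omega)
  simp only [Finset.mem_erase] at hl ha ha'
  exact hnz a' ha'.2.2 ((pair_rule hb hM hodd (hS.trans (Finset.card_le_card hSK)) hs hv (hSK hi) (hSK hj)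
    (hSK hl.2.2) (hSK ha.2.2) hij hl.2.1 hl.1 ha.2.1 ha.1 hla (hnz i hi) (hnz j hj) (hnz l hl.2.2)
    (hnz a ha.2.2) hne).2 a' (hSK ha'.2.2) ha'.2.1 ha'.1 (Ne.symm hla') (Ne.symm haa'))

/-- elements whose columns have at most two non-zero entries are monomial -/
theorem mono_of_short (hodd : Odd K.card) (h5 : 5 ≤ K.card) (hs : Small₂ b M K) {K' : Finset ι}
    (hK' : K' ⊆ K) (h3 : 3 ≤ K'.card) (hs' : ∀ m ∈ K', Small b M (K'.erase m)) {g : quadIsoms Q}
    (hg : g ∈ M) (hgK' : FixOff b K' g) (hsh : ∀ e ∈ K', Short b (g.1 (b e))) : Mono b g := by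
  by_cases hmono : ∃ m ∈ K', ∃ (x : ι) (a : F), g.1 (b m) = a • b x
  · obtain ⟨m, hm, x, a, hx⟩ := hmono
    exact finish hb hM h3 hg hgK' hm hx (hs' m hm)
  push Not at hmono
  have hgK := hgK'.mono hK'
  -- every column has exactly two non-zero entries
  have hcol : ∀ e ∈ K', ∃ x y, x ≠ y ∧ b.repr (g.1 (b e)) x ≠ 0 ∧ b.repr (g.1 (b e)) y ≠ 0 ∧
      g.1 (b e) ∈ sp b {x, y} ∧ 2 * b.repr (g.1 (b e)) x * b.repr (g.1 (b e)) x = 1 := by
    intro e he
    obtain ⟨x, hx⟩ : ∃ x, b.repr (g.1 (b e)) x ≠ 0 := by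
      by_contra h
      push Not at h
      exact b.ne_zero e (g.1.map_eq_zero_iff.1 (b.repr.map_eq_zero_iff.1 (Finsupp.ext h)))
    obtain ⟨y, hyx, hy⟩ : ∃ y, y ≠ x ∧ b.repr (g.1 (b e)) y ≠ 0 := by
      by_contra h
      push Not at h
      refine hmono e he x (b.repr (g.1 (b e)) x) (b.repr.injective (Finsupp.ext fun t => ?_))
      rw [repr_smul_basis]
      split_ifs with ht
      · rw [ht]
      · exact h t ht
    have hsp : g.1 (b e) ∈ sp b {x, y} := fun t ht => by
      simp only [Finset.mem_insert, Finset.mem_singleton, not_or] at ht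
      rcases hsh e he x y t (Ne.symm hyx) (Ne.symm ht.1) (Ne.symm ht.2) with h | h | h
      exacts [absurd h hx, absurd h hy, h]
    obtain ⟨m₁, m₂, hm₁, hm₂, hne⟩ := Finset.one_lt_card_iff.1 (show 1 < ((K.erase x).erase y).card by
      have := Finset.pred_card_le_card_erase (a := y) (s := K.erase x)
      have := Finset.pred_card_le_card_erase (a := x) (s := K)
      omega)
    simp only [Finset.mem_erase] at hm₁ hm₂
    have hz : ∀ t, t ≠ y → t ≠ x → b.repr (g.1 (b e)) t = 0 := fun t h1 h2 =>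
      hsp t (by simp [h1, h2])
    exact ⟨x, y, Ne.symm hyx, hx, hy, hsp, (short_of_two_zeros hb hM hodd (by omega) hs
      ⟨g, hg, hgK, e, hK' he, rfl⟩ hm₁.2.2 hm₂.2.2 hne (hz _ hm₁.1 hm₁.2.1) (hz _ hm₂.1 hm₂.2.1)).2
      x y (Ne.symm hyx) hx hy⟩
  obtain ⟨e, he⟩ := Finset.card_pos.1 (show 0 < K'.card by omega)
  obtain ⟨x, y, hxy, hx, hy, hsp, hsq⟩ := hcol e he
  have hxK : x ∈ K' := by_contra fun h => hx (FixOff.map_sp hb hgK' (basis_mem_sp b he) x h)
  have hyK : y ∈ K' := by_contra fun h => hy (FixOff.map_sp hb hgK' (basis_mem_sp b he) y h)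
  -- a second column meets the first row
  obtain ⟨e', he', hee', hx'⟩ : ∃ e' ∈ K', e' ≠ e ∧ b.repr (g.1 (b e')) x ≠ 0 := by
    by_contra h
    push Not at h
    have h1 : InOrbit b M K' ((g⁻¹).1 (b x)) := ⟨g⁻¹, inv_mem hg, hgK'.inv, x, hxK, rfl⟩
    have h2 := h1.sum_sq hb
    rw [Finset.sum_eq_single e (fun t ht hte => by rw [repr_inv_basis hb, h t ht hte, mul_zero])
      (fun h => absurd he h), repr_inv_basis hb] at h2
    exact one_ne_zero (show (1 : F) = 0 by linear_combination hsq - 2 * h2)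
  obtain ⟨x', y', -, -, -, hsp', -⟩ := hcol e' he'
  have hor := polar_sp_sum hb hsp (v := g.1 (b e'))
  rw [iso_polar, hb.orth e e' (Ne.symm hee'), Finset.sum_pair hxy] at hor
  have hy' : b.repr (g.1 (b e')) y ≠ 0 := fun h0 => by
    rw [h0, mul_zero, add_zero] at hor
    exact mul_ne_zero (two_c_ne hb) (mul_ne_zero hx hx') hor.symm
  have hmem : g.1 (b e') ∈ sp b {x, y} := fun t ht => by
    simp only [Finset.mem_insert, Finset.mem_singleton, not_or] at ht
    rcases hsh e' he' x y t hxy (Ne.symm ht.1) (Ne.symm ht.2) with h | h | h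
    exacts [absurd h hx', absurd h hy', h]
  exact mono_of_pair hb hM h5 (fun h => by rw [h] at hodd; exact absurd hodd (by decide)) hs hg hgK
    (hK' he) (hK' he') (Ne.symm hee') (hK' hxK) (hK' hyK) hxy hsp hmem

/-- one coordinate fewer suffices -/
theorem small_of_small₁ [Finite F] (hodd : Odd K.card) (h5 : 5 ≤ K.card)
    (h : ∀ i ∈ K, Small b M (K.erase i)) : Small b M K := by
  have hs : Small₂ b M K := fun i hi j _ _ => (h i hi).mono (Finset.erase_subset _ _)
  have hshort : ∀ v, InOrbit b M K v → Short b v := by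
    have hfull : ∀ v, InOrbit b M K v → ¬ Short b v → ∀ i ∈ K, b.repr v i ≠ 0 := by
      intro v hv hns i hi hz
      obtain ⟨x, hxM, hxK, -, hxu⟩ := exists_axis hb hM hodd hv
      refine hns (short_of_axis_mono hb hxu (hv.mem_sp hb)
        (finish hb hM (by omega) hxM hxK hi (a := -1) (m' := i) ?_ (h i hi))).1
      refine b.repr.injective (Finsupp.ext fun t => ?_)
      rw [repr_axis_basis hb hxu hi, hz, repr_smul_basis]
      split_ifs <;> ring
    intro v hv
    by_contra hns
    have hnz := hfull v hv hns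
    have hsum := hv.sum_sq hb
    obtain ⟨a, ha⟩ := Finset.card_pos.1 (show 0 < K.card by omega)
    set γ := b.repr v a * b.repr v a with hγ
    have hsq : ∀ i ∈ K, b.repr v i * b.repr v i = γ := fun i hi =>
      sq_eq hb hM hodd hs hv subset_rfl h5 hnz hi ha
    obtain ⟨x, hxM, hxK, -, hxu⟩ := exists_axis hb hM hodd hv
    -- the image of a frame vector
    set u := x.1 (b a) with hu
    have huK : InOrbit b M K u := (InOrbit.basis ha).app hxM hxK
    have hul : ∀ l, b.repr u l = 2 * b.repr v a * b.repr v l - if l = a then 1 else 0 :=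
      fun l => repr_axis_basis hb hxu ha l
    obtain ⟨p, q, r, hp, hq, hr, hpq, hpr, hqr⟩ := Finset.two_lt_card_iff.1
      (show 2 < (K.erase a).card by rw [Finset.card_erase_of_mem ha]; omega)
    simp only [Finset.mem_erase] at hp hq hr
    have huo : ∀ t ∈ K, t ≠ a → b.repr u t ≠ 0 := fun t ht hta => by
      rw [hul, if_neg hta, sub_zero]
      exact mul_ne_zero (mul_ne_zero hb.two (hnz a ha)) (hnz t ht)
    have huns : ¬ Short b u := fun hsh => by
      rcases hsh p q r hpq hpr hqr with h' | h' | h'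
      exacts [huo p hp.2 hp.1 h', huo q hq.2 hq.1 h', huo r hr.2 hr.1 h']
    have h4γ : 4 * γ = 1 := by
      have e := sq_eq hb hM hodd hs huK subset_rfl h5 (hfull u huK huns) ha hp.2
      rw [hul, hul, if_pos rfl, if_neg hp.1] at e
      linear_combination -e - 4 * b.repr v a * b.repr v a * hsq p hp.2
    -- four sign changes
    obtain ⟨R, hRK, hR⟩ := Finset.exists_subset_card_eq (show 4 ≤ K.card by omega)
    obtain ⟨d, hd, hdb⟩ := exists_diag hb R (by rw [hR]; exact ⟨2, rfl⟩)
    have hdm : Mono b d := mono_of_cases hb fun l => ⟨l, by rw [hdb]; split_ifs <;> simp⟩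
    set w := d.1 v with hw
    have hwK : InOrbit b M K w := hv.app (hM.mono_mem d hd hdm)
      fun t ht => by rw [hdb, if_neg fun h => ht (hRK h)]
    have hwl : ∀ l, b.repr w l = if l ∈ R then -b.repr v l else b.repr v l := fun l => by
      rw [hw, diag_repr hb (e := fun l => if l ∈ R then -1 else 1) (fun i => by
        rw [hdb]; split_ifs <;> simp)]
      split_ifs <;> simp
    have hdot : ∑ i ∈ K, b.repr w i * b.repr v i = 1 - 8 * γ := by
      have e : ∀ i ∈ K, b.repr w i * b.repr v i = b.repr v i * b.repr v i - if i ∈ R then 2 * γ else 0 := by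
        intro i hi
        rw [hwl]
        split_ifs
        · linear_combination (-2 : F) * hsq i hi
        · ring
      rw [Finset.sum_congr rfl e, Finset.sum_sub_distrib, hsum, ← Finset.sum_filter,
        Finset.filter_mem_eq_inter, Finset.inter_eq_right.2 hRK, Finset.sum_const, hR, nsmul_eq_mul]
      push_cast; ring
    set u' := x.1 w with hu'
    have hu'K : InOrbit b M K u' := hwK.app hxM hxK
    have hu'l : ∀ l, b.repr u' l = if l ∈ R then -b.repr v l else -3 * b.repr v l := fun l => by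
      rw [hu', repr_axis hb hxu (hwK.mem_sp hb), hdot, hwl]
      split_ifs <;> linear_combination (-4 * b.repr v l) * h4γ
    obtain ⟨p', q', r', hp', hq', hr', hpq', hpr', hqr'⟩ := Finset.two_lt_card_iff.1
      (show 2 < R.card by omega)
    have hu'ns : ¬ Short b u' := fun hsh => by
      rcases hsh p' q' r' hpq' hpr' hqr' with h' | h' | h' <;> rw [hu'l, if_pos (by assumption)] at h'
      exacts [hnz p' (hRK hp') (neg_eq_zero.1 h'), hnz q' (hRK hq') (neg_eq_zero.1 h'),
        hnz r' (hRK hr') (neg_eq_zero.1 h')]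
    obtain ⟨o, hoK, hoR⟩ := Finset.exists_of_ssubset (Finset.ssubset_iff_subset_ne.2
      ⟨hRK, fun e => by rw [e] at hR; rw [hR] at hodd; exact absurd hodd (by decide)⟩)
    have e := sq_eq hb hM hodd hs hu'K subset_rfl h5 (hfull u' hu'K hu'ns) hoK (hRK hp')
    rw [hu'l, hu'l, if_neg hoR, if_pos hp'] at e
    exact hb.two (by linear_combination e - 9 * hsq o hoK + hsq p' (hRK hp') - 2 * h4γ)
  exact fun g hg hgK => mono_of_short hb hM hodd h5 hs subset_rfl (by omega) h hg hgK
    fun e he => hshort _ ⟨g, hg, hgK, e, he, rfl⟩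

/-- an orbit vector moved by a double transposition and sign changes -/
theorem exists_twist {v : V} (hv : InOrbit b M K v) {m c₀ d d' : ι} (hm : m ∈ K) (hc₀ : c₀ ∈ K)
    (hd : d ∈ K) (hd' : d' ∈ K) (hmc : m ≠ c₀) (hmd : m ≠ d) (hmd' : m ≠ d') (hcd : c₀ ≠ d)
    (hcd' : c₀ ≠ d') (hdd : d ≠ d') (hz : b.repr v m = 0) (heq : b.repr v d = b.repr v d')
    {D : Finset ι} (hD : D ⊆ (K.erase m).erase c₀) :
    ∃ w, InOrbit b M K w ∧ b.repr w m = b.repr v c₀ ∧ b.repr w c₀ = 0 ∧
      ∀ l ∈ (K.erase m).erase c₀, b.repr w l = if l ∈ D then -b.repr v l else b.repr v l := by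
  obtain ⟨τ, hτ, t1, t2, t3, t4, t5⟩ := exists_swaps hb hmc hdd hmd hmd' hcd hcd'
  have hτm : Mono b τ := mono_of_cases hb fun l => by
    by_cases e1 : l = m
    · subst e1; exact ⟨c₀, Or.inl t1⟩
    by_cases e2 : l = c₀
    · subst e2; exact ⟨m, Or.inl t2⟩
    by_cases e3 : l = d
    · subst e3; exact ⟨d', Or.inl t3⟩
    by_cases e4 : l = d'
    · subst e4; exact ⟨d, Or.inl t4⟩
    exact ⟨l, Or.inl (t5 l e1 e2 e3 e4)⟩
  obtain ⟨R, hR, hRK, hmR, hRD⟩ : ∃ R : Finset ι, Even R.card ∧ R ⊆ K ∧ m ∉ R ∧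
      ∀ l ∈ (K.erase m).erase c₀, (l ∈ R ↔ l ∈ D) := by
    have hDK : D ⊆ K := fun l hl => Finset.mem_of_mem_erase (Finset.mem_of_mem_erase (hD hl))
    have hmD : m ∉ D := fun h => by simpa using hD h
    have hcD : c₀ ∉ D := fun h => by simpa using hD h
    rcases Nat.even_or_odd D.card with he | ho
    · exact ⟨D, he, hDK, hmD, fun l _ => Iff.rfl⟩
    · exact ⟨insert c₀ D, by rw [Finset.card_insert_of_notMem hcD]; exact Odd.add_one ho,
        Finset.insert_subset hc₀ hDK, by simp [hmc, hmD], fun l hl => by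
          simp [(Finset.mem_erase.1 hl).1]⟩
  obtain ⟨f, hf, hfb⟩ := exists_diag hb R hR
  have hfm : Mono b f := mono_of_cases hb fun l => ⟨l, by rw [hfb]; split_ifs <;> simp⟩
  have hτo : InOrbit b M K (τ.1 v) := hv.app (hM.mono_mem τ hτ hτm) fun l hl =>
    t5 l (fun e => hl (e ▸ hm)) (fun e => hl (e ▸ hc₀)) (fun e => hl (e ▸ hd)) (fun e => hl (e ▸ hd'))
  refine ⟨f.1 (τ.1 v), hτo.app (hM.mono_mem f hf hfm)
    (fun l hl => by rw [hfb, if_neg fun h => hl (hRK h)]), ?_⟩
  have hcoord : ∀ p q, τ.1 (b p) = b q → b.repr (τ.1 v) q = b.repr v p := fun p q h => by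
    rw [repr_eq hb, repr_eq hb, ← h, iso_polar]
  have hdiag : ∀ l, b.repr (f.1 (τ.1 v)) l = (if l ∈ R then -1 else 1) * b.repr (τ.1 v) l :=
    diag_repr hb (e := fun l => if l ∈ R then (-1 : F) else 1) (fun i => by
      rw [hfb]; split_ifs <;> simp) _
  refine ⟨?_, ?_, fun l hl => ?_⟩
  · rw [hdiag, hcoord c₀ m t2, if_neg hmR, one_mul]
  · rw [hdiag, hcoord m c₀ t1, hz, mul_zero]
  · obtain ⟨hlc, hlm, -⟩ : l ≠ c₀ ∧ l ≠ m ∧ l ∈ K := by simpa using hl
    have hval : b.repr (τ.1 v) l = b.repr v l := by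
      by_cases e3 : l = d
      · subst e3; rw [hcoord d' l t4, heq]
      by_cases e4 : l = d'
      · subst e4; rw [hcoord d l t3, heq]
      exact hcoord l l (t5 l hlm hlc e3 e4)
    rw [hdiag, hval]
    simp only [hRD l hl]
    split_ifs <;> simp

/-- two coordinates fewer suffice -/
theorem small_erase_of_small₂ [Finite F] (hodd : Odd K.card) (h5 : 5 ≤ K.card)
    (h3 : (3 : F) ≠ 0 ∨ 7 ≤ K.card) (hs : Small₂ b M K) {m : ι} (hm : m ∈ K) :
    Small b M (K.erase m) := by
  intro g hg hgm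
  have hkey : ∀ v, InOrbit b M K v → b.repr v m = 0 → Short b v := by
    intro v hv hz
    by_contra hns
    have hnz : ∀ i ∈ K.erase m, b.repr v i ≠ 0 := fun i hi =>
      ne_zero_of_not_short hb hM hodd (by omega) hs hv hns hm hz (Finset.mem_of_mem_erase hi)
        (Finset.ne_of_mem_erase hi)
    have hcard : (K.erase m).card = K.card - 1 := Finset.card_erase_of_mem hm
    -- a coordinate such that the others have equal squares
    obtain ⟨c₀, hc₀, hsqC⟩ : ∃ c₀ ∈ K.erase m, ∀ i ∈ (K.erase m).erase c₀, ∀ j ∈ (K.erase m).erase c₀,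
        b.repr v i * b.repr v i = b.repr v j * b.repr v j := by
      rcases le_or_gt 7 K.card with h7 | h7
      · obtain ⟨c₀, hc₀⟩ := Finset.card_pos.1 (show 0 < (K.erase m).card by omega)
        exact ⟨c₀, hc₀, fun i hi j hj => sq_eq hb hM hodd hs hv (Finset.erase_subset m K) (by omega) hnz
          (Finset.mem_of_mem_erase hi) (Finset.mem_of_mem_erase hj)⟩
      · by_cases hall : ∀ i ∈ K.erase m, ∀ j ∈ K.erase m, b.repr v i * b.repr v i = b.repr v j * b.repr v j
        · obtain ⟨c₀, hc₀⟩ := Finset.card_pos.1 (show 0 < (K.erase m).card by omega)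
          exact ⟨c₀, hc₀, fun i hi j hj => hall i (Finset.mem_of_mem_erase hi) j (Finset.mem_of_mem_erase hj)⟩
        push Not at hall
        obtain ⟨i, hi, j, hj, hne⟩ := hall
        have hij : i ≠ j := fun e => hne (by rw [e])
        obtain ⟨l, a, hl, ha, hla⟩ := Finset.one_lt_card_iff.1
          (show 1 < (((K.erase m).erase i).erase j).card by
            rw [Finset.card_erase_of_mem (Finset.mem_erase.2 ⟨Ne.symm hij, hj⟩), Finset.card_erase_of_mem hi]
            obtain ⟨r, hr⟩ := hodd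
            omega)
        simp only [Finset.mem_erase] at hl ha
        have hlm : l ∈ K.erase m := Finset.mem_erase.2 hl.2.2
        have ham : a ∈ K.erase m := Finset.mem_erase.2 ha.2.2
        have hrule := fun i j hi' hj' hl' ha' hij' hli hlj hai haj hla' hne' =>
          (pair_rule hb hM hodd h5 hs hv (i := i) (j := j) (l := l) (a := a) (Finset.mem_of_mem_erase hi')
            (Finset.mem_of_mem_erase hj') (Finset.mem_of_mem_erase hl') (Finset.mem_of_mem_erase ha')
            hij' hli hlj hai haj hla' (hnz _ hi') (hnz _ hj') (hnz _ hl') (hnz _ ha') hne').1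
        have hla2 := hrule i j hi hj hlm ham hij hl.2.1 hl.1 ha.2.1 ha.1 hla hne
        have hset : ∀ t ∈ K.erase m, t = i ∨ t = j ∨ t = l ∨ t = a := by
          intro t ht
          by_contra hn
          push Not at hn
          exact hnz t ht ((pair_rule hb hM hodd h5 hs hv (i := i) (j := j) (l := l) (a := a)
            (Finset.mem_of_mem_erase hi) (Finset.mem_of_mem_erase hj) hl.2.2.2 ha.2.2.2 hij hl.2.1 hl.1
            ha.2.1 ha.1 hla (hnz _ hi) (hnz _ hj) (hnz _ hlm) (hnz _ ham) hne).2 t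
            (Finset.mem_of_mem_erase ht) hn.1 hn.2.1 hn.2.2.1 hn.2.2.2)
        by_cases hil : b.repr v i * b.repr v i = b.repr v l * b.repr v l
        · refine ⟨j, hj, ?_⟩
          have : ∀ t ∈ (K.erase m).erase j, b.repr v t * b.repr v t = b.repr v l * b.repr v l := by
            intro t ht
            rcases hset t (Finset.mem_of_mem_erase ht) with rfl | rfl | rfl | rfl
            exacts [hil, absurd rfl (Finset.ne_of_mem_erase ht), rfl, hla2.symm]
          exact fun s hs' t ht => (this s hs').trans (this t ht).symm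
        · have hja := (pair_rule hb hM hodd h5 hs hv (i := i) (j := l) (l := j) (a := a)
            (Finset.mem_of_mem_erase hi) hl.2.2.2 (Finset.mem_of_mem_erase hj) ha.2.2.2 (Ne.symm hl.2.1)
            (Ne.symm hij) (Ne.symm hl.1) ha.2.1 (Ne.symm hla) (Ne.symm ha.1) (hnz _ hi) (hnz _ hlm)
            (hnz _ hj) (hnz _ ham) hil).1
          refine ⟨i, hi, ?_⟩
          have : ∀ t ∈ (K.erase m).erase i, b.repr v t * b.repr v t = b.repr v a * b.repr v a := by
            intro t ht
            rcases hset t (Finset.mem_of_mem_erase ht) with rfl | rfl | rfl | rfl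
            exacts [absurd rfl (Finset.ne_of_mem_erase ht), hja, hla2, rfl]
          exact fun s hs' t ht => (this s hs').trans (this t ht).symm
    set C := (K.erase m).erase c₀ with hC
    have hCcard : C.card = K.card - 2 := by rw [hC, Finset.card_erase_of_mem hc₀, hcard]; omega
    have hCK : ∀ i ∈ C, i ∈ K := fun i hi => Finset.mem_of_mem_erase (Finset.mem_of_mem_erase hi)
    have hCz : ∀ i ∈ C, b.repr v i ≠ 0 := fun i hi => hnz i (Finset.mem_of_mem_erase hi)
    -- two equal coordinates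
    obtain ⟨p, q, r, hp, hq, hr, hpq, hpr, hqr⟩ := Finset.two_lt_card_iff.1 (show 2 < C.card by omega)
    obtain ⟨d, d', hd, hd', hdd, heq⟩ : ∃ d d', d ∈ C ∧ d' ∈ C ∧ d ≠ d' ∧
        b.repr v d = b.repr v d' := by
      rcases mul_self_eq_mul_self_iff.1 (hsqC p hp q hq) with h | h
      · exact ⟨p, q, hp, hq, hpq, h⟩
      rcases mul_self_eq_mul_self_iff.1 (hsqC p hp r hr) with h' | h'
      · exact ⟨p, r, hp, hr, hpr, h'⟩
      · exact ⟨q, r, hq, hr, hqr, neg_injective (h.symm.trans h')⟩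
    set γ := b.repr v p * b.repr v p with hγ
    obtain ⟨hdc, hdm, hdK⟩ : d ≠ c₀ ∧ d ≠ m ∧ d ∈ K := by simpa [hC] using hd
    obtain ⟨hd'c, hd'm, hd'K⟩ : d' ≠ c₀ ∧ d' ≠ m ∧ d' ∈ K := by simpa [hC] using hd'
    obtain ⟨x, hxM, hxK, -, hxu⟩ := exists_axis hb hM hodd hv
    -- images of twisted vectors
    have himg : ∀ D : Finset ι, D ⊆ C → ∃ (P : F) (u : V), InOrbit b M K u ∧
        P = 2 * ((C.card : F) - 2 * D.card) * γ ∧ b.repr u m = -b.repr v c₀ ∧
        b.repr u c₀ = P * b.repr v c₀ ∧ (∀ l ∈ D, b.repr u l = (P + 1) * b.repr v l) ∧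
        ∀ l ∈ C, l ∉ D → b.repr u l = (P - 1) * b.repr v l := by
      intro D hD
      obtain ⟨w, hw, hwm, hwc, hwC⟩ := exists_twist hb hM hv hm (Finset.mem_of_mem_erase hc₀) hdK hd'K
        (Ne.symm (Finset.ne_of_mem_erase hc₀)) hdm.symm hd'm.symm hdc.symm hd'c.symm hdd hz heq hD
      have hdot : ∑ i ∈ K, b.repr w i * b.repr v i = ((C.card : F) - 2 * D.card) * γ := by
        rw [← Finset.add_sum_erase K _ hm, ← Finset.add_sum_erase (K.erase m) _ hc₀, ← hC, hz, hwc,
          mul_zero, zero_mul, zero_add, zero_add, Finset.sum_congr rfl (g := fun i => γ - if i ∈ D then 2 * γ else 0)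
            fun i hi => by
              rw [hwC i hi]
              split_ifs
              · linear_combination -(hsqC i hi p hp)
              · linear_combination hsqC i hi p hp]
        rw [Finset.sum_sub_distrib, ← Finset.sum_filter, Finset.filter_mem_eq_inter,
          Finset.inter_eq_right.2 hD, Finset.sum_const, Finset.sum_const, nsmul_eq_mul, nsmul_eq_mul]
        ring
      refine ⟨_, x.1 w, hw.app hxM hxK, rfl, ?_, ?_, fun l hl => ?_, fun l hl hlD => ?_⟩
      all_goals rw [repr_axis hb hxu (hw.mem_sp hb), hdot]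
      · rw [hz, hwm]; ring
      · rw [hwc]; ring
      · rw [hwC l (hD hl), if_pos hl]; ring
      · rw [hwC l hl, if_neg hlD]; ring
    have hc₀z := hnz c₀ hc₀
    have hγ0 : γ ≠ 0 := mul_ne_zero (hCz p hp) (hCz p hp)
    have hmc : m ≠ c₀ := Ne.symm (Finset.ne_of_mem_erase hc₀)
    have hc₀K : c₀ ∈ K := Finset.mem_of_mem_erase hc₀
    have hCne : ∀ l ∈ C, l ≠ c₀ ∧ l ≠ m := fun l hl =>
      ⟨Finset.ne_of_mem_erase hl, Finset.ne_of_mem_erase (Finset.mem_of_mem_erase hl)⟩
    -- the coefficient is never `±1` when both parts have two coordinates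
    have hP1 : ∀ (P : F) (u : V) (D : Finset ι), InOrbit b M K u → D ⊆ C → b.repr u m = -b.repr v c₀ →
        b.repr u c₀ = P * b.repr v c₀ → (∀ l ∈ D, b.repr u l = (P + 1) * b.repr v l) →
        (∀ l ∈ C, l ∉ D → b.repr u l = (P - 1) * b.repr v l) → 0 < D.card → 2 ≤ (C \ D).card → P ≠ 1 := by
      intro P u D hu hD h1 h2 h3' h4 hD0 hS hP
      obtain ⟨d₁, hd₁⟩ := Finset.card_pos.1 hD0
      obtain ⟨s₁, s₂, hs₁, hs₂, hs12⟩ := Finset.one_lt_card_iff.1 (show 1 < (C \ D).card by omega)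
      rw [Finset.mem_sdiff] at hs₁ hs₂
      have hsh := (short_of_two_zeros hb hM hodd (by omega) hs hu (hCK _ hs₁.1) (hCK _ hs₂.1) hs12
        (by rw [h4 _ hs₁.1 hs₁.2, hP, sub_self, zero_mul])
        (by rw [h4 _ hs₂.1 hs₂.2, hP, sub_self, zero_mul])).1
      rcases hsh m c₀ d₁ hmc (hCne _ (hD hd₁)).2.symm (hCne _ (hD hd₁)).1.symm with h | h | h
      · exact hc₀z (neg_eq_zero.1 (h1 ▸ h))
      · rw [h2, hP, one_mul] at h; exact hc₀z h
      · rw [h3' _ hd₁, hP, one_add_one_eq_two] at h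
        exact mul_ne_zero hb.two (hCz _ (hD hd₁)) h
    -- outside the exceptions the squares agree, so the coefficient vanishes
    have hP0 : ∀ (P : F) (u : V) (D : Finset ι), InOrbit b M K u → D ⊆ C → b.repr u m = -b.repr v c₀ →
        (∀ l ∈ D, b.repr u l = (P + 1) * b.repr v l) →
        (∀ l ∈ C, l ∉ D → b.repr u l = (P - 1) * b.repr v l) → (b.repr u c₀ ≠ 0 ∨ 6 ≤ K.card) →
        P ≠ 1 → P ≠ -1 → 0 < D.card → 0 < (C \ D).card → P = 0 := by
      intro P u D hu hD h1 h3' h4 hbig hp1 hp2 hD0 hS0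
      obtain ⟨d₁, hd₁⟩ := Finset.card_pos.1 hD0
      obtain ⟨s₁, hs₁⟩ := Finset.card_pos.1 hS0
      rw [Finset.mem_sdiff] at hs₁
      have hnzC : ∀ l ∈ C, b.repr u l ≠ 0 := fun l hl => by
        by_cases hlD : l ∈ D
        · rw [h3' l hlD]; exact mul_ne_zero (fun h => hp2 (eq_neg_of_add_eq_zero_left h)) (hCz l hl)
        · rw [h4 l hl hlD]; exact mul_ne_zero (sub_ne_zero.2 hp1) (hCz l hl)
      have hnm : b.repr u m ≠ 0 := by rw [h1]; exact neg_ne_zero.2 hc₀z
      obtain ⟨S, hSK, hS5, hSnz, hdS, hsS⟩ : ∃ S : Finset ι, S ⊆ K ∧ 5 ≤ S.card ∧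
          (∀ i ∈ S, b.repr u i ≠ 0) ∧ d₁ ∈ S ∧ s₁ ∈ S := by
        rcases hbig with hc | h6
        · refine ⟨K, subset_rfl, h5, fun i hi => ?_, hCK _ (hD hd₁), hCK _ hs₁.1⟩
          by_cases e1 : i = m
          · rwa [e1]
          by_cases e2 : i = c₀
          · rwa [e2]
          exact hnzC i (Finset.mem_erase.2 ⟨e2, Finset.mem_erase.2 ⟨e1, hi⟩⟩)
        · refine ⟨insert m C, Finset.insert_subset hm fun i hi => hCK i hi, ?_, fun i hi => ?_,
            Finset.mem_insert_of_mem (hD hd₁), Finset.mem_insert_of_mem hs₁.1⟩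
          · rw [Finset.card_insert_of_notMem fun h => (hCne m h).2 rfl, hCcard]; omega
          · rcases Finset.mem_insert.1 hi with rfl | hi
            exacts [hnm, hnzC i hi]
      have e := sq_eq hb hM hodd hs hu hSK hS5 hSnz hdS hsS
      rw [h3' _ hd₁, h4 _ hs₁.1 hs₁.2] at e
      have e1 := hsqC d₁ (hD hd₁) p hp
      have e2 := hsqC s₁ hs₁.1 p hp
      have : 2 * 2 * γ * P = 0 := by linear_combination e - (P + 1) * (P + 1) * e1 + (P - 1) * (P - 1) * e2
      exact (mul_eq_zero.1 this).resolve_left (mul_ne_zero (mul_ne_zero hb.two hb.two) hγ0)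
    rcases le_or_gt 7 K.card with h7 | h7
    · have hr0 : ∀ r : ℕ, 2 ≤ r → r ≤ 3 → 2 * ((C.card : F) - 2 * r) * γ = 0 := by
        intro r hr2 hr3
        obtain ⟨D, hD, hDc⟩ := Finset.exists_subset_card_eq (show r ≤ C.card by omega)
        have hS : (C \ D).card = C.card - r := by rw [Finset.card_sdiff_of_subset hD, hDc]
        obtain ⟨P, u, hu, hP, h1, h2, h3', h4⟩ := himg D hD
        rw [hDc] at hP
        rw [← hP]
        have hp1 := hP1 P u D hu hD h1 h2 h3' h4 (by omega) (by omega)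
        have hp2 : P ≠ -1 := by
          intro hP'
          obtain ⟨d₁, d₂, hd₁, hd₂, hd12⟩ := Finset.one_lt_card_iff.1 (show 1 < D.card by omega)
          obtain ⟨s₁, hs₁⟩ := Finset.card_pos.1 (show 0 < (C \ D).card by omega)
          rw [Finset.mem_sdiff] at hs₁
          have hsh := (short_of_two_zeros hb hM hodd (by omega) hs hu (hCK _ (hD hd₁)) (hCK _ (hD hd₂))
            hd12 (by rw [h3' _ hd₁, hP', neg_add_cancel, zero_mul])
            (by rw [h3' _ hd₂, hP', neg_add_cancel, zero_mul])).1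
          rcases hsh m c₀ s₁ hmc (hCne _ hs₁.1).2.symm (hCne _ hs₁.1).1.symm with h | h | h
          · exact hc₀z (neg_eq_zero.1 (h1 ▸ h))
          · rw [h2, hP', neg_one_mul, neg_eq_zero] at h; exact hc₀z h
          · rw [h4 _ hs₁.1 hs₁.2, hP'] at h
            exact mul_ne_zero (show (-1 : F) - 1 ≠ 0 from fun h => hb.two (by linear_combination -h))
              (hCz _ hs₁.1) h
        exact hP0 P u D hu hD h1 h3' h4 (Or.inr (by omega)) hp1 hp2 (by omega) (by omega)
      have e2 := hr0 2 le_rfl (by norm_num)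
      have e3 := hr0 3 (by norm_num) le_rfl
      push_cast at e2 e3
      exact mul_ne_zero (mul_ne_zero hb.two hb.two) hγ0 (by linear_combination e2 - e3)
    · have hk : K.card = 5 := by obtain ⟨r, hr⟩ := hodd; omega
      have h3F : (3 : F) ≠ 0 := h3.resolve_right (by omega)
      have hCc : C.card = 3 := by omega
      have hD : ({p} : Finset ι) ⊆ C := Finset.singleton_subset_iff.2 hp
      have hS : (C \ {p}).card = 2 := by
        rw [Finset.card_sdiff_of_subset hD, Finset.card_singleton, hCc]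
      obtain ⟨P, u, hu, hP, h1, h2, h3', h4⟩ := himg {p} hD
      rw [hCc, Finset.card_singleton] at hP
      push_cast at hP
      have hp1 := hP1 P u {p} hu hD h1 h2 h3' h4 (by simp) (by omega)
      have hPne : P ≠ 0 := by
        rw [hP, show (2 : F) * (3 - 2 * 1) * γ = 2 * γ by ring]; exact mul_ne_zero hb.two hγ0
      by_cases hp2 : P = -1
      · obtain ⟨s₁, s₂, hs₁, hs₂, hs12⟩ := Finset.one_lt_card_iff.1 (show 1 < (C \ {p}).card by omega)
        rw [Finset.mem_sdiff] at hs₁ hs₂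
        have hm2 : ∀ s ∈ C, s ∉ ({p} : Finset ι) → b.repr u s = -2 * b.repr v s := fun s hs' hsp => by
          rw [h4 s hs' hsp, hp2]; ring
        have hne2 : ∀ s ∈ C, s ∉ ({p} : Finset ι) → b.repr u s ≠ 0 := fun s hs' hsp => by
          rw [hm2 s hs' hsp]; exact mul_ne_zero (neg_ne_zero.2 hb.two) (hCz s hs')
        have hsq0 : b.repr v c₀ * b.repr v c₀ = 4 * γ := by
          by_contra hne
          have e := (pair_rule hb hM hodd h5 hs hu (i := m) (j := s₁) (l := c₀) (a := s₂) hm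
            (hCK _ hs₁.1) hc₀K (hCK _ hs₂.1) (hCne _ hs₁.1).2.symm hmc.symm (hCne _ hs₁.1).1.symm
            (hCne _ hs₂.1).2 (Ne.symm hs12) (hCne _ hs₂.1).1.symm
            (by rw [h1]; exact neg_ne_zero.2 hc₀z) (hne2 _ hs₁.1 hs₁.2)
            (by rw [h2, hp2, neg_one_mul]; exact neg_ne_zero.2 hc₀z) (hne2 _ hs₂.1 hs₂.2)
            (by
              rw [h1, hm2 _ hs₁.1 hs₁.2]
              intro e
              exact hne (by linear_combination e + 4 * hsqC s₁ hs₁.1 p hp))).1
          rw [h2, hp2, hm2 _ hs₂.1 hs₂.2] at e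
          exact hne (by linear_combination e + 4 * hsqC s₂ hs₂.1 p hp)
        have hsum := hv.sum_sq hb
        rw [← Finset.add_sum_erase K _ hm, ← Finset.add_sum_erase (K.erase m) _ hc₀, ← hC, hz, mul_zero,
          zero_add, hsq0, Finset.sum_congr rfl (fun i hi => hsqC i hi p hp), Finset.sum_const, hCc,
          nsmul_eq_mul, ← hγ] at hsum
        push_cast at hsum
        rw [hp2] at hP
        refine mul_ne_zero h3F h3F ?_
        linear_combination (-2 : F) * hsum - 7 * hP
      · exact hPne (hP0 P u {p} hu hD h1 h3' h4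
          (Or.inl (by rw [h2]; exact mul_ne_zero hPne hc₀z)) hp1 hp2 (by simp) (by omega))
  exact mono_of_short hb hM hodd h5 hs (Finset.erase_subset m K)
    (by rw [Finset.card_erase_of_mem hm]; omega)
    (fun m' hm' => hs m hm m' (Finset.mem_of_mem_erase hm') (Finset.ne_of_mem_erase hm').symm)
    hg hgm fun e he => hkey _ ⟨g, hg, hgm.mono (Finset.erase_subset m K), e, Finset.mem_of_mem_erase he, rfl⟩
      (FixOff.map_sp hb hgm (basis_mem_sp b he) m (Finset.notMem_erase m K))

end CfsgLib.MaxSub.OLines
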