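import Cfsg.Agent.Lib.MaxSub.OLinesPair

/-!
Odd sets of coordinates: the images of frame vectors under elements supported on the set have at most two
non-zero coordinates as soon as the elements supported on fewer coordinates are monomial.
-/

set_option autoImplicit false
set_option linter.unusedSectionVars false

namespace CfsgLib.MaxSub.OLines

open CfsgLib.Classical CfsgLib.Geom
open QuadraticMap (polar)

variable {F V ι : Type*} [Field F] [AddCommGroup V] [Module F V] [Fintype ι] [DecidableEq ι]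
  {Q : QuadraticForm F V}

/-- the images of frame vectors of `K` under elements supported on `K` -/
def InOrbit (b : Module.Basis ι F V) (M : Subgroup (quadIsoms Q)) (K : Finset ι) (v : V) : Prop :=
  ∃ g ∈ M, FixOff b K g ∧ ∃ e ∈ K, g.1 (b e) = v

/-- at most two non-zero coordinates -/
def Short (b : Module.Basis ι F V) (v : V) : Prop :=
  ∀ i l a, i ≠ l → i ≠ a → l ≠ a → b.repr v i = 0 ∨ b.repr v l = 0 ∨ b.repr v a = 0

/-- elements supported on two coordinates fewer are monomial -/
def Small₂ (b : Module.Basis ι F V) (M : Subgroup (quadIsoms Q)) (K : Finset ι) : Prop :=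
  ∀ i ∈ K, ∀ j ∈ K, i ≠ j → Small b M ((K.erase i).erase j)

variable {b : Module.Basis ι F V} {c : F} (hb : Frame Q b c)
  {M : Subgroup (quadIsoms Q)} (hM : Over b M) {K : Finset ι}

theorem InOrbit.app {v : V} (hv : InOrbit b M K v) {x : quadIsoms Q} (hx : x ∈ M) (hxK : FixOff b K x) :
    InOrbit b M K (x.1 v) := by
  obtain ⟨g, hg, hgK, e, he, rfl⟩ := hv
  exact ⟨x * g, mul_mem hx hg, hxK.mul hgK, e, he, rfl⟩

theorem InOrbit.basis {e : ι} (he : e ∈ K) : InOrbit b M K (b e) :=
  ⟨1, one_mem _, FixOff.one, e, he, rfl⟩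

include hb

theorem InOrbit.mem_sp {v : V} (hv : InOrbit b M K v) : v ∈ sp b K := by
  obtain ⟨g, -, hgK, e, he, rfl⟩ := hv
  exact FixOff.map_sp hb hgK (basis_mem_sp b he)

theorem InOrbit.value {v : V} (hv : InOrbit b M K v) : Q v = c := by
  obtain ⟨g, -, -, e, -, rfl⟩ := hv
  rw [iso_value, hb.value]

theorem polar_sp_sum {u v : V} (hu : u ∈ sp b K) :
    polar Q u v = 2 * c * ∑ i ∈ K, b.repr u i * b.repr v i := by
  rw [polar_eq_sum hb]
  congr 1
  exact (Finset.sum_subset (Finset.subset_univ K) fun i _ hi => by rw [hu i hi, zero_mul]).symm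

theorem InOrbit.sum_sq {v : V} (hv : InOrbit b M K v) : ∑ i ∈ K, b.repr v i * b.repr v i = 1 := by
  have h := polar_sp_sum hb (hv.mem_sp hb) (v := v)
  rw [polar_self_two, hv.value hb] at h
  exact mul_left_cancel₀ (two_c_ne hb) (h.symm.trans (mul_one _).symm)

include hM

/-- the involution fixing `v` and negating its orthogonal in `K` -/
theorem exists_axis (hodd : Odd K.card) {v : V} (hv : InOrbit b M K v) :
    ∃ x ∈ M, FixOff b K x ∧ x * x = 1 ∧
      ∀ u ∈ sp b K, x.1 u = (c⁻¹ * polar Q u v) • v - u := by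
  obtain ⟨g, hg, hgK, e, he, hev⟩ := hv
  obtain ⟨f, hf, hfb⟩ := exists_diag hb (K.erase e) (by
    rw [Finset.card_erase_of_mem he]
    obtain ⟨m, hm⟩ := hodd
    exact ⟨m, by omega⟩)
  have hfm : Mono b f := mono_of_cases hb fun l => ⟨l, by rw [hfb]; split_ifs <;> simp⟩
  have hff : f * f = 1 := ext_basis (b := b) fun l => by
    show f.1 (f.1 (b l)) = b l
    rw [hfb]
    split_ifs with h
    · rw [map_neg, hfb, if_pos h, neg_neg]
    · rw [hfb, if_neg h]
  refine ⟨g * f * g⁻¹, mul_mem (mul_mem hg (hM.mono_mem f hf hfm)) (inv_mem hg),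
    (hgK.mul fun l hl => by rw [hfb, if_neg fun h => hl (Finset.mem_of_mem_erase h)]).mul hgK.inv, ?_,
    fun u hu => ?_⟩
  · rw [show g * f * g⁻¹ * (g * f * g⁻¹) = g * (f * f) * g⁻¹ by group, hff]; group
  · rw [mul_app, mul_app]
    refine g⁻¹.1.injective ?_
    rw [inv_app, map_sub, map_smul, ← hev, inv_app]
    have hu' := FixOff.map_sp hb hgK.inv hu
    have hp : polar Q u (g.1 (b e)) = polar Q ((g⁻¹).1 u) (b e) := by
      rw [← iso_polar g ((g⁻¹).1 u), app_inv]
    rw [hp, polar_basis hb]
    refine b.repr.injective (Finsupp.ext fun l => ?_)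
    rw [diag_repr hb (e := fun l => if l ∈ K.erase e then -1 else 1) (fun l => by
        rw [hfb]; split_ifs <;> simp), map_sub, Finsupp.sub_apply, repr_smul_basis]
    by_cases hle : l = e
    · subst hle
      simp only [Finset.mem_erase, ne_eq, not_true_eq_false, false_and, if_false, if_true, one_mul]
      field_simp [hb.ne]
      ring
    · by_cases hlK : l ∈ K
      · simp [hle, hlK]
      · rw [hu' l hlK]
        simp [hle, hlK]

/-- coordinates whose squares differ leave at most two further ones, of equal squares -/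
theorem pair_rule [Finite F] (hodd : Odd K.card) (h5 : 5 ≤ K.card) (hs : Small₂ b M K) {v : V}
    (hv : InOrbit b M K v) {i j l a : ι} (hi : i ∈ K) (hj : j ∈ K) (hl : l ∈ K) (ha : a ∈ K)
    (hij : i ≠ j) (hli : l ≠ i) (hlj : l ≠ j) (hai : a ≠ i) (haj : a ≠ j) (hla : l ≠ a)
    (vi : b.repr v i ≠ 0) (vj : b.repr v j ≠ 0) (vl : b.repr v l ≠ 0) (va : b.repr v a ≠ 0)
    (hne : b.repr v i * b.repr v i ≠ b.repr v j * b.repr v j) :
    b.repr v l * b.repr v l = b.repr v a * b.repr v a ∧
      ∀ a' ∈ K, a' ≠ i → a' ≠ j → a' ≠ l → a' ≠ a → b.repr v a' = 0 := by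
  haveI := finite_quadIsoms b (Q := Q)
  by_contra hcon
  have h2 := hb.two
  have hneg : ∀ {w : V}, w ≠ 0 → -w ≠ w := fun {w} hw h => hw ((smul_eq_zero.1
    (show (2 : F) • w = 0 by rw [two_smul]; nth_rw 1 [← h]; exact neg_add_cancel w)).resolve_left h2)
  obtain ⟨x, hxM, hxK, hxx, hxu⟩ := exists_axis hb hM hodd hv
  obtain ⟨y, hyM, hym, hyi, hyj, hyo⟩ := exists_flip hb hM i j hij
  have hyy : y * y = 1 := ext_basis (b := b) fun t => by
    show y.1 (y.1 (b t)) = b t
    by_cases h1 : t = i
    · subst h1; rw [hyi, map_neg, hyi, neg_neg]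
    by_cases h2 : t = j
    · subst h2; rw [hyj, map_neg, hyj, neg_neg]
    rw [hyo t h1 h2, hyo t h1 h2]
  have hyK : FixOff b K y := fun t ht => hyo t (fun e => ht (e ▸ hi)) (fun e => ht (e ▸ hj))
  have hyfix : ∀ w, b.repr w i = 0 → b.repr w j = 0 → y.1 w = w := fun w e1 e2 =>
    FixOff.fix_perp (K := {i, j}) hb (fun t ht => by
      simp only [Finset.mem_insert, Finset.mem_singleton, not_or] at ht
      exact hyo t ht.1 ht.2) fun t ht => by
      rcases Finset.mem_insert.1 ht with rfl | ht
      · exact e1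
      · rw [Finset.mem_singleton.1 ht]; exact e2
  -- vectors orthogonal to `v` away from `i, j`
  have hW : ∀ w ∈ sp b K, polar Q w v = 0 → b.repr w i = 0 → b.repr w j = 0 →
      ∀ k : ℕ, ((x * y) ^ k).1 w = ((-1 : F) ^ k) • w := by
    intro w hw hwv e1 e2 k
    induction k with
    | zero => rw [pow_zero, pow_zero, one_smul]; rfl
    | succ k ih =>
      rw [pow_succ, mul_app, mul_app, hyfix w e1 e2, hxu w hw, hwv, mul_zero, zero_smul, zero_sub,
        map_neg, ih, pow_succ, mul_smul, neg_one_smul, smul_neg]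
  set w₀ := b.repr v a • b l - b.repr v l • b a with hw₀
  have hw₀K : w₀ ∈ sp b K :=
    sub_mem (Submodule.smul_mem _ _ (basis_mem_sp b hl)) (Submodule.smul_mem _ _ (basis_mem_sp b ha))
  have hw₀v : polar Q w₀ v = 0 := by
    rw [hw₀, QuadraticMap.polar_sub_left, QuadraticMap.polar_smul_left, QuadraticMap.polar_smul_left,
      QuadraticMap.polar_comm _ (b l), QuadraticMap.polar_comm _ (b a), polar_basis hb, polar_basis hb,
      smul_eq_mul, smul_eq_mul]
    ring
  have hw₀r : ∀ t, b.repr w₀ t = (if t = l then b.repr v a else 0) - if t = a then b.repr v l else 0 :=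
    fun t => by rw [hw₀, map_sub, Finsupp.sub_apply, repr_smul_basis, repr_smul_basis]
  have hw₀i : b.repr w₀ i = 0 := by rw [hw₀r, if_neg hli.symm, if_neg hai.symm, sub_zero]
  have hw₀j : b.repr w₀ j = 0 := by rw [hw₀r, if_neg hlj.symm, if_neg haj.symm, sub_zero]
  have hw₀0 : w₀ ≠ 0 := fun e => va (by
    have := hw₀r l
    rw [e, map_zero, Finsupp.zero_apply, if_pos rfl, if_neg hla, sub_zero] at this
    exact this.symm)
  obtain ⟨m, hz1, hzz, hzx, hzy⟩ := exists_central hxx hyy fun k h => by
    have e := congrArg (fun t : quadIsoms Q => t.1 (((x * y) ^ k).1 w₀)) h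
    simp only [mul_app, inv_app] at e
    rw [hxu w₀ hw₀K, hw₀v, mul_zero, zero_smul, zero_sub, map_neg, hW w₀ hw₀K hw₀v hw₀i hw₀j k,
      map_smul, hyfix w₀ hw₀i hw₀j, ← smul_neg] at e
    exact hneg hw₀0 (smul_right_injective V (pow_ne_zero k (neg_ne_zero.2 one_ne_zero)) e)
  set z := (x * y) ^ m with hz
  obtain ⟨ε, hεe⟩ : ∃ ε, ε = (-1 : F) ^ m := ⟨_, rfl⟩
  have hzM : z ∈ M := pow_mem (mul_mem hxM hyM) m
  have hzK : FixOff b K z := by
    rw [hz]
    clear hz1 hzz hzx hzy hzM hz hεe
    induction m with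
    | zero => rw [pow_zero]; exact FixOff.one
    | succ m ih => rw [pow_succ]; exact ih.mul (hxK.mul hyK)
  have hzplane : ∀ t, t = i ∨ t = j → z.1 (b t) ∈ sp b {i, j} := by
    intro t ht s hs'
    simp only [Finset.mem_insert, Finset.mem_singleton, not_or] at hs'
    have h1 : y.1 (z.1 (b t)) = -z.1 (b t) := by
      rw [← mul_app, hzy, mul_app]
      rcases ht with rfl | rfl
      · rw [hyi, map_neg]
      · rw [hyj, map_neg]
    have h2' := congrArg (fun w => b.repr w s) h1
    rw [show b.repr (y.1 (z.1 (b t))) s = b.repr (z.1 (b t)) s from ?_, map_neg, Finsupp.neg_apply] at h2'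
    · exact (mul_eq_zero.1 (show (2 : F) * b.repr (z.1 (b t)) s = 0 by linear_combination h2')).resolve_left h2
    · exact FixOff.repr hb (K := {i, j}) (fun u hu => by
        simp only [Finset.mem_insert, Finset.mem_singleton, not_or] at hu
        exact hyo u hu.1 hu.2) _ (by simp [hs'.1, hs'.2])
  have hk6 : K.card ≠ 6 := fun h => by rw [h] at hodd; exact absurd hodd (by decide)
  have hzm := mono_of_pair hb hM h5 hk6 hs hzM hzK hi hj hij hi hj hij (hzplane i (Or.inl rfl))
    (hzplane j (Or.inr rfl))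
  obtain ⟨σ, s, hσ⟩ := Mono.exists_perm hb hzm
  have hs0 : ∀ t, s t ≠ 0 := fun t e => by simpa [e] using (hσ t).2
  -- action on two non-zero coordinates away from `i, j`
  have hpairs : ∀ p ∈ K, ∀ q ∈ K, p ≠ q → p ≠ i → p ≠ j → q ≠ i → q ≠ j → b.repr v p ≠ 0 →
      b.repr v q ≠ 0 → (σ p = p ∧ s p = ε) ∨
        (σ p = q ∧ b.repr v p * b.repr v p = b.repr v q * b.repr v q) := by
    intro p hp q hq hpq hpi hpj hqi hqj vp vq
    have hwK : b.repr v q • b p - b.repr v p • b q ∈ sp b K :=
      sub_mem (Submodule.smul_mem _ _ (basis_mem_sp b hp)) (Submodule.smul_mem _ _ (basis_mem_sp b hq))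
    have hwv : polar Q (b.repr v q • b p - b.repr v p • b q) v = 0 := by
      rw [QuadraticMap.polar_sub_left, QuadraticMap.polar_smul_left, QuadraticMap.polar_smul_left,
        QuadraticMap.polar_comm _ (b p), QuadraticMap.polar_comm _ (b q), polar_basis hb, polar_basis hb,
        smul_eq_mul, smul_eq_mul]
      ring
    have h := hW _ hwK hwv (by simp [map_sub, repr_smul_basis, hpi.symm, hqi.symm])
      (by simp [map_sub, repr_smul_basis, hpj.symm, hqj.symm]) m
    rw [← hz, ← hεe, map_sub, map_smul, map_smul, (hσ p).1, (hσ q).1, smul_smul, smul_smul] at h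
    have h' := congrArg (fun w => b.repr w (σ p)) h
    simp only [smul_sub, smul_smul, map_sub, Finsupp.sub_apply, repr_smul_basis] at h'
    rw [if_pos trivial, if_neg (fun e => hpq (σ.injective e) : ¬ σ p = σ q), sub_zero] at h'
    by_cases hpp : σ p = p
    · rw [if_pos hpp, if_neg (fun e => hpq (hpp.symm.trans e)), sub_zero] at h'
      exact Or.inl ⟨hpp, mul_left_cancel₀ vq (by linear_combination h')⟩
    rw [if_neg hpp] at h'
    by_cases hpq' : σ p = q
    · rw [if_pos hpq'] at h'
      refine Or.inr ⟨hpq', ?_⟩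
      have hε2 : ε * ε = 1 := by rw [hεe, ← mul_pow]; simp
      linear_combination -(b.repr v q * s p - ε * b.repr v p) * h'
        + b.repr v q * b.repr v q * (hσ p).2 - b.repr v p * b.repr v p * hε2
    · rw [if_neg hpq', sub_zero] at h'
      exact absurd h' (mul_ne_zero vq (hs0 p))
  -- now every coordinate away from `i, j` is fixed with the same sign
  have hfix : ∀ p ∈ K, p ≠ i → p ≠ j → σ p = p ∧ s p = ε := by
    intro p hp hpi hpj
    by_cases vp : b.repr v p = 0
    · have h := hW (b p) (basis_mem_sp b hp) (by rw [QuadraticMap.polar_comm, polar_basis hb, vp, mul_zero])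
        (by simp [Finsupp.single_apply, hpi]) (by simp [Finsupp.single_apply, hpj]) m
      rw [← hz, ← hεe, (hσ p).1] at h
      have e := basis_inj (hs0 p) h
      rw [e] at h
      exact ⟨e, by simpa [repr_smul_basis] using congrArg (fun w => b.repr w p) h⟩
    by_contra hbad
    apply hcon
    have hswap : ∀ q ∈ K, q ≠ p → q ≠ i → q ≠ j → b.repr v q ≠ 0 →
        σ p = q ∧ b.repr v p * b.repr v p = b.repr v q * b.repr v q := fun q hq h1 h2 h3 h4 =>
      (hpairs p hp q hq (Ne.symm h1) hpi hpj h2 h3 vp h4).resolve_left hbad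
    have hpla : p = l ∨ p = a := by
      by_contra hne'
      push Not at hne'
      exact hla ((hswap l hl (Ne.symm hne'.1) hli hlj vl).1.symm.trans
        (hswap a ha (Ne.symm hne'.2) hai haj va).1)
    rcases hpla with rfl | rfl
    · obtain ⟨e1, e2⟩ := hswap a ha (Ne.symm hla) hai haj va
      refine ⟨e2, fun a' ha' h1 h2 h3 h4 => by_contra fun va' => h4 ?_⟩
      exact (hswap a' ha' h3 h1 h2 va').1.symm.trans e1
    · obtain ⟨e1, e2⟩ := hswap l hl hla hli hlj vl
      refine ⟨e2.symm, fun a' ha' h1 h2 h3 h4 => by_contra fun va' => h3 ?_⟩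
      exact (hswap a' ha' h4 h1 h2 va').1.symm.trans e1
  obtain ⟨η, hη⟩ : ∃ η : F, z.1 v = η • v := by
    have h1 : x.1 (z.1 v) = z.1 v := by
      rw [← mul_app, hzx, mul_app, hxu v (hv.mem_sp hb), polar_self_two, hv.value hb]
      congr 1
      rw [show c⁻¹ * (2 * c) = 2 by field_simp [hb.ne], two_smul]
      abel
    rw [hxu _ (FixOff.map_sp hb hzK (hv.mem_sp hb))] at h1
    refine ⟨c⁻¹ * polar Q (z.1 v) v * 2⁻¹, ?_⟩
    have h3 : (2 : F) • z.1 v = (c⁻¹ * polar Q (z.1 v) v) • v := by
      rw [two_smul]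
      nth_rw 1 [← h1]
      abel
    rw [← smul_right_injective V h2 |>.eq_iff, smul_smul, ← mul_assoc, mul_comm (2 : F), mul_assoc,
      mul_inv_cancel₀ h2, mul_one]
    exact h3
  have hrow : ∀ t, b.repr (z.1 v) (σ t) = s t * b.repr v t := by
    intro t
    conv_lhs => rw [← b.sum_repr v]
    rw [map_sum, map_sum, Finsupp.finsetSum_apply, Finset.sum_eq_single t]
    · rw [map_smul, (hσ t).1, smul_smul, repr_smul_basis, if_pos rfl]; ring
    · intro q _ hq
      rw [map_smul, (hσ q).1, smul_smul, repr_smul_basis, if_neg fun e => hq (σ.injective e.symm)]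
    · simp
  have hηε : η = ε := by
    have h := hrow l
    rw [(hfix l hl hli hlj).1, (hfix l hl hli hlj).2, hη, map_smul, Finsupp.smul_apply, smul_eq_mul] at h
    exact mul_right_cancel₀ vl h
  have hall : ∀ t ∈ K, z.1 (b t) = ε • b t := by
    intro t ht
    by_cases htij : t = i ∨ t = j
    · have hmem : σ t = i ∨ σ t = j := by
        by_contra hnot
        have h := hzplane t htij (σ t) (by simpa using hnot)
        rw [(hσ t).1, repr_smul_basis, if_pos rfl] at h
        exact hs0 t h
      have h := hrow t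
      rw [hη, hηε, map_smul, Finsupp.smul_apply, smul_eq_mul] at h
      have hst : σ t = t := by
        by_contra hne'
        apply hne
        have hsq : b.repr v (σ t) * b.repr v (σ t) = b.repr v t * b.repr v t := by
          have hε2 : ε * ε = 1 := by rw [hεe, ← mul_pow]; simp
          linear_combination (ε * b.repr v (σ t) + s t * b.repr v t) * h
            - b.repr v (σ t) * b.repr v (σ t) * hε2 + b.repr v t * b.repr v t * (hσ t).2
        rcases htij with rfl | rfl
        · rw [hmem.resolve_left hne'] at hsq; exact hsq.symm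
        · rw [hmem.resolve_right hne'] at hsq; exact hsq
      rw [hst] at h
      have hv0 : b.repr v t ≠ 0 := by
        rcases htij with rfl | rfl
        exacts [vi, vj]
      rw [(hσ t).1, hst, ← mul_right_cancel₀ hv0 h]
    · push Not at htij
      rw [(hσ t).1, (hfix t ht htij.1 htij.2).1, (hfix t ht htij.1 htij.2).2]
  rcases neg_one_pow_eq_or F m with he | he
  · rw [← hεe] at he
    refine hz1 (ext_basis (b := b) fun t => ?_)
    by_cases ht : t ∈ K
    · rw [hall t ht, he, one_smul]; rfl
    · rw [hzK t ht]; rfl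
  · rw [← hεe] at he
    have hdet := det_mono (b := b) z 1 (fun t => if t ∈ K then -1 else 1) fun t => by
      by_cases ht : t ∈ K
      · rw [hall t ht, he, if_pos ht]; rfl
      · rw [hzK t ht, if_neg ht, one_smul]; rfl
    rw [det_commutator (hM.le hzM), map_one, Units.val_one, Int.cast_one, one_mul, Finset.prod_ite_mem,
      Finset.univ_inter, Finset.prod_const, hodd.neg_one_pow] at hdet
    exact h2 (by linear_combination hdet)

end CfsgLib.MaxSub.OLines
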