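import Cfsg.Agent.Lib.MaxSub.OLinesSide

/-!
Two involutions which are not conjugate in the dihedral group they generate commute with an involution
in it.
-/

set_option autoImplicit false
set_option linter.unusedSectionVars false

namespace CfsgLib.MaxSub.OLines

theorem exists_central {G : Type*} [Group G] [Finite G] {x y : G} (hx : x * x = 1) (hy : y * y = 1)
    (hnc : ∀ k : ℕ, (x * y) ^ k * x * ((x * y) ^ k)⁻¹ ≠ y) :
    ∃ m : ℕ, (x * y) ^ m ≠ 1 ∧ (x * y) ^ m * (x * y) ^ m = 1 ∧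
      x * (x * y) ^ m = (x * y) ^ m * x ∧ y * (x * y) ^ m = (x * y) ^ m * y := by
  have hxi : x⁻¹ = x := inv_eq_of_mul_eq_one_right hx
  have hyi : y⁻¹ = y := inv_eq_of_mul_eq_one_right hy
  have hd : x * (x * y) * x⁻¹ = (x * y)⁻¹ := by
    rw [mul_inv_rev, hyi, hxi, ← mul_assoc x x y, hx, one_mul]
  have hdk : ∀ k : ℕ, x * (x * y) ^ k = ((x * y) ^ k)⁻¹ * x := fun k => by
    rw [← inv_pow, ← hd, conj_pow]; group
  obtain ⟨N, hN⟩ : ∃ N, N = orderOf (x * y) := ⟨_, rfl⟩
  rcases Nat.even_or_odd N with ⟨m, hm⟩ | ⟨j, hj⟩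
  · have hpos : 0 < orderOf (x * y) := orderOf_pos _
    have hsq : (x * y) ^ m * (x * y) ^ m = 1 := by rw [← pow_add, ← hm, hN, pow_orderOf_eq_one]
    have hxc : x * (x * y) ^ m = (x * y) ^ m * x := by rw [hdk, inv_eq_of_mul_eq_one_right hsq]
    refine ⟨m, fun h => ?_, hsq, hxc, ?_⟩
    · have := Nat.le_of_dvd (by omega) (orderOf_dvd_of_pow_eq_one h)
      omega
    · have h1 : Commute (x * (x * y)) ((x * y) ^ m) :=
        (show Commute x ((x * y) ^ m) from hxc).mul_left ((Commute.refl (x * y)).pow_right m)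
      rw [← mul_assoc, hx, one_mul] at h1
      exact h1
  · refine absurd ?_ (hnc j)
    have h1 : (x * y) ^ (2 * j + 1) = 1 := by rw [← hj, hN, pow_orderOf_eq_one]
    have h2 : x * y = ((x * y) ^ (2 * j))⁻¹ := eq_inv_of_mul_eq_one_right (by rw [← pow_succ]; exact h1)
    have h3 : (x * y) ^ j * x = x * ((x * y) ^ j)⁻¹ := by
      rw [eq_mul_inv_iff_mul_eq, mul_assoc, hdk j, mul_inv_cancel_left]
    calc (x * y) ^ j * x * ((x * y) ^ j)⁻¹ = x * ((x * y) ^ (2 * j))⁻¹ := by
          rw [h3, two_mul, pow_add, mul_inv_rev, mul_assoc]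
      _ = x * (x * y) := by rw [← h2]
      _ = y := by rw [← mul_assoc, hx, one_mul]

theorem finite_quadIsoms {F V ι : Type*} [Field F] [Finite F] [AddCommGroup V] [Module F V] [Fintype ι]
    (b : Module.Basis ι F V) {Q : QuadraticForm F V} : Finite (CfsgLib.Geom.quadIsoms Q) := by
  haveI : Finite V := Finite.of_equiv _ b.equivFun.symm.toEquiv
  exact Finite.of_injective (fun g => (⇑g.1 : V → V)) fun g h e =>
    Subtype.ext (LinearEquiv.ext (congrFun e))

end CfsgLib.MaxSub.OLines
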