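import Cfsg.Agent.Lib.MaxSub.OLinesPair
import Mathlib.LinearAlgebra.Dual.Lemmas

/-!
Even numbers of coordinates: an involution of an overgroup with a two-dimensional negated plane, and its
interplay with sign changes on four coordinates.
-/

set_option autoImplicit false
set_option linter.unusedSectionVars false

namespace CfsgLib.MaxSub.OLines

open CfsgLib.Classical CfsgLib.Geom
open QuadraticMap (polar)

variable {F V ι : Type*} [Field F] [AddCommGroup V] [Module F V] [Fintype ι] [DecidableEq ι]
  {Q : QuadraticForm F V}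

/-- the plane spanned by two vectors -/
def plane (u s : V) : Submodule F V := Submodule.span F {u, s}

theorem mem_plane {u s v : V} : v ∈ plane (F := F) u s ↔ ∃ α β : F, α • u + β • s = v :=
  Submodule.mem_span_pair

theorem left_mem_plane (u s : V) : u ∈ plane (F := F) u s := Submodule.subset_span (Set.mem_insert _ _)

theorem right_mem_plane (u s : V) : s ∈ plane (F := F) u s :=
  Submodule.subset_span (Set.mem_insert_of_mem _ rfl)

theorem plane_span {u s p q : V} (hp : p ∈ plane (F := F) u s) (hq : q ∈ plane (F := F) u s) (hp0 : p ≠ 0)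
    (hnp : ∀ t : F, q ≠ t • p) : plane (F := F) u s ≤ plane p q := by
  obtain ⟨a₁, b₁, e₁⟩ := mem_plane.1 hp
  obtain ⟨a₂, b₂, e₂⟩ := mem_plane.1 hq
  have hD : a₁ * b₂ - a₂ * b₁ ≠ 0 := by
    intro hD
    by_cases ha : a₁ = 0
    · subst ha
      have hb₁ : b₁ ≠ 0 := fun h => hp0 (by rw [← e₁, h, zero_smul, zero_smul, zero_add])
      have ha₂ : a₂ = 0 := (mul_eq_zero.1 (show a₂ * b₁ = 0 by linear_combination -hD)).resolve_right hb₁
      refine hnp (b₂ / b₁) ?_
      rw [← e₁, ← e₂, ha₂, zero_smul, zero_add, zero_add, smul_smul, div_mul_cancel₀ _ hb₁]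
    · refine hnp (a₂ / a₁) ?_
      rw [← e₁, ← e₂, smul_add, smul_smul, smul_smul, div_mul_cancel₀ _ ha]
      congr 2
      field_simp
      linear_combination hD
  have hsu : ∀ {z : V}, (∃ x y : F, x • p + y • q = (a₁ * b₂ - a₂ * b₁) • z) → z ∈ plane (F := F) p q :=
    fun {z} h => (Submodule.smul_mem_iff _ hD).1 (mem_plane.2 h)
  refine Submodule.span_le.2 ?_
  rintro z (rfl | rfl)
  · exact hsu ⟨b₂, -b₁, by rw [← e₁, ← e₂]; module⟩
  · exact hsu ⟨-a₂, a₁, by rw [← e₁, ← e₂]; module⟩

theorem pair_apply {u s : V} (hu : Q u ≠ 0) (hs : Q s ≠ 0) (hor : polar Q u s = 0) (v : V) :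
    (refl Q u hu * refl Q s hs).1 v =
      v - ((Q u)⁻¹ * polar Q u v) • u - ((Q s)⁻¹ * polar Q s v) • s := by
  rw [mul_app, refl_apply, refl_apply, QuadraticMap.polar_sub_right, QuadraticMap.polar_smul_right, hor,
    smul_zero, sub_zero]
  abel

variable {b : Module.Basis ι F V} {c : F} (hb : Frame Q b c) {u s : V}

theorem mono_repr {z : quadIsoms Q} {σ : Equiv.Perm ι} {sg : ι → F}
    (h : ∀ i, z.1 (b i) = sg i • b (σ i)) (v : V) (t : ι) :
    b.repr (z.1 v) (σ t) = sg t * b.repr v t := by
  conv_lhs => rw [← b.sum_repr v]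
  rw [map_sum, map_sum, Finsupp.finsetSum_apply, Finset.sum_eq_single t]
  · rw [map_smul, h t, smul_smul, repr_smul_basis, if_pos rfl]; ring
  · intro q _ hq
    rw [map_smul, h q, smul_smul, repr_smul_basis, if_neg fun e => hq (σ.injective e.symm)]
  · simp

section Pair

variable (hu : Q u ≠ 0) (hs : Q s ≠ 0) (hor : polar Q u s = 0)
include hb hor

theorem pair_neg {v : V} (hv : v ∈ plane (F := F) u s) : (refl Q u hu * refl Q s hs).1 v = -v := by
  obtain ⟨α, β, rfl⟩ := mem_plane.1 hv
  rw [pair_apply hu hs hor, QuadraticMap.polar_add_right, QuadraticMap.polar_add_right,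
    QuadraticMap.polar_smul_right, QuadraticMap.polar_smul_right, QuadraticMap.polar_smul_right,
    QuadraticMap.polar_smul_right, hor, QuadraticMap.polar_comm Q s u, hor, polar_self_two, polar_self_two,
    smul_eq_mul, smul_eq_mul, smul_eq_mul, smul_eq_mul, mul_zero, mul_zero, add_zero, zero_add,
    show (Q u)⁻¹ * (α * (2 * Q u)) = 2 * α by field_simp,
    show (Q s)⁻¹ * (β * (2 * Q s)) = 2 * β by field_simp]
  module

omit hb in
theorem pair_fix {v : V} (h1 : polar Q u v = 0) (h2 : polar Q s v = 0) :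
    (refl Q u hu * refl Q s hs).1 v = v := by
  rw [pair_apply hu hs hor, h1, h2, mul_zero, mul_zero, zero_smul, zero_smul, sub_zero, sub_zero]

theorem mem_of_pair_neg {v : V} (h : (refl Q u hu * refl Q s hs).1 v = -v) : v ∈ plane (F := F) u s := by
  rw [pair_apply hu hs hor] at h
  refine (Submodule.smul_mem_iff _ hb.two).1 (mem_plane.2
    ⟨(Q u)⁻¹ * polar Q u v, (Q s)⁻¹ * polar Q s v, ?_⟩)
  linear_combination (norm := module) -h

theorem pair_mul_self : refl Q u hu * refl Q s hs * (refl Q u hu * refl Q s hs) = 1 := by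
  refine Subtype.ext (LinearEquiv.ext fun v => ?_)
  change (refl Q u hu * refl Q s hs).1 ((refl Q u hu * refl Q s hs).1 v) = v
  conv_lhs => rw [pair_apply hu hs hor v]
  rw [map_sub, map_sub, map_smul, map_smul, pair_neg hb hu hs hor (left_mem_plane u s),
    pair_neg hb hu hs hor (right_mem_plane u s), pair_apply hu hs hor v]
  module

end Pair

include hb

theorem aniso_of_basis (hu : Q u ≠ 0) (hs : Q s ≠ 0) (hor : polar Q u s = 0) {p q : V}
    (hp : p ∈ plane (F := F) u s) (hp0 : p ≠ 0) (hpq : polar Q p q = 0)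
    (hspan : plane (F := F) u s ≤ plane p q) : Q p ≠ 0 := by
  intro h
  have hall : ∀ v ∈ plane (F := F) u s, polar Q p v = 0 := fun v hv => by
    obtain ⟨α, β, rfl⟩ := mem_plane.1 (hspan hv)
    rw [QuadraticMap.polar_add_right, QuadraticMap.polar_smul_right, QuadraticMap.polar_smul_right,
      polar_self_two, h, hpq, mul_zero, smul_zero, smul_zero, add_zero]
  obtain ⟨α, β, e⟩ := mem_plane.1 hp
  have h1 := hall u (left_mem_plane u s)
  have h2 := hall s (right_mem_plane u s)
  rw [← e, QuadraticMap.polar_add_left, QuadraticMap.polar_smul_left, QuadraticMap.polar_smul_left,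
    QuadraticMap.polar_comm Q s u, hor, polar_self_two, smul_zero, add_zero, smul_eq_mul] at h1
  rw [← e, QuadraticMap.polar_add_left, QuadraticMap.polar_smul_left, QuadraticMap.polar_smul_left, hor,
    polar_self_two, smul_zero, zero_add, smul_eq_mul] at h2
  rw [← e, (mul_eq_zero.1 h1).resolve_right (mul_ne_zero hb.two hu),
    (mul_eq_zero.1 h2).resolve_right (mul_ne_zero hb.two hs), zero_smul, zero_smul, add_zero] at hp0
  exact hp0 rfl

/-- a vector orthogonal to the vanishing space of some coordinates and two forms is a combination of the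
two outside these coordinates -/
theorem out_span (S : Finset ι) {d : V}
    (h : ∀ w, (∀ a ∈ S, b.repr w a = 0) → polar Q u w = 0 → polar Q s w = 0 → polar Q d w = 0) :
    ∃ α β : F, ∀ l, l ∉ S → b.repr d l = α * b.repr u l + β * b.repr s l := by
  set L : Bool ⊕ S → V →ₗ[F] F := Sum.elim
    (fun t => QuadraticMap.polarBilin Q (if t then u else s)) (fun a => b.coord a) with hL
  have hle : ⨅ i, LinearMap.ker (L i) ≤ LinearMap.ker (QuadraticMap.polarBilin Q d) := by
    intro w hw
    simp only [Submodule.mem_iInf, LinearMap.mem_ker] at hw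
    exact h w (fun a ha => by simpa [hL] using hw (Sum.inr ⟨a, ha⟩))
      (by simpa [hL] using hw (Sum.inl true)) (by simpa [hL] using hw (Sum.inl false))
  obtain ⟨k, hk⟩ := (Submodule.mem_span_range_iff_exists_fun F).1 (mem_span_of_iInf_ker_le_ker hle)
  refine ⟨k (Sum.inl true), k (Sum.inl false), fun l hl => mul_left_cancel₀ (two_c_ne hb) ?_⟩
  have e := LinearMap.congr_fun hk (b l)
  rw [LinearMap.sum_apply, Fintype.sum_sum_type, Fintype.sum_bool, Finset.sum_eq_zero (s := Finset.univ)
    (f := fun a : S => (k (Sum.inr a) • L (Sum.inr a)) (b l)) fun a _ => by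
      simp [hL, show l ≠ a.1 from fun e => hl (e ▸ a.2)], add_zero] at e
  simp only [hL, Sum.elim_inl, if_true, Bool.false_eq_true, if_false, LinearMap.smul_apply,
    QuadraticMap.polarBilin_apply_apply, polar_basis hb, smul_eq_mul] at e
  linear_combination -e

variable {M : Subgroup (quadIsoms Q)} (hM : Over b M)
include hM

/-- the action of a central involution on the plane, seen on the frame -/
theorem plane_cases [Finite F] [DecidableEq F] (hn : 10 ≤ Fintype.card ι)
    (hsm : ∀ i, Small b M ((Finset.univ : Finset ι).erase i)) (hu : Q u ≠ 0) (hs : Q s ≠ 0)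
    (hor : polar Q u s = 0) (hx : refl Q u hu * refl Q s hs ∈ M)
    (hfull : ∀ l, b.repr u l ≠ 0 ∨ b.repr s l ≠ 0) (S : Finset ι) (hS : S.card = 4) :
    (∀ a ∈ S, ∃ a' ∈ S, a' ≠ a ∧ ∃ e : F, e * e = 1 ∧
        ∀ v ∈ plane (F := F) u s, b.repr v a' = e * b.repr v a) ∨
      ∃ p q, p ∈ plane (F := F) u s ∧ q ∈ plane (F := F) u s ∧ p ≠ 0 ∧ polar Q p q = 0 ∧
        plane (F := F) u s ≤ plane p q ∧
        ((Finset.univ \ S).filter fun l => b.repr p l ≠ 0).card ≤ 2 ∧
        ∀ a ∈ S, (∀ a' ∈ S, a' ≠ a → b.repr p a' = 0) → b.repr p a ≠ 0 → b.repr q a = 0 := by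
  haveI := finite_quadIsoms b (Q := Q)
  have h2 := hb.two
  set x := refl Q u hu * refl Q s hs with hxdef
  obtain ⟨y, hy, hyb⟩ := exists_diag hb S (by rw [hS]; exact ⟨2, rfl⟩)
  have hym : Mono b y := mono_of_cases hb fun l => ⟨l, by rw [hyb]; split_ifs <;> simp⟩
  have hyy : y * y = 1 := ext_basis (b := b) fun l => by
    show y.1 (y.1 (b l)) = b l
    rw [hyb]
    split_ifs with h
    · rw [map_neg, hyb, if_pos h, neg_neg]
    · rw [hyb, if_neg h]
  have hyr : ∀ v l, b.repr (y.1 v) l = (if l ∈ S then -1 else 1) * b.repr v l :=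
    diag_repr hb (e := fun l => if l ∈ S then (-1 : F) else 1) fun l => by rw [hyb]; split_ifs <;> simp
  obtain ⟨m, hz1, hzz, hzx, hzy⟩ := exists_central (pair_mul_self hb hu hs hor) hyy fun k h => by
    have hmap : (sp b S).map ((((x * y) ^ k)⁻¹).1 : V →ₗ[F] V) ≤ plane (F := F) u s := by
      rintro _ ⟨v, hv, rfl⟩
      refine mem_of_pair_neg hb hu hs hor ?_
      have e := congrArg (fun g : quadIsoms Q => g.1 v) h
      simp only [mul_app] at e
      rw [show y.1 v = -v from b.repr.injective (Finsupp.ext fun l => by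
        rw [hyr, map_neg, Finsupp.neg_apply]
        split_ifs with hl
        · rw [neg_one_mul]
        · rw [hv l hl, mul_zero, neg_zero])] at e
      apply ((x * y) ^ k).1.injective
      rw [map_neg]
      simp only [LinearEquiv.coe_coe]
      rw [app_inv]
      exact e
    haveI : Module.Finite F V := Module.Finite.of_basis b
    have h1 := Submodule.finrank_mono hmap
    rw [LinearEquiv.finrank_map_eq, finrank_sp, hS] at h1
    have h2' : Module.finrank F (plane (F := F) u s) ≤ 2 := by
      classical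
      have := finrank_span_finset_le_card (R := F) ({u, s} : Finset V)
      rw [Set.finrank, Finset.coe_insert, Finset.coe_singleton] at this
      exact this.trans Finset.card_le_two
    omega
  set z := (x * y) ^ m with hz
  have hzM : z ∈ M := pow_mem (mul_mem hx (hM.mono_mem y hy hym)) m
  have hW : ∀ w, (∀ a ∈ S, b.repr w a = 0) → polar Q u w = 0 → polar Q s w = 0 → z.1 w = w := by
    intro w hw h1 h3
    have hyw : y.1 w = w := b.repr.injective (Finsupp.ext fun l => by
      rw [hyr]
      split_ifs with hl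
      · rw [hw l hl, mul_zero]
      · rw [one_mul])
    rw [hz]
    clear hz1 hzz hzx hzy hzM hz
    induction m with
    | zero => rw [pow_zero]; rfl
    | succ m ih => rw [pow_succ, mul_app, mul_app, hyw, hxdef, pair_fix hu hs hor h1 h3, ih]
  have hzS : ∀ l a, (l ∈ S ↔ a ∉ S) → b.repr (z.1 (b l)) a = 0 := by
    intro l a hla
    have e := congrArg (fun g : quadIsoms Q => b.repr (g.1 (b l)) a) hzy
    simp only [mul_app, hyr, hyb] at e
    by_cases hl : l ∈ S
    · rw [if_pos hl, if_neg (hla.1 hl), map_neg, map_neg, Finsupp.neg_apply, one_mul] at e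
      exact (mul_eq_zero.1 (show (2 : F) * b.repr (z.1 (b l)) a = 0 by linear_combination e)).resolve_left h2
    · rw [if_neg hl, if_pos (not_not.1 fun h => hl (hla.2 h))] at e
      exact (mul_eq_zero.1 (show (2 : F) * b.repr (z.1 (b l)) a = 0 by linear_combination -e)).resolve_left h2
  obtain ⟨a₀, ha₀⟩ := Finset.card_pos.1 (show 0 < S.card by omega)
  have hco : (Finset.univ \ S).card = Fintype.card ι - 4 := by
    rw [Finset.card_sdiff_of_subset (Finset.subset_univ S), hS, Finset.card_univ]
  have hmono := monomial_side hb hM (R := Finset.univ \ S) (R' := Finset.univ \ S) rfl (by omega) (by omega)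
    hzM (fun l hl a ha => hzS l a (by simp_all)) ((hsm a₀).mono fun l hl => by simp_all; rintro rfl; simp_all)
    ((hsm a₀).mono fun l hl => by simp_all; rintro rfl; simp_all)
  obtain ⟨l₀, hl₀⟩ := Finset.card_pos.1 (show 0 < (Finset.univ \ S).card by omega)
  obtain ⟨x₀, e₀, hxe⟩ := hmono l₀ hl₀
  have hzm : Mono b z := finish hb hM (K := Finset.univ) (by rw [Finset.card_univ]; omega) hzM
    (fun l hl => absurd (Finset.mem_univ l) hl) (Finset.mem_univ l₀) hxe (hsm l₀)
  obtain ⟨σ, sg, hσ⟩ := Mono.exists_perm hb hzm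
  have hsg0 : ∀ l, sg l ≠ 0 := fun l e => by simpa [e] using (hσ l).2
  have hrep := mono_repr (fun i => (hσ i).1)
  have hσS : ∀ l, σ l ∈ S ↔ l ∈ S := by
    intro l
    by_contra hne
    have := hzS l (σ l) (by tauto)
    rw [(hσ l).1, repr_smul_basis, if_pos rfl] at this
    exact hsg0 l this
  have hzv : ∀ v, z.1 (z.1 v) = v := fun v => by rw [← mul_app, hzz]; rfl
  have hinv : ∀ l, σ (σ l) = l ∧ sg l * sg (σ l) = 1 := fun l => by
    have h1 := hzv (b l)
    rw [(hσ l).1, map_smul, (hσ _).1, smul_smul] at h1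
    have e := basis_inj (mul_ne_zero (hsg0 l) (hsg0 _)) (h1.trans (one_smul F (b l)).symm)
    refine ⟨e, ?_⟩
    have h3 := congrArg (fun v => b.repr v l) h1
    simpa [repr_smul_basis, e] using h3
  have hzP : ∀ v ∈ plane (F := F) u s, z.1 v ∈ plane (F := F) u s := fun v hv => by
    refine mem_of_pair_neg hb hu hs hor ?_
    rw [← mul_app, hzx, mul_app, pair_neg hb hu hs hor hv, map_neg]
  -- the displacement of a frame vector outside `S`
  have hd0 : ∀ l, l ∉ S → ∀ a ∈ S, b.repr (b l - z.1 (b l)) a = 0 := fun l hl a ha => by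
    rw [map_sub, Finsupp.sub_apply, hzS l a (by simp [hl, ha]), b.repr_self,
      Finsupp.single_eq_of_ne (fun e => hl (by rw [← e]; exact ha)), sub_zero]
  have hdspan : ∀ (p q : V), plane (F := F) u s ≤ plane p q → ∀ l, l ∉ S → ∃ α β : F, ∀ t, t ∉ S →
      b.repr (b l - z.1 (b l)) t = α * b.repr p t + β * b.repr q t := by
    intro p q hspan l hl
    refine out_span hb S fun w hw h1 h3 => ?_
    have hPw : ∀ v ∈ plane (F := F) u s, polar Q v w = 0 := fun v hv => by
      obtain ⟨α, β, rfl⟩ := mem_plane.1 (hspan hv)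
      rw [QuadraticMap.polar_add_left, QuadraticMap.polar_smul_left, QuadraticMap.polar_smul_left, h1, h3,
        smul_zero, smul_zero, add_zero]
    have hzw := hW w hw (hPw u (left_mem_plane u s)) (hPw s (right_mem_plane u s))
    rw [QuadraticMap.polar_sub_left]
    nth_rw 2 [← hzw]
    rw [iso_polar, sub_self]
  by_cases hall : ∀ v ∈ plane (F := F) u s, z.1 v = v
  · refine Or.inl ?_
    have hPeq : ∀ v ∈ plane (F := F) u s, ∀ t, b.repr v (σ t) = sg t * b.repr v t := fun v hv t => by
      rw [← hrep, hall v hv]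
    -- nothing moves outside `S`
    have hout : ∀ l, l ∉ S → σ l = l ∧ sg l = 1 := by
      intro l hl
      set d := b l - z.1 (b l) with hd
      obtain ⟨α, β, hαβ⟩ := hdspan u s le_rfl l hl
      have hperp : ∀ v ∈ plane (F := F) u s, polar Q d v = 0 := fun v hv => by
        rw [hd, QuadraticMap.polar_sub_left]
        nth_rw 2 [← hall v hv]
        rw [iso_polar, sub_self]
      have hQd : polar Q d d = 0 := by
        rw [polar_eq_sum hb, Finset.sum_congr rfl (g := fun t =>
          α * (b.repr d t * b.repr u t) + β * (b.repr d t * b.repr s t)) fun t _ => by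
            by_cases ht : t ∈ S
            · rw [hd, hd0 l hl t ht]; ring
            · nth_rw 2 [hαβ t ht]; ring,
          Finset.sum_add_distrib, ← Finset.mul_sum, ← Finset.mul_sum, mul_add, mul_left_comm,
          ← polar_eq_sum hb, mul_left_comm (2 * c) β, ← polar_eq_sum hb,
          hperp u (left_mem_plane u s), hperp s (right_mem_plane u s), mul_zero, mul_zero, add_zero]
      rw [hd, polar_self_two, sub_eq_add_neg,
        QuadraticMap.map_add (Q : QuadraticMap F V F), QuadraticMap.map_neg, iso_value,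
        QuadraticMap.polar_neg_right, QuadraticMap.polar_comm, polar_basis hb, (hσ l).1, repr_smul_basis,
        hb.value] at hQd
      by_cases hll : l = σ l
      · refine ⟨hll.symm, ?_⟩
        rw [if_pos hll] at hQd
        exact mul_left_cancel₀ (mul_ne_zero h2 (two_c_ne hb)) (by linear_combination -hQd)
      · rw [if_neg hll] at hQd
        exact absurd (by linear_combination hQd) (mul_ne_zero h2 (two_c_ne hb))
    have hfixS : ∀ a, σ a = a → sg a = 1 := fun a ha => by
      rcases hfull a with h | h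
      all_goals
        refine mul_right_cancel₀ h ((hPeq _ (by first | exact left_mem_plane u s | exact right_mem_plane u s) a).symm.trans ?_)
        rw [ha, one_mul]
    suffices hmov : ∀ a ∈ S, σ a ≠ a from fun a ha =>
      ⟨σ a, (hσS a).2 ha, hmov a ha, sg a, (hσ a).2, fun v hv => hPeq v hv a⟩
    intro a ha haa
    by_cases hex : ∃ p ∈ S, σ p ≠ p
    · obtain ⟨p, hp, hpp⟩ := hex
      have hne : ∀ t, t ≠ p → t ≠ σ p → σ t = t ∧ sg t = 1 := by
        intro t h1 h3
        suffices hh : σ t = t from ⟨hh, hfixS t hh⟩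
        by_cases ht : t ∈ S
        · by_contra htt
          have hsub : ({p, σ p, t, σ t, a} : Finset ι) ⊆ S := by
            simp [Finset.insert_subset_iff, hp, (hσS p).2 hp, ht, (hσS t).2 ht, ha]
          have := Finset.card_le_card hsub
          rw [Finset.card_insert_of_notMem, Finset.card_insert_of_notMem, Finset.card_insert_of_notMem,
            Finset.card_pair] at this
          · omega
          · intro e
            have h5 : t = a := σ.injective (e.trans haa.symm)
            exact htt (h5 ▸ haa)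
          · simp only [Finset.mem_insert, Finset.mem_singleton, not_or]
            exact ⟨Ne.symm htt, fun e => htt (e ▸ haa)⟩
          · simp only [Finset.mem_insert, Finset.mem_singleton, not_or]
            exact ⟨Ne.symm h3, fun e => h1 (σ.injective e.symm), fun e => hpp (by
              have h5 : p = a := σ.injective (e.trans haa.symm)
              exact h5 ▸ haa)⟩
          · simp only [Finset.mem_insert, Finset.mem_singleton, not_or]
            exact ⟨Ne.symm hpp, Ne.symm h1, fun e => h3 (by rw [e, (hinv t).1]), fun e => hpp (e ▸ haa)⟩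
        · exact (hout t ht).1
      have hswap : σ = Equiv.swap p (σ p) := Equiv.ext fun t => by
        by_cases h1 : t = p
        · rw [h1, Equiv.swap_apply_left]
        by_cases h3 : t = σ p
        · rw [h3, Equiv.swap_apply_right, (hinv p).1]
        rw [Equiv.swap_apply_of_ne_of_ne h1 h3, (hne t h1 h3).1]
      have hdet := det_mono z σ sg fun i => (hσ i).1
      rw [det_commutator (hM.le hzM), show Equiv.Perm.sign σ = -1 by
          rw [hswap]; exact Equiv.Perm.sign_swap (Ne.symm hpp),
        Fintype.prod_eq_mul p (σ p) (Ne.symm hpp) fun t ht => (hne t ht.1 ht.2).2, (hinv p).2] at hdet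
      push_cast at hdet
      exact h2 (by linear_combination hdet)
    · push Not at hex
      refine hz1 (ext_basis (b := b) fun l => ?_)
      have hl : σ l = l := by
        by_cases hl : l ∈ S
        · exact hex l hl
        · exact (hout l hl).1
      rw [(hσ l).1, hl, hfixS l hl, one_smul]
      rfl
  by_cases hneg : ∀ v ∈ plane (F := F) u s, z.1 v = -v
  · exfalso
    have hmove : ∀ l, σ l = l → sg l = -1 := fun l hl => by
      rcases hfull l with h | h
      · refine mul_right_cancel₀ h ?_
        rw [← hrep u l, hneg u (left_mem_plane u s), hl, map_neg, Finsupp.neg_apply, neg_one_mul]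
      · refine mul_right_cancel₀ h ?_
        rw [← hrep s l, hneg s (right_mem_plane u s), hl, map_neg, Finsupp.neg_apply, neg_one_mul]
    obtain ⟨l₁, h₁⟩ := Finset.card_pos.1 (show 0 < (Finset.univ \ S).card by omega)
    obtain ⟨l₂, h₂⟩ := Finset.card_pos.1 (show 0 < ((Finset.univ \ S) \ {l₁, σ l₁}).card by
      have := Finset.le_card_sdiff {l₁, σ l₁} (Finset.univ \ S)
      have := Finset.card_le_two (a := l₁) (b := σ l₁)
      omega)
    obtain ⟨l₃, h₃⟩ := Finset.card_pos.1 (show 0 < (((Finset.univ \ S) \ {l₁, σ l₁}) \ {l₂, σ l₂}).card by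
      have := Finset.le_card_sdiff {l₂, σ l₂} ((Finset.univ \ S) \ {l₁, σ l₁})
      have := Finset.le_card_sdiff {l₁, σ l₁} (Finset.univ \ S)
      have := Finset.card_le_two (a := l₂) (b := σ l₂)
      have := Finset.card_le_two (a := l₁) (b := σ l₁)
      omega)
    simp only [Finset.mem_sdiff, Finset.mem_univ, true_and, Finset.mem_insert, Finset.mem_singleton,
      not_or] at h₁ h₂ h₃
    have hdl : ∀ l t, b.repr (b l - z.1 (b l)) t = (if t = l then 1 else 0) - if t = σ l then sg l else 0 :=
      fun l t => by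
        rw [map_sub, Finsupp.sub_apply, (hσ l).1, repr_smul_basis, b.repr_self, Finsupp.single_apply]
        simp only [eq_comm]
    have hdiag : ∀ l, b.repr (b l - z.1 (b l)) l ≠ 0 := fun l => by
      rw [hdl, if_pos rfl]
      by_cases hl : σ l = l
      · rw [if_pos hl.symm, hmove l hl, sub_neg_eq_add, one_add_one_eq_two]; exact h2
      · rw [if_neg (Ne.symm hl), sub_zero]; exact one_ne_zero
    have hoff : ∀ l t, t ≠ l → t ≠ σ l → b.repr (b l - z.1 (b l)) t = 0 := fun l t h1 h3 => by
      rw [hdl, if_neg h1, if_neg h3, sub_zero]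
    obtain ⟨α₁, β₁, e₁⟩ := hdspan u s le_rfl l₁ h₁
    obtain ⟨α₂, β₂, e₂⟩ := hdspan u s le_rfl l₂ h₂.1
    have a11 := hdiag l₁
    have a12 := hoff l₁ l₂ h₂.2.1 h₂.2.2
    have a13 := hoff l₁ l₃ h₃.1.2.1 h₃.1.2.2
    have a22 := hdiag l₂
    have a23 := hoff l₂ l₃ h₃.2.1 h₃.2.2
    rw [e₁ l₁ h₁] at a11
    rw [e₁ l₂ h₂.1] at a12
    rw [e₁ l₃ h₃.1.1] at a13
    rw [e₂ l₂ h₂.1] at a22
    rw [e₂ l₃ h₃.1.1] at a23
    have hpar : b.repr u l₂ * b.repr s l₃ - b.repr u l₃ * b.repr s l₂ = 0 := by
      by_contra hne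
      have hα : α₁ = 0 := (mul_eq_zero.1 (show α₁ *
        (b.repr u l₂ * b.repr s l₃ - b.repr u l₃ * b.repr s l₂) = 0 by
          linear_combination b.repr s l₃ * a12 - b.repr s l₂ * a13)).resolve_right hne
      have hβ : β₁ = 0 := (mul_eq_zero.1 (show β₁ *
        (b.repr u l₂ * b.repr s l₃ - b.repr u l₃ * b.repr s l₂) = 0 by
          linear_combination b.repr u l₂ * a13 - b.repr u l₃ * a12)).resolve_right hne
      exact a11 (by rw [hα, hβ, zero_mul, zero_mul, add_zero])
    rcases hfull l₃ with h | h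
    · refine a22 ((mul_eq_zero.1 ?_).resolve_right h)
      linear_combination b.repr u l₂ * a23 - β₂ * hpar
    · refine a22 ((mul_eq_zero.1 ?_).resolve_right h)
      linear_combination b.repr s l₂ * a23 + α₂ * hpar
  refine Or.inr ?_
  push Not at hall hneg
  obtain ⟨v₁, hv₁, hv₁z⟩ := hall
  obtain ⟨v₂, hv₂, hv₂z⟩ := hneg
  obtain ⟨p, hp⟩ : ∃ p, p = v₁ - z.1 v₁ := ⟨_, rfl⟩
  obtain ⟨q, hq⟩ : ∃ q, q = v₂ + z.1 v₂ := ⟨_, rfl⟩
  have hpP : p ∈ plane (F := F) u s := hp ▸ sub_mem hv₁ (hzP v₁ hv₁)
  have hqP : q ∈ plane (F := F) u s := hq ▸ add_mem hv₂ (hzP v₂ hv₂)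
  have hp0 : p ≠ 0 := hp ▸ sub_ne_zero.2 (Ne.symm hv₁z)
  have hq0 : q ≠ 0 := hq ▸ fun h => hv₂z (eq_neg_of_add_eq_zero_right h)
  have hzp : z.1 p = -p := by rw [hp, map_sub, hzv, neg_sub]
  have hzq : z.1 q = q := by rw [hq, map_add, hzv, add_comm]
  have hpq : polar Q p q = 0 := by
    have h1 := iso_polar z p q
    rw [hzp, hzq, QuadraticMap.polar_neg_left] at h1
    exact (mul_eq_zero.1 (show (2 : F) * polar Q p q = 0 by linear_combination -h1)).resolve_left h2
  have hspan : plane (F := F) u s ≤ plane p q := plane_span hpP hqP hp0 fun t ht => by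
    have h1 := hzq
    rw [ht, map_smul, hzp, smul_neg, ← ht] at h1
    exact hq0 ((smul_eq_zero.1 (show (2 : F) • q = 0 by rw [two_smul]; nth_rw 1 [← h1]; exact neg_add_cancel q)).resolve_left h2)
  have hcp : ∀ t, sg t * b.repr p t = -b.repr p (σ t) := fun t => by
    rw [← hrep, hzp, map_neg, Finsupp.neg_apply]
  have hcq : ∀ t, sg t * b.repr q t = b.repr q (σ t) := fun t => by rw [← hrep, hzq]
  refine ⟨p, q, hpP, hqP, hp0, hpq, hspan, ?_, fun a ha hrest hpa => ?_⟩
  · by_cases hex : ∃ l, l ∉ S ∧ b l - z.1 (b l) ≠ 0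
    · obtain ⟨l, hl, hne⟩ := hex
      set d := b l - z.1 (b l) with hd
      obtain ⟨α, β, hαβ⟩ := hdspan p q hspan l hl
      have hzd : z.1 d = -d := by rw [hd, map_sub, hzv, neg_sub]
      have hβ : ∀ t, t ∉ S → β * b.repr q t = 0 := fun t ht => by
        have hσt : σ t ∉ S := fun h => ht ((hσS t).1 h)
        have h1 : sg t * b.repr d t = -b.repr d (σ t) := by rw [← hrep, hzd, map_neg, Finsupp.neg_apply]
        rw [hαβ t ht, hαβ _ hσt] at h1
        have h3 : β * b.repr q (σ t) = 0 := (mul_eq_zero.1 (show (2 : F) * (β * b.repr q (σ t)) = 0 by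
          linear_combination h1 - α * hcp t - β * hcq t)).resolve_left h2
        rw [← hcq, mul_left_comm] at h3
        exact (mul_eq_zero.1 h3).resolve_left (hsg0 t)
      have hα : α ≠ 0 := fun hα => hne (b.repr.injective (Finsupp.ext fun t => by
        rw [map_zero, Finsupp.zero_apply]
        by_cases ht : t ∈ S
        · exact hd0 l hl t ht
        · rw [hαβ t ht, hα, hβ t ht, zero_mul, add_zero]))
      refine le_trans (Finset.card_le_card (t := ({l, σ l} : Finset ι)) fun t ht => ?_) Finset.card_le_two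
      simp only [Finset.mem_filter, Finset.mem_sdiff, Finset.mem_univ, true_and] at ht
      by_contra hnot
      simp only [Finset.mem_insert, Finset.mem_singleton, not_or] at hnot
      have : b.repr d t = 0 := by
        rw [hd, map_sub, Finsupp.sub_apply, (hσ l).1, repr_smul_basis, b.repr_self,
          Finsupp.single_eq_of_ne hnot.1, if_neg hnot.2, sub_zero]
      rw [hαβ t ht.1, hβ t ht.1, add_zero] at this
      exact ht.2 ((mul_eq_zero.1 this).resolve_left hα)
    · push Not at hex
      refine le_of_eq_of_le (Finset.card_eq_zero.2 (Finset.filter_eq_empty_iff.2 fun t ht => ?_)) (Nat.zero_le _)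
      simp only [Finset.mem_sdiff, Finset.mem_univ, true_and] at ht
      have h1 : z.1 (b t) = b t := (sub_eq_zero.1 (hex t ht)).symm
      have h3 : b.repr (z.1 p) t = b.repr p t := by rw [repr_eq hb, repr_eq hb, ← h1, iso_polar, h1]
      rw [hzp, map_neg, Finsupp.neg_apply] at h3
      exact not_not.2 ((mul_eq_zero.1 (show (2 : F) * b.repr p t = 0 by linear_combination -h3)).resolve_left h2)
  · have hσa : σ a = a := by
      by_contra hne
      have h1 := hcp a
      rw [hrest (σ a) ((hσS a).2 ha) hne, neg_zero] at h1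
      exact hpa ((mul_eq_zero.1 h1).resolve_left (hsg0 a))
    have h1 := hcp a
    rw [hσa] at h1
    have hsga : sg a = -1 := mul_right_cancel₀ hpa (h1.trans (neg_one_mul _).symm)
    have h3 := hcq a
    rw [hσa, hsga] at h3
    exact (mul_eq_zero.1 (show (2 : F) * b.repr q a = 0 by linear_combination -h3)).resolve_left h2

end CfsgLib.MaxSub.OLines
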