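import Cfsg.Agent.Lib.MaxSub.OLinesElem

/-!
Overgroups of the monomial group of an orthonormal frame: an element carrying a set of at least three (not
four) frame vectors into another one is monomial there if the elements supported on those sets are.
-/

set_option autoImplicit false
set_option linter.unusedSectionVars false

namespace CfsgLib.MaxSub.OLines

open CfsgLib.Classical CfsgLib.Geom
open QuadraticMap (polar)

variable {F V ι : Type*} [Field F] [AddCommGroup V] [Module F V] [Fintype ι] [DecidableEq ι]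
  {Q : QuadraticForm F V}

/-- an overgroup, inside the commutator subgroup, of its monomial elements -/
structure Over (b : Module.Basis ι F V) (M : Subgroup (quadIsoms Q)) : Prop where
  le : M ≤ commutator (quadIsoms Q)
  mono_mem : ∀ g ∈ commutator (quadIsoms Q), Mono b g → g ∈ M

/-- every element supported on the set is monomial -/
def Small (b : Module.Basis ι F V) (M : Subgroup (quadIsoms Q)) (L : Finset ι) : Prop :=
  ∀ g ∈ M, FixOff b L g → Mono b g

variable {b : Module.Basis ι F V} {c : F} (hb : Frame Q b c)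

theorem Small.mono {M : Subgroup (quadIsoms Q)} {K L : Finset ι} (h : K ⊆ L) (hs : Small b M L) :
    Small b M K := fun g hg hf => hs g hg (hf.mono h)

theorem basis_inj {a a' : F} {x y : ι} (ha : a ≠ 0) (h : a • b x = a' • b y) : x = y := by
  by_contra hne
  have := congrArg (fun v => b.repr v x) h
  simp [repr_smul_basis, hne, ha] at this

theorem finrank_sp (K : Finset ι) : Module.finrank F (sp b K) = K.card := by
  have e : sp b K = Submodule.span F (Set.range fun i : K => b i) := by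
    rw [show (Set.range fun i : K => b i) = b '' (K : Set ι) by ext x; simp]
    ext v
    rw [Module.Basis.mem_span_image, mem_sp, Set.subset_def]
    exact ⟨fun h i hi => by_contra fun h' => (Finsupp.mem_support_iff.1 hi) (h i h'),
      fun h i hi => by_contra fun h' => hi (h i (Finsupp.mem_support_iff.2 h'))⟩
  rw [e, finrank_span_eq_card (b := fun i : K => b i)
    (b.linearIndependent.comp _ Subtype.val_injective), Fintype.card_coe]

include hb

theorem repr_inv_basis (g : quadIsoms Q) (x k : ι) :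
    b.repr ((g⁻¹).1 (b x)) k = b.repr (g.1 (b k)) x := by
  rw [repr_eq hb, repr_eq hb, QuadraticMap.polar_comm Q (g.1 (b k)), ← iso_polar g ((g⁻¹).1 (b x)),
    app_inv]

theorem FixOff.fix_perp {K : Finset ι} {g : quadIsoms Q} (hg : FixOff b K g) {v : V}
    (hv : ∀ i ∈ K, b.repr v i = 0) : g.1 v = v := by
  conv_lhs => rw [← b.sum_repr v]
  conv_rhs => rw [← b.sum_repr v]
  rw [map_sum]
  refine Finset.sum_congr rfl fun i _ => ?_
  by_cases hi : i ∈ K
  · rw [hv i hi, zero_smul, map_zero]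
  · rw [map_smul, hg i hi]

theorem diag_repr {g : quadIsoms Q} {e : ι → F} (hg : ∀ i, g.1 (b i) = e i • b i) (v : V) (l : ι) :
    b.repr (g.1 v) l = e l * b.repr v l := by
  conv_lhs => rw [← b.sum_repr v]
  simp only [map_sum, map_smul, hg, b.repr_self, Finsupp.coe_finsetSum, Finsupp.coe_smul, Finset.sum_apply,
    Pi.smul_apply, smul_eq_mul, Finsupp.single_apply, mul_ite, mul_one, mul_zero]
  simp [mul_comm]

theorem mono_of_cases {g : quadIsoms Q} (h : ∀ i, ∃ (j : ι), g.1 (b i) = b j ∨ g.1 (b i) = -b j) :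
    Mono b g := fun i => by
  obtain ⟨j, e | e⟩ := h i
  · exact ⟨j, 1, by rw [e, one_smul]⟩
  · exact ⟨j, -1, by rw [e, neg_one_smul]⟩

/-- an isometry carrying a set of frame vectors into a set of the same size -/
theorem map_sp {g : quadIsoms Q} {R R' : Finset ι} (hcard : R.card = R'.card)
    (h : ∀ i ∈ R, g.1 (b i) ∈ sp b R') {l : ι} (hl : l ∉ R) {x : ι} (hx : x ∈ R') :
    b.repr (g.1 (b l)) x = 0 := by
  haveI : Module.Finite F V := Module.Finite.of_basis b
  have hle : (sp b R).map (g.1 : V →ₗ[F] V) ≤ sp b R' := by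
    rintro _ ⟨v, hv, rfl⟩
    rw [← b.sum_repr v, map_sum]
    refine Submodule.sum_mem _ fun i _ => ?_
    by_cases hi : i ∈ R
    · rw [map_smul]; exact Submodule.smul_mem _ _ (h i hi)
    · rw [hv i hi, zero_smul, map_zero]; exact Submodule.zero_mem _
  have heq := Submodule.eq_of_le_of_finrank_eq hle
    (by rw [LinearEquiv.finrank_map_eq, finrank_sp, finrank_sp, hcard])
  obtain ⟨v, hv, hvx⟩ : b x ∈ (sp b R).map (g.1 : V →ₗ[F] V) := heq ▸ basis_mem_sp b hx
  have hvx' : g.1 v = b x := hvx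
  rw [repr_eq hb, ← hvx', iso_polar, QuadraticMap.polar_comm, polar_basis hb, hv l hl]
  ring

variable {M : Subgroup (quadIsoms Q)} (hM : Over b M)
include hM

theorem exists_flip (i j : ι) (hij : i ≠ j) : ∃ f ∈ M, Mono b f ∧
    f.1 (b i) = -b i ∧ f.1 (b j) = -b j ∧ ∀ l, l ≠ i → l ≠ j → f.1 (b l) = b l := by
  obtain ⟨f, hf, hfb⟩ := exists_diag hb {i, j} (by rw [Finset.card_pair hij]; exact ⟨1, rfl⟩)
  have hm : Mono b f := mono_of_cases hb fun l => ⟨l, by rw [hfb]; split_ifs <;> simp⟩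
  exact ⟨f, hM.mono_mem f hf hm, hm, by simp [hfb], by simp [hfb], fun l h1 h2 => by simp [hfb, h1, h2]⟩

theorem exists_cycle_mem {i j k : ι} (hij : i ≠ j) (hjk : j ≠ k) (hik : i ≠ k) :
    ∃ g ∈ M, Mono b g ∧ g.1 (b i) = b j ∧ g.1 (b j) = b k ∧ g.1 (b k) = b i ∧
      ∀ l, l ≠ i → l ≠ j → l ≠ k → g.1 (b l) = b l := by
  obtain ⟨g, hg, h1, h2, h3, h4⟩ := exists_cycle hb hij hjk hik
  have hm : Mono b g := mono_of_cases hb fun l => by
    by_cases e1 : l = i
    · subst e1; exact ⟨j, Or.inl h1⟩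
    by_cases e2 : l = j
    · subst e2; exact ⟨k, Or.inl h2⟩
    by_cases e3 : l = k
    · subst e3; exact ⟨i, Or.inl h3⟩
    exact ⟨l, Or.inl (h4 l e1 e2 e3)⟩
  exact ⟨g, hM.mono_mem g hg hm, hm, h1, h2, h3, h4⟩

/-- monomial elements move one frame vector to another, up to sign -/
theorem exists_move {K : Finset ι} (hK : 3 ≤ K.card) {x y : ι} (hx : x ∈ K) (hy : y ∈ K) {a : F}
    (ha : a * a = 1) : ∃ h ∈ M, Mono b h ∧ FixOff b K h ∧ h.1 (b x) = a • b y := by
  obtain ⟨z, hz⟩ := Finset.card_pos.1 (show 0 < ((K.erase x).erase y).card by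
    have := Finset.pred_card_le_card_erase (a := y) (s := K.erase x)
    rw [Finset.card_erase_of_mem hx] at this
    omega)
  obtain ⟨hzy, hzx, hzK⟩ : z ≠ y ∧ z ≠ x ∧ z ∈ K := by simpa using hz
  obtain ⟨p, hp, hpm, hpf, hpx⟩ : ∃ p ∈ M, Mono b p ∧ FixOff b K p ∧ p.1 (b x) = b y := by
    by_cases hxy : x = y
    · subst hxy
      exact ⟨1, one_mem _, fun i => ⟨i, 1, by rw [one_smul]; rfl⟩, FixOff.one, rfl⟩
    obtain ⟨g, hg, hm, h1, -, -, h4⟩ := exists_cycle_mem hb hM hxy (Ne.symm hzy) (Ne.symm hzx)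
    exact ⟨g, hg, hm, fun l hl => h4 l (fun e => hl (e ▸ hx)) (fun e => hl (e ▸ hy))
      (fun e => hl (e ▸ hzK)), h1⟩
  rcases mul_self_eq_one_iff.1 ha with rfl | rfl
  · exact ⟨p, hp, hpm, hpf, by rw [hpx, one_smul]⟩
  obtain ⟨f, hf, hfm, hfy, -, hf4⟩ := exists_flip hb hM y z (Ne.symm hzy)
  refine ⟨f * p, mul_mem hf hp, Mono.mul hb hfm hpm, FixOff.mul (fun l hl =>
    hf4 l (fun e => hl (e ▸ hy)) (fun e => hl (e ▸ hzK))) hpf, ?_⟩
  rw [mul_app, hpx, hfy, neg_one_smul]

/-- an element with one monomial column inside `K` -/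
theorem finish {K : Finset ι} (hK : 3 ≤ K.card) {g : quadIsoms Q} (hg : g ∈ M) (hgK : FixOff b K g)
    {m m' : ι} (hm : m ∈ K) {a : F} (hgm : g.1 (b m) = a • b m') (hs : Small b M (K.erase m)) :
    Mono b g := by
  have ha := sign_sq hb hgm
  have hm' : m' ∈ K := by
    by_contra hm'
    have h := FixOff.map_sp hb hgK (basis_mem_sp b hm) m' hm'
    rw [hgm, repr_smul_basis, if_pos rfl] at h
    rw [h, zero_mul] at ha
    exact zero_ne_one ha
  obtain ⟨h, hh, hhm, hhK, hhx⟩ := exists_move hb hM hK hm' hm ha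
  have h1 : Mono b (h * g) := hs _ (mul_mem hh hg) fun l hl => by
    by_cases hlm : l = m
    · subst hlm
      rw [mul_app, hgm, map_smul, hhx, smul_smul, ha, one_smul]
    · exact FixOff.mul hhK hgK l fun h' => hl (Finset.mem_erase.2 ⟨hlm, h'⟩)
  simpa using Mono.mul hb (Mono.inv hb hhm) h1

/-- an element with two monomial columns inside `K` -/
theorem finish₂ {K : Finset ι} (hK : 4 ≤ K.card) {g : quadIsoms Q} (hg : g ∈ M) (hgK : FixOff b K g)
    {m₁ m₂ x₁ x₂ : ι} (h₁ : m₁ ∈ K) (h₂ : m₂ ∈ K) (hne : m₁ ≠ m₂) {a₁ a₂ : F}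
    (e₁ : g.1 (b m₁) = a₁ • b x₁) (e₂ : g.1 (b m₂) = a₂ • b x₂)
    (hs : Small b M ((K.erase m₁).erase m₂)) : Mono b g := by
  have ha := sign_sq hb e₁
  have hx₁ : x₁ ∈ K := by
    by_contra hx₁
    have h := FixOff.map_sp hb hgK (basis_mem_sp b h₁) x₁ hx₁
    rw [e₁, repr_smul_basis, if_pos rfl] at h
    rw [h, zero_mul] at ha
    exact zero_ne_one ha
  obtain ⟨h, hh, hhm, hhK, hhx⟩ := exists_move hb hM (by omega) hx₁ h₁ ha
  obtain ⟨y, a, hy⟩ := hhm x₂
  have h1 : Mono b (h * g) := by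
    refine finish (K := K.erase m₁) (m := m₂) hb hM ?_ (mul_mem hh hg) (fun l hl => ?_)
      (Finset.mem_erase.2 ⟨Ne.symm hne, h₂⟩) (m' := y) (a := a₂ * a) ?_ hs
    · rw [Finset.card_erase_of_mem h₁]; omega
    · by_cases hlm : l = m₁
      · subst hlm
        rw [mul_app, e₁, map_smul, hhx, smul_smul, ha, one_smul]
      · exact FixOff.mul hhK hgK l fun h' => hl (Finset.mem_erase.2 ⟨hlm, h'⟩)
    · rw [mul_app, e₂, map_smul, hy, smul_smul]
  simpa using Mono.mul hb (Mono.inv hb hhm) h1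

/-- an element carrying `R` into `R'` is monomial on `R` if some of its conjugates are monomial -/
theorem monomial_side_of {R R' : Finset ι} (hcard : R.card = R'.card) (h3 : 3 ≤ R.card) (h4 : R.card ≠ 4)
    {g : quadIsoms Q} (hg : g ∈ M) (hmap : ∀ i ∈ R, g.1 (b i) ∈ sp b R')
    (hy' : ∀ f ∈ M, ∀ i j, i ≠ j → f.1 (b i) = -b i → f.1 (b j) = -b j →
      (∀ l, l ≠ i → l ≠ j → f.1 (b l) = b l) → FixOff b R' (g * f * g⁻¹) → Mono b (g * f * g⁻¹))
    (hρ' : ∀ τ ∈ M, (∃ p q r, p ≠ q ∧ q ≠ r ∧ p ≠ r ∧ τ.1 (b p) = b q ∧ τ.1 (b q) = b r ∧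
        τ.1 (b r) = b p ∧ ∀ l, l ≠ p → l ≠ q → l ≠ r → τ.1 (b l) = b l) →
      FixOff b R (g⁻¹ * τ * g) → Mono b (g⁻¹ * τ * g)) :
    ∀ i ∈ R, ∃ (x : ι) (a : F), g.1 (b i) = a • b x := by
  have key : ∀ i ∈ R, ∀ j ∈ R, i ≠ j → ∀ k ∈ R, k ≠ i → k ≠ j → ∀ x,
      b.repr (g.1 (b i)) x = 0 ∨ b.repr (g.1 (b k)) x = 0 := by
    intro i hi j hj hij k hk hki hkj x
    obtain ⟨f, hf, hfm, hfi, hfj, hfo⟩ := exists_flip hb hM i j hij
    set y := g * f * g⁻¹ with hy
    have hyM : y ∈ M := mul_mem (mul_mem hg hf) (inv_mem hg)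
    have hyimg : ∀ v, y.1 (g.1 v) = g.1 (f.1 v) := fun v => by rw [hy, mul_app, mul_app, inv_app]
    have hyoff : FixOff b R' y := by
      intro l hl
      rw [hy, mul_app, mul_app]
      conv_rhs => rw [← app_inv g (b l)]
      congr 1
      refine FixOff.fix_perp (K := {i, j}) hb (fun a ha => ?_) fun a ha => ?_
      · simp only [Finset.mem_insert, Finset.mem_singleton, not_or] at ha
        exact hfo a ha.1 ha.2
      · rw [repr_inv_basis hb]
        simp only [Finset.mem_insert, Finset.mem_singleton] at ha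
        rcases ha with rfl | rfl
        exacts [hmap _ hi l hl, hmap _ hj l hl]
    have hym := hy' f hf i j hij hfi hfj hfo hyoff
    obtain ⟨σ, s, hs⟩ := Mono.exists_perm hb hym
    have hs0 : ∀ l, s l ≠ 0 := fun l h0 => by simpa [h0] using (hs l).2
    have hyy : y * y = 1 := by
      have hff : f * f = 1 := ext_basis (b := b) fun l => by
        show f.1 (f.1 (b l)) = b l
        by_cases h1 : l = i
        · subst h1; rw [hfi, map_neg, hfi, neg_neg]
        by_cases h2 : l = j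
        · subst h2; rw [hfj, map_neg, hfj, neg_neg]
        rw [hfo l h1 h2, hfo l h1 h2]
      rw [hy, show g * f * g⁻¹ * (g * f * g⁻¹) = g * (f * f) * g⁻¹ by group, hff]; group
    have hinv : ∀ l, σ (σ l) = l := fun l => by
      have h1 : y.1 (y.1 (b l)) = b l := by rw [← mul_app, hyy]; rfl
      rw [(hs l).1, map_smul, (hs _).1, smul_smul] at h1
      exact basis_inj (mul_ne_zero (hs0 l) (hs0 _)) (h1.trans (one_smul F (b l)).symm)
    have hσR : ∀ l, σ l ≠ l → l ∈ R' := fun l hne => by_contra fun hl => hne (by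
      have h1 := (hs l).1
      rw [hyoff l hl] at h1
      exact basis_inj (hs0 l) (h1.symm.trans (one_smul F (b l)).symm))
    -- conjugates of `y` under three-cycles of `R'` commute with `y`
    have hcomm : ∀ τ ∈ M, Mono b τ → FixOff b R' τ →
        (∃ p q r, p ≠ q ∧ q ≠ r ∧ p ≠ r ∧ τ.1 (b p) = b q ∧ τ.1 (b q) = b r ∧
          τ.1 (b r) = b p ∧ ∀ l, l ≠ p → l ≠ q → l ≠ r → τ.1 (b l) = b l) →
        τ * y * τ⁻¹ * y = y * (τ * y * τ⁻¹) := by
      intro τ hτ hτm hτR hcyc
      have hρ : Mono b (g⁻¹ * τ * g) := hρ' τ hτ hcyc fun l hl => by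
        rw [mul_app, mul_app]
        rw [FixOff.fix_perp hb hτR (v := g.1 (b l)) fun a ha => map_sp hb hcard hmap hl ha]
        exact inv_app g _
      set ρ := g⁻¹ * τ * g with hρe
      have hdiag : ∀ l, ∃ e : F, (ρ * f * ρ⁻¹).1 (b l) = e • b l := fun l => by
        obtain ⟨l', a, he⟩ := Mono.inv hb hρ l
        have ha := sign_sq hb he
        obtain ⟨e, he'⟩ : ∃ e : F, f.1 (b l') = e • b l' := by
          by_cases h1 : l' = i
          · subst h1; exact ⟨-1, by rw [hfi, neg_one_smul]⟩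
          by_cases h2 : l' = j
          · subst h2; exact ⟨-1, by rw [hfj, neg_one_smul]⟩
          exact ⟨1, by rw [hfo l' h1 h2, one_smul]⟩
        refine ⟨e, ?_⟩
        rw [mul_app, mul_app, he, map_smul, he', map_smul, map_smul, smul_comm, ← map_smul, ← he,
          app_inv]
      choose e he using hdiag
      have hfd : ∀ l, ∃ d : F, f.1 (b l) = d • b l := fun l => by
        by_cases h1 : l = i
        · subst h1; exact ⟨-1, by rw [hfi, neg_one_smul]⟩
        by_cases h2 : l = j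
        · subst h2; exact ⟨-1, by rw [hfj, neg_one_smul]⟩
        exact ⟨1, by rw [hfo l h1 h2, one_smul]⟩
      choose d hd using hfd
      have hc : ρ * f * ρ⁻¹ * f = f * (ρ * f * ρ⁻¹) := ext_basis (b := b) fun l => by
        rw [mul_app (ρ * f * ρ⁻¹), mul_app f, hd, map_smul, he, map_smul, hd, smul_comm]
      calc τ * y * τ⁻¹ * y = g * (ρ * f * ρ⁻¹ * f) * g⁻¹ := by rw [hy, hρe]; group
        _ = g * (f * (ρ * f * ρ⁻¹)) * g⁻¹ := by rw [hc]
        _ = y * (τ * y * τ⁻¹) := by rw [hy, hρe]; group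
    have hσid : ∀ l, σ l = l := by
      by_contra hne
      push Not at hne
      obtain ⟨u, hu⟩ := hne
      have huR := hσR u hu
      have hvR : σ u ∈ R' := hσR _ (by rw [hinv]; exact Ne.symm hu)
      -- evaluation of the conjugated permutation
      have evalτ : ∀ (τ : quadIsoms Q) (p q : ι), τ.1 (b p) = b q →
          (τ * y * τ⁻¹).1 (b q) = s p • τ.1 (b (σ p)) := fun τ p q hpq => by
        rw [mul_app, mul_app, ← hpq, inv_app, (hs p).1, map_smul]
      obtain ⟨v, hv⟩ : ∃ v, v = σ u := ⟨_, rfl⟩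
      have hσv : σ v = u := by rw [hv, hinv]
      rw [← hv] at hu hvR
      by_cases hfix : ∃ w ∈ R', σ w = w
      · obtain ⟨w, hw, hσw⟩ := hfix
        have hwu : u ≠ w := fun e => hu (by rw [hv, e, hσw])
        have hwv : v ≠ w := fun e => hwu (by rw [← hσv, e, hσw])
        obtain ⟨τ, hτ, hτm, t1, t2, t3, t4⟩ := exists_cycle_mem hb hM (Ne.symm hu) hwv hwu
        have hc := hcomm τ hτ hτm (fun l hl => t4 l (fun e => hl (e ▸ huR)) (fun e => hl (e ▸ hvR))
          fun e => hl (e ▸ hw)) ⟨u, v, w, Ne.symm hu, hwv, hwu, t1, t2, t3, t4⟩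
        have h1 : (τ * y * τ⁻¹ * y).1 (b u) = (y * (τ * y * τ⁻¹)).1 (b u) := by rw [hc]
        have f1 := evalτ τ u v t1
        have f2 := evalτ τ w u t3
        rw [← hv, t2] at f1
        rw [hσw, t3] at f2
        rw [mul_app (τ * y * τ⁻¹), mul_app y, (hs u).1, ← hv, map_smul, f1, f2, map_smul, (hs u).1,
          ← hv, smul_smul, smul_smul] at h1
        exact hwv (basis_inj (mul_ne_zero (hs0 _) (hs0 _)) h1).symm
      push Not at hfix
      obtain ⟨p, hp⟩ := Finset.card_pos.1 (show 0 < ((R'.erase u).erase v).card by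
        have := Finset.pred_card_le_card_erase (a := v) (s := R'.erase u)
        rw [Finset.card_erase_of_mem huR] at this
        omega)
      obtain ⟨hpv, hpu, hpR⟩ : p ≠ v ∧ p ≠ u ∧ p ∈ R' := by simpa using hp
      obtain ⟨q, hq⟩ : ∃ q, q = σ p := ⟨_, rfl⟩
      have hσq : σ q = p := by rw [hq, hinv]
      have hqp : q ≠ p := by rw [hq]; exact hfix p hpR
      have hqu : q ≠ u := fun e => hpv (by rw [← hσq, e, hv])
      have hqv : q ≠ v := fun e => hpu (by rw [← hσq, e, hσv])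
      have hqR : q ∈ R' := hσR q (by rw [hσq]; exact Ne.symm hqp)
      have h5 : 4 < R'.card := by
        have hsub : ({u, v, p, q} : Finset ι) ⊆ R' := by simp [Finset.insert_subset_iff, huR, hvR, hpR, hqR]
        have := Finset.card_le_card hsub
        rw [Finset.card_insert_of_notMem, Finset.card_insert_of_notMem, Finset.card_pair (Ne.symm hqp)]
          at this
        · omega
        · simp [Ne.symm hpv, Ne.symm hqv]
        · simp [hu.symm, Ne.symm hpu, Ne.symm hqu]
      obtain ⟨r, hr⟩ := Finset.card_pos.1 (show 0 < (((( R'.erase u).erase v).erase p).erase q).card by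
        have h1 := Finset.pred_card_le_card_erase (a := q) (s := ((R'.erase u).erase v).erase p)
        have h2 := Finset.pred_card_le_card_erase (a := p) (s := (R'.erase u).erase v)
        have h3 := Finset.pred_card_le_card_erase (a := v) (s := R'.erase u)
        rw [Finset.card_erase_of_mem huR] at h3
        omega)
      obtain ⟨hrq, hrp, hrv, hru, hrR⟩ : r ≠ q ∧ r ≠ p ∧ r ≠ v ∧ r ≠ u ∧ r ∈ R' := by simpa using hr
      have hσr1 : σ r ≠ u := fun e => hrv (by rw [← hinv r, e, hv])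
      have hσr3 : σ r ≠ p := fun e => hrq (by rw [← hinv r, e, hq])
      have hσr5 : σ r ≠ r := hfix r hrR
      obtain ⟨τ, hτ, hτm, t1, t2, t3, t4⟩ := exists_cycle_mem hb hM (Ne.symm hpu) (Ne.symm hrp) (Ne.symm hru)
      have hc := hcomm τ hτ hτm (fun l hl => t4 l (fun e => hl (e ▸ huR)) (fun e => hl (e ▸ hpR))
        fun e => hl (e ▸ hrR)) ⟨u, p, r, Ne.symm hpu, Ne.symm hrp, Ne.symm hru, t1, t2, t3, t4⟩
      have h1 : (τ * y * τ⁻¹ * y).1 (b u) = (y * (τ * y * τ⁻¹)).1 (b u) := by rw [hc]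
      have fv : τ.1 (b v) = b v := t4 v hu (Ne.symm hpv) (Ne.symm hrv)
      have f1 := evalτ τ v v fv
      have f2 := evalτ τ r u t3
      rw [hσv, t1] at f1
      rw [t4 (σ r) hσr1 hσr3 hσr5] at f2
      rw [mul_app (τ * y * τ⁻¹), mul_app y, (hs u).1, ← hv, map_smul, f1, f2, map_smul, (hs (σ r)).1,
        hinv, smul_smul, smul_smul] at h1
      exact hrp (basis_inj (mul_ne_zero (hs0 _) (hs0 _)) h1).symm
    have hdiag : ∀ l, y.1 (b l) = s l • b l := fun l => by rw [(hs l).1, hσid]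
    have e1 : s x * b.repr (g.1 (b i)) x = -b.repr (g.1 (b i)) x := by
      rw [← diag_repr hb hdiag, hyimg, hfi, map_neg, map_neg, Finsupp.neg_apply]
    have e2 : s x * b.repr (g.1 (b k)) x = b.repr (g.1 (b k)) x := by
      rw [← diag_repr hb hdiag, hyimg, hfo k hki hkj]
    refine or_iff_not_imp_left.2 fun h1 => ?_
    have hsx : s x = -1 := mul_right_cancel₀ h1 (e1.trans (neg_one_mul _).symm)
    rw [hsx] at e2
    exact (mul_eq_zero.1 (show (2 : F) * b.repr (g.1 (b k)) x = 0 by linear_combination -e2)).resolve_left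
      hb.two
  intro i hi
  obtain ⟨x, hx⟩ : ∃ x, b.repr (g.1 (b i)) x ≠ 0 := by
    by_contra h
    push Not at h
    exact b.ne_zero i (g.1.map_eq_zero_iff.1 (b.repr.map_eq_zero_iff.1 (Finsupp.ext h)))
  have hxR : x ∈ R' := by_contra fun h => hx (hmap i hi x h)
  have hzero : ∀ k, k ≠ i → b.repr ((g⁻¹).1 (b x)) k = 0 := by
    intro k hki
    rw [repr_inv_basis hb]
    by_cases hk : k ∈ R
    · obtain ⟨j, hj⟩ := Finset.card_pos.1 (show 0 < ((R.erase i).erase k).card by
        have := Finset.pred_card_le_card_erase (a := k) (s := R.erase i)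
        rw [Finset.card_erase_of_mem hi] at this
        omega)
      obtain ⟨hjk, hji, hjR⟩ : j ≠ k ∧ j ≠ i ∧ j ∈ R := by simpa using hj
      exact (key i hi j hjR (Ne.symm hji) k hk hki (Ne.symm hjk) x).resolve_left hx
    · exact map_sp hb hcard hmap hk hxR
  have he : (g⁻¹).1 (b x) = b.repr ((g⁻¹).1 (b x)) i • b i := by
    refine b.repr.injective (Finsupp.ext fun k => ?_)
    rw [repr_smul_basis]
    split_ifs with h
    · rw [h]
    · exact hzero k h
  refine ⟨x, (b.repr ((g⁻¹).1 (b x)) i)⁻¹, ?_⟩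
  have h0 : b.repr ((g⁻¹).1 (b x)) i ≠ 0 := by rwa [repr_inv_basis hb]
  have h1 := congrArg g.1 he
  rw [app_inv, map_smul] at h1
  generalize b.repr ((g⁻¹).1 (b x)) i = e at h0 h1 ⊢
  rw [h1, smul_smul, inv_mul_cancel₀ h0, one_smul]

/-- elements carrying `R` into `R'` are monomial on `R` -/
theorem monomial_side {R R' : Finset ι} (hcard : R.card = R'.card) (h3 : 3 ≤ R.card) (h4 : R.card ≠ 4)
    {g : quadIsoms Q} (hg : g ∈ M) (hmap : ∀ i ∈ R, g.1 (b i) ∈ sp b R') (hsR : Small b M R)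
    (hsR' : Small b M R') : ∀ i ∈ R, ∃ (x : ι) (a : F), g.1 (b i) = a • b x :=
  monomial_side_of hb hM hcard h3 h4 hg hmap
    (fun _ hf _ _ _ _ _ _ h => hsR' _ (mul_mem (mul_mem hg hf) (inv_mem hg)) h)
    (fun _ hτ _ h => hsR _ (mul_mem (mul_mem (inv_mem hg) hτ) hg) h)

/-- an element carrying a pair of frame vectors of `K` into another pair is monomial -/
theorem mono_of_pair {K : Finset ι} (hK : 5 ≤ K.card) (h6 : K.card ≠ 6)
    (hs : ∀ i ∈ K, ∀ j ∈ K, i ≠ j → Small b M ((K.erase i).erase j))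
    {g : quadIsoms Q} (hg : g ∈ M) (hgK : FixOff b K g) {i j i' j' : ι} (hi : i ∈ K) (hj : j ∈ K)
    (hij : i ≠ j) (hi' : i' ∈ K) (hj' : j' ∈ K) (hij' : i' ≠ j')
    (e₁ : g.1 (b i) ∈ sp b {i', j'}) (e₂ : g.1 (b j) ∈ sp b {i', j'}) : Mono b g := by
  have hc : ((K.erase i).erase j).card = K.card - 2 := by
    rw [Finset.card_erase_of_mem (Finset.mem_erase.2 ⟨Ne.symm hij, hj⟩), Finset.card_erase_of_mem hi]
    omega
  have hc' : ((K.erase i').erase j').card = K.card - 2 := by
    rw [Finset.card_erase_of_mem (Finset.mem_erase.2 ⟨Ne.symm hij', hj'⟩), Finset.card_erase_of_mem hi']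
    omega
  have hmap : ∀ l ∈ (K.erase i).erase j, g.1 (b l) ∈ sp b ((K.erase i').erase j') := by
    intro l hl x hx
    obtain ⟨hlj, hli, hlK⟩ : l ≠ j ∧ l ≠ i ∧ l ∈ K := by simpa using hl
    by_cases hxK : x ∈ K
    · refine map_sp hb (R := {i, j}) (R' := {i', j'}) (by rw [Finset.card_pair hij, Finset.card_pair hij'])
        ?_ (by simp [hlj, hli]) ?_
      · intro a ha
        rcases Finset.mem_insert.1 ha with rfl | ha
        · exact e₁
        · rw [Finset.mem_singleton.1 ha]; exact e₂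
      · simp only [Finset.mem_erase, not_and] at hx
        rw [Finset.mem_insert, Finset.mem_singleton]
        by_contra hne
        push Not at hne
        exact hx hne.2 hne.1 hxK
    · exact FixOff.map_sp hb hgK (basis_mem_sp b hlK) x hxK
  have hmono := monomial_side hb hM (hc.trans hc'.symm) (by omega) (by omega) hg hmap
    (hs i hi j hj hij) (hs i' hi' j' hj' hij')
  obtain ⟨m₁, hm₁, m₂, hm₂, hne⟩ := Finset.one_lt_card.1 (show 1 < ((K.erase i).erase j).card by omega)
  obtain ⟨x₁, a₁, f₁⟩ := hmono m₁ hm₁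
  obtain ⟨x₂, a₂, f₂⟩ := hmono m₂ hm₂
  have hm₁K := Finset.mem_of_mem_erase (Finset.mem_of_mem_erase hm₁)
  have hm₂K := Finset.mem_of_mem_erase (Finset.mem_of_mem_erase hm₂)
  exact finish₂ hb hM (by omega) hg hgK hm₁K hm₂K hne f₁ f₂ (hs m₁ hm₁K m₂ hm₂K hne)

end CfsgLib.MaxSub.OLines
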