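import Cfsg.Agent.Lib.MaxSub.OLinesEven
import Cfsg.Agent.Lib.MaxSub.OLinesEmbed

/-!
Maximality in `Ω` of the stabiliser of an orthogonal frame of lines over a prime field, dimension at least
seven and different from eight.
-/

set_option autoImplicit false
set_option linter.unusedSectionVars false

namespace CfsgLib.MaxSub.OLines

open CfsgLib.Classical CfsgLib.Geom CfsgLib.Geom.OrthSub CfsgLib.MaxSub CfsgLib.MaxSub.OFrame
open CfsgLib.MaxSub.OMono (sq exists_not_mono conjHom conjHom_commutator)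
open QuadraticMap (polar)
open scoped Matrix

section core

variable {ι F : Type*} [Fintype ι] [DecidableEq ι] [Field F]

theorem sq_frame (h2 : (2 : F) ≠ 0) : Frame (sq ι F) (Pi.basisFun F ι) 1 where
  value i := by simp [OMono.sq_apply]
  ne := one_ne_zero
  orth i j h := by simp [OMono.polar_sq, Ne.symm h]
  two := h2

theorem mono_iff {g : quadIsoms (sq ι F)} : Mono (Pi.basisFun F ι) g ↔ OMono.Mono g := by
  have e : ∀ (a : F) j, a • (Pi.single j 1 : ι → F) = Pi.single j a := fun a j => by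
    rw [← Pi.single_smul, smul_eq_mul, mul_one]
  simp only [Mono, OMono.Mono, Pi.basisFun_apply, e]

/-- the monomial group is maximal: abstract form -/
theorem commutator_le_of_not_mono (hp : (Nat.card F).Prime) (h2 : (2 : F) ≠ 0) (h7 : 7 ≤ Fintype.card ι)
    (h8 : Fintype.card ι ≠ 8) (M : Subgroup (quadIsoms (sq ι F)))
    (hM : ∀ g ∈ commutator (quadIsoms (sq ι F)), OMono.Mono g → g ∈ M) {g : quadIsoms (sq ι F)} (hg : g ∈ M)
    (hgc : g ∈ commutator (quadIsoms (sq ι F))) (hgm : ¬ OMono.Mono g) :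
    commutator (quadIsoms (sq ι F)) ≤ M := by
  classical
  rcases Nat.even_or_odd (Fintype.card ι) with heven | hodd
  swap
  · exact OMono.commutator_le_of_not_mono hp h2 (le_trans (by norm_num) h7) hodd M hM hg hgm
  haveI : Finite F := Nat.finite_of_card_ne_zero hp.ne_zero
  have h10 : 10 ≤ Fintype.card ι := by obtain ⟨r, hr⟩ := heven; omega
  have hb : Frame (sq ι F) (Pi.basisFun F ι) 1 := sq_frame h2
  have hOver : Over (Pi.basisFun F ι) (M ⊓ commutator (quadIsoms (sq ι F))) :=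
    ⟨inf_le_right, fun k hk hkm => ⟨hM k hk (mono_iff.1 hkm), hk⟩⟩
  -- every coordinate vector is fixed by some non-monomial element
  have hfix : ∀ i, ∃ k ∈ M, k.1 (Pi.single i 1) = Pi.single i 1 ∧ ¬ OMono.Mono k := by
    have hex : ∃ i, ∃ k ∈ M ⊓ commutator (quadIsoms (sq ι F)), k.1 (Pi.single i 1) = Pi.single i 1 ∧
        ¬ OMono.Mono k := by
      by_contra hno
      push Not at hno
      refine hgm (mono_iff.1 (all_mono_even hb hOver h10 (fun i k hk hkf => mono_iff.2 (hno i k hk ?_))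
        ⟨hg, hgc⟩))
      have := hkf i (Finset.notMem_erase i _)
      rwa [Pi.basisFun_apply] at this
    obtain ⟨i₀, k, hk, hki, hkm⟩ := hex
    intro i
    have hK : 3 ≤ (Finset.univ : Finset ι).card := by rw [Finset.card_univ]; omega
    obtain ⟨τ, hτ, hτm, -, hτi⟩ := exists_move hb hOver hK (Finset.mem_univ i₀) (Finset.mem_univ i)
      (one_mul (1 : F))
    rw [Pi.basisFun_apply, Pi.basisFun_apply, one_smul] at hτi
    refine ⟨τ * k * τ⁻¹, mul_mem (mul_mem hτ.1 hk.1) (inv_mem hτ.1), ?_, fun hm => hkm (mono_iff.1 ?_)⟩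
    · rw [mul_app, mul_app, ← hτi, inv_app, hki]
    · have := Mono.mul hb (Mono.mul hb (Mono.inv hb hτm) (mono_iff.2 hm)) hτm
      rwa [show τ⁻¹ * (τ * k * τ⁻¹) * τ = k by group] at this
  -- Siegel elements whose data vanish at a common coordinate
  have hsep : ∀ (κ : Type _) [Fintype κ] [DecidableEq κ] (x : κ → F),
      (∀ y, polar (sq κ F) x y = 0) → x = 0 := fun κ _ _ => OMono.sq_sep h2
  have hcommon : ∀ (i : ι) (u w : ι → F), u ⬝ᵥ u = 0 → u ⬝ᵥ w = 0 → u i = 0 → w i = 0 →
      siegel (sq ι F) u w ∈ M := by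
    intro i u w hu huw hui hwi
    obtain ⟨k, hk, hki, hkm⟩ := hfix i
    obtain ⟨k', rfl⟩ := exists_embed i h2 k hki
    have hc : Fintype.card {j // j ≠ i} = Fintype.card ι - 1 := by
      rw [Fintype.card_subtype_compl, Fintype.card_subtype_eq]
    have hle := OMono.commutator_le_of_not_mono (ι := {j // j ≠ i}) hp h2 (by omega)
      (by rw [hc]; obtain ⟨r, hr⟩ := heven; exact ⟨r - 1, by omega⟩) (M.comap (embed i))
      (fun x hx hxm => hM _ (embed_commutator i hx) (embed_mono i hxm)) (g := k') hk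
      (fun hm => hkm (embed_mono i hm))
    obtain ⟨u', hu'⟩ : ∃ u' : {j // j ≠ i} → F, u' = fun j => u j.1 := ⟨_, rfl⟩
    obtain ⟨w', hw'⟩ : ∃ w' : {j // j ≠ i} → F, w' = fun j => w j.1 := ⟨_, rfl⟩
    have hdot : ∀ x y : ι → F, x i = 0 →
        x ⬝ᵥ y = (fun j : {j // j ≠ i} => x j.1) ⬝ᵥ fun j => y j.1 := fun x y h => by
      rw [dot_split i, h, zero_mul, zero_add]
    have hu0 : u' ⬝ᵥ u' = 0 := by rw [hu', ← hdot u u hui, hu]
    have huw0 : u' ⬝ᵥ w' = 0 := by rw [hu', hw', ← hdot u w hui, huw]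
    have e : embed i (siegel (sq {j // j ≠ i} F) u' w') = siegel (sq ι F) u w :=
      Subtype.ext (LinearEquiv.ext fun z => ext_coords i
        (by rw [embed_self, OMono.siegel_sq_apply hu huw]; simp [hui, hwi])
        (by
          rw [embed_sub, OMono.siegel_sq_apply hu0 huw0, OMono.siegel_sq_apply hu huw, hdot u z hui,
            hdot w z hwi, hdot w w hwi, ← hu', ← hw']
          funext j
          simp [hu', hw']))
    rw [← e]
    exact hle (siegel_mem_commutator (hsep _)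
      (by rw [Module.finrank_fintype_fun_eq_card]; omega) u' w')
  -- a singular vector with small support
  obtain ⟨f⟩ : Nonempty (Fin 5 ↪ ι) := Function.Embedding.nonempty_of_card_le (by simp; omega)
  obtain ⟨r₁, r₂, hr⟩ := CfsgLib.Geom.exists_binary_eq h2 (one_ne_zero (α := F)) one_ne_zero (-1 : F)
  have hne : ∀ {x y : Fin 5}, x ≠ y → f x ≠ f y := fun h => f.injective.ne h
  have hFull : ∀ s : F, s * s = 1 →
      sq ι F (Pi.single (f 0) r₁ + Pi.single (f 1) r₂ + Pi.single (f 2) s) = 0 ∧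
      Full M (Pi.single (f 0) r₁ + Pi.single (f 1) r₂ + Pi.single (f 2) s : ι → F) := by
    intro s hs
    obtain ⟨u, hu⟩ : ∃ u : ι → F, u = Pi.single (f 0) r₁ + Pi.single (f 1) r₂ + Pi.single (f 2) s :=
      ⟨_, rfl⟩
    rw [← hu]
    have hu0 : u ⬝ᵥ u = 0 := by
      rw [hu]
      simp [hne (show (0 : Fin 5) ≠ 1 by decide), hne (show (0 : Fin 5) ≠ 2 by decide),
        hne (show (1 : Fin 5) ≠ 2 by decide), hne (show (1 : Fin 5) ≠ 0 by decide),
        hne (show (2 : Fin 5) ≠ 0 by decide), hne (show (2 : Fin 5) ≠ 1 by decide)]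
      linear_combination hr + hs
    have hu3 : ∀ x : Fin 5, x = 3 ∨ x = 4 → u (f x) = 0 := fun x hx => by
      rw [hu]
      rcases hx with rfl | rfl
      all_goals simp [f.injective.eq_iff]
    have hQu : sq ι F u = 0 := by rw [OMono.sq_apply, hu0]
    refine ⟨hQu, fun z hz => ?_⟩
    rw [OMono.polar_sq, mul_eq_zero] at hz
    have hz' := hz.resolve_left h2
    have h1 : InW M u (Pi.single (f 3) (z (f 3))) := by
      have huw : u ⬝ᵥ Pi.single (f 3) (z (f 3)) = 0 := by
        rw [dotProduct_single, hu3 3 (Or.inl rfl), zero_mul]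
      exact ⟨by rw [OMono.polar_sq, huw, mul_zero], hcommon (f 4) u _ hu0 huw (hu3 4 (Or.inr rfl))
        (Pi.single_eq_of_ne (hne (by decide)) _)⟩
    have h3 : InW M u (z - Pi.single (f 3) (z (f 3))) := by
      have huw : u ⬝ᵥ (z - Pi.single (f 3) (z (f 3))) = 0 := by
        rw [dotProduct_sub, hz', dotProduct_single, hu3 3 (Or.inl rfl), zero_mul, sub_zero]
      exact ⟨by rw [OMono.polar_sq, huw, mul_zero], hcommon (f 3) u _ hu0 huw (hu3 3 (Or.inl rfl))
        (by simp)⟩
    have h4 := (wSub M hQu).add_mem (mem_wSub.2 h3) (mem_wSub.2 h1)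
    rw [sub_add_cancel] at h4
    exact (mem_wSub.1 h4).2
  obtain ⟨hQu, hu⟩ := hFull 1 (one_mul 1)
  obtain ⟨hQv, hv⟩ := hFull (-1) (by ring)
  refine commutator_le_of_pair (hsep ι) (by rw [Module.finrank_fintype_fun_eq_card]; omega) hu hv hQu hQv ?_
  rw [OMono.polar_sq]
  refine mul_ne_zero h2 ?_
  simp [f.injective.eq_iff]
  intro h
  exact h2 (by linear_combination hr - h)

end core

section transfer

variable {κ : Type} [Fintype κ] [DecidableEq κ] {F : Type*} [Field F]

/-- The stabiliser of an orthogonal frame of lines is maximal in `Ω`. -/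
theorem isMaximalIn_lines [Fintype F] (Q : QuadraticForm F (κ → F)) {f : (κ → F) → F} (hf : ⇑Q = f)
    (hp : (Fintype.card F).Prime) (h2 : (2 : F) ≠ 0) {t : ℕ} (h7 : 7 ≤ Fintype.card κ)
    (h8 : Fintype.card κ ≠ 8) {D : Fin t → Submodule F (κ → F)}
    (hD : Cfsg.Geo.IsOrthogonalMDecomposition f 1 D) :
    Cfsg.Geo.IsMaximalIn (Cfsg.Geo.omegaGL f) (Cfsg.Geo.decompositionStabilizer D ⊓ Cfsg.Geo.omegaGL f) := by
  classical
  subst hf
  have hdec := hD.decomp.decomp
  obtain ⟨χ, -⟩ := Decomp.exists_coord hdec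
  have hcard : t = Fintype.card κ := by
    have h := χ.finrank_eq
    rw [Module.finrank_fintype_fun_eq_card] at h
    rw [h, Module.finrank_pi_fintype]
    simp
  subst hcard
  obtain ⟨i₀, hi₀⟩ : ∃ i : Fin (Fintype.card κ), i = ⟨0, by omega⟩ := ⟨_, rfl⟩
  obtain ⟨e₀, he₀, he₀0⟩ : ∃ e₀ ∈ D i₀, e₀ ≠ 0 := (D i₀).exists_mem_ne_zero_of_ne_bot (fun h => by
    have := hdec.finrank_eq i₀
    rw [h, finrank_bot] at this
    exact zero_ne_one this)
  have hiso : ∀ i, ∃ e ∈ D i, Q e = Q e₀ ∧ e ≠ 0 := fun i => by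
    obtain ⟨φ, hφ⟩ := hD.isometric i₀ i
    refine ⟨φ ⟨e₀, he₀⟩, (φ _).2, hφ _, fun h => he₀0 ?_⟩
    have := (LinearEquiv.map_eq_zero_iff φ).1 (Subtype.ext h : φ ⟨e₀, he₀⟩ = 0)
    exact congrArg Subtype.val this
  choose e he heQ he0 using hiso
  obtain ⟨a, ha'⟩ : ∃ a, a = Q e₀ := ⟨_, rfl⟩
  have horth : ∀ i j, i ≠ j → polar Q (e i) (e j) = 0 := fun i j hij =>
    hD.decomp.orthogonal i j hij _ (he i) _ (he j)
  have hspan : ∀ i, ∀ x ∈ D i, ∃ c : F, x = c • e i := fun i x hx => by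
    obtain ⟨v, hv0, hv⟩ := finrank_eq_one_iff'.1 (hdec.finrank_eq i)
    obtain ⟨c, hc⟩ := hv ⟨e i, he i⟩
    obtain ⟨d, hd⟩ := hv ⟨x, hx⟩
    have hc0 : c ≠ 0 := fun h => he0 i (by rw [h, zero_smul] at hc; exact (congrArg Subtype.val hc).symm)
    refine ⟨d / c, ?_⟩
    have e1 : c • (v : κ → F) = e i := congrArg Subtype.val hc
    have e2 : d • (v : κ → F) = x := congrArg Subtype.val hd
    rw [← e1, ← e2, smul_smul, div_mul_cancel₀ _ hc0]
  have ha : a ≠ 0 := by
    intro h0
    obtain ⟨-, y, hy, hne⟩ := hD.decomp.nondegenerate i₀ e₀ he₀ he₀0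
    obtain ⟨c, rfl⟩ := hspan i₀ y hy
    obtain ⟨d, hd⟩ := hspan i₀ e₀ he₀
    apply hne
    rw [hd, QuadraticMap.polar_smul_left, QuadraticMap.polar_smul_right, polar_self_two, heQ, ← ha', h0]
    simp
  have hli : LinearIndependent F e := by
    rw [Fintype.linearIndependent_iff]
    intro g hg i
    have h := congrArg (fun x => polar Q (e i) x) hg
    simp only [QuadraticMap.polar_zero_right] at h
    have e1 : polar Q (e i) (∑ j, g j • e j) = ∑ j, g j * polar Q (e i) (e j) := by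
      show Q.polarBilin (e i) (∑ j, g j • e j) = _
      simp [map_sum]
    rw [e1, Finset.sum_eq_single i (fun j _ hj => by rw [horth i j (Ne.symm hj), mul_zero]) (by simp),
      polar_self_two, heQ, ← ha', mul_eq_zero] at h
    exact h.resolve_right (mul_ne_zero h2 ha)
  let b : Module.Basis (Fin (Fintype.card κ)) F (κ → F) :=
    haveI : Nonempty (Fin (Fintype.card κ)) := ⟨i₀⟩
    basisOfLinearIndependentOfCardEqFinrank hli (by rw [Fintype.card_fin, Module.finrank_fintype_fun_eq_card])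
  have hb : ∀ i, b i = e i := fun i => by simp [b]
  obtain ⟨ψ, hψdef⟩ : ∃ ψ, ψ = b.equivFun := ⟨_, rfl⟩
  have hψ : ∀ x, Q x = a * sq (Fin (Fintype.card κ)) F (ψ x) := by
    intro x
    apply mul_left_cancel₀ h2
    have e1 : ∀ i, polar Q (e i) x = 2 * a * b.repr x i := fun i => by
      conv_lhs => rw [← b.sum_repr x]
      show Q.polarBilin (e i) (∑ j, b.repr x j • b j) = _
      rw [map_sum, Finset.sum_eq_single i (fun j _ hj => ?_) (by simp)]
      · rw [map_smul, hb]
        show b.repr x i * polar Q (e i) (e i) = _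
        rw [polar_self_two, heQ, ← ha']; ring
      · rw [map_smul, hb]
        show b.repr x j * polar Q (e i) (e j) = _
        rw [horth i j (Ne.symm hj), mul_zero]
    have e2 : polar Q x x = ∑ i, b.repr x i * polar Q (e i) x := by
      conv_lhs => arg 2; rw [← b.sum_repr x]
      show Q.polarBilin (∑ j, b.repr x j • b j) x = _
      rw [map_sum, LinearMap.sum_apply]
      exact Finset.sum_congr rfl fun j _ => by rw [map_smul, LinearMap.smul_apply, hb]; rfl
    rw [← polar_self_two, e2, OMono.sq_apply, dotProduct, Finset.mul_sum, Finset.mul_sum]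
    refine Finset.sum_congr rfl fun i _ => ?_
    rw [e1, hψdef, Module.Basis.equivFun_apply]
    ring
  have hψe : ∀ i, ψ.symm (Pi.single i 1) = e i := fun i => by
    rw [hψdef, Module.Basis.equivFun_symm_apply, ← hb]
    simp [Pi.single_apply]
  obtain ⟨Φ, hΦ⟩ : ∃ Φ, Φ = conjHom Q ψ ha hψ := ⟨_, rfl⟩
  have hΦapp : ∀ (g : quadIsoms Q) y, (Φ g).1 y = ψ (g.1 (ψ.symm y)) := fun g y => by rw [hΦ]; rfl
  have hmono : ∀ g : quadIsoms Q, OMono.Mono (Φ g) ↔ Stab D g := by
    intro g
    constructor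
    · intro h i
      obtain ⟨j, c, hc⟩ := h i
      refine ⟨j, fun x hx => ?_⟩
      obtain ⟨d, rfl⟩ := hspan i x hx
      rw [hΦapp, hψe] at hc
      have : g.1 (e i) = c • e j := by
        apply ψ.injective
        rw [hc, map_smul, ← hψe j, ψ.apply_symm_apply, ← Pi.single_smul, smul_eq_mul, mul_one]
      rw [map_smul, this]
      exact Submodule.smul_mem _ _ (Submodule.smul_mem _ _ (he j))
    · intro h i
      obtain ⟨j, hj⟩ := h i
      obtain ⟨c, hc⟩ := hspan j _ (hj _ (he i))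
      refine ⟨j, c, ?_⟩
      rw [hΦapp, hψe, hc, map_smul, ← hψe j, ψ.apply_symm_apply, ← Pi.single_smul, smul_eq_mul, mul_one]
  have hcomm : ∀ g : quadIsoms Q, g ∈ commutator (quadIsoms Q) ↔
      Φ g ∈ commutator (quadIsoms (sq (Fin (Fintype.card κ)) F)) := fun g => by
    rw [← conjHom_commutator Q ψ ha hψ, hΦ]
    exact (Subgroup.mem_map_iff_mem (f := (conjHom Q ψ ha hψ).toMonoidHom) (conjHom Q ψ ha hψ).injective).symm
  have hcardF : (Nat.card F).Prime := by rwa [Nat.card_eq_fintype_card]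
  refine omega_isMaximalIn_of Q rfl (Cfsg.Geo.decompositionStabilizer D) ?_ fun M hM g hg hgc hgH x hx => ?_
  · obtain ⟨h, hh, hhm⟩ := exists_not_mono (ι := Fin (Fintype.card κ)) (F := F) h2 (by simp; omega)
    obtain ⟨g, rfl⟩ := Φ.surjective h
    exact ⟨g, (hcomm g).2 hh, fun hs => hhm ((hmono g).2 (stab_of_mem_stab hs))⟩
  · have hle := commutator_le_of_not_mono hcardF h2 (by simpa using h7) (by simpa using h8)
      (M.map Φ.toMonoidHom) (fun k hk hkm => ?_) (Subgroup.mem_map_of_mem _ hg) ((hcomm g).1 hgc)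
      (fun hm => hgH (mem_stab_of_stab hdec ((hmono g).1 hm)))
    · obtain ⟨y, hy, hyx⟩ := hle ((hcomm x).1 hx)
      rwa [← Φ.injective hyx]
    · obtain ⟨y, rfl⟩ := Φ.surjective k
      exact Subgroup.mem_map_of_mem _ (hM y ((hcomm y).2 hk) (mem_stab_of_stab hdec ((hmono y).1 hkm)))

end transfer

end CfsgLib.MaxSub.OLines
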