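import Mathlib

/-!
A finite group partitioned by subgroups of index at most two in their normalisers: a part of order at least six
is normal. This is the counting behind the finite rotation groups.
-/

set_option autoImplicit false
set_option linter.unusedSectionVars false

namespace CfsgLib.MaxSub.AxisCount

variable {K : Type*} [Group K] [Fintype K] [DecidableEq K]

open scoped Classical in
/-- the conjugates of `C` -/
noncomputable def orb (C : Subgroup K) : Finset (Subgroup K) :=
  Finset.univ.image fun h : K => C.map (MulAut.conj h).toMonoidHom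

open scoped Classical in
/-- the non-trivial elements of the conjugates of `C` -/
noncomputable def cov (C : Subgroup K) : Finset K :=
  Finset.univ.filter fun g => g ≠ 1 ∧ ∃ D ∈ orb C, g ∈ D

theorem mem_orb {C D : Subgroup K} : D ∈ orb C ↔ ∃ h : K, C.map (MulAut.conj h).toMonoidHom = D := by
  simp [orb]

theorem self_mem_orb (C : Subgroup K) : C ∈ orb C := by
  refine mem_orb.2 ⟨1, ?_⟩
  ext g
  simp [Subgroup.mem_map]

theorem map_conj_conj (C : Subgroup K) (a b : K) :
    (C.map (MulAut.conj a).toMonoidHom).map (MulAut.conj b).toMonoidHom =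
      C.map (MulAut.conj (b * a)).toMonoidHom := by
  rw [Subgroup.map_map]
  congr 1
  ext x
  simp [mul_assoc]

theorem orb_trans {C D E : Subgroup K} (h1 : D ∈ orb C) (h2 : E ∈ orb D) : E ∈ orb C := by
  obtain ⟨a, rfl⟩ := mem_orb.1 h1
  obtain ⟨b, rfl⟩ := mem_orb.1 h2
  exact mem_orb.2 ⟨b * a, (map_conj_conj C a b).symm⟩

theorem orb_symm {C D : Subgroup K} (h1 : D ∈ orb C) : C ∈ orb D := by
  obtain ⟨a, rfl⟩ := mem_orb.1 h1
  refine mem_orb.2 ⟨a⁻¹, ?_⟩
  rw [map_conj_conj, inv_mul_cancel]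
  ext g
  simp [Subgroup.mem_map]

theorem card_orb_mul (C : Subgroup K) :
    (orb C).card * Nat.card (Subgroup.normalizer (C : Set K)) = Nat.card K := by
  classical
  rw [Nat.card_eq_fintype_card (α := K), ← Finset.card_univ,
    Finset.card_eq_sum_card_image (fun h : K => C.map (MulAut.conj h).toMonoidHom) Finset.univ,
    ← smul_eq_mul, ← Finset.sum_const]
  unfold orb
  refine Finset.sum_congr rfl fun D hD => ?_
  obtain ⟨a, -, rfl⟩ := Finset.mem_image.1 hD
  rw [Nat.card_eq_fintype_card, ← Finset.card_univ]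
  refine Finset.card_bij (fun g _ => a * g.1) (fun g _ => ?_) (fun g _ g' _ h => ?_) (fun b hb => ?_)
  · rw [Finset.mem_filter]
    refine ⟨Finset.mem_univ _, ?_⟩
    rw [← map_conj_conj]
    congr 1
    exact Subgroup.mem_normalizer_iff_map_conj_eq.1 g.2
  · exact Subtype.ext (mul_left_cancel h)
  · rw [Finset.mem_filter] at hb
    refine ⟨⟨a⁻¹ * b, Subgroup.mem_normalizer_iff_map_conj_eq.2 ?_⟩, Finset.mem_univ _,
      mul_inv_cancel_left a b⟩
    show C.map (MulAut.conj (a⁻¹ * b)).toMonoidHom = C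
    rw [← map_conj_conj, hb.2, map_conj_conj, inv_mul_cancel]
    ext g
    simp [Subgroup.mem_map]

/-- A part of order at least six is normal. -/
theorem axis_normal (𝒞 : Set (Subgroup K)) (hne : ∀ C ∈ 𝒞, C ≠ ⊥)
    (hcover : ∀ g : K, g ≠ 1 → ∃ C ∈ 𝒞, g ∈ C)
    (hdisj : ∀ C ∈ 𝒞, ∀ D ∈ 𝒞, ∀ g : K, g ≠ 1 → g ∈ C → g ∈ D → C = D)
    (hconj : ∀ C ∈ 𝒞, ∀ h : K, C.map (MulAut.conj h).toMonoidHom ∈ 𝒞)
    (hidx : ∀ C ∈ 𝒞, Nat.card (Subgroup.normalizer (C : Set K)) ≤ 2 * Nat.card C)
    {A : Subgroup K} (hA : A ∈ 𝒞) (h6 : 6 ≤ Nat.card A) : A.Normal := by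
  classical
  have horb : ∀ C ∈ 𝒞, ∀ D ∈ orb C, D ∈ 𝒞 := fun C hC D hD => by
    obtain ⟨h, rfl⟩ := mem_orb.1 hD
    exact hconj C hC h
  have hcard : ∀ C : Subgroup K, ∀ D ∈ orb C, Nat.card D = Nat.card C := fun C D hD => by
    obtain ⟨h, rfl⟩ := mem_orb.1 hD
    exact (Nat.card_congr (C.equivMapOfInjective _ (MulAut.conj h).injective).toEquiv).symm
  -- the data of one class
  have data : ∀ C ∈ 𝒞, ∃ a : ℕ, (cov C).card + (orb C).card = a ∧ (a = Nat.card K ∨ 2 * a = Nat.card K) ∧
      2 * (orb C).card ≤ a ∧ (a = 2 * (orb C).card ∨ 3 * (orb C).card ≤ a) ∧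
      (6 ≤ Nat.card C → 6 * (orb C).card ≤ a) := by
    intro C hC
    refine ⟨(orb C).card * Nat.card C, ?_, ?_, ?_, ?_, fun h => ?_⟩
    · have e : cov C = (orb C).biUnion fun D => Finset.univ.filter fun g => g ≠ 1 ∧ g ∈ D := by
        ext g
        simp [cov]
        tauto
      rw [e, Finset.card_biUnion, Finset.sum_const_nat (m := Nat.card C - 1) fun D hD => ?_]
      · have h1 : 1 ≤ Nat.card C := Nat.card_pos
        calc (orb C).card * (Nat.card C - 1) + (orb C).card
            = (orb C).card * (Nat.card C - 1 + 1) := by ring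
          _ = _ := by rw [Nat.sub_add_cancel h1]
      · rw [← hcard C D hD, Nat.card_eq_fintype_card, Fintype.card_subtype,
          ← Finset.card_erase_of_mem (show (1 : K) ∈ _ from Finset.mem_filter.2 ⟨Finset.mem_univ _, one_mem D⟩)]
        congr 1
        ext g
        simp [and_comm]
      · intro D hD E hE hDE
        rw [Function.onFun, Finset.disjoint_left]
        intro g hg hg'
        rw [Finset.mem_filter] at hg hg'
        exact hDE (hdisj D (horb C hC D hD) E (horb C hC E hE) g hg.2.1 hg.2.2 hg'.2.2)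
    · have hdvd : Nat.card C ∣ Nat.card (Subgroup.normalizer (C : Set K)) :=
        Subgroup.card_dvd_of_le Subgroup.le_normalizer
      obtain ⟨e, he⟩ := hdvd
      have hle := hidx C hC
      have hpos : 0 < Nat.card (Subgroup.normalizer (C : Set K)) := Nat.card_pos
      have hC0 : 0 < Nat.card C := Nat.card_pos
      rw [← card_orb_mul C, he]
      have he2 : e ≤ 2 := by
        by_contra h
        have : Nat.card C * 3 ≤ Nat.card C * e := Nat.mul_le_mul_left _ (by omega)
        omega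
      have he0 : 0 < e := by
        rw [he] at hpos
        exact Nat.pos_of_mul_pos_left hpos
      interval_cases e
      · left; ring
      · right; ring
    · have : 2 ≤ Nat.card C := by
        have := hne C hC
        rw [Ne, ← Subgroup.card_eq_one] at this
        have : 0 < Nat.card C := Nat.card_pos
        omega
      calc 2 * (orb C).card = (orb C).card * 2 := mul_comm _ _
        _ ≤ _ := Nat.mul_le_mul_left _ this
    · rcases (show Nat.card C ≤ 2 ∨ 3 ≤ Nat.card C by omega) with h | h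
      · left
        have h1 := hne C hC
        rw [Ne, ← Subgroup.card_eq_one] at h1
        have : 0 < Nat.card C := Nat.card_pos
        rw [show Nat.card C = 2 by omega, mul_comm]
      · right
        calc 3 * (orb C).card = (orb C).card * 3 := mul_comm _ _
          _ ≤ _ := Nat.mul_le_mul_left _ h
    · calc 6 * (orb C).card = (orb C).card * 6 := mul_comm _ _
        _ ≤ _ := Nat.mul_le_mul_left _ h
  by_contra hnorm
  have hO1 : 2 ≤ (orb A).card := by
    by_contra h
    refine hnorm ⟨fun n hn g => ?_⟩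
    have h1 : (orb A).card ≤ 1 := by omega
    have e := Finset.card_le_one.1 h1 _ (mem_orb.2 ⟨g, rfl⟩) _ (self_mem_orb A)
    rw [← e]
    exact ⟨n, hn, by simp⟩
  have hpick : ∀ S : Finset K, S.card + 1 < Nat.card K → ∃ C ∈ 𝒞, ∃ g ∈ C, g ≠ 1 ∧ g ∉ S := by
    intro S hS
    obtain ⟨g, -, hg⟩ := Finset.exists_mem_notMem_of_card_lt_card (s := insert (1 : K) S) (t := Finset.univ)
      (lt_of_le_of_lt (Finset.card_insert_le _ _) (by rwa [Finset.card_univ, ← Nat.card_eq_fintype_card]))
    rw [Finset.mem_insert, not_or] at hg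
    obtain ⟨C, hC, hgC⟩ := hcover g hg.1
    exact ⟨C, hC, g, hgC, hg.1, hg.2⟩
  have hdis : ∀ B ∈ 𝒞, ∀ C ∈ 𝒞, ∀ g ∈ C, g ≠ 1 → g ∉ cov B → Disjoint (cov B) (cov C) := by
    intro B hB C hC g hg hg1 hgB
    rw [Finset.disjoint_left]
    intro x hx hx'
    simp only [cov, Finset.mem_filter, Finset.mem_univ, true_and] at hx hx' hgB
    obtain ⟨hx1, D, hD, hxD⟩ := hx
    obtain ⟨-, E, hE, hxE⟩ := hx'
    have e := hdisj D (horb B hB D hD) E (horb C hC E hE) x hx1 hxD hxE
    exact hgB ⟨hg1, C, orb_trans (e ▸ hD) (orb_symm hE), hg⟩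
  have hsub : ∀ S : Finset K, (∀ x ∈ S, x ≠ 1) → S.card + 1 ≤ Nat.card K := fun S hS => by
    rw [← Finset.card_insert_of_notMem (fun h => hS 1 h rfl), Nat.card_eq_fintype_card]
    exact Finset.card_le_univ _
  have hcov1 : ∀ C : Subgroup K, ∀ x ∈ cov C, x ≠ (1 : K) := fun C x hx => by
    simp only [cov, Finset.mem_filter] at hx
    exact hx.2.1
  obtain ⟨a1, ha1, hN1, -, -, h61⟩ := data A hA
  have h61' := h61 h6
  obtain ⟨C2, hC2, g2, hg2, hg21, hg2A⟩ := hpick (cov A) (by omega)
  obtain ⟨a2, ha2, hN2, h22, h32, -⟩ := data C2 hC2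
  have d12 := hdis A hA C2 hC2 g2 hg2 hg21 hg2A
  have le2 := hsub (cov A ∪ cov C2) (fun x hx => by
    rcases Finset.mem_union.1 hx with h | h <;> exact hcov1 _ x h)
  rw [Finset.card_union_of_disjoint d12] at le2
  rcases Nat.lt_or_ge ((cov A).card + (cov C2).card + 1) (Nat.card K) with hlt | hge
  · obtain ⟨C3, hC3, g3, hg3, hg31, hg3n⟩ := hpick (cov A ∪ cov C2)
      (by rw [Finset.card_union_of_disjoint d12]; exact hlt)
    rw [Finset.mem_union, not_or] at hg3n
    obtain ⟨a3, ha3, hN3, h23, h33, -⟩ := data C3 hC3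
    have d13 := hdis A hA C3 hC3 g3 hg3 hg31 hg3n.1
    have d23 := hdis C2 hC2 C3 hC3 g3 hg3 hg31 hg3n.2
    have hd : Disjoint (cov A ∪ cov C2) (cov C3) := Finset.disjoint_union_left.2 ⟨d13, d23⟩
    have hone : ∀ x ∈ cov A ∪ cov C2 ∪ cov C3, x ≠ 1 := fun x hx => by
      rcases Finset.mem_union.1 hx with h | h
      · rcases Finset.mem_union.1 h with h | h <;> exact hcov1 _ x h
      · exact hcov1 _ x h
    have le3 := hsub _ hone
    rw [Finset.card_union_of_disjoint hd, Finset.card_union_of_disjoint d12] at le3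
    rcases Nat.lt_or_ge ((cov A).card + (cov C2).card + (cov C3).card + 1) (Nat.card K) with hlt3 | hge3
    · obtain ⟨C4, hC4, g4, hg4, hg41, hg4n⟩ := hpick (cov A ∪ cov C2 ∪ cov C3)
        (by rw [Finset.card_union_of_disjoint hd, Finset.card_union_of_disjoint d12]; exact hlt3)
      rw [Finset.mem_union, Finset.mem_union, not_or, not_or] at hg4n
      obtain ⟨a4, ha4, hN4, h24, h34, -⟩ := data C4 hC4
      have hd4 : Disjoint (cov A ∪ cov C2 ∪ cov C3) (cov C4) := Finset.disjoint_union_left.2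
        ⟨Finset.disjoint_union_left.2 ⟨hdis A hA C4 hC4 g4 hg4 hg41 hg4n.1.1,
          hdis C2 hC2 C4 hC4 g4 hg4 hg41 hg4n.1.2⟩, hdis C3 hC3 C4 hC4 g4 hg4 hg41 hg4n.2⟩
      have le4 := hsub (cov A ∪ cov C2 ∪ cov C3 ∪ cov C4) fun x hx => by
        rcases Finset.mem_union.1 hx with h | h
        · exact hone x h
        · exact hcov1 _ x h
      rw [Finset.card_union_of_disjoint hd4, Finset.card_union_of_disjoint hd,
        Finset.card_union_of_disjoint d12] at le4
      omega
    · omega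
  · omega

end CfsgLib.MaxSub.AxisCount
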