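import Cfsg.Agent.Lib.MaxSub.OFrame
import Mathlib.GroupTheory.SpecificGroups.Alternating.Centralizer

/-!
Overgroups of the monomial group of the sum of squares over a prime field, odd dimension: sign changes, even
permutations, the orbit of the coordinate lines.
-/

set_option autoImplicit false
set_option linter.unusedSectionVars false

namespace CfsgLib.MaxSub.OMono

open CfsgLib.Classical CfsgLib.Geom CfsgLib.Geom.OrthSub CfsgLib.MaxSub CfsgLib.MaxSub.OFrame
open QuadraticMap (polar)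
open scoped Matrix

variable {ι F : Type*} [Fintype ι] [DecidableEq ι] [Field F]

variable (ι F) in
/-- the sum of squares -/
def sq : QuadraticForm F (ι → F) := QuadraticMap.weightedSumSquares F (fun _ : ι => (1 : F))

theorem sq_apply (x : ι → F) : sq ι F x = x ⬝ᵥ x := by
  simp [sq, dotProduct]

theorem polar_sq (x y : ι → F) : polar (sq ι F) x y = 2 * (x ⬝ᵥ y) := by
  show sq ι F (x + y) - sq ι F x - sq ι F y = _
  rw [sq_apply, sq_apply, sq_apply, add_dotProduct, dotProduct_add, dotProduct_add, dotProduct_comm y x]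
  ring

theorem sq_sep (h2 : (2 : F) ≠ 0) (x : ι → F) (h : ∀ y, polar (sq ι F) x y = 0) : x = 0 := by
  funext i
  simpa [polar_sq, h2] using h (Pi.single i 1)

theorem isom_dot (h2 : (2 : F) ≠ 0) (g : quadIsoms (sq ι F)) (x y : ι → F) :
    g.1 x ⬝ᵥ g.1 y = x ⬝ᵥ y := by
  have h := polar_map g x y
  rw [polar_sq, polar_sq] at h
  exact mul_left_cancel₀ h2 h

theorem siegel_sq_apply {u w : ι → F} (hu : u ⬝ᵥ u = 0) (huw : u ⬝ᵥ w = 0) (z : ι → F) :
    (siegel (sq ι F) u w).1 z =
      z + (2 * (u ⬝ᵥ z)) • w - (2 * (w ⬝ᵥ z) + (w ⬝ᵥ w) * (2 * (u ⬝ᵥ z))) • u := by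
  rw [siegel_apply (sq ι F) (by rw [sq_apply, hu]) (by rw [polar_sq, huw, mul_zero]), polar_sq, polar_sq,
    sq_apply]

/-- `-1` -/
def negQ : quadIsoms (sq ι F) :=
  ⟨LinearEquiv.neg F, mem_quadIsoms.2 fun v => by simp⟩

@[simp] theorem negQ_apply (x : ι → F) : (negQ (ι := ι) (F := F)).1 x = -x := rfl

theorem negQ_comm (g : quadIsoms (sq ι F)) : g * negQ = negQ * g :=
  quadIsoms_ext _ fun x => by
    show g.1 (-x) = -g.1 x
    exact map_neg g.1 x

/-- change of the signs on `A` -/
def flipLin (A : Finset ι) : (ι → F) →ₗ[F] (ι → F) where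
  toFun x l := if l ∈ A then -x l else x l
  map_add' x y := by
    funext l
    by_cases h : l ∈ A <;> simp [h, add_comm]
  map_smul' c x := by
    funext l
    by_cases h : l ∈ A <;> simp [h]

theorem flipLin_flipLin (A : Finset ι) (x : ι → F) : flipLin A (flipLin A x) = x := by
  funext l
  by_cases h : l ∈ A <;> simp [flipLin, h]

/-- change of the signs on `A`, as an isometry -/
def flipQ (A : Finset ι) : quadIsoms (sq ι F) :=
  ⟨LinearEquiv.ofLinearMap (flipLin A) (flipLin A) (LinearMap.ext fun x => flipLin_flipLin A x)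
    (LinearMap.ext fun x => flipLin_flipLin A x), mem_quadIsoms.2 fun x => by
      show sq ι F (flipLin A x) = sq ι F x
      rw [sq_apply, sq_apply]
      refine Finset.sum_congr rfl fun l _ => ?_
      by_cases h : l ∈ A <;> simp [flipLin, h]⟩

@[simp] theorem flipQ_apply (A : Finset ι) (x : ι → F) (l : ι) :
    (flipQ (F := F) A).1 x l = if l ∈ A then -x l else x l := rfl

/-- coordinate permutation -/
def permQ : Equiv.Perm ι →* quadIsoms (sq ι F) where
  toFun σ := ⟨LinearEquiv.funCongrLeft F F σ.symm, mem_quadIsoms.2 fun x => by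
    rw [sq_apply, sq_apply]
    exact Equiv.sum_comp σ.symm (fun l => x l * x l)⟩
  map_one' := quadIsoms_ext _ fun x => rfl
  map_mul' σ τ := quadIsoms_ext _ fun x => rfl

@[simp] theorem permQ_apply (σ : Equiv.Perm ι) (x : ι → F) (l : ι) :
    (permQ (F := F) σ).1 x l = x (σ.symm l) := rfl

theorem permQ_single (σ : Equiv.Perm ι) (i : ι) (c : F) :
    (permQ (F := F) σ).1 (Pi.single i c) = Pi.single (σ i) c := by
  funext l
  rw [permQ_apply, Pi.single_apply, Pi.single_apply]
  simp only [Equiv.symm_apply_eq]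

theorem flipQ_single (A : Finset ι) (i : ι) (c : F) :
    (flipQ (F := F) A).1 (Pi.single i c) = Pi.single i (if i ∈ A then -c else c) := by
  funext l
  rw [flipQ_apply, Pi.single_apply, Pi.single_apply]
  by_cases h : l = i
  · subst h
    simp
  · simp [h]

/-- each coordinate vector goes to a multiple of a coordinate vector -/
def Mono (g : quadIsoms (sq ι F)) : Prop :=
  ∀ i, ∃ j c, g.1 (Pi.single i 1) = Pi.single j c

theorem flipQ_comm (A : Finset ι) (σ : Equiv.Perm ι) (h : ∀ l, σ l ∈ A ↔ l ∈ A) :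
    permQ σ * flipQ A = flipQ (F := F) A * permQ σ := by
  refine quadIsoms_ext _ fun x => funext fun l => ?_
  show (permQ (F := F) σ).1 ((flipQ (F := F) A).1 x) l = (flipQ (F := F) A).1 ((permQ (F := F) σ).1 x) l
  have h' : σ.symm l ∈ A ↔ l ∈ A := by simpa using (h (σ.symm l)).symm
  simp only [permQ_apply, flipQ_apply, h']

theorem flipQ_mem_commutator {i j : ι} (hij : i ≠ j) :
    flipQ (F := F) {i, j} ∈ commutator (quadIsoms (sq ι F)) := by
  have e : flipQ (F := F) {i, j} =
      flipQ {i} * permQ (Equiv.swap i j) * (flipQ {i})⁻¹ * (permQ (Equiv.swap i j))⁻¹ := by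
    have h1 : (flipQ (F := F) {i})⁻¹ = flipQ {i} := inv_eq_of_mul_eq_one_right
      (quadIsoms_ext _ fun x => flipLin_flipLin {i} x)
    rw [h1, ← map_inv, Equiv.swap_inv]
    refine quadIsoms_ext _ fun x => funext fun l => ?_
    show (flipQ (F := F) {i, j}).1 x l =
      (flipQ (F := F) {i}).1 ((permQ (F := F) (Equiv.swap i j)).1 ((flipQ (F := F) {i}).1 ((permQ (F := F) (Equiv.swap i j)).1 x))) l
    simp only [flipQ_apply, permQ_apply, Equiv.symm_swap, Finset.mem_insert, Finset.mem_singleton,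
      Equiv.swap_apply_self]
    by_cases hi : l = i
    · subst hi
      simp [hij, Ne.symm hij]
    by_cases hj : l = j
    · subst hj
      simp [hi]
    simp [hi, hj, Equiv.swap_apply_of_ne_of_ne hi hj]
  rw [e]
  exact Subgroup.commutator_mem_commutator (Subgroup.mem_top _) (Subgroup.mem_top _)

theorem permQ_mem_commutator (h5 : 5 ≤ Fintype.card ι) {σ : Equiv.Perm ι} (hσ : Equiv.Perm.sign σ = 1) :
    permQ (F := F) σ ∈ commutator (quadIsoms (sq ι F)) := by
  have h1 : σ ∈ ⁅alternatingGroup ι, alternatingGroup ι⁆ := by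
    rw [commutator_alternatingGroup_eq_self (by rwa [Nat.card_eq_fintype_card])]
    exact Equiv.Perm.mem_alternatingGroup.2 hσ
  have h2 := Subgroup.mem_map_of_mem (permQ (F := F)) h1
  rw [Subgroup.map_commutator] at h2
  exact Subgroup.commutator_mono le_top le_top h2

/-- an overgroup of the monomial group in `Ω`, containing `-1` -/
structure Frame (M : Subgroup (quadIsoms (sq ι F))) : Prop where
  neg : negQ ∈ M
  ext : ∀ g ∈ commutator (quadIsoms (sq ι F)), Mono g → g ∈ M
  prime : (Nat.card F).Prime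
  two : (2 : F) ≠ 0
  five_le : 5 ≤ Fintype.card ι
  odd : Odd (Fintype.card ι)

/-- the images of the coordinate vectors -/
def lineSet (M : Subgroup (quadIsoms (sq ι F))) : Set (ι → F) :=
  {v | ∃ g ∈ M, ∃ i, g.1 (Pi.single i 1) = v}

theorem single_mem_lineSet (M : Subgroup (quadIsoms (sq ι F))) (i : ι) :
    Pi.single i 1 ∈ lineSet M := ⟨1, one_mem M, i, rfl⟩

theorem lineSet_apply {M : Subgroup (quadIsoms (sq ι F))} {v : ι → F} (hv : v ∈ lineSet M)
    {g : quadIsoms (sq ι F)} (hg : g ∈ M) : g.1 v ∈ lineSet M := by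
  obtain ⟨h, hh, i, rfl⟩ := hv
  exact ⟨g * h, mul_mem hg hh, i, rfl⟩

namespace Frame

variable {M : Subgroup (quadIsoms (sq ι F))} (fr : Frame M)
include fr

theorem five : 5 ≤ Module.finrank F (ι → F) := by
  rw [Module.finrank_fintype_fun_eq_card]
  have := fr.five_le
  omega

theorem finite : Finite F := Nat.finite_of_card_ne_zero fr.prime.ne_zero

theorem sep (x : ι → F) (h : ∀ y, polar (sq ι F) x y = 0) : x = 0 := sq_sep fr.two x h

theorem dot_map (g : quadIsoms (sq ι F)) (x y : ι → F) : g.1 x ⬝ᵥ g.1 y = x ⬝ᵥ y :=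
  isom_dot fr.two g x y

theorem exists_natCast (c : F) : ∃ k : ℕ, (k : F) = c := by
  haveI := fr.finite
  haveI := Fintype.ofFinite F
  haveI : NeZero (Nat.card F) := ⟨fr.prime.ne_zero⟩
  obtain ⟨e, -⟩ : ∃ e : ZMod (Nat.card F) ≃+* F, True :=
    ⟨ZMod.ringEquivOfPrime F fr.prime Nat.card_eq_fintype_card.symm, trivial⟩
  obtain ⟨z, hz⟩ := e.surjective c
  exact ⟨z.val, by rw [← hz, ← map_natCast e, ZMod.natCast_zmod_val]⟩

theorem flip_even (A : Finset ι) (hA : Even A.card) : flipQ A ∈ M := by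
  induction A using Finset.strongInduction with
  | _ A ih =>
    rcases A.eq_empty_or_nonempty with rfl | ⟨i, hi⟩
    · have e : flipQ (F := F) (∅ : Finset ι) = 1 := quadIsoms_ext _ fun x => funext fun l => by simp
      rw [e]
      exact one_mem M
    obtain ⟨j, hj⟩ : (A.erase i).Nonempty := by
      rw [← Finset.card_pos, Finset.card_erase_of_mem hi]
      obtain ⟨k, hk⟩ := hA
      have := Finset.card_pos.2 ⟨i, hi⟩
      omega
    have hji := (Finset.mem_erase.1 hj).1
    have hsub : (A.erase i).erase j ⊂ A :=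
      lt_of_lt_of_le (Finset.erase_ssubset hj) (Finset.erase_subset _ _)
    have hev : Even ((A.erase i).erase j).card := by
      rw [Finset.card_erase_of_mem hj, Finset.card_erase_of_mem hi]
      obtain ⟨k, hk⟩ := hA
      exact ⟨k - 1, by omega⟩
    have e : flipQ (F := F) A = flipQ {i, j} * flipQ ((A.erase i).erase j) := by
      refine quadIsoms_ext _ fun x => funext fun l => ?_
      show (flipQ (F := F) A).1 x l = (flipQ (F := F) {i, j}).1 ((flipQ (F := F) ((A.erase i).erase j)).1 x) l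
      have hA' := (Finset.mem_erase.1 hj).2
      by_cases hli : l = i
      · subst hli; simp [hi]
      by_cases hlj : l = j
      · subst hlj; simp [hA']
      simp [hli, hlj]
    rw [e]
    refine mul_mem (fr.ext _ (flipQ_mem_commutator (Ne.symm hji)) fun l => ⟨l, _, flipQ_single _ _ _⟩)
      (ih _ hsub hev)

theorem flip_mem (A : Finset ι) : flipQ A ∈ M := by
  rcases Nat.even_or_odd A.card with h | h
  · exact fr.flip_even A h
  have hc : Even Aᶜ.card := by
    rw [Finset.card_compl]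
    exact Nat.Odd.sub_odd fr.odd h
  have e : flipQ (F := F) A = negQ * flipQ Aᶜ := by
    refine quadIsoms_ext _ fun x => funext fun l => ?_
    show (flipQ (F := F) A).1 x l = -((flipQ (F := F) Aᶜ).1 x l)
    by_cases hl : l ∈ A <;> simp [hl]
  rw [e]
  exact mul_mem fr.neg (fr.flip_even _ hc)

theorem perm_mem {σ : Equiv.Perm ι} (hσ : Equiv.Perm.sign σ = 1) : permQ σ ∈ M :=
  fr.ext _ (permQ_mem_commutator (by have := fr.five_le; omega) hσ) fun i => ⟨_, _, permQ_single σ i 1⟩

theorem cycle_mem {a b c : ι} (hab : a ≠ b) (hbc : b ≠ c) :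
    permQ (Equiv.swap a b * Equiv.swap b c) ∈ M :=
  fr.perm_mem (by rw [map_mul, Equiv.Perm.sign_swap hab, Equiv.Perm.sign_swap hbc]; rfl)

theorem swaps_mem {a b c d : ι} (hab : a ≠ b) (hcd : c ≠ d) :
    permQ (Equiv.swap a b * Equiv.swap c d) ∈ M :=
  fr.perm_mem (by rw [map_mul, Equiv.Perm.sign_swap hab, Equiv.Perm.sign_swap hcd]; rfl)

theorem line_unit {v : ι → F} (hv : v ∈ lineSet M) : v ⬝ᵥ v = 1 := by
  obtain ⟨g, -, i, rfl⟩ := hv
  rw [fr.dot_map, dotProduct_single, Pi.single_eq_same, mul_one]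

theorem line_neg {v : ι → F} (hv : v ∈ lineSet M) : -v ∈ lineSet M := lineSet_apply hv fr.neg

/-- the reflection at a line lies in `M` -/
theorem exists_refl {v : ι → F} (hv : v ∈ lineSet M) :
    ∃ r ∈ M, r * r = 1 ∧ ∀ z, r.1 z = z - (2 * (v ⬝ᵥ z)) • v := by
  obtain ⟨g, hg, i, rfl⟩ := hv
  refine ⟨g * flipQ {i} * g⁻¹, mul_mem (mul_mem hg (fr.flip_mem _)) (inv_mem hg), ?_, fun z => ?_⟩
  · have e : flipQ (F := F) {i} * flipQ {i} = 1 := quadIsoms_ext _ fun x => flipLin_flipLin {i} x
    calc g * flipQ {i} * g⁻¹ * (g * flipQ {i} * g⁻¹) = g * (flipQ {i} * flipQ {i}) * g⁻¹ := by group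
    _ = 1 := by rw [e, mul_one, mul_inv_cancel]
  · obtain ⟨y, rfl⟩ := g.1.surjective z
    rw [fr.dot_map, single_dotProduct, one_mul]
    show g.1 ((flipQ (F := F) {i}).1 ((g⁻¹).1 (g.1 y))) = _
    rw [show (g⁻¹).1 (g.1 y) = y from g.1.symm_apply_apply y, ← map_smul, ← map_sub]
    congr 1
    funext l
    by_cases hl : l = i
    · subst hl
      simp [two_mul]
    · simp [hl]

theorem inW_smul {u w : ι → F} (hu : sq ι F u = 0) (h : InW M u w) (c : F) : InW M u (c • w) := by
  obtain ⟨k, rfl⟩ := fr.exists_natCast c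
  have h' : k • w ∈ wSub M hu := AddSubgroup.nsmul_mem _ (mem_wSub.2 h) k
  rw [← Nat.cast_smul_eq_nsmul F] at h'
  exact mem_wSub.1 h'

theorem inW_self {u : ι → F} (hu : sq ι F u = 0) : InW M u u := by
  refine ⟨polar_self_of_singular _ hu, ?_⟩
  have h : siegel (sq ι F) u u = 1 := quadIsoms_ext _ fun z => by
    rw [siegel_apply _ hu (polar_self_of_singular _ hu), hu]
    simp
  rw [h]
  exact one_mem M

/-- a linking pair of lines gives a Siegel transformation -/
theorem exists_inW_of_pair {v w : ι → F} (hv : v ∈ lineSet M) (hw : w ∈ lineSet M) (h : v ⬝ᵥ w = 1)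
    (hne : w ≠ v) : ∃ u : ι → F, u ≠ 0 ∧ sq ι F u = 0 ∧ InW M u v := by
  obtain ⟨r, hr, -, hrv⟩ := fr.exists_refl hv
  obtain ⟨s, hs, -, hsw⟩ := fr.exists_refl hw
  have e1 := fr.line_unit hv
  have e2 := fr.line_unit hw
  obtain ⟨u, hu⟩ : ∃ u, u = w - v := ⟨_, rfl⟩
  have hu0 : u ⬝ᵥ u = 0 := by
    rw [hu, sub_dotProduct, dotProduct_sub, dotProduct_sub, dotProduct_comm w v, e1, e2, h]
    ring
  have huv : u ⬝ᵥ v = 0 := by
    rw [hu, sub_dotProduct, dotProduct_comm w v, e1, h, sub_self]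
  refine ⟨u, by rw [hu]; exact sub_ne_zero.2 hne, by rw [sq_apply, hu0],
    by rw [polar_sq, huv, mul_zero], ?_⟩
  have e : siegel (sq ι F) u v = r * s := quadIsoms_ext _ fun z => by
    show _ = r.1 (s.1 z)
    have hw' : w = v + u := by rw [hu]; abel
    rw [siegel_sq_apply hu0 huv, hsw, map_sub, map_smul, hrv, hrv, e1, h, hw', add_dotProduct]
    module
  rw [e]
  exact mul_mem hr hs

end Frame

end CfsgLib.MaxSub.OMono
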