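import Cfsg.Agent.Lib.MaxSub.OMonoShapes
import Cfsg.Agent.Lib.MaxSub.OmegaGen
import Cfsg.Agent.Lib.MaxSub.DecompCoord
import Cfsg.Agent.Lib.MaxSub.OFrameCoord

/-!
Maximality in `Ω` of the stabiliser of an orthogonal frame of lines, prime field, odd dimension at least five.
-/

set_option autoImplicit false
set_option linter.unusedSectionVars false

namespace CfsgLib.MaxSub.OMono

open CfsgLib.Classical CfsgLib.Geom CfsgLib.Geom.OrthSub CfsgLib.MaxSub CfsgLib.MaxSub.OFrame
open QuadraticMap (polar)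
open scoped Matrix commutatorElement

section core

variable {ι F : Type*} [Fintype ι] [DecidableEq ι] [Field F]

/-- the subgroup together with `-1` -/
def withNeg (M : Subgroup (quadIsoms (sq ι F))) : Subgroup (quadIsoms (sq ι F)) where
  carrier := {g | g ∈ M ∨ negQ * g ∈ M}
  one_mem' := Or.inl (one_mem M)
  mul_mem' {a b} ha hb := by
    have hn : negQ * negQ = (1 : quadIsoms (sq ι F)) := quadIsoms_ext _ fun x => neg_neg x
    rcases ha with ha | ha <;> rcases hb with hb | hb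
    · exact Or.inl (mul_mem ha hb)
    · refine Or.inr ?_
      rw [← mul_assoc, ← negQ_comm, mul_assoc]
      exact mul_mem ha hb
    · refine Or.inr ?_
      rw [← mul_assoc]
      exact mul_mem ha hb
    · refine Or.inl ?_
      have e : a * b = negQ * a * (negQ * b) := by
        calc a * b = a * (negQ * negQ) * b := by rw [hn, mul_one]
          _ = (a * negQ) * (negQ * b) := by simp only [mul_assoc]
          _ = _ := by rw [negQ_comm]
      rw [e]
      exact mul_mem ha hb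
  inv_mem' {a} ha := by
    rcases ha with ha | ha
    · exact Or.inl (inv_mem ha)
    · refine Or.inr ?_
      have hn : (negQ : quadIsoms (sq ι F))⁻¹ = negQ :=
        inv_eq_of_mul_eq_one_right (quadIsoms_ext _ fun x => neg_neg x)
      have h := inv_mem ha
      rwa [mul_inv_rev, hn, negQ_comm] at h

theorem commutator_neg_mul (a b : quadIsoms (sq ι F)) : ⁅negQ * a, b⁆ = ⁅a, b⁆ := by
  rw [commutatorElement_def, commutatorElement_def, mul_inv_rev]
  calc negQ * a * b * (a⁻¹ * negQ⁻¹) * b⁻¹ = negQ * (a * b * a⁻¹) * negQ⁻¹ * b⁻¹ := by group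
    _ = (a * b * a⁻¹) * negQ * negQ⁻¹ * b⁻¹ := by rw [← negQ_comm]
    _ = _ := by group

theorem commutator_mul_neg (a b : quadIsoms (sq ι F)) : ⁅a, negQ * b⁆ = ⁅a, b⁆ := by
  rw [← inv_inj, commutatorElement_inv, commutatorElement_inv, commutator_neg_mul]

/-- The monomial group is maximal: abstract form. -/
theorem commutator_le_of_not_mono (hp : (Nat.card F).Prime) (h2 : (2 : F) ≠ 0) (h5 : 5 ≤ Fintype.card ι)
    (hodd : Odd (Fintype.card ι)) (M : Subgroup (quadIsoms (sq ι F)))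
    (hM : ∀ g ∈ commutator (quadIsoms (sq ι F)), Mono g → g ∈ M) {g : quadIsoms (sq ι F)} (hg : g ∈ M)
    (hgm : ¬ Mono g) : commutator (quadIsoms (sq ι F)) ≤ M := by
  have fr : Frame (withNeg M) := by
    refine ⟨Or.inr ?_, fun g hg hm => Or.inl (hM g hg hm), hp, h2, h5, hodd⟩
    rw [show negQ * negQ = (1 : quadIsoms (sq ι F)) from quadIsoms_ext _ fun x => neg_neg x]
    exact one_mem M
  have hle : commutator (quadIsoms (sq ι F)) ≤ withNeg M := by
    by_contra hno
    exact hgm (fr.all_mono (fun v hv w hw h => fr.noLink hno hv hw h) (Or.inl hg))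
  haveI := fr.finite
  have e := commutator_eq_siegelGroup (sq ι F) fr.sep fr.five
  have hperf : commutator (quadIsoms (sq ι F)) ≤
      ⁅commutator (quadIsoms (sq ι F)), commutator (quadIsoms (sq ι F))⁆ := by
    rw [e]
    exact siegelGroup_le_commutator (sq ι F) fr.sep fr.five
  refine hperf.trans ((Subgroup.commutator_mono hle hle).trans (Subgroup.commutator_le.2 ?_))
  rintro a (ha | ha) b (hb | hb)
  · rw [commutatorElement_def]; exact mul_mem (mul_mem (mul_mem ha hb) (inv_mem ha)) (inv_mem hb)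
  · rw [← commutator_mul_neg, commutatorElement_def]
    exact mul_mem (mul_mem (mul_mem ha hb) (inv_mem ha)) (inv_mem hb)
  · rw [← commutator_neg_mul, commutatorElement_def]
    exact mul_mem (mul_mem (mul_mem ha hb) (inv_mem ha)) (inv_mem hb)
  · rw [← commutator_neg_mul, ← commutator_mul_neg, commutatorElement_def]
    exact mul_mem (mul_mem (mul_mem ha hb) (inv_mem ha)) (inv_mem hb)

/-- some element of the commutator subgroup is not monomial -/
theorem exists_not_mono [Finite F] (h2 : (2 : F) ≠ 0) (h5 : 5 ≤ Fintype.card ι) :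
    ∃ g ∈ commutator (quadIsoms (sq ι F)), ¬ Mono g := by
  obtain ⟨a, b, c, d, hab, hac, had, hbc, hbd, hcd⟩ : ∃ a b c d : ι,
      a ≠ b ∧ a ≠ c ∧ a ≠ d ∧ b ≠ c ∧ b ≠ d ∧ c ≠ d := by
    obtain ⟨f⟩ : Nonempty (Fin 4 ↪ ι) := Function.Embedding.nonempty_of_card_le (by simp; omega)
    refine ⟨f 0, f 1, f 2, f 3, ?_, ?_, ?_, ?_, ?_, ?_⟩ <;> exact f.injective.ne (by decide)
  obtain ⟨r₁, r₂, hr⟩ := CfsgLib.Geom.exists_binary_eq h2 (one_ne_zero (α := F)) one_ne_zero (-1 : F)
  obtain ⟨u, hu⟩ : ∃ u : ι → F, u = Pi.single a r₁ + Pi.single b r₂ + Pi.single c 1 := ⟨_, rfl⟩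
  have hu0 : u ⬝ᵥ u = 0 := by
    rw [hu]
    simp [hab, hac, hbc, Ne.symm hab, Ne.symm hac, Ne.symm hbc]
    linear_combination hr
  have hud : u ⬝ᵥ Pi.single d 1 = 0 := by
    rw [hu]
    simp [Ne.symm had, Ne.symm hbd, Ne.symm hcd]
  refine ⟨siegel (sq ι F) u (Pi.single d 1), siegel_mem_commutator (sq_sep h2)
    (by rw [Module.finrank_fintype_fun_eq_card]; omega) _ _, fun hm => ?_⟩
  obtain ⟨j, x, hj⟩ := hm c
  rw [siegel_sq_apply hu0 hud] at hj
  have hc := congrFun hj c
  have hd := congrFun hj d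
  simp [hu, hac, hbc, Ne.symm hac, Ne.symm hbc, hcd, Ne.symm hcd, Ne.symm had, Ne.symm hbd, had, hbd,
    Pi.single_apply] at hc hd
  rcases eq_or_ne c j with rfl | hcj
  · rw [if_neg (Ne.symm hcd)] at hd
    exact h2 hd
  · rw [if_neg hcj] at hc
    exact h2 (by linear_combination (-2 : F) * hc + (0 : F) * hd)

end core

section transfer

variable {κ ι : Type} [Fintype κ] [DecidableEq κ] [Fintype ι] [DecidableEq ι] {F : Type*} [Field F]

/-- transport of isometries along a similitude -/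
def conjHom (Q : QuadraticForm F (κ → F)) (ψ : (κ → F) ≃ₗ[F] (ι → F)) {a : F} (ha : a ≠ 0)
    (hψ : ∀ x, Q x = a * sq ι F (ψ x)) : quadIsoms Q ≃* quadIsoms (sq ι F) where
  toFun g := ⟨(ψ.symm.trans g.1).trans ψ, mem_quadIsoms.2 fun y => by
    apply mul_left_cancel₀ ha
    show a * sq ι F (ψ (g.1 (ψ.symm y))) = _
    rw [← hψ, g.2, hψ, ψ.apply_symm_apply]⟩
  invFun h := ⟨(ψ.trans h.1).trans ψ.symm, mem_quadIsoms.2 fun x => by
    show Q (ψ.symm (h.1 (ψ x))) = Q x
    rw [hψ, ψ.apply_symm_apply, h.2, hψ]⟩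
  left_inv g := quadIsoms_ext _ fun x => by
    show ψ.symm (ψ (g.1 (ψ.symm (ψ x)))) = g.1 x
    simp
  right_inv h := quadIsoms_ext _ fun x => by
    show ψ (ψ.symm (h.1 (ψ (ψ.symm x)))) = h.1 x
    simp
  map_mul' g h := quadIsoms_ext _ fun x => by
    show ψ (g.1 (h.1 (ψ.symm x))) = ψ (g.1 (ψ.symm (ψ (h.1 (ψ.symm x)))))
    rw [ψ.symm_apply_apply]

theorem conjHom_commutator (Q : QuadraticForm F (κ → F)) (ψ : (κ → F) ≃ₗ[F] (ι → F)) {a : F} (ha : a ≠ 0)
    (hψ : ∀ x, Q x = a * sq ι F (ψ x)) :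
    (commutator (quadIsoms Q)).map (conjHom Q ψ ha hψ).toMonoidHom = commutator (quadIsoms (sq ι F)) := by
  rw [commutator_def, Subgroup.map_commutator, Subgroup.map_top_of_surjective _ (conjHom Q ψ ha hψ).surjective,
    commutator_def]

/-- The stabiliser of an orthogonal frame of lines is maximal in `Ω`. -/
theorem isMaximalIn_frame [Fintype F] (Q : QuadraticForm F (κ → F)) {f : (κ → F) → F} (hf : ⇑Q = f)
    (hp : (Fintype.card F).Prime) (h2 : (2 : F) ≠ 0) {t : ℕ} (h5 : 5 ≤ Fintype.card κ)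
    (hodd : Odd (Fintype.card κ)) {D : Fin t → Submodule F (κ → F)}
    (hD : Cfsg.Geo.IsOrthogonalMDecomposition f 1 D) :
    Cfsg.Geo.IsMaximalIn (Cfsg.Geo.omegaGL f) (Cfsg.Geo.decompositionStabilizer D ⊓ Cfsg.Geo.omegaGL f) := by
  classical
  subst hf
  have hdec := hD.decomp.decomp
  obtain ⟨χ, -⟩ := Decomp.exists_coord hdec
  have hcard : t = Fintype.card κ := by
    have h := χ.finrank_eq
    rw [Module.finrank_fintype_fun_eq_card] at h
    rw [h, Module.finrank_pi_fintype]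
    simp
  subst hcard
  obtain ⟨i₀, hi₀⟩ : ∃ i : Fin (Fintype.card κ), i = ⟨0, by omega⟩ := ⟨_, rfl⟩
  obtain ⟨e₀, he₀, he₀0⟩ : ∃ e₀ ∈ D i₀, e₀ ≠ 0 := (D i₀).exists_mem_ne_zero_of_ne_bot (fun h => by
    have := hdec.finrank_eq i₀
    rw [h, finrank_bot] at this
    exact zero_ne_one this)
  have hiso : ∀ i, ∃ e ∈ D i, Q e = Q e₀ ∧ e ≠ 0 := fun i => by
    obtain ⟨φ, hφ⟩ := hD.isometric i₀ i
    refine ⟨φ ⟨e₀, he₀⟩, (φ _).2, hφ _, fun h => he₀0 ?_⟩
    have := (LinearEquiv.map_eq_zero_iff φ).1 (Subtype.ext h : φ ⟨e₀, he₀⟩ = 0)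
    exact congrArg Subtype.val this
  choose e he heQ he0 using hiso
  obtain ⟨a, ha'⟩ : ∃ a, a = Q e₀ := ⟨_, rfl⟩
  have horth : ∀ i j, i ≠ j → polar Q (e i) (e j) = 0 := fun i j hij =>
    hD.decomp.orthogonal i j hij _ (he i) _ (he j)
  have hspan : ∀ i, ∀ x ∈ D i, ∃ c : F, x = c • e i := fun i x hx => by
    obtain ⟨v, hv0, hv⟩ := finrank_eq_one_iff'.1 (hdec.finrank_eq i)
    obtain ⟨c, hc⟩ := hv ⟨e i, he i⟩
    obtain ⟨d, hd⟩ := hv ⟨x, hx⟩
    have hc0 : c ≠ 0 := fun h => he0 i (by rw [h, zero_smul] at hc; exact (congrArg Subtype.val hc).symm)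
    refine ⟨d / c, ?_⟩
    have e1 : c • (v : κ → F) = e i := congrArg Subtype.val hc
    have e2 : d • (v : κ → F) = x := congrArg Subtype.val hd
    rw [← e1, ← e2, smul_smul, div_mul_cancel₀ _ hc0]
  have ha : a ≠ 0 := by
    intro h0
    obtain ⟨-, y, hy, hne⟩ := hD.decomp.nondegenerate i₀ e₀ he₀ he₀0
    obtain ⟨c, rfl⟩ := hspan i₀ y hy
    obtain ⟨d, hd⟩ := hspan i₀ e₀ he₀
    apply hne
    rw [hd, QuadraticMap.polar_smul_left, QuadraticMap.polar_smul_right, polar_self_two, heQ, ← ha', h0]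
    simp
  have hli : LinearIndependent F e := by
    rw [Fintype.linearIndependent_iff]
    intro g hg i
    have h := congrArg (fun x => polar Q (e i) x) hg
    simp only [QuadraticMap.polar_zero_right] at h
    have e1 : polar Q (e i) (∑ j, g j • e j) = ∑ j, g j * polar Q (e i) (e j) := by
      show Q.polarBilin (e i) (∑ j, g j • e j) = _
      simp [map_sum]
    rw [e1, Finset.sum_eq_single i (fun j _ hj => by rw [horth i j (Ne.symm hj), mul_zero]) (by simp),
      polar_self_two, heQ, ← ha', mul_eq_zero] at h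
    exact h.resolve_right (mul_ne_zero h2 ha)
  let b : Module.Basis (Fin (Fintype.card κ)) F (κ → F) :=
    haveI : Nonempty (Fin (Fintype.card κ)) := ⟨i₀⟩
    basisOfLinearIndependentOfCardEqFinrank hli (by rw [Fintype.card_fin, Module.finrank_fintype_fun_eq_card])
  have hb : ∀ i, b i = e i := fun i => by simp [b]
  obtain ⟨ψ, hψdef⟩ : ∃ ψ, ψ = b.equivFun := ⟨_, rfl⟩
  have hψ : ∀ x, Q x = a * sq (Fin (Fintype.card κ)) F (ψ x) := by
    intro x
    apply mul_left_cancel₀ h2
    have e1 : ∀ i, polar Q (e i) x = 2 * a * b.repr x i := fun i => by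
      conv_lhs => rw [← b.sum_repr x]
      show Q.polarBilin (e i) (∑ j, b.repr x j • b j) = _
      rw [map_sum, Finset.sum_eq_single i (fun j _ hj => ?_) (by simp)]
      · rw [map_smul, hb]
        show b.repr x i * polar Q (e i) (e i) = _
        rw [polar_self_two, heQ, ← ha']; ring
      · rw [map_smul, hb]
        show b.repr x j * polar Q (e i) (e j) = _
        rw [horth i j (Ne.symm hj), mul_zero]
    have e2 : polar Q x x = ∑ i, b.repr x i * polar Q (e i) x := by
      conv_lhs => arg 2; rw [← b.sum_repr x]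
      show Q.polarBilin (∑ j, b.repr x j • b j) x = _
      rw [map_sum, LinearMap.sum_apply]
      exact Finset.sum_congr rfl fun j _ => by rw [map_smul, LinearMap.smul_apply, hb]; rfl
    rw [← polar_self_two, e2, sq_apply, dotProduct, Finset.mul_sum, Finset.mul_sum]
    refine Finset.sum_congr rfl fun i _ => ?_
    rw [e1, hψdef, Module.Basis.equivFun_apply]
    ring
  have hψe : ∀ i, ψ.symm (Pi.single i 1) = e i := fun i => by
    rw [hψdef, Module.Basis.equivFun_symm_apply, ← hb]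
    simp [Pi.single_apply]
  obtain ⟨Φ, hΦ⟩ : ∃ Φ, Φ = conjHom Q ψ ha hψ := ⟨_, rfl⟩
  have hΦapp : ∀ (g : quadIsoms Q) y, (Φ g).1 y = ψ (g.1 (ψ.symm y)) := fun g y => by rw [hΦ]; rfl
  have hmono : ∀ g : quadIsoms Q, Mono (Φ g) ↔ Stab D g := by
    intro g
    constructor
    · intro h i
      obtain ⟨j, c, hc⟩ := h i
      refine ⟨j, fun x hx => ?_⟩
      obtain ⟨d, rfl⟩ := hspan i x hx
      rw [hΦapp, hψe] at hc
      have : g.1 (e i) = c • e j := by
        apply ψ.injective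
        rw [hc, map_smul, ← hψe j, ψ.apply_symm_apply, ← Pi.single_smul, smul_eq_mul, mul_one]
      rw [map_smul, this]
      exact Submodule.smul_mem _ _ (Submodule.smul_mem _ _ (he j))
    · intro h i
      obtain ⟨j, hj⟩ := h i
      obtain ⟨c, hc⟩ := hspan j _ (hj _ (he i))
      refine ⟨j, c, ?_⟩
      rw [hΦapp, hψe, hc, map_smul, ← hψe j, ψ.apply_symm_apply, ← Pi.single_smul, smul_eq_mul, mul_one]
  have hcomm : ∀ g : quadIsoms Q, g ∈ commutator (quadIsoms Q) ↔
      Φ g ∈ commutator (quadIsoms (sq (Fin (Fintype.card κ)) F)) := fun g => by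
    rw [← conjHom_commutator Q ψ ha hψ, hΦ]
    exact (Subgroup.mem_map_iff_mem (f := (conjHom Q ψ ha hψ).toMonoidHom) (conjHom Q ψ ha hψ).injective).symm
  have hcardF : (Nat.card F).Prime := by rwa [Nat.card_eq_fintype_card]
  refine omega_isMaximalIn_of Q rfl (Cfsg.Geo.decompositionStabilizer D) ?_ fun M hM g hg _ hgH x hx => ?_
  · obtain ⟨h, hh, hhm⟩ := exists_not_mono (ι := Fin (Fintype.card κ)) (F := F) h2 (by simp; omega)
    obtain ⟨g, rfl⟩ := Φ.surjective h
    exact ⟨g, (hcomm g).2 hh, fun hs => hhm ((hmono g).2 (stab_of_mem_stab hs))⟩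
  · have hle := commutator_le_of_not_mono hcardF h2 (by simpa using h5) (by simpa using hodd)
      (M.map Φ.toMonoidHom) (fun k hk hkm => ?_) (Subgroup.mem_map_of_mem _ hg)
      (fun hm => hgH (mem_stab_of_stab hdec ((hmono g).1 hm)))
    · obtain ⟨y, hy, hyx⟩ := hle ((hcomm x).1 hx)
      rwa [← Φ.injective hyx]
    · obtain ⟨y, rfl⟩ := Φ.surjective k
      exact Subgroup.mem_map_of_mem _ (hM y ((hcomm y).2 hk) (mem_stab_of_stab hdec ((hmono y).1 hkm)))

end transfer

end CfsgLib.MaxSub.OMono
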