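import Cfsg.Agent.Lib.Geom.FiniteField
import Cfsg.Agent.Lib.Geom.SiegelFull

/-!
Rotations of a non-degenerate ternary diagonal form in odd characteristic: axes, unipotent elements, and the
orbit of a unit vector.
-/

set_option autoImplicit false
set_option linter.unusedSectionVars false

namespace CfsgLib.MaxSub.OThree

open scoped Matrix

variable {F : Type*} [Field F]

/-- the diagonal bilinear form -/
def bd (d x y : Fin 3 → F) : F := d 0 * x 0 * y 0 + d 1 * x 1 * y 1 + d 2 * x 2 * y 2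

theorem bd_comm (d x y : Fin 3 → F) : bd d x y = bd d y x := by unfold bd; ring

theorem bd_add (d x y z : Fin 3 → F) : bd d x (y + z) = bd d x y + bd d x z := by
  simp only [bd, Pi.add_apply]; ring

theorem bd_smul (d x y : Fin 3 → F) (c : F) : bd d x (c • y) = c * bd d x y := by
  simp only [bd, Pi.smul_apply, smul_eq_mul]; ring

theorem bd_sub (d x y z : Fin 3 → F) : bd d x (y - z) = bd d x y - bd d x z := by
  simp only [bd, Pi.sub_apply]; ring

theorem bd_add_left (d x y z : Fin 3 → F) : bd d (x + y) z = bd d x z + bd d y z := by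
  simp only [bd, Pi.add_apply]; ring

theorem bd_smul_left (d x y : Fin 3 → F) (c : F) : bd d (c • x) y = c * bd d x y := by
  simp only [bd, Pi.smul_apply, smul_eq_mul]; ring

theorem bd_sub_left (d x y z : Fin 3 → F) : bd d (x - y) z = bd d x z - bd d y z := by
  simp only [bd, Pi.sub_apply]; ring

theorem bd_sep {d : Fin 3 → F} (hd : ∀ a, d a ≠ 0) {x : Fin 3 → F} (h : ∀ y, bd d x y = 0) : x = 0 := by
  funext a
  have h1 := h (Pi.single a 1)
  fin_cases a <;> simpa [bd, hd] using h1

/-- the group of isometries -/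
def iso (d : Fin 3 → F) : Subgroup (GL (Fin 3) F) where
  carrier := {A | ∀ x y, bd d ((A : Matrix (Fin 3) (Fin 3) F) *ᵥ x) ((A : Matrix (Fin 3) (Fin 3) F) *ᵥ y) = bd d x y}
  one_mem' x y := by simp
  mul_mem' {A B} hA hB x y := by
    rw [Units.val_mul, ← Matrix.mulVec_mulVec, ← Matrix.mulVec_mulVec, hA, hB]
  inv_mem' {A} hA x y := by
    rw [← hA]
    simp [Matrix.mulVec_mulVec]

theorem mem_iso {d : Fin 3 → F} {A : GL (Fin 3) F} : A ∈ iso d ↔
    ∀ x y, bd d ((A : Matrix (Fin 3) (Fin 3) F) *ᵥ x) ((A : Matrix (Fin 3) (Fin 3) F) *ᵥ y) = bd d x y :=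
  Iff.rfl

/-- the reflection matrix at a unit vector -/
def reflMat (d v : Fin 3 → F) : Matrix (Fin 3) (Fin 3) F :=
  Matrix.of fun a b => (if a = b then 1 else 0) - 2 * (v a * (d b * v b))

theorem reflMat_mulVec (d v x : Fin 3 → F) : reflMat d v *ᵥ x = x - (2 * bd d v x) • v := by
  funext a
  fin_cases a <;> simp [reflMat, bd, Matrix.mulVec, dotProduct, Fin.sum_univ_three] <;> ring

theorem reflMat_det {d v : Fin 3 → F} (hv : bd d v v = 1) : (reflMat d v).det = -1 := by
  unfold bd at hv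
  rw [Matrix.det_fin_three]
  simp [reflMat]
  linear_combination (-2 : F) * hv

theorem reflMat_mul_self {d v : Fin 3 → F} (hv : bd d v v = 1) : reflMat d v * reflMat d v = 1 := by
  refine Matrix.toLin'.injective (LinearMap.ext fun x => ?_)
  simp only [Matrix.toLin'_apply, Matrix.one_mulVec, ← Matrix.mulVec_mulVec, reflMat_mulVec, bd_sub, bd_smul, hv]
  module

/-- the reflection at a unit vector -/
def refl3 (d v : Fin 3 → F) (hv : bd d v v = 1) : GL (Fin 3) F :=
  ⟨reflMat d v, reflMat d v, reflMat_mul_self hv, reflMat_mul_self hv⟩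

@[simp] theorem refl3_val (d v : Fin 3 → F) (hv : bd d v v = 1) :
    ((refl3 d v hv : GL (Fin 3) F) : Matrix (Fin 3) (Fin 3) F) = reflMat d v := rfl

theorem refl3_mem (d v : Fin 3 → F) (hv : bd d v v = 1) : refl3 d v hv ∈ iso d := fun x y => by
  simp only [refl3_val, reflMat_mulVec, bd_sub, bd_sub_left, bd_smul, bd_smul_left, hv, bd_comm d x v]
  ring

theorem adjugate_poly (A : Matrix (Fin 3) (Fin 3) F) :
    A.adjugate = A * A - A.trace • A + A.adjugate.trace • 1 := by
  ext a b
  simp only [Matrix.sub_apply, Matrix.add_apply, Matrix.smul_apply, Matrix.mul_apply, Fin.sum_univ_three,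
    Matrix.trace_fin_three, Matrix.one_apply, smul_eq_mul]
  rw [Matrix.adjugate_fin_three]
  fin_cases a <;> fin_cases b <;> simp <;> ring

variable {d : Fin 3 → F} (hd : ∀ a, d a ≠ 0)
include hd

theorem cubic {A : GL (Fin 3) F} (hA : A ∈ iso d) (hdet : (A : Matrix (Fin 3) (Fin 3) F).det = 1) :
    let T := (A : Matrix (Fin 3) (Fin 3) F)
    T * T * T - T.trace • (T * T) + T.trace • T = 1 := by
  intro T
  have hT : ∀ a b, d 0 * T 0 a * T 0 b + d 1 * T 1 a * T 1 b + d 2 * T 2 a * T 2 b =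
      if a = b then d a else 0 := fun a b => by
    have h := hA (Pi.single a 1) (Pi.single b 1)
    rw [Matrix.mulVec_single_one, Matrix.mulVec_single_one] at h
    calc _ = bd d (Pi.single a 1) (Pi.single b 1) := h
      _ = _ := by fin_cases a <;> fin_cases b <;> simp [bd]
  have hinv : Matrix.of (fun a b => T b a * d b / d a) * T = 1 := by
    ext a b
    simp only [Matrix.mul_apply, Fin.sum_univ_three, Matrix.of_apply, Matrix.one_apply]
    have hne := hd a
    calc _ = (d 0 * T 0 a * T 0 b + d 1 * T 1 a * T 1 b + d 2 * T 2 a * T 2 b) / d a := by ring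
      _ = _ := by
        rw [hT a b]
        split_ifs with h
        · exact div_self hne
        · exact zero_div _
  have hadj : T.adjugate * T = 1 := by rw [Matrix.adjugate_mul, hdet, one_smul]
  have he : T.adjugate = Matrix.of (fun a b => T b a * d b / d a) := by
    have h2 : T * Matrix.of (fun a b => T b a * d b / d a) = 1 := mul_eq_one_comm.1 hinv
    calc T.adjugate = T.adjugate * (T * Matrix.of (fun a b => T b a * d b / d a)) := by rw [h2, mul_one]
      _ = _ := by rw [← mul_assoc, hadj, one_mul]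
  have htr : T.adjugate.trace = T.trace := by
    rw [he, Matrix.trace_fin_three, Matrix.trace_fin_three]
    simp [hd]
  have h := hadj
  rw [adjugate_poly T, htr, add_mul, sub_mul, smul_mul_assoc, smul_mul_assoc, one_mul] at h
  exact h

variable (h2 : (2 : F) ≠ 0)
include h2

/-- a rotation that is not unipotent has a single anisotropic axis -/
theorem exists_axis {A : GL (Fin 3) F} (hA : A ∈ iso d) (hdet : (A : Matrix (Fin 3) (Fin 3) F).det = 1)
    (ht : (A : Matrix (Fin 3) (Fin 3) F).trace ≠ 3) :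
    ∃ v, bd d v v ≠ 0 ∧ (A : Matrix (Fin 3) (Fin 3) F) *ᵥ v = v ∧
      ∀ w, (A : Matrix (Fin 3) (Fin 3) F) *ᵥ w = w → ∃ c : F, w = c • v := by
  obtain ⟨T, hT⟩ : ∃ T, T = (A : Matrix (Fin 3) (Fin 3) F) := ⟨_, rfl⟩
  have hc := cubic hd hA hdet
  simp only at hc
  rw [← hT] at hc ht
  obtain ⟨t, htdef⟩ : ∃ t, t = T.trace := ⟨_, rfl⟩
  rw [← htdef] at hc ht
  have hk : (3 - t) ≠ 0 := sub_ne_zero.2 (Ne.symm ht)
  obtain ⟨B, hB⟩ : ∃ B, B = T * T - (t - 1) • T + 1 := ⟨_, rfl⟩
  have hTB : T * B = B := by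
    rw [hB, mul_add, mul_sub, mul_smul_comm, mul_one, ← mul_assoc,
      show T * T * T = 1 + t • (T * T) - t • T by rw [← hc]; abel]
    module
  have hBB : B * B = (3 - t) • B := by
    conv_lhs => arg 1; rw [hB]
    rw [add_mul, sub_mul, smul_mul_assoc, one_mul, mul_assoc, hTB, hTB]
    module
  have hTT : (T * T).trace = t * t - 2 * t := by
    have h := congrArg Matrix.trace (adjugate_poly T)
    rw [Matrix.trace_add, Matrix.trace_sub, Matrix.trace_smul, Matrix.trace_smul, Matrix.trace_one,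
      ← htdef, Fintype.card_fin, smul_eq_mul, smul_eq_mul] at h
    have hh : T.adjugate.trace = t := by
      have hi : T.adjugate = T * T - t • T + t • 1 := by
        have h1 : T.adjugate * T = 1 := by rw [Matrix.adjugate_mul, hT, hdet, one_smul]
        have h2' : T * (T * T - t • T + t • 1) = 1 := by
          rw [mul_add, mul_sub, mul_smul_comm, mul_smul_comm, mul_one, ← mul_assoc]
          exact hc
        calc T.adjugate = T.adjugate * (T * (T * T - t • T + t • 1)) := by rw [h2', mul_one]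
          _ = _ := by rw [← mul_assoc, h1, one_mul]
      have h3 := adjugate_poly T
      rw [← htdef] at h3
      rw [h3, sub_add_eq_add_sub, sub_add_eq_add_sub, sub_left_inj, add_right_inj] at hi
      have := congrFun (congrFun hi 0) 0
      simpa using this
    rw [hh] at h
    push_cast at h
    linear_combination -h
  have htrB : B.trace = 3 - t := by
    rw [hB, Matrix.trace_add, Matrix.trace_sub, Matrix.trace_smul, Matrix.trace_one, hTT, ← htdef,
      Fintype.card_fin, smul_eq_mul]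
    push_cast
    ring
  obtain ⟨E, hE⟩ : ∃ E : (Fin 3 → F) →ₗ[F] (Fin 3 → F), E = Matrix.toLin' ((3 - t)⁻¹ • B) := ⟨_, rfl⟩
  have hfix : ∀ w, T *ᵥ w = w → E w = w := fun w hw => by
    rw [hE, Matrix.toLin'_apply, Matrix.smul_mulVec, hB, Matrix.add_mulVec, Matrix.sub_mulVec,
      Matrix.smul_mulVec, ← Matrix.mulVec_mulVec, hw, hw, Matrix.one_mulVec]
    rw [show w - (t - 1) • w + w = (3 - t) • w by module, inv_smul_smul₀ hk]
  have himg : ∀ x, T *ᵥ E x = E x := fun x => by
    rw [hE, Matrix.toLin'_apply, Matrix.mulVec_mulVec, mul_smul_comm, hTB]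
  have hproj : LinearMap.IsProj (LinearMap.range E) E :=
    ⟨fun x => LinearMap.mem_range_self E x, by
      rintro _ ⟨x, rfl⟩
      exact hfix _ (himg x)⟩
  have hrk := hproj.trace
  rw [hE, Matrix.trace_toLin'_eq, Matrix.trace_smul, htrB, smul_eq_mul, inv_mul_cancel₀ hk, ← hE] at hrk
  have hle : Module.finrank F (LinearMap.range E) ≤ 3 := (Submodule.finrank_le _).trans (by simp)
  have h1 : Module.finrank F (LinearMap.range E) = 1 := by
    obtain ⟨r, hr⟩ : ∃ r, r = Module.finrank F (LinearMap.range E) := ⟨_, rfl⟩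
    rw [← hr] at hle hrk ⊢
    interval_cases r
    · simp at hrk
    · rfl
    · exact absurd hrk (by
        intro e
        exact one_ne_zero (α := F) (by push_cast at e; linear_combination -e))
    · exact absurd hrk (by
        intro e
        exact h2 (by push_cast at e; linear_combination -e))
  obtain ⟨v, hv0, hv⟩ := finrank_eq_one_iff'.1 h1
  have hTv : T *ᵥ (v : Fin 3 → F) = v := by
    obtain ⟨x, hx⟩ := v.2
    rw [← hx, himg]
  refine ⟨v, fun hvv => hv0 (Subtype.ext (bd_sep hd fun y => ?_)), by rw [← hT]; exact hTv, fun w hw => ?_⟩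
  · have hz : bd d (v : Fin 3 → F) (E y) = bd d (v : Fin 3 → F) y := by
      have e1 : ∀ z, bd d (v : Fin 3 → F) (T *ᵥ z) = bd d (v : Fin 3 → F) z := fun z => by
        conv_lhs => rw [← hTv]
        rw [hT]
        exact hA _ _
      have hEy : E y = (3 - t)⁻¹ • (B *ᵥ y) := by
        conv_lhs => rw [hE]
        rw [Matrix.toLin'_apply, Matrix.smul_mulVec]
      rw [hEy, hB, Matrix.add_mulVec, Matrix.sub_mulVec,
        Matrix.smul_mulVec, ← Matrix.mulVec_mulVec, Matrix.one_mulVec, bd_smul, bd_add, bd_sub, bd_smul,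
        e1, e1]
      field_simp
      ring
    obtain ⟨c, hc'⟩ := hv ⟨E y, LinearMap.mem_range_self E y⟩
    have hc2 : c • (v : Fin 3 → F) = E y := congrArg Subtype.val hc'
    rw [← hz, ← hc2, bd_smul, hvv, mul_zero]
  · rw [← hT] at hw
    obtain ⟨c, hc'⟩ := hv ⟨w, w, hfix w hw⟩
    exact ⟨c, (congrArg Subtype.val hc').symm⟩

theorem indep_of_gram {e f w : Fin 3 → F} {q : F} (hq : q ≠ 0) (hee : bd d e e = 0) (hff : bd d f f = 0)
    (hew : bd d e w = 0) (hfw : bd d f w = 0) (hww : bd d w w = q) (hef : bd d e f = -q) (x : Fin 3 → F) :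
    x = (-(bd d f x) / q) • e + (-(bd d e x) / q) • f + (bd d w x / q) • w := by
  have hfe : bd d f e = -q := by rw [bd_comm, hef]
  have hwe : bd d w e = 0 := by rw [bd_comm, hew]
  have hwf : bd d w f = 0 := by rw [bd_comm, hfw]
  have hli : LinearIndependent F ![e, f, w] := by
    rw [Fintype.linearIndependent_iff]
    intro g hg
    rw [Fin.sum_univ_three] at hg
    simp only [Matrix.cons_val_zero, Matrix.cons_val_one, Matrix.cons_val] at hg
    have a1 := congrArg (bd d e) hg
    have a2 := congrArg (bd d f) hg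
    have a3 := congrArg (bd d w) hg
    have z : ∀ y, bd d y (0 : Fin 3 → F) = 0 := fun y => by simp [bd]
    simp only [bd_add, bd_smul, hee, hef, hew, hff, hfe, hfw, hww, hwe, hwf, z, mul_zero, add_zero, zero_add,
      mul_neg, neg_eq_zero, mul_eq_zero, hq, or_false] at a1 a2 a3
    intro i
    fin_cases i
    exacts [a2, a1, a3]
  have htop := hli.span_eq_top_of_card_eq_finrank (by simp)
  obtain ⟨r, hr⟩ : ∃ r, r = x - ((-(bd d f x) / q) • e + (-(bd d e x) / q) • f + (bd d w x / q) • w) := ⟨_, rfl⟩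
  have hre : bd d e r = 0 := by
    rw [hr, bd_sub, bd_add, bd_add, bd_smul, bd_smul, bd_smul, hee, hef, hew]; field_simp; ring
  have hrf : bd d f r = 0 := by
    rw [hr, bd_sub, bd_add, bd_add, bd_smul, bd_smul, bd_smul, hfe, hff, hfw]; field_simp; ring
  have hrw : bd d w r = 0 := by
    rw [hr, bd_sub, bd_add, bd_add, bd_smul, bd_smul, bd_smul, hwe, hwf, hww]; field_simp; ring
  refine sub_eq_zero.1 (hr ▸ bd_sep hd fun y => ?_)
  obtain ⟨c, hc⟩ := (Submodule.mem_span_range_iff_exists_fun F).1 (htop.ge (Submodule.mem_top (x := y)))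
  rw [Fin.sum_univ_three] at hc
  simp only [Matrix.cons_val_zero, Matrix.cons_val_one, Matrix.cons_val] at hc
  rw [← hc, bd_add, bd_add, bd_smul, bd_smul, bd_smul, bd_comm d r e, bd_comm d r f, bd_comm d r w, hre, hrf,
    hrw]
  ring

/-- a non-trivial rotation of trace three -/
theorem unipotent_frame {A : GL (Fin 3) F} (hA : A ∈ iso d)
    (hdet : (A : Matrix (Fin 3) (Fin 3) F).det = 1) (ht : (A : Matrix (Fin 3) (Fin 3) F).trace = 3)
    (hne : A ≠ 1) :
    ∃ e f w : Fin 3 → F, ∃ q : F, q ≠ 0 ∧ bd d e e = 0 ∧ bd d f f = 0 ∧ bd d e w = 0 ∧ bd d f w = 0 ∧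
      bd d w w = q ∧ bd d e f = -q ∧ (A : Matrix (Fin 3) (Fin 3) F) *ᵥ e = e ∧
      (A : Matrix (Fin 3) (Fin 3) F) *ᵥ w = w + e ∧
      (A : Matrix (Fin 3) (Fin 3) F) *ᵥ f = f + w + (2 : F)⁻¹ • e := by
  obtain ⟨T, hT⟩ : ∃ T, T = (A : Matrix (Fin 3) (Fin 3) F) := ⟨_, rfl⟩
  have hc := cubic hd hA hdet
  simp only at hc
  rw [← hT] at hc ht
  rw [ht] at hc
  obtain ⟨N, hN⟩ : ∃ N : (Fin 3 → F) →ₗ[F] (Fin 3 → F), N = Matrix.toLin' T - LinearMap.id := ⟨_, rfl⟩
  have hNapp : ∀ x, T *ᵥ x = x + N x := fun x => by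
    rw [hN, LinearMap.sub_apply, Matrix.toLin'_apply, LinearMap.id_apply]; abel
  have hN3 : ∀ x, N (N (N x)) = 0 := fun x => by
    have h := congrArg (fun S : Matrix (Fin 3) (Fin 3) F => S *ᵥ x) hc
    simp only [Matrix.add_mulVec, Matrix.sub_mulVec, Matrix.smul_mulVec, ← Matrix.mulVec_mulVec,
      Matrix.one_mulVec, hNapp, map_add] at h
    rw [← sub_eq_zero] at h
    rw [← h]
    module
  have hiso : ∀ x y, bd d (N x) y + bd d x (N y) + bd d (N x) (N y) = 0 := fun x y => by
    have h := hA x y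
    rw [← hT, hNapp, hNapp, bd_add, bd_add_left, bd_add_left] at h
    linear_combination h
  obtain ⟨z, hz⟩ : ∃ z, N (N z) ≠ 0 := by
    by_contra hh
    push Not at hh
    have z0 : ∀ y : Fin 3 → F, bd d y 0 = 0 := fun y => by simp [bd]
    have hts : ∀ x y, bd d (N x) (N y) = 0 := fun x y => by
      have h := hiso x (N y)
      rw [hh y, z0, z0] at h
      linear_combination h
    obtain ⟨z, hz⟩ : ∃ z, N z ≠ 0 := by
      by_contra hh'
      push Not at hh'
      refine hne (Units.ext (Matrix.toLin'.injective (LinearMap.ext fun x => ?_)))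
      rw [Matrix.toLin'_apply, ← hT, hNapp, hh' x, add_zero]
      simp
    obtain ⟨y, hy⟩ : ∃ y, bd d (N z) y ≠ 0 := by
      by_contra hh'
      push Not at hh'
      exact hz (bd_sep hd hh')
    -- `N y` and `N z` span a totally singular subspace
    have hdim : Module.finrank F (LinearMap.range N) ≤ 1 := by
      obtain ⟨Qd, hQd⟩ : ∃ Qd : QuadraticForm F (Fin 3 → F), ∀ x, Qd x = bd d x x :=
        ⟨QuadraticMap.weightedSumSquares F d, fun x => by simp [bd, Fin.sum_univ_three]; ring⟩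
      have hpol : ∀ x y, QuadraticMap.polar Qd x y = 2 * bd d x y := fun x y => by
        rw [QuadraticMap.polar, hQd, hQd, hQd, bd_add, bd_add_left, bd_add_left, bd_comm d y x]
        ring
      have h := CfsgLib.Geom.OrthSub.totallySingular_finrank (Q := Qd)
        (fun x hx => bd_sep hd fun y => by simpa [hpol, h2] using hx y)
        (R := LinearMap.range N) (by rintro _ ⟨x, rfl⟩; rw [hQd, hts])
      rw [Module.finrank_fintype_fun_eq_card, Fintype.card_fin] at h
      omega
    obtain ⟨c, hc'⟩ : ∃ c : F, c • N z = N y := by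
      have hle : Submodule.span F {N z} ≤ LinearMap.range N :=
        (Submodule.span_singleton_le_iff_mem _ _).2 ⟨z, rfl⟩
      have he := Submodule.eq_of_le_of_finrank_le hle (by rw [finrank_span_singleton hz]; exact hdim)
      exact Submodule.mem_span_singleton.1 (he.ge ⟨y, rfl⟩)
    have e1 := hiso z y
    have e2 := hiso z z
    rw [← hc', bd_smul, bd_smul, hts] at e1
    rw [hts, bd_comm d z (N z)] at e2
    have e3 : bd d (N z) z = 0 := by
      have : 2 * bd d (N z) z = 0 := by linear_combination e2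
      exact (mul_eq_zero.1 this).resolve_left h2
    rw [bd_comm d z (N z), e3] at e1
    exact hy (by linear_combination e1)
  obtain ⟨e, he⟩ : ∃ e, e = N (N z) := ⟨_, rfl⟩
  obtain ⟨w, hw⟩ : ∃ w, w = N z := ⟨_, rfl⟩
  have hNw : N w = e := by rw [hw, he]
  have hNe : N e = 0 := by rw [he]; exact hN3 z
  have hNz : N z = w := hw.symm
  have z0 : ∀ y : Fin 3 → F, bd d y 0 = 0 := fun y => by simp [bd]
  have z0' : ∀ y : Fin 3 → F, bd d 0 y = 0 := fun y => by simp [bd]
  have hperp : ∀ x, bd d e (N x) = 0 := fun x => by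
    have h := hiso e x
    rw [hNe, z0', z0'] at h
    linear_combination h
  have hee : bd d e e = 0 := by
    have h := hperp w
    rwa [hNw] at h
  have hew : bd d e w = 0 := by rw [← hNz]; exact hperp z
  obtain ⟨q, hq⟩ : ∃ q, q = bd d w w := ⟨_, rfl⟩
  have hq0 : q ≠ 0 := by
    intro q0
    obtain ⟨Qd, hQd⟩ : ∃ Qd : QuadraticForm F (Fin 3 → F), ∀ x, Qd x = bd d x x :=
      ⟨QuadraticMap.weightedSumSquares F d, fun x => by simp [bd, Fin.sum_univ_three]; ring⟩
    have hpol : ∀ x y, QuadraticMap.polar Qd x y = 2 * bd d x y := fun x y => by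
      rw [QuadraticMap.polar, hQd, hQd, hQd, bd_add, bd_add_left, bd_add_left, bd_comm d y x]
      ring
    have h := CfsgLib.Geom.OrthSub.totallySingular_finrank (Q := Qd)
      (fun x hx => bd_sep hd fun y => by simpa [hpol, h2] using hx y)
      (R := Submodule.span F {w, e}) (by
        intro x hx
        obtain ⟨a, b, rfl⟩ := Submodule.mem_span_pair.1 hx
        rw [hQd, bd_add, bd_add_left, bd_add_left, bd_smul_left, bd_smul_left, bd_smul_left, bd_smul_left,
          bd_smul, bd_smul, bd_smul, bd_smul, bd_comm d w e, hee, hew, ← hq, q0]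
        ring)
    have hli : LinearIndependent F ![w, e] := by
      rw [LinearIndependent.pair_iff]
      intro a b hab
      have h1 := congrArg N hab
      rw [map_add, map_smul, map_smul, hNw, hNe, smul_zero, add_zero, map_zero] at h1
      have he0 : e ≠ 0 := he ▸ hz
      have a0 : a = 0 := (smul_eq_zero.1 h1).resolve_right he0
      rw [a0, zero_smul, zero_add] at hab
      exact ⟨a0, (smul_eq_zero.1 hab).resolve_right he0⟩
    have h' := finrank_span_eq_card hli
    rw [Matrix.range_cons, Matrix.range_cons, Matrix.range_empty, Set.union_empty,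
      Set.singleton_union, Fintype.card_fin] at h'
    rw [Module.finrank_fintype_fun_eq_card, Fintype.card_fin, h'] at h
    omega
  have hwz : bd d w z = -(q / 2) := by
    have h := hiso z z
    rw [hNz, bd_comm d z w, ← hq] at h
    field_simp
    linear_combination h
  have hez : bd d e z = -q := by
    have h := hiso w z
    rw [hNz, hNw, hew, ← hq] at h
    linear_combination h
  obtain ⟨b, hb⟩ : ∃ b, b = (bd d z z - q / 4) / (2 * q) := ⟨_, rfl⟩
  have h4 : (4 : F) ≠ 0 := by
    rw [show (4 : F) = 2 * 2 by norm_num]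
    exact mul_ne_zero h2 h2
  refine ⟨e, z + (2 : F)⁻¹ • w + b • e, w, q, hq0, hee, ?_, hew, ?_, hq.symm, ?_, ?_, ?_, ?_⟩
  · simp only [bd_add, bd_add_left, bd_smul, bd_smul_left, hee, hew, bd_comm d w e, bd_comm d z e, hez,
      bd_comm d z w, hwz, ← hq, hb]
    field_simp
    ring
  · simp only [bd_add_left, bd_smul_left, hew, bd_comm d z w, hwz, ← hq]
    field_simp
    ring
  · simp only [bd_add, bd_smul, hee, hew, hez]
    ring
  · rw [← hT, hNapp, hNe, add_zero]
  · rw [← hT, hNapp, hNw]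
  · rw [← hT, hNapp, map_add, map_add, map_smul, map_smul, hNz, hNw, hNe]
    module

/-- With a unipotent rotation in a group without linked pairs, every unit vector is a line, and linear
functionals take the value one at units. -/
theorem units_of_unipotent (hcast : ∀ c : F, ∃ k : ℕ, (k : F) = c) [Finite F]
    {L : Set (Fin 3 → F)} (hunit : ∀ v ∈ L, bd d v v = 1)
    (hlink : ∀ v ∈ L, ∀ w ∈ L, bd d v w = 1 → v = w) {A : GL (Fin 3) F} (hA : A ∈ iso d)
    (hdet : (A : Matrix (Fin 3) (Fin 3) F).det = 1) (ht : (A : Matrix (Fin 3) (Fin 3) F).trace = 3)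
    (hne : A ≠ 1) (hAL : ∀ v ∈ L, (A : Matrix (Fin 3) (Fin 3) F) *ᵥ v ∈ L)
    (hrefl : ∀ x ∈ L, ∀ v ∈ L, reflMat d x *ᵥ v ∈ L)
    (hspan : ∀ e : Fin 3 → F, (∀ x ∈ L, bd d e x = 0) → e = 0) :
    (∀ v, bd d v v = 1 → v ∈ L) ∧ ∀ a : Fin 3 → F, a ≠ 0 → ∃ v, bd d v v = 1 ∧ bd d a v = 1 := by
  obtain ⟨e, f₀, w₀, q, hq, hee, hff₀, hew₀, hfw₀, hww₀, hef₀, hAe, hAw₀, hAf₀⟩ :=
    unipotent_frame hd h2 hA hdet ht hne
  have he0 : e ≠ 0 := fun h => hq (neg_eq_zero.1 (by rw [← hef₀, h]; simp [bd]))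
  obtain ⟨x, hxL, hxe⟩ : ∃ x ∈ L, bd d e x ≠ 0 := by
    by_contra hh
    push Not at hh
    exact he0 (hspan e hh)
  have hxx := hunit x hxL
  obtain ⟨s, hs⟩ : ∃ s, s = reflMat d x *ᵥ e := ⟨_, rfl⟩
  have hre := refl3_mem d x hxx
  have hss : bd d s s = 0 := by
    have h := hre e e
    rw [refl3_val, ← hs] at h
    rw [h, hee]
  obtain ⟨βs, hβs⟩ : ∃ b, b = -(bd d e s) / q := ⟨_, rfl⟩
  have hβ0 : βs ≠ 0 := by
    rw [hβs, hs, reflMat_mulVec, bd_sub, bd_smul, hee, bd_comm d x e]
    refine div_ne_zero (neg_ne_zero.2 ?_) hq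
    rw [zero_sub, neg_ne_zero]
    exact mul_ne_zero (mul_ne_zero h2 hxe) hxe
  obtain ⟨c, hc⟩ : ∃ c, c = (bd d w₀ s / q) / βs := ⟨_, rfl⟩
  obtain ⟨f, hf⟩ : ∃ f, f = f₀ + c • w₀ + (c * c / 2) • e := ⟨_, rfl⟩
  obtain ⟨w, hw⟩ : ∃ w, w = w₀ + c • e := ⟨_, rfl⟩
  have hwe₀ : bd d w₀ e = 0 := by rw [bd_comm, hew₀]
  have hwf₀ : bd d w₀ f₀ = 0 := by rw [bd_comm, hfw₀]
  have hfe₀ : bd d f₀ e = -q := by rw [bd_comm, hef₀]
  have hff : bd d f f = 0 := by
    simp only [hf, bd_add, bd_add_left, bd_smul, bd_smul_left, hee, hff₀, hew₀, hfw₀, hww₀, hef₀, hwe₀, hwf₀, hfe₀]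
    field_simp; ring
  have hfw : bd d f w = 0 := by
    simp only [hf, hw, bd_add, bd_add_left, bd_smul, bd_smul_left, hee, hew₀, hfw₀, hww₀, hwe₀, hfe₀]
    ring
  have hef : bd d e f = -q := by
    simp only [hf, bd_add, bd_smul, hee, hew₀, hef₀]; ring
  have hew : bd d e w = 0 := by simp only [hw, bd_add, bd_smul, hee, hew₀]; ring
  have hww : bd d w w = q := by
    simp only [hw, bd_add, bd_add_left, bd_smul, bd_smul_left, hee, hew₀, hww₀, hwe₀]; ring
  have hAw : (A : Matrix (Fin 3) (Fin 3) F) *ᵥ w = w + e := by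
    rw [hw, Matrix.mulVec_add, Matrix.mulVec_smul, hAw₀, hAe]; module
  have hAf : (A : Matrix (Fin 3) (Fin 3) F) *ᵥ f = f + w + (2 : F)⁻¹ • e := by
    rw [hf, hw, Matrix.mulVec_add, Matrix.mulVec_add, Matrix.mulVec_smul, Matrix.mulVec_smul, hAw₀, hAe, hAf₀]
    module
  -- coordinates
  obtain ⟨mk, hmk⟩ : ∃ mk : F → F → F → (Fin 3 → F), ∀ a b g, mk a b g = a • e + b • f + g • w :=
    ⟨fun a b g => a • e + b • f + g • w, fun _ _ _ => rfl⟩
  have hco : ∀ v, ∃ a b g, v = mk a b g := fun v =>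
    ⟨_, _, _, (indep_of_gram hd h2 hq hee hff hew hfw hww hef v).trans (hmk _ _ _).symm⟩
  have hbd : ∀ a b g a' b' g', bd d (mk a b g) (mk a' b' g') = q * (g * g' - a * b' - a' * b) := by
    intro a b g a' b' g'
    simp only [hmk, bd_add, bd_add_left, bd_smul, bd_smul_left, hee, hff, hew, hfw, hww, hef,
      bd_comm d f e, bd_comm d w e, bd_comm d w f]
    ring
  have hAmk : ∀ a b g, (A : Matrix (Fin 3) (Fin 3) F) *ᵥ mk a b g = mk (a + b / 2 + g) b (g + b) := by
    intro a b g
    simp only [hmk, Matrix.mulVec_add, Matrix.mulVec_smul, hAe, hAw, hAf, div_eq_mul_inv]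
    module
  have hiter : ∀ k : ℕ, ∀ a b g, mk a b g ∈ L → mk (a + (k : F) * g + b * ((k : F) * k) / 2) b (g + (k : F) * b) ∈ L := by
    intro k
    induction k with
    | zero => intro a b g h; simpa using h
    | succ k ih =>
      intro a b g h
      have h1 := hAL _ (ih a b g h)
      rw [hAmk] at h1
      convert h1 using 2 <;> (push_cast; field_simp; ring)
  have hshift : ∀ a b g a' g', b ≠ 0 → mk a b g ∈ L → bd d (mk a' b g') (mk a' b g') = 1 → mk a' b g' ∈ L := by
    intro a b g a' g' hb h h'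
    obtain ⟨k, hk⟩ := hcast ((g' - g) / b)
    have h1 := hiter k a b g h
    have hu := hunit _ h1
    rw [hk, div_mul_cancel₀ _ hb, add_sub_cancel] at h1 hu
    rw [hbd] at hu h'
    obtain ⟨a'', ha''⟩ : ∃ a'', a'' = a + (g' - g) / b * g + b * ((g' - g) / b * ((g' - g) / b)) / 2 := ⟨_, rfl⟩
    rw [← ha''] at h1 hu
    have : (a'' - a') * (2 * q * b) = 0 := by linear_combination h' - hu
    rcases mul_eq_zero.1 this with h3 | h3
    · rwa [← sub_eq_zero.1 h3]
    · exact absurd h3 (mul_ne_zero (mul_ne_zero h2 hq) hb)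
  have hRe : reflMat d x *ᵥ e = βs • f := by
    rw [← hs]
    have hsdec := indep_of_gram hd h2 hq hee hff hew hfw hww hef s
    have hes : bd d e s = -(βs * q) := by rw [hβs, div_mul_cancel₀ _ hq, neg_neg]
    have hws : bd d w s = 0 := by
      rw [hw, bd_add_left, bd_smul_left, hes, hc]
      field_simp
      ring
    have hfs : bd d f s = 0 := by
      have h := hss
      conv_lhs at h => arg 2; rw [hsdec]
      rw [bd_add_left, bd_add_left, bd_smul_left, bd_smul_left, bd_smul_left, hes, hws] at h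
      have h' : (2 * βs) * bd d f s = 0 := by rw [← h]; field_simp; ring
      exact (mul_eq_zero.1 h').resolve_left (mul_ne_zero h2 hβ0)
    rw [hsdec, hfs, hws, hes]
    field_simp
    simp
  have hRR : ∀ v, reflMat d x *ᵥ (reflMat d x *ᵥ v) = v := fun v => by
    rw [Matrix.mulVec_mulVec, reflMat_mul_self hxx, Matrix.one_mulVec]
  have hRf : reflMat d x *ᵥ f = βs⁻¹ • e := by
    have h := congrArg (fun v => reflMat d x *ᵥ v) hRe
    simp only [hRR, Matrix.mulVec_smul] at h
    rw [h, smul_smul, inv_mul_cancel₀ hβ0, one_smul]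
  obtain ⟨ρ, hρ0, hρ⟩ : ∃ ρ : F, ρ ≠ 0 ∧ reflMat d x *ᵥ w = ρ • w := by
    refine ⟨bd d w (reflMat d x *ᵥ w) / q, ?_, ?_⟩
    · intro h0
      have hdec := indep_of_gram hd h2 hq hee hff hew hfw hww hef (reflMat d x *ᵥ w)
      have e1 : bd d f (reflMat d x *ᵥ w) = 0 := by
        have h := hre e w
        rw [refl3_val, hRe, bd_smul_left, hew] at h
        exact (mul_eq_zero.1 h).resolve_left hβ0
      have e2 : bd d e (reflMat d x *ᵥ w) = 0 := by
        have h := hre f w
        rw [refl3_val, hRf, bd_smul_left, hfw] at h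
        exact (mul_eq_zero.1 h).resolve_left (inv_ne_zero hβ0)
      rw [h0, e1, e2] at hdec
      simp only [neg_zero, zero_div, zero_smul, add_zero] at hdec
      have := hRR w
      rw [hdec, Matrix.mulVec_zero] at this
      exact hq (by rw [← hww, ← this]; simp [bd])
    · have e1 : bd d f (reflMat d x *ᵥ w) = 0 := by
        have h := hre e w
        rw [refl3_val, hRe, bd_smul_left, hew] at h
        exact (mul_eq_zero.1 h).resolve_left hβ0
      have e2 : bd d e (reflMat d x *ᵥ w) = 0 := by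
        have h := hre f w
        rw [refl3_val, hRf, bd_smul_left, hfw] at h
        exact (mul_eq_zero.1 h).resolve_left (inv_ne_zero hβ0)
      conv_lhs => rw [indep_of_gram hd h2 hq hee hff hew hfw hww hef (reflMat d x *ᵥ w), e1, e2]
      simp
  have hRmk : ∀ a b g, reflMat d x *ᵥ mk a b g = mk (b / βs) (a * βs) (ρ * g) := by
    intro a b g
    simp only [hmk, Matrix.mulVec_add, Matrix.mulVec_smul, hRe, hRf, hρ, div_eq_mul_inv]
    module
  have hRL : ∀ a b g, mk a b g ∈ L → mk (b / βs) (a * βs) (ρ * g) ∈ L := fun a b g h => by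
    rw [← hRmk]; exact hrefl x hxL _ h
  obtain ⟨a₀, b₀, g₀, hx⟩ := hco x
  have hb₀ : b₀ ≠ 0 := by
    intro h
    refine hxe ?_
    rw [hx, hmk, bd_add, bd_add, bd_smul, bd_smul, bd_smul, hee, hew, h]
    ring
  rw [hx] at hxL
  have hns : ∀ δ : F, δ * δ * q ≠ 1 := by
    intro δ hδ
    have h1 := hshift a₀ b₀ g₀ 0 δ hb₀ hxL (by rw [hbd]; linear_combination hδ)
    have h2' := hRL _ _ _ h1
    rw [zero_mul] at h2'
    have hρδ : ρ * δ ≠ 0 := mul_ne_zero hρ0 (fun h => by rw [h] at hδ; simp at hδ)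
    obtain ⟨k, hk⟩ := hcast (-(b₀ / βs) / (ρ * δ))
    have h3 := hiter k _ _ _ h2'
    rw [hk, div_mul_cancel₀ _ hρδ, mul_zero, add_zero, zero_mul, zero_div, add_zero, add_neg_cancel] at h3
    have h4 := hAL _ h3
    rw [hAmk, zero_div, add_zero, zero_add, add_zero] at h4
    have hu := hunit _ h3
    have := hlink _ h3 _ h4 (by rw [hbd] at hu ⊢; linear_combination hu)
    have he := congrArg (bd d f) this
    simp only [hmk, bd_add, bd_smul, bd_comm d f e, hef, hff, hfw] at he
    exact hρδ (mul_left_cancel₀ hq (by linear_combination he))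
  have hb : ∀ a b g, bd d (mk a b g) (mk a b g) = 1 → a ≠ 0 ∧ b ≠ 0 := by
    intro a b g h
    rw [hbd] at h
    exact ⟨fun h0 => hns g (by rw [h0] at h; linear_combination h),
      fun h0 => hns g (by rw [h0] at h; linear_combination h)⟩
  constructor
  · intro v hv
    obtain ⟨a, b, g, rfl⟩ := hco v
    obtain ⟨ha, hb'⟩ := hb _ _ _ hv
    obtain ⟨g₂, g₁, hg⟩ := CfsgLib.Geom.exists_binary_eq h2 (mul_ne_zero hq hb₀)
      (neg_ne_zero.2 (mul_ne_zero hq hb')) (b₀ - b)
    obtain ⟨α, hα⟩ : ∃ α, α = (q * g₁ * g₁ - 1) / (2 * q * b₀) := ⟨_, rfl⟩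
    have hαe : α * (2 * q * b₀) = q * g₁ * g₁ - 1 := by
      rw [hα, div_mul_cancel₀ _ (mul_ne_zero (mul_ne_zero h2 hq) hb₀)]
    have hu1 : bd d (mk α b₀ g₁) (mk α b₀ g₁) = 1 := by rw [hbd]; linear_combination -hαe
    have hu2 : bd d (mk α b g₂) (mk α b g₂) = 1 := by
      rw [hbd]
      refine mul_left_cancel₀ hb₀ ?_
      linear_combination hg - b * hαe
    have hα0 := (hb _ _ _ hu1).1
    have h1 := hRL _ _ _ (hshift a₀ b₀ g₀ α g₁ hb₀ hxL hu1)
    have hu2' : bd d (mk (b / βs) (α * βs) (ρ * g₂)) (mk (b / βs) (α * βs) (ρ * g₂)) = 1 := by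
      rw [← hRmk, ← refl3_val d x hxx, hre]; exact hu2
    have h2' := hrefl x (hx ▸ hxL) _ (hshift _ _ _ _ _ (mul_ne_zero hα0 hβ0) h1 hu2')
    rw [← hRmk α b g₂, hRR] at h2'
    exact hshift α b g₂ a g hb' h2' hv
  · intro a ha
    obtain ⟨a₁, a₂, a₃, rfl⟩ := hco a
    suffices ∃ α β γ, q * (γ * γ - 2 * (α * β)) = 1 ∧ q * (a₃ * γ - a₁ * β - α * a₂) = 1 by
      obtain ⟨α, β, γ, h1, h3⟩ := this
      exact ⟨mk α β γ, by rw [hbd]; linear_combination h1, by rw [hbd]; linear_combination h3⟩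
    by_cases h₂ : a₂ = 0
    · by_cases h₁ : a₁ = 0
      · have h₃ : a₃ ≠ 0 := by
          intro h
          exact ha (by rw [hmk, h, h₁, h₂]; simp)
        refine ⟨(q * ((q * a₃)⁻¹ * (q * a₃)⁻¹) - 1) / (2 * q), 1, (q * a₃)⁻¹, ?_, ?_⟩
        · field_simp; ring
        · rw [h₁, h₂]; field_simp; ring
      · refine ⟨a₁ / 2, -(q * a₁)⁻¹, 0, ?_, ?_⟩
        · field_simp; ring
        · rw [h₂]; field_simp; ring
    · by_cases h₁ : a₁ = 0
      · refine ⟨-(q * a₂)⁻¹, a₂ / 2, 0, ?_, ?_⟩
        · field_simp; ring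
        · rw [h₁]; field_simp; ring
      · -- substitute `α`
        suffices ∃ β γ, q * a₂ * (γ * γ) - 2 * β * (q * (a₃ * γ) - q * (a₁ * β) - 1) - a₂ = 0 by
          obtain ⟨β, γ, h⟩ := this
          refine ⟨(q * (a₃ * γ) - q * (a₁ * β) - 1) / (q * a₂), β, γ, ?_, ?_⟩
          · field_simp
            linear_combination h
          · field_simp
            ring
        obtain ⟨B, hB⟩ : ∃ B, B = q * a₂ - q * a₃ * a₃ / (2 * a₁) := ⟨_, rfl⟩
        by_cases hB0 : B = 0
        · have ha3 : a₃ ≠ 0 := by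
            intro h
            rw [hB, h] at hB0
            simp [hq, h₂] at hB0
          refine ⟨a₃ * (a₁ * a₂ / a₃) / (2 * a₁), a₁ * a₂ / a₃, ?_⟩
          rw [hB] at hB0
          field_simp at hB0 ⊢
          linear_combination (a₁ * a₂ * a₂) * hB0
        · haveI := Fintype.ofFinite F
          have hodd : Fintype.card F % 2 = 1 :=
            FiniteField.odd_card_of_char_ne_two (CfsgLib.Geom.ringChar_ne_two_of_ne h2)
          open Polynomial in
          obtain ⟨X₀, γ, hX⟩ := FiniteField.exists_root_sum_quadratic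
            (f := C (2 * q * a₁) * X ^ 2 + C 2 * X + C (-a₂)) (g := C B * X ^ 2 + C (a₃ / a₁) * X + C 0)
            (degree_quadratic (mul_ne_zero (mul_ne_zero h2 hq) h₁)) (degree_quadratic hB0)
            hodd
          simp only [Polynomial.eval_add, Polynomial.eval_mul, Polynomial.eval_C, Polynomial.eval_pow,
            Polynomial.eval_X, hB] at hX
          refine ⟨X₀ + a₃ * γ / (2 * a₁), γ, ?_⟩
          field_simp at hX ⊢
          linear_combination hX

end CfsgLib.MaxSub.OThree
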