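import Cfsg.Agent.Lib.MaxSub.OMonoSiegel
import Cfsg.Agent.Lib.MaxSub.OMonoThree
import Cfsg.Agent.Lib.MaxSub.OMonoCount

/-!
Overgroups of the monomial group of the sum of squares without linked pairs: three lines spanning more than a
plane force small orders of the products of reflections.
-/

set_option autoImplicit false
set_option linter.unusedSectionVars false

namespace CfsgLib.MaxSub.OMono

open CfsgLib.Classical CfsgLib.Geom CfsgLib.Geom.OrthSub CfsgLib.MaxSub CfsgLib.MaxSub.OFrame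
open CfsgLib.MaxSub.OThree (bd bd_comm iso mem_iso reflMat reflMat_mulVec reflMat_det refl3 refl3_mem refl3_val)
open QuadraticMap (polar)
open scoped Matrix

variable {ι F : Type*} [Fintype ι] [DecidableEq ι] [Field F]

/-- the possible values of `4λ²` -/
def GoodVal (Y : F) : Prop := Y = 0 ∨ Y = 1 ∨ Y = 2 ∨ (Y * Y - 3 * Y + 1 = 0 ∧ Y ≠ 4)

/-- orthogonal vectors spanning a three-space, with their values -/
structure Triple (b : Fin 3 → ι → F) (d : Fin 3 → F) : Prop where
  ne : ∀ a, d a ≠ 0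
  gram : ∀ a c, b a ⬝ᵥ b c = if a = c then d a else 0

/-- coordinates at a triple -/
def tc (b : Fin 3 → ι → F) (d : Fin 3 → F) (z : ι → F) : Fin 3 → F := fun a => (b a ⬝ᵥ z) / d a

/-- combination of a triple -/
def tb (b : Fin 3 → ι → F) (x : Fin 3 → F) : ι → F := x 0 • b 0 + x 1 • b 1 + x 2 • b 2

theorem tb_add (b : Fin 3 → ι → F) (x y : Fin 3 → F) : tb b (x + y) = tb b x + tb b y := by
  simp only [tb, Pi.add_apply]; module

theorem tb_sub (b : Fin 3 → ι → F) (x y : Fin 3 → F) : tb b (x - y) = tb b x - tb b y := by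
  simp only [tb, Pi.sub_apply]; module

theorem tb_smul (b : Fin 3 → ι → F) (c : F) (x : Fin 3 → F) : tb b (c • x) = c • tb b x := by
  simp only [tb, Pi.smul_apply, smul_eq_mul]; module

namespace Triple

variable {b : Fin 3 → ι → F} {d : Fin 3 → F} (T : Triple b d)
include T

theorem tb_dot (x : Fin 3 → F) (z : ι → F) : tb b x ⬝ᵥ z = bd d x (tc b d z) := by
  have h := T.ne
  simp only [tb, bd, tc, add_dotProduct, smul_dotProduct, smul_eq_mul]
  field_simp [h 0, h 1, h 2]

theorem tc_tb (x : Fin 3 → F) : tc b d (tb b x) = x := by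
  funext a
  have h := T.ne
  simp only [tc, tb, dotProduct_add, dotProduct_smul, T.gram, smul_eq_mul]
  fin_cases a <;> simp [h]

theorem tb_tb (x y : Fin 3 → F) : tb b x ⬝ᵥ tb b y = bd d x y := by rw [T.tb_dot, T.tc_tb]

end Triple

theorem tc_add (b : Fin 3 → ι → F) (d : Fin 3 → F) (y z : ι → F) :
    tc b d (y + z) = tc b d y + tc b d z := by
  funext a; simp [tc, dotProduct_add, add_div]

theorem tc_smul (b : Fin 3 → ι → F) (d : Fin 3 → F) (c : F) (z : ι → F) :
    tc b d (c • z) = c • tc b d z := by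
  funext a; simp [tc, dotProduct_smul, mul_div_assoc]

/-- extension of a matrix by the identity -/
def embLin (b : Fin 3 → ι → F) (d : Fin 3 → F) (A : Matrix (Fin 3) (Fin 3) F) : (ι → F) →ₗ[F] (ι → F) where
  toFun z := z + tb b (A *ᵥ tc b d z - tc b d z)
  map_add' y z := by
    simp only [tc_add, Matrix.mulVec_add, tb_sub, tb_add]; module
  map_smul' c z := by
    simp only [tc_smul, Matrix.mulVec_smul, tb_sub, tb_smul, RingHom.id_apply]; module

theorem embLin_apply (b : Fin 3 → ι → F) (d : Fin 3 → F) (A : Matrix (Fin 3) (Fin 3) F) (z : ι → F) :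
    embLin b d A z = z + tb b (A *ᵥ tc b d z - tc b d z) := rfl

namespace Triple

variable {b : Fin 3 → ι → F} {d : Fin 3 → F} (T : Triple b d)
include T

theorem tc_embLin (A : Matrix (Fin 3) (Fin 3) F) (z : ι → F) :
    tc b d (embLin b d A z) = A *ᵥ tc b d z := by
  rw [embLin_apply, tc_add, T.tc_tb, add_sub_cancel]

theorem embLin_mul (A B : Matrix (Fin 3) (Fin 3) F) (z : ι → F) :
    embLin b d A (embLin b d B z) = embLin b d (A * B) z := by
  rw [embLin_apply b d A, T.tc_embLin, embLin_apply, embLin_apply, ← Matrix.mulVec_mulVec]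
  simp only [tb_sub]
  abel

theorem embLin_one (z : ι → F) : embLin b d 1 z = z := by
  rw [embLin_apply, Matrix.one_mulVec, sub_self]
  simp [tb]

theorem embLin_isom {A : GL (Fin 3) F} (hA : A ∈ iso d) (z : ι → F) :
    sq ι F (embLin b d (A : Matrix (Fin 3) (Fin 3) F) z) = sq ι F z := by
  have h := mem_iso.1 hA (tc b d z) (tc b d z)
  simp only [sq_apply, embLin_apply, dotProduct_add, add_dotProduct, dotProduct_comm z (tb b _), T.tb_tb,
    T.tb_dot]
  rw [CfsgLib.MaxSub.OThree.bd_sub, CfsgLib.MaxSub.OThree.bd_sub_left, CfsgLib.MaxSub.OThree.bd_sub_left,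
    h, bd_comm d (tc b d z) ((A : Matrix (Fin 3) (Fin 3) F) *ᵥ tc b d z)]
  ring

/-- extension of an isometry by the identity -/
def emb : iso d →* quadIsoms (sq ι F) where
  toFun A := ⟨LinearEquiv.ofLinearMap (embLin b d ((A.1 : GL (Fin 3) F) : Matrix (Fin 3) (Fin 3) F))
    (embLin b d ((A.1⁻¹ : GL (Fin 3) F) : Matrix (Fin 3) (Fin 3) F))
    (LinearMap.ext fun z => by
      rw [LinearMap.comp_apply, T.embLin_mul, ← Units.val_mul, mul_inv_cancel, Units.val_one, T.embLin_one]
      rfl)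
    (LinearMap.ext fun z => by
      rw [LinearMap.comp_apply, T.embLin_mul, ← Units.val_mul, inv_mul_cancel, Units.val_one, T.embLin_one]
      rfl), mem_quadIsoms.2 fun z => T.embLin_isom A.2 z⟩
  map_one' := quadIsoms_ext _ fun z => by
    show embLin b d ((1 : GL (Fin 3) F) : Matrix (Fin 3) (Fin 3) F) z = z
    rw [Units.val_one, T.embLin_one]
  map_mul' A B := quadIsoms_ext _ fun z => by
    show embLin b d _ z = embLin b d _ (embLin b d _ z)
    rw [T.embLin_mul]
    rfl

theorem emb_apply (A : iso d) (z : ι → F) : (T.emb A).1 z =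
    z + tb b (((A.1 : GL (Fin 3) F) : Matrix (Fin 3) (Fin 3) F) *ᵥ tc b d z - tc b d z) := rfl

theorem emb_tb (A : iso d) (x : Fin 3 → F) :
    (T.emb A).1 (tb b x) = tb b (((A.1 : GL (Fin 3) F) : Matrix (Fin 3) (Fin 3) F) *ᵥ x) := by
  rw [T.emb_apply, T.tc_tb, tb_sub]; abel

end Triple

namespace Frame

variable {M : Subgroup (quadIsoms (sq ι F))} (fr : Frame M)
  (hNA : ∀ v ∈ lineSet M, ∀ w ∈ lineSet M, v ⬝ᵥ w = 1 → v = w)
include fr hNA

theorem emb_refl_mem {b : Fin 3 → ι → F} {d : Fin 3 → F} (T : Triple b d) {v : Fin 3 → F}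
    (hv : tb b v ∈ lineSet M) (h : bd d v v = 1) :
    T.emb ⟨refl3 d v h, refl3_mem d v h⟩ ∈ M := by
  obtain ⟨r, hr, -, hrv⟩ := fr.exists_refl hv
  have e : T.emb ⟨refl3 d v h, refl3_mem d v h⟩ = r := quadIsoms_ext _ fun z => by
    rw [T.emb_apply, hrv, T.tb_dot, refl3_val, reflMat_mulVec, sub_sub_cancel_left, ← neg_smul, tb_smul]
    module
  rw [e]
  exact hr

/-- a unipotent rotation of a triple is impossible -/
theorem no_unipotent (h3 : (3 : F) ≠ 0) {b : Fin 3 → ι → F} {d : Fin 3 → F} (T : Triple b d) (A : iso d)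
    (hdet : ((A.1 : GL (Fin 3) F) : Matrix (Fin 3) (Fin 3) F).det = 1) (hAM : T.emb A ∈ M) (hne : A ≠ 1)
    (hspan : ∀ e : Fin 3 → F, (∀ x, tb b x ∈ lineSet M → bd d e x = 0) → e = 0) :
    ((A.1 : GL (Fin 3) F) : Matrix (Fin 3) (Fin 3) F).trace ≠ 3 := by
  intro ht
  classical
  haveI := fr.finite
  have hunit : ∀ v, tb b v ∈ lineSet M → bd d v v = 1 := fun v hv => by
    rw [← T.tb_tb]; exact fr.line_unit hv
  obtain ⟨hall, hfun⟩ := CfsgLib.MaxSub.OThree.units_of_unipotent T.ne fr.two fr.exists_natCast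
    (L := {v | tb b v ∈ lineSet M}) hunit (fun v hv w hw h => by
      rw [← T.tc_tb v, ← T.tc_tb w, hNA _ hv _ hw (by rw [T.tb_tb]; exact h)])
    A.2 hdet ht (fun h => hne (Subtype.ext h))
    (fun v hv => by
      show tb b _ ∈ lineSet M
      rw [← T.emb_tb]
      exact lineSet_apply hv hAM)
    (fun x hx v hv => by
      show tb b _ ∈ lineSet M
      rw [← refl3_val d x (hunit x hx), ← T.emb_tb ⟨refl3 d x (hunit x hx), refl3_mem d x (hunit x hx)⟩]
      exact lineSet_apply hv (fr.emb_refl_mem hNA T hx (hunit x hx)))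
    hspan
  obtain ⟨J, hJ⟩ : ∃ J : Finset ι, J = Finset.univ.filter fun m => tc b d (Pi.single m 1) ≠ 0 := ⟨_, rfl⟩
  have hJmem : ∀ m, m ∈ J → ∃ x, tb b x = Pi.single m 1 := fun m hm => by
    rw [hJ, Finset.mem_filter] at hm
    obtain ⟨v, hv, hv1⟩ := hfun _ hm.2
    refine ⟨v, hNA _ (hall v hv) _ (single_mem_lineSet M m) ?_⟩
    rw [T.tb_dot, bd_comm, hv1]
  have hout : ∀ x, ∀ m ∉ J, tb b x m = 0 := fun x m hm => by
    have h : tc b d (Pi.single m 1) = 0 := by simpa [hJ] using hm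
    have := T.tb_dot x (Pi.single m 1)
    rw [dotProduct_single, mul_one, h] at this
    rw [this]
    simp [bd]
  have hcard : 3 ≤ J.card := by
    obtain ⟨f, hf⟩ : ∃ f : (Fin 3 → F) →ₗ[F] (J → F), ∀ x m, f x m = tb b x m.1 :=
      ⟨{ toFun := fun x m => tb b x m.1
         map_add' := fun x y => by funext m; simp [tb_add]
         map_smul' := fun c x => by funext m; simp [tb_smul] }, fun _ _ => rfl⟩
    have hinj : Function.Injective f := fun x y h => by
      rw [← T.tc_tb x, ← T.tc_tb y]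
      congr 1
      funext m
      by_cases hm : m ∈ J
      · have := congrFun h ⟨m, hm⟩
        rwa [hf, hf] at this
      · rw [hout x m hm, hout y m hm]
    have h := LinearMap.finrank_le_finrank_of_injective hinj
    rw [Module.finrank_fintype_fun_eq_card, Module.finrank_fintype_fun_eq_card, Fintype.card_fin,
      Fintype.card_coe] at h
    exact h
  obtain ⟨i, hi, l, hl, k, hk, hil, hik, hlk⟩ := Finset.two_lt_card.1 hcard
  obtain ⟨m, hm⟩ : ({i, l, k} : Finset ι)ᶜ.Nonempty := by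
    rw [← Finset.card_pos, Finset.card_compl]
    have := fr.five_le
    have : ({i, l, k} : Finset ι).card ≤ 3 := Finset.card_le_three
    omega
  obtain ⟨m', hm'⟩ : ({i, l, k, m} : Finset ι)ᶜ.Nonempty := by
    rw [← Finset.card_pos, Finset.card_compl]
    have := fr.five_le
    have : ({i, l, k, m} : Finset ι).card ≤ 4 := Finset.card_le_four
    omega
  simp only [Finset.mem_compl, Finset.mem_insert, Finset.mem_singleton, not_or] at hm hm'
  obtain ⟨xi, hxi⟩ := hJmem i hi
  obtain ⟨xl, hxl⟩ := hJmem l hl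
  obtain ⟨xk, hxk⟩ := hJmem k hk
  have hcomb : ∀ a c e : F, a * a + c * c + e * e = 1 →
      (Pi.single i a + Pi.single l c + Pi.single k e : ι → F) ∈ lineSet M := by
    intro a c e h
    have e1 : tb b (a • xi + c • xl + e • xk) = Pi.single i a + Pi.single l c + Pi.single k e := by
      rw [tb_add, tb_add, tb_smul, tb_smul, tb_smul, hxi, hxl, hxk, ← Pi.single_smul, ← Pi.single_smul,
        ← Pi.single_smul]
      simp
    rw [← e1]
    refine hall _ ?_
    rw [← T.tb_tb, e1]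
    simp [hil, hik, hlk, Ne.symm hil, Ne.symm hik, Ne.symm hlk]
    linear_combination h
  obtain ⟨c1, e1, h1⟩ := CfsgLib.Geom.exists_binary_eq fr.two (one_ne_zero (α := F)) one_ne_zero (-3 : F)
  obtain ⟨c2, e2, h2⟩ := CfsgLib.Geom.exists_binary_eq fr.two (one_ne_zero (α := F)) one_ne_zero
    (1 - (2 : F)⁻¹ * 2⁻¹)
  have v1 := hcomb 2 c1 e1 (by linear_combination h1)
  have v2 := hcomb 2⁻¹ c2 e2 (by linear_combination h2)
  have v3 := lineSet_apply v2 (fr.swaps_mem (a := l) (b := m) (c := k) (d := m') (Ne.symm hm.2.1)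
    (Ne.symm hm'.2.2.1))
  rw [map_add, map_add, permQ_single, permQ_single, permQ_single, Equiv.Perm.mul_apply, Equiv.Perm.mul_apply,
    Equiv.Perm.mul_apply, Equiv.swap_apply_of_ne_of_ne hik (Ne.symm hm'.1),
    Equiv.swap_apply_of_ne_of_ne hil (Ne.symm hm.1),
    Equiv.swap_apply_of_ne_of_ne hlk (Ne.symm hm'.2.1), Equiv.swap_apply_left, Equiv.swap_apply_left,
    Equiv.swap_apply_of_ne_of_ne hm'.2.1 hm'.2.2.2] at v3
  have h := hNA _ v1 _ v3 (by
    simp [hil, hik, hm.1, hm.2.1, hm.2.2, hm'.1, hm'.2.1, hm'.2.2.1, Ne.symm hil, Ne.symm hik]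
    exact mul_inv_cancel₀ fr.two)
  have hc := congrFun h l
  have he := congrFun h k
  simp [hil, hik, hlk, Ne.symm hil, Ne.symm hik, Ne.symm hlk, Ne.symm hm.2.1, Ne.symm hm'.2.1, Ne.symm hm.2.2,
    Ne.symm hm'.2.2.1] at hc he
  rw [hc, he] at h1
  exact h3 (by linear_combination h1)

/-- the plane lemma -/
theorem goodVal {x y z : ι → F} (hx : x ∈ lineSet M) (hy : y ∈ lineSet M) (hz : z ∈ lineSet M)
    (hxy : y ≠ x) (hxy' : y ≠ -x) (hout : ∀ a c : F, z ≠ a • x + c • y)
    (hmeet : ¬ (x ⬝ᵥ z = 0 ∧ y ⬝ᵥ z = 0)) :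
    GoodVal (4 * ((x ⬝ᵥ y) * (x ⬝ᵥ y))) ∧ 4 * ((x ⬝ᵥ y) * (x ⬝ᵥ y)) ≠ 4 := by
  classical
  haveI := fr.finite
  have h2 := fr.two
  obtain ⟨l, hl⟩ : ∃ l, l = x ⬝ᵥ y := ⟨_, rfl⟩
  rw [← hl]
  have hxx := fr.line_unit hx
  have hyy := fr.line_unit hy
  have hzz := fr.line_unit hz
  have hl1 : 1 - l * l ≠ 0 := by
    intro h
    have : (l - 1) * (l + 1) = 0 := by linear_combination -h
    rcases mul_eq_zero.1 this with h1 | h1
    · exact hxy (hNA x hx y hy (by rw [← hl]; linear_combination h1)).symm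
    · exact hxy' (by
        rw [hNA x hx (-y) (fr.line_neg hy) (by rw [dotProduct_neg, ← hl]; linear_combination -h1), neg_neg])
  have hne4 : 4 * (l * l) ≠ 4 := fun h => hl1 (by
    have h4 : (4 : F) ≠ 0 := by rw [show (4 : F) = 2 * 2 by norm_num]; exact mul_ne_zero h2 h2
    apply mul_left_cancel₀ h4
    linear_combination -h)
  refine ⟨by_contra fun hbad => ?_, hne4⟩
  simp only [GoodVal, not_or] at hbad
  obtain ⟨hY0, hY1, hY2, hYr⟩ := hbad
  have hl0 : l ≠ 0 := fun h => hY0 (by rw [h]; ring)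
  have h3 : (3 : F) ≠ 0 := by
    intro h3
    have hsq := fr.small_mul_self (n := 3) (by exact_mod_cast h3) (by norm_num) 2 (by decide) hl0
    exact hl1 (by linear_combination -hsq)
  obtain ⟨r, hr, hrr, hrx⟩ := fr.exists_refl hx
  obtain ⟨s, hs, hss, hsy⟩ := fr.exists_refl hy
  obtain ⟨R, hR⟩ : ∃ R, R = r * s := ⟨_, rfl⟩
  have hRM : R ∈ M := hR ▸ mul_mem hr hs
  have hRapp : ∀ v, R.1 v = v - (2 * (y ⬝ᵥ v)) • y - (2 * (x ⬝ᵥ v) - 4 * (l * (y ⬝ᵥ v))) • x := by
    intro v
    rw [hR]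
    show r.1 (s.1 v) = _
    rw [hsy, hrx, dotProduct_sub, dotProduct_smul, ← hl, smul_eq_mul]
    module
  obtain ⟨t, ht⟩ : ∃ t, t = 4 * (l * l) - 2 := ⟨_, rfl⟩
  have hRx : R.1 x = (4 * (l * l) - 1) • x + (-(2 * l)) • y := by
    rw [hRapp, dotProduct_comm y x, ← hl, hxx]; module
  have hRy : R.1 y = (2 * l) • x + (-1 : F) • y := by rw [hRapp, hyy, ← hl]; module
  have hindep : ∀ a c : F, a • x + c • y = x → c = 0 := by
    intro a c h
    have e1 := congrArg (x ⬝ᵥ ·) h
    have e2 := congrArg (y ⬝ᵥ ·) h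
    simp only [dotProduct_add, dotProduct_smul, hxx, hyy, dotProduct_comm y x, ← hl, smul_eq_mul] at e1 e2
    exact (mul_eq_zero.1 (show c * (1 - l * l) = 0 by linear_combination e2 - l * e1)).resolve_right hl1
  have hrec : ∀ a c : F, R.1 (a • x + c • y) =
      (a * (4 * (l * l) - 1) + c * (2 * l)) • x + (-(2 * l * a) - c) • y := by
    intro a c
    rw [map_add, map_smul, map_smul, hRx, hRy]; module
  have hord : ∀ k : ℕ, 0 < k → k < 6 → R ^ k ≠ 1 := by
    intro k hk hk6 hk1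
    have hkx : (R ^ k).1 x = x := by rw [hk1]; rfl
    have hstep : ∀ n : ℕ, (R ^ (n + 1)).1 x = R.1 ((R ^ n).1 x) := fun n => by rw [pow_succ']; rfl
    have p1 : (R ^ 1).1 x = (t + 1) • x + (-(2 * l)) • y := by
      rw [pow_one, hRx, ht]; module
    have p2 : (R ^ 2).1 x = (t * t + t - 1) • x + (-(2 * l) * t) • y := by
      rw [hstep 1, p1, hrec, ht]; module
    have p3 : (R ^ 3).1 x = (t * t * t + t * t - 2 * t - 1) • x + (-(2 * l) * (t * t - 1)) • y := by
      rw [hstep 2, p2, hrec, ht]; module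
    have p4 : (R ^ 4).1 x = (t * t * t * t + t * t * t - 3 * (t * t) - 2 * t + 1) • x +
        (-(2 * l) * (t * t * t - 2 * t)) • y := by
      rw [hstep 3, p3, hrec, ht]; module
    have p5 : (R ^ 5).1 x = (t * t * t * t * t + t * t * t * t - 4 * (t * t * t) - 3 * (t * t) + 3 * t + 1) • x +
        (-(2 * l) * (t * t * t * t - 3 * (t * t) + 1)) • y := by
      rw [hstep 4, p4, hrec, ht]; module
    have hlne : -(2 * l) ≠ 0 := neg_ne_zero.2 (mul_ne_zero h2 hl0)
    have hxne : ∀ a : F, a • x = x → a = 1 := fun a h => by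
      have := congrArg (x ⬝ᵥ ·) h
      simpa [dotProduct_smul, hxx] using this
    interval_cases k
    · rw [p1] at hkx
      exact hlne (hindep _ _ hkx)
    · rw [p2] at hkx
      have hc := hindep _ _ hkx
      rw [mul_eq_zero, or_iff_right hlne] at hc
      exact hY2 (by linear_combination hc - ht)
    · rw [p3] at hkx
      have hc := hindep _ _ hkx
      rw [hc, zero_smul, add_zero] at hkx
      rw [mul_eq_zero, or_iff_right hlne] at hc
      have ha := hxne _ hkx
      exact hY1 (by linear_combination (t + 1) * hc - ha - ht)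
    · rw [p4] at hkx
      have hc := hindep _ _ hkx
      rw [hc, zero_smul, add_zero] at hkx
      rw [mul_eq_zero, or_iff_right hlne] at hc
      have ha := hxne _ hkx
      have ht2 : t * t = 0 := by linear_combination (t + 1) * hc - ha
      exact hY2 (by linear_combination (mul_self_eq_zero.1 ht2) - ht)
    · rw [p5] at hkx
      have hc := hindep _ _ hkx
      rw [hc, zero_smul, add_zero] at hkx
      rw [mul_eq_zero, or_iff_right hlne] at hc
      have ha := hxne _ hkx
      have ht1 : (t - 1) * (t * t + t - 1) = 0 := by linear_combination (t + 1) * hc - ha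
      rcases mul_eq_zero.1 ht1 with h | h
      · exact h2 (by linear_combination (2 * (t * t * t + t * t - 2 * t - 2)) * h - 2 * hc)
      · exact hYr ⟨by linear_combination h - (4 * (l * l) + t - 1) * ht, hne4⟩
  -- the third line
  obtain ⟨α, hα⟩ : ∃ α, α = (x ⬝ᵥ z - l * (y ⬝ᵥ z)) / (1 - l * l) := ⟨_, rfl⟩
  obtain ⟨β, hβ⟩ : ∃ β, β = (y ⬝ᵥ z - l * (x ⬝ᵥ z)) / (1 - l * l) := ⟨_, rfl⟩
  have hαe : α * (1 - l * l) = x ⬝ᵥ z - l * (y ⬝ᵥ z) := by rw [hα, div_mul_cancel₀ _ hl1]
  have hβe : β * (1 - l * l) = y ⬝ᵥ z - l * (x ⬝ᵥ z) := by rw [hβ, div_mul_cancel₀ _ hl1]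
  obtain ⟨u, hu⟩ : ∃ u, u = z - α • x - β • y := ⟨_, rfl⟩
  have hu0 : u ≠ 0 := fun h => hout α β (by
    rw [hu, sub_sub, sub_eq_zero] at h; exact h)
  have hxu : x ⬝ᵥ u = 0 := by
    rw [hu, dotProduct_sub, dotProduct_sub, dotProduct_smul, dotProduct_smul, hxx, ← hl,
      smul_eq_mul, smul_eq_mul]
    apply mul_right_cancel₀ hl1
    linear_combination -hαe - l * hβe
  have hyu : y ⬝ᵥ u = 0 := by
    rw [hu, dotProduct_sub, dotProduct_sub, dotProduct_smul, dotProduct_smul, hyy, dotProduct_comm y x, ← hl,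
      smul_eq_mul, smul_eq_mul]
    apply mul_right_cancel₀ hl1
    linear_combination -hβe - l * hαe
  have hRu : R.1 u = u := by rw [hRapp, hxu, hyu]; module
  by_cases huu : u ⬝ᵥ u = 0
  · -- degenerate span
    obtain ⟨p, hp⟩ : ∃ p, p = α • x + β • y := ⟨_, rfl⟩
    have hzp : z = p + u := by rw [hp, hu]; abel
    have hpu : p ⬝ᵥ u = 0 := by
      rw [hp, add_dotProduct, smul_dotProduct, smul_dotProduct, hxu, hyu, smul_zero, smul_zero, add_zero]
    have hpp : p ⬝ᵥ p = 1 := by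
      rw [hzp, add_dotProduct, dotProduct_add, dotProduct_add, hpu, dotProduct_comm u p, hpu, huu] at hzz
      linear_combination hzz
    obtain ⟨p', hp'⟩ : ∃ p', p' = (R⁻¹).1 p := ⟨_, rfl⟩
    have hRp' : R.1 p' = p := by rw [hp']; exact apply_inv R p
    have hq : R.1 p = t • p - p' := by
      apply R.1.injective
      rw [map_sub, map_smul, hRp', hp, hrec, hrec, ht]
      module
    have hRinvu : (R⁻¹).1 u = u := by
      apply R.1.injective
      rw [apply_inv, hRu]
    obtain ⟨μ, hμ⟩ : ∃ μ, μ = p ⬝ᵥ R.1 p := ⟨_, rfl⟩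
    have hμ' : p' ⬝ᵥ p = μ := by rw [hμ, ← fr.dot_map R p' p, hRp']
    have htμ : t = 2 * μ := by
      have h := hμ
      rw [hq, dotProduct_sub, dotProduct_smul, hpp, dotProduct_comm p p', hμ', smul_eq_mul] at h
      linear_combination -h
    have hz1 := lineSet_apply hz (inv_mem hRM)
    have hz1e : (R⁻¹).1 z = p' + u := by rw [hzp, map_add, hRinvu, hp']
    obtain ⟨rz, hrz, -, hrz'⟩ := fr.exists_refl hz
    have hz2 := fr.line_neg (lineSet_apply (lineSet_apply hz hRM) hrz)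
    have hRp'u : R.1 p ⬝ᵥ u = 0 := by rw [← hRu, fr.dot_map, hpu]
    have hzRz : z ⬝ᵥ R.1 z = μ := by
      rw [hzp, map_add, hRu, add_dotProduct, dotProduct_add, dotProduct_add, ← hμ, hpu, huu,
        dotProduct_comm u (R.1 p), hRp'u]
      ring
    have hz2e : -(rz.1 (R.1 z)) = p' + (t - 1) • u := by
      rw [hrz', hzRz, hzp, map_add, hRu, hq, htμ]; module
    have hp'p' : p' ⬝ᵥ p' = 1 := by rw [← fr.dot_map R, hRp', hpp]
    have hp'u : p' ⬝ᵥ u = 0 := by rw [← hRinvu, hp', fr.dot_map, hpu]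
    rw [hz1e] at hz1
    rw [hz2e] at hz2
    have he := hNA _ hz1 _ hz2 (by
      simp only [add_dotProduct, dotProduct_add, dotProduct_smul, hp'p', hp'u, huu, dotProduct_comm u p',
        smul_eq_mul]
      ring)
    have h0 : (t - 2) • u = 0 := by
      rw [← sub_eq_zero] at he
      rw [← neg_eq_zero, ← he]; module
    have ht2 : t = 2 := sub_eq_zero.1 ((smul_eq_zero.1 h0).resolve_right hu0)
    exact hne4 (by linear_combination ht2 - ht)
  -- a non-degenerate three-space
  obtain ⟨b, hb⟩ : ∃ b : Fin 3 → ι → F, b = ![x, y - l • x, u] := ⟨_, rfl⟩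
  obtain ⟨d, hd⟩ : ∃ d : Fin 3 → F, d = ![1, 1 - l * l, u ⬝ᵥ u] := ⟨_, rfl⟩
  have T : Triple b d := by
    refine ⟨fun a => ?_, fun a c => ?_⟩
    · rw [hd]; fin_cases a <;> simp [hl1, huu]
    · rw [hb, hd]
      fin_cases a <;> fin_cases c <;>
        simp [hxx, hxu, hyu, dotProduct_sub, sub_dotProduct, dotProduct_smul, hyy, dotProduct_comm u x,
          dotProduct_comm u y, dotProduct_comm y x, ← hl]
  have ex : tb b ![1, 0, 0] = x := by simp [tb, hb]
  have ey : tb b ![l, 1, 0] = y := by simp [tb, hb]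
  have ez : tb b ![α + β * l, β, 1] = z := by
    simp [tb, hb, hu]; module
  have hvx : bd d ![1, 0, 0] ![1, 0, 0] = 1 := by rw [← T.tb_tb, ex, hxx]
  have hvy : bd d ![l, 1, 0] ![l, 1, 0] = 1 := by rw [← T.tb_tb, ey, hyy]
  have hvz : bd d ![α + β * l, β, 1] ![α + β * l, β, 1] = 1 := by rw [← T.tb_tb, ez, hzz]
  obtain ⟨Ax, hAx⟩ : ∃ A : iso d, A = ⟨refl3 d _ hvx, refl3_mem d _ hvx⟩ := ⟨_, rfl⟩
  obtain ⟨Ay, hAy⟩ : ∃ A : iso d, A = ⟨refl3 d _ hvy, refl3_mem d _ hvy⟩ := ⟨_, rfl⟩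
  obtain ⟨Az, hAz⟩ : ∃ A : iso d, A = ⟨refl3 d _ hvz, refl3_mem d _ hvz⟩ := ⟨_, rfl⟩
  have mx : T.emb Ax ∈ M := hAx ▸ fr.emb_refl_mem hNA T (by rw [ex]; exact hx) hvx
  have my : T.emb Ay ∈ M := hAy ▸ fr.emb_refl_mem hNA T (by rw [ey]; exact hy) hvy
  have mz : T.emb Az ∈ M := hAz ▸ fr.emb_refl_mem hNA T (by rw [ez]; exact hz) hvz
  have hspan : ∀ e : Fin 3 → F, (∀ v, tb b v ∈ lineSet M → bd d e v = 0) → e = 0 := by
    intro e he
    have e1 := he _ (by rw [ex]; exact hx)
    have e2 := he _ (by rw [ey]; exact hy)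
    have e3 := he _ (by rw [ez]; exact hz)
    have hd' := T.ne
    simp [bd, hd' 0] at e1 e2
    simp [e1, hd' 1] at e2
    simp [bd, e1, e2, hd' 2] at e3
    funext a
    fin_cases a <;> assumption
  let K : Subgroup (iso d) :=
    { carrier := {A | ((A.1 : GL (Fin 3) F) : Matrix (Fin 3) (Fin 3) F).det = 1 ∧ T.emb A ∈ M}
      one_mem' := ⟨by simp, by rw [map_one]; exact one_mem M⟩
      mul_mem' := fun {A B} hA hB => ⟨by simp [hA.1, hB.1], by rw [map_mul]; exact mul_mem hA.2 hB.2⟩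
      inv_mem' := fun {A} hA => ⟨by
        have h : (((A⁻¹ * A).1 : GL (Fin 3) F) : Matrix (Fin 3) (Fin 3) F).det = 1 := by simp
        rw [Subgroup.coe_mul, Units.val_mul, Matrix.det_mul, hA.1, mul_one] at h
        exact h, by rw [map_inv]; exact inv_mem hA.2⟩ }
  have hK1 : Ax * Ay ∈ K := ⟨by
    rw [hAx, hAy]; simp [reflMat_det hvx, reflMat_det hvy], by rw [map_mul]; exact mul_mem mx my⟩
  have hK2 : Ay * Az ∈ K := ⟨by
    rw [hAy, hAz]; simp [reflMat_det hvy, reflMat_det hvz], by rw [map_mul]; exact mul_mem my mz⟩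
  obtain ⟨act, hact⟩ : ∃ act : K → (Fin 3 → F) → (Fin 3 → F), ∀ A v,
      act A v = ((A.1.1 : GL (Fin 3) F) : Matrix (Fin 3) (Fin 3) F) *ᵥ v := ⟨_, fun _ _ => rfl⟩
  have hact1 : ∀ v, act 1 v = v := fun v => by rw [hact]; simp
  have hactm : ∀ A B v, act (A * B) v = act A (act B v) := fun A B v => by
    rw [hact, hact, hact, Matrix.mulVec_mulVec]; rfl
  have hacts : ∀ A (c : F) v, act A (c • v) = c • act A v := fun A c v => by
    rw [hact, hact, Matrix.mulVec_smul]
  have hbd : ∀ A v w, bd d (act A v) (act A w) = bd d v w := fun A v w => by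
    rw [hact, hact]; exact A.1.2 v w
  have haxis : ∀ A : K, A ≠ 1 → ∃ v, bd d v v ≠ 0 ∧ act A v = v ∧ ∀ w, act A w = w → ∃ c : F, w = c • v := by
    intro A hA
    obtain ⟨v, h1, h2', h3'⟩ := CfsgLib.MaxSub.OThree.exists_axis T.ne h2 A.1.2 A.2.1
      (fr.no_unipotent hNA h3 T A.1 A.2.1 A.2.2 (fun h => hA (Subtype.ext h)) hspan)
    exact ⟨v, h1, by rw [hact]; exact h2', fun w hw => h3' w (by rw [← hact]; exact hw)⟩
  let Fx : (Fin 3 → F) → Subgroup K := fun v =>
    { carrier := {A | act A v = v}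
      one_mem' := hact1 v
      mul_mem' := fun {A B} (hA : act A v = v) (hB : act B v = v) => show act (A * B) v = v by rw [hactm, hB, hA]
      inv_mem' := fun {A} (hA : act A v = v) => show act A⁻¹ v = v by
        conv_lhs => rw [← hA, ← hactm, inv_mul_cancel, hact1] }
  have hFx : ∀ v A, A ∈ Fx v ↔ act A v = v := fun v A => Iff.rfl
  have hsame : ∀ v w A, A ≠ 1 → bd d v v ≠ 0 → bd d w w ≠ 0 → act A v = v → act A w = w →
      ∃ c : F, c ≠ 0 ∧ w = c • v := by
    intro v w A hA hv hw hAv hAw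
    obtain ⟨a, ha, -, ha'⟩ := haxis A hA
    obtain ⟨c1, rfl⟩ := ha' v hAv
    obtain ⟨c2, rfl⟩ := ha' w hAw
    have hc1 : c1 ≠ 0 := fun h => hv (by rw [h]; simp [bd])
    have hc2 : c2 ≠ 0 := fun h => hw (by rw [h]; simp [bd])
    exact ⟨c2 / c1, div_ne_zero hc2 hc1, by rw [smul_smul, div_mul_cancel₀ _ hc1]⟩
  haveI : Finite K := inferInstance
  haveI := Fintype.ofFinite K
  let R3 : K := ⟨Ax * Ay, hK1⟩
  have e2fix : act R3 ![0, 0, 1] = ![0, 0, 1] := by
    rw [hact]
    show ((Ax.1 * Ay.1 : GL (Fin 3) F) : Matrix (Fin 3) (Fin 3) F) *ᵥ _ = _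
    rw [Units.val_mul, ← Matrix.mulVec_mulVec, hAx, hAy]
    simp only [refl3_val, reflMat_mulVec]
    simp [bd, hd]
  have hR3 : T.emb R3.1 = R := by
    refine quadIsoms_ext _ fun v => ?_
    rw [map_mul, hAx, hAy, hR]
    show (T.emb _).1 ((T.emb _).1 v) = r.1 (s.1 v)
    rw [T.emb_apply _ v, refl3_val, reflMat_mulVec, sub_sub_cancel_left, ← neg_smul, tb_smul, ← T.tb_dot, ey,
      show v + -(2 * (y ⬝ᵥ v)) • y = s.1 v by rw [hsy]; module, T.emb_apply, refl3_val, reflMat_mulVec,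
      sub_sub_cancel_left, ← neg_smul, tb_smul, ← T.tb_dot, ex, hrx]
    module
  have hord3 : 6 ≤ orderOf R3 := by
    by_contra hlt
    have hpos : 0 < orderOf R3 := orderOf_pos R3
    refine hord _ hpos (by omega) ?_
    rw [← hR3, ← map_pow, ← Subgroup.coe_pow, pow_orderOf_eq_one, Subgroup.coe_one, map_one]
  have hn := CfsgLib.MaxSub.AxisCount.axis_normal
    {C : Subgroup K | C ≠ ⊥ ∧ ∃ v, bd d v v ≠ 0 ∧ C = Fx v} (fun C hC => hC.1)
    (fun A hA => by
      obtain ⟨v, hv, hAv, -⟩ := haxis A hA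
      exact ⟨Fx v, ⟨fun h => hA ((Subgroup.eq_bot_iff_forall _).1 h A hAv), v, hv, rfl⟩, hAv⟩)
    (by
      rintro C ⟨-, v, hv, rfl⟩ D ⟨-, w, hw, rfl⟩ A hA hAv hAw
      obtain ⟨c, hc, rfl⟩ := hsame v w A hA hv hw hAv hAw
      ext B
      rw [hFx, hFx, hacts]
      exact ⟨fun h => by rw [h], fun h => smul_right_injective _ hc h⟩)
    (by
      rintro C ⟨hne, v, hv, rfl⟩ h
      refine ⟨fun h0 => hne ((Subgroup.map_eq_bot_iff_of_injective _ (MulAut.conj h).injective).1 h0),
        act h v, by rwa [hbd], ?_⟩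
      ext B
      rw [Subgroup.mem_map]
      constructor
      · rintro ⟨A, hA, rfl⟩
        show act (h * A * h⁻¹) (act h v) = act h v
        rw [← hactm, inv_mul_cancel_right, hactm, (hA : act A v = v)]
      · intro hB
        refine ⟨h⁻¹ * B * h, ?_, by simp [mul_assoc]⟩
        show act (h⁻¹ * B * h) v = v
        rw [hactm, hactm, (hB : act B (act h v) = act h v), ← hactm, inv_mul_cancel, hact1])
    (by
      rintro C ⟨hne, v, hv, rfl⟩
      obtain ⟨A, hA, hA1⟩ := (Subgroup.bot_or_exists_ne_one (Fx v)).resolve_left hne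
      have hsign : ∀ h ∈ Subgroup.normalizer (Fx v : Set K), act h v = v ∨ act h v = -v := by
        intro h hh
        have h1 := (Subgroup.mem_normalizer_iff''.1 hh A).1 hA
        have h2' : act A (act h v) = act h v := by
          have e := congrArg (act h) (h1 : act (h⁻¹ * A * h) v = v)
          rw [← hactm, ← mul_assoc, ← mul_assoc, mul_inv_cancel, one_mul, hactm] at e
          exact e
        obtain ⟨c, -, hc⟩ := hsame v (act h v) A hA1 hv (by rwa [hbd]) hA h2'
        have hc1 : c * c = 1 := by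
          have e := hbd h v v
          rw [hc, CfsgLib.MaxSub.OThree.bd_smul, CfsgLib.MaxSub.OThree.bd_smul_left] at e
          apply mul_right_cancel₀ hv
          linear_combination e
        rcases mul_self_eq_one_iff.1 hc1 with rfl | rfl
        · left; rw [hc, one_smul]
        · right; rw [hc, neg_one_smul]
      by_cases hall : Subgroup.normalizer (Fx v : Set K) ≤ Fx v
      · have := Subgroup.card_le_of_le hall
        omega
      obtain ⟨h0, h0N, h0F⟩ := SetLike.not_le_iff_exists.1 hall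
      have h0v := (hsign h0 h0N).resolve_left h0F
      obtain ⟨f, hf⟩ : ∃ f : Subgroup.normalizer (Fx v : Set K) → Bool × Fx v, ∀ h : Subgroup.normalizer (Fx v : Set K),
          (∀ hp : act (h : K) v = v, f h = (true, ⟨(h : K), show (h : K) ∈ Fx v from hp⟩)) ∧ (∀ hn : act h.1 v ≠ v, f h = (false, ⟨h0⁻¹ * h.1, by
            have hv' := (hsign h.1 h.2).resolve_left hn
            show act (h0⁻¹ * h.1) v = v
            rw [hactm, hv', ← h0v, ← hactm, inv_mul_cancel, hact1]⟩)) :=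
        ⟨fun h => if hh : act h.1 v = v then (true, ⟨h.1, hh⟩) else (false, ⟨h0⁻¹ * h.1, by
            have hv' := (hsign h.1 h.2).resolve_left hh
            show act (h0⁻¹ * h.1) v = v
            rw [hactm, hv', ← h0v, ← hactm, inv_mul_cancel, hact1]⟩),
          fun h => ⟨fun hh => by simp [hh], fun hh => by simp [hh]⟩⟩
      have hinj : Function.Injective f := by
        intro h h' e
        by_cases c1 : act h.1 v = v <;> by_cases c2 : act h'.1 v = v
        · rw [(hf h).1 c1, (hf h').1 c2] at e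
          exact Subtype.ext (congrArg (fun p : Bool × Fx v => (p.2 : K)) e)
        · rw [(hf h).1 c1, (hf h').2 c2] at e
          simp at e
        · rw [(hf h).2 c1, (hf h').1 c2] at e
          simp at e
        · rw [(hf h).2 c1, (hf h').2 c2] at e
          exact Subtype.ext (mul_left_cancel (congrArg (fun p : Bool × Fx v => (p.2 : K)) e))
      have := Nat.card_le_card_of_injective f hinj
      rwa [Nat.card_prod, Nat.card_eq_fintype_card (α := Bool), Fintype.card_bool] at this)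
    (A := Fx ![0, 0, 1])
    ⟨fun h => by
        have h1 := (Subgroup.eq_bot_iff_forall _).1 h R3 e2fix
        rw [h1, orderOf_one] at hord3
        omega,
      ![0, 0, 1], by simp [bd, hd, huu], rfl⟩
    (by
      have hle : Subgroup.zpowers R3 ≤ Fx ![0, 0, 1] := Subgroup.zpowers_le.2 e2fix
      have := Subgroup.card_le_of_le hle
      rw [Nat.card_zpowers] at this
      omega)
  -- the axis is fixed by every element
  let R2 : K := ⟨Ay * Az, hK2⟩
  have hR3ne : R3 ≠ 1 := fun h => by rw [h, orderOf_one] at hord3; omega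
  have h1 := hn.conj_mem R3 e2fix R2⁻¹
  rw [inv_inv] at h1
  have h2' : act R3 (act R2 ![0, 0, 1]) = act R2 ![0, 0, 1] := by
    have e := congrArg (act R2) (h1 : act (R2⁻¹ * R3 * R2) ![0, 0, 1] = ![0, 0, 1])
    rw [← hactm, ← mul_assoc, ← mul_assoc, mul_inv_cancel, one_mul, hactm] at e
    exact e
  obtain ⟨c, -, hc⟩ := hsame ![0, 0, 1] (act R2 ![0, 0, 1]) R3 hR3ne (by simp [bd, hd, huu])
    (by rw [hbd]; simp [bd, hd, huu]) e2fix h2'
  have hd2 : d 2 = u ⬝ᵥ u := by rw [hd]; rfl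
  rw [hact] at hc
  have hc' : ((Ay.1 * Az.1 : GL (Fin 3) F) : Matrix (Fin 3) (Fin 3) F) *ᵥ ![0, 0, 1] = c • ![0, 0, 1] := hc
  rw [Units.val_mul, ← Matrix.mulVec_mulVec, hAy, hAz] at hc'
  simp only [refl3_val] at hc'
  have hinv := congrArg (fun v => reflMat d ![l, 1, 0] *ᵥ v) hc'
  simp only [Matrix.mulVec_mulVec, Matrix.mulVec_smul] at hinv
  rw [← mul_assoc, CfsgLib.MaxSub.OThree.reflMat_mul_self hvy, one_mul, reflMat_mulVec, reflMat_mulVec] at hinv
  have a0 := congrFun hinv 0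
  have a1 := congrFun hinv 1
  simp [bd, hd, huu, h2] at a0 a1
  have hxz : x ⬝ᵥ z = 0 := by
    have : z = α • x + β • y + u := by rw [hu]; abel
    rw [this, dotProduct_add, dotProduct_add, dotProduct_smul, dotProduct_smul, hxx, hxu, ← hl]
    simp only [smul_eq_mul]
    linear_combination a0
  have hyz : y ⬝ᵥ z = 0 := by
    have : z = α • x + β • y + u := by rw [hu]; abel
    rw [this, dotProduct_add, dotProduct_add, dotProduct_smul, dotProduct_smul, hyy, hyu, dotProduct_comm y x,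
      ← hl]
    simp only [smul_eq_mul]
    linear_combination l * a0 + (1 - l * l) * a1
  exact hmeet ⟨hxz, hyz⟩

end Frame

end CfsgLib.MaxSub.OMono
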