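import Cfsg.Agent.Lib.MaxSub.OMonoPlane

/-!
Overgroups of the monomial group of the sum of squares: without linked pairs every line is a coordinate line,
so the group is monomial; hence the monomial group is maximal.
-/

set_option autoImplicit false
set_option linter.unusedSectionVars false

namespace CfsgLib.MaxSub.OMono

open CfsgLib.Classical CfsgLib.Geom CfsgLib.Geom.OrthSub CfsgLib.MaxSub CfsgLib.MaxSub.OFrame
open scoped Matrix

variable {ι F : Type*} [Fintype ι] [DecidableEq ι] [Field F]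

/-- a root value -/
def RootVal (a : F) : Prop := a * a - 3 * a + 1 = 0 ∧ a ≠ 4

theorem RootVal.five {a : F} (h : RootVal a) : (5 : F) ≠ 0 := fun h5 =>
  h.2 (by
    have : (a - 4) * (a - 4) = 0 := by linear_combination h.1 + (3 - a) * h5
    exact sub_eq_zero.1 (mul_self_eq_zero.1 this))

theorem rootVal_sq (h3 : (3 : F) ≠ 0) (h2 : (2 : F) ≠ 0) {a : F} (h : RootVal a) : ¬ GoodVal (a * a) := by
  rintro (h0 | h1 | h2' | ⟨hr, -⟩)
  · rw [mul_self_eq_zero.1 h0] at h
    exact one_ne_zero (α := F) (by linear_combination h.1)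
  · exact h.five (by linear_combination (3 * a - 7) * h1 - (3 * a + 2) * h.1)
  · have : a = 1 := by
      apply mul_left_cancel₀ h3
      linear_combination -h.1 + h2'
    rw [this] at h
    exact one_ne_zero (α := F) (by linear_combination -h.1)
  · have e : 3 * a = 1 := by
      have h4 : (4 : F) ≠ 0 := by rw [show (4 : F) = 2 * 2 by norm_num]; exact mul_ne_zero h2 h2
      apply mul_left_cancel₀ h4
      linear_combination hr - (a * a + 3 * a + 5) * h.1
    have : a * a = 0 := by linear_combination h.1 + e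
    rw [mul_self_eq_zero.1 this] at h
    exact one_ne_zero (α := F) (by linear_combination h.1)

theorem final_quarter (h3 : (3 : F) ≠ 0) {Y Z : F} (hY : GoodVal Y) (hY4 : Y ≠ 4) (hY' : 4 * Y = 9)
    (hZ : GoodVal Z) (hZ4 : Z ≠ 4) (hZ' : 4 * Z = 1) : False := by
  have h4 : (4 : F) ≠ 0 := fun h => one_ne_zero (α := F) (by rw [← hZ', h, zero_mul])
  rcases hZ with h | h | h | ⟨h, -⟩
  · exact one_ne_zero (α := F) (by linear_combination -hZ' + 4 * h)
  · exact h3 (by linear_combination hZ' - 4 * h)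
  · have h7 : (7 : F) = 0 := by linear_combination hZ' - 4 * h
    exact hY4 (mul_left_cancel₀ h4 (by linear_combination hY' - h7))
  · have h5 : (5 : F) = 0 := by linear_combination 16 * h - (4 * Z - 11) * hZ'
    exact hZ4 (mul_left_cancel₀ h4 (by linear_combination hZ' - 3 * h5))

theorem final_five (h3 : (3 : F) ≠ 0) (h5 : (5 : F) ≠ 0) (h2 : (2 : F) ≠ 0) {Y Z : F} (hY : GoodVal Y)
    (hY' : 4 * Y = 9) (hZ4 : Z ≠ 4) (hZ' : 4 * Z = 5) : False := by
  have h4 : (4 : F) ≠ 0 := by rw [show (4 : F) = 2 * 2 by norm_num]; exact mul_ne_zero h2 h2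
  rcases hY with h | h | h | ⟨h, -⟩
  · exact mul_ne_zero h3 h3 (by linear_combination -hY' + 4 * h)
  · exact h5 (by linear_combination -hY' + 4 * h)
  · exact one_ne_zero (α := F) (by linear_combination -hY' + 4 * h)
  · have h11 : (11 : F) = 0 := by linear_combination (-16 : F) * h + (4 * Y - 3) * hY'
    exact hZ4 (mul_left_cancel₀ h4 (by linear_combination hZ' - h11))

namespace Frame

variable {M : Subgroup (quadIsoms (sq ι F))} (fr : Frame M)
  (hNA : ∀ v ∈ lineSet M, ∀ w ∈ lineSet M, v ⬝ᵥ w = 1 → v = w)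
include fr hNA

theorem pairVal {v w : ι → F} (hv : v ∈ lineSet M) (hw : w ∈ lineSet M) (h1 : w ≠ v) (h2 : w ≠ -v)
    {a b c : ι} (hab : a ≠ b) (hac : a ≠ c) (hbc : b ≠ c) (ha : v a ≠ 0 ∨ w a ≠ 0) (hb : v b ≠ 0 ∨ w b ≠ 0)
    (hc : v c ≠ 0 ∨ w c ≠ 0) :
    GoodVal (4 * ((v ⬝ᵥ w) * (v ⬝ᵥ w))) ∧ 4 * ((v ⬝ᵥ w) * (v ⬝ᵥ w)) ≠ 4 := by
  classical
  have key : ∀ l, (v l ≠ 0 ∨ w l ≠ 0) → (∃ x y : F, Pi.single l (1 : F) = x • v + y • w) ∨
      (GoodVal (4 * ((v ⬝ᵥ w) * (v ⬝ᵥ w))) ∧ 4 * ((v ⬝ᵥ w) * (v ⬝ᵥ w)) ≠ 4) := by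
    intro l hl
    by_cases he : ∃ x y : F, Pi.single l (1 : F) = x • v + y • w
    · exact Or.inl he
    push Not at he
    refine Or.inr (fr.goodVal hNA hv hw (single_mem_lineSet M l) h1 h2 he fun h => ?_)
    rw [dotProduct_single, dotProduct_single, mul_one, mul_one] at h
    exact hl.elim (fun hh => hh h.1) fun hh => hh h.2
  rcases key a ha with ha' | hr
  swap
  · exact hr
  rcases key b hb with hb' | hr
  swap
  · exact hr
  rcases key c hc with hc' | hr
  swap
  · exact hr
  exfalso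
  have hle : Submodule.span F (Set.range fun i : ({a, b, c} : Finset ι) => (Pi.single i.1 (1 : F) : ι → F)) ≤
      Submodule.span F {v, w} := by
    refine Submodule.span_le.2 ?_
    rintro _ ⟨⟨i, hi⟩, rfl⟩
    simp only [Finset.mem_insert, Finset.mem_singleton] at hi
    rw [SetLike.mem_coe, Submodule.mem_span_pair]
    rcases hi with rfl | rfl | rfl
    exacts [ha'.imp fun x hx => hx.imp fun y hy => hy.symm, hb'.imp fun x hx => hx.imp fun y hy => hy.symm,
      hc'.imp fun x hx => hx.imp fun y hy => hy.symm]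
  have hli : LinearIndependent F fun i : ({a, b, c} : Finset ι) => (Pi.single i.1 (1 : F) : ι → F) := by
    have := (Pi.basisFun F ι).linearIndependent.comp (fun i : ({a, b, c} : Finset ι) => i.1) Subtype.val_injective
    simpa [Function.comp_def, Pi.basisFun_apply] using this
  have h := Submodule.finrank_mono hle
  rw [finrank_span_eq_card hli, Fintype.card_coe,
    Finset.card_eq_three.2 ⟨a, b, c, hab, hac, hbc, rfl⟩] at h
  have h' : Module.finrank F (Submodule.span F ({v, w} : Set (ι → F))) ≤ 2 := by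
    refine (finrank_span_le_card _).trans ?_
    rw [Set.toFinset_insert, Set.toFinset_singleton]
    exact Finset.card_le_two
  omega

/-- three non-zero coordinates -/
theorem coordVal {v : ι → F} (hv : v ∈ lineSet M) {a b c : ι} (hab : a ≠ b) (hac : a ≠ c) (hbc : b ≠ c)
    (ha : v a ≠ 0) (hb : v b ≠ 0) (hc : v c ≠ 0) (i : ι) :
    GoodVal (4 * (v i * v i)) ∧ 4 * (v i * v i) ≠ 4 := by
  have h := fr.pairVal hNA hv (single_mem_lineSet M i) ?_ ?_ hab hac hbc (Or.inl ha) (Or.inl hb) (Or.inl hc)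
  · rwa [dotProduct_single, mul_one] at h
  · intro e
    by_cases hai : a = i
    · rw [← e, Pi.single_eq_of_ne (fun h => hab (by rw [hai, h]))] at hb; exact hb rfl
    · rw [← e, Pi.single_eq_of_ne hai] at ha; exact ha rfl
  · intro e
    have e' : v = -Pi.single i 1 := by rw [e, neg_neg]
    by_cases hai : a = i
    · rw [e', Pi.neg_apply, Pi.single_eq_of_ne (fun h => hab (by rw [hai, h])), neg_zero] at hb; exact hb rfl
    · rw [e', Pi.neg_apply, Pi.single_eq_of_ne hai, neg_zero] at ha; exact ha rfl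

/-- sign changes on part of the support -/
theorem flipVal {v : ι → F} (hv : v ∈ lineSet M) (A : Finset ι) {a b c : ι} (hab : a ≠ b) (hac : a ≠ c)
    (hbc : b ≠ c) (ha : v a ≠ 0) (hb : v b ≠ 0) (hc : v c ≠ 0) {i o : ι} (hi : i ∈ A) (hvi : v i ≠ 0)
    (ho : o ∉ A) (hvo : v o ≠ 0) :
    GoodVal ((2 - ∑ l ∈ A, 4 * (v l * v l)) * (2 - ∑ l ∈ A, 4 * (v l * v l))) ∧
      (2 - ∑ l ∈ A, 4 * (v l * v l)) * (2 - ∑ l ∈ A, 4 * (v l * v l)) ≠ 4 := by
  classical
  have h := fr.pairVal hNA hv (lineSet_apply hv (fr.flip_mem A)) ?_ ?_ hab hac hbc (Or.inl ha) (Or.inl hb)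
    (Or.inl hc)
  · have e : v ⬝ᵥ (flipQ (F := F) A).1 v = 1 - 2 * ∑ l ∈ A, v l * v l := by
      have h1 := fr.line_unit hv
      rw [dotProduct] at h1 ⊢
      rw [← h1, Finset.mul_sum, ← Finset.univ_inter A, ← Finset.sum_ite_mem, ← Finset.sum_sub_distrib]
      refine Finset.sum_congr rfl fun l _ => ?_
      simp only [flipQ_apply, Finset.univ_inter]
      split_ifs <;> ring
    rw [e] at h
    have e2 : 4 * ((1 - 2 * ∑ l ∈ A, v l * v l) * (1 - 2 * ∑ l ∈ A, v l * v l)) =
        (2 - ∑ l ∈ A, 4 * (v l * v l)) * (2 - ∑ l ∈ A, 4 * (v l * v l)) := by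
      rw [← Finset.mul_sum]; ring
    rwa [e2] at h
  · intro e
    have h' := congrFun e i
    rw [flipQ_apply, if_pos hi] at h'
    exact hvi ((mul_eq_zero.1 (show 2 * v i = 0 by linear_combination -h')).resolve_left fr.two)
  · intro e
    have h' := congrFun e o
    rw [flipQ_apply, if_neg ho, Pi.neg_apply] at h'
    exact hvo ((mul_eq_zero.1 (show 2 * v o = 0 by linear_combination h')).resolve_left fr.two)

theorem prodVal {v : ι → F} (hv : v ∈ lineSet M) {i a b : ι} (hia : i ≠ a) (hib : i ≠ b) (hab : a ≠ b)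
    (hi : v i ≠ 0) (ha : v a ≠ 0) (hb : v b ≠ 0) (h2i : 4 * (v i * v i) ≠ 2) (l : ι) (hl : l ≠ i) :
    GoodVal (4 * (v i * v i) * (4 * (v l * v l))) := by
  obtain ⟨r, hr, -, hrv⟩ := fr.exists_refl hv
  have hu := lineSet_apply (single_mem_lineSet M i) hr
  rw [hrv, dotProduct_single, mul_one] at hu
  have hne : ∀ m, m ≠ i → v m ≠ 0 → ((Pi.single i (1 : F) - (2 * v i) • v : ι → F)) m ≠ 0 := by
    intro m hm hvm
    simp [hm, fr.two, hi, hvm]
  have hnei : ((Pi.single i (1 : F) - (2 * v i) • v : ι → F)) i ≠ 0 := by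
    intro e
    simp only [Pi.sub_apply, Pi.single_eq_same, Pi.smul_apply, smul_eq_mul] at e
    exact h2i (by linear_combination (-2 : F) * e)
  have h := (fr.coordVal hNA hu hia hib hab hnei (hne a (Ne.symm hia) ha) (hne b (Ne.symm hib) hb) l).1
  simp only [Pi.sub_apply, Pi.single_eq_of_ne hl, Pi.smul_apply, smul_eq_mul, zero_sub] at h
  rwa [show 4 * (-(2 * v i * v l) * -(2 * v i * v l)) = 4 * (v i * v i) * (4 * (v l * v l)) by ring] at h

/-- at most two non-zero coordinates -/
theorem weight_le_two {v : ι → F} (hv : v ∈ lineSet M) {a b c : ι} (hab : a ≠ b) (hac : a ≠ c) (hbc : b ≠ c)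
    (ha : v a ≠ 0) (hb : v b ≠ 0) (hc : v c ≠ 0) : False := by
  classical
  haveI := fr.finite
  obtain ⟨S, hS⟩ : ∃ S : Finset ι, S = Finset.univ.filter fun l => v l ≠ 0 := ⟨_, rfl⟩
  have hmem : ∀ l, l ∈ S ↔ v l ≠ 0 := fun l => by simp [hS]
  obtain ⟨X, hX⟩ : ∃ X : ι → F, ∀ l, X l = 4 * (v l * v l) := ⟨_, fun _ => rfl⟩
  have h2 := fr.two
  have h4 : (4 : F) ≠ 0 := by rw [show (4 : F) = 2 * 2 by norm_num]; exact mul_ne_zero h2 h2
  have hval : ∀ l, v l ≠ 0 → (X l = 1 ∨ X l = 2 ∨ RootVal (X l)) := by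
    intro l hl
    rw [hX]
    rcases (fr.coordVal hNA hv hab hac hbc ha hb hc l).1 with h | h | h | h
    · exact absurd h (mul_ne_zero h4 (mul_ne_zero hl hl))
    · exact Or.inl h
    · exact Or.inr (Or.inl h)
    · exact Or.inr (Or.inr h)
  have h3 : (3 : F) ≠ 0 := by
    intro h3
    have hsq := fr.small_mul_self (n := 3) (by exact_mod_cast h3) (by norm_num) 2 (by decide) ha
    exact (fr.coordVal hNA hv hab hac hbc ha hb hc a).2 (by linear_combination 4 * hsq)
  have hsum : ∑ l ∈ S, X l = 4 := by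
    have h1 := fr.line_unit hv
    rw [dotProduct, ← Finset.sum_subset (Finset.subset_univ S) (fun l _ hl => by
      simp only [hS, Finset.mem_filter, Finset.mem_univ, true_and, not_not] at hl
      rw [hl, mul_zero])] at h1
    simp only [hX]
    rw [← Finset.mul_sum, h1, mul_one]
  -- no proper part of sum four
  have hproper : ∀ A ⊆ S, A.Nonempty → A ≠ S → ∑ l ∈ A, X l ≠ 4 := by
    intro A hAS ⟨i, hi⟩ hne h
    obtain ⟨o, ho, hoA⟩ := Finset.not_subset.1 (fun hle => hne (Finset.Subset.antisymm hAS hle))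
    have h' := (fr.flipVal hNA hv A hab hac hbc ha hb hc hi ((hmem i).1 (hAS hi)) hoA ((hmem o).1 ho)).2
    simp only [← hX, h] at h'
    exact h' (by ring)
  have hcard : 3 ≤ S.card := by
    rw [← Finset.card_eq_three.2 ⟨a, b, c, hab, hac, hbc, rfl⟩]
    exact Finset.card_le_card (by simp [Finset.insert_subset_iff, hmem, ha, hb, hc])
  have hone : ∀ A ⊆ S, (∀ l ∈ A, X l = 1) → ∑ l ∈ A, X l = (A.card : F) := fun A _ h => by
    rw [Finset.sum_congr rfl h, Finset.sum_const, nsmul_one]
  -- two distinct indices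
  have hsub : ∀ i l, i ≠ l → v i ≠ 0 → v l ≠ 0 → ∃ m, m ≠ i ∧ m ≠ l ∧ v m ≠ 0 := by
    intro i l hil _ _
    obtain ⟨m, hm, hm'⟩ := Finset.exists_mem_notMem_of_card_lt_card (s := {i, l}) (t := S)
      (by rw [Finset.card_pair hil]; omega)
    simp only [Finset.mem_insert, Finset.mem_singleton, not_or] at hm'
    exact ⟨m, hm'.1, hm'.2, (hmem m).1 hm⟩
  have hroot : ∀ i l, i ≠ l → v i ≠ 0 → v l ≠ 0 → RootVal (X i) → RootVal (X l) → X i + X l = 3 := by
    intro i l hil hi hl hri hrl
    have hprod : (X i - X l) * (X i + X l - 3) = 0 := by linear_combination hri.1 - hrl.1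
    rcases mul_eq_zero.1 hprod with h | h
    · obtain ⟨m, hmi, hml, hm⟩ := hsub i l hil hi hl
      have hne2 : 4 * (v i * v i) ≠ 2 := by
        intro e
        rw [← hX] at e
        rw [e] at hri
        exact one_ne_zero (α := F) (by linear_combination -hri.1)
      have hg := fr.prodVal hNA hv hil (Ne.symm hmi) (Ne.symm hml) hi hl hm hne2 l (Ne.symm hil)
      rw [← hX, ← hX, ← sub_eq_zero.1 h] at hg
      exact absurd hg (rootVal_sq h3 h2 hri)
    · exact sub_eq_zero.1 h
  have htwo : ∀ i l, i ≠ l → v i ≠ 0 → v l ≠ 0 → X i = 2 → X l = 1 := by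
    intro i l hil hi hl h
    obtain ⟨m, hmi, hml, hm⟩ := hsub i l hil hi hl
    have h' := fr.flipVal hNA hv {i, l} hab hac hbc ha hb hc (Finset.mem_insert_self i _) hi
      (o := m) (by simp [hmi, hml]) hm
    rw [Finset.sum_pair hil, ← hX, ← hX, h] at h'
    rcases hval l hl with h1 | h1 | h1
    · exact h1
    · rw [h1] at h'
      exact absurd (by ring) h'.2
    · rw [show (2 - (2 + X l)) * (2 - (2 + X l)) = X l * X l by ring] at h'
      exact absurd h'.1 (rootVal_sq h3 h2 h1)
  -- the shapes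
  obtain ⟨i, hi, hXi, hsh⟩ : ∃ i ∈ S, X i = 1 ∧ S.card ≤ 4 ∧ (4 ≤ S.card → ∀ l ∈ S, X l = 1) ∧
      ∃ j ∈ S, j ≠ i ∧ (((3 - 2 * X j) * (3 - 2 * X j) = 1) ∨
        ((3 - 2 * X j) * (3 - 2 * X j) = 5 ∧ (5 : F) ≠ 0)) := by
    by_cases hB : ∃ i ∈ S, X i = 2
    · obtain ⟨t, ht, hXt⟩ := hB
      obtain ⟨i, hi, hit⟩ := Finset.exists_mem_ne (s := S) (by omega) t
      have hXi := htwo t i (Ne.symm hit) ((hmem t).1 ht) ((hmem i).1 hi) hXt
      have hge : S.card ≤ 4 → 4 ≤ S.card → False := fun hle h4' => by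
        have h1 := hone (S.erase t) (Finset.erase_subset _ _) fun x hx =>
          htwo t x (Ne.symm (Finset.mem_erase.1 hx).1) ((hmem t).1 ht) ((hmem x).1 (Finset.mem_erase.1 hx).2) hXt
        rw [Finset.sum_erase_eq_sub ht, hsum, hXt, Finset.card_erase_of_mem ht, show S.card - 1 = 3 by omega] at h1
        exact one_ne_zero (α := F) (by push_cast at h1; linear_combination -h1)
      have hle4 : S.card ≤ 4 := by
        by_contra hgt
        obtain ⟨A, hAS, hA⟩ := Finset.exists_subset_card_eq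
          (show 2 ≤ (S.erase t).card by rw [Finset.card_erase_of_mem ht]; omega)
        have hA' : t ∉ A := fun h => (Finset.mem_erase.1 (hAS h)).1 rfl
        have hAS' : A ⊆ S := fun x hx => (Finset.mem_erase.1 (hAS hx)).2
        refine hproper (insert t A) (Finset.insert_subset ht hAS') (Finset.insert_nonempty _ _)
          (fun e => ?_) ?_
        · have := congrArg Finset.card e
          rw [Finset.card_insert_of_notMem hA', hA] at this
          omega
        · rw [Finset.sum_insert hA', hXt, hone A hAS' fun x hx => htwo t x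
            (fun e => hA' (e ▸ hx)) ((hmem t).1 ht) ((hmem x).1 (hAS' hx)) hXt, hA]
          push_cast; norm_num
      refine ⟨i, hi, hXi, hle4, fun h => (hge hle4 h).elim, t, ht, Ne.symm hit, Or.inl ?_⟩
      rw [hXt]; ring
    push Not at hB
    obtain ⟨R, hR⟩ : ∃ R : Finset ι, R = S.filter fun l => X l ≠ 1 := ⟨_, rfl⟩
    have hRroot : ∀ l ∈ R, RootVal (X l) := fun l hl => by
      rw [hR, Finset.mem_filter] at hl
      exact ((hval l ((hmem l).1 hl.1)).resolve_left hl.2).resolve_left (hB l hl.1)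
    have hRS : R ⊆ S := hR ▸ Finset.filter_subset _ _
    have hN : ∀ l ∈ S \ R, X l = 1 := fun l hl => by
      rw [hR, Finset.mem_sdiff, Finset.mem_filter, not_and, not_not] at hl
      exact hl.2 hl.1
    have hR2 : R.card ≤ 2 := by
      by_contra hgt
      obtain ⟨p, hp, q, hq, r, hr, hpq, hpr, hqr⟩ := Finset.two_lt_card.1 (show 2 < R.card by omega)
      have e1 := hroot p q hpq ((hmem p).1 (hRS hp)) ((hmem q).1 (hRS hq)) (hRroot p hp) (hRroot q hq)
      have e2 := hroot p r hpr ((hmem p).1 (hRS hp)) ((hmem r).1 (hRS hr)) (hRroot p hp) (hRroot r hr)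
      have e3 := hroot q r hqr ((hmem q).1 (hRS hq)) ((hmem r).1 (hRS hr)) (hRroot q hq) (hRroot r hr)
      have : X p = 3 / 2 := by rw [eq_div_iff h2]; linear_combination e1 + e2 - e3
      have h' := (hRroot p hp).1
      rw [this] at h'
      field_simp at h'
      exact (hRroot p hp).five (by linear_combination -h')
    have hsplit : ∑ l ∈ R, X l + ((S \ R).card : F) = 4 := by
      rw [← hone (S \ R) Finset.sdiff_subset hN, add_comm, Finset.sum_sdiff hRS, hsum]
    have hc' : (S \ R).card + R.card = S.card := Finset.card_sdiff_add_card_eq_card hRS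
    obtain hR0 | hR1 | hR2' : R.card = 0 ∨ R.card = 1 ∨ R.card = 2 := by omega
    · rw [Finset.card_eq_zero.1 hR0, Finset.sum_empty, Finset.sdiff_empty, zero_add] at hsplit
      rw [Finset.card_eq_zero.1 hR0, Finset.sdiff_empty] at hN
      obtain ⟨i, hi⟩ := Finset.card_pos.1 (show 0 < S.card by omega)
      obtain ⟨j, hj, hji⟩ := Finset.exists_mem_ne (s := S) (by omega) i
      refine ⟨i, hi, hN i hi, ?_, fun _ => hN, j, hj, hji, Or.inl (by rw [hN j hj]; ring)⟩
      by_contra hgt
      obtain ⟨A, hAS, hA⟩ := Finset.exists_subset_card_eq (show 4 ≤ S.card by omega)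
      refine hproper A hAS (Finset.card_pos.1 (by omega)) (fun e => by rw [e] at hA; omega) ?_
      rw [hone A hAS fun x hx => hN x (hAS hx), hA]
      norm_num
    · obtain ⟨r, hr⟩ := Finset.card_eq_one.1 hR1
      have hrr := hRroot r (by simp [hr])
      rw [hr, Finset.sum_singleton] at hsplit
      have hle : (S \ R).card ≤ 3 := by
        by_contra hgt
        obtain ⟨A, hAS, hA⟩ := Finset.exists_subset_card_eq (show 4 ≤ (S \ R).card by omega)
        have hAS' := hAS.trans Finset.sdiff_subset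
        refine hproper A hAS' (Finset.card_pos.1 (by omega)) (fun e => by rw [e] at hA; omega) ?_
        rw [hone A hAS' fun x hx => hN x (hAS hx), hA]
        norm_num
      rw [hr] at hle
      exfalso
      rcases (show (S \ {r}).card = 2 ∨ (S \ {r}).card = 3 by rw [hr] at hc'; simp at hc'; omega) with h | h
      · rw [h] at hsplit
        have : X r = 2 := by linear_combination hsplit
        exact hB r (hRS (by simp [hr])) this
      · rw [h] at hsplit
        have e1 : X r = 1 := by linear_combination hsplit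
        have := Finset.mem_filter.1 (show r ∈ S.filter (fun l => X l ≠ 1) by rw [← hR, hr]; simp)
        exact this.2 e1
    · obtain ⟨p, q, hpq, hpq'⟩ := Finset.card_eq_two.1 hR2'
      have hpS := hRS (show p ∈ R by simp [hpq'])
      have hqS := hRS (show q ∈ R by simp [hpq'])
      have hp := hRroot p (by simp [hpq'])
      have e1 := hroot p q hpq ((hmem p).1 hpS) ((hmem q).1 hqS) hp (hRroot q (by simp [hpq']))
      obtain ⟨i, hi⟩ := Finset.card_pos.1 (show 0 < (S \ R).card by omega)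
      have hi' := Finset.mem_sdiff.1 hi
      have hiR : i ≠ p ∧ i ≠ q := by simpa [hpq'] using hi'.2
      have hle4 : S.card ≤ 4 := by
        by_contra hgt
        refine hproper {i, p, q} (by simp [Finset.insert_subset_iff, hi'.1, hpS, hqS])
          (Finset.insert_nonempty _ _) (fun e => ?_) ?_
        · rw [← e] at hgt
          have : ({i, p, q} : Finset ι).card ≤ 3 := Finset.card_le_three
          omega
        · rw [Finset.sum_insert (by simp [hiR.1, hiR.2]), Finset.sum_pair hpq, hN i hi, e1]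
          norm_num
      refine ⟨i, hi'.1, hN i hi, hle4, fun h4' => ?_, p, hpS, Ne.symm hiR.1, Or.inr ⟨?_, hp.five⟩⟩
      · rw [hpq', Finset.sum_pair hpq, e1] at hsplit
        rw [hpq', Finset.card_pair hpq] at hc'
        rw [show (S \ {p, q}).card = 2 by omega] at hsplit
        exact absurd (by push_cast at hsplit; linear_combination hsplit) (one_ne_zero (α := F))
      · linear_combination 4 * hp.1
  obtain ⟨hk4, hall, j, hj, hji, hZcase⟩ := hsh
  -- move the coordinate `i` outside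
  obtain ⟨m, hm⟩ : Sᶜ.Nonempty := by
    rw [← Finset.card_pos, Finset.card_compl]
    have := fr.five_le
    omega
  rw [Finset.mem_compl] at hm
  have hvm : v m = 0 := by_contra fun h => hm ((hmem m).2 h)
  have him : i ≠ m := fun e => hm (e ▸ hi)
  obtain ⟨w, hw, hwi, hwm, hwl⟩ : ∃ w ∈ lineSet M, w i = 0 ∧ w m = v i ∧
      ∀ l, l ≠ i → v l ≠ 0 → w l = v l := by
    by_cases hex : ∃ m', m' ≠ m ∧ v m' = 0
    · obtain ⟨m', hm'm, hvm'⟩ := hex
      have him' : i ≠ m' := fun e => (hmem i).1 hi (e ▸ hvm')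
      refine ⟨_, lineSet_apply hv (fr.cycle_mem (a := i) (b := m) (c := m') him (Ne.symm hm'm)),
        ?_, ?_, fun l hl hvl => ?_⟩
      · rw [permQ_apply,
          show (Equiv.swap i m * Equiv.swap m m').symm i = Equiv.swap m m' (Equiv.swap i m i) from rfl,
          Equiv.swap_apply_left, Equiv.swap_apply_left, hvm']
      · rw [permQ_apply,
          show (Equiv.swap i m * Equiv.swap m m').symm m = Equiv.swap m m' (Equiv.swap i m m) from rfl,
          Equiv.swap_apply_right, Equiv.swap_apply_of_ne_of_ne him him']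
      · have hlm : l ≠ m := fun e => hvl (e ▸ hvm)
        have hlm' : l ≠ m' := fun e => hvl (e ▸ hvm')
        rw [permQ_apply,
          show (Equiv.swap i m * Equiv.swap m m').symm l = Equiv.swap m m' (Equiv.swap i m l) from rfl,
          Equiv.swap_apply_of_ne_of_ne hl hlm, Equiv.swap_apply_of_ne_of_ne hlm hlm']
    -- five coordinates and all values equal to one
    push Not at hex
    have hS4 : 4 ≤ S.card := by
      have h1 : (Finset.univ.erase m : Finset ι) ⊆ S := fun l hl =>
        (hmem l).2 (hex l (Finset.mem_erase.1 hl).1)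
      have h2' := Finset.card_le_card h1
      rw [Finset.card_erase_of_mem (Finset.mem_univ m), Finset.card_univ] at h2'
      have := fr.five_le
      omega
    obtain ⟨p, hp, q, hq, hpq⟩ := Finset.one_lt_card.1
      (show 1 < (S.erase i).card by rw [Finset.card_erase_of_mem hi]; omega)
    rw [Finset.mem_erase] at hp hq
    have hpm : p ≠ m := fun e => hm (e ▸ hp.2)
    have hqm : q ≠ m := fun e => hm (e ▸ hq.2)
    have hsq : (v p - v q) * (v p + v q) = 0 := by
      apply mul_left_cancel₀ h4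
      have e1 := hall hS4 p hp.2
      have e2 := hall hS4 q hq.2
      rw [hX] at e1 e2
      linear_combination e1 - e2
    obtain ⟨B, hBsub, hB⟩ : ∃ B : Finset ι, B ⊆ {p, q} ∧
        (if p ∈ B then -1 else 1) * v q = v p ∧ (if q ∈ B then -1 else 1) * v p = v q := by
      rcases mul_eq_zero.1 hsq with h | h
      · exact ⟨∅, by simp, by simp [(sub_eq_zero.1 h).symm], by simp [sub_eq_zero.1 h]⟩
      · exact ⟨{p, q}, subset_rfl, by simp; linear_combination -h, by simp; linear_combination -h⟩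
    have hB' : ∀ l, l ≠ p → l ≠ q → l ∉ B := fun l a b h => by simpa [a, b] using hBsub h
    have hσ : ∀ l, (Equiv.swap i m * Equiv.swap p q).symm l = Equiv.swap p q (Equiv.swap i m l) :=
      fun _ => rfl
    refine ⟨_, lineSet_apply (lineSet_apply hv (fr.swaps_mem (a := i) (b := m) (c := p) (d := q) him hpq))
      (fr.flip_mem B), ?_, ?_, fun l hl hvl => ?_⟩
    · rw [flipQ_apply, if_neg (hB' i (Ne.symm hp.1) (Ne.symm hq.1)), permQ_apply, hσ, Equiv.swap_apply_left,
        Equiv.swap_apply_of_ne_of_ne (Ne.symm hpm) (Ne.symm hqm), hvm]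
    · rw [flipQ_apply, if_neg (hB' m (Ne.symm hpm) (Ne.symm hqm)), permQ_apply, hσ, Equiv.swap_apply_right,
        Equiv.swap_apply_of_ne_of_ne (Ne.symm hp.1) (Ne.symm hq.1)]
    · have hlm : l ≠ m := fun e => hvl (e ▸ hvm)
      rw [flipQ_apply, permQ_apply, hσ, Equiv.swap_apply_of_ne_of_ne hl hlm]
      by_cases hlp : l = p
      · subst hlp
        rw [Equiv.swap_apply_left]
        by_cases hB0 : l ∈ B <;> simp [hB0] at hB ⊢ <;> exact hB.1
      by_cases hlq : l = q
      · subst hlq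
        rw [Equiv.swap_apply_right]
        by_cases hB0 : l ∈ B <;> simp [hB0] at hB ⊢ <;> exact hB.2
      rw [if_neg (hB' l hlp hlq), Equiv.swap_apply_of_ne_of_ne hlp hlq]
  have hvi := (hmem i).1 hi
  have hvj := (hmem j).1 hj
  have hB : ∀ B : Finset ι, m ∉ B →
      4 * (v ⬝ᵥ (flipQ (F := F) B).1 w) = 3 - 2 * ∑ l ∈ (S.erase i) ∩ B, X l ∧
      GoodVal (4 * ((v ⬝ᵥ (flipQ (F := F) B).1 w) * (v ⬝ᵥ (flipQ (F := F) B).1 w))) ∧
      4 * ((v ⬝ᵥ (flipQ (F := F) B).1 w) * (v ⬝ᵥ (flipQ (F := F) B).1 w)) ≠ 4 := by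
    intro B hmB
    refine ⟨?_, fr.pairVal hNA hv (lineSet_apply hw (fr.flip_mem B)) ?_ ?_ him (Ne.symm hji)
      (fun e => hm (e ▸ hj)) (Or.inl hvi) (Or.inr ?_) (Or.inl hvj)⟩
    · rw [dotProduct, ← Finset.sum_subset (Finset.subset_univ (S.erase i)) (fun l _ hl => ?_), Finset.mul_sum]
      · have e : ∑ l ∈ S.erase i, X l = 3 := by
          rw [Finset.sum_erase_eq_sub hi, hsum, hXi]; norm_num
        rw [← e, Finset.sum_ite_mem (S.erase i) B X |>.symm, Finset.mul_sum, ← Finset.sum_sub_distrib]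
        refine Finset.sum_congr rfl fun l hl => ?_
        rw [Finset.mem_erase] at hl
        rw [flipQ_apply, hwl l hl.1 ((hmem l).1 hl.2), hX]
        split_ifs <;> ring
      · by_cases hli : l = i
        · subst hli
          simp [hwi]
        · have : v l = 0 := by_contra fun h => hl (Finset.mem_erase.2 ⟨hli, (hmem l).2 h⟩)
          rw [this, zero_mul]
    · intro e
      have h := congrFun e i
      simp [flipQ_apply, hwi] at h
      exact hvi h.symm
    · intro e
      have h := congrFun e i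
      simp [flipQ_apply, hwi] at h
      exact hvi h
    · rw [flipQ_apply, if_neg hmB, hwm]
      exact hvi
  obtain ⟨hl1, hY, hY4⟩ := hB ∅ (by simp)
  obtain ⟨hl2, hZ, hZ4⟩ := hB {j} (by simp; exact fun e => hm (e ▸ hj))
  rw [Finset.inter_empty, Finset.sum_empty, mul_zero, sub_zero] at hl1
  rw [Finset.inter_singleton_of_mem (Finset.mem_erase.2 ⟨hji, hj⟩), Finset.sum_singleton] at hl2
  obtain ⟨y, hy⟩ : ∃ y, y = v ⬝ᵥ (flipQ (F := F) (∅ : Finset ι)).1 w := ⟨_, rfl⟩
  obtain ⟨z, hz⟩ : ∃ z, z = v ⬝ᵥ (flipQ (F := F) {j}).1 w := ⟨_, rfl⟩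
  rw [← hy] at hl1 hY hY4
  rw [← hz] at hl2 hZ hZ4
  have hY' : 4 * (4 * (y * y)) = 9 := by linear_combination (4 * y + 3) * hl1
  rcases hZcase with h | ⟨h, h5⟩
  · exact final_quarter h3 hY hY4 hY' hZ hZ4 (by linear_combination h + (4 * z + (3 - 2 * X j)) * hl2)
  · exact final_five h3 h5 h2 hY hY' hZ4 (by linear_combination h + (4 * z + (3 - 2 * X j)) * hl2)

/-- a line of weight two has coordinates `±1/√2` -/
theorem weight_two_val {v : ι → F} (hv : v ∈ lineSet M) {i j : ι} (hij : i ≠ j) (hi : v i ≠ 0) (hj : v j ≠ 0) :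
    2 * (v i * v i) = 1 := by
  classical
  have hout : ∀ l, l ≠ i → l ≠ j → v l = 0 := fun l a b =>
    by_contra fun h => fr.weight_le_two hNA hv hij (Ne.symm a) (Ne.symm b) hi hj h
  obtain ⟨m, hm⟩ : ({i, j} : Finset ι)ᶜ.Nonempty := by
    rw [← Finset.card_pos, Finset.card_compl, Finset.card_pair hij]
    have := fr.five_le
    omega
  obtain ⟨m', hm'⟩ : ({i, j, m} : Finset ι)ᶜ.Nonempty := by
    rw [← Finset.card_pos, Finset.card_compl]
    have := fr.five_le
    have : ({i, j, m} : Finset ι).card ≤ 3 := Finset.card_le_three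
    omega
  simp only [Finset.mem_compl, Finset.mem_insert, Finset.mem_singleton, not_or] at hm hm'
  have hw := lineSet_apply hv (fr.cycle_mem (a := j) (b := m) (c := m') (Ne.symm hm.2) (Ne.symm hm'.2.2))
  obtain ⟨w, hwdef⟩ : ∃ w, w = (permQ (F := F) (Equiv.swap j m * Equiv.swap m m')).1 v := ⟨_, rfl⟩
  rw [← hwdef] at hw
  have hwe : ∀ l, w l = v (Equiv.swap m m' (Equiv.swap j m l)) := fun l => by rw [hwdef, permQ_apply]; rfl
  have hwi : w i = v i := by
    rw [hwe, Equiv.swap_apply_of_ne_of_ne hij (Ne.symm hm.1),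
      Equiv.swap_apply_of_ne_of_ne (Ne.symm hm.1) (Ne.symm hm'.1)]
  have hwj : w j = 0 := by
    rw [hwe, Equiv.swap_apply_left, Equiv.swap_apply_left, hout m' hm'.1 hm'.2.1]
  have hwm : w m = v j := by
    rw [hwe, Equiv.swap_apply_right, Equiv.swap_apply_of_ne_of_ne (Ne.symm hm.2) (Ne.symm hm'.2.1)]
  obtain ⟨r, hr, -, hrv⟩ := fr.exists_refl hv
  have hu := lineSet_apply hw hr
  rw [hrv] at hu
  have hdot : v ⬝ᵥ w = v i * v i := by
    rw [dotProduct, Finset.sum_eq_single i (fun l _ hl => ?_) (by simp), hwi]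
    by_cases hlj : l = j
    · rw [hlj, hwj, mul_zero]
    · rw [hout l hl hlj, zero_mul]
  rw [hdot] at hu
  by_contra hne
  refine fr.weight_le_two hNA hu (a := i) (b := j) (c := m) hij (Ne.symm hm.1) (Ne.symm hm.2) ?_ ?_ ?_
  · intro e
    simp only [Pi.sub_apply, Pi.smul_apply, smul_eq_mul, hwi] at e
    exact hne ((mul_left_cancel₀ hi (by linear_combination -e)) : 2 * (v i * v i) = 1)
  · simp [hwj, fr.two, hi, hj]
  · simp [hwm, hout m hm.1 hm.2, hj]

/-- every element of the overgroup is monomial -/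
theorem all_mono {g : quadIsoms (sq ι F)} (hg : g ∈ M) : Mono g := by
  classical
  by_contra hmono
  simp only [Mono, not_forall, not_exists] at hmono
  obtain ⟨a, ha⟩ := hmono
  obtain ⟨v, hvdef⟩ : ∃ v, v = g.1 (Pi.single a 1) := ⟨_, rfl⟩
  have hv : v ∈ lineSet M := ⟨g, hg, a, hvdef.symm⟩
  obtain ⟨i, hi⟩ : ∃ i, v i ≠ 0 := by
    by_contra h
    push Not at h
    have := fr.line_unit hv
    rw [show v = 0 from funext h, zero_dotProduct] at this
    exact zero_ne_one this
  obtain ⟨j, hji, hj⟩ : ∃ j, j ≠ i ∧ v j ≠ 0 := by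
    by_contra h
    push Not at h
    refine ha i (v i) (funext fun l => ?_)
    rw [← hvdef]
    by_cases hl : l = i
    · simp [hl]
    · simp [hl, h l hl]
  have hci := fr.weight_two_val hNA hv (Ne.symm hji) hi hj
  have hcj := fr.weight_two_val hNA hv hji hj hi
  have hvout : ∀ l, l ≠ i → l ≠ j → v l = 0 := fun l p q =>
    by_contra fun h => fr.weight_le_two hNA hv (Ne.symm hji) (Ne.symm p) (Ne.symm q) hi hj h
  -- all pairs
  have hpair : ∀ l, l ≠ a → (Pi.single a (v i) + Pi.single l (v j) : ι → F) ∈ lineSet M := by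
    intro l hla
    obtain ⟨σ, hσ⟩ : ∃ σ : Equiv.Perm ι, σ = Equiv.swap (Equiv.swap i a j) l * Equiv.swap i a := ⟨_, rfl⟩
    have e0 : (Equiv.swap i a) j ≠ a := by
      intro e
      exact hji ((Equiv.swap i a).injective (e.trans (Equiv.swap_apply_left i a).symm))
    have e1 : σ i = a := by
      rw [hσ, Equiv.Perm.mul_apply, Equiv.swap_apply_left,
        Equiv.swap_apply_of_ne_of_ne (Ne.symm e0) (Ne.symm hla)]
    have e2 : σ j = l := by rw [hσ, Equiv.Perm.mul_apply, Equiv.swap_apply_left]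
    obtain ⟨τ, hτ, h1, h2⟩ : ∃ τ : Equiv.Perm ι, Equiv.Perm.sign τ = 1 ∧ τ i = a ∧ τ j = l := by
      rcases Int.units_eq_one_or (Equiv.Perm.sign σ) with h | h
      · exact ⟨σ, h, e1, e2⟩
      obtain ⟨p, hp⟩ : ({a, l} : Finset ι)ᶜ.Nonempty := by
        rw [← Finset.card_pos, Finset.card_compl, Finset.card_pair (Ne.symm hla)]
        have := fr.five_le
        omega
      obtain ⟨q, hq⟩ : ({a, l, p} : Finset ι)ᶜ.Nonempty := by
        rw [← Finset.card_pos, Finset.card_compl]
        have := fr.five_le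
        have : ({a, l, p} : Finset ι).card ≤ 3 := Finset.card_le_three
        omega
      simp only [Finset.mem_compl, Finset.mem_insert, Finset.mem_singleton, not_or] at hp hq
      refine ⟨Equiv.swap p q * σ, ?_, ?_, ?_⟩
      · rw [map_mul, h, Equiv.Perm.sign_swap (Ne.symm hq.2.2)]; rfl
      · rw [Equiv.Perm.mul_apply, e1, Equiv.swap_apply_of_ne_of_ne (Ne.symm hp.1) (Ne.symm hq.1)]
      · rw [Equiv.Perm.mul_apply, e2, Equiv.swap_apply_of_ne_of_ne (Ne.symm hp.2) (Ne.symm hq.2.1)]
    have hve : v = Pi.single i (v i) + Pi.single j (v j) := by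
      funext x
      by_cases hx : x = i
      · subst hx; simp [Ne.symm hji]
      by_cases hx' : x = j
      · subst hx'; simp [hji]
      simp [hx, hx', hvout x hx hx']
    have h := lineSet_apply hv (fr.perm_mem hτ)
    rwa [congrArg (fun u => (permQ (F := F) τ).1 u) hve, map_add, permQ_single, permQ_single, h1, h2] at h
  have himg : ∀ l, l ≠ a → ∀ m, m ≠ i → m ≠ j → g.1 (Pi.single l 1) m = 0 := by
    intro l hla m hmi hmj
    by_contra hm
    obtain ⟨w, hwdef⟩ : ∃ w, w = g.1 (Pi.single l 1) := ⟨_, rfl⟩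
    rw [← hwdef] at hm
    have hw : w ∈ lineSet M := ⟨g, hg, l, hwdef.symm⟩
    have e : ∀ c d : F, (g.1 (Pi.single a c + Pi.single l d)) = c • v + d • w := by
      intro c d
      rw [map_add, hvdef, hwdef, ← map_smul, ← map_smul, ← Pi.single_smul, ← Pi.single_smul, smul_eq_mul,
        smul_eq_mul, mul_one, mul_one]
    have p1 := lineSet_apply (hpair l hla) hg
    have p2 := lineSet_apply (lineSet_apply (hpair l hla) (fr.flip_mem {l})) hg
    rw [map_add, flipQ_single, flipQ_single, if_neg (by simpa using Ne.symm hla),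
      if_pos (Finset.mem_singleton_self l)] at p2
    rw [e] at p1 p2
    have hm1 : ∀ d : F, d ≠ 0 → (v i • v + d • w) m ≠ 0 := fun d hd => by simp [hvout m hmi hmj, hd, hm]
    by_cases hwi : w i = 0
    · by_cases h1 : (v i • v + v j • w) j = 0
      · refine fr.weight_le_two hNA p2 (Ne.symm hji) (Ne.symm hmi) (Ne.symm hmj) ?_ ?_
          (hm1 _ (neg_ne_zero.2 hj))
        · simp [hwi, hi]
        · intro h0
          simp only [Pi.add_apply, Pi.smul_apply, smul_eq_mul] at h1 h0
          have : 2 * (v i * v j) = 0 := by linear_combination h1 + h0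
          exact mul_ne_zero fr.two (mul_ne_zero hi hj) this
      · exact fr.weight_le_two hNA p1 (Ne.symm hji) (Ne.symm hmi) (Ne.symm hmj) (by simp [hwi, hi]) h1
          (hm1 _ hj)
    · by_cases hwj : w j = 0
      · by_cases h1 : (v i • v + v j • w) i = 0
        · refine fr.weight_le_two hNA p2 (Ne.symm hji) (Ne.symm hmi) (Ne.symm hmj) ?_ ?_
            (hm1 _ (neg_ne_zero.2 hj))
          · intro h0
            simp only [Pi.add_apply, Pi.smul_apply, smul_eq_mul] at h1 h0
            have : 2 * (v i * v i) = 0 := by linear_combination h1 + h0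
            exact mul_ne_zero fr.two (mul_ne_zero hi hi) this
          · simp [hwj, hi, hj]
        · exact fr.weight_le_two hNA p1 (Ne.symm hji) (Ne.symm hmi) (Ne.symm hmj) h1 (by simp [hwj, hi, hj])
            (hm1 _ hj)
      · exact fr.weight_le_two hNA hw (Ne.symm hji) (Ne.symm hmi) (Ne.symm hmj) hwi hwj hm
  obtain ⟨l, hl, l', hl', hll⟩ : ∃ l, l ≠ a ∧ ∃ l', l' ≠ a ∧ l ≠ l' := by
    obtain ⟨l, hl, l', hl', hne⟩ := Finset.one_lt_card.1 (show 1 < ({a} : Finset ι)ᶜ.card by
      rw [Finset.card_compl, Finset.card_singleton]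
      have := fr.five_le
      omega)
    simp only [Finset.mem_compl, Finset.mem_singleton] at hl hl'
    exact ⟨l, hl, l', hl', hne⟩
  have hline : ∀ k, k ≠ a → ∃ c : F, g.1 (Pi.single k 1) = c • (Pi.single i (v j) - Pi.single j (v i)) := by
    intro k hk
    refine ⟨g.1 (Pi.single k 1) i / v j, funext fun x => ?_⟩
    have horth : v ⬝ᵥ g.1 (Pi.single k 1) = 0 := by
      rw [hvdef, fr.dot_map, dotProduct_single, Pi.single_eq_of_ne hk, zero_mul]
    rw [dotProduct, ← Finset.sum_subset (Finset.subset_univ {i, j}) (fun y _ hy => by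
      simp only [Finset.mem_insert, Finset.mem_singleton, not_or] at hy
      rw [hvout y hy.1 hy.2, zero_mul]), Finset.sum_pair (Ne.symm hji)] at horth
    by_cases hx : x = i
    · subst hx
      simp [Ne.symm hji, div_mul_cancel₀ _ hj]
    by_cases hx' : x = j
    · subst hx'
      simp [hji]
      field_simp
      linear_combination horth
    · simp [hx, hx', himg k hk x hx hx']
  obtain ⟨c, hc⟩ := hline l hl
  obtain ⟨c', hc'⟩ := hline l' hl'
  have hd : g.1 (Pi.single l 1) ⬝ᵥ g.1 (Pi.single l 1) = 1 := fr.line_unit ⟨g, hg, l, rfl⟩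
  have hd' : g.1 (Pi.single l' 1) ⬝ᵥ g.1 (Pi.single l' 1) = 1 := fr.line_unit ⟨g, hg, l', rfl⟩
  have h0 : g.1 (Pi.single l 1) ⬝ᵥ g.1 (Pi.single l' 1) = 0 := by
    rw [fr.dot_map, dotProduct_single, Pi.single_eq_of_ne (Ne.symm hll), zero_mul]
  rw [hc] at hd h0
  rw [hc'] at hd' h0
  simp only [smul_dotProduct, dotProduct_smul, smul_eq_mul] at hd hd' h0
  exact zero_ne_one (α := F) (by
    obtain ⟨K, hK⟩ : ∃ K, K = (Pi.single i (v j) - Pi.single j (v i) : ι → F) ⬝ᵥ
        (Pi.single i (v j) - Pi.single j (v i)) := ⟨_, rfl⟩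
    rw [← hK] at hd hd' h0
    linear_combination (c' * (c' * K)) * hd + hd' - (c * (c' * K)) * h0)

end Frame

end CfsgLib.MaxSub.OMono
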