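import Cfsg.Agent.Lib.MaxSub.OMonoFrame

/-!
Overgroups of the monomial group of the sum of squares: a Siegel transformation at a coordinate vector gives
the whole commutator subgroup.
-/

set_option autoImplicit false
set_option linter.unusedSectionVars false

namespace CfsgLib.MaxSub.OMono

open CfsgLib.Classical CfsgLib.Geom CfsgLib.Geom.OrthSub CfsgLib.MaxSub CfsgLib.MaxSub.OFrame
open QuadraticMap (polar)
open scoped Matrix

variable {ι F : Type*} [Fintype ι] [DecidableEq ι] [Field F]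

/-- agreeing with a multiple of `u` outside three coordinates -/
def NearLine (u : ι → F) (o j k : ι) (y : ι → F) : Prop :=
  ∃ c : F, ∀ l, l ≠ o → l ≠ j → l ≠ k → y l = c * u l

theorem flipQ_single_self (j : ι) (u : ι → F) :
    (flipQ (F := F) {j}).1 u = u - (2 * u j) • Pi.single j 1 := by
  funext l
  by_cases h : l = j
  · subst h
    simp [two_mul]
  · simp [h]

theorem flipQ_pair (j k : ι) (hjk : j ≠ k) (u : ι → F) :
    (flipQ (F := F) {j, k}).1 u = u - (2 * u j) • Pi.single j 1 - (2 * u k) • Pi.single k 1 := by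
  funext l
  by_cases h : l = j
  · subst h
    simp [two_mul, hjk, Ne.symm hjk]
  by_cases h' : l = k
  · subst h'
    simp [two_mul, h]
  · simp [h, h']

namespace Frame

variable {M : Subgroup (quadIsoms (sq ι F))} (fr : Frame M)
include fr

/-- the Siegel parameters at `u`, as a subspace -/
def wSpace {u : ι → F} (hu : sq ι F u = 0) : Submodule F (ι → F) where
  toAddSubmonoid := (wSub M hu).toAddSubmonoid
  smul_mem' c _ hw := fr.inW_smul hu hw c

theorem mem_wSpace {u w : ι → F} {hu : sq ι F u = 0} : w ∈ fr.wSpace hu ↔ InW M u w := Iff.rfl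

theorem inW_of_smul {u w : ι → F} (hu : sq ι F u = 0) {c : F} (hc : c ≠ 0)
    (h : InW M (c • u) w) : InW M u w := by
  obtain ⟨h1, h2⟩ := h
  rw [QuadraticMap.polar_smul_left, smul_eq_mul, mul_eq_zero] at h1
  have h1' := h1.resolve_left hc
  rw [siegel_smul _ hu h1'] at h2
  have h' : InW M u (c • w) := ⟨by rw [QuadraticMap.polar_smul_right, h1', smul_zero], h2⟩
  simpa [smul_smul, inv_mul_cancel₀ hc] using fr.inW_smul hu h' c⁻¹

theorem inW_flip_sub {u w : ι → F} (hu : sq ι F u = 0) {l : ι} (hl : u l = 0) (h : InW M u w)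
    (hwl : w l ≠ 0) : InW M u (Pi.single l 1) := by
  have h1 := h.conj (fr.flip_mem {l})
  rw [flipQ_single_self, flipQ_single_self, hl] at h1
  simp only [mul_zero, zero_smul, sub_zero] at h1
  have h2 := sub_mem ((fr.mem_wSpace (hu := hu)).2 h) ((fr.mem_wSpace (hu := hu)).2 h1)
  rw [sub_sub_cancel] at h2
  exact (fr.mem_wSpace (hu := hu)).1
    ((Submodule.smul_mem_iff _ (mul_ne_zero fr.two hwl)).1 h2)

theorem inW_spread {u : ι → F} (hu : sq ι F u = 0) {o : ι} (ho : u o = 0) (h : InW M u (Pi.single o 1))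
    {S : Finset ι} (hS : ∀ l ∉ S, u l = 0) (hn : S.card + 3 ≤ Fintype.card ι) {l : ι} (hl : u l = 0) :
    InW M u (Pi.single l 1) := by
  rcases eq_or_ne l o with rfl | hlo
  · exact h
  obtain ⟨m, hm⟩ : (S ∪ {o, l})ᶜ.Nonempty := by
    rw [← Finset.card_pos, Finset.card_compl]
    have := Finset.card_union_le S {o, l}
    have : ({o, l} : Finset ι).card ≤ 2 := Finset.card_le_two
    omega
  simp only [Finset.mem_compl, Finset.mem_union, Finset.mem_insert, Finset.mem_singleton, not_or] at hm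
  obtain ⟨hmS, hmo, hml⟩ := hm
  have h1 := h.conj (fr.cycle_mem (a := o) (b := l) (c := m) (Ne.symm hlo) (Ne.symm hml))
  have e1 : (permQ (F := F) (Equiv.swap o l * Equiv.swap l m)).1 u = u := by
    funext x
    rw [permQ_apply]
    have hm0 := hS m hmS
    show u ((Equiv.swap o l * Equiv.swap l m).symm x) = u x
    rw [show (Equiv.swap o l * Equiv.swap l m).symm x = Equiv.swap l m (Equiv.swap o l x) from rfl]
    simp only [Equiv.swap_apply_def]
    split_ifs <;> simp_all
  have e2 : (permQ (F := F) (Equiv.swap o l * Equiv.swap l m)).1 (Pi.single o (1 : F)) = Pi.single l 1 := by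
    rw [permQ_single]
    congr 1
    rw [Equiv.Perm.mul_apply, Equiv.swap_apply_of_ne_of_ne (Ne.symm hlo) (Ne.symm hmo),
      Equiv.swap_apply_left]
  rwa [e1, e2] at h1

/-- moving `o` to `l` while two equal values are swapped -/
theorem inW_spread_pair {u : ι → F} {o a b : ι} (ho : u o = 0) (h : InW M u (Pi.single o 1)) (hab : a ≠ b)
    (ha : u a ≠ 0) (hb : u b ≠ 0) (hsq : u a * u a = u b * u b) {l : ι} (hl : u l = 0) :
    InW M u (Pi.single l 1) := by
  rcases eq_or_ne l o with rfl | hlo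
  · exact h
  have hoa : o ≠ a := fun e => ha (e ▸ ho)
  have hob : o ≠ b := fun e => hb (e ▸ ho)
  have hla : l ≠ a := fun e => ha (e ▸ hl)
  have hlb : l ≠ b := fun e => hb (e ▸ hl)
  obtain ⟨B, hBsub, hB⟩ : ∃ B : Finset ι, B ⊆ {a, b} ∧
      (if a ∈ B then -1 else 1) * u b = u a ∧ (if b ∈ B then -1 else 1) * u a = u b := by
    have h0 : (u a - u b) * (u a + u b) = 0 := by linear_combination hsq
    rcases mul_eq_zero.1 h0 with e | e
    · exact ⟨∅, by simp, by simp [(sub_eq_zero.1 e).symm], by simp [sub_eq_zero.1 e]⟩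
    · exact ⟨{a, b}, subset_rfl, by simp; linear_combination -e, by simp; linear_combination -e⟩
  have hB' : ∀ x, x ≠ a → x ≠ b → x ∉ B := fun x p q hx => by simpa [p, q] using hBsub hx
  have hσ : ∀ x, (Equiv.swap o l * Equiv.swap a b).symm x = Equiv.swap a b (Equiv.swap o l x) := fun _ => rfl
  have h1 := (h.conj (fr.swaps_mem (a := o) (b := l) (c := a) (d := b) (Ne.symm hlo) hab)).conj (fr.flip_mem B)
  have e1 : (flipQ (F := F) B).1 ((permQ (F := F) (Equiv.swap o l * Equiv.swap a b)).1 u) = u := by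
    funext x
    rw [flipQ_apply, permQ_apply, hσ]
    by_cases hxa : x = a
    · subst hxa
      rw [Equiv.swap_apply_of_ne_of_ne (Ne.symm hoa) (Ne.symm hla), Equiv.swap_apply_left]
      by_cases hB0 : x ∈ B <;> simp [hB0] at hB ⊢ <;> exact hB.1
    by_cases hxb : x = b
    · subst hxb
      rw [Equiv.swap_apply_of_ne_of_ne (Ne.symm hob) (Ne.symm hlb), Equiv.swap_apply_right]
      by_cases hB0 : x ∈ B <;> simp [hB0] at hB ⊢ <;> exact hB.2
    rw [if_neg (hB' x hxa hxb)]
    by_cases hxo : x = o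
    · subst hxo; rw [Equiv.swap_apply_left, Equiv.swap_apply_of_ne_of_ne hla hlb, hl, ho]
    by_cases hxl : x = l
    · subst hxl; rw [Equiv.swap_apply_right, Equiv.swap_apply_of_ne_of_ne hoa hob, hl, ho]
    rw [Equiv.swap_apply_of_ne_of_ne hxo hxl, Equiv.swap_apply_of_ne_of_ne hxa hxb]
  have e2 : (flipQ (F := F) B).1 ((permQ (F := F) (Equiv.swap o l * Equiv.swap a b)).1 (Pi.single o 1)) =
      Pi.single l 1 := by
    rw [permQ_single, show (Equiv.swap o l * Equiv.swap a b) o = Equiv.swap o l (Equiv.swap a b o) from rfl,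
      Equiv.swap_apply_of_ne_of_ne hoa hob, Equiv.swap_apply_left, flipQ_single, if_neg (hB' l hla hlb)]
  rwa [e1, e2] at h1

theorem full_of {u : ι → F} (hu : sq ι F u = 0) (S : Finset ι)
    (hout : ∀ l ∉ S, InW M u (Pi.single l 1))
    (hin : ∀ z, u ⬝ᵥ z = 0 → (∀ l ∉ S, z l = 0) → InW M u z) : Full M u := by
  intro z hz
  rw [polar_sq, mul_eq_zero] at hz
  have hz' := hz.resolve_left fr.two
  obtain ⟨z2, hz2⟩ : ∃ z2, z2 = ∑ l ∈ Sᶜ, z l • (Pi.single l 1 : ι → F) := ⟨_, rfl⟩
  have hmem : z2 ∈ fr.wSpace hu := by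
    rw [hz2]
    exact sum_mem fun l hl => Submodule.smul_mem _ _ (hout l (Finset.mem_compl.1 hl))
  have h0 : u ⬝ᵥ z2 = 0 := by
    have h := ((fr.mem_wSpace (hu := hu)).1 hmem).1
    rw [polar_sq, mul_eq_zero] at h
    exact h.resolve_left fr.two
  have happ : ∀ m ∉ S, z2 m = z m := fun m hm => by
    rw [hz2, Finset.sum_apply, Finset.sum_eq_single m (fun l _ hlm => by simp [Ne.symm hlm])
      (fun h => absurd (Finset.mem_compl.2 hm) h)]
    simp
  have h1 : z - z2 ∈ fr.wSpace hu := hin _ (by rw [dotProduct_sub, hz', h0, sub_self])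
    fun l hl => by rw [Pi.sub_apply, happ l hl, sub_self]
  exact ((fr.mem_wSpace (hu := hu)).1 (sub_add_cancel z z2 ▸ add_mem h1 hmem)).2

theorem le_of_full {u : ι → F} (hu : sq ι F u = 0) (h : Full M u) {i : ι} (hi : u i ≠ 0) :
    commutator (quadIsoms (sq ι F)) ≤ M := by
  haveI := fr.finite
  refine commutator_le_of_pair fr.sep fr.five h (h.conj (fr.flip_mem {i})) hu ?_ ?_
  · rw [(flipQ (F := F) {i}).2, hu]
  · rw [sq_apply] at hu
    rw [polar_sq, flipQ_single_self, dotProduct_sub, hu, dotProduct_smul, dotProduct_single, smul_eq_mul,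
      mul_one, zero_sub, mul_neg, neg_ne_zero]
    exact mul_ne_zero fr.two (mul_ne_zero (mul_ne_zero fr.two hi) hi)

/-- support of two elements -/
theorem le_of_two {u : ι → F} {o j k : ι} (hu : sq ι F u = 0) (ho : u o = 0) (h : InW M u (Pi.single o 1))
    (hj : u j ≠ 0) (hk : u k ≠ 0) (hjk : j ≠ k) (hS : ∀ l ∉ ({j, k} : Finset ι), u l = 0) :
    commutator (quadIsoms (sq ι F)) ≤ M := by
  refine fr.le_of_full hu (fr.full_of hu {j, k} (fun l hl => fr.inW_spread hu ho h hS ?_ (hS l hl)) ?_) hj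
  · rw [Finset.card_pair hjk]
    have := fr.five_le
    omega
  · intro z hz hzS
    have h1 : u j * z j + u k * z k = 0 := by
      rw [← hz, dotProduct, ← Finset.sum_subset (Finset.subset_univ {j, k})
        (fun l _ hl => by rw [hS l hl, zero_mul]), Finset.sum_pair hjk]
    have h2 : u j * u j + u k * u k = 0 := by
      rw [sq_apply, dotProduct, ← Finset.sum_subset (Finset.subset_univ {j, k})
        (fun l _ hl => by rw [hS l hl, zero_mul]), Finset.sum_pair hjk] at hu
      exact hu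
    have e : z = (z j / u j) • u := by
      funext l
      simp only [Pi.smul_apply, smul_eq_mul]
      by_cases hlj : l = j
      · subst hlj
        field_simp
      by_cases hlk : l = k
      · subst hlk
        have h3 : u l * (z j * u l - z l * u j) = 0 := by linear_combination z j * h2 - u j * h1
        have h4 := (mul_eq_zero.1 h3).resolve_left hk
        field_simp
        linear_combination -h4
      · rw [hzS l (by simp [hlj, hlk]), hS l (by simp [hlj, hlk]), mul_zero]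
    rw [e]
    exact fr.inW_smul hu (fr.inW_self hu) _

theorem nearLine_full {u : ι → F} {o j k : ι} (hu : u ⬝ᵥ u = 0) (ho : u o = 0)
    (h : InW M u (Pi.single o 1)) (hj : u j ≠ 0) (hk : u k ≠ 0) (hjk : j ≠ k)
    (hs : u j * u j + u k * u k ≠ 0) {t : F} (ht : t ≠ 0)
    (hD : u j * u j + u k * u k + 4 * (u j * u j) * (u k * u k) * (t * t) ≠ 0)
    (hE : u j * u j + u k * u k - 4 * (u j * u j) * (u k * u k) * (t * t) ≠ 0) :
    ∀ y, NearLine u o j k y → (flipQ (F := F) {j, k}).1 u ⬝ᵥ y = 0 →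
      InW M ((flipQ (F := F) {j, k}).1 u) y := by
  have hoj : o ≠ j := fun e => hj (e ▸ ho)
  have hok : o ≠ k := fun e => hk (e ▸ ho)
  obtain ⟨a, ha⟩ : ∃ a, a = u j * u j := ⟨_, rfl⟩
  obtain ⟨b, hb⟩ : ∃ b, b = u k * u k := ⟨_, rfl⟩
  rw [← ha, ← hb] at hs hD hE
  obtain ⟨u1, hu1⟩ : ∃ u1, u1 = (flipQ (F := F) {j}).1 u := ⟨_, rfl⟩
  obtain ⟨u2, hu2⟩ : ∃ u2, u2 = (flipQ (F := F) {j, k}).1 u := ⟨_, rfl⟩
  obtain ⟨e, he⟩ : ∃ e : ι → F, e = Pi.single o 1 := ⟨_, rfl⟩
  rw [← hu2]
  rw [← he] at h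
  have hf1 : u1 = u - (2 * u j) • Pi.single j 1 := by rw [hu1, flipQ_single_self]
  have hf2 : u2 = u - (2 * u j) • Pi.single j 1 - (2 * u k) • Pi.single k 1 := by
    rw [hu2, flipQ_pair j k hjk]
  have d11 : u1 ⬝ᵥ u1 = 0 := by rw [hu1, fr.dot_map, hu]
  have d22 : u2 ⬝ᵥ u2 = 0 := by rw [hu2, fr.dot_map, hu]
  have due : u ⬝ᵥ e = 0 := by rw [he, dotProduct_single, ho, zero_mul]
  have d1e : u1 ⬝ᵥ e = 0 := by rw [he, dotProduct_single, hu1]; simp [ho]
  have d2e : u2 ⬝ᵥ e = 0 := by rw [he, dotProduct_single, hu2]; simp [ho]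
  have dee : e ⬝ᵥ e = 1 := by rw [he, dotProduct_single]; simp
  have du1 : u ⬝ᵥ u1 = -(2 * a) := by
    rw [hf1, dotProduct_sub, hu, dotProduct_smul, dotProduct_single, smul_eq_mul, ha]
    ring
  have du2 : u ⬝ᵥ u2 = -(2 * (a + b)) := by
    rw [hf2, dotProduct_sub, dotProduct_sub, hu, dotProduct_smul, dotProduct_smul, dotProduct_single,
      dotProduct_single, smul_eq_mul, smul_eq_mul, ha, hb]
    ring
  have d12 : u1 ⬝ᵥ u2 = -(2 * b) := by
    rw [hf2, dotProduct_sub, dotProduct_sub, dotProduct_comm u1 u, du1, dotProduct_smul, dotProduct_smul,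
      dotProduct_single, dotProduct_single, hu1]
    simp [hb, ha, Ne.symm hjk]
    ring
  have hQ1 : sq ι F u1 = 0 := by rw [sq_apply, d11]
  have hQu : sq ι F u = 0 := by rw [sq_apply, hu]
  have h1 : InW M u1 e := by
    have hc := h.conj (fr.flip_mem {j})
    rwa [← hu1, he, flipQ_single, if_neg (by simpa using hoj), ← he] at hc
  have h2 : InW M u2 e := by
    have hc := h.conj (fr.flip_mem {j, k})
    rwa [← hu2, he, flipQ_single, if_neg (by simp [hoj, hok]), ← he] at hc
  -- the moving elements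
  have hg : ∀ c : F, InW M u1 (c • e) := fun c => fr.inW_smul hQ1 h1 c
  have hgapp : ∀ c : F, ∀ x, (siegel (sq ι F) u1 (c • e)).1 x =
      x + (2 * (u1 ⬝ᵥ x)) • (c • e) - (2 * (c * (e ⬝ᵥ x)) + c * c * (2 * (u1 ⬝ᵥ x))) • u1 := by
    intro c x
    rw [siegel_sq_apply d11 (by rw [dotProduct_smul, d1e, smul_zero]), smul_dotProduct, smul_dotProduct,
      dotProduct_smul, dee]
    simp
  obtain ⟨D, hDdef⟩ : ∃ D, D = a + b + 4 * a * b * (t * t) := ⟨_, rfl⟩
  rw [← hDdef] at hD
  obtain ⟨s, hs'⟩ : ∃ s, s = -(2 * b * t) / D := ⟨_, rfl⟩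
  have hsD : s * D = -(2 * b * t) := by rw [hs', div_mul_cancel₀ _ hD]
  obtain ⟨γ, hγ⟩ : ∃ γ, γ = 2 * s * (1 + 4 * a * t * s) := ⟨_, rfl⟩
  have hγ0 : γ ≠ 0 := by
    have hb0 : b ≠ 0 := by rw [hb]; exact mul_ne_zero hk hk
    have hs0 : s ≠ 0 := by
      intro e0
      rw [e0, zero_mul, zero_eq_neg, mul_eq_zero, mul_eq_zero] at hsD
      rcases hsD with (h | h) | h
      exacts [fr.two h, hb0 h, ht h]
    rw [hγ]
    refine mul_ne_zero (mul_ne_zero fr.two hs0) fun e0 => hE ?_
    linear_combination D * e0 - 4 * a * t * hsD - hDdef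
  obtain ⟨z, hz⟩ : ∃ z, z = u2 + (4 * b * t) • e + (4 * b * t * t) • u1 := ⟨_, rfl⟩
  have hw : InW M z (e + (2 * t) • u1) := by
    have hc := h2.conj (hg (-t)).2
    have e1 : (siegel (sq ι F) u1 ((-t) • e)).1 u2 = z := by
      rw [hgapp, d12, dotProduct_comm e u2, d2e, hz]
      module
    have e2 : (siegel (sq ι F) u1 ((-t) • e)).1 e = e + (2 * t) • u1 := by
      rw [hgapp, d1e, dee]
      module
    rwa [e1, e2] at hc
  have hX : InW M z ((e + (2 * t) • u1) + ((-(4 * t)) • u1 + (8 * a * t * s) • e - γ • u)) := by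
    have hc := (h2.conj (hg t).2).conj (fr.inW_smul hQu h s).2
    have e1 : (siegel (sq ι F) u1 (t • e)).1 u2 = u2 + (-(4 * b * t)) • e + (4 * b * t * t) • u1 := by
      rw [hgapp, d12, dotProduct_comm e u2, d2e]
      module
    have e2 : (siegel (sq ι F) u1 (t • e)).1 e = e + (-(2 * t)) • u1 := by
      rw [hgapp, d1e, dee]
      module
    have happ : ∀ x, (siegel (sq ι F) u (s • e)).1 x =
        x + (2 * (u ⬝ᵥ x)) • (s • e) - (2 * (s * (e ⬝ᵥ x)) + s * s * (2 * (u ⬝ᵥ x))) • u := by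
      intro x
      rw [siegel_sq_apply hu (by rw [dotProduct_smul, due, smul_zero]), smul_dotProduct, smul_dotProduct,
        dotProduct_smul, dee]
      simp
    have v1 : u ⬝ᵥ (u2 + (-(4 * b * t)) • e + (4 * b * t * t) • u1) = -(2 * D) := by
      simp only [dotProduct_add, dotProduct_smul, du2, due, du1, smul_eq_mul, hDdef]
      ring
    have v2 : e ⬝ᵥ (u2 + (-(4 * b * t)) • e + (4 * b * t * t) • u1) = -(4 * b * t) := by
      simp only [dotProduct_add, dotProduct_smul, dotProduct_comm e u2, d2e, dee, dotProduct_comm e u1, d1e,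
        smul_eq_mul]
      ring
    have v3 : u ⬝ᵥ (e + (-(2 * t)) • u1) = 4 * a * t := by
      simp only [dotProduct_add, dotProduct_smul, due, du1, smul_eq_mul]
      ring
    have v4 : e ⬝ᵥ (e + (-(2 * t)) • u1) = 1 := by
      simp only [dotProduct_add, dotProduct_smul, dee, dotProduct_comm e u1, d1e, smul_eq_mul]
      ring
    have e3 : (siegel (sq ι F) u (s • e)).1 (u2 + (-(4 * b * t)) • e + (4 * b * t * t) • u1) = z := by
      rw [happ, v1, v2, hz]
      match_scalars
      · ring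
      · linear_combination -4 * hsD
      · ring
      · linear_combination 4 * s * hsD
    have e4 : (siegel (sq ι F) u (s • e)).1 (e + (-(2 * t)) • u1) =
        (e + (2 * t) • u1) + ((-(4 * t)) • u1 + (8 * a * t * s) • e - γ • u) := by
      rw [happ, v3, v4, hγ]
      module
    rwa [e1, e2, e3, e4] at hc
  have hQz : sq ι F z = 0 := by
    rw [sq_apply, hz]
    simp only [dotProduct_add, add_dotProduct, dotProduct_smul, smul_dotProduct, d22, d2e, dee, d11, d1e,
      d12, dotProduct_comm e u2, dotProduct_comm e u1, dotProduct_comm u2 u1, smul_eq_mul]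
    ring
  have hzu1 : z ⬝ᵥ u1 ≠ 0 := by
    rw [hz]
    simp only [add_dotProduct, smul_dotProduct, dotProduct_comm u2 u1, d12, dotProduct_comm e u1, d1e,
      d11, smul_eq_mul, mul_zero, add_zero, neg_ne_zero]
    exact mul_ne_zero fr.two (hb ▸ mul_ne_zero hk hk)
  have hzspace : ∀ y, NearLine u o j k y → z ⬝ᵥ y = 0 → InW M z y := by
    intro y ⟨c, hc⟩ hzy
    -- coordinates in the frame `e, u, u1, u2`
    obtain ⟨y3, hy3⟩ : ∃ y3, y3 = (c * u k - y k) / (2 * u k) := ⟨_, rfl⟩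
    obtain ⟨y2, hy2⟩ : ∃ y2, y2 = (c * u j - y j) / (2 * u j) - y3 := ⟨_, rfl⟩
    obtain ⟨y1, hy1⟩ : ∃ y1, y1 = c - y2 - y3 := ⟨_, rfl⟩
    have hy : y = y o • e + y1 • u + y2 • u1 + y3 • u2 := by
      funext l
      have h2' := fr.two
      simp only [Pi.add_apply, Pi.smul_apply, smul_eq_mul, hf1, hf2, he, Pi.sub_apply]
      by_cases hlo : l = o
      · subst hlo
        simp [ho, hoj, hok]
      by_cases hlj : l = j
      · subst hlj
        simp [hlo, hjk, hy1, hy2]
        field_simp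
        ring
      by_cases hlk : l = k
      · subst hlk
        simp [hlo, hlj, hy1, hy3]
        field_simp
        ring
      · simp [hlo, hlj, hlk, hc l hlo hlj hlk, hy1]
        ring
    obtain ⟨X, hXdef⟩ : ∃ X, X = (-(4 * t)) • u1 + (8 * a * t * s) • e - γ • u := ⟨_, rfl⟩
    rw [← hXdef] at hX
    obtain ⟨w, hwdef⟩ : ∃ w, w = e + (2 * t) • u1 := ⟨_, rfl⟩
    rw [← hwdef] at hX hw
    have mz := (fr.mem_wSpace (hu := hQz)).2 (fr.inW_self hQz)
    have mw := (fr.mem_wSpace (hu := hQz)).2 hw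
    have mX : X ∈ fr.wSpace hQz := by
      have := sub_mem ((fr.mem_wSpace (hu := hQz)).2 hX) mw
      rwa [add_sub_cancel_left] at this
    obtain ⟨c0, hc0⟩ : ∃ c0, c0 = y o - y3 * (4 * b * t) + y1 / γ * (8 * a * t * s) := ⟨_, rfl⟩
    obtain ⟨m, hm⟩ : ∃ m, m = y3 • z - (y1 / γ) • X + c0 • w := ⟨_, rfl⟩
    have hmm : m ∈ fr.wSpace hQz := by
      rw [hm]
      exact add_mem (sub_mem (Submodule.smul_mem _ _ mz) (Submodule.smul_mem _ _ mX))
        (Submodule.smul_mem _ _ mw)
    obtain ⟨c2, hc2⟩ : ∃ c2, y - m = c2 • u1 := by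
      refine ⟨y2 - y3 * (4 * b * t * t) + y1 / γ * (-(4 * t)) - c0 * (2 * t), ?_⟩
      subst hc0
      conv_lhs => rw [hy, hm, hz, hXdef, hwdef]
      match_scalars <;> field_simp <;> ring
    have hzm := ((fr.mem_wSpace (hu := hQz)).1 hmm).1
    rw [polar_sq, mul_eq_zero] at hzm
    have h3 : z ⬝ᵥ (y - m) = 0 := by rw [dotProduct_sub, hzy, hzm.resolve_left fr.two, sub_self]
    rw [hc2, dotProduct_smul, smul_eq_mul, mul_eq_zero] at h3
    rw [h3.resolve_right hzu1, zero_smul, sub_eq_zero] at hc2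
    rw [hc2]
    exact (fr.mem_wSpace (hu := hQz)).1 hmm
  intro y hy hyu
  obtain ⟨y', hy'⟩ : ∃ y', y' = (siegel (sq ι F) u1 ((-t) • e)).1 y := ⟨_, rfl⟩
  have hback : (siegel (sq ι F) u1 (t • e)).1 y' = y := by
    rw [hy']
    show (siegel (sq ι F) u1 (t • e) * siegel (sq ι F) u1 ((-t) • e)).1 y = y
    rw [← siegel_add _ hQ1 (hg t).1 (hg (-t)).1, ← add_smul, add_neg_cancel, zero_smul, siegel_zero]
    rfl
  have hzu2 : (siegel (sq ι F) u1 (t • e)).1 z = u2 := by
    rw [hgapp, hz]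
    simp only [dotProduct_add, dotProduct_smul, d12, d1e, d11, dotProduct_comm e u2, d2e, dee,
      dotProduct_comm e u1, smul_eq_mul]
    module
  have hyz : z ⬝ᵥ y' = 0 := by
    rw [← fr.dot_map (siegel (sq ι F) u1 (t • e)), hback, hzu2, hyu]
  have hnear : NearLine u o j k y' := by
    obtain ⟨c, hc⟩ := hy
    refine ⟨c - (2 * (-t * (e ⬝ᵥ y)) + -t * -t * (2 * (u1 ⬝ᵥ y))), fun l hlo hlj hlk => ?_⟩
    rw [hy', hgapp, hu1, he]
    simp [hlo, hlj, hc l hlo hlj hlk]
    ring
  have hfin := (hzspace y' hnear hyz).conj (hg t).2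
  rwa [hzu2, hback] at hfin

/-- at least three non-zero coordinates, `p ≥ 5` -/
theorem le_of_three {u : ι → F} {o j k l₀ : ι} (hu : u ⬝ᵥ u = 0) (ho : u o = 0)
    (h : InW M u (Pi.single o 1)) (hj : u j ≠ 0) (hk : u k ≠ 0) (hl : u l₀ ≠ 0) (hjk : j ≠ k)
    (hlj : l₀ ≠ j) (hlk : l₀ ≠ k)
    (hs : u j * u j + u k * u k ≠ 0) {t : F} (ht : t ≠ 0)
    (hD : u j * u j + u k * u k + 4 * (u j * u j) * (u k * u k) * (t * t) ≠ 0)
    (hE : u j * u j + u k * u k - 4 * (u j * u j) * (u k * u k) * (t * t) ≠ 0) :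
    commutator (quadIsoms (sq ι F)) ≤ M := by
  haveI := fr.finite
  have hoj : o ≠ j := fun e => hj (e ▸ ho)
  have hok : o ≠ k := fun e => hk (e ▸ ho)
  have hol : l₀ ≠ o := fun e => hl (e ▸ ho)
  have H2 := fr.nearLine_full hu ho h hj hk hjk hs ht hD hE
  obtain ⟨u1, hu1⟩ : ∃ u1, u1 = (flipQ (F := F) {j}).1 u := ⟨_, rfl⟩
  obtain ⟨u2, hu2⟩ : ∃ u2, u2 = (flipQ (F := F) {j, k}).1 u := ⟨_, rfl⟩
  rw [← hu2] at H2
  have d11 : u1 ⬝ᵥ u1 = 0 := by rw [hu1, fr.dot_map, hu]
  have d22 : u2 ⬝ᵥ u2 = 0 := by rw [hu2, fr.dot_map, hu]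
  have d12 : u1 ⬝ᵥ u2 = -(2 * (u k * u k)) := by
    rw [hu1, hu2, flipQ_pair j k hjk, flipQ_single_self]
    simp [hu, hjk, Ne.symm hjk]
    ring
  -- the same at `u1`
  have hflip : ∀ y, NearLine u o j k y → NearLine u o j k ((flipQ (F := F) {k}).1 y) :=
    fun y ⟨c, hc⟩ => ⟨c, fun l a b d => by simp [d, hc l a b d]⟩
  have hf21 : (flipQ (F := F) {k}).1 u2 = u1 := by
    rw [hu1, hu2]
    funext l
    by_cases hlj' : l = j
    · subst hlj'; simp [hjk]
    by_cases hlk' : l = k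
    · subst hlk'; simp [hlj']
    simp [hlj', hlk']
  have hff : ∀ y : ι → F, (flipQ (F := F) {k}).1 ((flipQ (F := F) {k}).1 y) = y :=
    fun y => flipLin_flipLin {k} y
  have H1 : ∀ y, NearLine u o j k y → u1 ⬝ᵥ y = 0 → InW M u1 y := by
    intro y hy hy0
    have h1 := (H2 _ (hflip y hy) (by rw [← fr.dot_map (flipQ {k}), hf21, hff, hy0])).conj (fr.flip_mem {k})
    rwa [hf21, hff] at h1
  -- singular vectors in three coordinates
  have key : ∀ r₁ a b : F, r₁ * r₁ + a * a + b * b = 0 → -(u j * a) + u k * b ≠ 0 →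
      InW M (Pi.single o r₁ + Pi.single j a + Pi.single k b) (Pi.single l₀ 1) ∧
      ∀ x, NearLine u o j k x → (Pi.single o r₁ + Pi.single j a + Pi.single k b : ι → F) ⬝ᵥ x = 0 →
        InW M (Pi.single o r₁ + Pi.single j a + Pi.single k b) x := by
    intro r₁ r₂ ε hr hεne
    obtain ⟨y, hy⟩ : ∃ y : ι → F, y = Pi.single o r₁ + Pi.single j r₂ + Pi.single k ε := ⟨_, rfl⟩
    rw [← hy]
    have hyl : ∀ l, l ≠ o → l ≠ j → l ≠ k → y l = 0 := fun l a b c => by simp [hy, a, b, c]
    have hy0 : y ⬝ᵥ y = 0 := by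
      rw [hy]
      simp [hoj, hok, hjk, Ne.symm hoj, Ne.symm hok, Ne.symm hjk]
      linear_combination hr
    have hQy : sq ι F y = 0 := by rw [sq_apply, hy0]
    obtain ⟨κ, hκ⟩ : ∃ κ, κ = u1 ⬝ᵥ y := ⟨_, rfl⟩
    have hκ0 : κ ≠ 0 := by
      have : κ = -(u j * r₂) + u k * ε := by
        rw [hκ, hu1, hy]
        simp [hoj, hok, hjk, Ne.symm hoj, Ne.symm hok, Ne.symm hjk, ho]
      rwa [this]
    -- transport from `u2` to `y`
    obtain ⟨b, hb⟩ : ∃ b, b = u k * u k := ⟨_, rfl⟩
    rw [← hb] at d12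
    have hb0 : b ≠ 0 := hb ▸ mul_ne_zero hk hk
    have h4 : (4 : F) ≠ 0 := by
      rw [show (4 : F) = 2 * 2 by norm_num]
      exact mul_ne_zero fr.two fr.two
    obtain ⟨v, hv⟩ : ∃ v, v = (-(2 * b) / κ) • y := ⟨_, rfl⟩
    have hvc : -(2 * b) / κ ≠ 0 := div_ne_zero (neg_ne_zero.2 (mul_ne_zero fr.two hb0)) hκ0
    have d1v : u1 ⬝ᵥ v = -(2 * b) := by
      rw [hv, dotProduct_smul, ← hκ, smul_eq_mul, div_mul_cancel₀ _ hκ0]
    have dvv : v ⬝ᵥ v = 0 := by rw [hv, smul_dotProduct, dotProduct_smul, hy0, smul_zero, smul_zero]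
    obtain ⟨w, hw⟩ : ∃ w, w = (4 * b)⁻¹ • (u2 - v) := ⟨_, rfl⟩
    have d1w : u1 ⬝ᵥ w = 0 := by rw [hw, dotProduct_smul, dotProduct_sub, d12, d1v, sub_self, smul_zero]
    have hnear2 : NearLine u o j k u2 := ⟨1, fun l a b c => by simp [hu2, b, c]⟩
    have hnearw : NearLine u o j k w := by
      refine ⟨(4 * b)⁻¹, fun l a b' c => ?_⟩
      simp [hw, hv, hyl l a b' c, hu2, b', c]
    have hgM : ∀ c : F, siegel (sq ι F) u1 (c • w) ∈ M := fun c =>
      (fr.inW_smul (by rw [sq_apply, d11]) (H1 w hnearw d1w) c).2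
    have happ : ∀ c : F, ∀ x, (siegel (sq ι F) u1 (c • w)).1 x =
        x + (2 * (u1 ⬝ᵥ x)) • (c • w) - (2 * (c * (w ⬝ᵥ x)) + c * c * (w ⬝ᵥ w) * (2 * (u1 ⬝ᵥ x))) • u1 := by
      intro c x
      rw [siegel_sq_apply d11 (by rw [dotProduct_smul, d1w, smul_zero]), smul_dotProduct, smul_dotProduct,
        dotProduct_smul]
      simp [mul_assoc]
    have hgv : (siegel (sq ι F) u1 ((1 : F) • w)).1 u2 = v := by
      have z0 : 2 * (1 * (w ⬝ᵥ u2)) + 1 * 1 * (w ⬝ᵥ w) * (2 * (u1 ⬝ᵥ u2)) = 0 := by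
        rw [d12, hw]
        simp only [smul_dotProduct, dotProduct_smul, sub_dotProduct, dotProduct_sub, d22, dvv, smul_eq_mul,
          dotProduct_comm u2 v]
        field_simp
        ring
      rw [happ, z0, d12, hw]
      match_scalars <;> field_simp <;> ring
    have Hy : ∀ x, NearLine u o j k x → y ⬝ᵥ x = 0 → InW M y x := by
      intro x ⟨c, hc⟩ hyx
      obtain ⟨x', hx'⟩ : ∃ x', x' = (siegel (sq ι F) u1 ((-1 : F) • w)).1 x := ⟨_, rfl⟩
      have hback : (siegel (sq ι F) u1 ((1 : F) • w)).1 x' = x := by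
        rw [hx']
        show (siegel (sq ι F) u1 ((1 : F) • w) * siegel (sq ι F) u1 ((-1 : F) • w)).1 x = x
        rw [← siegel_add _ (by rw [sq_apply, d11]) (by rw [polar_sq, dotProduct_smul, d1w, smul_zero, mul_zero])
          (by rw [polar_sq, dotProduct_smul, d1w, smul_zero, mul_zero]), ← add_smul, add_neg_cancel,
          zero_smul, siegel_zero]
        rfl
      have hn : NearLine u o j k x' := by
        obtain ⟨cw, hcw⟩ := hnearw
        refine ⟨c + 2 * (u1 ⬝ᵥ x) * (-1 * cw) -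
          (2 * (-1 * (w ⬝ᵥ x)) + -1 * -1 * (w ⬝ᵥ w) * (2 * (u1 ⬝ᵥ x))), fun l a b' d => ?_⟩
        rw [hx', happ]
        simp [hc l a b' d, hcw l a b' d, hu1, b']
        ring
      have h0 : u2 ⬝ᵥ x' = 0 := by
        rw [← fr.dot_map (siegel (sq ι F) u1 ((1 : F) • w)), hgv, hback, hv, smul_dotProduct, hyx, smul_zero]
      have h1 := (H2 x' hn h0).conj (hgM 1)
      rw [hgv, hback, hv] at h1
      exact fr.inW_of_smul hQy hvc h1
    -- everything at `y`
    have hl1 : InW M y (Pi.single l₀ 1) := by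
      refine fr.inW_flip_sub hQy (hyl l₀ hol hlj hlk)
        (Hy (u - u o • Pi.single o 1 - u j • Pi.single j 1 - u k • Pi.single k 1)
          ⟨1, fun l a b' c => by simp [a, b', c]⟩ ?_) ?_
      · rw [hy]
        simp [ho, hoj, hok, hjk, Ne.symm hoj, Ne.symm hok, Ne.symm hjk]
        ring
      · simp [hol, hlj, hlk, hl]
    exact ⟨hl1, Hy⟩
  obtain ⟨r₁, r₂, hr, hκ1, hκ2⟩ : ∃ r₁ r₂ : F, r₁ * r₁ + r₂ * r₂ + 1 * 1 = 0 ∧
      -(u j * r₂) + u k * 1 ≠ 0 ∧ -(u j * 1) + u k * r₂ ≠ 0 := by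
    obtain ⟨r₁, r₂, hr⟩ := CfsgLib.Geom.exists_binary_eq fr.two (one_ne_zero (α := F)) one_ne_zero (-1 : F)
    by_cases hA : -(u j * r₂) + u k * 1 = 0
    · refine ⟨r₁, -r₂, by linear_combination hr, fun e => mul_ne_zero fr.two hk ?_, fun e => hs ?_⟩
      · linear_combination hA + e
      · linear_combination u k * hA - u j * e
    by_cases hC : -(u j * 1) + u k * r₂ = 0
    · refine ⟨r₁, -r₂, by linear_combination hr, fun e => hs ?_, fun e => mul_ne_zero fr.two hj ?_⟩
      · linear_combination u k * e - u j * hC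
      · linear_combination -hC - e
    exact ⟨r₁, r₂, by linear_combination hr, hA, hC⟩
  obtain ⟨hA1, -⟩ := key r₁ r₂ 1 hr hκ1
  obtain ⟨hB1, Hy⟩ := key r₁ 1 r₂ (by linear_combination hr) hκ2
  obtain ⟨y, hy⟩ : ∃ y : ι → F, y = Pi.single o r₁ + Pi.single j 1 + Pi.single k r₂ := ⟨_, rfl⟩
  rw [← hy] at hB1 Hy
  have hQy : sq ι F y = 0 := by
    rw [sq_apply, hy]
    simp [hoj, hok, hjk, Ne.symm hoj, Ne.symm hok, Ne.symm hjk]
    linear_combination hr
  refine fr.le_of_full hQy (fr.full_of hQy {o, j, k} (fun l hl' => ?_) (fun z hz hzS => Hy z ⟨0, ?_⟩ hz))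
    (i := j) ?_
  · simp only [Finset.mem_insert, Finset.mem_singleton, not_or] at hl'
    rcases eq_or_ne l l₀ with rfl | hll
    · exact hB1
    have h1 := hA1.conj (fr.swaps_mem (a := l₀) (b := l) (c := j) (d := k) (Ne.symm hll) hjk)
    rw [map_add, map_add, permQ_single, permQ_single, permQ_single, permQ_single,
      show (Equiv.swap l₀ l * Equiv.swap j k) o = o by
        rw [Equiv.Perm.mul_apply, Equiv.swap_apply_of_ne_of_ne hoj hok,
          Equiv.swap_apply_of_ne_of_ne (Ne.symm hol) (Ne.symm hl'.1)],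
      show (Equiv.swap l₀ l * Equiv.swap j k) j = k by
        rw [Equiv.Perm.mul_apply, Equiv.swap_apply_left,
          Equiv.swap_apply_of_ne_of_ne (Ne.symm hlk) (Ne.symm hl'.2.2)],
      show (Equiv.swap l₀ l * Equiv.swap j k) k = j by
        rw [Equiv.Perm.mul_apply, Equiv.swap_apply_right,
          Equiv.swap_apply_of_ne_of_ne (Ne.symm hlj) (Ne.symm hl'.2.1)],
      show (Equiv.swap l₀ l * Equiv.swap j k) l₀ = l by
        rw [Equiv.Perm.mul_apply, Equiv.swap_apply_of_ne_of_ne hlj hlk, Equiv.swap_apply_left],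
      add_right_comm, ← hy] at h1
    exact h1
  · exact fun l a b' c => by rw [hzS l (by simp [a, b', c]), zero_mul]
  · rw [hy]
    simp [Ne.symm hoj, hjk]

theorem small_mul_self {n : ℕ} (hn : (n : F) = 0) (hn0 : 0 < n) (q : ℕ)
    (hq : ∀ r < n, r = 0 ∨ r ^ q % n = 1) {x : F} (hx : x ≠ 0) : x ^ q = 1 := by
  obtain ⟨m, rfl⟩ := fr.exists_natCast x
  have hred : ∀ a : ℕ, (a : F) = ((a % n : ℕ) : F) := fun a => by
    conv_lhs => rw [← Nat.div_add_mod a n]
    rw [Nat.cast_add, Nat.cast_mul, hn, zero_mul, zero_add]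
  rcases hq (m % n) (Nat.mod_lt _ hn0) with h | h
  · exact absurd (by rw [hred m, h, Nat.cast_zero]) hx
  · rw [hred m, ← Nat.cast_pow, hred, h, Nat.cast_one]

theorem inW_triple (h3 : (3 : F) = 0) {a b c : ι} (hab : a ≠ b) (hbc : b ≠ c) (hac : a ≠ c) {ca cb cc : F}
    (ha : ca * ca = 1) (hb : cb * cb = 1) (hc : cc * cc = 1) :
    InW M (Pi.single a ca + Pi.single b cb + Pi.single c cc) (Pi.single a ca - Pi.single b cb) := by
  obtain ⟨u, hu⟩ : ∃ u : ι → F, u = Pi.single a 1 + Pi.single b 1 + Pi.single c 1 := ⟨_, rfl⟩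
  obtain ⟨w, hw⟩ : ∃ w : ι → F, w = Pi.single a 1 - Pi.single b 1 := ⟨_, rfl⟩
  have duu : u ⬝ᵥ u = 0 := by
    rw [hu]
    simp [hab, hbc, hac, Ne.symm hab, Ne.symm hbc, Ne.symm hac]
    linear_combination h3
  have duw : u ⬝ᵥ w = 0 := by
    rw [hu, hw]
    simp [hab, hac, Ne.symm hab, hbc]
  have hsieg : siegel (sq ι F) u w = permQ (Equiv.swap a b * Equiv.swap b c) := by
    refine quadIsoms_ext _ fun z => funext fun l => ?_
    rw [siegel_sq_apply duu duw, permQ_apply,
      show (Equiv.swap a b * Equiv.swap b c).symm l = Equiv.swap b c (Equiv.swap a b l) from rfl, hu, hw]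
    by_cases hla : l = a
    · subst hla
      simp [hab, hac, hbc, Ne.symm hab]
      linear_combination (-z l - z c) * h3
    by_cases hlb : l = b
    · subst hlb
      simp [hab, hbc, Ne.symm hab, Equiv.swap_apply_of_ne_of_ne hab hac]
      linear_combination (-(3 * z a) - z l - 2 * z c) * h3
    by_cases hlc : l = c
    · subst hlc
      simp [hla, hlb, hab, Ne.symm hab, Equiv.swap_apply_of_ne_of_ne hla hlb]
      linear_combination (-(2 * z a) - z b - z l) * h3
    · simp [hla, hlb, hlc, Equiv.swap_apply_of_ne_of_ne hla hlb, Equiv.swap_apply_of_ne_of_ne hlb hlc]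
  have h1 : InW M u w := ⟨by rw [polar_sq, duw, mul_zero], by rw [hsieg]; exact fr.cycle_mem hab hbc⟩
  classical
  obtain ⟨B, hB⟩ : ∃ B : Finset ι, B = Finset.univ.filter
      (fun l => (l = a ∧ ca = -1) ∨ (l = b ∧ cb = -1) ∨ (l = c ∧ cc = -1)) := ⟨_, rfl⟩
  have hsg : ∀ d : F, d * d = 1 → (if d = -1 then -1 else 1) = d := fun d hd => by
    split_ifs with h
    · exact h.symm
    · exact ((mul_self_eq_one_iff.1 hd).resolve_right h).symm
  have h2 := h1.conj (fr.flip_mem B)
  simp only [hu, hw, map_add, map_sub, flipQ_single] at h2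
  have ea : (if a ∈ B then (-1 : F) else 1) = ca := by
    rw [← hsg ca ha]
    simp [hB, hab, hac]
  have eb : (if b ∈ B then (-1 : F) else 1) = cb := by
    rw [← hsg cb hb]
    simp [hB, Ne.symm hab, hbc]
  have ec : (if c ∈ B then (-1 : F) else 1) = cc := by
    rw [← hsg cc hc]
    simp [hB, Ne.symm hac, Ne.symm hbc]
  rwa [ea, eb, ec] at h2

/-- characteristic three: support three -/
theorem le_of_triple (h3 : (3 : F) = 0) {u : ι → F} {a b c o : ι} (hab : a ≠ b) (hbc : b ≠ c) (hac : a ≠ c)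
    (ha : u a ≠ 0) (hb : u b ≠ 0) (hc : u c ≠ 0) (hS : ∀ l ∉ ({a, b, c} : Finset ι), u l = 0)
    (ho : u o = 0) (h : InW M u (Pi.single o 1)) : commutator (quadIsoms (sq ι F)) ≤ M := by
  have hsq : ∀ x : F, x ≠ 0 → x * x = 1 := fun x hx => by
    rw [← pow_two]
    exact fr.small_mul_self (n := 3) (by exact_mod_cast h3) (by norm_num) 2 (by decide) hx
  have hu' : u = Pi.single a (u a) + Pi.single b (u b) + Pi.single c (u c) := by
    funext l
    by_cases hla : l = a
    · subst hla; simp [hab, hac]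
    by_cases hlb : l = b
    · subst hlb; simp [hla, hbc]
    by_cases hlc : l = c
    · subst hlc; simp [hla, hlb]
    rw [hS l (by simp [hla, hlb, hlc])]
    simp [hla, hlb, hlc]
  have hu : sq ι F u = 0 := by
    rw [sq_apply, hu']
    simp [hab, hbc, hac, Ne.symm hab, Ne.symm hbc, Ne.symm hac]
    linear_combination hsq _ ha + hsq _ hb + hsq _ hc + h3
  refine fr.le_of_full hu (fr.full_of hu {a, b, c}
    (fun l hl => fr.inW_spread_pair ho h hab ha hb (by rw [hsq _ ha, hsq _ hb]) (hS l hl)) ?_) ha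
  · intro z hz hzS
    have i1 : InW M u (Pi.single a (u a) - Pi.single b (u b)) := by
      rw [congrArg (fun x => InW M x _) hu']
      exact fr.inW_triple h3 hab hbc hac (hsq _ ha) (hsq _ hb) (hsq _ hc)
    have i2 : InW M u (Pi.single b (u b) - Pi.single c (u c)) := by
      have := fr.inW_triple h3 hbc (Ne.symm hac) (Ne.symm hab) (hsq _ hb) (hsq _ hc) (hsq _ ha)
      rwa [show (Pi.single b (u b) + Pi.single c (u c) + Pi.single a (u a) : ι → F) = u by
        conv_rhs => rw [hu']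
        abel] at this
    have hdot : u a * z a + u b * z b + u c * z c = 0 := by
      rw [hu'] at hz
      simpa [add_dotProduct] using hz
    have e : z = (u a * z a) • (Pi.single a (u a) - Pi.single b (u b)) +
        (u a * z a + u b * z b) • (Pi.single b (u b) - Pi.single c (u c)) := by
      funext l
      by_cases hla : l = a
      · subst hla
        simp [hab, hac]
        linear_combination -(z l) * hsq _ ha
      by_cases hlb : l = b
      · subst hlb
        simp [hla, hbc]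
        linear_combination -(z l) * hsq _ hb
      by_cases hlc : l = c
      · subst hlc
        simp [hla, hlb]
        linear_combination (u l) * hdot - z l * hsq _ hc
      rw [hzS l (by simp [hla, hlb, hlc])]
      simp [hla, hlb, hlc]
    rw [e]
    exact (fr.mem_wSpace (hu := hu)).1 (add_mem (Submodule.smul_mem _ _ i1) (Submodule.smul_mem _ _ i2))

/-- one Siegel transformation at a coordinate vector generates -/
theorem le_of_single {u : ι → F} {o : ι} (hu0 : u ≠ 0) (hu : sq ι F u = 0) (h : InW M u (Pi.single o 1)) :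
    commutator (quadIsoms (sq ι F)) ≤ M := by
  classical
  have ho : u o = 0 := by
    have := h.1
    rw [polar_sq, dotProduct_single, mul_one, mul_eq_zero] at this
    exact this.resolve_left fr.two
  obtain ⟨S, hS⟩ : ∃ S : Finset ι, S = Finset.univ.filter (fun l => u l ≠ 0) := ⟨_, rfl⟩
  have hmem : ∀ l, l ∈ S ↔ u l ≠ 0 := fun l => by simp [hS]
  have hout : ∀ T : Finset ι, S ⊆ T → ∀ l ∉ T, u l = 0 :=
    fun T hT l hl => by_contra fun hne => hl (hT ((hmem l).2 hne))
  have hsum : ∑ l ∈ S, u l * u l = 0 := by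
    rw [sq_apply] at hu
    rw [← hu, dotProduct]
    exact Finset.sum_subset (Finset.subset_univ S) fun l _ hl => by
      rw [hout S subset_rfl l hl, mul_zero]
  have hpos : S.Nonempty := by
    by_contra hne
    exact hu0 (funext fun l => hout S subset_rfl l (by rw [Finset.not_nonempty_iff_eq_empty.1 hne]; simp))
  rcases (show S.card = 1 ∨ S.card = 2 ∨ 3 ≤ S.card by have := hpos.card_pos; omega) with h1 | h2 | h3'
  · obtain ⟨j, hj⟩ := Finset.card_eq_one.1 h1
    rw [hj, Finset.sum_singleton, mul_self_eq_zero] at hsum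
    exact absurd hsum ((hmem j).1 (by simp [hj]))
  · obtain ⟨j, k, hjk, hjk'⟩ := Finset.card_eq_two.1 h2
    exact fr.le_of_two hu ho h ((hmem j).1 (by simp [hjk'])) ((hmem k).1 (by simp [hjk'])) hjk
      (hout _ hjk'.subset)
  by_cases h3 : (3 : F) = 0
  · have hsq : ∀ x : F, x ≠ 0 → x * x = 1 := fun x hx => by
      rw [← pow_two]
      exact fr.small_mul_self (n := 3) (by exact_mod_cast h3) (by norm_num) 2 (by decide) hx
    have hcard : (S.card : F) = 0 := by
      rw [← hsum, Finset.sum_congr rfl fun l hl => hsq _ ((hmem l).1 hl)]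
      simp
    obtain ⟨A, hAS, hA⟩ := Finset.exists_subset_card_eq h3'
    obtain ⟨a, b, c, hab, hac, hbc, rfl⟩ := Finset.card_eq_three.1 hA
    have ha := (hmem a).1 (hAS (by simp))
    have hb := (hmem b).1 (hAS (by simp))
    have hc := (hmem c).1 (hAS (by simp))
    by_cases heq : S ⊆ {a, b, c}
    · exact fr.le_of_triple h3 hab hbc hac ha hb hc (hout _ heq) ho h
    obtain ⟨m, hmS, hmA⟩ := Finset.not_subset.1 heq
    simp only [Finset.mem_insert, Finset.mem_singleton, not_or] at hmA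
    obtain ⟨uA, huA⟩ : ∃ uA : ι → F, uA = Pi.single a (u a) + Pi.single b (u b) + Pi.single c (u c) := ⟨_, rfl⟩
    have hflip : (flipQ (F := F) {a, b, c}).1 u = u - (2 : F) • uA := by
      funext l
      by_cases hla : l = a
      · subst hla; simp [huA, hab, hac, two_mul]
      by_cases hlb : l = b
      · subst hlb; simp [huA, hla, hbc, two_mul]
      by_cases hlc : l = c
      · subst hlc; simp [huA, hla, hlb, two_mul]
      simp [huA, hla, hlb, hlc]
    have hoA : o ∉ ({a, b, c} : Finset ι) := fun hm => (hmem o).1 (hAS hm) ho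
    have hb1 : InW M ((flipQ (F := F) {a, b, c}).1 u) (Pi.single o 1) := by
      have := h.conj (fr.flip_mem {a, b, c})
      rwa [flipQ_single, if_neg hoA] at this
    rw [sq_apply] at hu
    have huu : u ⬝ᵥ uA = 0 := by
      rw [huA]
      simp [dotProduct_add]
      linear_combination hsq _ ha + hsq _ hb + hsq _ hc + h3
    have hub : u ⬝ᵥ (flipQ (F := F) {a, b, c}).1 u = 0 := by
      rw [hflip, dotProduct_sub, hu, dotProduct_smul, huu, smul_zero, sub_zero]
    have hQu : sq ι F u = 0 := by rw [sq_apply, hu]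
    have hQb : sq ι F ((flipQ (F := F) {a, b, c}).1 u) = 0 := by rw [(flipQ (F := F) {a, b, c}).2, hQu]
    -- conjugate `siegel u e` by `siegel b e`
    have hub' : InW M u ((flipQ (F := F) {a, b, c}).1 u) := by
      have hc' := h.conj hb1.2
      obtain ⟨v, hv⟩ : ∃ v, v = (flipQ (F := F) {a, b, c}).1 u := ⟨_, rfl⟩
      rw [← hv] at hc' hub hQb hb1 ⊢
      have hve : v ⬝ᵥ Pi.single o (1 : F) = 0 := by
        rw [hv, dotProduct_single, mul_one]
        simp [ho]
      rw [sq_apply] at hQb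
      rw [siegel_sq_apply hQb hve, siegel_sq_apply hQb hve, dotProduct_comm v u, hub,
        dotProduct_comm (Pi.single o (1 : F)) u, dotProduct_single, ho, hve] at hc'
      simp only [mul_zero, zero_mul, add_zero, zero_smul, sub_zero, dotProduct_single, Pi.single_eq_same,
        mul_one] at hc'
      have h2 := sub_mem ((fr.mem_wSpace (hu := hQu)).2 h) ((fr.mem_wSpace (hu := hQu)).2 hc')
      rw [sub_sub_cancel] at h2
      exact (fr.mem_wSpace (hu := hQu)).1 ((Submodule.smul_mem_iff _ fr.two).1 h2)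
    have huA' : InW M u uA := by
      have h2 := sub_mem ((fr.mem_wSpace (hu := hQu)).2 (fr.inW_self hQu))
        ((fr.mem_wSpace (hu := hQu)).2 hub')
      rw [hflip, sub_sub_cancel] at h2
      exact (fr.mem_wSpace (hu := hQu)).1 ((Submodule.smul_mem_iff _ fr.two).1 h2)
    have hQA : sq ι F uA = 0 := by
      rw [sq_apply, huA]
      simp [hab, hbc, hac, Ne.symm hab, Ne.symm hbc, Ne.symm hac]
      linear_combination hsq _ ha + hsq _ hb + hsq _ hc + h3
    have hswap : InW M uA (-u) := by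
      refine ⟨by rw [polar_sq, dotProduct_neg, dotProduct_comm, huu, neg_zero, mul_zero], ?_⟩
      rw [← siegel_swap hQA hQu (by rw [polar_sq, dotProduct_comm, huu, mul_zero])]
      exact huA'.2
    have hmA0 : uA m = 0 := by simp [huA, hmA.1, hmA.2.1, hmA.2.2]
    refine fr.le_of_triple h3 hab hbc hac (u := uA) ?_ ?_ ?_ (fun l hl => ?_) hmA0
      (fr.inW_flip_sub hQA hmA0 hswap (by simpa using (hmem m).1 hmS))
    · simp [huA, hab, hac, ha]
    · simp [huA, Ne.symm hab, hbc, hb]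
    · simp [huA, Ne.symm hac, Ne.symm hbc, hc]
    · simp only [Finset.mem_insert, Finset.mem_singleton, not_or] at hl
      simp [huA, hl.1, hl.2.1, hl.2.2]
  · obtain ⟨a, ha', b, hb', c, hc', hab, hac, hbc⟩ := Finset.two_lt_card.1 h3'
    have ha := (hmem a).1 ha'
    have hb := (hmem b).1 hb'
    have hc := (hmem c).1 hc'
    obtain ⟨j, k, l₀, hj, hk, hl, hjk, hlj, hlk, hs⟩ : ∃ j k l₀, u j ≠ 0 ∧ u k ≠ 0 ∧ u l₀ ≠ 0 ∧ j ≠ k ∧
        l₀ ≠ j ∧ l₀ ≠ k ∧ u j * u j + u k * u k ≠ 0 := by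
      by_cases h1 : u a * u a + u b * u b = 0
      · by_cases h2 : u a * u a + u c * u c = 0
        · refine ⟨b, c, a, hb, hc, ha, hbc, hab, hac, fun h3e => ?_⟩
          have : 2 * (u b * u b) = 0 := by linear_combination h1 - h2 + h3e
          exact mul_ne_zero fr.two (mul_ne_zero hb hb) this
        · exact ⟨a, c, b, ha, hc, hb, hac, Ne.symm hab, hbc, h2⟩
      · exact ⟨a, b, c, ha, hb, hc, hab, Ne.symm hac, Ne.symm hbc, h1⟩
    rw [sq_apply] at hu
    obtain ⟨x, hx⟩ : ∃ x, x = u j * u j := ⟨_, rfl⟩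
    obtain ⟨y, hy⟩ : ∃ y, y = u k * u k := ⟨_, rfl⟩
    have hx0 : x ≠ 0 := hx ▸ mul_ne_zero hj hj
    have hy0 : y ≠ 0 := hy ▸ mul_ne_zero hk hk
    by_cases ht1 : (x + y + 4 * x * y * (1 * 1)) * (x + y - 4 * x * y * (1 * 1)) = 0
    · by_cases ht2 : (x + y + 4 * x * y * (2 * 2)) * (x + y - 4 * x * y * (2 * 2)) = 0
      · have h5 : (5 : F) = 0 := by
          have h240 : 16 * (3 * (5 * (x * y * (x * y)))) = 0 := by linear_combination ht1 - ht2
          have h16 : (16 : F) ≠ 0 := by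
            rw [show (16 : F) = 2 * 2 * (2 * 2) by norm_num]
            exact mul_ne_zero (mul_ne_zero fr.two fr.two) (mul_ne_zero fr.two fr.two)
          rcases mul_eq_zero.1 ((mul_eq_zero.1 ((mul_eq_zero.1 h240).resolve_left h16)).resolve_left h3)
            with h | h
          · exact h
          · exact absurd h (mul_ne_zero (mul_ne_zero hx0 hy0) (mul_ne_zero hx0 hy0))
        have hf : ∀ i, u i ≠ 0 → u i * u i * (u i * u i) = 1 := fun i hi => by
          rw [← fr.small_mul_self (n := 5) (by exact_mod_cast h5) (by norm_num) 4 (by decide) hi]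
          ring
        have hxx : x * x = 1 := hx ▸ hf j hj
        have hyy : y * y = 1 := hy ▸ hf k hk
        have hxy : 2 * (x * y) + 1 = 0 := by
          linear_combination ht1 - hxx - hyy + 16 * (x * x) * hyy + 16 * hxx + 3 * h5
        have : (3 : F) = 0 := by
          linear_combination (2 * (x * y) - 1) * hxy - 4 * (x * x) * hyy - 4 * hxx
        exact absurd this h3
      · exact fr.le_of_three hu ho h hj hk hl hjk hlj hlk hs (t := 2) fr.two
          (fun e => ht2 (by rw [hx, hy, e, zero_mul])) (fun e => ht2 (by rw [hx, hy, e, mul_zero]))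
    · exact fr.le_of_three hu ho h hj hk hl hjk hlj hlk hs (t := 1) one_ne_zero
        (fun e => ht1 (by rw [hx, hy, e, zero_mul])) (fun e => ht1 (by rw [hx, hy, e, mul_zero]))

/-- If the overgroup is small, two lines with product one are equal. -/
theorem noLink (hM : ¬ commutator (quadIsoms (sq ι F)) ≤ M) {v w : ι → F} (hv : v ∈ lineSet M)
    (hw : w ∈ lineSet M) (h : v ⬝ᵥ w = 1) : v = w := by
  by_contra hne
  obtain ⟨u, hu0, hu, huv⟩ := fr.exists_inW_of_pair hv hw h (Ne.symm hne)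
  obtain ⟨g, hg, i, rfl⟩ := hv
  have h1 := huv.conj (inv_mem hg)
  rw [show (g⁻¹).1 (g.1 (Pi.single i 1)) = Pi.single i 1 from g.1.symm_apply_apply _] at h1
  refine hM (fr.le_of_single (u := (g⁻¹).1 u) (fun e0 => hu0 ?_) (by rw [(g⁻¹).2, hu]) h1)
  exact (g⁻¹).1.injective (e0.trans (map_zero _).symm)

end Frame

end CfsgLib.MaxSub.OMono
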