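import Cfsg.Agent.Lib.Geom.NondegOdd
import Cfsg.Agent.Lib.Geom.NondegMaxCases

/-!
Stabilisers of non-degenerate subspaces in seven-dimensional orthogonal groups.
-/

set_option autoImplicit false

namespace CfsgLib.MaxSub.OSeven

open CfsgLib.Classical CfsgLib.Geom CfsgLib.Geom.OrthSub CfsgLib.MaxSub CfsgLib.MaxSub.OFrame
open QuadraticMap (polar)

variable {F : Type*} [Field F] [Fintype F] {ι : Type} [Fintype ι] [DecidableEq ι]

/-- Dimensions at least four and three, the first one larger. -/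
theorem nondeg_isMaximalIn_mid (Q : QuadraticForm F (ι → F)) {f : (ι → F) → F} (hf : ⇑Q = f)
    (hQ : ∀ x, (∀ y, polar Q x y = 0) → x = 0) (h2 : (2 : F) ≠ 0)
    {W : Submodule F (ι → F)} (hW : ∀ x ∈ W, (∀ y ∈ W, polar Q x y = 0) → x = 0)
    (hd : 4 ≤ Module.finrank F W) (hd' : Module.finrank F W + 3 ≤ Fintype.card ι)
    (hlt : Fintype.card ι < 2 * Module.finrank F W) :
    Cfsg.Geo.IsMaximalIn (Cfsg.Geo.omegaGL f) (Cfsg.Geo.subspaceStabilizer W ⊓ Cfsg.Geo.omegaGL f) := by
  obtain ⟨U, hc, hU⟩ := exists_perp_compl Q.polarBilin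
    (fun x y h => (QuadraticMap.polar_comm Q y x).trans h) W hW
  have hperp : ∀ w ∈ W, ∀ u ∈ U, polar Q w u = 0 := fun w hw u hu => (hU u).1 hu w hw
  have hsum : Module.finrank F W + Module.finrank F U = Fintype.card ι := by
    rw [Submodule.finrank_add_eq_of_isCompl hc, Module.finrank_fintype_fun_eq_card]
  have hP : ∀ M : Subgroup (quadIsoms Q), (∀ g ∈ commutator (quadIsoms Q), (∀ x ∈ W, g.1 x ∈ W) → g ∈ M) →
      NondegOdd.Pair Q W U M :=
    fun M hM => ⟨h2, hQ, hperp, hc.sup_eq_top, hd, by omega, hM⟩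
  refine omega_isMaximalIn Q hf W ?_ fun M hM => ?_
  · have h := hP (commutator (quadIsoms Q)) fun g hg _ => hg
    obtain ⟨a, ha, ha0, hQa⟩ := exists_singular_in (Q := Q) (W := W) (by omega)
    obtain ⟨v, hv, hQv, hav⟩ := h.ndA.exists_opposite ha ha0 hQa
    obtain ⟨b, hb, hb0⟩ := Submodule.exists_mem_ne_zero_of_ne_bot
      (p := U) (fun e => by rw [e, finrank_bot] at hsum; omega)
    refine ⟨siegel Q a b, h.siegel_comm a b, v, hv, fun hmem => hb0 ?_⟩
    rw [siegel_apply Q hQa (hperp a ha b hb), hav, h.perp' hb hv, one_smul, zero_add] at hmem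
    have hbW : b ∈ W := by
      have := sub_mem (add_mem hmem (W.smul_mem (Q b * 1) ha)) hv
      simpa using this
    exact h.ndA b hbW fun y hy => h.perp' hb hy
  · by_cases hle : commutator (quadIsoms Q) ≤ M
    · exact Or.inr hle
    · exact Or.inl fun g hg => (hP M hM).dichotomy (by omega) hle hg

/-- One of the two summands has dimension at least five. -/
theorem nondeg_isMaximalIn_five (Q : QuadraticForm F (ι → F)) {f : (ι → F) → F} (hf : ⇑Q = f)
    (hQ : ∀ x, (∀ y, polar Q x y = 0) → x = 0)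
    {W : Submodule F (ι → F)}
    (hW : ∀ x ∈ W, (∀ y ∈ W, polar Q x y = 0) → x = 0) (hW0 : W ≠ ⊥) (hW1 : W ≠ ⊤)
    (hn : 5 ≤ Module.finrank F W ∨ Module.finrank F W + 5 ≤ Fintype.card ι)
    (hne : 2 * Module.finrank F W ≠ Fintype.card ι)
    (hexW : ¬ (Fintype.card F ≤ 3 ∧ Module.finrank F W = 2 ∧ ∃ z ∈ W, z ≠ 0 ∧ Q z = 0))
    (hexU : Module.finrank F W + 2 ≠ Fintype.card ι) :
    Cfsg.Geo.IsMaximalIn (Cfsg.Geo.omegaGL f) (Cfsg.Geo.subspaceStabilizer W ⊓ Cfsg.Geo.omegaGL f) := by
  obtain ⟨U, hc, hU⟩ := exists_perp_compl Q.polarBilin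
    (fun x y h => (QuadraticMap.polar_comm Q y x).trans h) W hW
  have hperp : ∀ u ∈ U, ∀ w ∈ W, polar Q u w = 0 := fun u hu w hw =>
    (QuadraticMap.polar_comm Q u w).trans ((hU u).1 hu w hw)
  have hsum : Module.finrank F U + Module.finrank F W = Fintype.card ι := by
    rw [Submodule.finrank_add_eq_of_isCompl hc.symm, Module.finrank_fintype_fun_eq_card]
  have hsup : U ⊔ W = ⊤ := hc.symm.sup_eq_top
  have hU0 : U ≠ ⊥ := fun e => hW1 (by rwa [e, bot_sup_eq] at hsup)
  by_cases hle : Module.finrank F W ≤ Module.finrank F U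
  · have h : Split Q U W := ⟨hQ, hperp, hsup, Or.inl (by omega)⟩
    refine omega_isMaximalIn Q hf W (h.moved hW0) fun M hM => h.maximal ?_ (by
      rw [Nat.card_eq_fintype_card]; exact hexW) hM
    intro g
    by_contra hall
    push Not at hall
    have h1 : Module.finrank F U ≤ Module.finrank F W := LinearMap.finrank_le_finrank_of_injective
      (f := g.1.toLinearMap.restrict hall) fun a b e => Subtype.ext (g.1.injective (congrArg Subtype.val e))
    omega
  · have h : Split Q W U :=
      ⟨hQ, fun w hw u hu => (hU u).1 hu w hw, by rw [sup_comm]; exact hsup, Or.inl (by omega)⟩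
    refine omega_isMaximalIn Q hf W ?_ fun M hM => ?_
    · obtain ⟨g, hg, x, hx, hgx⟩ := h.moved hU0
      by_contra hall
      push Not at hall
      exact hgx (h.maps_W (hall g hg) x hx)
    · refine (h.maximal (fun g => ?_) ?_ fun g hg hgU => hM g hg (h.maps_U hgU)).imp_left
        fun hst g hg => h.maps_U (hst g hg)
      · by_contra hall
        push Not at hall
        have h1 : Module.finrank F W ≤ Module.finrank F U := LinearMap.finrank_le_finrank_of_injective
          (f := g.1.toLinearMap.restrict hall) fun a b e => Subtype.ext (g.1.injective (congrArg Subtype.val e))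
        omega
      · rintro ⟨-, hd, -⟩
        omega

end CfsgLib.MaxSub.OSeven
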