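import Cfsg.Agent.Lib.MaxSub.OMonoFrame
import Cfsg.Agent.Lib.MaxSub.OLinesTop

/-!
Six coordinates with the sum of squares: overgroups of the monomial group in which the stabiliser of a
coordinate vector is monomial. An element preserving a coordinate plane is monomial.
-/

set_option autoImplicit false
set_option linter.unusedSectionVars false

namespace CfsgLib.MaxSub.OSix

open CfsgLib.Classical CfsgLib.Geom CfsgLib.MaxSub CfsgLib.MaxSub.OMono
open scoped Matrix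

variable {ι F : Type*} [Fintype ι] [DecidableEq ι] [Field F]

/-- coordinate vector -/
abbrev ev (i : ι) : ι → F := Pi.single i 1

local notation "G" => quadIsoms (sq ι F)

theorem comp (x : ι → F) (i : ι) : x ⬝ᵥ ev i = x i := by simp [dotProduct_single]

theorem app_inv (g : G) (x : ι → F) : g.1 ((g⁻¹).1 x) = x := g.1.apply_symm_apply x

theorem inv_app (g : G) (x : ι → F) : (g⁻¹).1 (g.1 x) = x := g.1.symm_apply_apply x

theorem mul_app (g h : G) (x : ι → F) : (g * h).1 x = g.1 (h.1 x) := rfl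

theorem inv_comp (h2 : (2 : F) ≠ 0) (g : G) (i j : ι) : (g⁻¹).1 (ev i) j = g.1 (ev j) i := by
  rw [← comp ((g⁻¹).1 (ev i)) j, ← isom_dot h2 g, app_inv, dotProduct_comm, comp]

theorem col_norm (h2 : (2 : F) ≠ 0) (g : G) (i : ι) : g.1 (ev i) ⬝ᵥ g.1 (ev i) = 1 := by
  rw [isom_dot h2, comp, ev, Pi.single_eq_same]

theorem col_orth (h2 : (2 : F) ≠ 0) (g : G) {i j : ι} (h : i ≠ j) : g.1 (ev i) ⬝ᵥ g.1 (ev j) = 0 := by
  rw [isom_dot h2, comp, ev, Pi.single_eq_of_ne (Ne.symm h)]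

theorem of_two {x : ι → F} {a b : ι} (hab : a ≠ b) (h : ∀ l, l ≠ a → l ≠ b → x l = 0) :
    x = x a • ev a + x b • ev b := by
  funext l
  by_cases ha : l = a
  · subst ha; simp [ev, hab]
  by_cases hb : l = b
  · subst hb; simp [ev, ha]
  simp [ev, ha, hb, h l ha hb]

theorem dot_two {x : ι → F} {a b : ι} (hab : a ≠ b) (h : ∀ l, l ≠ a → l ≠ b → x l = 0) (y : ι → F) :
    x ⬝ᵥ y = x a * y a + x b * y b := by
  conv_lhs => rw [of_two hab h]
  simp [ev, dotProduct_comm _ y]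

theorem of_one {x : ι → F} {a : ι} (h : ∀ l, l ≠ a → x l = 0) : x = Pi.single a (x a) := by
  funext l
  by_cases ha : l = a
  · subst ha; simp
  · simp [ha, h l ha]

theorem single_smul_ev (i : ι) (c : F) : (Pi.single i c : ι → F) = c • ev i := by
  rw [ev, ← Pi.single_smul, smul_eq_mul, mul_one]

theorem two_comb_zero {r t u w x y : F} (h1 : r * r + t * t = 1) (h2 : u * u + w * w = 1)
    (h3 : r * u + t * w = 0) (e1 : r * x + t * y = 0) (e2 : u * x + w * y = 0) : x = 0 ∧ y = 0 := by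
  have hD : (r * w - t * u) * (r * w - t * u) = 1 := by
    linear_combination (u * u + w * w) * h1 + h2 - (r * u + t * w) * h3
  constructor
  · linear_combination (r * w - t * u) * (w * e1 - t * e2) - x * hD
  · linear_combination (r * w - t * u) * (r * e2 - u * e1) - y * hD

/-- monomial elements in coordinates -/
theorem mono_form (h2 : (2 : F) ≠ 0) {g : G} (hg : Mono g) : ∃ (σ : Equiv.Perm ι) (s : ι → F),
    (∀ i, g.1 (ev i) = Pi.single (σ i) (s i)) ∧ (∀ i, s i * s i = 1) ∧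
      ∀ x i, g.1 x (σ i) = s i * x i := by
  choose f s hs using hg
  have hsq : ∀ i, s i * s i = 1 := fun i => by
    have h := col_norm h2 g i
    rwa [show g.1 (ev i) = Pi.single (f i) (s i) from hs i, dotProduct_single, Pi.single_eq_same] at h
  have hs0 : ∀ i, s i ≠ 0 := fun i e => by simpa [e] using hsq i
  have hinj : Function.Injective f := fun i j e => by
    by_contra hne
    have h := col_orth h2 g hne
    rw [show g.1 (ev i) = Pi.single (f i) (s i) from hs i, show g.1 (ev j) = Pi.single (f j) (s j) from hs j,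
      e, dotProduct_single, Pi.single_eq_same] at h
    exact mul_ne_zero (hs0 i) (hs0 j) h
  refine ⟨Equiv.ofBijective f ⟨hinj, Finite.injective_iff_surjective.1 hinj⟩, s, hs, hsq, fun x i => ?_⟩
  show g.1 x (f i) = _
  have h := isom_dot h2 g x (ev i)
  rw [comp, show g.1 (ev i) = Pi.single (f i) (s i) from hs i, dotProduct_single] at h
  linear_combination s i * h - g.1 x (f i) * hsq i

theorem mono_mul {g h : G} (hg : Mono g) (hh : Mono h) : Mono (g * h) := fun i => by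
  obtain ⟨j, c, e⟩ := hh i
  obtain ⟨k, d, e'⟩ := hg j
  refine ⟨k, c * d, ?_⟩
  rw [mul_app, e, single_smul_ev, map_smul, show g.1 (ev j) = Pi.single k d from e', ← Pi.single_smul,
    smul_eq_mul]

theorem mono_inv (h2 : (2 : F) ≠ 0) {g : G} (hg : Mono g) : Mono g⁻¹ := fun i => by
  obtain ⟨σ, s, hs, hsq, -⟩ := mono_form h2 hg
  refine ⟨σ.symm i, s (σ.symm i), g.1.injective ?_⟩
  rw [app_inv, single_smul_ev (σ.symm i), map_smul, hs, σ.apply_symm_apply, ← Pi.single_smul, smul_eq_mul,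
    hsq]

theorem mono_conj (h2 : (2 : F) ≠ 0) {g h : G} (hg : Mono g) (hh : Mono h) : Mono (g * h * g⁻¹) :=
  mono_mul (mono_mul hg hh) (mono_inv h2 hg)

theorem mono_flip (A : Finset ι) : Mono (flipQ (F := F) A) := fun i => ⟨i, _, flipQ_single A i 1⟩

theorem mono_perm (σ : Equiv.Perm ι) : Mono (permQ (F := F) σ) := fun i => ⟨σ i, _, permQ_single σ i 1⟩

theorem conj_flip_apply (h2 : (2 : F) ≠ 0) (g : G) {a b : ι} (hab : a ≠ b) (z : ι → F) :
    (g * flipQ {a, b} * g⁻¹).1 z =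
      z - (2 * (g.1 (ev a) ⬝ᵥ z)) • g.1 (ev a) - (2 * (g.1 (ev b) ⬝ᵥ z)) • g.1 (ev b) := by
  obtain ⟨y, rfl⟩ := g.1.surjective z
  rw [mul_app, mul_app, inv_app, flipQ_pair a b hab, map_sub, map_sub, map_smul, map_smul, isom_dot h2,
    isom_dot h2, dotProduct_comm _ y, dotProduct_comm _ y, comp, comp]

theorem conj_flip_fix (h2 : (2 : F) ≠ 0) (g : G) {a b : ι} (hab : a ≠ b) {z : ι → F}
    (ha : g.1 (ev a) ⬝ᵥ z = 0) (hb : g.1 (ev b) ⬝ᵥ z = 0) : (g * flipQ {a, b} * g⁻¹).1 z = z := by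
  rw [conj_flip_apply h2 g hab, ha, hb]; simp

/-- the two columns lie in a coordinate plane -/
def Into (g : G) (a b r s : ι) : Prop :=
  ∀ l, l ≠ r → l ≠ s → g.1 (ev a) l = 0 ∧ g.1 (ev b) l = 0

theorem Into.other (h2 : (2 : F) ≠ 0) {g : G} {a b r s : ι} (h : Into g a b r s) (hab : a ≠ b) (hrs : r ≠ s)
    {k : ι} (hka : k ≠ a) (hkb : k ≠ b) : g.1 (ev k) r = 0 ∧ g.1 (ev k) s = 0 := by
  have hA := dot_two hrs (fun l p q => (h l p q).1)
  have hB := dot_two hrs (fun l p q => (h l p q).2)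
  refine two_comb_zero (r := g.1 (ev a) r) (t := g.1 (ev a) s) (u := g.1 (ev b) r) (w := g.1 (ev b) s) ?_ ?_ ?_ ?_ ?_
  · rw [← hA, col_norm h2]
  · rw [← hB, col_norm h2]
  · rw [← hA, col_orth h2 g hab]
  · rw [← hA, col_orth h2 g (Ne.symm hka)]
  · rw [← hB, col_orth h2 g (Ne.symm hkb)]

theorem into_of_commute (h2 : (2 : F) ≠ 0) {g : G} {a b : ι} (hg : g * flipQ {a, b} = flipQ {a, b} * g) :
    Into g a b a b := by
  intro l hla hlb
  have key : ∀ i, i ∈ ({a, b} : Finset ι) → g.1 (ev i) l = 0 := fun i hi => by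
    have h := congrArg (fun k : G => k.1 (ev i) l) hg
    simp only [mul_app, flipQ_apply, flipQ_single, hi, if_true, Finset.mem_insert, Finset.mem_singleton,
      hla, hlb, or_self, if_false, single_smul_ev i (-1 : F), map_smul, Pi.smul_apply, smul_eq_mul] at h
    exact (mul_eq_zero.1 (show 2 * g.1 (ev i) l = 0 by linear_combination -h)).resolve_left h2
  exact ⟨key a (by simp), key b (by simp)⟩

theorem exists_lab (h6 : Fintype.card ι = 6) {a b c d : ι} (hab : a ≠ b) (hac : a ≠ c) (had : a ≠ d)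
    (hbc : b ≠ c) (hbd : b ≠ d) (hcd : c ≠ d) :
    ∃ φ : Fin 6 ≃ ι, φ 0 = a ∧ φ 1 = b ∧ φ 2 = c ∧ φ 3 = d := by
  obtain ⟨φ₀⟩ : Nonempty (Fin 6 ≃ ι) := ⟨(Fintype.equivFinOfCardEq h6).symm⟩
  obtain ⟨φ₁, h₁⟩ : ∃ φ₁ : Fin 6 ≃ ι, φ₁ 0 = a :=
    ⟨φ₀.trans (Equiv.swap (φ₀ 0) a), by simp⟩
  obtain ⟨φ₂, h₂, h₂'⟩ : ∃ φ₂ : Fin 6 ≃ ι, φ₂ 0 = a ∧ φ₂ 1 = b :=
    ⟨φ₁.trans (Equiv.swap (φ₁ 1) b), by
      rw [Equiv.trans_apply, h₁]
      exact Equiv.swap_apply_of_ne_of_ne (h₁ ▸ φ₁.injective.ne (by decide)) hab, by simp⟩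
  obtain ⟨φ₃, h₃, h₃', h₃''⟩ : ∃ φ₃ : Fin 6 ≃ ι, φ₃ 0 = a ∧ φ₃ 1 = b ∧ φ₃ 2 = c :=
    ⟨φ₂.trans (Equiv.swap (φ₂ 2) c), by
      rw [Equiv.trans_apply, h₂]
      exact Equiv.swap_apply_of_ne_of_ne (h₂ ▸ φ₂.injective.ne (by decide)) hac, by
      rw [Equiv.trans_apply, h₂']
      exact Equiv.swap_apply_of_ne_of_ne (h₂' ▸ φ₂.injective.ne (by decide)) hbc, by simp⟩
  refine ⟨φ₃.trans (Equiv.swap (φ₃ 3) d), ?_, ?_, ?_, by simp⟩
  · rw [Equiv.trans_apply, h₃]
    exact Equiv.swap_apply_of_ne_of_ne (h₃ ▸ φ₃.injective.ne (by decide)) had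
  · rw [Equiv.trans_apply, h₃']
    exact Equiv.swap_apply_of_ne_of_ne (h₃' ▸ φ₃.injective.ne (by decide)) hbd
  · rw [Equiv.trans_apply, h₃'']
    exact Equiv.swap_apply_of_ne_of_ne (h₃'' ▸ φ₃.injective.ne (by decide)) hcd

theorem exists_two (h6 : Fintype.card ι = 6) (a b : ι) : ∃ c d : ι, c ≠ d ∧ c ≠ a ∧ c ≠ b ∧ d ≠ a ∧ d ≠ b := by
  obtain ⟨c, d, hc, hd, hcd⟩ := Finset.one_lt_card_iff.1 (show 1 < ({a, b} : Finset ι)ᶜ.card by
    rw [Finset.card_compl, h6]
    have := Finset.card_le_two (a := a) (b := b)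
    omega)
  simp only [Finset.mem_compl, Finset.mem_insert, Finset.mem_singleton, not_or] at hc hd
  exact ⟨c, d, hcd, hc.1, hc.2, hd.1, hd.2⟩

theorem swaps_sign {a b c d : ι} (hab : a ≠ b) (hcd : c ≠ d) :
    Equiv.Perm.sign (Equiv.swap a b * Equiv.swap c d) = 1 := by
  rw [map_mul, Equiv.Perm.sign_swap hab, Equiv.Perm.sign_swap hcd]; rfl

variable (F) in
/-- an overgroup of the monomial group with monomial point stabilisers -/
structure Setting (M : Subgroup (quadIsoms (sq ι F))) : Prop where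
  two : (2 : F) ≠ 0
  six : Fintype.card ι = 6
  le : M ≤ commutator (quadIsoms (sq ι F))
  mem : ∀ g ∈ commutator (quadIsoms (sq ι F)), Mono g → g ∈ M
  small : ∀ g ∈ M, ∀ i, g.1 (Pi.single i 1) = Pi.single i 1 → Mono g

namespace Setting

variable {M : Subgroup (quadIsoms (sq ι F))} (st : Setting F M)
include st

theorem flip_mem {a b : ι} (hab : a ≠ b) : flipQ (F := F) {a, b} ∈ M :=
  st.mem _ (flipQ_mem_commutator hab) (mono_flip _)

theorem perm_mem {σ : Equiv.Perm ι} (hσ : Equiv.Perm.sign σ = 1) : permQ (F := F) σ ∈ M :=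
  st.mem _ (permQ_mem_commutator (by rw [st.six]; norm_num) hσ) (mono_perm σ)

theorem swaps_mem {a b c d : ι} (hab : a ≠ b) (hcd : c ≠ d) :
    permQ (F := F) (Equiv.swap a b * Equiv.swap c d) ∈ M := st.perm_mem (swaps_sign hab hcd)

theorem cancel {g h : G} (hh : Mono h) (hhg : Mono (h * g)) : Mono g := by
  simpa using mono_mul (mono_inv st.two hh) hhg

/-- an element with one monomial column is monomial -/
theorem fix_mono {g : G} (hg : g ∈ M) {i j : ι} {c : F} (h : g.1 (ev i) = Pi.single j c) : Mono g := by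
  have hc : c * c = 1 := by
    have := col_norm st.two g i
    rwa [h, dotProduct_single, Pi.single_eq_same] at this
  obtain ⟨w, hw, hwm, hwj⟩ : ∃ w ∈ M, Mono w ∧ w.1 (ev j) = Pi.single i c := by
    obtain ⟨p, q, hpq, hpj, hpi, hqj, hqi⟩ := exists_two st.six j i
    obtain ⟨w₀, hw₀, hw₀m, hw₀j⟩ : ∃ w ∈ M, Mono w ∧ w.1 (ev j) = Pi.single i (1 : F) := by
      by_cases hji : j = i
      · exact ⟨1, one_mem M, fun l => ⟨l, 1, rfl⟩, by rw [hji]; rfl⟩
      · refine ⟨permQ (Equiv.swap j i * Equiv.swap p q), st.swaps_mem hji hpq, mono_perm _, ?_⟩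
        rw [permQ_single, Equiv.Perm.mul_apply, Equiv.swap_apply_of_ne_of_ne (Ne.symm hpj) (Ne.symm hqj),
          Equiv.swap_apply_left]
    rcases mul_self_eq_one_iff.1 hc with rfl | rfl
    · exact ⟨w₀, hw₀, hw₀m, hw₀j⟩
    · refine ⟨flipQ {i, p} * w₀, mul_mem (st.flip_mem (Ne.symm hpi)) hw₀, mono_mul (mono_flip _) hw₀m, ?_⟩
      rw [mul_app, hw₀j, flipQ_single]
      simp
  refine st.cancel hwm (st.small _ (mul_mem hw hg) i ?_)
  rw [mul_app, h, single_smul_ev j c, map_smul, hwj, ← Pi.single_smul, smul_eq_mul, hc]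

/-- the columns are permuted by an element fixing one of them -/
theorem col_mono {g h : G} (hg : g ∈ M) (hh : h ∈ M) {a : ι} {c : F}
    (hfix : h.1 (g.1 (ev a)) = c • g.1 (ev a)) : Mono (g⁻¹ * h * g) := by
  refine st.fix_mono (mul_mem (mul_mem (inv_mem hg) hh) hg) (i := a) (j := a) (c := c) ?_
  rw [mul_app, mul_app, hfix, map_smul, inv_app, ← single_smul_ev]

theorem col_perm {g h : G} (hg : g ∈ M) (hh : h ∈ M) {a : ι} {c : F}
    (hfix : h.1 (g.1 (ev a)) = c • g.1 (ev a)) (b : ι) :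
    ∃ (j : ι) (d : F), h.1 (g.1 (ev b)) = d • g.1 (ev j) := by
  obtain ⟨j, d, e⟩ := st.col_mono hg hh hfix b
  refine ⟨j, d, ?_⟩
  have := congrArg g.1 e
  rwa [mul_app, mul_app, app_inv, single_smul_ev j d, map_smul] at this

end Setting

end CfsgLib.MaxSub.OSix
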