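import Cfsg.Agent.Lib.MaxSub.OSixMax

/-!
An abelian group of at least 32 involutions in the commutator subgroup of a six-dimensional orthogonal group is
the group of even sign changes of an orthogonal frame with equal values.
-/

set_option autoImplicit false
set_option linter.unusedSectionVars false

namespace CfsgLib.MaxSub.OSix

open CfsgLib.Classical CfsgLib.Geom CfsgLib.MaxSub CfsgLib.MaxSub.OMono
open QuadraticMap (polar)
open scoped Matrix

variable {F : Type*} [Field F]

section general

variable {V : Type*} [AddCommGroup V] [Module F V]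

/-- commuting involutions have spanning common eigenvectors -/
theorem mem_span_common (h2 : (2 : F) ≠ 0) :
    ∀ (l : List (V ≃ₗ[F] V)), (∀ a ∈ l, ∀ v, a (a v) = v) → (∀ a ∈ l, ∀ b ∈ l, ∀ v, a (b v) = b (a v)) →
      ∀ v : V, v ∈ Submodule.span F {w | ∀ a ∈ l, a w = w ∨ a w = -w} := by
  intro l
  induction l with
  | nil => exact fun _ _ v => Submodule.subset_span (by simp)
  | cons a l ih =>
    intro hinv hcomm v
    have hih := ih (fun b hb => hinv b (List.mem_cons_of_mem a hb))
      (fun b hb c hc => hcomm b (List.mem_cons_of_mem a hb) c (List.mem_cons_of_mem a hc)) v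
    refine Submodule.span_le.2 (fun w hw => ?_) hih
    have e : w = (2 : F)⁻¹ • ((w + a w) + (w - a w)) := by
      rw [show (w + a w) + (w - a w) = (2 : F) • w by rw [two_smul]; abel, inv_smul_smul₀ h2]
    rw [e]
    refine Submodule.smul_mem _ _ (Submodule.add_mem _ (Submodule.subset_span ?_) (Submodule.subset_span ?_))
    · intro b hb
      rcases List.mem_cons.1 hb with rfl | hb'
      · left; rw [map_add, hinv b List.mem_cons_self, add_comm]
      · rcases hw b hb' with h | h
        · left; rw [map_add, h, hcomm b hb a List.mem_cons_self, h]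
        · right; rw [map_add, h, hcomm b hb a List.mem_cons_self, h, map_neg, neg_add]
    · intro b hb
      rcases List.mem_cons.1 hb with rfl | hb'
      · right; rw [map_sub, hinv b List.mem_cons_self, neg_sub]
      · rcases hw b hb' with h | h
        · left; rw [map_sub, h, hcomm b hb a List.mem_cons_self, h]
        · right; rw [map_sub, h, hcomm b hb a List.mem_cons_self, h, map_neg, neg_sub, neg_sub_neg]

theorem det_eq_one_of_commutator {Q : QuadraticForm F V} {g : quadIsoms Q} (hg : g ∈ commutator (quadIsoms Q)) :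
    LinearMap.det (g.1 : V →ₗ[F] V) = 1 := by
  have h : (LinearEquiv.det.comp (quadIsoms Q).subtype) g = 1 :=
    Abelianization.commutator_subset_ker (LinearEquiv.det.comp (quadIsoms Q).subtype) hg
  have h' := congrArg Units.val h
  rw [MonoidHom.comp_apply, LinearEquiv.coe_det, Units.val_one] at h'
  exact h'

/-- a product of two reflections in the commutator subgroup has values in one square class -/
theorem sqClass_eq_of_commutator [FiniteDimensional F V] (Q : QuadraticForm F V)
    (hQ : ∀ x, (∀ y, polar Q x y = 0) → x = 0)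
    (hex : (∃ t : F, t ≠ 0 ∧ t ≠ 1) ∨ Module.finrank F V ≠ 4) {u v : V} (hu : Q u ≠ 0) (hv : Q v ≠ 0)
    (h : (⟨reflEquiv Q u hu, reflEquiv_mem Q u hu⟩ * ⟨reflEquiv Q v hv, reflEquiv_mem Q v hv⟩ : quadIsoms Q) ∈
      commutator (quadIsoms Q)) : sqClass hu = sqClass hv := by
  obtain ⟨f, hf⟩ : ∃ f, f = (reflHom Q hQ).comp
      (MulEquiv.subgroupCongr (quadIsoms_eq_closure Q hQ hex)).toMonoidHom := ⟨_, rfl⟩
  have hr : ∀ (w : V) (hw : Q w ≠ 0), f ⟨reflEquiv Q w hw, reflEquiv_mem Q w hw⟩ =
      (Multiplicative.ofAdd 1, sqClass hw) := fun w hw => by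
    rw [hf]
    exact reflHom_refl Q hQ w hw
  have e : f (⟨reflEquiv Q u hu, reflEquiv_mem Q u hu⟩ * ⟨reflEquiv Q v hv, reflEquiv_mem Q v hv⟩) = 1 :=
    Abelianization.commutator_subset_ker f h
  rw [map_mul, hr, hr] at e
  have e' : sqClass hu * sqClass hv = 1 := congrArg Prod.snd e
  exact mul_right_cancel (b := sqClass hv) (e'.trans (sqClass_mul_self _).symm)

end general

variable [Finite F] {κ : Type} [Fintype κ] [DecidableEq κ]

/-- diagonal elements -/
def Diag {ι : Type*} [Fintype ι] [DecidableEq ι] (g : quadIsoms (sq ι F)) : Prop :=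
  ∀ i, ∃ c : F, g.1 (ev i) = c • ev i

theorem sign_vectors : (Finset.univ.filter fun s : Fin 6 → Bool =>
    Even (Finset.univ.filter fun i => s i = false).card).card = 32 := by decide

theorem exists_third : ∀ i j : Fin 6, ∃ l, l ≠ i ∧ l ≠ j := by decide

/-- the frame of an abelian group of involutions -/
theorem exists_frame (h2 : (2 : F) ≠ 0) (hκ : Fintype.card κ = 6) (Q : QuadraticForm F (κ → F))
    (hQ : ∀ x, (∀ y, polar Q x y = 0) → x = 0) (A : Subgroup (quadIsoms Q)) (hA : A ≤ commutator (quadIsoms Q))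
    (hsq : ∀ a ∈ A, a * a = 1) (hab : ∀ a ∈ A, ∀ b ∈ A, a * b = b * a) (hcard : 32 ≤ Nat.card A) :
    ∃ (ψ : (κ → F) ≃ₗ[F] (Fin 6 → F)) (c : F) (hc : c ≠ 0) (hψ : ∀ x, Q x = c * sq (Fin 6) F (ψ x)),
      ∀ k ∈ commutator (quadIsoms Q), k ∈ A ↔ Diag (conjHom Q ψ hc hψ k) := by
  classical
  haveI := OLines.finite_quadIsoms (Pi.basisFun F κ) (Q := Q)
  haveI : Fintype A := Fintype.ofFinite A
  obtain ⟨E, hEdef⟩ : ∃ E : Set (κ → F), E = {w | ∀ a : A, a.1.1 w = w ∨ a.1.1 w = -w} := ⟨_, rfl⟩
  have hspan : ⊤ ≤ Submodule.span F E := fun v _ => by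
    have h := mem_span_common h2 ((Finset.univ : Finset A).toList.map fun a => a.1.1) (fun x hx w => by
        obtain ⟨a, -, rfl⟩ := List.mem_map.1 hx
        exact congrArg (fun k : quadIsoms Q => k.1 w) (hsq a a.2))
      (fun x hx y hy w => by
        obtain ⟨a, -, rfl⟩ := List.mem_map.1 hx
        obtain ⟨b, -, rfl⟩ := List.mem_map.1 hy
        exact congrArg (fun k : quadIsoms Q => k.1 w) (hab a a.2 b b.2)) v
    refine Submodule.span_mono ?_ h
    rw [hEdef]
    exact fun w hw a => hw _ (List.mem_map.2 ⟨a, by simp, rfl⟩)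
  obtain ⟨b₀, hb₀⟩ : ∃ b₀ : Module.Basis (Fin 6) F (κ → F), ∀ i, b₀ i ∈ E := by
    obtain ⟨s, hs, hsspan, hli⟩ := exists_linearIndependent F E
    let b := Module.Basis.mk hli (by rw [Subtype.range_coe]; exact hsspan ▸ hspan)
    haveI : Fintype s := Fintype.ofFinite s
    have hc : Fintype.card s = 6 := by
      rw [← Module.finrank_eq_card_basis b, Module.finrank_fintype_fun_eq_card, hκ]
    exact ⟨b.reindex (Fintype.equivFinOfCardEq hc), fun i => by
      simp only [b, Module.Basis.reindex_apply, Module.Basis.coe_mk]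
      exact hs (Subtype.coe_prop _)⟩
  subst hEdef
  obtain ⟨σ, hσ⟩ : ∃ σ : A → Fin 6 → Bool, σ = fun a i => decide (a.1.1 (b₀ i) = b₀ i) := ⟨_, rfl⟩
  have hact : ∀ (a : A) i, a.1.1 (b₀ i) = (if σ a i = false then (-1 : F) else 1) • b₀ i := fun a i => by
    by_cases h : a.1.1 (b₀ i) = b₀ i
    · rw [hσ]; simp [h]
    · rw [hσ]; simp [h, ((hb₀ i) a).resolve_left h]
  have hinj : Function.Injective σ := fun a a' e => Subtype.ext (Subtype.ext (LinearEquiv.toLinearMap_injective
    (b₀.ext fun i => by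
      show a.1.1 (b₀ i) = a'.1.1 (b₀ i)
      rw [hact, hact, e])))
  have hdet : ∀ (f : (κ → F) →ₗ[F] (κ → F)) (d : Fin 6 → F), (∀ i, f (b₀ i) = d i • b₀ i) →
      LinearMap.det f = ∏ i, d i := fun f d hd => by
    rw [← LinearMap.det_toMatrix b₀, ← Matrix.det_diagonal]
    congr 1
    ext i j
    rw [LinearMap.toMatrix_apply, hd, map_smul, Module.Basis.repr_self, Matrix.diagonal_apply]
    by_cases h : i = j
    · subst h; simp
    · simp [h, Ne.symm h]
  have hev : ∀ s : Fin 6 → Bool, (∏ i, (if s i = false then (-1 : F) else 1)) = 1 →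
      Even (Finset.univ.filter fun i => s i = false).card := fun s h => by
    rw [Finset.prod_ite, Finset.prod_const_one, mul_one, Finset.prod_const] at h
    by_contra ho
    rw [Nat.not_even_iff_odd] at ho
    rw [ho.neg_one_pow] at h
    exact h2 (by linear_combination -h)
  have heven : ∀ a : A, Even (Finset.univ.filter fun i => σ a i = false).card := fun a =>
    hev _ (by rw [← hdet _ _ (hact a), det_eq_one_of_commutator (hA a.2)])
  have hall : ∀ s : Fin 6 → Bool, Even (Finset.univ.filter fun i => s i = false).card → ∃ a : A, σ a = s :=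
    fun s hs => by
    have e : (Finset.univ : Finset A).image σ = Finset.univ.filter
        fun s : Fin 6 → Bool => Even (Finset.univ.filter fun i => s i = false).card := by
      refine Finset.eq_of_subset_of_card_le (fun s hs => ?_) ?_
      · obtain ⟨a, -, rfl⟩ := Finset.mem_image.1 hs
        exact Finset.mem_filter.2 ⟨Finset.mem_univ _, heven a⟩
      · rw [Finset.card_image_of_injective _ hinj, sign_vectors, Finset.card_univ]
        rwa [Nat.card_eq_fintype_card] at hcard
    obtain ⟨a, -, ha⟩ := Finset.mem_image.1 (e.ge (Finset.mem_filter.2 ⟨Finset.mem_univ s, hs⟩))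
    exact ⟨a, ha⟩
  have hpair : ∀ i j : Fin 6, i ≠ j → ∃ a : A, ∀ l, a.1.1 (b₀ l) = if l = i ∨ l = j then -b₀ l else b₀ l := by
    intro i j hij
    obtain ⟨a, ha⟩ := hall (fun l => decide ¬(l = i ∨ l = j)) (by
      rw [show (Finset.univ.filter fun l : Fin 6 => (decide ¬(l = i ∨ l = j)) = false) = {i, j} by ext l; by_cases h : l = i <;> simp [h],
        Finset.card_pair hij]
      exact even_two)
    refine ⟨a, fun l => ?_⟩
    rw [hact, ha]
    by_cases h : l = i ∨ l = j
    · simp [h]
    · simp [h]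
  have horth : ∀ i j, i ≠ j → polar Q (b₀ i) (b₀ j) = 0 := by
    intro i j hij
    obtain ⟨l, hli, hlj⟩ := exists_third i j
    obtain ⟨a, ha⟩ := hpair i l (Ne.symm hli)
    have e : polar Q (a.1.1 (b₀ i)) (a.1.1 (b₀ j)) = polar Q (b₀ i) (b₀ j) := by
      rw [QuadraticMap.polar, ← map_add, a.1.2, a.1.2, a.1.2, ← QuadraticMap.polar]
    rw [ha, ha, if_pos (Or.inl rfl), if_neg (by simp [Ne.symm hij, Ne.symm hlj]),
      QuadraticMap.polar_neg_left] at e
    exact (mul_eq_zero.1 (show (2 : F) * polar Q (b₀ i) (b₀ j) = 0 by linear_combination -e)).resolve_left h2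
  have hpol : ∀ i x, polar Q (b₀ i) x = b₀.repr x i * (2 * Q (b₀ i)) := by
    intro i x
    conv_lhs => rw [← b₀.sum_repr x]
    show Q.polarBilin (b₀ i) (∑ j, b₀.repr x j • b₀ j) = _
    rw [map_sum, Finset.sum_eq_single i (fun j _ hj => ?_) (by simp)]
    · rw [map_smul]
      show b₀.repr x i * polar Q (b₀ i) (b₀ i) = _
      rw [polar_self_two]
    · rw [map_smul]
      show b₀.repr x j * polar Q (b₀ i) (b₀ j) = _
      rw [horth i j (Ne.symm hj), mul_zero]
  have hne : ∀ i, Q (b₀ i) ≠ 0 := fun i h => b₀.ne_zero i (hQ _ fun y => by rw [hpol, h, mul_zero, mul_zero])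
  have hex : (∃ t : F, t ≠ 0 ∧ t ≠ 1) ∨ Module.finrank F (κ → F) ≠ 4 :=
    Or.inr (by rw [Module.finrank_fintype_fun_eq_card, hκ]; norm_num)
  have hclass : ∀ i j : Fin 6, i ≠ j → sqClass (hne i) = sqClass (hne j) := by
    intro i j hij
    refine sqClass_eq_of_commutator Q hQ hex (hne i) (hne j) ?_
    obtain ⟨a, ha⟩ := hpair i j hij
    have e : (⟨reflEquiv Q (b₀ i) (hne i), reflEquiv_mem Q _ (hne i)⟩ *
        ⟨reflEquiv Q (b₀ j) (hne j), reflEquiv_mem Q _ (hne j)⟩ : quadIsoms Q) = a.1 := by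
      refine Subtype.ext (LinearEquiv.toLinearMap_injective (b₀.ext fun l => ?_))
      show reflEquiv Q (b₀ i) (hne i) (reflEquiv Q (b₀ j) (hne j) (b₀ l)) = a.1.1 (b₀ l)
      rw [ha]
      by_cases hlj : l = j
      · subst hlj
        rw [if_pos (Or.inr rfl), reflEquiv_apply Q (b₀ l), polar_self_two,
          show (Q (b₀ l))⁻¹ * (2 * Q (b₀ l)) = 2 by field_simp [hne l],
          show b₀ l - (2 : F) • b₀ l = -b₀ l by rw [two_smul]; abel, map_neg, reflEquiv_apply,
          horth i l hij, mul_zero, zero_smul, sub_zero]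
      · rw [reflEquiv_apply Q (b₀ j), horth j l (Ne.symm hlj), mul_zero, zero_smul, sub_zero, reflEquiv_apply]
        by_cases hli : l = i
        · subst hli
          rw [if_pos (Or.inl rfl), polar_self_two,
            show (Q (b₀ l))⁻¹ * (2 * Q (b₀ l)) = 2 by field_simp [hne l], two_smul]
          abel
        · rw [if_neg (by simp [hli, hlj]), horth i l (Ne.symm hli), mul_zero, zero_smul, sub_zero]
    rw [e]
    exact hA a.2
  obtain ⟨c, hcdef⟩ : ∃ c, c = Q (b₀ 0) := ⟨_, rfl⟩
  have hc : c ≠ 0 := hcdef ▸ hne 0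
  have hscale : ∀ i, ∃ t : F, t ≠ 0 ∧ t * t * Q (b₀ i) = c := fun i => by
    rcases eq_or_ne i 0 with rfl | h
    · exact ⟨1, one_ne_zero, by rw [one_mul, one_mul, hcdef]⟩
    · obtain ⟨t, ht, e⟩ := (sqClass_eq_iff (hne i) (hne 0)).1 (hclass i 0 h)
      refine ⟨t⁻¹, inv_ne_zero ht, ?_⟩
      rw [e, hcdef]
      field_simp
  choose t ht htQ using hscale
  obtain ⟨b, hbdef⟩ : ∃ b, b = b₀.unitsSMul (fun i => Units.mk0 (t i) (ht i)) := ⟨_, rfl⟩
  have hb : ∀ i, b i = t i • b₀ i := fun i => by rw [hbdef, Module.Basis.unitsSMul_apply]; rfl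
  have hQb : ∀ i, Q (b i) = c := fun i => by rw [hb, QuadraticMap.map_smul, smul_eq_mul, htQ]
  have hpolb : ∀ i x, polar Q (b i) x = b.repr x i * (2 * c) := by
    intro i x
    conv_lhs => rw [← b.sum_repr x]
    show Q.polarBilin (b i) (∑ j, b.repr x j • b j) = _
    rw [map_sum, Finset.sum_eq_single i (fun j _ hj => ?_) (by simp)]
    · rw [map_smul]
      show b.repr x i * polar Q (b i) (b i) = _
      rw [polar_self_two, hQb]
    · rw [map_smul]
      show b.repr x j * polar Q (b i) (b j) = _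
      rw [hb, hb, QuadraticMap.polar_smul_left, QuadraticMap.polar_smul_right, horth i j (Ne.symm hj)]
      simp
  have hψ : ∀ x, Q x = c * sq (Fin 6) F (b.equivFun x) := by
    intro x
    apply mul_left_cancel₀ h2
    have e2 : polar Q x x = ∑ i, b.repr x i * polar Q (b i) x := by
      conv_lhs => arg 2; rw [← b.sum_repr x]
      show Q.polarBilin (∑ j, b.repr x j • b j) x = _
      rw [map_sum, LinearMap.sum_apply]
      exact Finset.sum_congr rfl fun j _ => by rw [map_smul, LinearMap.smul_apply]; rfl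
    rw [← polar_self_two, e2, sq_apply, dotProduct, Finset.mul_sum, Finset.mul_sum]
    refine Finset.sum_congr rfl fun i _ => ?_
    rw [hpolb, Module.Basis.equivFun_apply]
    ring
  refine ⟨b.equivFun, c, hc, hψ, fun k hk => ?_⟩
  have hΦ : ∀ i (d : F), (conjHom Q b.equivFun hc hψ k).1 (ev i) = d • ev i ↔ k.1 (b₀ i) = d • b₀ i := by
    intro i d
    show b.equivFun (k.1 (b.equivFun.symm (ev i))) = _ ↔ _
    rw [show b.equivFun.symm (ev i) = b i by
      rw [Module.Basis.equivFun_symm_apply]; simp [ev, Pi.single_apply]]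
    have e : d • ev i = b.equivFun (d • b i) := by
      rw [map_smul]
      congr 1
      ext l
      simp [ev, Module.Basis.equivFun_apply, Finsupp.single_apply, Pi.single_apply, eq_comm]
    rw [e, b.equivFun.injective.eq_iff, hb, map_smul, smul_comm d (t i)]
    exact ⟨fun h => smul_right_injective _ (ht i) h, fun h => by rw [h]⟩
  constructor
  · intro hkA i
    exact ⟨_, (hΦ i _).2 (hact ⟨k, hkA⟩ i)⟩
  · intro hD
    choose d hd using hD
    have hd0 : ∀ i, k.1 (b₀ i) = d i • b₀ i := fun i => (hΦ i (d i)).1 (hd i)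
    have hd1 : ∀ i, d i = 1 ∨ d i = -1 := fun i => by
      have h := k.2 (b₀ i)
      rw [hd0, QuadraticMap.map_smul, smul_eq_mul] at h
      exact mul_self_eq_one_iff.1 (mul_right_cancel₀ (hne i) (by rw [h, one_mul]))
    have hds : ∀ i, d i = if decide (d i = 1) = false then (-1 : F) else 1 := fun i => by
      by_cases h : d i = 1
      · simp [h]
      · simp [(hd1 i).resolve_left h, show (-1 : F) ≠ 1 from fun e => h2 (by linear_combination -e)]
    obtain ⟨a, ha⟩ := hall (fun i => decide (d i = 1)) (hev _ (by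
      refine Eq.trans ?_ ((hdet _ d hd0).symm.trans (det_eq_one_of_commutator hk))
      exact Finset.prod_congr rfl fun i _ => (hds i).symm))
    have e : k = a.1 := Subtype.ext (LinearEquiv.toLinearMap_injective (b₀.ext fun i => by
      show k.1 (b₀ i) = a.1.1 (b₀ i)
      rw [hd0, hact, ha, ← hds]))
    exact e ▸ a.2

end CfsgLib.MaxSub.OSix
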