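import Cfsg.Agent.Lib.MaxSub.OSixPlane

/-!
Six coordinates: a sign change on two coordinates has only monomial conjugates by monomial elements.
-/

set_option autoImplicit false
set_option linter.unusedSectionVars false

namespace CfsgLib.MaxSub.OSix

open CfsgLib.Classical CfsgLib.Geom CfsgLib.MaxSub CfsgLib.MaxSub.OMono
open scoped Matrix

variable {ι F : Type*} [Fintype ι] [DecidableEq ι] [Field F]

local notation "G" => quadIsoms (sq ι F)

theorem ext_ev {g h : G} (H : ∀ i, g.1 (ev i) = h.1 (ev i)) : g = h := by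
  refine Subtype.ext (LinearEquiv.toLinearMap_injective ((Pi.basisFun F ι).ext fun i => ?_))
  rw [Pi.basisFun_apply]
  exact H i

theorem flip_mul_self (A : Finset ι) : flipQ (F := F) A * flipQ A = 1 :=
  quadIsoms_ext _ fun x => flipLin_flipLin A x

theorem flip_inv (A : Finset ι) : (flipQ (F := F) A)⁻¹ = flipQ A :=
  inv_eq_of_mul_eq_one_right (flip_mul_self A)

theorem single_eq {i j : ι} {c d : F} (h : (Pi.single i c : ι → F) = Pi.single j d) (hc : c ≠ 0) : i = j := by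
  by_contra hne
  have := congrFun h i
  rw [Pi.single_eq_same, Pi.single_eq_of_ne hne] at this
  exact hc this

theorem mono_det (h2 : (2 : F) ≠ 0) {g : G} (hc : g ∈ commutator (quadIsoms (sq ι F)))
    {σ : Equiv.Perm ι} {s : ι → F} (hs : ∀ i, g.1 (ev i) = Pi.single (σ i) (s i)) :
    ((Equiv.Perm.sign σ : ℤ) : F) * ∏ i, s i = 1 := by
  have e := OLines.det_mono (b := Pi.basisFun F ι) g σ s fun i => by
    rw [Pi.basisFun_apply, Pi.basisFun_apply, ← single_smul_ev]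
    exact hs i
  rw [OLines.det_commutator hc] at e
  exact e.symm

theorem invol_cases (h6 : Fintype.card ι = 6) {σ : Equiv.Perm ι} (h : ∀ i, σ (σ i) = i) :
    σ = 1 ∨ (∃ φ : Fin 6 ≃ ι, σ = Equiv.swap (φ 0) (φ 1)) ∨
      (∃ φ : Fin 6 ≃ ι, σ = Equiv.swap (φ 0) (φ 1) * Equiv.swap (φ 2) (φ 3)) ∨
      ∃ φ : Fin 6 ≃ ι, σ = Equiv.swap (φ 0) (φ 1) * Equiv.swap (φ 2) (φ 3) * Equiv.swap (φ 4) (φ 5) := by
  by_cases h1 : ∀ i, σ i = i
  · exact Or.inl (Equiv.ext h1)
  push Not at h1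
  obtain ⟨a, ha⟩ := h1
  have hab : a ≠ σ a := Ne.symm ha
  by_cases h2 : ∀ i, i ≠ a → i ≠ σ a → σ i = i
  · obtain ⟨c, d, hcd, hca, hcb, hda, hdb⟩ := exists_two h6 a (σ a)
    obtain ⟨φ, e0, e1, -, -⟩ := exists_lab h6 hab (Ne.symm hca) (Ne.symm hda) (Ne.symm hcb) (Ne.symm hdb) hcd
    refine Or.inr (Or.inl ⟨φ, Equiv.ext fun i => ?_⟩)
    rw [e0, e1]
    by_cases hia : i = a
    · rw [hia, Equiv.swap_apply_left]
    by_cases hib : i = σ a
    · rw [hib, Equiv.swap_apply_right, h]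
    rw [h2 i hia hib, Equiv.swap_apply_of_ne_of_ne hia hib]
  push Not at h2
  obtain ⟨c, hca, hcb, hc⟩ := h2
  have hda : σ c ≠ a := fun e => hcb (by rw [← h c, e])
  have hdb : σ c ≠ σ a := σ.injective.ne hca
  obtain ⟨φ, e0, e1, e2, e3⟩ := exists_lab h6 hab (Ne.symm hca) (Ne.symm hda) (Ne.symm hcb) (Ne.symm hdb)
    (Ne.symm hc)
  have d : ∀ i j : Fin 6, i ≠ j → φ i ≠ φ j := fun i j h => φ.injective.ne h
  have f0 : σ (φ 0) = φ 1 := by rw [e0, e1]
  have f1 : σ (φ 1) = φ 0 := by rw [e0, e1, h]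
  have f2 : σ (φ 2) = φ 3 := by rw [e2, e3]
  have f3 : σ (φ 3) = φ 2 := by rw [e2, e3, h]
  obtain ⟨k, hk⟩ := φ.surjective (σ (φ 4))
  fin_cases k
  · exact absurd (σ.injective (hk.symm.trans f1.symm)) (d 4 1 (by decide))
  · exact absurd (σ.injective (hk.symm.trans f0.symm)) (d 4 0 (by decide))
  · exact absurd (σ.injective (hk.symm.trans f3.symm)) (d 4 3 (by decide))
  · exact absurd (σ.injective (hk.symm.trans f2.symm)) (d 4 2 (by decide))
  · have f4 : σ (φ 4) = φ 4 := hk.symm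
    have f5 : σ (φ 5) = φ 5 := by
      obtain ⟨k', hk'⟩ := φ.surjective (σ (φ 5))
      fin_cases k'
      · exact absurd (σ.injective (hk'.symm.trans f1.symm)) (d 5 1 (by decide))
      · exact absurd (σ.injective (hk'.symm.trans f0.symm)) (d 5 0 (by decide))
      · exact absurd (σ.injective (hk'.symm.trans f3.symm)) (d 5 3 (by decide))
      · exact absurd (σ.injective (hk'.symm.trans f2.symm)) (d 5 2 (by decide))
      · exact absurd (σ.injective (hk'.symm.trans f4.symm)) (d 5 4 (by decide))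
      · exact hk'.symm
    refine Or.inr (Or.inr (Or.inl ⟨φ, Equiv.ext fun i => ?_⟩))
    obtain ⟨i, rfl⟩ := φ.surjective i
    fin_cases i <;> simp [f0, f1, f2, f3, f4, f5, Equiv.Perm.mul_apply, Equiv.swap_apply_def]
  · have f4 : σ (φ 4) = φ 5 := hk.symm
    have f5 : σ (φ 5) = φ 4 := by rw [← f4, h]
    refine Or.inr (Or.inr (Or.inr ⟨φ, Equiv.ext fun i => ?_⟩))
    obtain ⟨i, rfl⟩ := φ.surjective i
    fin_cases i <;> simp [f0, f1, f2, f3, f4, f5, Equiv.Perm.mul_apply, Equiv.swap_apply_def]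

theorem prod_six (φ : Fin 6 ≃ ι) (f : ι → F) :
    ∏ i, f i = f (φ 0) * f (φ 1) * f (φ 2) * f (φ 3) * f (φ 4) * f (φ 5) := by
  rw [← Equiv.prod_comp φ, Fin.prod_univ_six]

theorem sum_six (φ : Fin 6 ≃ ι) (f : ι → F) :
    ∑ i, f i = f (φ 0) + f (φ 1) + f (φ 2) + f (φ 3) + f (φ 4) + f (φ 5) := by
  rw [← Equiv.sum_comp φ, Fin.sum_univ_six]

/-- the data of a monomial conjugate of a sign change on two coordinates -/
structure Fused (g : G) (a b : ι) (σ : Equiv.Perm ι) (s : ι → F) : Prop where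
  col : ∀ i, (g * flipQ {a, b} * g⁻¹).1 (ev i) = Pi.single (σ i) (s i)
  sq : ∀ i, s i * s i = 1
  invol : ∀ i, σ (σ i) = i
  pair : ∀ i, s (σ i) * s i = 1
  va : ∀ i, s i * g.1 (ev a) i = -g.1 (ev a) (σ i)
  vb : ∀ i, s i * g.1 (ev b) i = -g.1 (ev b) (σ i)
  trace : ∑ i, (if σ i = i then s i else 0) = 2
  det : ((Equiv.Perm.sign σ : ℤ) : F) * ∏ i, s i = 1

namespace Setting

variable {M : Subgroup (quadIsoms (sq ι F))} (st : Setting F M)
include st

theorem conj_flip_mem {g : G} (hg : g ∈ M) {a b : ι} (hab : a ≠ b) : g * flipQ {a, b} * g⁻¹ ∈ M :=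
  mul_mem (mul_mem hg (st.flip_mem hab)) (inv_mem hg)

theorem exists_fused {g : G} (hg : g ∈ M) {a b : ι} (hab : a ≠ b) (hx : Mono (g * flipQ {a, b} * g⁻¹)) :
    ∃ σ s, Fused g a b σ s := by
  have h2 := st.two
  obtain ⟨σ, s, hs, hsq, hc⟩ := mono_form h2 hx
  obtain ⟨x, hxd⟩ : ∃ x, x = g * flipQ {a, b} * g⁻¹ := ⟨_, rfl⟩
  have hxx : x * x = 1 := by
    rw [hxd, show g * flipQ {a, b} * g⁻¹ * (g * flipQ {a, b} * g⁻¹) = g * (flipQ {a, b} * flipQ {a, b}) * g⁻¹ by group,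
      flip_mul_self]
    group
  have hxx' : ∀ i, Pi.single (σ (σ i)) (s (σ i) * s i) = (ev i : ι → F) := fun i => by
    have e := congrArg (fun k : G => k.1 (ev i)) hxx
    simp only [mul_app] at e
    rw [hxd, hs, single_smul_ev (σ i), map_smul, hs, ← Pi.single_smul, smul_eq_mul, mul_comm] at e
    exact e
  have hs0 : ∀ i, s i ≠ 0 := fun i e => by simpa [e] using hsq i
  have hinv : ∀ i, σ (σ i) = i := fun i => single_eq (hxx' i) (mul_ne_zero (hs0 _) (hs0 _))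
  have hneg : ∀ c, c = a ∨ c = b → ∀ i, s i * g.1 (ev c) i = -g.1 (ev c) (σ i) := fun c hc' i => by
    rw [← hc, mul_app, mul_app, inv_app, flipQ_single, if_pos (by simpa using hc'), single_smul_ev c (-1 : F),
      map_smul, neg_one_smul]
    rfl
  refine ⟨σ, s, hs, hsq, hinv, fun i => ?_, hneg a (Or.inl rfl), hneg b (Or.inr rfl), ?_,
    mono_det h2 (st.le (st.conj_flip_mem hg hab)) hs⟩
  · have e := congrFun (hxx' i) i
    rwa [hinv, Pi.single_eq_same, ev, Pi.single_eq_same] at e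
  · have hd : ∀ i, (if σ i = i then s i else 0) =
        1 - 2 * (g.1 (ev a) i * g.1 (ev a) i) - 2 * (g.1 (ev b) i * g.1 (ev b) i) := fun i => by
      have e := congrFun (hs i) i
      rw [conj_flip_apply h2 g hab, comp, comp] at e
      simp only [Pi.sub_apply, Pi.smul_apply, smul_eq_mul, ev, Pi.single_eq_same] at e
      rw [show (if σ i = i then s i else 0) = (Pi.single (σ i) (s i) : ι → F) i by
        rw [Pi.single_apply]; simp only [eq_comm], ← e]
      simp only [ev]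
      ring
    have n1 := col_norm h2 g a
    have n2 := col_norm h2 g b
    rw [dotProduct] at n1 n2
    rw [Finset.sum_congr rfl fun i _ => hd i, Finset.sum_sub_distrib, Finset.sum_sub_distrib,
      ← Finset.mul_sum, ← Finset.mul_sum, n1, n2, Finset.sum_const, Finset.card_univ, st.six, nsmul_eq_mul]
    norm_num

/-- two columns in a coordinate plane -/
theorem into_mono {g : G} (hg : g ∈ M) {a b r s : ι} (hab : a ≠ b) (hrs : r ≠ s) (hI : Into g a b r s) :
    Mono g := by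
  obtain ⟨τ, hτ⟩ : ∃ τ, τ = Equiv.swap (Equiv.swap r a s) b * Equiv.swap r a := ⟨_, rfl⟩
  have hs'a : Equiv.swap r a s ≠ a := by
    conv_rhs => rw [← Equiv.swap_apply_left r a]
    exact (Equiv.injective _).ne (Ne.symm hrs)
  have er : τ r = a := by
    rw [hτ, Equiv.Perm.mul_apply, Equiv.swap_apply_left, Equiv.swap_apply_of_ne_of_ne (Ne.symm hs'a) hab]
  have es : τ s = b := by rw [hτ, Equiv.Perm.mul_apply, Equiv.swap_apply_left]
  obtain ⟨σ, hσ, esr, ess⟩ : ∃ σ : Equiv.Perm ι, Equiv.Perm.sign σ = 1 ∧ σ r = a ∧ σ s = b := by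
    rcases Int.units_eq_one_or (Equiv.Perm.sign τ) with h | h
    · exact ⟨τ, h, er, es⟩
    · obtain ⟨p, q, hpq, hpa, hpb, hqa, hqb⟩ := exists_two st.six a b
      refine ⟨Equiv.swap p q * τ, by rw [map_mul, Equiv.Perm.sign_swap hpq, h]; rfl, ?_, ?_⟩
      · rw [Equiv.Perm.mul_apply, er, Equiv.swap_apply_of_ne_of_ne (Ne.symm hpa) (Ne.symm hqa)]
      · rw [Equiv.Perm.mul_apply, es, Equiv.swap_apply_of_ne_of_ne (Ne.symm hpb) (Ne.symm hqb)]
  refine st.cancel (mono_perm σ) (st.plane_mono (mul_mem (st.perm_mem hσ) hg) hab fun i p q => ?_)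
  rw [mul_app, mul_app, permQ_apply, permQ_apply]
  exact hI _ (fun e => p (by rw [← σ.apply_symm_apply i, e, esr]))
    (fun e => q (by rw [← σ.apply_symm_apply i, e, ess]))

/-- symmetries of a monomial conjugate keep the two columns -/
theorem col_pair {g h : G} (hg : g ∈ M) (hh : h ∈ M) {a b : ι} (hab : a ≠ b)
    (hc : h * (g * flipQ {a, b} * g⁻¹) = g * flipQ {a, b} * g⁻¹ * h) :
    ∃ j d, (j = a ∨ j = b) ∧ h.1 (g.1 (ev a)) = (d : F) • g.1 (ev j) := by
  have h2 := st.two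
  have ht : g⁻¹ * h * g * flipQ {a, b} = flipQ {a, b} * (g⁻¹ * h * g) :=
    calc g⁻¹ * h * g * flipQ {a, b} = g⁻¹ * (h * (g * flipQ {a, b} * g⁻¹)) * g := by group
      _ = g⁻¹ * (g * flipQ {a, b} * g⁻¹ * h) * g := by rw [hc]
      _ = flipQ {a, b} * (g⁻¹ * h * g) := by group
  have hI := into_of_commute h2 ht
  obtain ⟨j, d, e⟩ := st.plane_mono (mul_mem (mul_mem (inv_mem hg) hh) hg) hab hI a
  have hd : d * d = 1 := by
    have := col_norm h2 (g⁻¹ * h * g) a
    rwa [show (g⁻¹ * h * g).1 (ev a) = Pi.single j d from e, dotProduct_single, Pi.single_eq_same] at this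
  refine ⟨j, d, ?_, ?_⟩
  · by_contra hj
    push Not at hj
    have := (hI j hj.1 hj.2).1
    rw [show (g⁻¹ * h * g).1 (ev a) = Pi.single j d from e, Pi.single_eq_same] at this
    rw [this, mul_zero] at hd
    exact zero_ne_one hd
  · have := congrArg g.1 e
    rwa [mul_app, mul_app, app_inv, single_smul_ev j d, map_smul] at this

/-- diagonal conjugates -/
theorem diag_mono {g : G} (hg : g ∈ M) {a b : ι} (hab : a ≠ b) {s : ι → F} (hf : Fused g a b 1 s) :
    Mono g := by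
  classical
  have h2 := st.two
  obtain ⟨N, hN⟩ : ∃ N, N = Finset.univ.filter fun i => s i = -1 := ⟨_, rfl⟩
  have hmem : ∀ i, i ∈ N ↔ s i = -1 := fun i => by simp [hN]
  have hval : ∀ i, s i = if i ∈ N then -1 else 1 := fun i => by
    split_ifs with h
    · exact (hmem i).1 h
    · exact (mul_self_eq_one_iff.1 (hf.sq i)).resolve_right fun e => h ((hmem i).2 e)
  have hev : Even N.card := by
    have h := hf.det
    rw [map_one, Units.val_one, Int.cast_one, one_mul, Finset.prod_congr rfl (fun i _ => hval i),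
      Finset.prod_ite_mem, Finset.univ_inter, Finset.prod_const] at h
    by_contra hodd
    rw [Nat.not_even_iff_odd] at hodd
    rw [hodd.neg_one_pow] at h
    exact h2 (by linear_combination -h)
  have hsum : (6 : F) - 2 * (N.card : F) = 2 := by
    have h := hf.trace
    simp only [Equiv.Perm.one_apply, if_true] at h
    have e : ∀ i, s i = 1 - (if i ∈ N then 2 else 0) := fun i => by rw [hval]; split_ifs <;> ring
    rw [Finset.sum_congr rfl (fun i _ => e i), Finset.sum_sub_distrib, Finset.sum_ite_mem, Finset.univ_inter,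
      Finset.sum_const, Finset.sum_const, Finset.card_univ, st.six, nsmul_eq_mul, nsmul_eq_mul] at h
    norm_num at h
    linear_combination h
  have hle : N.card ≤ 6 := st.six ▸ Finset.card_le_univ N
  have hN2 : N.card = 2 := by
    obtain ⟨k, hk⟩ := hev
    have h4 : (4 : F) ≠ 0 := by rw [show (4 : F) = 2 * 2 by norm_num]; exact mul_ne_zero h2 h2
    have hk3 : k ≤ 3 := by omega
    rw [hk]
    interval_cases k
    · rw [hk] at hsum; norm_num at hsum
      exact absurd (by linear_combination hsum) h4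
    · rfl
    · rw [hk] at hsum; norm_num at hsum
      exact absurd (by linear_combination -hsum) h4
    · rw [hk] at hsum; norm_num at hsum
      exact absurd (show (4 : F) * 2 = 0 by linear_combination -hsum) (mul_ne_zero h4 h2)
  obtain ⟨r, r', hrr, hNe⟩ := Finset.card_eq_two.1 hN2
  have hz : ∀ c, (∀ i, s i * g.1 (ev c) i = -g.1 (ev c) i) → ∀ i, i ≠ r → i ≠ r' → g.1 (ev c) i = 0 :=
    fun c hc i p q => by
      have := hc i
      rw [hval, if_neg (by simp [hNe, p, q]), one_mul] at this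
      exact (mul_eq_zero.1 (show (2 : F) * g.1 (ev c) i = 0 by linear_combination this)).resolve_left h2
  exact st.into_mono hg hab hrr fun i p q => ⟨hz a hf.va i p q, hz b hf.vb i p q⟩

/-- two pairs, a column inside one pair -/
theorem pairs_zero {g : G} (hg : g ∈ M) {a b r r' u u' e f : ι} (hab : a ≠ b) (φ : Fin 6 ≃ ι)
    (hφ : φ 0 = r ∧ φ 1 = r' ∧ φ 2 = u ∧ φ 3 = u' ∧ φ 4 = e ∧ φ 5 = f)
    (hv : ∀ c, c = a ∨ c = b → g.1 (ev c) r' = -g.1 (ev c) r ∧ g.1 (ev c) u' = -g.1 (ev c) u ∧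
      g.1 (ev c) e = 0 ∧ g.1 (ev c) f = 0) : g.1 (ev a) r ≠ 0 := by
  have h2 := st.two
  obtain ⟨h0, h1, h2', h3, h4, h5⟩ := hφ
  intro hr
  obtain ⟨hva1, hva2, hva3, hva4⟩ := hv a (Or.inl rfl)
  obtain ⟨hvb1, hvb2, hvb3, hvb4⟩ := hv b (Or.inr rfl)
  obtain ⟨v, hv'⟩ : ∃ v, v = g.1 (ev a) := ⟨_, rfl⟩
  obtain ⟨w, hw'⟩ : ∃ w, w = g.1 (ev b) := ⟨_, rfl⟩
  rw [← hv'] at hva1 hva2 hva3 hva4 hr
  rw [← hw'] at hvb1 hvb2 hvb3 hvb4
  rw [hr, neg_zero] at hva1
  have sumφ : ∀ x y : ι → F, x ⬝ᵥ y = x r * y r + x r' * y r' + x u * y u + x u' * y u' + x e * y e + x f * y f :=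
    fun x y => by rw [dotProduct, sum_six φ, h0, h1, h2', h3, h4, h5]
  have hvu : v u ≠ 0 := fun h0' => by
    have := col_norm h2 g a
    rw [← hv', sumφ, hr, hva1, hva2, hva3, hva4, h0'] at this
    simp at this
  have hwu : w u = 0 := by
    have := col_orth h2 g hab
    rw [← hv', ← hw', sumφ, hr, hva1, hva2, hva3, hva4, hvb2] at this
    exact (mul_eq_zero.1 (show (2 * v u) * w u = 0 by linear_combination this)).resolve_left
      (mul_ne_zero h2 hvu)
  have hwr : w r ≠ 0 := fun h0' => by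
    have := col_norm h2 g b
    rw [← hw', sumφ, hvb1, hvb2, hvb3, hvb4, h0', hwu] at this
    simp at this
  have hrr : r ≠ r' := h0 ▸ h1 ▸ φ.injective.ne (by decide)
  have hre : r' ≠ e := h1 ▸ h4 ▸ φ.injective.ne (by decide)
  obtain ⟨h, hh⟩ : ∃ h, h = permQ (F := F) (Equiv.swap r r' * Equiv.swap r' e) := ⟨_, rfl⟩
  have hfix : h.1 v = (1 : F) • v := by
    funext i
    rw [one_smul, hh, permQ_apply,
      show (Equiv.swap r r' * Equiv.swap r' e).symm i = Equiv.swap r' e (Equiv.swap r r' i) from rfl]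
    simp only [Equiv.swap_apply_def]
    split_ifs <;> simp_all
  obtain ⟨j, d, hj⟩ := st.col_perm hg (hh ▸ st.swaps_mem hrr hre) (hv' ▸ hfix) b
  rw [← hw'] at hj
  have er : h.1 w r' = w r := by
    rw [hh, permQ_apply,
      show (Equiv.swap r r' * Equiv.swap r' e).symm r' = Equiv.swap r' e (Equiv.swap r r' r') from rfl,
      Equiv.swap_apply_right, Equiv.swap_apply_of_ne_of_ne hrr (h0 ▸ h4 ▸ φ.injective.ne (by decide))]
  have ee : h.1 w e = -w r := by
    rw [hh, permQ_apply,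
      show (Equiv.swap r r' * Equiv.swap r' e).symm e = Equiv.swap r' e (Equiv.swap r r' e) from rfl,
      Equiv.swap_apply_of_ne_of_ne (h4 ▸ h0 ▸ φ.injective.ne (by decide)) (Ne.symm hre),
      Equiv.swap_apply_right, hvb1]
  rw [hj] at er ee
  simp only [Pi.smul_apply, smul_eq_mul] at er ee
  by_cases hjb : j = b
  · rw [hjb, ← hw', hvb3, mul_zero] at ee
    exact hwr (neg_eq_zero.1 ee.symm)
  · have eall : ∀ i, h.1 w i = d * g.1 (ev j) i := fun i => by rw [hj]; rfl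
    have her : h.1 w r = 0 := by
      rw [hh, permQ_apply,
        show (Equiv.swap r r' * Equiv.swap r' e).symm r = Equiv.swap r' e (Equiv.swap r r' r) from rfl,
        Equiv.swap_apply_left, Equiv.swap_apply_left, hvb3]
    have heu : ∀ i, i ≠ r → i ≠ r' → i ≠ e → h.1 w i = w i := fun i p q t => by
      rw [hh, permQ_apply,
        show (Equiv.swap r r' * Equiv.swap r' e).symm i = Equiv.swap r' e (Equiv.swap r r' i) from rfl,
        Equiv.swap_apply_of_ne_of_ne p q, Equiv.swap_apply_of_ne_of_ne q t]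
    have h7 : h.1 w ⬝ᵥ w = 0 := by
      rw [hj, smul_dotProduct, hw', col_orth h2 g hjb, smul_zero]
    have hu0 := heu u (h2' ▸ h0 ▸ φ.injective.ne (by decide)) (h2' ▸ h1 ▸ φ.injective.ne (by decide))
      (h2' ▸ h4 ▸ φ.injective.ne (by decide))
    have hu0' := heu u' (h3 ▸ h0 ▸ φ.injective.ne (by decide)) (h3 ▸ h1 ▸ φ.injective.ne (by decide))
      (h3 ▸ h4 ▸ φ.injective.ne (by decide))
    rw [sumφ, her, eall r', er, hu0, hu0', hvb1, hvb2, hvb3, hvb4, hwu] at h7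
    exact mul_ne_zero hwr hwr (by linear_combination -h7)

/-- two pairs, four equal coordinates -/
theorem pairs_equal {g : G} (hg : g ∈ M) {a b r r' u u' e f : ι} (hab : a ≠ b) (φ : Fin 6 ≃ ι)
    (hφ : φ 0 = r ∧ φ 1 = r' ∧ φ 2 = u ∧ φ 3 = u' ∧ φ 4 = e ∧ φ 5 = f)
    {α β : F} (hβ : β ≠ 0)
    (hva : g.1 (ev a) r = α ∧ g.1 (ev a) r' = -α ∧ g.1 (ev a) u = α ∧ g.1 (ev a) u' = -α ∧
      g.1 (ev a) e = 0 ∧ g.1 (ev a) f = 0) (hα : α ≠ 0)
    (hvb : g.1 (ev b) r = -β ∧ g.1 (ev b) r' = β ∧ g.1 (ev b) u = β ∧ g.1 (ev b) u' = -β ∧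
      g.1 (ev b) e = 0 ∧ g.1 (ev b) f = 0) : Mono g := by
  classical
  have h2 := st.two
  obtain ⟨h0, h1, h2', h3, h4, h5⟩ := hφ
  obtain ⟨a1, a2, a3, a4, a5, a6⟩ := hva
  obtain ⟨b1, b2, b3, b4, b5, b6⟩ := hvb
  have hd : ∀ i j : Fin 6, i ≠ j → φ i ≠ φ j := fun i j h => φ.injective.ne h
  have sumφ : ∀ x y : ι → F, x ⬝ᵥ y = x r * y r + x r' * y r' + x u * y u + x u' * y u' + x e * y e + x f * y f :=
    fun x y => by rw [dotProduct, sum_six φ, h0, h1, h2', h3, h4, h5]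
  obtain ⟨p, hp⟩ : ∃ p : G, p = permQ (F := F) (Equiv.swap r u * Equiv.swap e f) := ⟨_, rfl⟩
  obtain ⟨p', hp'⟩ : ∃ p' : G, p' = flipQ {r, u'} * permQ (F := F) (Equiv.swap r u' * Equiv.swap e f) := ⟨_, rfl⟩
  have hef : e ≠ f := h4 ▸ h5 ▸ hd 4 5 (by decide)
  have hru : r ≠ u := h0 ▸ h2' ▸ hd 0 2 (by decide)
  have hru' : r ≠ u' := h0 ▸ h3 ▸ hd 0 3 (by decide)
  have hpM : p ∈ M := hp ▸ st.swaps_mem hru hef
  have hpM' : p' ∈ M := hp' ▸ mul_mem (st.flip_mem hru') (st.swaps_mem hru' hef)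
  have hs1 : ∀ i, (Equiv.swap r u * Equiv.swap e f).symm i = Equiv.swap e f (Equiv.swap r u i) := fun _ => rfl
  have hs2 : ∀ i, (Equiv.swap r u' * Equiv.swap e f).symm i = Equiv.swap e f (Equiv.swap r u' i) := fun _ => rfl
  have hp1 : ∀ x, p.1 x r = x u ∧ p.1 x r' = x r' ∧ p.1 x u = x r ∧ p.1 x u' = x u' ∧ p.1 x e = x f ∧
      p.1 x f = x e := fun x => by
    simp only [hp, permQ_apply, hs1]
    simp only [← h0, ← h1, ← h2', ← h3, ← h4, ← h5]
    simp [Equiv.swap_apply_def, φ.injective.eq_iff]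
  have hp2 : ∀ x, p'.1 x r = -x u' ∧ p'.1 x r' = x r' ∧ p'.1 x u = x u ∧ p'.1 x u' = -x r ∧ p'.1 x e = x f ∧
      p'.1 x f = x e := fun x => by
    simp only [hp', mul_app, flipQ_apply, permQ_apply, hs2]
    simp only [← h0, ← h1, ← h2', ← h3, ← h4, ← h5, Finset.mem_insert, Finset.mem_singleton]
    simp [Equiv.swap_apply_def, φ.injective.eq_iff]
  have ext6 : ∀ x y : ι → F, x r = y r → x r' = y r' → x u = y u → x u' = y u' → x e = y e → x f = y f →
      x = y := fun x y q0 q1 q2 q3 q4 q5 => funext fun i => by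
    obtain ⟨i, rfl⟩ := φ.surjective i
    fin_cases i
    exacts [h0 ▸ q0, h1 ▸ q1, h2' ▸ q2, h3 ▸ q3, h4 ▸ q4, h5 ▸ q5]
  have f1 : p.1 (g.1 (ev a)) = (1 : F) • g.1 (ev a) := by
    obtain ⟨e1, e2, e3, e4, e5, e6⟩ := hp1 (g.1 (ev a))
    rw [one_smul]
    exact ext6 _ _ (by rw [e1, a3, a1]) e2 (by rw [e3, a1, a3]) e4 (by rw [e5, a6, a5]) (by rw [e6, a5, a6])
  have f2 : p'.1 (g.1 (ev a)) = (1 : F) • g.1 (ev a) := by
    obtain ⟨e1, e2, e3, e4, e5, e6⟩ := hp2 (g.1 (ev a))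
    rw [one_smul]
    exact ext6 _ _ (by rw [e1, a4, a1, neg_neg]) e2 e3 (by rw [e4, a1, a4]) (by rw [e5, a6, a5])
      (by rw [e6, a5, a6])
  obtain ⟨j₁, d₁, hj₁⟩ := st.col_perm hg hpM f1 b
  obtain ⟨j₂, d₂, hj₂⟩ := st.col_perm hg hpM' f2 b
  obtain ⟨k, l, hk, hl, hkl⟩ := Finset.one_lt_card_iff.1 (show 1 < ({a, b, j₁, j₂} : Finset ι)ᶜ.card by
    rw [Finset.card_compl, st.six]
    have : ({a, b, j₁, j₂} : Finset ι).card ≤ 4 := Finset.card_le_four
    omega)
  simp only [Finset.mem_compl, Finset.mem_insert, Finset.mem_singleton, not_or] at hk hl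
  have hz : ∀ k, k ≠ a → k ≠ b → k ≠ j₁ → k ≠ j₂ → ∀ i, i ≠ e → i ≠ f → g.1 (ev k) i = 0 := by
    intro k ka kb k1 k2
    obtain ⟨z, hz⟩ : ∃ z, z = g.1 (ev k) := ⟨_, rfl⟩
    have o1 := col_orth h2 g ka
    have o2 := col_orth h2 g kb
    have o3 : g.1 (ev k) ⬝ᵥ p.1 (g.1 (ev b)) = 0 := by rw [hj₁, dotProduct_smul, col_orth h2 g k1, smul_zero]
    have o4 : g.1 (ev k) ⬝ᵥ p'.1 (g.1 (ev b)) = 0 := by rw [hj₂, dotProduct_smul, col_orth h2 g k2, smul_zero]
    rw [← hz, sumφ, a1, a2, a3, a4, a5, a6] at o1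
    rw [← hz, sumφ, b1, b2, b3, b4, b5, b6] at o2
    obtain ⟨p1, p2, p3, p4, p5, p6⟩ := hp1 (g.1 (ev b))
    obtain ⟨q1, q2, q3, q4, q5, q6⟩ := hp2 (g.1 (ev b))
    rw [← hz, sumφ, p1, p2, p3, p4, p5, p6, b1, b2, b3, b4, b5, b6] at o3
    rw [← hz, sumφ, q1, q2, q3, q4, q5, q6, b1, b2, b3, b4, b5, b6] at o4
    have E1 : z r - z r' + z u - z u' = 0 :=
      (mul_eq_zero.1 (show α * (z r - z r' + z u - z u') = 0 by linear_combination o1)).resolve_left hα
    have E2 : -z r + z r' + z u - z u' = 0 :=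
      (mul_eq_zero.1 (show β * (-z r + z r' + z u - z u') = 0 by linear_combination o2)).resolve_left hβ
    have E3 : z r + z r' - z u - z u' = 0 :=
      (mul_eq_zero.1 (show β * (z r + z r' - z u - z u') = 0 by linear_combination o3)).resolve_left hβ
    have E4 : z r + z r' + z u + z u' = 0 :=
      (mul_eq_zero.1 (show β * (z r + z r' + z u + z u') = 0 by linear_combination o4)).resolve_left hβ
    have four : ∀ x : F, 2 * (2 * x) = 0 → x = 0 := fun x hx =>
      (mul_eq_zero.1 ((mul_eq_zero.1 hx).resolve_left h2)).resolve_left h2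
    intro i hie hif
    obtain ⟨i, rfl⟩ := φ.surjective i
    rw [← hz]
    fin_cases i
    · exact h0 ▸ four _ (by linear_combination E1 - E2 + E3 + E4)
    · exact h1 ▸ four _ (by linear_combination E2 - E1 + E3 + E4)
    · exact h2' ▸ four _ (by linear_combination E1 + E2 - E3 + E4)
    · exact h3 ▸ four _ (by linear_combination E4 - E1 - E2 - E3)
    · exact absurd h4 hie
    · exact absurd h5 hif
  exact st.into_mono hg hkl hef fun i p q => ⟨hz k hk.1 hk.2.1 hk.2.2.1 hk.2.2.2 i p q,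
    hz l hl.1 hl.2.1 hl.2.2.1 hl.2.2.2 i p q⟩

/-- conjugates which are two transpositions -/
theorem pairs_mono {g : G} (hg : g ∈ M) {a b : ι} (hab : a ≠ b) (φ : Fin 6 ≃ ι)
    (hx : g * flipQ {a, b} * g⁻¹ = permQ (F := F) (Equiv.swap (φ 0) (φ 1) * Equiv.swap (φ 2) (φ 3))) :
    Mono g := by
  have h2 := st.two
  have hd : ∀ i j : Fin 6, i ≠ j → φ i ≠ φ j := fun i j h => φ.injective.ne h
  have hv : ∀ c, c = a ∨ c = b → g.1 (ev c) (φ 1) = -g.1 (ev c) (φ 0) ∧ g.1 (ev c) (φ 3) = -g.1 (ev c) (φ 2) ∧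
      g.1 (ev c) (φ 4) = 0 ∧ g.1 (ev c) (φ 5) = 0 := by
    intro c hc
    have e : (permQ (F := F) (Equiv.swap (φ 0) (φ 1) * Equiv.swap (φ 2) (φ 3))).1 (g.1 (ev c)) = -g.1 (ev c) := by
      rw [← hx, mul_app, mul_app, inv_app, flipQ_single, if_pos (by simpa using hc), single_smul_ev c (-1 : F),
        map_smul, neg_one_smul]
    have e' : ∀ i, g.1 (ev c) (Equiv.swap (φ 2) (φ 3) (Equiv.swap (φ 0) (φ 1) i)) = -g.1 (ev c) i := fun i =>
      congrFun e i
    have e0 := e' (φ 0)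
    have e2 := e' (φ 2)
    have e4 := e' (φ 4)
    have e5 := e' (φ 5)
    simp [Equiv.swap_apply_def, φ.injective.eq_iff] at e0 e2 e4 e5
    exact ⟨e0, e2, (mul_eq_zero.1 (show (2 : F) * g.1 (ev c) (φ 4) = 0 by linear_combination e4)).resolve_left h2,
      (mul_eq_zero.1 (show (2 : F) * g.1 (ev c) (φ 5) = 0 by linear_combination e5)).resolve_left h2⟩
  have hr0 : g.1 (ev a) (φ 0) ≠ 0 := st.pairs_zero hg hab φ ⟨rfl, rfl, rfl, rfl, rfl, rfl⟩ hv
  have hu0 : g.1 (ev a) (φ 2) ≠ 0 := by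
    refine st.pairs_zero hg hab ((Equiv.swap (0 : Fin 6) 2 * Equiv.swap 1 3).trans φ)
      (r := φ 2) (r' := φ 3) (u := φ 0) (u' := φ 1) (e := φ 4) (f := φ 5) ⟨rfl, rfl, rfl, rfl, rfl, rfl⟩ fun c hc => ?_
    obtain ⟨p, q, t, w⟩ := hv c hc
    exact ⟨q, p, t, w⟩
  obtain ⟨a1, a2, a3, a4⟩ := hv a (Or.inl rfl)
  obtain ⟨b1, b2, b3, b4⟩ := hv b (Or.inr rfl)
  have sumφ : ∀ x y : ι → F, x ⬝ᵥ y = x (φ 0) * y (φ 0) + x (φ 1) * y (φ 1) + x (φ 2) * y (φ 2) +
      x (φ 3) * y (φ 3) + x (φ 4) * y (φ 4) + x (φ 5) * y (φ 5) :=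
    fun x y => by rw [dotProduct, sum_six φ]
  -- the sign change on a pair exchanges the columns
  obtain ⟨j, d, hj, hjd⟩ := st.col_pair hg (st.flip_mem (hd 0 1 (by decide))) hab (a := a) (b := b) (by
    rw [hx]
    refine (flipQ_comm _ _ fun l => ?_).symm
    obtain ⟨l, rfl⟩ := φ.surjective l
    fin_cases l <;> simp [Equiv.swap_apply_def, φ.injective.eq_iff])
  have f0 := congrFun hjd (φ 0)
  have f2 := congrFun hjd (φ 2)
  simp [flipQ_apply, φ.injective.eq_iff] at f0 f2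
  rcases hj with rfl | rfl
  · exfalso
    have : d = -1 := mul_right_cancel₀ hr0 (by linear_combination -f0)
    rw [this] at f2
    exact mul_ne_zero h2 hu0 (by linear_combination f2)
  have hd0 : d ≠ 0 := fun e => hu0 (by rw [f2, e, zero_mul])
  have hsq : (g.1 (ev a) (φ 2) - g.1 (ev a) (φ 0)) * (g.1 (ev a) (φ 2) + g.1 (ev a) (φ 0)) = 0 := by
    have o := col_orth h2 g hab
    rw [sumφ, a1, a2, a3, a4, b1, b2] at o
    exact (mul_eq_zero.1 (show (2 : F) * ((g.1 (ev a) (φ 2) - g.1 (ev a) (φ 0)) *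
      (g.1 (ev a) (φ 2) + g.1 (ev a) (φ 0))) = 0 by
        linear_combination d * o + 2 * g.1 (ev a) (φ 0) * f0 + 2 * g.1 (ev a) (φ 2) * f2)).resolve_left h2
  obtain ⟨α, hα⟩ : ∃ α, α = g.1 (ev a) (φ 0) := ⟨_, rfl⟩
  obtain ⟨β, hβ⟩ : ∃ β, β = -g.1 (ev j) (φ 0) := ⟨_, rfl⟩
  rw [← hα] at f0 hr0
  have hβ0 : β ≠ 0 := fun e => hr0 (by linear_combination -f0 + d * (hβ.symm.trans e))
  have hdβ : d * β = α := by rw [hβ]; linear_combination f0
  rcases mul_eq_zero.1 hsq with e | e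
  · have e2 : g.1 (ev a) (φ 2) = α := by rw [hα]; exact sub_eq_zero.1 e
    refine st.pairs_equal hg hab φ ⟨rfl, rfl, rfl, rfl, rfl, rfl⟩ hβ0 ⟨hα.symm, by rw [a1, hα], e2, by rw [a2, e2], a3, a4⟩
      hr0 ⟨by rw [hβ, neg_neg], by rw [b1, hβ], ?_, ?_, b3, b4⟩
    · exact mul_left_cancel₀ hd0 (by rw [hdβ, ← f2, e2])
    · rw [b2]; congr 1; exact mul_left_cancel₀ hd0 (by rw [hdβ, ← f2, e2])
  · have e2 : g.1 (ev a) (φ 2) = -α := by rw [hα]; exact eq_neg_of_add_eq_zero_left e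
    refine st.pairs_equal hg hab ((Equiv.swap (2 : Fin 6) 3).trans φ)
      (r := φ 0) (r' := φ 1) (u := φ 3) (u' := φ 2) (e := φ 4) (f := φ 5) ⟨rfl, rfl, rfl, rfl, rfl, rfl⟩ hβ0
      ⟨hα.symm, by rw [a1, hα], by rw [a2, e2, neg_neg], e2, a3, a4⟩ hr0
      ⟨by rw [hβ, neg_neg], by rw [b1, hβ], ?_, ?_, b3, b4⟩
    · rw [b2]
      exact mul_left_cancel₀ hd0 (by rw [hdβ, mul_neg, ← f2, e2, neg_neg])
    · exact mul_left_cancel₀ hd0 (by rw [mul_neg, hdβ, ← f2, e2])

/-- sign changes turn two signed transpositions into plain ones -/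
theorem exists_plain {σ : Equiv.Perm ι} {s : ι → F} (φ : Fin 6 ≃ ι)
    (hσ : σ = Equiv.swap (φ 0) (φ 1) * Equiv.swap (φ 2) (φ 3))
    (hsq : ∀ i, s i * s i = 1) (hp : ∀ i, s (σ i) * s i = 1) (h4 : s (φ 4) = 1) (h5 : s (φ 5) = 1)
    {x : G} (hx : ∀ i, x.1 (ev i) = Pi.single (σ i) (s i)) :
    ∃ P ∈ M, Mono P ∧ P * x * P⁻¹ = permQ (F := F) σ := by
  classical
  have hd : ∀ i j : Fin 6, i ≠ j → φ i ≠ φ j := fun i j h => φ.injective.ne h
  obtain ⟨B, hB⟩ : ∃ B : Finset ι, B = Finset.univ.filter fun i =>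
      (i = φ 1 ∧ s (φ 0) = -1) ∨ (i = φ 3 ∧ s (φ 2) = -1) ∨
        (i = φ 4 ∧ ¬ (s (φ 0) = -1 ↔ s (φ 2) = -1)) := ⟨_, rfl⟩
  have hBM : flipQ (F := F) B ∈ M := by
    by_cases h0 : s (φ 0) = -1 <;> by_cases h2' : s (φ 2) = -1
    · rw [show B = {φ 1, φ 3} by ext i; simp [hB, h0, h2']]; exact st.flip_mem (hd 1 3 (by decide))
    · rw [show B = {φ 1, φ 4} by ext i; simp [hB, h0, h2']]; exact st.flip_mem (hd 1 4 (by decide))
    · rw [show B = {φ 3, φ 4} by ext i; simp [hB, h0, h2']]; exact st.flip_mem (hd 3 4 (by decide))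
    · rw [show B = (∅ : Finset ι) by ext i; simp [hB, h0, h2'],
        show flipQ (F := F) (∅ : Finset ι) = 1 from quadIsoms_ext _ fun x => funext fun l => by simp]
      exact one_mem M
  refine ⟨flipQ B, hBM, mono_flip B, ext_ev fun i => ?_⟩
  rw [flip_inv, mul_app, mul_app, flipQ_single, single_smul_ev i, map_smul, map_smul, hx,
    single_smul_ev (σ i) (s i), map_smul, flipQ_single, smul_smul, ← Pi.single_smul, permQ_single, smul_eq_mul]
  congr 1
  have hone : ∀ c : F, c * c = 1 → c ≠ -1 → c = 1 := fun c h h' => (mul_self_eq_one_iff.1 h).resolve_right h'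
  have p0 : s (φ 1) = s (φ 0) := by
    have := hp (φ 0)
    rw [hσ] at this
    simp [Equiv.swap_apply_def, φ.injective.eq_iff] at this
    linear_combination (s (φ 0)) * this - (s (φ 1)) * hsq (φ 0)
  have p2 : s (φ 3) = s (φ 2) := by
    have := hp (φ 2)
    rw [hσ] at this
    simp [Equiv.swap_apply_def, φ.injective.eq_iff] at this
    linear_combination (s (φ 2)) * this - (s (φ 3)) * hsq (φ 2)
  obtain ⟨i, rfl⟩ := φ.surjective i
  have hne1 : (1 : F) ≠ -1 := fun h => st.two (by linear_combination h)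
  fin_cases i <;> by_cases h0 : s (φ 0) = -1 <;> by_cases h2' : s (φ 2) = -1 <;>
    simp [hσ, hB, Equiv.swap_apply_def, φ.injective.eq_iff, p0, p2, h4, h5, h0, h2', hne1,
      hone _ (hsq (φ 0)), hone _ (hsq (φ 2))]

/-- an even conjugate -/
theorem even_mono {g : G} (hg : g ∈ M) {a b : ι} (hab : a ≠ b) {σ : Equiv.Perm ι} {s : ι → F}
    (hf : Fused g a b σ s) (hσ : Equiv.Perm.sign σ = 1) : Mono g := by
  have h2 := st.two
  rcases invol_cases st.six hf.invol with rfl | ⟨φ, e⟩ | ⟨φ, e⟩ | ⟨φ, e⟩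
  · exact st.diag_mono hg hab hf
  · rw [e, Equiv.Perm.sign_swap (φ.injective.ne (by decide))] at hσ
    exact absurd hσ (by decide)
  · have h := hf.trace
    rw [e, sum_six φ] at h
    simp [Equiv.swap_apply_def, φ.injective.eq_iff] at h
    have one : ∀ x y : F, x * x = 1 → y * y = 1 → x + y = 2 → x = 1 := fun x y hx hy hxy => by
      refine (mul_self_eq_one_iff.1 hx).resolve_right fun hx' => ?_
      rcases mul_self_eq_one_iff.1 hy with hy' | hy' <;> rw [hx', hy'] at hxy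
      · exact h2 (by linear_combination -hxy)
      · exact mul_ne_zero h2 h2 (by linear_combination -hxy)
    obtain ⟨P, hP, hPm, hPx⟩ := st.exists_plain φ e hf.sq hf.pair
      (one _ _ (hf.sq _) (hf.sq _) h) (one (s (φ 5)) (s (φ 4)) (hf.sq _) (hf.sq _) (by linear_combination h)) hf.col
    refine st.cancel hPm (st.pairs_mono (mul_mem hP hg) hab φ ?_)
    rw [← e, ← hPx]
    group
  · rw [e, map_mul, map_mul, Equiv.Perm.sign_swap (φ.injective.ne (by decide)),
      Equiv.Perm.sign_swap (φ.injective.ne (by decide)), Equiv.Perm.sign_swap (φ.injective.ne (by decide))] at hσ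
    exact absurd hσ (by decide)

/-- a monomial conjugate of a sign change comes from a monomial element -/
theorem fusion {g : G} (hg : g ∈ M) {a b : ι} (hab : a ≠ b) (hx : Mono (g * flipQ {a, b} * g⁻¹)) :
    Mono g := by
  have h2 := st.two
  obtain ⟨σ, s, hf⟩ := st.exists_fused hg hab hx
  by_cases hsgn : Equiv.Perm.sign σ = 1
  · exact st.even_mono hg hab hf hsgn
  -- three coordinates fixed with sign plus
  obtain ⟨d₀, d₁, d₂, n01, n02, n12, z0, z1, z2⟩ : ∃ d₀ d₁ d₂ : ι, d₀ ≠ d₁ ∧ d₀ ≠ d₂ ∧ d₁ ≠ d₂ ∧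
      (σ d₀ = d₀ ∧ s d₀ = 1) ∧ (σ d₁ = d₁ ∧ s d₁ = 1) ∧ (σ d₂ = d₂ ∧ s d₂ = 1) := by
    rcases invol_cases st.six hf.invol with e | ⟨φ, e⟩ | ⟨φ, e⟩ | ⟨φ, e⟩
    · rw [e, map_one] at hsgn; exact absurd rfl hsgn
    · have hfix : ∀ i : Fin 6, i ≠ 0 → i ≠ 1 → σ (φ i) = φ i := fun i p q => by
        rw [e, Equiv.swap_apply_of_ne_of_ne (φ.injective.ne p) (φ.injective.ne q)]
      have h := hf.trace
      rw [sum_six φ, hfix 2 (by decide) (by decide), hfix 3 (by decide) (by decide), hfix 4 (by decide) (by decide),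
        hfix 5 (by decide) (by decide), e] at h
      simp [φ.injective.eq_iff] at h
      have hdet := hf.det
      have hp := hf.pair (φ 0)
      rw [e, Equiv.swap_apply_left] at hp
      rw [e, Equiv.Perm.sign_swap (φ.injective.ne (by decide)), prod_six φ] at hdet
      norm_num at hdet
      have hdet' : s (φ 2) * s (φ 3) * s (φ 4) * s (φ 5) = -1 := by
        linear_combination -hdet - (s (φ 2) * s (φ 3) * s (φ 4) * s (φ 5)) * hp
      have h4 : (4 : F) ≠ 0 := by rw [show (4 : F) = 2 * 2 by norm_num]; exact mul_ne_zero h2 h2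
      have hd : ∀ i j : Fin 6, i ≠ j → φ i ≠ φ j := fun i j h => φ.injective.ne h
      rcases mul_self_eq_one_iff.1 (hf.sq (φ 2)) with q2 | q2 <;>
        rcases mul_self_eq_one_iff.1 (hf.sq (φ 3)) with q3 | q3 <;>
        rcases mul_self_eq_one_iff.1 (hf.sq (φ 4)) with q4 | q4 <;>
        rcases mul_self_eq_one_iff.1 (hf.sq (φ 5)) with q5 | q5 <;>
        rw [q2, q3, q4, q5] at h hdet' <;>
        first
          | exact absurd (show (2 : F) = 0 by linear_combination hdet') h2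
          | exact absurd (show (4 : F) = 0 by linear_combination -h) h4
          | exact ⟨φ 2, φ 3, φ 4, hd _ _ (by decide), hd _ _ (by decide), hd _ _ (by decide),
              ⟨hfix _ (by decide) (by decide), q2⟩, ⟨hfix _ (by decide) (by decide), q3⟩, hfix _ (by decide) (by decide), q4⟩
          | exact ⟨φ 2, φ 3, φ 5, hd _ _ (by decide), hd _ _ (by decide), hd _ _ (by decide),
              ⟨hfix _ (by decide) (by decide), q2⟩, ⟨hfix _ (by decide) (by decide), q3⟩, hfix _ (by decide) (by decide), q5⟩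
          | exact ⟨φ 2, φ 4, φ 5, hd _ _ (by decide), hd _ _ (by decide), hd _ _ (by decide),
              ⟨hfix _ (by decide) (by decide), q2⟩, ⟨hfix _ (by decide) (by decide), q4⟩, hfix _ (by decide) (by decide), q5⟩
          | exact ⟨φ 3, φ 4, φ 5, hd _ _ (by decide), hd _ _ (by decide), hd _ _ (by decide),
              ⟨hfix _ (by decide) (by decide), q3⟩, ⟨hfix _ (by decide) (by decide), q4⟩, hfix _ (by decide) (by decide), q5⟩
    · rw [e, map_mul, Equiv.Perm.sign_swap (φ.injective.ne (by decide)),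
        Equiv.Perm.sign_swap (φ.injective.ne (by decide))] at hsgn
      exact absurd rfl hsgn
    · have h := hf.trace
      rw [e, sum_six φ] at h
      simp [Equiv.swap_apply_def, φ.injective.eq_iff] at h
      exact absurd h.symm h2
  have hv0 : ∀ d, σ d = d → s d = 1 → g.1 (ev a) d = 0 := fun d p q => by
    have := hf.va d
    rw [p, q, one_mul] at this
    exact (mul_eq_zero.1 (show (2 : F) * g.1 (ev a) d = 0 by linear_combination this)).resolve_left h2
  have hz : ∀ x y, x ≠ y → g.1 (ev a) x = 0 → g.1 (ev a) y = 0 → Mono (g⁻¹ * flipQ {x, y} * g) :=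
    fun x y hxy ex ey => by
      refine st.col_mono hg (st.flip_mem hxy) (a := a) (c := 1) ?_
      rw [one_smul, flipQ_pair x y hxy, ex, ey]
      simp
  obtain ⟨σ₁, s₁, hf₁⟩ := st.exists_fused (inv_mem hg) n01 (by
    rw [inv_inv]; exact hz _ _ n01 (hv0 _ z0.1 z0.2) (hv0 _ z1.1 z1.2))
  obtain ⟨σ₂, s₂, hf₂⟩ := st.exists_fused (inv_mem hg) n12 (by
    rw [inv_inv]; exact hz _ _ n12 (hv0 _ z1.1 z1.2) (hv0 _ z2.1 z2.2))
  obtain ⟨σ₃, s₃, hf₃⟩ := st.exists_fused (inv_mem hg) n02 (by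
    rw [inv_inv]; exact hz _ _ n02 (hv0 _ z0.1 z0.2) (hv0 _ z2.1 z2.2))
  have hprod : σ₃ = σ₁ * σ₂ := by
    have e : flipQ (F := F) {d₀, d₂} = flipQ {d₀, d₁} * flipQ {d₁, d₂} := by
      refine quadIsoms_ext _ fun x => funext fun l => ?_
      show (flipQ (F := F) {d₀, d₂}).1 x l = (flipQ (F := F) {d₀, d₁}).1 ((flipQ (F := F) {d₁, d₂}).1 x) l
      simp only [flipQ_apply, Finset.mem_insert, Finset.mem_singleton]
      by_cases e0 : l = d₀
      · simp [e0, n01, n02]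
      by_cases e1 : l = d₁
      · simp [e1, Ne.symm n01, n12]
      simp [e0, e1]
    have e' : g⁻¹ * flipQ {d₀, d₂} * g⁻¹⁻¹ =
        g⁻¹ * flipQ {d₀, d₁} * g⁻¹⁻¹ * (g⁻¹ * flipQ {d₁, d₂} * g⁻¹⁻¹) := by rw [e]; group
    refine Equiv.ext fun i => ?_
    have h3 := hf₃.col i
    rw [e', mul_app, hf₂.col, single_smul_ev (σ₂ i), map_smul, hf₁.col, ← Pi.single_smul] at h3
    refine (single_eq h3.symm fun h0 => ?_)
    simpa [h0] using hf₃.sq i
  have hone : Equiv.Perm.sign σ₁ = 1 ∨ Equiv.Perm.sign σ₂ = 1 ∨ Equiv.Perm.sign σ₃ = 1 := by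
    rcases Int.units_eq_one_or (Equiv.Perm.sign σ₁) with h | h
    · exact Or.inl h
    rcases Int.units_eq_one_or (Equiv.Perm.sign σ₂) with h' | h'
    · exact Or.inr (Or.inl h')
    exact Or.inr (Or.inr (by rw [hprod, map_mul, h, h']; rfl))
  rw [← inv_inv g]
  refine mono_inv h2 ?_
  rcases hone with h | h | h
  · exact st.even_mono (inv_mem hg) n01 hf₁ h
  · exact st.even_mono (inv_mem hg) n12 hf₂ h
  · exact st.even_mono (inv_mem hg) n02 hf₃ h

end Setting

end CfsgLib.MaxSub.OSix
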