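import Cfsg.Agent.Lib.MaxSub.OSixFusion

/-!
Six coordinates: if the stabilisers of the coordinate vectors are monomial then the overgroup is monomial;
hence the monomial group is maximal in `Ω` over a prime field.
-/

set_option autoImplicit false
set_option linter.unusedSectionVars false

namespace CfsgLib.MaxSub.OSix

open CfsgLib.Classical CfsgLib.Geom CfsgLib.MaxSub CfsgLib.MaxSub.OMono
open scoped Matrix

variable {ι F : Type*} [Fintype ι] [DecidableEq ι] [Field F]

local notation "G" => quadIsoms (sq ι F)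

theorem fix_comp (h2 : (2 : F) ≠ 0) {z : G} {d : ι} {c : F} (h : z.1 (ev d) = c • ev d) (x : ι → F) :
    z.1 x d = c * x d := by
  have hc : c * c = 1 := by
    have := col_norm h2 z d
    rwa [h, dotProduct_smul, smul_dotProduct, comp, ev, Pi.single_eq_same, smul_eq_mul, smul_eq_mul,
      mul_one] at this
  have e := isom_dot h2 z x (ev d)
  rw [h, dotProduct_smul, comp, comp, smul_eq_mul] at e
  linear_combination c * e - z.1 x d * hc

theorem comm_apply {g z : G} (h : g * z = z * g) (x : ι → F) : g.1 (z.1 x) = z.1 (g.1 x) :=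
  congrArg (fun k : G => k.1 x) h

theorem mono_negQ : Mono (negQ : G) := fun i => ⟨i, -1, by rw [negQ_apply, ← Pi.single_neg]⟩

/-- conjugates of sign changes by monomial elements are diagonal -/
theorem conj_diag (h2 : (2 : F) ≠ 0) {k : G} (hk : Mono k) (a b : ι) : ∃ σ : Equiv.Perm ι,
    ∀ i, (k * flipQ {a, b} * k⁻¹).1 (ev i) = if σ i = a ∨ σ i = b then -ev i else ev i := by
  obtain ⟨σ, s, hs, hsq, -⟩ := mono_form h2 hk
  refine ⟨σ.symm, fun i => ?_⟩
  have e : (k⁻¹).1 (ev i) = s (σ.symm i) • ev (σ.symm i) := by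
    apply k.1.injective
    rw [app_inv, map_smul, hs, σ.apply_symm_apply, ← Pi.single_smul, smul_eq_mul, hsq]
  rw [mul_app, mul_app, e, map_smul, map_smul, flipQ_single, single_smul_ev (σ.symm i) (ite _ _ _), map_smul,
    smul_smul, hs, ← Pi.single_smul, σ.apply_symm_apply, smul_eq_mul]
  simp only [Finset.mem_insert, Finset.mem_singleton]
  split_ifs with h
  · rw [mul_neg, mul_one, neg_mul, hsq, ev, ← Pi.single_neg]
  · rw [mul_one, hsq]

namespace Setting

variable {M : Subgroup (quadIsoms (sq ι F))} (st : Setting F M)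
include st

theorem negQ_mem : (negQ : G) ∈ M := by
  obtain ⟨φ⟩ : Nonempty (Fin 6 ≃ ι) := ⟨(Fintype.equivFinOfCardEq st.six).symm⟩
  have hd : ∀ i j : Fin 6, i ≠ j → φ i ≠ φ j := fun i j h => φ.injective.ne h
  have e : (negQ : G) = flipQ {φ 0, φ 1} * flipQ {φ 2, φ 3} * flipQ {φ 4, φ 5} := by
    refine quadIsoms_ext _ fun x => funext fun l => ?_
    obtain ⟨l, rfl⟩ := φ.surjective l
    simp only [mul_app, negQ_apply, Pi.neg_apply, flipQ_apply, Finset.mem_insert, Finset.mem_singleton]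
    fin_cases l <;> simp [φ.injective.eq_iff]
  rw [e]
  exact mul_mem (mul_mem (st.flip_mem (hd 0 1 (by decide))) (st.flip_mem (hd 2 3 (by decide))))
    (st.flip_mem (hd 4 5 (by decide)))

/-- a monomial element moving a coordinate line is no conjugate of a sign change -/
theorem no_conj {g : G} (hg : g ∈ M) {a b : ι} (hab : a ≠ b) {t : G} (ht : Mono t) {i j : ι} {c : F}
    (hti : t.1 (ev i) = Pi.single j c) (hij : j ≠ i) (hc : c ≠ 0) : g * flipQ {a, b} * g⁻¹ ≠ t := by
  intro e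
  obtain ⟨σ, hσ⟩ := conj_diag st.two (st.fusion hg hab (e ▸ ht)) a b
  have h := congrFun ((congrArg (fun k : G => k.1 (ev i)) e).trans hti) j
  rw [hσ] at h
  split_ifs at h <;> simp [ev, hij] at h <;> exact hc h.symm

/-- commuting with a transposition with a sign -/
theorem odd_mono {g z : G} (hg : g ∈ M) (hc : g * z = z * g) {d d' m : ι} (hdd : d ≠ d') {c : F}
    (hd : z.1 (ev d) = c • ev d) (hd' : z.1 (ev d') = c • ev d') (hm : z.1 (ev m) = (-c) • ev m)
    (hc0 : c ≠ 0) : Mono g := by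
  have h2 := st.two
  have hzero : ∀ k, z.1 (ev k) = c • ev k → g.1 (ev k) m = 0 := fun k hk => by
    have e := congrFun (comm_apply hc (ev k)) m
    rw [hk, map_smul, fix_comp h2 hm, Pi.smul_apply, smul_eq_mul] at e
    exact (mul_eq_zero.1 (show (2 * c) * g.1 (ev k) m = 0 by linear_combination e)).resolve_left
      (mul_ne_zero h2 hc0)
  refine st.fusion hg hdd (st.fix_mono (st.conj_flip_mem hg hdd) (i := m) (j := m) (c := 1) ?_)
  exact conj_flip_fix h2 g hdd (by rw [comp]; exact hzero d hd) (by rw [comp]; exact hzero d' hd')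

/-- fixing a difference of coordinates and commuting with a signed transposition of them -/
theorem fixed_mono {q t : G} (hq : q ∈ M) {a b c : ι} (hab : a ≠ b) (hca : c ≠ a) (hcb : c ≠ b)
    (hqc : q.1 (ev a - ev b) = ev a - ev b) (hc : q * t = t * q) (hta : ∀ x, t.1 x a = -x b)
    (htc : t.1 (ev c) = ev c) : Mono q := by
  have h2 := st.two
  have hci : q⁻¹ * t = t * q⁻¹ :=
    calc q⁻¹ * t = q⁻¹ * (t * q) * q⁻¹ := by group
      _ = q⁻¹ * (q * t) * q⁻¹ := by rw [hc]
      _ = t * q⁻¹ := by group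
  have e1 : (q⁻¹).1 (ev c) a = -(q⁻¹).1 (ev c) b := by
    rw [← hta ((q⁻¹).1 (ev c)), ← comm_apply hci, htc]
  have e2 : (q⁻¹).1 (ev c) a - (q⁻¹).1 (ev c) b = 0 := by
    have := isom_dot h2 q ((q⁻¹).1 (ev c)) (ev a - ev b)
    rw [hqc, app_inv, dotProduct_sub, dotProduct_sub, comp, comp, comp, comp] at this
    rw [← this, ev, Pi.single_eq_of_ne (Ne.symm hca), Pi.single_eq_of_ne (Ne.symm hcb), sub_self]
  have za : (q⁻¹).1 (ev c) a = 0 :=
    (mul_eq_zero.1 (show (2 : F) * (q⁻¹).1 (ev c) a = 0 by linear_combination e1 + e2)).resolve_left h2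
  have zb : (q⁻¹).1 (ev c) b = 0 := by linear_combination za - e2
  refine st.fusion hq hab (st.fix_mono (st.conj_flip_mem hq hab) (i := c) (j := c) (c := 1) ?_)
  exact conj_flip_fix h2 q hab (by rw [comp, ← inv_comp h2]; exact za) (by rw [comp, ← inv_comp h2]; exact zb)

/-- a square root of the involution negating four fixed coordinates is impossible -/
theorem no_root {w z : G} (hw : w ∈ M) {a b : ι} (hab : a ≠ b) (hww : w * w = z) (hzz : z * z = 1)
    (hwc : w.1 (ev a - ev b) = ev a - ev b) (hza : z.1 (ev a) = -ev b) (hzb : z.1 (ev b) = -ev a) : False := by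
  have h2 := st.two
  obtain ⟨p, hp⟩ : ∃ p, p = w.1 (ev a) := ⟨_, rfl⟩
  obtain ⟨q, hq⟩ : ∃ q, q = w.1 (ev b) := ⟨_, rfl⟩
  have hpq : p - q = ev a - ev b := by rw [hp, hq, ← map_sub, hwc]
  have hsum : (p + q) a + (p + q) b = 0 := by
    have hwA : w.1 (p + q) = -(ev a + ev b) := by
      rw [hp, hq, map_add, ← mul_app, ← mul_app, hww, hza, hzb]; abel
    have e := isom_dot h2 w (ev a + ev b) (p + q)
    rw [hwA, map_add, ← hp, ← hq, dotProduct_neg, dotProduct_add, dotProduct_comm (ev a + ev b) (p + q),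
      dotProduct_add, comp, comp] at e
    exact (mul_eq_zero.1 (show (2 : F) * ((p + q) a + (p + q) b) = 0 by linear_combination -e)).resolve_left h2
  have hdiff : (p + q) a - (p + q) b = 0 := by
    have e := isom_dot h2 w (ev a + ev b) (ev a - ev b)
    rw [hwc, map_add, ← hp, ← hq, dotProduct_sub, dotProduct_sub, comp, comp, comp, comp] at e
    rw [e]
    simp [ev, hab, Ne.symm hab]
  have hpa : 2 * p a = 1 := by
    have e : (p - q) a = (ev a - ev b : ι → F) a := by rw [hpq]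
    simp [ev, hab] at e hsum hdiff
    exact mul_left_cancel₀ h2 (by linear_combination hsum + hdiff + 2 * e)
  have hqa : 2 * q a = -1 := by
    have e : (p - q) a = (ev a - ev b : ι → F) a := by rw [hpq]
    simp [ev, hab] at e
    linear_combination hpa - 2 * e
  have hy : (w * flipQ {a, b} * w⁻¹).1 (ev a) = Pi.single b 1 := by
    rw [conj_flip_apply h2 w hab, ← hp, ← hq, comp, comp, hpa, hqa, show (Pi.single b (1 : F) : ι → F) = ev b from rfl]
    linear_combination (norm := module) -hpq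
  obtain ⟨σ, s, hs, hsq, hc⟩ := mono_form h2 (st.fusion hw hab (st.fix_mono (st.conj_flip_mem hw hab) hy))
  have hs0 : ∀ i, s i ≠ 0 := fun i e => by simpa [e] using hsq i
  have hσab : ∀ i, i = a ∨ i = b → σ i = a ∨ σ i = b := fun i hi => by
    by_contra h
    push Not at h
    have e := hc (ev a - ev b) i
    rw [hwc] at e
    rcases hi with rfl | rfl
    · simp [ev, h.1, h.2, hab] at e
      exact hs0 _ e.symm
    · simp [ev, h.1, h.2, Ne.symm hab] at e
      exact hs0 _ e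
  have hσσ : σ (σ a) = b := by
    have e : (Pi.single (σ (σ a)) (s a * s (σ a)) : ι → F) = Pi.single b (-1) := by
      rw [← smul_eq_mul, Pi.single_smul, ← hs, ← map_smul, ← single_smul_ev, ← hs, ← mul_app, hww, hza, ev,
        ← Pi.single_neg]
    exact single_eq e (mul_ne_zero (hs0 _) (hs0 _))
  rcases hσab a (Or.inl rfl) with h | h
  · rw [h, h] at hσσ
    exact hab hσσ
  · rw [h] at hσσ
    exact hab (σ.injective (h.trans hσσ.symm))

/-- commuting with two transpositions -/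
theorem pairs_comm [Finite F] {g : G} (hg : g ∈ M) (φ : Fin 6 ≃ ι)
    (hc : g * permQ (F := F) (Equiv.swap (φ 0) (φ 1) * Equiv.swap (φ 2) (φ 3)) =
      permQ (F := F) (Equiv.swap (φ 0) (φ 1) * Equiv.swap (φ 2) (φ 3)) * g) : Mono g := by
  haveI := OLines.finite_quadIsoms (Pi.basisFun F ι) (Q := sq ι F)
  have h2 := st.two
  have hd : ∀ i j : Fin 6, i ≠ j → φ i ≠ φ j := fun i j h => φ.injective.ne h
  obtain ⟨u, hu⟩ : ∃ u : G, u = permQ (F := F) (Equiv.swap (φ 0) (φ 1) * Equiv.swap (φ 2) (φ 3)) := ⟨_, rfl⟩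
  obtain ⟨x, hxd⟩ : ∃ x, x = g * flipQ {φ 4, φ 5} * g⁻¹ := ⟨_, rfl⟩
  obtain ⟨t, ht⟩ : ∃ t : G, t = flipQ {φ 0, φ 1} * permQ (F := F) (Equiv.swap (φ 0) (φ 1) * Equiv.swap (φ 4) (φ 5)) :=
    ⟨_, rfl⟩
  rw [← hu] at hc
  have hxM : x ∈ M := hxd ▸ st.conj_flip_mem hg (hd 4 5 (by decide))
  have htM : t ∈ M := ht ▸ mul_mem (st.flip_mem (hd 0 1 (by decide))) (st.swaps_mem (hd 0 1 (by decide)) (hd 4 5 (by decide)))
  have tev : t.1 (ev (φ 0)) = -ev (φ 1) ∧ t.1 (ev (φ 1)) = -ev (φ 0) ∧ t.1 (ev (φ 2)) = ev (φ 2) ∧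
      t.1 (ev (φ 3)) = ev (φ 3) ∧ t.1 (ev (φ 4)) = ev (φ 5) ∧ t.1 (ev (φ 5)) = ev (φ 4) := by
    simp only [ht, mul_app, permQ_single, flipQ_single]
    simp [Equiv.swap_apply_def, φ.injective.eq_iff, ← Pi.single_neg]
  have tcomp : ∀ v, t.1 v (φ 0) = -v (φ 1) := fun v => by
    have e : ∀ l, (Equiv.swap (φ 0) (φ 1) * Equiv.swap (φ 4) (φ 5)).symm l =
        Equiv.swap (φ 4) (φ 5) (Equiv.swap (φ 0) (φ 1) l) := fun _ => rfl
    rw [ht, mul_app, flipQ_apply, permQ_apply, e]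
    simp [Equiv.swap_apply_def, φ.injective.eq_iff]
  have uev : u.1 (ev (φ 0)) = ev (φ 1) ∧ u.1 (ev (φ 1)) = ev (φ 0) ∧ u.1 (ev (φ 2)) = ev (φ 3) ∧
      u.1 (ev (φ 3)) = ev (φ 2) ∧ u.1 (ev (φ 4)) = ev (φ 4) ∧ u.1 (ev (φ 5)) = ev (φ 5) := by
    simp only [hu, permQ_single]
    simp [Equiv.swap_apply_def, φ.injective.eq_iff]
  have ucomp : ∀ v, u.1 v (φ 0) = v (φ 1) ∧ u.1 v (φ 2) = v (φ 3) := fun v => by
    have e : ∀ l, (Equiv.swap (φ 0) (φ 1) * Equiv.swap (φ 2) (φ 3)).symm l =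
        Equiv.swap (φ 2) (φ 3) (Equiv.swap (φ 0) (φ 1) l) := fun _ => rfl
    rw [hu, permQ_apply, permQ_apply, e, e]
    simp [Equiv.swap_apply_def, φ.injective.eq_iff]
  -- `x` fixes the negated vectors
  have hxfix : x.1 (ev (φ 0) - ev (φ 1)) = ev (φ 0) - ev (φ 1) ∧
      x.1 (ev (φ 2) - ev (φ 3)) = ev (φ 2) - ev (φ 3) := by
    have hz : ∀ k, u.1 (ev k) = ev k → g.1 (ev k) (φ 0) = g.1 (ev k) (φ 1) ∧ g.1 (ev k) (φ 2) = g.1 (ev k) (φ 3) :=
      fun k hk => by
        have e := comm_apply hc (ev k)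
        rw [hk] at e
        obtain ⟨p, q⟩ := ucomp (g.1 (ev k))
        rw [← e] at p q
        exact ⟨p, q⟩
    obtain ⟨-, -, -, -, u4, u5⟩ := uev
    rw [hxd]
    constructor <;> refine conj_flip_fix h2 g (hd 4 5 (by decide)) ?_ ?_ <;>
      rw [dotProduct_sub, comp, comp, sub_eq_zero]
    exacts [(hz _ u4).1, (hz _ u5).1, (hz _ u4).2, (hz _ u5).2]
  have htfix : t.1 (ev (φ 0) - ev (φ 1)) = ev (φ 0) - ev (φ 1) ∧
      t.1 (ev (φ 2) - ev (φ 3)) = ev (φ 2) - ev (φ 3) := by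
    obtain ⟨t0, t1, t2, t3, -, -⟩ := tev
    rw [map_sub, map_sub, t0, t1, t2, t3]
    exact ⟨by abel, rfl⟩
  have hxx : x * x = 1 := by
    rw [hxd, show g * flipQ {φ 4, φ 5} * g⁻¹ * (g * flipQ {φ 4, φ 5} * g⁻¹) =
      g * (flipQ {φ 4, φ 5} * flipQ {φ 4, φ 5}) * g⁻¹ by group, flip_mul_self]
    group
  have htt : t * t = 1 := ext_ev fun i => by
    obtain ⟨t0, t1, t2, t3, t4, t5⟩ := tev
    obtain ⟨i, rfl⟩ := φ.surjective i
    rw [mul_app]
    fin_cases i <;> simp [t0, t1, t2, t3, t4, t5] <;> rfl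
  have hflip : x * u = u * x := by
    have hfu : flipQ (F := F) {φ 4, φ 5} * u = u * flipQ {φ 4, φ 5} := by
      rw [hu]
      refine (flipQ_comm _ _ fun l => ?_).symm
      obtain ⟨l, rfl⟩ := φ.surjective l
      fin_cases l <;> simp [Equiv.swap_apply_def, φ.injective.eq_iff]
    rw [hxd]
    exact Commute.mul_left (Commute.mul_left hc hfu) (Commute.inv_left hc)
  have htu : t * u = u * t := ext_ev fun i => by
    obtain ⟨t0, t1, t2, t3, t4, t5⟩ := tev
    obtain ⟨u0, u1, u2, u3, u4, u5⟩ := uev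
    obtain ⟨i, rfl⟩ := φ.surjective i
    rw [mul_app, mul_app]
    fin_cases i <;> simp [t0, t1, t2, t3, t4, t5, u0, u1, u2, u3, u4, u5]
  have hpow : ∀ (v : ι → F), x.1 v = v → t.1 v = v → ∀ k : ℕ, ((x * t) ^ k).1 v = v := fun v h1 h3 k => by
    induction k with
    | zero => rfl
    | succ k ih => rw [pow_succ, mul_app, mul_app, h3, h1, ih]
  have hpu : ∀ k : ℕ, (x * t) ^ k * u = u * (x * t) ^ k := fun k =>
    ((show Commute x u from hflip).mul_left (show Commute t u from htu)).pow_left k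
  have hpM : ∀ k : ℕ, (x * t) ^ k ∈ M := fun k => pow_mem (mul_mem hxM htM) k
  obtain ⟨m, hz1, hzz, hzx, hzt⟩ := OLines.exists_central hxx htt fun k hk => by
    refine st.no_conj (mul_mem (hpM k) hg) (hd 4 5 (by decide)) (ht ▸ mono_mul (mono_flip _) (mono_perm _))
      (i := φ 0) (j := φ 1) (c := -1) (by rw [tev.1, ev, ← Pi.single_neg]) (hd 1 0 (by decide))
      (neg_ne_zero.2 one_ne_zero) ?_
    refine Eq.trans ?_ hk
    generalize (x * t) ^ k = P
    rw [hxd]
    group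
  obtain ⟨z, hz⟩ : ∃ z, z = (x * t) ^ m := ⟨_, rfl⟩
  rw [← hz] at hz1 hzz hzx hzt
  have hzM : z ∈ M := hz ▸ hpM m
  have hzc : z.1 (ev (φ 0) - ev (φ 1)) = ev (φ 0) - ev (φ 1) := hz ▸ hpow _ hxfix.1 htfix.1 m
  have hzd : z.1 (ev (φ 2) - ev (φ 3)) = ev (φ 2) - ev (φ 3) := hz ▸ hpow _ hxfix.2 htfix.2 m
  obtain ⟨σ, s, hs, hsq, hcz⟩ := mono_form h2 (st.fixed_mono hzM (hd 0 1 (by decide)) (hd 2 0 (by decide))
    (hd 2 1 (by decide)) hzc hzt.symm tcomp tev.2.2.1)
  have hs0 : ∀ i, s i ≠ 0 := fun i e => by simpa [e] using hsq i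
  have pairD : ∀ a b : ι, a ≠ b → z.1 (ev a - ev b) = ev a - ev b →
      (σ a = a ∧ σ b = b ∧ s a = 1 ∧ s b = 1) ∨ (σ a = b ∧ σ b = a ∧ s a = -1 ∧ s b = -1) := by
    intro a b hab hfix
    have ea := hcz (ev a - ev b) a
    have eb := hcz (ev a - ev b) b
    rw [hfix] at ea eb
    simp [ev, hab, Ne.symm hab, Pi.single_apply] at ea eb
    by_cases h1 : σ a = a
    · have h2' : σ b ≠ a := fun e => hab (σ.injective (h1.trans e.symm))
      simp [h1, hab, h2'] at ea eb
      by_cases h3 : σ b = b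
      · simp [h3] at eb
        exact Or.inl ⟨h1, h3, ea.symm, eb.symm⟩
      · simp [h3] at eb
        exact absurd eb.symm (hs0 b)
    · simp [h1] at ea
      by_cases h3 : σ a = b
      · have h4 : σ b ≠ b := fun e => hab (σ.injective (h3.trans e.symm))
        simp [h3] at ea
        simp [h4] at eb
        by_cases h5 : σ b = a
        · simp [h5] at eb
          exact Or.inr ⟨h3, h5, ea.symm, by linear_combination eb⟩
        · simp [h5] at eb
          exact absurd eb (hs0 b)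
      · simp [h3] at ea
        exact absurd ea (Ne.symm (hs0 a))
  have sup : ∀ i, i ≠ φ 0 → i ≠ φ 1 → i ≠ φ 2 → i ≠ φ 3 → i = φ 4 ∨ i = φ 5 := fun i p q r w => by
    obtain ⟨i, rfl⟩ := φ.surjective i
    fin_cases i
    exacts [absurd rfl p, absurd rfl q, absurd rfl r, absurd rfl w, Or.inl rfl, Or.inr rfl]
  have h45 : ∀ i, i = φ 4 ∨ i = φ 5 → σ i = φ 4 ∨ σ i = φ 5 := fun i hi => by
    have hne : i ≠ φ 0 ∧ i ≠ φ 1 ∧ i ≠ φ 2 ∧ i ≠ φ 3 := by
      rcases hi with rfl | rfl <;> exact ⟨hd _ _ (by decide), hd _ _ (by decide), hd _ _ (by decide), hd _ _ (by decide)⟩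
    rcases pairD _ _ (hd 0 1 (by decide)) hzc with ⟨a0, a1, -, -⟩ | ⟨a0, a1, -, -⟩ <;>
      rcases pairD _ _ (hd 2 3 (by decide)) hzd with ⟨a2, a3, -, -⟩ | ⟨a2, a3, -, -⟩ <;>
      refine sup _ ?_ ?_ ?_ ?_ <;> intro e <;>
      first
        | exact hne.1 (σ.injective (e.trans a0.symm))
        | exact hne.2.1 (σ.injective (e.trans a0.symm))
        | exact hne.1 (σ.injective (e.trans a1.symm))
        | exact hne.2.1 (σ.injective (e.trans a1.symm))
        | exact hne.2.2.1 (σ.injective (e.trans a2.symm))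
        | exact hne.2.2.2 (σ.injective (e.trans a2.symm))
        | exact hne.2.2.1 (σ.injective (e.trans a3.symm))
        | exact hne.2.2.2 (σ.injective (e.trans a3.symm))
  have hef : ((σ (φ 4) = φ 4 ∧ σ (φ 5) = φ 5) ∨ (σ (φ 4) = φ 5 ∧ σ (φ 5) = φ 4)) ∧ s (φ 5) = s (φ 4) := by
    have e := comm_apply (g := z) hzt.symm (ev (φ 4))
    rw [tev.2.2.2.2.1, hs, hs, single_smul_ev (σ (φ 4)), map_smul] at e
    rcases h45 _ (Or.inl rfl) with h | h <;> rw [h] at e
    · rw [tev.2.2.2.2.1, ← single_smul_ev] at e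
      refine ⟨Or.inl ⟨h, single_eq e (hs0 _)⟩, ?_⟩
      rw [single_eq e (hs0 _)] at e
      exact Pi.single_injective _ e
    · rw [tev.2.2.2.2.2, ← single_smul_ev] at e
      refine ⟨Or.inr ⟨h, single_eq e (hs0 _)⟩, ?_⟩
      rw [single_eq e (hs0 _)] at e
      exact Pi.single_injective _ e
  obtain ⟨hef, hs45⟩ := hef
  have hdet := mono_det h2 (st.le hzM) hs
  rw [prod_six φ, hs45] at hdet
  -- an element preserving a plane or fixing a vector
  refine st.fusion hg (hd 4 5 (by decide)) ?_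
  rw [← hxd]
  rcases pairD _ _ (hd 0 1 (by decide)) hzc with ⟨a0, a1, q0, q1⟩ | ⟨a0, a1, q0, q1⟩ <;>
    rcases pairD _ _ (hd 2 3 (by decide)) hzd with ⟨a2, a3, q2, q3⟩ | ⟨a2, a3, q2, q3⟩ <;>
    rw [q0, q1, q2, q3] at hdet
  · rcases hef with ⟨a4, a5⟩ | ⟨a4, a5⟩
    · rcases mul_self_eq_one_iff.1 (hsq (φ 4)) with h | h
      · refine absurd (ext_ev fun i => ?_) hz1
        obtain ⟨i, rfl⟩ := φ.surjective i
        fin_cases i <;> simp [hs, a0, a1, a2, a3, a4, a5, q0, q1, q2, q3, h, hs45] <;> rfl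
      · refine st.plane_mono hxM (hd 4 5 (by decide)) (into_of_commute h2 ?_)
        rw [show flipQ (F := F) {φ 4, φ 5} = z from ext_ev fun i => ?_]
        · exact hzx
        · rw [flipQ_single]
          obtain ⟨i, rfl⟩ := φ.surjective i
          fin_cases i <;> simp [hs, a0, a1, a2, a3, a4, a5, q0, q1, q2, q3, h, hs45, φ.injective.eq_iff]
    · have e : σ = Equiv.swap (φ 4) (φ 5) := Equiv.ext fun i => by
        obtain ⟨i, rfl⟩ := φ.surjective i
        fin_cases i <;> simp [a0, a1, a2, a3, a4, a5, Equiv.swap_apply_def, φ.injective.eq_iff]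
      rw [e, Equiv.Perm.sign_swap (hd 4 5 (by decide))] at hdet
      norm_num at hdet
      exact absurd (show (2 : F) = 0 by linear_combination -hdet - hsq (φ 4)) h2
  · rcases hef with ⟨a4, a5⟩ | ⟨a4, a5⟩
    · have e : σ = Equiv.swap (φ 2) (φ 3) := Equiv.ext fun i => by
        obtain ⟨i, rfl⟩ := φ.surjective i
        fin_cases i <;> simp [a0, a1, a2, a3, a4, a5, Equiv.swap_apply_def, φ.injective.eq_iff]
      rw [e, Equiv.Perm.sign_swap (hd 2 3 (by decide))] at hdet
      norm_num at hdet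
      exact absurd (show (2 : F) = 0 by linear_combination -hdet - hsq (φ 4)) h2
    · refine st.fixed_mono hxM (hd 2 3 (by decide)) (hd 0 2 (by decide)) (hd 0 3 (by decide)) hxfix.2 hzx
        (fun v => ?_) (by rw [hs, a0, q0])
      have := hcz v (φ 3)
      rw [a3, q3] at this
      rw [this]; ring
  · rcases hef with ⟨a4, a5⟩ | ⟨a4, a5⟩
    · have e : σ = Equiv.swap (φ 0) (φ 1) := Equiv.ext fun i => by
        obtain ⟨i, rfl⟩ := φ.surjective i
        fin_cases i <;> simp [a0, a1, a2, a3, a4, a5, Equiv.swap_apply_def, φ.injective.eq_iff]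
      rw [e, Equiv.Perm.sign_swap (hd 0 1 (by decide))] at hdet
      norm_num at hdet
      exact absurd (show (2 : F) = 0 by linear_combination -hdet - hsq (φ 4)) h2
    · refine st.fixed_mono hxM (hd 0 1 (by decide)) (hd 2 0 (by decide)) (hd 2 1 (by decide)) hxfix.1 hzx
        (fun v => ?_) (by rw [hs, a2, q2])
      have := hcz v (φ 1)
      rw [a1, q1] at this
      rw [this]; ring
  rcases hef with ⟨a4, a5⟩ | ⟨a4, a5⟩
  swap
  · have e : σ = Equiv.swap (φ 0) (φ 1) * Equiv.swap (φ 2) (φ 3) * Equiv.swap (φ 4) (φ 5) := Equiv.ext fun i => by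
      obtain ⟨i, rfl⟩ := φ.surjective i
      fin_cases i <;> simp [a0, a1, a2, a3, a4, a5, Equiv.Perm.mul_apply, Equiv.swap_apply_def, φ.injective.eq_iff]
    rw [e, map_mul, map_mul, Equiv.Perm.sign_swap (hd 0 1 (by decide)), Equiv.Perm.sign_swap (hd 2 3 (by decide)),
      Equiv.Perm.sign_swap (hd 4 5 (by decide))] at hdet
    norm_num at hdet
    exact absurd (show (2 : F) = 0 by linear_combination -hdet - hsq (φ 4)) h2
  have zev : z.1 (ev (φ 0)) = -ev (φ 1) ∧ z.1 (ev (φ 1)) = -ev (φ 0) ∧ z.1 (ev (φ 2)) = -ev (φ 3) := by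
    simp only [hs, a0, a1, a2, q0, q1, q2, ev, ← Pi.single_neg, and_self]
  rcases mul_self_eq_one_iff.1 (hsq (φ 4)) with h | h
  · -- `x` keeps the plane of the two remaining coordinates
    refine st.plane_mono hxM (hd 4 5 (by decide)) fun l l4 l5 => ?_
    have key : ∀ k, z.1 (ev k) = ev k → (∀ v, v = φ 0 ∨ v = φ 1 ∨ v = φ 2 ∨ v = φ 3 → k ≠ v) →
        x.1 (ev k) l = 0 := by
      intro k hk hkne
      have hf : z.1 (x.1 (ev k)) = x.1 (ev k) := by rw [← comm_apply hzx, hk]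
      have pr : ∀ a b, a ≠ b → σ b = a → s b = -1 → x.1 (ev a - ev b) = ev a - ev b → k ≠ a → k ≠ b →
          x.1 (ev k) a = 0 ∧ x.1 (ev k) b = 0 := by
        intro a b hab hσ hsb hfix hka hkb
        have e1 := hcz (x.1 (ev k)) b
        rw [hσ, hsb, hf] at e1
        have e2 := isom_dot h2 x (ev k) (ev a - ev b)
        rw [hfix, dotProduct_sub, dotProduct_sub, comp, comp, comp, comp] at e2
        simp [ev, Ne.symm hka, Ne.symm hkb] at e2
        have e3 : x.1 (ev k) a = 0 := (mul_eq_zero.1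
          (show (2 : F) * x.1 (ev k) a = 0 by linear_combination e1 + e2)).resolve_left h2
        exact ⟨e3, by linear_combination e3 - e2⟩
      have p01 := pr _ _ (hd 0 1 (by decide)) a1 q1 hxfix.1 (hkne _ (Or.inl rfl)) (hkne _ (Or.inr (Or.inl rfl)))
      have p23 := pr _ _ (hd 2 3 (by decide)) a3 q3 hxfix.2 (hkne _ (Or.inr (Or.inr (Or.inl rfl))))
        (hkne _ (Or.inr (Or.inr (Or.inr rfl))))
      obtain ⟨l, rfl⟩ := φ.surjective l
      fin_cases l
      exacts [p01.1, p01.2, p23.1, p23.2, absurd rfl l4, absurd rfl l5]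
    refine ⟨key _ (by rw [hs, a4, h]) ?_, key _ (by rw [hs, a5, hs45, h]) ?_⟩ <;>
      rintro v (rfl | rfl | rfl | rfl) <;> exact hd _ _ (by decide)
  exfalso
  rcases Nat.even_or_odd m with ⟨k, hk⟩ | hodd
  · exact st.no_root (hpM k) (hd 0 1 (by decide)) (by rw [hz, hk, pow_add]) hzz (hpow _ hxfix.1 htfix.1 k)
      zev.1 zev.2.1
  -- odd exponent
  have hpz : Commute (x * t) z := hz ▸ (Commute.refl (x * t)).pow_right m
  have hzt' : z * t * (z * t) = 1 := by
    rw [mul_assoc, ← mul_assoc t, hzt, mul_assoc z t t, htt, mul_one, hzz]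
  have hxt' : x * (z * t) = z * (x * t) := by rw [← mul_assoc, hzx, mul_assoc]
  have h1 : (x * (z * t)) ^ m = 1 := by
    rw [hxt', hpz.symm.mul_pow, ← hz]
    obtain ⟨j, rfl⟩ := hodd
    rw [pow_succ, pow_mul, pow_two, hzz, one_pow, one_mul, hzz]
  obtain ⟨m', hm1, hm2, -, -⟩ := OLines.exists_central hxx hzt' fun k hk => by
    refine st.no_conj (mul_mem (pow_mem (mul_mem hxM (mul_mem hzM htM)) k) hg) (hd 4 5 (by decide))
      (mono_mul (fun i => ⟨σ i, s i, hs i⟩) (ht ▸ mono_mul (mono_flip _) (mono_perm _)))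
      (i := φ 2) (j := φ 3) (c := -1) (by rw [mul_app, tev.2.2.1, zev.2.2, ev, ← Pi.single_neg])
      (hd 3 2 (by decide)) (neg_ne_zero.2 one_ne_zero) ?_
    refine Eq.trans ?_ hk
    generalize (x * (z * t)) ^ k = P
    rw [hxd]
    group
  obtain ⟨N, hN⟩ : ∃ N, N = orderOf (x * (z * t)) := ⟨_, rfl⟩
  have hd1 : N ∣ m := hN ▸ orderOf_dvd_of_pow_eq_one h1
  have hd2 : N ∣ 2 * m' := hN ▸ orderOf_dvd_of_pow_eq_one (by rw [two_mul, pow_add, hm2])
  exact hm1 (orderOf_dvd_iff_pow_eq_one.1 (hN ▸ ((Nat.coprime_two_right.2 (hodd.of_dvd_nat hd1)).dvd_of_dvd_mul_left hd2)))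

/-- every element is monomial -/
theorem all_mono [Finite F] {g : G} (hg : g ∈ M) : Mono g := by
  classical
  haveI := OLines.finite_quadIsoms (Pi.basisFun F ι) (Q := sq ι F)
  have h2 := st.two
  obtain ⟨φ⟩ : Nonempty (Fin 6 ≃ ι) := ⟨(Fintype.equivFinOfCardEq st.six).symm⟩
  have hd : ∀ i j : Fin 6, i ≠ j → φ i ≠ φ j := fun i j h => φ.injective.ne h
  refine st.fusion hg (hd 0 1 (by decide)) ?_
  obtain ⟨x, hxd⟩ : ∃ x, x = g * flipQ {φ 0, φ 1} * g⁻¹ := ⟨_, rfl⟩
  rw [← hxd]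
  obtain ⟨u, hu⟩ : ∃ u : G, u = permQ (F := F) (Equiv.swap (φ 0) (φ 1) * Equiv.swap (φ 2) (φ 3)) := ⟨_, rfl⟩
  have hxM : x ∈ M := hxd ▸ st.conj_flip_mem hg (hd 0 1 (by decide))
  have huM : u ∈ M := hu ▸ st.swaps_mem (hd 0 1 (by decide)) (hd 2 3 (by decide))
  have hu0 : u.1 (ev (φ 0)) = Pi.single (φ 1) 1 := by
    rw [hu, permQ_single]; simp [Equiv.swap_apply_def, φ.injective.eq_iff]
  have hxx : x * x = 1 := by
    rw [hxd, show g * flipQ {φ 0, φ 1} * g⁻¹ * (g * flipQ {φ 0, φ 1} * g⁻¹) =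
      g * (flipQ {φ 0, φ 1} * flipQ {φ 0, φ 1}) * g⁻¹ by group, flip_mul_self]
    group
  have huu : u * u = 1 := by
    rw [hu, ← map_mul]
    rw [show Equiv.swap (φ 0) (φ 1) * Equiv.swap (φ 2) (φ 3) * (Equiv.swap (φ 0) (φ 1) * Equiv.swap (φ 2) (φ 3)) = 1
      from Equiv.ext fun i => by
        obtain ⟨i, rfl⟩ := φ.surjective i
        fin_cases i <;> simp [Equiv.Perm.mul_apply, Equiv.swap_apply_def, φ.injective.eq_iff]]
    exact map_one _
  obtain ⟨m, hz1, hzz, hzx, hzu⟩ := OLines.exists_central hxx huu fun k hk => by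
    refine st.no_conj (mul_mem (pow_mem (mul_mem hxM huM) k) hg) (hd 0 1 (by decide)) (hu ▸ mono_perm _)
      hu0 (hd 1 0 (by decide)) one_ne_zero ?_
    refine Eq.trans ?_ hk
    generalize (x * u) ^ k = P
    rw [hxd]
    group
  obtain ⟨z, hz⟩ : ∃ z, z = (x * u) ^ m := ⟨_, rfl⟩
  rw [← hz] at hz1 hzz hzx hzu
  have hzM : z ∈ M := hz ▸ pow_mem (mul_mem hxM huM) m
  have hnn : (negQ : G) * negQ = 1 := quadIsoms_ext _ fun v => neg_neg v
  have hz2 : z ≠ negQ := by
    intro hzn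
    rcases Nat.even_or_odd m with ⟨k, hk⟩ | hodd
    · obtain ⟨w, hw⟩ : ∃ w, w = (x * u) ^ k := ⟨_, rfl⟩
      have hww : w * w = negQ := by rw [← hzn, hz, hk, pow_add, hw]
      have hxi : x⁻¹ = x := inv_eq_of_mul_eq_one_right hxx
      have hui : u⁻¹ = u := inv_eq_of_mul_eq_one_right huu
      have hinv : x * w * x = w⁻¹ := by
        nth_rw 2 [← hxi]
        rw [hw, ← inv_pow, ← conj_pow, mul_inv_rev, hxi, hui, ← mul_assoc x x u, hxx, one_mul]
      have hwi : w⁻¹ = negQ * w := inv_eq_of_mul_eq_one_right (by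
        rw [← mul_assoc, negQ_comm, mul_assoc, hww, hnn])
      have e : w * x * w⁻¹ = negQ * x := by
        calc w * x * w⁻¹ = w * x * (x * w * x) := by rw [hinv]
          _ = w * (x * x) * w * x := by group
          _ = negQ * x := by rw [hxx, mul_one, hww]
      have hk' : g⁻¹ * w * g ∈ M := mul_mem (mul_mem (inv_mem hg) (hw ▸ pow_mem (mul_mem hxM huM) k)) hg
      have e2 : g⁻¹ * w * g * flipQ {φ 0, φ 1} * (g⁻¹ * w * g)⁻¹ = negQ * flipQ {φ 0, φ 1} := by
        calc g⁻¹ * w * g * flipQ {φ 0, φ 1} * (g⁻¹ * w * g)⁻¹ = g⁻¹ * (w * x * w⁻¹) * g := by rw [hxd]; group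
          _ = g⁻¹ * (negQ * x) * g := by rw [e]
          _ = negQ * (g⁻¹ * x * g) := by rw [← mul_assoc g⁻¹, negQ_comm]; group
          _ = negQ * flipQ {φ 0, φ 1} := by rw [hxd]; group
      obtain ⟨σ, hσ⟩ := conj_diag h2 (st.fusion hk' (hd 0 1 (by decide)) (by
        rw [e2]; exact mono_mul mono_negQ (mono_flip _))) (φ 0) (φ 1)
      have hin : ∀ i : Fin 6, i ≠ 0 → i ≠ 1 → σ (φ i) = φ 0 ∨ σ (φ i) = φ 1 := fun i p q => by
        by_contra hno
        have h := hσ (φ i)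
        rw [e2, if_neg hno, mul_app, flipQ_single, if_neg (by simp [φ.injective.eq_iff, p, q]), negQ_apply] at h
        have h' := congrFun h (φ i)
        rw [Pi.neg_apply, ev, Pi.single_eq_same] at h'
        exact h2 (by linear_combination -h')
      have i23 := σ.injective.ne (hd 2 3 (by decide))
      have i24 := σ.injective.ne (hd 2 4 (by decide))
      have i34 := σ.injective.ne (hd 3 4 (by decide))
      rcases hin 2 (by decide) (by decide) with h | h <;> rcases hin 3 (by decide) (by decide) with h' | h' <;>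
        rcases hin 4 (by decide) (by decide) with h'' | h'' <;>
        first | exact i23 (h.trans h'.symm) | exact i24 (h.trans h''.symm) | exact i34 (h'.trans h''.symm)
    · have hu' : negQ * u * (negQ * u) = 1 := by
        rw [mul_assoc, ← mul_assoc u, negQ_comm u, mul_assoc negQ u u, huu, mul_one, hnn]
      have hxu' : x * (negQ * u) = negQ * (x * u) := by rw [← mul_assoc, negQ_comm, mul_assoc]
      have h1 : (x * (negQ * u)) ^ m = 1 := by
        rw [hxu', (show Commute negQ (x * u) from (negQ_comm _).symm).mul_pow, ← hz, hzn]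
        obtain ⟨j, rfl⟩ := hodd
        rw [pow_succ, pow_mul, pow_two, hnn, one_pow, one_mul, hnn]
      obtain ⟨m', hm1, hm2, -, -⟩ := OLines.exists_central hxx hu' fun k hk => by
        refine st.no_conj (mul_mem (pow_mem (mul_mem hxM (mul_mem st.negQ_mem huM)) k) hg) (hd 0 1 (by decide))
          (mono_mul mono_negQ (hu ▸ mono_perm _))
          (i := φ 0) (j := φ 1) (c := -1) (by rw [mul_app, hu0, negQ_apply, ← Pi.single_neg])
          (hd 1 0 (by decide)) (neg_ne_zero.2 one_ne_zero) ?_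
        refine Eq.trans ?_ hk
        generalize (x * (negQ * u)) ^ k = P
        rw [hxd]
        group
      obtain ⟨N, hN⟩ : ∃ N, N = orderOf (x * (negQ * u)) := ⟨_, rfl⟩
      have hd1 : N ∣ m := hN ▸ orderOf_dvd_of_pow_eq_one h1
      have hd2 : N ∣ 2 * m' := hN ▸ orderOf_dvd_of_pow_eq_one (by rw [two_mul, pow_add, hm2])
      exact hm1 (orderOf_dvd_iff_pow_eq_one.1
        (hN ▸ ((Nat.coprime_two_right.2 (hodd.of_dvd_nat hd1)).dvd_of_dvd_mul_left hd2)))
  obtain ⟨σ, s, hs, hsq, hcz⟩ := mono_form h2 (st.pairs_comm hzM φ (hu ▸ hzu.symm))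
  have hs0 : ∀ i, s i ≠ 0 := fun i e => by simpa [e] using hsq i
  have hσ2 : ∀ i, Pi.single (σ (σ i)) (s i * s (σ i)) = (ev i : ι → F) := fun i => by
    rw [← smul_eq_mul, Pi.single_smul, ← hs, ← map_smul, ← single_smul_ev, ← hs, ← mul_app, hzz]
    rfl
  have hinv : ∀ i, σ (σ i) = i := fun i => single_eq (hσ2 i) (mul_ne_zero (hs0 _) (hs0 _))
  have hpair : ∀ i, s (σ i) * s i = 1 := fun i => by
    have e := congrFun (hσ2 i) i
    rw [hinv, Pi.single_eq_same, ev, Pi.single_eq_same] at e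
    linear_combination e
  have hdet := mono_det h2 (st.le hzM) hs
  rcases invol_cases st.six hinv with rfl | ⟨ψ, e⟩ | ⟨ψ, e⟩ | ⟨ψ, e⟩
  · -- diagonal
    have hval : ∀ i, z.1 (ev i) = s i • ev i := fun i => by rw [hs, single_smul_ev]; rfl
    obtain ⟨r, r', c, hrr, hc, hr, hr', hoth⟩ : ∃ r r' c, r ≠ r' ∧ c * c = (1 : F) ∧ s r = c ∧ s r' = c ∧
        ∀ l, l ≠ r → l ≠ r' → s l = -c := by
      obtain ⟨N, hN⟩ : ∃ N, N = Finset.univ.filter fun i => s i = -1 := ⟨_, rfl⟩
      have hmem : ∀ i, i ∈ N ↔ s i = -1 := fun i => by simp [hN]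
      have hsv : ∀ i, s i = if i ∈ N then -1 else 1 := fun i => by
        split_ifs with h
        · exact (hmem i).1 h
        · exact (mul_self_eq_one_iff.1 (hsq i)).resolve_right fun e => h ((hmem i).2 e)
      rw [map_one, Units.val_one, Int.cast_one, one_mul, Finset.prod_congr rfl (fun i _ => hsv i),
        Finset.prod_ite_mem, Finset.univ_inter, Finset.prod_const] at hdet
      have hev : Even N.card := by
        by_contra hodd
        rw [Nat.not_even_iff_odd] at hodd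
        rw [hodd.neg_one_pow] at hdet
        exact h2 (by linear_combination -hdet)
      have hle : N.card ≤ 6 := st.six ▸ Finset.card_le_univ N
      have h0 : N.card ≠ 0 := fun e => hz1 (ext_ev fun i => by
        rw [hval, hsv, if_neg (by rw [Finset.card_eq_zero.1 e]; exact Finset.notMem_empty i), one_smul]; rfl)
      have h6 : N.card ≠ 6 := fun e => hz2 (ext_ev fun i => by
        rw [hval, hsv, if_pos (by rw [(Finset.card_eq_iff_eq_univ N).1 (e.trans st.six.symm)]; exact Finset.mem_univ i),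
          neg_one_smul]; rfl)
      obtain ⟨j, hj⟩ := hev
      rcases (show N.card = 2 ∨ N.card = 4 by omega) with e | e
      · obtain ⟨r, r', hrr, hNe⟩ := Finset.card_eq_two.1 e
        exact ⟨r, r', -1, hrr, by ring, by rw [hsv, if_pos (by simp [hNe])], by rw [hsv, if_pos (by simp [hNe])],
          fun l p q => by rw [hsv, if_neg (by simp [hNe, p, q]), neg_neg]⟩
      · obtain ⟨r, r', hrr, hNe⟩ := Finset.card_eq_two.1 (show Nᶜ.card = 2 by
          rw [Finset.card_compl, st.six, e])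
        have hout : ∀ l, l ∈ N ↔ l ∉ ({r, r'} : Finset ι) := fun l => by rw [← hNe]; simp
        exact ⟨r, r', 1, hrr, by ring, by rw [hsv, if_neg (by simp [hout])], by rw [hsv, if_neg (by simp [hout])],
          fun l p q => by rw [hsv, if_pos (by simp [hout, p, q])]⟩
    refine st.plane_mono hxM hrr fun l p q => ?_
    have key : ∀ k, s k = c → x.1 (ev k) l = 0 := fun k hk => by
      have e := congrFun (comm_apply hzx (ev k)) l
      rw [hval, hk, map_smul, fix_comp h2 (hval l), hoth l p q, Pi.smul_apply, smul_eq_mul] at e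
      exact (mul_eq_zero.1 (show (2 * c) * x.1 (ev k) l = 0 by linear_combination e)).resolve_left
        (mul_ne_zero h2 fun e0 => by simp [e0] at hc)
    exact ⟨key r hr, key r' hr'⟩
  · -- one transposition
    have hpd : ∀ i j : Fin 6, i ≠ j → ψ i ≠ ψ j := fun i j h => ψ.injective.ne h
    have hfix : ∀ i : Fin 6, i ≠ 0 → i ≠ 1 → z.1 (ev (ψ i)) = s (ψ i) • ev (ψ i) := fun i p q => by
      rw [hs, e, Equiv.swap_apply_of_ne_of_ne (ψ.injective.ne p) (ψ.injective.ne q), single_smul_ev]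
    have hp := hpair (ψ 0)
    rw [e, Equiv.swap_apply_left] at hp
    rw [e, Equiv.Perm.sign_swap (hpd 0 1 (by decide)), prod_six ψ] at hdet
    norm_num at hdet
    have hdet' : s (ψ 2) * s (ψ 3) * s (ψ 4) * s (ψ 5) = -1 := by
      linear_combination -hdet - (s (ψ 2) * s (ψ 3) * s (ψ 4) * s (ψ 5)) * hp
    have opp : ∀ i j : ι, s i ≠ s j → s j = -s i := fun i j hne => by
      rcases mul_self_eq_one_iff.1 (hsq i) with h | h <;> rcases mul_self_eq_one_iff.1 (hsq j) with h' | h' <;>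
        first
          | exact absurd (h.trans h'.symm) hne
          | rw [h, h', neg_neg]
          | rw [h, h']
    by_cases e23 : s (ψ 2) = s (ψ 3)
    · by_cases e24 : s (ψ 2) = s (ψ 4)
      · refine st.odd_mono hxM hzx (d := ψ 2) (d' := ψ 3) (m := ψ 5) (hpd 2 3 (by decide))
          (hfix 2 (by decide) (by decide)) (e23 ▸ hfix 3 (by decide) (by decide)) ?_ (hs0 _)
        rw [hfix 5 (by decide) (by decide), opp (ψ 2) (ψ 5) fun h => ?_]
        rw [← e23, ← e24, ← h] at hdet'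
        exact h2 (by linear_combination hdet' - (s (ψ 2) * s (ψ 2) + 1) * hsq (ψ 2))
      · exact st.odd_mono hxM hzx (d := ψ 2) (d' := ψ 3) (m := ψ 4) (hpd 2 3 (by decide))
          (hfix 2 (by decide) (by decide)) (e23 ▸ hfix 3 (by decide) (by decide))
          (by rw [hfix 4 (by decide) (by decide), opp _ _ e24]) (hs0 _)
    · by_cases e24 : s (ψ 2) = s (ψ 4)
      · exact st.odd_mono hxM hzx (d := ψ 2) (d' := ψ 4) (m := ψ 3) (hpd 2 4 (by decide))
          (hfix 2 (by decide) (by decide)) (e24 ▸ hfix 4 (by decide) (by decide))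
          (by rw [hfix 3 (by decide) (by decide), opp _ _ e23]) (hs0 _)
      · have h34 : s (ψ 3) = s (ψ 4) := by rw [opp _ _ e23, opp _ _ e24]
        exact st.odd_mono hxM hzx (d := ψ 3) (d' := ψ 4) (m := ψ 2) (hpd 3 4 (by decide))
          (hfix 3 (by decide) (by decide)) (h34 ▸ hfix 4 (by decide) (by decide))
          (by rw [hfix 2 (by decide) (by decide), opp _ _ e23, neg_neg]) (hs0 _)
  · -- two transpositions
    have hp0 := hpair (ψ 0)
    have hp2 := hpair (ψ 2)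
    rw [e] at hp0 hp2
    simp [Equiv.swap_apply_def, ψ.injective.eq_iff] at hp0 hp2
    rw [e, swaps_sign (ψ.injective.ne (by decide)) (ψ.injective.ne (by decide)), prod_six ψ] at hdet
    norm_num at hdet
    have h45 : s (ψ 5) = s (ψ 4) := by
      linear_combination s (ψ 4) * hdet - (s (ψ 2) * s (ψ 3) * s (ψ 4) * s (ψ 4) * s (ψ 5)) * hp0 -
        (s (ψ 4) * s (ψ 4) * s (ψ 5)) * hp2 - s (ψ 5) * hsq (ψ 4)
    obtain ⟨z', hz'x, hz's, h4, h5, hzp, hz'sq⟩ : ∃ z' : G, x * z' = z' * x ∧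
        (∀ i, z'.1 (ev i) = Pi.single (σ i) (s (ψ 4) * s i)) ∧ s (ψ 4) * s (ψ 4) = 1 ∧
        s (ψ 4) * s (ψ 5) = 1 ∧ (∀ i, s (ψ 4) * s (σ i) * (s (ψ 4) * s i) = 1) ∧
        (∀ i, s (ψ 4) * s i * (s (ψ 4) * s i) = 1) := by
      have common : (s (ψ 4) * s (ψ 5) = 1) ∧ (∀ i, s (ψ 4) * s (σ i) * (s (ψ 4) * s i) = 1) ∧
          (∀ i, s (ψ 4) * s i * (s (ψ 4) * s i) = 1) :=
        ⟨by rw [h45, hsq], fun i => by linear_combination s (ψ 4) * s (ψ 4) * hpair i + hsq (ψ 4),
          fun i => by linear_combination s (ψ 4) * s (ψ 4) * hsq i + hsq (ψ 4)⟩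
      rcases mul_self_eq_one_iff.1 (hsq (ψ 4)) with h | h
      · exact ⟨z, hzx, fun i => by rw [hs, h, one_mul], hsq _, common⟩
      · refine ⟨negQ * z, ?_, fun i => by rw [mul_app, hs, negQ_apply, h, neg_one_mul, ← Pi.single_neg], hsq _, common⟩
        rw [← mul_assoc, negQ_comm, mul_assoc, hzx, mul_assoc]
    obtain ⟨P, hP, hPm, hPz⟩ := st.exists_plain ψ e hz'sq hzp h4 h5 hz's
    have hc : P * x * P⁻¹ * permQ (F := F) σ = permQ (F := F) σ * (P * x * P⁻¹) := by
      rw [← hPz]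
      calc P * x * P⁻¹ * (P * z' * P⁻¹) = P * (x * z') * P⁻¹ := by group
        _ = P * (z' * x) * P⁻¹ := by rw [hz'x]
        _ = P * z' * P⁻¹ * (P * x * P⁻¹) := by group
    rw [e] at hc
    have hm := st.pairs_comm (mul_mem (mul_mem hP hxM) (inv_mem hP)) ψ hc
    have := mono_conj h2 (mono_inv h2 hPm) hm
    rwa [show P⁻¹ * (P * x * P⁻¹) * P⁻¹⁻¹ = x by group] at this
  · -- three transpositions
    have hp0 := hpair (ψ 0)
    have hp2 := hpair (ψ 2)
    have hp4 := hpair (ψ 4)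
    rw [e] at hp0 hp2 hp4
    simp [Equiv.swap_apply_def, ψ.injective.eq_iff] at hp0 hp2 hp4
    rw [e, map_mul, swaps_sign (ψ.injective.ne (by decide)) (ψ.injective.ne (by decide)),
      Equiv.Perm.sign_swap (ψ.injective.ne (by decide)), prod_six ψ] at hdet
    norm_num at hdet
    refine absurd (show (2 : F) = 0 by
      linear_combination -hdet - (s (ψ 2) * s (ψ 3) * s (ψ 4) * s (ψ 5)) * hp0 -
        (s (ψ 4) * s (ψ 5)) * hp2 - hp4) h2

end Setting

end CfsgLib.MaxSub.OSix
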