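import Cfsg.Agent.Lib.MaxSub.OSixMain

/-!
Six coordinates with the sum of squares over a prime field: the monomial group is maximal in `Ω`.
-/

set_option autoImplicit false
set_option linter.unusedSectionVars false

namespace CfsgLib.MaxSub.OSix

open CfsgLib.Classical CfsgLib.Geom CfsgLib.Geom.OrthSub CfsgLib.MaxSub CfsgLib.MaxSub.OMono
open CfsgLib.MaxSub.OFrame (InW wSub mem_wSub)
open CfsgLib.MaxSub.OLines (embed exists_embed embed_commutator embed_mono embed_self embed_sub ext_coords dot_split)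
open QuadraticMap (polar)
open scoped Matrix

variable {ι F : Type*} [Fintype ι] [DecidableEq ι] [Field F]

/-- the monomial group is maximal: abstract form -/
theorem commutator_le_of_not_mono (hp : (Nat.card F).Prime) (h2 : (2 : F) ≠ 0) (h6 : Fintype.card ι = 6)
    (M : Subgroup (quadIsoms (sq ι F)))
    (hM : ∀ g ∈ commutator (quadIsoms (sq ι F)), Mono g → g ∈ M) {g : quadIsoms (sq ι F)} (hg : g ∈ M)
    (hgc : g ∈ commutator (quadIsoms (sq ι F))) (hgm : ¬ Mono g) :
    commutator (quadIsoms (sq ι F)) ≤ M := by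
  classical
  haveI : Finite F := Nat.finite_of_card_ne_zero hp.ne_zero
  -- every coordinate vector is fixed by some non-monomial element
  have hfix : ∀ i, ∃ k ∈ M, k.1 (Pi.single i 1) = Pi.single i 1 ∧ ¬ Mono k := by
    have hex : ∃ i, ∃ k ∈ M ⊓ commutator (quadIsoms (sq ι F)), k.1 (Pi.single i 1) = Pi.single i 1 ∧
        ¬ Mono k := by
      by_contra hno
      push Not at hno
      have st : Setting F (M ⊓ commutator (quadIsoms (sq ι F))) :=
        { two := h2, six := h6, le := inf_le_right, mem := fun k hk hm => ⟨hM k hk hm, hk⟩,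
          small := fun k hk i h => hno i k hk h }
      exact hgm (st.all_mono ⟨hg, hgc⟩)
    obtain ⟨i₀, k, hk, hki, hkm⟩ := hex
    intro i
    obtain ⟨τ, hτ, hτm, hτi⟩ : ∃ τ ∈ M, Mono τ ∧ τ.1 (ev i₀) = ev i := by
      by_cases e : i₀ = i
      · exact ⟨1, one_mem M, fun l => ⟨l, 1, rfl⟩, by rw [e]; rfl⟩
      · obtain ⟨c, d, hcd, hci, hci', hdi, hdi'⟩ := exists_two h6 i₀ i
        refine ⟨permQ (Equiv.swap i₀ i * Equiv.swap c d),
          hM _ (permQ_mem_commutator (by rw [h6]; norm_num) (swaps_sign e hcd)) (mono_perm _), mono_perm _, ?_⟩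
        rw [permQ_single, Equiv.Perm.mul_apply, Equiv.swap_apply_of_ne_of_ne (Ne.symm hci) (Ne.symm hdi),
          Equiv.swap_apply_left]
    refine ⟨τ * k * τ⁻¹, mul_mem (mul_mem hτ hk.1) (inv_mem hτ), ?_, fun hm => hkm ?_⟩
    · show (τ * k * τ⁻¹).1 (ev i) = ev i
      rw [mul_app, mul_app, ← hτi, inv_app, hki]
    · have := mono_conj h2 (mono_inv h2 hτm) hm
      rwa [show τ⁻¹ * (τ * k * τ⁻¹) * τ⁻¹⁻¹ = k by group] at this
  -- Siegel elements whose data vanish at a common coordinate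
  have hsep : ∀ (κ : Type _) [Fintype κ] [DecidableEq κ] (x : κ → F),
      (∀ y, polar (sq κ F) x y = 0) → x = 0 := fun κ _ _ => OMono.sq_sep h2
  have hcommon : ∀ (i : ι) (u w : ι → F), u ⬝ᵥ u = 0 → u ⬝ᵥ w = 0 → u i = 0 → w i = 0 →
      siegel (sq ι F) u w ∈ M := by
    intro i u w hu huw hui hwi
    obtain ⟨k, hk, hki, hkm⟩ := hfix i
    obtain ⟨k', rfl⟩ := exists_embed i h2 k hki
    have hc : Fintype.card {j // j ≠ i} = Fintype.card ι - 1 := by
      rw [Fintype.card_subtype_compl, Fintype.card_subtype_eq]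
    have hle := OMono.commutator_le_of_not_mono (ι := {j // j ≠ i}) hp h2 (by omega)
      (by rw [hc, h6]; exact ⟨2, rfl⟩) (M.comap (embed i))
      (fun x hx hxm => hM _ (embed_commutator i hx) (embed_mono i hxm)) (g := k') hk
      (fun hm => hkm (embed_mono i hm))
    obtain ⟨u', hu'⟩ : ∃ u' : {j // j ≠ i} → F, u' = fun j => u j.1 := ⟨_, rfl⟩
    obtain ⟨w', hw'⟩ : ∃ w' : {j // j ≠ i} → F, w' = fun j => w j.1 := ⟨_, rfl⟩
    have hdot : ∀ x y : ι → F, x i = 0 →
        x ⬝ᵥ y = (fun j : {j // j ≠ i} => x j.1) ⬝ᵥ fun j => y j.1 := fun x y h => by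
      rw [dot_split i, h, zero_mul, zero_add]
    have hu0 : u' ⬝ᵥ u' = 0 := by rw [hu', ← hdot u u hui, hu]
    have huw0 : u' ⬝ᵥ w' = 0 := by rw [hu', hw', ← hdot u w hui, huw]
    have e : embed i (siegel (sq {j // j ≠ i} F) u' w') = siegel (sq ι F) u w :=
      Subtype.ext (LinearEquiv.ext fun z => ext_coords i
        (by rw [embed_self, OMono.siegel_sq_apply hu huw]; simp [hui, hwi])
        (by
          rw [embed_sub, OMono.siegel_sq_apply hu0 huw0, OMono.siegel_sq_apply hu huw, hdot u z hui,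
            hdot w z hwi, hdot w w hwi, ← hu', ← hw']
          funext j
          simp [hu', hw']))
    rw [← e]
    exact hle (siegel_mem_commutator (hsep _)
      (by rw [Module.finrank_fintype_fun_eq_card]; omega) u' w')
  -- a singular vector with small support
  obtain ⟨f⟩ : Nonempty (Fin 5 ↪ ι) := Function.Embedding.nonempty_of_card_le (by simp; omega)
  obtain ⟨r₁, r₂, hr⟩ := CfsgLib.Geom.exists_binary_eq h2 (one_ne_zero (α := F)) one_ne_zero (-1 : F)
  have hne : ∀ {x y : Fin 5}, x ≠ y → f x ≠ f y := fun h => f.injective.ne h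
  have hFull : ∀ s : F, s * s = 1 →
      sq ι F (Pi.single (f 0) r₁ + Pi.single (f 1) r₂ + Pi.single (f 2) s) = 0 ∧
      Full M (Pi.single (f 0) r₁ + Pi.single (f 1) r₂ + Pi.single (f 2) s : ι → F) := by
    intro s hs
    obtain ⟨u, hu⟩ : ∃ u : ι → F, u = Pi.single (f 0) r₁ + Pi.single (f 1) r₂ + Pi.single (f 2) s :=
      ⟨_, rfl⟩
    rw [← hu]
    have hu0 : u ⬝ᵥ u = 0 := by
      rw [hu]
      simp [hne (show (0 : Fin 5) ≠ 1 by decide), hne (show (0 : Fin 5) ≠ 2 by decide),
        hne (show (1 : Fin 5) ≠ 2 by decide), hne (show (1 : Fin 5) ≠ 0 by decide),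
        hne (show (2 : Fin 5) ≠ 0 by decide), hne (show (2 : Fin 5) ≠ 1 by decide)]
      linear_combination hr + hs
    have hu3 : ∀ x : Fin 5, x = 3 ∨ x = 4 → u (f x) = 0 := fun x hx => by
      rw [hu]
      rcases hx with rfl | rfl
      all_goals simp [f.injective.eq_iff]
    have hQu : sq ι F u = 0 := by rw [OMono.sq_apply, hu0]
    refine ⟨hQu, fun z hz => ?_⟩
    rw [OMono.polar_sq, mul_eq_zero] at hz
    have hz' := hz.resolve_left h2
    have h1 : InW M u (Pi.single (f 3) (z (f 3))) := by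
      have huw : u ⬝ᵥ Pi.single (f 3) (z (f 3)) = 0 := by
        rw [dotProduct_single, hu3 3 (Or.inl rfl), zero_mul]
      exact ⟨by rw [OMono.polar_sq, huw, mul_zero], hcommon (f 4) u _ hu0 huw (hu3 4 (Or.inr rfl))
        (Pi.single_eq_of_ne (hne (by decide)) _)⟩
    have h3 : InW M u (z - Pi.single (f 3) (z (f 3))) := by
      have huw : u ⬝ᵥ (z - Pi.single (f 3) (z (f 3))) = 0 := by
        rw [dotProduct_sub, hz', dotProduct_single, hu3 3 (Or.inl rfl), zero_mul, sub_zero]
      exact ⟨by rw [OMono.polar_sq, huw, mul_zero], hcommon (f 3) u _ hu0 huw (hu3 3 (Or.inl rfl))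
        (by simp)⟩
    have h4 := (wSub M hQu).add_mem (mem_wSub.2 h3) (mem_wSub.2 h1)
    rw [sub_add_cancel] at h4
    exact (mem_wSub.1 h4).2
  obtain ⟨hQu, hu⟩ := hFull 1 (one_mul 1)
  obtain ⟨hQv, hv⟩ := hFull (-1) (by ring)
  refine commutator_le_of_pair (hsep ι) (by rw [Module.finrank_fintype_fun_eq_card]; omega) hu hv hQu hQv ?_
  rw [OMono.polar_sq]
  refine mul_ne_zero h2 ?_
  simp [f.injective.eq_iff]
  intro h
  exact h2 (by linear_combination hr - h)

end CfsgLib.MaxSub.OSix
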