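import Cfsg.Agent.Lib.MaxSub.OSixBase

/-!
Six coordinates: an element preserving a coordinate plane is monomial.
-/

set_option autoImplicit false
set_option linter.unusedSectionVars false

namespace CfsgLib.MaxSub.OSix

open CfsgLib.Classical CfsgLib.Geom CfsgLib.MaxSub CfsgLib.MaxSub.OMono
open scoped Matrix

variable {ι F : Type*} [Fintype ι] [DecidableEq ι] [Field F]

local notation "G" => quadIsoms (sq ι F)

namespace Setting

variable {M : Subgroup (quadIsoms (sq ι F))} (st : Setting F M)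
include st

/-- a symmetry of the line `v` outside the plane -/
theorem exists_symmetry {g : G} (hg : g ∈ M) {a b k : ι} (hab : a ≠ b) (hka : k ≠ a) (hkb : k ≠ b)
    (hP : Into g a b a b) (hk : g.1 (ev k) k ≠ 0) :
    ∃ p ∈ M, p.1 (ev k) = ev k ∧ p.1 (g.1 (ev k)) = g.1 (ev k) ∧
      ((p.1 (ev a) = -ev a ∧ p.1 (ev b) = ev b) ∨ (p.1 (ev a) = ev b ∧ p.1 (ev b) = ev a)) := by
  classical
  have h2 := st.two
  obtain ⟨hva, hvb⟩ := hP.other h2 hab hab hka hkb
  obtain ⟨v, hv⟩ : ∃ v, v = g.1 (ev k) := ⟨_, rfl⟩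
  rw [← hv] at hva hvb hk ⊢
  by_cases hA : ∃ l, l ≠ a ∧ l ≠ b ∧ l ≠ k ∧ v l = 0
  · obtain ⟨l, hla, hlb, hlk, hl⟩ := hA
    refine ⟨flipQ {a, l}, st.flip_mem (Ne.symm hla), ?_, ?_, Or.inl ⟨?_, ?_⟩⟩
    · rw [flipQ_single]; simp [hka, Ne.symm hlk]
    · funext i
      rw [flipQ_apply]
      simp only [Finset.mem_insert, Finset.mem_singleton]
      split_ifs with h
      · rcases h with rfl | rfl
        · rw [hva, neg_zero]
        · rw [hl, neg_zero]
      · rfl
    · rw [flipQ_single]; simp [← Pi.single_neg]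
    · rw [flipQ_single]; simp [Ne.symm hab, Ne.symm hlb]
  by_cases hB : ∃ l m, l ≠ m ∧ l ≠ a ∧ l ≠ b ∧ l ≠ k ∧ m ≠ a ∧ m ≠ b ∧ m ≠ k ∧ v l * v l = v m * v m
  · obtain ⟨l, m, hlm, hla, hlb, hlk, hma, hmb, hmk, heq⟩ := hB
    have hσ : ∀ i, (Equiv.swap a b * Equiv.swap l m).symm i = Equiv.swap l m (Equiv.swap a b i) := fun _ => rfl
    have ea : (Equiv.swap a b * Equiv.swap l m) a = b := by
      rw [Equiv.Perm.mul_apply, Equiv.swap_apply_of_ne_of_ne (Ne.symm hla) (Ne.symm hma), Equiv.swap_apply_left]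
    have eb : (Equiv.swap a b * Equiv.swap l m) b = a := by
      rw [Equiv.Perm.mul_apply, Equiv.swap_apply_of_ne_of_ne (Ne.symm hlb) (Ne.symm hmb), Equiv.swap_apply_right]
    have ek : (Equiv.swap a b * Equiv.swap l m) k = k := by
      rw [Equiv.Perm.mul_apply, Equiv.swap_apply_of_ne_of_ne (Ne.symm hlk) (Ne.symm hmk),
        Equiv.swap_apply_of_ne_of_ne hka hkb]
    rcases mul_self_eq_mul_self_iff.1 heq with e | e
    · refine ⟨permQ (Equiv.swap a b * Equiv.swap l m), st.swaps_mem hab hlm, ?_, ?_, Or.inr ⟨?_, ?_⟩⟩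
      · rw [permQ_single, ek]
      · funext i
        rw [permQ_apply, hσ]
        by_cases hia : i = a
        · subst hia
          rw [Equiv.swap_apply_left, Equiv.swap_apply_of_ne_of_ne (Ne.symm hlb) (Ne.symm hmb), hva, hvb]
        by_cases hib : i = b
        · subst hib
          rw [Equiv.swap_apply_right, Equiv.swap_apply_of_ne_of_ne (Ne.symm hla) (Ne.symm hma), hva, hvb]
        rw [Equiv.swap_apply_of_ne_of_ne hia hib]
        by_cases hil : i = l
        · subst hil; rw [Equiv.swap_apply_left, e]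
        by_cases him : i = m
        · subst him; rw [Equiv.swap_apply_right, e]
        rw [Equiv.swap_apply_of_ne_of_ne hil him]
      · rw [permQ_single, ea]
      · rw [permQ_single, eb]
    · refine ⟨flipQ {l, m} * permQ (Equiv.swap a b * Equiv.swap l m),
        mul_mem (st.flip_mem hlm) (st.swaps_mem hab hlm), ?_, ?_, Or.inr ⟨?_, ?_⟩⟩
      · rw [mul_app, permQ_single, ek, flipQ_single]; simp [Ne.symm hlk, Ne.symm hmk]
      · funext i
        rw [mul_app, flipQ_apply, permQ_apply, hσ]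
        simp only [Finset.mem_insert, Finset.mem_singleton]
        by_cases hia : i = a
        · subst hia
          rw [Equiv.swap_apply_left, Equiv.swap_apply_of_ne_of_ne (Ne.symm hlb) (Ne.symm hmb), hva, hvb]
          simp
        by_cases hib : i = b
        · subst hib
          rw [Equiv.swap_apply_right, Equiv.swap_apply_of_ne_of_ne (Ne.symm hla) (Ne.symm hma), hva, hvb]
          simp
        rw [Equiv.swap_apply_of_ne_of_ne hia hib]
        by_cases hil : i = l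
        · subst hil; rw [if_pos (Or.inl rfl), Equiv.swap_apply_left, e]
        by_cases him : i = m
        · subst him; rw [if_pos (Or.inr rfl), Equiv.swap_apply_right, e, neg_neg]
        rw [if_neg (not_or.2 ⟨hil, him⟩), Equiv.swap_apply_of_ne_of_ne hil him]
      · rw [mul_app, permQ_single, ea, flipQ_single]; simp [Ne.symm hlb, Ne.symm hmb]
      · rw [mul_app, permQ_single, eb, flipQ_single]; simp [Ne.symm hla, Ne.symm hma]
  exfalso
  push Not at hA hB
  obtain ⟨l, l', hll, hla, hlb, -, -⟩ := exists_two st.six a b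
  obtain ⟨l, hla, hlb, hlk⟩ : ∃ l, l ≠ a ∧ l ≠ b ∧ l ≠ k := by
    by_cases h : l = k
    · subst h
      obtain ⟨p, q, hpq, hpa, hpl, hqa, hql⟩ := exists_two st.six a l
      by_cases hpb : p = b
      · exact ⟨q, hqa, fun e => hpq (hpb.trans e.symm), hql⟩
      · exact ⟨p, hpa, hpb, hpl⟩
    · exact ⟨l, hla, hlb, h⟩
  obtain ⟨y, hy⟩ : ∃ y, y = g * flipQ {k, l} * g⁻¹ := ⟨_, rfl⟩
  have hyM : y ∈ M := hy ▸ mul_mem (mul_mem hg (st.flip_mem (Ne.symm hlk))) (inv_mem hg)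
  have hya : y.1 (ev a) = ev a := hy ▸ conj_flip_fix h2 g (Ne.symm hlk) (by
    rw [comp]; exact (hP.other h2 hab hab hka hkb).1) (by rw [comp]; exact (hP.other h2 hab hab hla hlb).1)
  have hyb : y.1 (ev b) = ev b := hy ▸ conj_flip_fix h2 g (Ne.symm hlk) (by
    rw [comp]; exact (hP.other h2 hab hab hka hkb).2) (by rw [comp]; exact (hP.other h2 hab hab hla hlb).2)
  obtain ⟨σ, s, hσs, -, hσc⟩ := mono_form h2 (st.fix_mono hyM hya)
  have hσa : σ a = a := by
    by_contra h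
    have h1 := congrFun ((hσs a).symm.trans hya) a
    rw [Pi.single_eq_of_ne (Ne.symm h), ev, Pi.single_eq_same] at h1
    exact zero_ne_one h1
  have hσb : σ b = b := by
    by_contra h
    have h1 := congrFun ((hσs b).symm.trans hyb) b
    rw [Pi.single_eq_of_ne (Ne.symm h), ev, Pi.single_eq_same] at h1
    exact zero_ne_one h1
  have hyv : y.1 v = -v := by
    rw [hy, hv, mul_app, mul_app, inv_app, flipQ_single]
    simp only [Finset.mem_insert, Finset.mem_singleton, true_or, if_true]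
    rw [single_smul_ev k (-1 : F), map_smul, neg_one_smul]
  have hrel : ∀ i, s i * v i = -v (σ i) := fun i => by rw [← hσc v i, hyv]; rfl
  -- outside the plane and `k`, the permutation can only move to `k`
  have hmv : ∀ r, r ≠ a → r ≠ b → r ≠ k → σ r = r ∨ σ r = k := by
    intro r hra hrb hrk
    by_contra h
    push Not at h
    refine hB r (σ r) (Ne.symm h.1) hra hrb hrk (fun e => hra (σ.injective (e.trans hσa.symm)))
      (fun e => hrb (σ.injective (e.trans hσb.symm))) h.2 ?_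
    obtain ⟨-, -, -, hs2, -⟩ : ∃ σ' : Equiv.Perm ι, True ∧ True ∧ (s r * s r = 1) ∧ True := by
      have := mono_form h2 (st.fix_mono hyM hya)
      refine ⟨σ, trivial, trivial, ?_, trivial⟩
      have h1 := col_norm h2 y r
      rwa [hσs, dotProduct_single, Pi.single_eq_same] at h1
    linear_combination (-(v (σ r)) + s r * v r) * (hrel r) - (v r * v r) * hs2
  obtain ⟨φ, h0, h1, h2k, -⟩ := exists_lab st.six hab (Ne.symm hka) (Ne.symm hla) (Ne.symm hkb) (Ne.symm hlb)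
    (Ne.symm hlk)
  have hne : ∀ i : Fin 6, i ≠ 0 → i ≠ 1 → i ≠ 2 → φ i ≠ a ∧ φ i ≠ b ∧ φ i ≠ k := fun i p q r =>
    ⟨h0 ▸ φ.injective.ne p, h1 ▸ φ.injective.ne q, h2k ▸ φ.injective.ne r⟩
  have hzero : ∀ r, r ≠ a → r ≠ b → r ≠ k → σ r = r →
      ∀ i, i ≠ k → i ≠ l → g.1 (ev i) r = 0 := by
    intro r hra hrb hrk hr i hik hil
    have hs : s r = -1 := by
      have := hrel r
      rw [hr] at this
      exact mul_right_cancel₀ (hA r hra hrb hrk) (this.trans (neg_one_mul _).symm)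
    have e : y.1 (ev r) = -ev r := by rw [hσs, hr, hs, ev, ← Pi.single_neg]
    rw [hy, mul_app, mul_app] at e
    have e' := congrArg (fun x => (g⁻¹).1 x i) e
    simp only [inv_app, map_neg, Pi.neg_apply, flipQ_apply, Finset.mem_insert, Finset.mem_singleton, hik,
      hil, or_self, if_false] at e'
    rw [← inv_comp h2 g r i]
    exact (mul_eq_zero.1 (show (2 : F) * (g⁻¹).1 (ev r) i = 0 by linear_combination e')).resolve_left h2
  have key : ∀ r₁ r₂ r₃, r₁ ≠ r₂ → r₁ ≠ r₃ → r₂ ≠ r₃ → (r₁ ≠ a ∧ r₁ ≠ b ∧ r₁ ≠ k) →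
      (r₂ ≠ a ∧ r₂ ≠ b ∧ r₂ ≠ k) → (r₃ ≠ a ∧ r₃ ≠ b ∧ r₃ ≠ k) → σ r₁ = r₁ → σ r₂ = r₂ → False := by
    intro r₁ r₂ r₃ h12 h13 h23 n1 n2 n3 e1 e2
    have hs : ∀ r, (r ≠ a ∧ r ≠ b ∧ r ≠ k) → σ r = r →
        ∀ i, i ≠ k → i ≠ l → (g⁻¹).1 (ev r) i = 0 := fun r n e i p q => by
      rw [inv_comp h2]; exact hzero r n.1 n.2.1 n.2.2 e i p q
    have d1 := dot_two (Ne.symm hlk) (hs r₁ n1 e1)
    have d2 := dot_two (Ne.symm hlk) (hs r₂ n2 e2)
    have h3 := two_comb_zero (r := (g⁻¹).1 (ev r₁) k) (t := (g⁻¹).1 (ev r₁) l) (u := (g⁻¹).1 (ev r₂) k)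
      (w := (g⁻¹).1 (ev r₂) l) (x := (g⁻¹).1 (ev r₃) k) (y := (g⁻¹).1 (ev r₃) l)
      (by rw [← d1, col_norm h2]) (by rw [← d2, col_norm h2]) (by rw [← d1, col_orth h2 _ h12])
      (by rw [← d1, col_orth h2 _ h13]) (by rw [← d2, col_orth h2 _ h23])
    refine hA r₃ n3.1 n3.2.1 n3.2.2 ?_
    rw [hv, ← inv_comp h2]
    exact h3.1
  have d : ∀ i j : Fin 6, i ≠ j → φ i ≠ φ j := fun i j h => φ.injective.ne h
  have n3 := hne 3 (by decide) (by decide) (by decide)
  have n4 := hne 4 (by decide) (by decide) (by decide)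
  have n5 := hne 5 (by decide) (by decide) (by decide)
  rcases hmv _ n3.1 n3.2.1 n3.2.2 with e3 | e3 <;> rcases hmv _ n4.1 n4.2.1 n4.2.2 with e4 | e4
  · exact key _ _ (φ 5) (d _ _ (by decide)) (d _ _ (by decide)) (d _ _ (by decide)) n3 n4 n5 e3 e4
  · refine key _ _ (φ 4) (d _ _ (by decide)) (d _ _ (by decide)) (d _ _ (by decide)) n3 n5 n4 e3 ?_
    exact (hmv _ n5.1 n5.2.1 n5.2.2).resolve_right fun e => d 4 5 (by decide) (σ.injective (e4.trans e.symm))
  · refine key _ _ (φ 3) (d _ _ (by decide)) (d _ _ (by decide)) (d _ _ (by decide)) n4 n5 n3 e4 ?_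
    exact (hmv _ n5.1 n5.2.1 n5.2.2).resolve_right fun e => d 3 5 (by decide) (σ.injective (e3.trans e.symm))
  · exact d 3 4 (by decide) (σ.injective (e3.trans e4.symm))

/-- the mixing argument -/
theorem core_false {g : G} (hg : g ∈ M) {a b k m n : ι} (hab : a ≠ b) (hka : k ≠ a) (hkb : k ≠ b)
    (hP : Into g a b a b) (hk : g.1 (ev k) k ≠ 0) (hl : 2 * (g.1 (ev k) k * g.1 (ev k) k) ≠ 1)
    (hmn : m ≠ n) (hmk : m ≠ k) (hnk : n ≠ k) (hm : g.1 (ev k) m ≠ 0) (hn : g.1 (ev k) n ≠ 0) : False := by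
  have h2 := st.two
  obtain ⟨p, hp, hpk, hpv, hpab⟩ := st.exists_symmetry hg hab hka hkb hP hk
  obtain ⟨hva, hvb⟩ := hP.other h2 hab hab hka hkb
  obtain ⟨v, hv⟩ : ∃ v, v = g.1 (ev k) := ⟨_, rfl⟩
  obtain ⟨w, hw⟩ : ∃ w, w = g.1 (ev a) := ⟨_, rfl⟩
  rw [← hv] at hva hvb hk hl hm hn hpv
  have hw0 : ∀ l, l ≠ a → l ≠ b → w l = 0 := fun l p q => hw ▸ (hP l p q).1
  obtain ⟨C, hC⟩ : ∃ C, C = 2 * (w a * w a) - 1 := ⟨_, rfl⟩
  obtain ⟨S, hS⟩ : ∃ S, S = 2 * (w a * w b) := ⟨_, rfl⟩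
  obtain ⟨c, hc⟩ : ∃ c, c = v k := ⟨_, rfl⟩
  have hn1 : w a * w a + w b * w b = 1 := by rw [← dot_two hab hw0, hw, col_norm h2]
  have hwv : w ⬝ᵥ v = 0 := by rw [hw, hv, col_orth h2 g (Ne.symm hka)]
  have hvv : v ⬝ᵥ v = 1 := by rw [hv, col_norm h2]
  obtain ⟨t, ht⟩ : ∃ t, t = g * flipQ {a, k} * g⁻¹ * flipQ {a, k} := ⟨_, rfl⟩
  have htM : t ∈ M := ht ▸ mul_mem (mul_mem (mul_mem hg (st.flip_mem (Ne.symm hka))) (inv_mem hg))
    (st.flip_mem (Ne.symm hka))
  have happ : ∀ z, t.1 z = (flipQ (F := F) {a, k}).1 z -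
      (2 * (w ⬝ᵥ (flipQ (F := F) {a, k}).1 z)) • w - (2 * (v ⬝ᵥ (flipQ (F := F) {a, k}).1 z)) • v := fun z => by
    rw [ht, mul_app, conj_flip_apply h2 g (Ne.symm hka), ← hw, ← hv]
  have hw2 := of_two hab hw0
  have fa : (flipQ (F := F) {a, k}).1 (ev a) = -ev a := by rw [flipQ_single]; simp [← Pi.single_neg]
  have fb : (flipQ (F := F) {a, k}).1 (ev b) = ev b := by rw [flipQ_single]; simp [Ne.symm hab, Ne.symm hkb]
  have fk : (flipQ (F := F) {a, k}).1 (ev k) = -ev k := by rw [flipQ_single]; simp [← Pi.single_neg]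
  have ta : t.1 (ev a) = C • ev a + S • ev b := by
    rw [happ, fa, dotProduct_neg, dotProduct_neg, comp, comp, hva, hC, hS]
    conv_lhs => rw [hw2]
    simp [Pi.single_eq_of_ne, hab, Ne.symm hab]
    module
  have tb : t.1 (ev b) = (-S) • ev a + C • ev b := by
    rw [happ, fb, comp, comp, hvb, hC, hS]
    conv_lhs => rw [hw2]
    simp [Pi.single_eq_of_ne, hab, Ne.symm hab]
    match_scalars <;> first | ring1 | linear_combination -2 * hn1
  have hCS : C * C + S * S = 1 := by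
    rw [hC, hS]; linear_combination (4 * (w a * w a)) * hn1
  have tk : t.1 (ev k) = -ev k + (2 * c) • v := by
    rw [happ, fk, dotProduct_neg, dotProduct_neg, comp, comp, hw0 k hka hkb, hc]
    simp
  have hfv : (flipQ (F := F) {a, k}).1 v = v - (2 * c) • ev k := by
    rw [flipQ_pair a k (Ne.symm hka), hva, hc]; simp
  have tv : t.1 v = (4 * (c * c) - 1) • v + (-(2 * c)) • ev k := by
    rw [happ, hfv, dotProduct_sub, dotProduct_sub, dotProduct_smul, dotProduct_smul, comp, comp, hwv, hvv,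
      hw0 k hka hkb, ← hc]
    simp only [smul_eq_mul]
    module
  obtain ⟨q, hq⟩ : ∃ q, q = t * p * t * p := ⟨_, rfl⟩
  have hqM : q ∈ M := hq ▸ mul_mem (mul_mem (mul_mem htM hp) htM) hp
  have hqa : q.1 (ev a) = ev a := by
    have e : q.1 (ev a) = t.1 (p.1 (t.1 (p.1 (ev a)))) := by rw [hq]; rfl
    rw [e]
    rcases hpab with ⟨pa, pb⟩ | ⟨pa, pb⟩
    · rw [pa, map_neg, ta, map_neg, map_add, map_smul, map_smul, pa, pb, map_neg, map_add, map_smul, map_smul,
        map_neg, ta, tb]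
      match_scalars <;> first | ring1 | linear_combination hCS
    · rw [pa, tb, map_add, map_smul, map_smul, pa, pb, map_add, map_smul, map_smul, ta, tb]
      match_scalars <;> first | ring1 | linear_combination hCS
  have hqk : q.1 (ev k) = (1 - 4 * (c * c)) • ev k + (8 * (c * c * c) - 4 * c) • v := by
    have e : q.1 (ev k) = t.1 (p.1 (t.1 (p.1 (ev k)))) := by rw [hq]; rfl
    rw [e, hpk, tk, map_add, map_neg, map_smul, hpk, hpv, map_add, map_neg, map_smul, tk, tv]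
    module
  obtain ⟨j, d, hj⟩ := st.fix_mono hqM hqa k
  rw [hqk] at hj
  have hβ : ∀ l, l ≠ k → l ≠ j → v l ≠ 0 → False := fun l hlk hlj hl0 => by
    have e := congrFun hj l
    simp [ev, hlk, hlj, hl0] at e
    have h4 : (4 : F) ≠ 0 := by
      rw [show (4 : F) = 2 * 2 by norm_num]; exact mul_ne_zero h2 h2
    have e' : 4 * c * (2 * (c * c) - 1) = 0 := by linear_combination e
    rcases mul_eq_zero.1 e' with h | h
    · exact hk (hc ▸ (mul_eq_zero.1 h).resolve_left h4)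
    · exact hl (by rw [← hc]; linear_combination h)
  by_cases hmj : m = j
  · exact hβ n hnk (fun e => hmn (hmj.trans e.symm)) hn
  · exact hβ m hmk hmj hm

/-- a column with three non-zero coordinates is impossible -/
theorem three_false [DecidableEq F] {g : G} (hg : g ∈ M) {a b k : ι} (hab : a ≠ b) (hka : k ≠ a) (hkb : k ≠ b)
    (hP : Into g a b a b) (h3 : 3 ≤ (Finset.univ.filter fun l => g.1 (ev k) l ≠ 0).card) : False := by
  classical
  have h2 := st.two
  obtain ⟨hva, hvb⟩ := hP.other h2 hab hab hka hkb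
  obtain ⟨S, hS⟩ : ∃ S, S = Finset.univ.filter fun l => g.1 (ev k) l ≠ 0 := ⟨_, rfl⟩
  rw [← hS] at h3
  have hmem : ∀ l, l ∈ S ↔ g.1 (ev k) l ≠ 0 := fun l => by simp [hS]
  have hsub : S ⊆ ({a, b} : Finset ι)ᶜ := fun l hl => by
    simp only [Finset.mem_compl, Finset.mem_insert, Finset.mem_singleton, not_or]
    exact ⟨fun e => (hmem l).1 hl (e ▸ hva), fun e => (hmem l).1 hl (e ▸ hvb)⟩
  obtain ⟨n₀, hn₀, hhalf⟩ : ∃ n₀ ∈ S, 2 * (g.1 (ev k) n₀ * g.1 (ev k) n₀) ≠ 1 := by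
    by_contra hcon
    push Not at hcon
    have hle := Finset.card_le_card hsub
    rw [Finset.card_compl, st.six, Finset.card_pair hab] at hle
    have hsum : ∑ l ∈ S, 2 * (g.1 (ev k) l * g.1 (ev k) l) = 2 := by
      rw [← Finset.mul_sum]
      conv_rhs => rw [← mul_one (2 : F), ← col_norm h2 g k, dotProduct]
      congr 1
      exact Finset.sum_subset (Finset.subset_univ S) fun l _ hl => by
        rw [show g.1 (ev k) l = 0 from not_not.1 fun h => hl ((hmem l).2 h), zero_mul]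
    rw [Finset.sum_congr rfl hcon, Finset.sum_const, nsmul_eq_mul, mul_one] at hsum
    have : S.card = 3 ∨ S.card = 4 := by omega
    rcases this with h | h <;> rw [h] at hsum <;> norm_num at hsum
    · exact one_ne_zero (α := F) (by linear_combination hsum)
    · exact h2 (by linear_combination hsum)
  obtain ⟨m, n, hm, hn, hmn⟩ := Finset.one_lt_card_iff.1 (show 1 < (S.erase n₀).card by
    rw [Finset.card_erase_of_mem hn₀]; omega)
  simp only [Finset.mem_erase] at hm hn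
  obtain ⟨hna, hnb⟩ : n₀ ≠ a ∧ n₀ ≠ b := by simpa using hsub hn₀
  rcases eq_or_ne n₀ k with rfl | hnk
  · exact st.core_false hg hab hka hkb hP ((hmem _).1 hn₀) hhalf hmn hm.1 hn.1 ((hmem _).1 hm.2) ((hmem _).1 hn.2)
  obtain ⟨σ, hσ⟩ : ∃ σ, σ = Equiv.swap n₀ k * Equiv.swap a b := ⟨_, rfl⟩
  have hσk : σ n₀ = k := by
    rw [hσ, Equiv.Perm.mul_apply, Equiv.swap_apply_of_ne_of_ne hna hnb, Equiv.swap_apply_left]
  have hσab : ∀ i, i ≠ a → i ≠ b → σ.symm i ≠ a ∧ σ.symm i ≠ b := fun i hia hib => by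
    have e : σ a = b ∧ σ b = a := by
      constructor <;> rw [hσ, Equiv.Perm.mul_apply]
      · rw [Equiv.swap_apply_left, Equiv.swap_apply_of_ne_of_ne (Ne.symm hnb) (Ne.symm hkb)]
      · rw [Equiv.swap_apply_right, Equiv.swap_apply_of_ne_of_ne (Ne.symm hna) (Ne.symm hka)]
    exact ⟨fun h => hib (by rw [← e.1, ← h, σ.apply_symm_apply]),
      fun h => hia (by rw [← e.2, ← h, σ.apply_symm_apply])⟩
  have hmem' : permQ (F := F) σ * g ∈ M := mul_mem (hσ ▸ st.swaps_mem hnk hab) hg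
  have hcoord : ∀ i l, (permQ (F := F) σ * g).1 (ev i) (σ l) = g.1 (ev i) l := fun i l => by
    rw [mul_app, permQ_apply, σ.symm_apply_apply]
  have hP' : Into (permQ (F := F) σ * g) a b a b := fun l p q => by
    rw [← σ.apply_symm_apply l, hcoord, hcoord]
    exact hP _ (hσab l p q).1 (hσab l p q).2
  have hck := hcoord k n₀
  rw [hσk] at hck
  refine st.core_false hmem' hab hka hkb hP' ?_ ?_ (σ.injective.ne hmn) (hσk ▸ σ.injective.ne hm.1)
    (hσk ▸ σ.injective.ne hn.1) ?_ ?_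
  · rw [hck]; exact (hmem _).1 hn₀
  · rw [hck]; exact hhalf
  · rw [hcoord]; exact (hmem _).1 hm.2
  · rw [hcoord]; exact (hmem _).1 hn.2

end Setting

theorem two_support {x : ι → F} (hx0 : x ≠ 0) [DecidableEq F]
    (h : ¬ 3 ≤ (Finset.univ.filter fun l => x l ≠ 0).card) :
    (∃ j c, x = Pi.single j c) ∨ ∃ r s, r ≠ s ∧ x r ≠ 0 ∧ x s ≠ 0 ∧ ∀ l, l ≠ r → l ≠ s → x l = 0 := by
  obtain ⟨S, hS⟩ : ∃ S, S = Finset.univ.filter fun l => x l ≠ 0 := ⟨_, rfl⟩
  have hmem : ∀ l, l ∈ S ↔ x l ≠ 0 := fun l => by simp [hS]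
  rw [← hS] at h
  have h0 : S.card ≠ 0 := fun e => hx0 (funext fun l => not_not.1 fun hl =>
    Finset.notMem_empty l (Finset.card_eq_zero.1 e ▸ (hmem l).2 hl))
  rcases (show S.card = 1 ∨ S.card = 2 by omega) with e | e
  · obtain ⟨j, hj⟩ := Finset.card_eq_one.1 e
    exact Or.inl ⟨j, x j, of_one fun l hl => not_not.1 fun h' => hl (by simpa [hj] using (hmem l).2 h')⟩
  · obtain ⟨r, s, hrs, hj⟩ := Finset.card_eq_two.1 e
    refine Or.inr ⟨r, s, hrs, (hmem r).1 (by simp [hj]), (hmem s).1 (by simp [hj]), fun l p q =>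
      not_not.1 fun h' => ?_⟩
    simpa [hj, p, q] using (hmem l).2 h'

/-- two columns in one coordinate plane -/
theorem exists_pair {g : G} (h2 : (2 : F) ≠ 0) {a b : ι} (h6 : Fintype.card ι = 6) (hab : a ≠ b)
    (hP : Into g a b a b) (hcol : ∀ k, k ≠ a → k ≠ b → ∃ r s, r ≠ s ∧ g.1 (ev k) r ≠ 0 ∧ g.1 (ev k) s ≠ 0 ∧
      ∀ l, l ≠ r → l ≠ s → g.1 (ev k) l = 0) :
    ∃ k l r s, k ≠ l ∧ r ≠ s ∧ k ≠ a ∧ k ≠ b ∧ l ≠ a ∧ l ≠ b ∧ r ≠ a ∧ r ≠ b ∧ s ≠ a ∧ s ≠ b ∧
      Into g k l r s := by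
  classical
  obtain ⟨k, k', hkk, hka, hkb, -, -⟩ := exists_two h6 a b
  choose! r s hrs hr hs hz using hcol
  have hout : ∀ i, i ≠ a → i ≠ b → r i ≠ a ∧ r i ≠ b ∧ s i ≠ a ∧ s i ≠ b := fun i hia hib => by
    obtain ⟨e1, e2⟩ := hP.other h2 hab hab hia hib
    exact ⟨fun e => hr i hia hib (e ▸ e1), fun e => hr i hia hib (e ▸ e2), fun e => hs i hia hib (e ▸ e1),
      fun e => hs i hia hib (e ▸ e2)⟩
  obtain ⟨T, hT⟩ : ∃ T : ι → Finset ι, ∀ i, T i = {r i, s i} := ⟨_, fun _ => rfl⟩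
  -- supports of two columns meet in zero or two points
  have hmeet : ∀ i j, i ≠ a → i ≠ b → j ≠ a → j ≠ b → i ≠ j → T i ≠ T j → Disjoint (T i) (T j) := by
    intro i j hia hib hja hjb hij hne
    rw [Finset.disjoint_left]
    intro x hxi hxj
    have hd := col_orth h2 g hij
    rw [dot_two (hrs i hia hib) (hz i hia hib)] at hd
    simp only [hT, Finset.mem_insert, Finset.mem_singleton] at hxi hxj hne
    have hxnz : g.1 (ev j) x ≠ 0 := by
      rcases hxj with e | e <;> rw [e]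
      exacts [hr j hja hjb, hs j hja hjb]
    rcases hxi with e | e <;> subst e
    · have hz0 : g.1 (ev j) (s i) = 0 := by
        refine hz j hja hjb _ (fun e' => ?_) fun e' => ?_
        · rcases hxj with e'' | e''
          · exact hrs i hia hib (e''.trans e'.symm)
          · exact hne (by rw [e', e'', Finset.pair_comm])
        · rcases hxj with e'' | e''
          · exact hne (by rw [e', e''])
          · exact hrs i hia hib (e''.trans e'.symm)
      rw [hz0, mul_zero, add_zero, mul_eq_zero] at hd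
      exact hd.elim (hr i hia hib) hxnz
    · have hz0 : g.1 (ev j) (r i) = 0 := by
        refine hz j hja hjb _ (fun e' => ?_) fun e' => ?_
        · rcases hxj with e'' | e''
          · exact hrs i hia hib (e'.trans e''.symm)
          · exact hne (by rw [e', e''])
        · rcases hxj with e'' | e''
          · exact hne (by rw [e', e'', Finset.pair_comm])
          · exact hrs i hia hib (e'.trans e''.symm)
      rw [hz0, mul_zero, zero_add, mul_eq_zero] at hd
      exact hd.elim (hs i hia hib) hxnz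
  obtain ⟨p, hp⟩ : ∃ p, p = ({a, b} : Finset ι)ᶜ := ⟨_, rfl⟩
  have hpc : p.card = 4 := by rw [hp, Finset.card_compl, h6, Finset.card_pair hab]
  obtain ⟨i, hi, j, hj, l, hl, hij, hil, hjl⟩ := Finset.two_lt_card.1 (show 2 < p.card by omega)
  have hp' : ∀ x ∈ p, x ≠ a ∧ x ≠ b := fun x hx => by simpa [hp] using hx
  obtain ⟨x, y, hxy, hx, hy, he⟩ : ∃ x y, x ≠ y ∧ x ∈ p ∧ y ∈ p ∧ T x = T y := by
    by_contra hcon
    push Not at hcon
    have d1 := hmeet i j (hp' i hi).1 (hp' i hi).2 (hp' j hj).1 (hp' j hj).2 hij (hcon i j hij hi hj)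
    have d2 := hmeet i l (hp' i hi).1 (hp' i hi).2 (hp' l hl).1 (hp' l hl).2 hil (hcon i l hil hi hl)
    have d3 := hmeet j l (hp' j hj).1 (hp' j hj).2 (hp' l hl).1 (hp' l hl).2 hjl (hcon j l hjl hj hl)
    have hsub : T i ∪ T j ∪ T l ⊆ p := by
      intro z hz
      simp only [hT, Finset.mem_union, Finset.mem_insert, Finset.mem_singleton] at hz
      simp only [hp, Finset.mem_compl, Finset.mem_insert, Finset.mem_singleton, not_or]
      rcases hz with ((e | e) | (e | e)) | (e | e) <;> subst e <;>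
        first
          | exact ⟨(hout i (hp' i hi).1 (hp' i hi).2).1, (hout i (hp' i hi).1 (hp' i hi).2).2.1⟩
          | exact ⟨(hout i (hp' i hi).1 (hp' i hi).2).2.2.1, (hout i (hp' i hi).1 (hp' i hi).2).2.2.2⟩
          | exact ⟨(hout j (hp' j hj).1 (hp' j hj).2).1, (hout j (hp' j hj).1 (hp' j hj).2).2.1⟩
          | exact ⟨(hout j (hp' j hj).1 (hp' j hj).2).2.2.1, (hout j (hp' j hj).1 (hp' j hj).2).2.2.2⟩
          | exact ⟨(hout l (hp' l hl).1 (hp' l hl).2).1, (hout l (hp' l hl).1 (hp' l hl).2).2.1⟩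
          | exact ⟨(hout l (hp' l hl).1 (hp' l hl).2).2.2.1, (hout l (hp' l hl).1 (hp' l hl).2).2.2.2⟩
    have h := Finset.card_le_card hsub
    rw [Finset.card_union_of_disjoint (Finset.disjoint_union_left.2 ⟨d2, d3⟩),
      Finset.card_union_of_disjoint d1, hT, hT, hT, Finset.card_pair (hrs i (hp' i hi).1 (hp' i hi).2),
      Finset.card_pair (hrs j (hp' j hj).1 (hp' j hj).2), Finset.card_pair (hrs l (hp' l hl).1 (hp' l hl).2)] at h
    omega
  obtain ⟨hxa, hxb⟩ := hp' x hx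
  obtain ⟨hya, hyb⟩ := hp' y hy
  obtain ⟨o1, o2, o3, o4⟩ := hout x hxa hxb
  refine ⟨x, y, r x, s x, hxy, hrs x hxa hxb, hxa, hxb, hya, hyb, o1, o2, o3, o4, fun z hz1 hz2 =>
    ⟨hz x hxa hxb z hz1 hz2, ?_⟩⟩
  have hzn : z ∉ T y := by rw [← he, hT]; simp [hz1, hz2]
  rw [hT, Finset.mem_insert, Finset.mem_singleton, not_or] at hzn
  exact hz y hya hyb z hzn.1 hzn.2

namespace Setting

variable {M : Subgroup (quadIsoms (sq ι F))} (st : Setting F M)
include st

/-- an element preserving three coordinate planes is monomial -/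
theorem planes_mono {g : G} (hg : g ∈ M) {a b k l : ι} (hab : a ≠ b) (hkl : k ≠ l) (hka : k ≠ a) (hkb : k ≠ b)
    (hla : l ≠ a) (hlb : l ≠ b) (hP : Into g a b a b) (hQ : Into g k l k l) : Mono g := by
  have h2 := st.two
  by_contra hnm
  obtain ⟨φ, h0, h1, h2', h3⟩ := exists_lab st.six hab (Ne.symm hka) (Ne.symm hla) (Ne.symm hkb) (Ne.symm hlb) hkl
  obtain ⟨m, hm⟩ : ∃ m, m = φ 4 := ⟨_, rfl⟩
  have hma : m ≠ a := hm ▸ h0 ▸ φ.injective.ne (by decide)
  have hmb : m ≠ b := hm ▸ h1 ▸ φ.injective.ne (by decide)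
  have hmk : m ≠ k := hm ▸ h2' ▸ φ.injective.ne (by decide)
  have hml : m ≠ l := hm ▸ h3 ▸ φ.injective.ne (by decide)
  obtain ⟨hmA, hmB⟩ := hP.other h2 hab hab hma hmb
  obtain ⟨hmK, hmL⟩ := hQ.other h2 hkl hkl hmk hml
  have nz : ∀ {i x y : ι}, x ≠ y → (∀ z, z ≠ x → z ≠ y → g.1 (ev i) z = 0) →
      g.1 (ev i) x ≠ 0 ∧ g.1 (ev i) y ≠ 0 := by
    intro i x y hxy hz
    constructor <;> intro e
    · refine hnm (st.fix_mono hg (i := i) (j := y) (c := g.1 (ev i) y) (of_one fun z hzy => ?_))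
      by_cases hzx : z = x
      · exact hzx ▸ e
      · exact hz z hzx hzy
    · refine hnm (st.fix_mono hg (i := i) (j := x) (c := g.1 (ev i) x) (of_one fun z hzx => ?_))
      by_cases hzy : z = y
      · exact hzy ▸ e
      · exact hz z hzx hzy
  obtain ⟨hkk, -⟩ := nz hkl fun z p q => (hQ z p q).1
  obtain ⟨hlk, hll⟩ := nz hkl fun z p q => (hQ z p q).2
  have hmsupp : g.1 (ev m) m ≠ 0 := by
    refine (nz (x := m) (y := φ 5) (hm ▸ φ.injective.ne (by decide)) fun z p q => ?_).1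
    obtain ⟨i, rfl⟩ := φ.surjective z
    fin_cases i
    · exact h0 ▸ hmA
    · exact h1 ▸ hmB
    · exact h2' ▸ hmK
    · exact h3 ▸ hmL
    · exact absurd hm.symm p
    · exact absurd rfl q
  obtain ⟨σ, hσ⟩ : ∃ σ, σ = Equiv.swap k l * Equiv.swap l m := ⟨_, rfl⟩
  have hσM : permQ (F := F) σ ∈ M := hσ ▸ st.swaps_mem hkl (Ne.symm hml)
  have ek : σ k = l := by
    rw [hσ, Equiv.Perm.mul_apply, Equiv.swap_apply_of_ne_of_ne hkl (Ne.symm hmk), Equiv.swap_apply_left]
  have el : σ l = m := by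
    rw [hσ, Equiv.Perm.mul_apply, Equiv.swap_apply_left, Equiv.swap_apply_of_ne_of_ne hmk hml]
  have ea : σ a = a := by
    rw [hσ, Equiv.Perm.mul_apply, Equiv.swap_apply_of_ne_of_ne (Ne.symm hla) (Ne.symm hma),
      Equiv.swap_apply_of_ne_of_ne (Ne.symm hka) (Ne.symm hla)]
  have eb : σ b = b := by
    rw [hσ, Equiv.Perm.mul_apply, Equiv.swap_apply_of_ne_of_ne (Ne.symm hlb) (Ne.symm hmb),
      Equiv.swap_apply_of_ne_of_ne (Ne.symm hkb) (Ne.symm hlb)]
  obtain ⟨t, ht⟩ : ∃ t, t = g * permQ (F := F) σ * g⁻¹ := ⟨_, rfl⟩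
  have htM : t ∈ M := ht ▸ mul_mem (mul_mem hg hσM) (inv_mem hg)
  have hta : t.1 (ev a) = ev a := by
    have hz : ∀ i, i ≠ a → i ≠ b → (g⁻¹).1 (ev a) i = 0 := fun i p q => by
      rw [inv_comp h2]; exact (hP.other h2 hab hab p q).1
    have e : (permQ (F := F) σ).1 ((g⁻¹).1 (ev a)) = (g⁻¹).1 (ev a) := by
      conv_lhs => rw [of_two hab hz]
      conv_rhs => rw [of_two hab hz]
      rw [map_add, map_smul, map_smul, permQ_single, permQ_single, ea, eb]
    rw [ht, mul_app, mul_app, e, app_inv]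
  obtain ⟨j, c, hj⟩ := st.fix_mono htM hta k
  have hz : ∀ i, i ≠ k → i ≠ l → (g⁻¹).1 (ev k) i = 0 := fun i p q => by
    rw [inv_comp h2]; exact (hQ.other h2 hkl hkl p q).1
  have e : t.1 (ev k) = (g⁻¹).1 (ev k) k • g.1 (ev l) + (g⁻¹).1 (ev k) l • g.1 (ev m) := by
    rw [ht, mul_app, mul_app]
    conv_lhs => rw [of_two hkl hz]
    rw [map_add, map_smul, map_smul, permQ_single, permQ_single, ek, el, map_add, map_smul, map_smul]
  rw [e, inv_comp h2, inv_comp h2] at hj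
  have el' := congrFun hj l
  have em' := congrFun hj m
  simp only [Pi.add_apply, Pi.smul_apply, smul_eq_mul, hmL, (hQ m hmk hml).2, mul_zero, add_zero,
    zero_add] at el' em'
  by_cases hlj : l = j
  · rw [Pi.single_eq_of_ne (fun e => hml (e.trans hlj.symm))] at em'
    exact mul_ne_zero (nz hkl fun z p q => (hQ z p q).2).1 hmsupp em'
  · rw [Pi.single_eq_of_ne hlj] at el'
    exact mul_ne_zero hkk hll el'

/-- an element preserving a coordinate plane is monomial -/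
theorem plane_mono {g : G} (hg : g ∈ M) {a b : ι} (hab : a ≠ b) (hP : Into g a b a b) : Mono g := by
  classical
  have h2 := st.two
  by_contra hnm
  have hcol : ∀ k, k ≠ a → k ≠ b → ∃ r s, r ≠ s ∧ g.1 (ev k) r ≠ 0 ∧ g.1 (ev k) s ≠ 0 ∧
      ∀ l, l ≠ r → l ≠ s → g.1 (ev k) l = 0 := fun k hka hkb => by
    rcases two_support (x := g.1 (ev k)) (fun e => by simpa [e] using col_norm h2 g k)
      (fun h => st.three_false hg hab hka hkb hP h) with ⟨j, c, e⟩ | h
    · exact absurd (st.fix_mono hg e) hnm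
    · exact h
  obtain ⟨k, l, r, s, hkl, hrs, hka, hkb, hla, hlb, hra, hrb, hsa, hsb, hI⟩ :=
    exists_pair h2 st.six hab hP hcol
  obtain ⟨σ, hσsgn, hσr, hσs, hσab⟩ : ∃ σ : Equiv.Perm ι, Equiv.Perm.sign σ = 1 ∧ σ r = k ∧ σ s = l ∧
      ∀ i, i ≠ a → i ≠ b → σ.symm i ≠ a ∧ σ.symm i ≠ b := by
    obtain ⟨τ, hτ⟩ : ∃ τ, τ = Equiv.swap (Equiv.swap r k s) l * Equiv.swap r k := ⟨_, rfl⟩
    have hs'a : Equiv.swap r k s ≠ a := by
      rw [← Equiv.swap_apply_of_ne_of_ne (Ne.symm hra) (Ne.symm hka)]; exact (Equiv.injective _).ne hsa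
    have hs'b : Equiv.swap r k s ≠ b := by
      rw [← Equiv.swap_apply_of_ne_of_ne (Ne.symm hrb) (Ne.symm hkb)]; exact (Equiv.injective _).ne hsb
    have hs'k : Equiv.swap r k s ≠ k := by
      conv_rhs => rw [← Equiv.swap_apply_left r k]
      exact (Equiv.injective _).ne (Ne.symm hrs)
    have er : τ r = k := by
      rw [hτ, Equiv.Perm.mul_apply, Equiv.swap_apply_left, Equiv.swap_apply_of_ne_of_ne (Ne.symm hs'k) hkl]
    have es : τ s = l := by rw [hτ, Equiv.Perm.mul_apply, Equiv.swap_apply_left]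
    have ea : τ a = a := by
      rw [hτ, Equiv.Perm.mul_apply, Equiv.swap_apply_of_ne_of_ne (Ne.symm hra) (Ne.symm hka),
        Equiv.swap_apply_of_ne_of_ne (Ne.symm hs'a) (Ne.symm hla)]
    have eb : τ b = b := by
      rw [hτ, Equiv.Perm.mul_apply, Equiv.swap_apply_of_ne_of_ne (Ne.symm hrb) (Ne.symm hkb),
        Equiv.swap_apply_of_ne_of_ne (Ne.symm hs'b) (Ne.symm hlb)]
    rcases Int.units_eq_one_or (Equiv.Perm.sign τ) with h | h
    · refine ⟨τ, h, er, es, fun i hia hib => ⟨fun e => hia ?_, fun e => hib ?_⟩⟩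
      · rw [← τ.apply_symm_apply i, e, ea]
      · rw [← τ.apply_symm_apply i, e, eb]
    · refine ⟨Equiv.swap a b * τ, ?_, ?_, ?_, fun i hia hib => ⟨fun e => hib ?_, fun e => hia ?_⟩⟩
      · rw [map_mul, Equiv.Perm.sign_swap hab, h]; rfl
      · rw [Equiv.Perm.mul_apply, er, Equiv.swap_apply_of_ne_of_ne hka hkb]
      · rw [Equiv.Perm.mul_apply, es, Equiv.swap_apply_of_ne_of_ne hla hlb]
      · rw [← (Equiv.swap a b * τ).apply_symm_apply i, e, Equiv.Perm.mul_apply, ea, Equiv.swap_apply_left]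
      · rw [← (Equiv.swap a b * τ).apply_symm_apply i, e, Equiv.Perm.mul_apply, eb, Equiv.swap_apply_right]
  refine hnm (st.cancel (mono_perm σ) (st.planes_mono (mul_mem (st.perm_mem hσsgn) hg) hab hkl hka hkb hla hlb
    (fun i p q => ?_) fun i p q => ?_))
  · rw [mul_app, mul_app, permQ_apply, permQ_apply]
    exact hP _ (hσab i p q).1 (hσab i p q).2
  · rw [mul_app, mul_app, permQ_apply, permQ_apply]
    exact hI _ (fun e => p (by rw [← σ.apply_symm_apply i, e, hσr]))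
      (fun e => q (by rw [← σ.apply_symm_apply i, e, hσs]))

end Setting

end CfsgLib.MaxSub.OSix
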