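import Cfsg.Agent.Lib.MaxSub.TFormSSBasic

/-!
Symplectic ⊗ symplectic: one long root element at a line `p ⊗ ⟨z, d⟩` gives all Siegel transformations centred
at every pure vector.
-/

set_option autoImplicit false
set_option linter.unusedSectionVars false
set_option linter.unusedSimpArgs false
set_option linter.unusedVariables false
set_option linter.style.haveILetI false

namespace CfsgLib.MaxSub.TForm

open Module

variable {F A B V : Type*} [Field F] [AddCommGroup A] [Module F A] [AddCommGroup B] [Module F B]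
  [AddCommGroup V] [Module F V]

/-- the Siegel map of `u` and `w` -/
def sgMap (T : Sys F A B V (RingHom.id F)) (Q : V → F) (u w : V) : V → V :=
  fun x => x + T.form u x • w - (T.form w x + Q w * T.form u x) • u

/-- all Siegel maps centred at `u` lie in `H` -/
def FullO (T : Sys F A B V (RingHom.id F)) (Q : V → F) (H : Subgroup (V ≃ₗ[F] V)) (u : V) : Prop :=
  ∀ w, T.form u w = 0 → InH H (sgMap T Q u w)

namespace SSData

variable {T : Sys F A B V (RingHom.id F)} {Q : V → F} {H : Subgroup (V ≃ₗ[F] V)}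

theorem root_eq_sg (D : SSData T Q H) {u w : V} (hw : Q w = 0) (x : V) :
    rootMap T u w x = sgMap T Q u w x := by
  simp only [rootMap, sgMap, hw, zero_mul, add_zero, D.symV x u, D.symV x w]

theorem root_conj (D : SSData T Q H) {u w : V} (h : InH H (rootMap T u w)) {g : V ≃ₗ[F] V} (hg : g ∈ H) :
    InH H (rootMap T (g u) (g w)) := by
  obtain ⟨r, hr, hrx⟩ := h
  refine ⟨g * r * g⁻¹, mul_mem (mul_mem hg hr) (inv_mem hg), fun x => ?_⟩
  obtain ⟨x, rfl⟩ := g.surjective x
  show g (r (g⁻¹ (g x))) = _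
  rw [inv_ap, hrx, rootMap, rootMap, D.formH hg, D.formH hg, map_sub, map_add, map_smul, map_smul]

theorem sg_conj (D : SSData T Q H) {u w : V} (h : InH H (sgMap T Q u w)) {g : V ≃ₗ[F] V} (hg : g ∈ H) :
    InH H (sgMap T Q (g u) (g w)) := by
  obtain ⟨r, hr, hrx⟩ := h
  refine ⟨g * r * g⁻¹, mul_mem (mul_mem hg hr) (inv_mem hg), fun x => ?_⟩
  obtain ⟨x, rfl⟩ := g.surjective x
  show g (r (g⁻¹ (g x))) = _
  rw [inv_ap, hrx, sgMap, sgMap, D.formH hg, D.formH hg, D.isom g hg, map_sub, map_add, map_smul, map_smul]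

theorem sg_comp (D : SSData T Q H) {u w w' : V} (hu : T.form u u = 0) (hw : T.form u w = 0)
    (hw' : T.form u w' = 0) (x : V) : sgMap T Q u w (sgMap T Q u w' x) = sgMap T Q u (w + w') x := by
  have hwu : T.form w u = 0 := by rw [D.symV u w, hw]
  simp only [sgMap, D.q_add w w', map_add, map_sub, map_smul, LinearMap.add_apply, LinearMap.sub_apply,
    smul_eq_mul, hu, hw', hwu, mul_zero, add_zero, sub_zero]
  module

theorem q_tau_two (D : SSData T Q H) (a a' : A) (b b' : B) :
    Q (T.tau a b + T.tau a' b') = T.fA a a' * T.fB b b' := by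
  rw [D.q_add, D.q_tau, D.q_tau, D.good.form_tau, zero_add, zero_add]

variable [Finite F] [FiniteDimensional F A] [FiniteDimensional F B]

/-- one root element gives all of that kind -/
theorem roots_all (D : SSData T Q H) (hroot : ¬ NoRoot T H) (p : A) {z d : B} (hzd : T.fB z d = 0) :
    InH H (rootMap T (T.tau p z) (T.tau p d)) := by
  by_cases hp : p = 0
  · subst hp
    exact ⟨1, one_mem _, fun x => by simp [rootMap]⟩
  by_cases hz : z = 0
  · subst hz
    exact ⟨1, one_mem _, fun x => by simp [rootMap]⟩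
  by_cases hd : d ∈ Submodule.span F ({z} : Set B)
  · obtain ⟨k, rfl⟩ := Submodule.mem_span_singleton.1 hd
    exact ⟨1, one_mem _, fun x => by
      simp only [rootMap, map_smul, smul_eq_mul, LinearEquiv.coe_one, id_eq]
      module⟩
  simp only [NoRoot, not_forall, not_not] at hroot
  obtain ⟨p₀, z₀, d₀, hp₀, hz₀, hd₀, hzd₀, hin⟩ := hroot
  have hA : InH H (rootMap T (T.tau p z₀) (T.tau p d₀)) := by
    refine trans_induction T.fA D.altA D.good.nondegA
      (P := fun p => InH H (rootMap T (T.tau p z₀) (T.tau p d₀))) ?_ hp₀ hp hin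
    intro c s a h
    obtain ⟨k, hk, hkab⟩ := D.pureA_tv c s
    have := D.root_conj h hk
    rwa [hkab, hkab] at this
  refine pair_induction T.fB D.altB D.good.nondegB
    (P := fun z d => InH H (rootMap T (T.tau p z) (T.tau p d))) ?_ hz₀ hd₀ hzd₀ hz hd hzd hA
  intro c s z d h
  obtain ⟨k, hk, hkab⟩ := D.pureB_tv c s
  have := D.root_conj h hk
  rwa [hkab, hkab] at this

/-- then every pure vector is full -/
theorem full_pure (D : SSData T Q H) (hroot : ¬ NoRoot T H) {v : A} (hv : v ≠ 0) {z : B} (hz : z ≠ 0) :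
    FullO T Q H (T.tau v z) := by
  have hT := D.good
  set u := T.tau v z with hu
  have huu : T.form u u = 0 := by rw [hu, hT.form_tau, D.altA, zero_mul]
  have hpair := fun z' x => exists_perp_pair T.fB D.altB hT.nondegB (show 5 ≤ finrank F B by
    have := D.dimB; omega) z' x
  let W : AddSubgroup V :=
    { carrier := {w | T.form u w = 0 ∧ InH H (sgMap T Q u w)}
      add_mem' := by
        rintro w w' ⟨hw, hin⟩ ⟨hw', hin'⟩
        exact ⟨by rw [map_add, hw, hw', add_zero], (hin.comp hin').congr (D.sg_comp huu hw hw')⟩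
      zero_mem' := ⟨map_zero _, ⟨1, one_mem _, fun x => by
        have h0 : Q 0 = 0 := by simpa using D.q_tau 0 0
        simp [sgMap, h0]⟩⟩
      neg_mem' := by
        rintro w ⟨hw, g, hg, hgx⟩
        have hw' : T.form u (-w) = 0 := by rw [map_neg, hw, neg_zero]
        refine ⟨hw', g⁻¹, inv_mem hg, fun x => g.injective ?_⟩
        rw [ap_inv, hgx, D.sg_comp huu hw hw', add_neg_cancel]
        have h0 : Q 0 = 0 := by simpa using D.q_tau 0 0
        simp [sgMap, h0] }
  have hWmem : ∀ w, w ∈ W ↔ T.form u w = 0 ∧ InH H (sgMap T Q u w) := fun w => Iff.rfl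
  have hstep : ∀ w ∈ W, ∀ g ∈ H, g u = u → g w ∈ W := fun w hw g hg hgu => by
    obtain ⟨h1, h2⟩ := (hWmem w).1 hw
    refine (hWmem _).2 ⟨?_, ?_⟩
    · rw [← hgu, D.formH hg, h1]
    · have := D.sg_conj h2 hg
      rwa [hgu] at this
  -- the vectors `v ⊗ d`
  have h1 : ∀ d, T.fB z d = 0 → T.tau v d ∈ W := fun d hd => (hWmem _).2
    ⟨by rw [hu, hT.form_tau, D.altA, zero_mul],
      (D.roots_all hroot v hd).congr (D.root_eq_sg (D.q_tau v d))⟩
  -- the vectors `w ⊗ x`, `x ⊥ z`
  have h2 : ∀ w x, T.fB z x = 0 → T.tau w x ∈ W := by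
    have hgen : ∀ w, T.fA v w = 1 → ∀ x, T.fB z x = 0 → T.tau w x ∈ W := by
      intro w hvw x hzx
      obtain ⟨d, d', hdz, hdx, hd'z, hd'x, hdd⟩ := hpair z x
      obtain ⟨g, hg, hgx⟩ := D.roots_all hroot w (z := d) (d := x) hdx
      have hgu : g u = u := by
        rw [hgx, rootMap, hu, hT.form_tau, hT.form_tau, hT.B_flip_zero hdz, hzx]
        simp
      have h := hstep _ (h1 d' (hT.B_flip_zero hd'z)) g hg hgu
      rw [hgx, rootMap, hT.form_tau, hT.form_tau, hdd, hd'x, hvw] at h
      have h' := sub_mem h (h1 d' (hT.B_flip_zero hd'z))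
      simpa using h'
    obtain ⟨v₁, hv₁⟩ : ∃ v₁, T.fA v v₁ = 1 := by
      obtain ⟨y, hy⟩ : ∃ y, T.fA v y ≠ 0 := by
        by_contra h
        simp only [not_exists, not_not] at h
        exact hv (hT.nondegA v h)
      exact ⟨(T.fA v y)⁻¹ • y, by rw [map_smul, smul_eq_mul, inv_mul_cancel₀ hy]⟩
    intro w x hzx
    have e : T.tau w x = T.tau (w + (1 - T.fA v w) • v₁) x - T.tau v₁ ((1 - T.fA v w) • x) := by
      simp [map_add, map_smul]
    rw [e]
    exact sub_mem (hgen _ (by simp [hv₁]) x hzx) (hgen _ hv₁ _ (by rw [map_smul, hzx, smul_zero]))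
  -- the vectors `p ⊗ e`, `p ⊥ v`
  have h3 : ∀ p e, T.fA v p = 0 → T.tau p e ∈ W := by
    intro p e hvp
    rcases eq_or_ne p 0 with rfl | hp
    · rw [map_zero, LinearMap.zero_apply]; exact zero_mem _
    obtain ⟨r, hr⟩ : ∃ r, T.fA r p = 1 := by
      obtain ⟨y, hy⟩ : ∃ y, T.fA y p ≠ 0 := by
        by_contra h
        simp only [not_exists, not_not] at h
        exact hp (hT.nondegA p fun y => hT.A_flip_zero (h y))
      exact ⟨(T.fA y p)⁻¹ • y, by rw [map_smul, LinearMap.smul_apply, smul_eq_mul, inv_mul_cancel₀ hy]⟩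
    obtain ⟨y, x, hyz, hye, hxz, hxe, hxy⟩ := hpair z e
    obtain ⟨g, hg, hgx⟩ := D.roots_all hroot p (z := y) (d := e) hye
    have hgu : g u = u := by
      rw [hgx, rootMap, hu, hT.form_tau, hT.form_tau, hvp]
      simp
    have hm := h2 r x (hT.B_flip_zero hxz)
    have h := hstep _ hm g hg hgu
    rw [hgx, rootMap, hT.form_tau, hT.form_tau, hr, hxy, hxe] at h
    have h' := sub_mem h hm
    simpa using h'
  intro w hw
  refine ((hWmem w).1 ?_).2
  obtain ⟨v₁, hv₁⟩ : ∃ v₁, T.fA v v₁ = 1 := by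
    obtain ⟨y, hy⟩ : ∃ y, T.fA v y ≠ 0 := by
      by_contra h
      simp only [not_exists, not_not] at h
      exact hv (hT.nondegA v h)
    exact ⟨(T.fA v y)⁻¹ • y, by rw [map_smul, smul_eq_mul, inv_mul_cancel₀ hy]⟩
  obtain ⟨e, -, hze⟩ := hT.exists_partner hz
  suffices h : ∀ w, w + T.form u w • T.tau v₁ e ∈ W by
    have h' := h w
    rwa [hw, zero_smul, add_zero] at h'
  intro w
  refine hT.induction (p := fun w => w + T.form u w • T.tau v₁ e ∈ W) ?_ (fun x y hx hy => ?_) (fun a b => ?_) w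
  · rw [map_zero, zero_smul, add_zero]; exact zero_mem _
  · have e1 : x + y + T.form u (x + y) • T.tau v₁ e =
        (x + T.form u x • T.tau v₁ e) + (y + T.form u y • T.tau v₁ e) := by rw [map_add]; module
    rw [e1]; exact add_mem hx hy
  · have e1 : T.tau a b + T.form u (T.tau a b) • T.tau v₁ e =
        T.tau (a - T.fA v a • v₁) b + T.tau (T.fA v a • v₁) (b + T.fB z b • e) := by
      rw [hu, hT.form_tau]
      simp only [map_sub, map_add, map_smul, LinearMap.sub_apply, LinearMap.smul_apply]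
      module
    rw [e1]
    exact add_mem (h3 _ _ (by simp [hv₁])) (h2 _ _ (by simp [hze]))

end SSData

end CfsgLib.MaxSub.TForm
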