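import Cfsg.Agent.Lib.MaxSub.TFormInvol

/-!
Odd characteristic: every element of the overgroup is pure.
-/

set_option autoImplicit false
set_option linter.unusedSectionVars false
set_option linter.unusedSimpArgs false
set_option linter.style.haveILetI false

namespace CfsgLib.MaxSub.TForm

open Module

variable {F A B V : Type*} [Field F] [AddCommGroup A] [Module F A] [AddCommGroup B] [Module F B]
  [AddCommGroup V] [Module F V] {σ : F →+* F}

namespace RootCore

variable {T : Sys F A B V σ} {ε : F} {H : Subgroup (V ≃ₗ[F] V)} {Gen : Set (A ≃ₗ[F] A)}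
variable [Finite F] [FiniteDimensional F A] [FiniteDimensional F B] [FiniteDimensional F V]

/-- a nilpotent pair of root elements -/
theorem kron_of_pGroup (R : RootCore T ε H Gen) {p : ℕ} [Fact p.Prime] {y : B} (hy : T.fB y y = 0)
    (hy0 : y ≠ 0) {h t : V ≃ₗ[F] V} (hh : h ∈ H) (ht : t ∈ H) (htx : ∀ x, t x = x + T.tau (T.C y x) y)
    (hG : IsPGroup p (Subgroup.closure ({t, h * t * h⁻¹} : Set (V ≃ₗ[F] V)))) : IsKron T h := by
  haveI : Finite V := Module.finite_of_finite F
  haveI : Finite (V ≃ₗ[F] V) := Finite.of_injective _ DFunLike.coe_injective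
  set u := h * t * h⁻¹ with hu
  set G := Subgroup.closure ({t, u} : Set (V ≃ₗ[F] V)) with hGdef
  by_cases hc : Commute t u
  · exact R.kron_of_commute hy hy0 hh ht htx hc
  let tG : G := ⟨t, Subgroup.subset_closure (Set.mem_insert _ _)⟩
  let uG : G := ⟨u, Subgroup.subset_closure (Set.mem_insert_of_mem _ rfl)⟩
  haveI : Nontrivial (G ⧸ Subgroup.center G) := by
    refine ⟨⟨(tG : G ⧸ Subgroup.center G), 1, fun e => hc ?_⟩⟩
    rw [QuotientGroup.eq_one_iff, Subgroup.mem_center_iff] at e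
    exact (congrArg Subtype.val (e uG)).symm
  haveI := (hG.to_quotient (Subgroup.center G)).center_nontrivial
  obtain ⟨⟨q, hq⟩, hq1⟩ := exists_ne (1 : Subgroup.center (G ⧸ Subgroup.center G))
  obtain ⟨x, rfl⟩ := QuotientGroup.mk_surjective q
  have hcen : ∀ g : G, x * g * x⁻¹ * g⁻¹ ∈ Subgroup.center G := fun g => by
    rw [← QuotientGroup.eq_one_iff]
    have := Subgroup.mem_center_iff.1 hq (g : G ⧸ Subgroup.center G)
    simp only [QuotientGroup.mk_mul, QuotientGroup.mk_inv]
    rw [← this]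
    group
  have hGH : G ≤ H := (Subgroup.closure_le _).2 (by
    intro g hg
    rcases hg with rfl | rfl
    exacts [ht, mul_mem (mul_mem hh ht) (inv_mem hh)])
  have key : ∀ g : G, x * g ≠ g * x →
      Commute (g : V ≃ₗ[F] V) ((x : V ≃ₗ[F] V) * g * (x : V ≃ₗ[F] V)⁻¹) ∧
      (x : V ≃ₗ[F] V) * g * (x : V ≃ₗ[F] V)⁻¹ ≠ g ∧
      ∀ g' : G, Commute ((g : V ≃ₗ[F] V)⁻¹ * ((x : V ≃ₗ[F] V) * g * (x : V ≃ₗ[F] V)⁻¹)) g' := by
    intro g hg
    obtain ⟨z, hzdef⟩ : ∃ z, z = x * g * x⁻¹ * g⁻¹ := ⟨_, rfl⟩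
    have hz : ∀ g', g' * z = z * g' := Subgroup.mem_center_iff.1 (hzdef ▸ hcen g)
    have he : x * g * x⁻¹ = z * g := by rw [hzdef]; group
    have e1 : g⁻¹ * (x * g * x⁻¹) = z := by
      rw [he, ← hz g, ← mul_assoc, inv_mul_cancel, one_mul]
    have e2 : g * (x * g * x⁻¹) = x * g * x⁻¹ * g := by
      rw [he, ← mul_assoc, hz]
    refine ⟨congrArg Subtype.val e2, fun e => hg ?_, fun g' => ?_⟩
    · exact eq_mul_inv_iff_mul_eq.1 (Subtype.ext e.symm) |>.symm
    · show _ = _
      have e3 : g⁻¹ * (x * g * x⁻¹) * g' = g' * (g⁻¹ * (x * g * x⁻¹)) := by rw [e1]; exact (hz g').symm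
      exact congrArg Subtype.val e3
  by_cases h1 : x * tG = tG * x
  · have h2 : x * uG ≠ uG * x := by
      intro h2
      refine hq1 (Subtype.ext ?_)
      show (x : G ⧸ Subgroup.center G) = 1
      rw [QuotientGroup.eq_one_iff, Subgroup.mem_center_iff]
      intro g
      obtain ⟨g, hg⟩ := g
      apply Subtype.ext
      show g * (x : V ≃ₗ[F] V) = x * g
      have hle : G ≤ Subgroup.centralizer {(x : V ≃ₗ[F] V)} := (Subgroup.closure_le _).2 (by
        intro k hk
        rw [SetLike.mem_coe, Subgroup.mem_centralizer_singleton_iff]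
        rcases hk with rfl | rfl
        · exact (congrArg Subtype.val h1).symm
        · exact (congrArg Subtype.val h2).symm)
      exact Subgroup.mem_centralizer_singleton_iff.1 (hle hg)
    obtain ⟨a1, a2, a3⟩ := key uG h2
    exact R.kron_of_central' hy hy0 hh (hGH x.2) ht htx a1 a2 (a3 tG)
  · obtain ⟨a1, a2, a3⟩ := key tG h1
    exact R.kron_of_central hy hy0 hh (hGH x.2) ht htx a1 a2 (a3 uG)

/-- the two root elements as `1 + a`, `1 + b` -/
theorem sqPair (R : RootCore T ε H Gen) {y : B} (hy : T.fB y y = 0) (h : V ≃ₗ[F] V) :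
    SqPair (T.tau.flip y ∘ₗ T.C y : Module.End F V)
      ((h : V →ₗ[F] V) ∘ₗ (T.tau.flip y ∘ₗ T.C y) ∘ₗ ((h⁻¹ : V ≃ₗ[F] V) : V →ₗ[F] V) :
        Module.End F V) := by
  have hz : ∀ x, T.tau (T.C y (T.tau (T.C y x) y)) y = 0 := fun x => by
    rw [R.good.C_tau, hy, zero_smul, map_zero, LinearMap.zero_apply]
  refine ⟨LinearMap.ext hz, LinearMap.ext fun x => ?_⟩
  show h (T.tau (T.C y (h⁻¹ (h (T.tau (T.C y (h⁻¹ x)) y)))) y) = 0
  rw [inv_apply', hz, map_zero]

set_option maxHeartbeats 1000000 in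
/-- odd characteristic, the bulk of the argument: for a non-pure `h` an involution `1 ⊗ (-f)` negates the
image pencil, which pairs non-degenerately with the pencil -/
theorem odd_split (R : RootCore T ε H Gen) {p : ℕ} [Fact p.Prime] [CharP F p] (hp : p ≠ 2) {y : B}
    (hy : T.fB y y = 0) (hy0 : y ≠ 0) {h : V ≃ₗ[F] V} (hh : h ∈ H) (hnk : ¬ IsKron T h) :
    ∃ (j : V ≃ₗ[F] V) (f : B →ₗ[F] B) (l : B), (∀ c d, j (T.tau c d) = -T.tau c (f d)) ∧
      (∀ d, f (f d) = d) ∧ (∀ v, f v = v → ∃ r s : F, v = r • y + s • l) ∧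
      (∀ c, j (h (T.tau c y)) = -h (T.tau c y)) ∧ ∀ c, T.C y (h (T.tau c y)) = 0 → c = 0 := by
  classical
  have hT := R.good
  haveI := R.nontriv
  haveI : Finite V := Module.finite_of_finite F
  haveI : Finite (V ≃ₗ[F] V) := Finite.of_injective _ DFunLike.coe_injective
  by_contra hno
  obtain ⟨t, ht, htx⟩ := R.exists_tv hy
  have hG : ¬ IsPGroup p (Subgroup.closure ({t, h * t * h⁻¹} : Set (V ≃ₗ[F] V))) := fun hG =>
    hnk (R.kron_of_pGroup hy hy0 hh ht htx hG)
  set a : Module.End F V := T.tau.flip y ∘ₗ T.C y with ha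
  set b : Module.End F V := (h : V →ₗ[F] V) ∘ₗ a ∘ₗ ((h⁻¹ : V ≃ₗ[F] V) : V →ₗ[F] V) with hb
  have P : SqPair a b := R.sqPair hy h
  have hta : ∀ x, t x = x + a x := htx
  have hub : ∀ x, (h * t * h⁻¹) x = x + b x := R.root_apply hh htx
  set u := h * t * h⁻¹ with hu
  set G := Subgroup.closure ({t, u} : Set (V ≃ₗ[F] V)) with hGdef
  haveI : Fact (Nat.Prime 2) := ⟨Nat.prime_two⟩
  obtain ⟨⟨j, hjG⟩, hj⟩ := exists_prime_orderOf_dvd_card' 2 (P.two_dvd_card hp hta hub hG)
  rw [Subgroup.orderOf_mk] at hj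
  have hj2 : ∀ x, j (j x) = x := fun x => by
    have h1 : j ^ 2 = 1 := hj ▸ pow_orderOf_eq_one j
    rw [pow_two] at h1
    exact LinearEquiv.congr_fun h1 x
  have hj1 : j ≠ 1 := fun e => by rw [e, orderOf_one] at hj; exact absurd hj (by norm_num)
  have hjinv : j⁻¹ = j := inv_eq_of_mul_eq_one_left (LinearEquiv.ext hj2)
  have h20 : (2 : F) ≠ 0 := Ring.two_ne_zero (R := F) (by rwa [ringChar.eq F p])
  have hcen := P.cen_add_inv hta hub hjG
  rw [hjinv] at hcen
  have hja : ∀ x, j (a x) = a (j x) := fun x => by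
    have h1 := LinearMap.congr_fun hcen.1 x
    simp only [Module.End.mul_apply, LinearMap.add_apply, LinearEquiv.coe_coe, map_add] at h1
    rw [← two_smul F, ← two_smul F] at h1
    exact smul_right_injective V h20 h1
  have hjb : ∀ x, j (b x) = b (j x) := fun x => by
    have h1 := LinearMap.congr_fun hcen.2 x
    simp only [Module.End.mul_apply, LinearMap.add_apply, LinearEquiv.coe_coe, map_add] at h1
    rw [← two_smul F, ← two_smul F] at h1
    exact smul_right_injective V h20 h1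
  have hGH : G ≤ H := (Subgroup.closure_le _).2 (by
    intro g hg
    rcases hg with rfl | rfl
    exacts [ht, mul_mem (mul_mem hh ht) (inv_mem hh)])
  have hjH : j ∈ H := hGH hjG
  -- the `-1` space of `j`
  let D : Submodule F V := LinearMap.ker ((j : V →ₗ[F] V) + LinearMap.id)
  have hD : ∀ x, x ∈ D ↔ j x = -x := fun x => by
    show j x + x = 0 ↔ _
    exact add_eq_zero_iff_eq_neg
  have hDa : ∀ x ∈ D, a x ∈ D := fun x hx => by rw [hD] at hx ⊢; rw [hja, hx, map_neg]
  have hDb : ∀ x ∈ D, b x ∈ D := fun x hx => by rw [hD] at hx ⊢; rw [hjb, hx, map_neg]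
  let C : Module.End F V := a * b + b * a
  have hDC : ∀ x ∈ D, C x ∈ D := fun x hx => D.add_mem (hDa _ (hDb _ hx)) (hDb _ (hDa _ hx))
  have hfix : ∀ x ∈ D, a x = 0 → b x = 0 → x = 0 := by
    intro x hx hax hbx
    have hle : G ≤ MulAction.stabilizer (V ≃ₗ[F] V) x := (Subgroup.closure_le _).2 (by
      intro k hk
      rw [SetLike.mem_coe, MulAction.mem_stabilizer_iff]
      rcases hk with rfl | rfl
      · show _ = x
        exact (hta x).trans (by rw [hax, add_zero])
      · show _ = x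
        exact (hub x).trans (by rw [hbx, add_zero]))
    have h1 : j x = x := MulAction.mem_stabilizer_iff.1 (hle hjG)
    rw [(hD x).1 hx, neg_eq_iff_add_eq_zero, ← two_smul F] at h1
    exact (smul_eq_zero.1 h1).resolve_left h20
  have hCinj : ∀ x ∈ D, C x = 0 → x = 0 := by
    have key : ∀ x ∈ D, C x = 0 → a x = 0 → x = 0 := by
      intro x hx hCx hax
      have h1 : a (b x) = 0 := by
        have : C x = a (b x) + b (a x) := rfl
        rwa [hCx, hax, map_zero, add_zero, eq_comm] at this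
      have h2 : b (b x) = 0 := LinearMap.congr_fun P.hb x
      exact hfix x hx hax (hfix _ (hDb _ hx) h1 h2)
    intro x hx hCx
    refine key x hx hCx (key _ (hDa _ hx) ?_ (LinearMap.congr_fun P.ha x))
    rw [show C (a x) = (C * a) x from rfl, P.cen_C.1]
    show a (C x) = 0
    rw [hCx, map_zero]
  let CD : D →ₗ[F] D := (C : V →ₗ[F] V).restrict hDC
  have hCsurj : Function.Surjective CD := LinearMap.injective_iff_surjective.1 (by
    rw [← LinearMap.ker_eq_bot, LinearMap.ker_eq_bot']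
    exact fun x hx => Subtype.ext (hCinj x x.2 (congrArg Subtype.val hx)))
  -- kernel and image of `a` on `D`
  have hker : ∀ (c d : Module.End F V), c * c = 0 → d * d = 0 → c * d + d * c = C →
      (∀ x ∈ D, c x ∈ D) → (∀ x ∈ D, d x ∈ D) → ∀ x ∈ D, c x = 0 → ∃ z ∈ D, c z = x := by
    intro c d hc hd hcd hDc hDd x hx hcx
    obtain ⟨⟨x', hx'⟩, he⟩ := hCsurj ⟨x, hx⟩
    have he' : C x' = x := congrArg Subtype.val he
    have hc0 : c (c x') = 0 := LinearMap.congr_fun hc x'
    have h0 : c (d (c x')) = 0 := by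
      have h1 : c (C x') = 0 := by rw [he', hcx]
      rw [← hcd] at h1
      simp only [LinearMap.add_apply, Module.End.mul_apply, map_add] at h1
      rwa [show c (c (d x')) = 0 from LinearMap.congr_fun hc (d x'), zero_add] at h1
    have h1 : C (c x') = 0 := by
      rw [← hcd]; simp [h0, hc0]
    refine ⟨d x', hDd _ hx', ?_⟩
    have h2 := hCinj _ (hDc _ hx') h1
    rw [← he', ← hcd]
    simp [h2]
  have hDU0 : ∀ x ∈ D, a x = 0 → x ∈ pen T y := fun x hx hax => by
    obtain ⟨z, -, rfl⟩ := hker a b P.ha P.hb rfl hDa hDb x hx hax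
    exact ⟨T.C y z, rfl⟩
  -- `j` stabilises the pencil of `y`
  have hjpen : ∀ c, j (T.tau c y) ∈ pen T y := by
    intro c
    obtain ⟨e, he, -⟩ := hT.exists_partner hy0
    have h1 : a (T.tau c e) = T.tau c y := by
      show T.tau (T.C y (T.tau c e)) y = _
      rw [hT.C_tau, he, one_smul]
    rw [← h1, hja]
    exact ⟨_, rfl⟩
  obtain ⟨M, f, hMf⟩ := R.toStabCore.isKron hjH hy hy0 hjpen R.nontriv
  obtain ⟨a₀, ha₀⟩ := exists_ne (0 : A)
  obtain ⟨ζ, hζ⟩ : ∃ ζ : F, f y = ζ • y := by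
    obtain ⟨c, hc⟩ := hjpen a₀
    rw [hMf] at hc
    have hM0 : M a₀ ≠ 0 := fun e => by
      have h1 : j (T.tau a₀ y) = 0 := by rw [hMf, e, map_zero, LinearMap.zero_apply]
      rw [LinearEquiv.map_eq_zero_iff, ← map_zero (T.tau.flip y)] at h1
      exact ha₀ (hT.tau_left_inj hy0 h1)
    obtain ⟨x, hx⟩ : ∃ x, T.fA (M a₀) x ≠ 0 := by
      by_contra h
      simp only [not_exists, not_not] at h
      exact hM0 (hT.nondegA _ h)
    have h1 := congrArg (T.C' x) hc
    rw [LinearMap.flip_apply, hT.C'_tau, hT.C'_tau] at h1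
    exact ⟨(T.fA (M a₀) x)⁻¹ * T.fA c x, by rw [← smul_smul, h1, inv_smul_smul₀ hx]⟩
  have hζ0 : ζ ≠ 0 := fun e => by
    have h1 : j (T.tau a₀ y) = 0 := by rw [hMf, hζ, e, zero_smul, map_zero]
    rw [LinearEquiv.map_eq_zero_iff, ← map_zero (T.tau.flip y)] at h1
    exact ha₀ (hT.tau_left_inj hy0 h1)
  obtain ⟨M, f, hMf, hfy⟩ : ∃ (M : A →ₗ[F] A) (f : B →ₗ[F] B),
      (∀ c d, j (T.tau c d) = T.tau (M c) (f d)) ∧ f y = y :=
    ⟨ζ • M, ζ⁻¹ • f, fun c d => by simp [hMf, smul_smul, mul_inv_cancel₀ hζ0, inv_mul_cancel₀ hζ0],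
      by simp [hζ, smul_smul, inv_mul_cancel₀ hζ0]⟩
  have hM2 : ∀ c, M (M c) = c := fun c => hT.tau_left_inj hy0 (by
    show T.tau (M (M c)) y = T.tau c y
    conv_rhs => rw [← hj2 (T.tau c y)]
    rw [hMf, hMf, hfy, hfy])
  have hf2 : ∀ d, f (f d) = d := fun d => hT.tau_right_inj ha₀ (by
    show T.tau a₀ (f (f d)) = T.tau a₀ d
    conv_rhs => rw [← hj2 (T.tau a₀ d)]
    rw [hMf, hMf, hM2])
  -- negated vectors orthogonal to `y`
  have hneg : ∀ c d, c ≠ 0 → j (T.tau c d) = -T.tau c d → T.fB d y = 0 → ∃ k : F, d = k • y := by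
    intro c d hc0 hjc hd
    obtain ⟨c', hc'⟩ := hDU0 _ ((hD _).2 hjc) (by
      show T.tau (T.C y (T.tau c d)) y = 0
      rw [hT.C_tau, hd, zero_smul, map_zero, LinearMap.zero_apply])
    obtain ⟨x, hx⟩ : ∃ x, T.fA c x ≠ 0 := by
      by_contra h
      simp only [not_exists, not_not] at h
      exact hc0 (hT.nondegA _ h)
    have h1 := congrArg (T.C' x) hc'
    rw [LinearMap.flip_apply, hT.C'_tau, hT.C'_tau] at h1
    exact ⟨(T.fA c x)⁻¹ * T.fA c' x, by rw [← smul_smul, h1, inv_smul_smul₀ hx]⟩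
  have hspan2 : ∀ d, ∀ l, T.fB d y = 0 → d ≠ l → (∀ v, T.fB v y = 0 → ∃ k : F, v = k • y) →
      finrank F B ≤ 2 := by
    intro d l _ _ hall
    obtain ⟨e, he, -⟩ := hT.exists_partner hy0
    have hle : (⊤ : Submodule F B) ≤ Submodule.span F ({y, e} : Set B) := by
      intro v _
      obtain ⟨k, hk⟩ := hall (v - T.fB v y • e) (by simp [he])
      rw [← sub_add_cancel v (T.fB v y • e), hk]
      exact add_mem (Submodule.smul_mem _ _ (Submodule.subset_span (Set.mem_insert _ _)))
        (Submodule.smul_mem _ _ (Submodule.subset_span (Set.mem_insert_of_mem _ rfl)))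
    calc finrank F B = finrank F (⊤ : Submodule F B) := (finrank_top F B).symm
      _ ≤ finrank F (Submodule.span F ({y, e} : Set B)) := Submodule.finrank_mono hle
      _ ≤ ({y, e} : Finset B).card := by
          have := finrank_span_finset_le_card (R := F) ({y, e} : Finset B)
          rw [Finset.coe_insert, Finset.coe_singleton] at this
          exact this
      _ ≤ 2 := Finset.card_le_two
  have hcomm : ∀ c d, T.fB d y • M c = T.fB (f d) y • M c := fun c d => by
    have h1 : a (j (T.tau c d)) = j (a (T.tau c d)) := (hja _).symm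
    change T.tau (T.C y (j (T.tau c d))) y = j (T.tau (T.C y (T.tau c d)) y) at h1
    rw [hMf, hT.C_tau, hT.C_tau, hMf, hfy, map_smul M] at h1
    exact (hT.tau_left_inj hy0 h1).symm
  by_cases hM : ∃ c, M c ≠ -c
  · -- then `f = 1`
    obtain ⟨c, hc⟩ := hM
    have hc1 : c + M c ≠ 0 := fun e => hc (eq_neg_of_add_eq_zero_right e)
    have hMc1 : M (c + M c) = c + M c := by rw [map_add, hM2, add_comm]
    have hf1 : ∀ d, f d = d := by
      intro d
      have hd : f (d - f d) = -(d - f d) := by rw [map_sub, hf2]; abel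
      have hd1 : T.fB (d - f d) y = 0 := by
        have h1 := hcomm (c + M c) (d - f d)
        rw [hd, map_neg, LinearMap.neg_apply, hMc1, ← sub_eq_zero, ← sub_smul, sub_neg_eq_add,
          ← two_mul, smul_eq_zero, mul_eq_zero] at h1
        exact (h1.resolve_right hc1).resolve_left h20
      obtain ⟨k, hk⟩ := hneg (c + M c) (d - f d) hc1 (by rw [hMf, hMc1, hd, map_neg]) hd1
      have hk0 : (2 * k) • y = 0 := by
        rw [hk, map_smul, hfy] at hd
        rw [← smul_smul, two_smul]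
        nth_rewrite 1 [hd]
        exact neg_add_cancel _
      rw [smul_eq_zero, mul_eq_zero] at hk0
      rw [(hk0.resolve_right hy0).resolve_left h20, zero_smul, sub_eq_zero] at hk
      exact hk.symm
    obtain ⟨c', hc'⟩ : ∃ c', M c' ≠ c' := by
      by_contra hall
      simp only [not_exists, not_not] at hall
      exact hj1 (LinearEquiv.ext fun x => LinearMap.congr_fun
        (hT.ext_tau (f := (j : V →ₗ[F] V)) (g := LinearMap.id) fun c d => by
          show j (T.tau c d) = _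
          rw [hMf, hall, hf1]; rfl) x)
    have h3 := hspan2 0 y (by simp) hy0.symm fun v hv =>
      hneg (c' - M c') v (sub_ne_zero.2 (Ne.symm hc')) (by
        rw [hMf, hf1, map_sub M, hM2, ← LinearMap.neg_apply, ← map_neg, neg_sub]) hv
    have := R.three
    omega
  -- `M = -1`
  simp only [not_exists, not_not] at hM
  have hjp : ∀ c d, j (T.tau c d) = -T.tau c (f d) := fun c d => by
    rw [hMf, hM, map_neg, LinearMap.neg_apply]
  obtain ⟨l, hlf, hL⟩ : ∃ l, f l = l ∧ ∀ v, f v = v → ∃ r s : F, v = r • y + s • l := by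
    have hline : ∀ v, f v = v → T.fB v y = 0 → ∃ k : F, v = k • y := fun v hv hvy =>
      hneg a₀ v ha₀ (by rw [hjp, hv]) hvy
    by_cases hex : ∃ l, f l = l ∧ T.fB l y ≠ 0
    · obtain ⟨l, hl, hly⟩ := hex
      refine ⟨l, hl, fun v hv => ?_⟩
      obtain ⟨k, hk⟩ := hline (v - (T.fB v y / T.fB l y) • l) (by rw [map_sub, map_smul, hv, hl])
        (by rw [map_sub, map_smul, LinearMap.sub_apply, LinearMap.smul_apply, smul_eq_mul,
          div_mul_cancel₀ _ hly, sub_self])
      exact ⟨k, _, sub_eq_iff_eq_add.1 hk⟩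
    · refine ⟨0, map_zero f, fun v hv => ?_⟩
      simp only [not_exists, not_and, not_not] at hex
      obtain ⟨k, hk⟩ := hline v hv (hex v hv)
      exact ⟨k, 0, by rw [hk, zero_smul, add_zero]⟩
  -- the kernel of `a` on `D` is the whole pencil, hence that of `b` the whole image
  have hpD : ∀ c, T.tau c y ∈ D := fun c => (hD _).2 (by rw [hjp, hfy])
  let aD : D →ₗ[F] D := a.restrict hDa
  let bD : D →ₗ[F] D := b.restrict hDb
  have hpow : ∀ (c : D →ₗ[F] D), (∀ x, c x = 0 ↔ ∃ z, c z = x) →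
      finrank F D = 2 * finrank F (LinearMap.range c) := by
    intro c hc
    have h1 := LinearMap.finrank_range_add_finrank_ker c
    have h2 : LinearMap.ker c = LinearMap.range c := Submodule.ext fun x => hc x
    rw [h2] at h1
    omega
  have hka : finrank F D = 2 * finrank F (LinearMap.range aD) := hpow aD fun x => ⟨fun hx => by
    obtain ⟨z, hz, he⟩ := hker a b P.ha P.hb rfl hDa hDb x x.2 (congrArg Subtype.val hx)
    exact ⟨⟨z, hz⟩, Subtype.ext he⟩, by
    rintro ⟨z, rfl⟩; exact Subtype.ext (LinearMap.congr_fun P.ha z.1)⟩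
  have hkb : finrank F D = 2 * finrank F (LinearMap.range bD) := hpow bD fun x => ⟨fun hx => by
    obtain ⟨z, hz, he⟩ := hker b a P.hb P.ha (add_comm _ _) hDb hDa x x.2 (congrArg Subtype.val hx)
    exact ⟨⟨z, hz⟩, Subtype.ext he⟩, by
    rintro ⟨z, rfl⟩; exact Subtype.ext (LinearMap.congr_fun P.hb z.1)⟩
  have ha_le : finrank F A ≤ finrank F (LinearMap.range aD) := by
    let ι : A →ₗ[F] D := (T.tau.flip y).codRestrict D hpD
    have hι : Function.Injective ι := fun c c' e => hT.tau_left_inj hy0 (congrArg Subtype.val e)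
    rw [← LinearMap.finrank_range_of_inj hι]
    refine Submodule.finrank_mono ?_
    rintro _ ⟨c, rfl⟩
    obtain ⟨z, hz, he⟩ := hker a b P.ha P.hb rfl hDa hDb _ (hpD c) (by
      show T.tau (T.C y (T.tau c y)) y = 0
      rw [hT.C_tau, hy, zero_smul, map_zero, LinearMap.zero_apply])
    exact ⟨⟨z, hz⟩, Subtype.ext he⟩
  let U : Submodule F V := (pen T y).map (h : V →ₗ[F] V)
  have hbU : (LinearMap.range bD).map D.subtype ≤ U := by
    rintro _ ⟨_, ⟨z, rfl⟩, rfl⟩
    exact Submodule.mem_map_of_mem (tau_mem_pen T y _)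
  have hUle : finrank F U ≤ finrank F A := (Submodule.finrank_map_le _ _).trans (LinearMap.finrank_range_le _)
  have hUeq : (LinearMap.range bD).map D.subtype = U := Submodule.eq_of_le_of_finrank_le hbU (by
    rw [Submodule.finrank_map_subtype_eq]; omega)
  refine hno ⟨j, f, l, hjp, hf2, hL, fun c => ?_, fun c hc => ?_⟩
  · have hm : h (T.tau c y) ∈ U := Submodule.mem_map_of_mem (tau_mem_pen T y c)
    rw [← hUeq] at hm
    obtain ⟨x, -, hx⟩ := hm
    rw [← hx]
    exact (hD _).1 x.2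
  · have hm : h (T.tau c y) ∈ U := Submodule.mem_map_of_mem (tau_mem_pen T y c)
    rw [← hUeq] at hm
    obtain ⟨x, -, hx⟩ := hm
    have hxD : h (T.tau c y) ∈ D := by rw [← hx]; exact x.2
    have h0 := hfix _ hxD (by
      show T.tau (T.C y (h (T.tau c y))) y = 0
      rw [hc, map_zero, LinearMap.zero_apply]) (by
      show h (a (h⁻¹ (h (T.tau c y)))) = 0
      rw [inv_apply']
      show h (T.tau (T.C y (T.tau c y)) y) = 0
      rw [hT.C_tau, hy, zero_smul, map_zero, LinearMap.zero_apply, map_zero])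
    rw [LinearEquiv.map_eq_zero_iff, ← map_zero (T.tau.flip y)] at h0
    exact hT.tau_left_inj hy0 h0

/-- what the negated vectors pair with -/
theorem neg_perp (R : RootCore T ε H Gen) (h20 : (2 : F) ≠ 0) {j : V ≃ₗ[F] V} {f : B →ₗ[F] B} {y l w : B}
    (hjp : ∀ c d, j (T.tau c d) = -T.tau c (f d)) (hf2 : ∀ d, f (f d) = d)
    (hL : ∀ v, f v = v → ∃ r s : F, v = r • y + s • l) (hwy : T.fB w y = 0) (hwl : T.fB w l = 0)
    {x : V} (hx : j x = -x) : T.C w x = 0 := by
  have hT := R.good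
  have h1 : T.C w (j x - x) = 0 := LinearMap.congr_fun
    (hT.ext_tau (f := T.C w ∘ₗ ((j : V →ₗ[F] V) - LinearMap.id)) (g := 0) fun c d => by
      obtain ⟨r, s, hrs⟩ := hL (d + f d) (by rw [map_add, hf2, add_comm])
      show T.C w (j (T.tau c d) - T.tau c d) = 0
      rw [hjp, map_sub, map_neg, hT.C_tau, hT.C_tau, ← neg_add', ← add_smul,
        ← LinearMap.add_apply, ← map_add, add_comm, hrs]
      simp [hT.B_flip_zero hwy, hT.B_flip_zero hwl]) x
  rw [hx, ← neg_add', ← two_smul F, map_neg, map_smul, neg_eq_zero, smul_eq_zero] at h1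
  exact h1.resolve_left h20

end RootCore

namespace RootHyp

variable {T : Sys F A B V σ} {ε : F} {H : Subgroup (V ≃ₗ[F] V)} {Gen : Set (A ≃ₗ[F] A)}
variable [Finite F] [FiniteDimensional F A] [FiniteDimensional F B] [FiniteDimensional F V]

set_option maxHeartbeats 1000000 in
/-- odd characteristic: all of `H` is pure -/
theorem kron_odd (R : RootHyp T ε H Gen) {p : ℕ} [Fact p.Prime] [CharP F p] (hp : p ≠ 2)
    {h : V ≃ₗ[F] V} (hh : h ∈ H) : IsKron T h := by
  classical
  by_contra hnk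
  have hT := R.good
  obtain ⟨y, hy0, hy⟩ := R.isoVec
  obtain ⟨j, f, l, hjp, hf2, hL, hjU, -⟩ := R.core.odd_split hp hy hy0 hh hnk
  obtain ⟨w, hw0, hww, hwy, hwl⟩ := R.perp2 y l
  refine hnk (R.core.kron_of_orth hy hy0 hww hw0 hh fun c d => ?_)
  rw [hT.form_C, R.core.neg_perp (Ring.two_ne_zero (R := F) (by rwa [ringChar.eq F p])) hjp hf2 hL hwy hwl
    (hjU c), map_zero, LinearMap.zero_apply]

end RootHyp

end CfsgLib.MaxSub.TForm
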