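import Cfsg.Agent.Lib.MaxSub.TFormRoot

/-!
Characteristic two: every element of the overgroup is pure. Two root elements generate a dihedral group of
twice odd order, which forces all pairings with pencils to be non-degenerate; an element `x ⊗ B` root then
gives the contradiction.
-/

set_option autoImplicit false
set_option linter.unusedSectionVars false
set_option linter.unusedSimpArgs false
set_option linter.style.haveILetI false

namespace CfsgLib.MaxSub.TForm

open Module

/-- in a dihedral group, the product of a generator with the central involution is a conjugate of the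
first or the second generator, by parity -/
theorem dihedral_refl {G : Type*} [Group G] {t u : G} (ht : t * t = 1) (hu : u * u = 1) (i : ℕ) :
    t * (t * u) ^ (2 * i) = (u * t) ^ i * t * ((u * t) ^ i)⁻¹ ∧
      t * (t * u) ^ (2 * i + 1) = (u * t) ^ i * u * ((u * t) ^ i)⁻¹ := by
  have hti : t⁻¹ = t := inv_eq_of_mul_eq_one_left ht
  have hui : u⁻¹ = u := inv_eq_of_mul_eq_one_left hu
  have hinv : ((u * t) ^ i)⁻¹ = (t * u) ^ i := by rw [← inv_pow, mul_inv_rev, hti, hui]
  have h1 : (u * t) ^ i * t = t * (t * u) ^ i := by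
    have : SemiconjBy t (t * u) (u * t) := by
      show t * (t * u) = u * t * t
      rw [← mul_assoc, ht, one_mul, mul_assoc, ht, mul_one]
    exact (this.pow_right i).eq.symm
  have h2 : (u * t) ^ i * u = u * (t * u) ^ i := by
    have : SemiconjBy u (t * u) (u * t) := (mul_assoc u t u).symm
    exact (this.pow_right i).eq.symm
  constructor
  · rw [hinv, h1, mul_assoc, ← pow_add, two_mul]
  · rw [hinv, h2, mul_assoc, ← pow_add, ← two_mul, pow_succ', ← mul_assoc, ← mul_assoc, ht, one_mul]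

theorem invol_central {G : Type*} [Group G] {t u : G} (ht : t * t = 1) (hu : u * u = 1) {l : ℕ}
    (hl : orderOf (t * u) = 2 * l) (hl0 : 0 < l) :
    (t * u) ^ l ≠ 1 ∧ Commute t ((t * u) ^ l) ∧ Commute u ((t * u) ^ l) ∧
      (u * t) ^ l = (t * u) ^ l := by
  have hsq : (t * u) ^ l * (t * u) ^ l = 1 := by
    rw [← pow_add, ← two_mul, ← hl, pow_orderOf_eq_one]
  have hti : t⁻¹ = t := inv_eq_of_mul_eq_one_left ht
  have hui : u⁻¹ = u := inv_eq_of_mul_eq_one_left hu
  have he : (u * t) ^ l = (t * u) ^ l := by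
    have h1 : ((t * u) ^ l)⁻¹ = (u * t) ^ l := by rw [← inv_pow, mul_inv_rev, hti, hui]
    rw [← h1]; exact inv_eq_of_mul_eq_one_left hsq
  refine ⟨fun h => ?_, ?_, ?_, he⟩
  · have := orderOf_dvd_of_pow_eq_one h
    rw [hl] at this
    have := Nat.le_of_dvd hl0 this
    omega
  · have h1 : SemiconjBy t (t * u) (u * t) := by
      show t * (t * u) = u * t * t
      rw [← mul_assoc, ht, one_mul, mul_assoc, ht, mul_one]
    have h2 := h1.pow_right l
    rwa [he] at h2
  · have h1 : SemiconjBy u (t * u) (u * t) := (mul_assoc u t u).symm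
    have h2 := h1.pow_right l
    rwa [he] at h2

variable {F A B V : Type*} [Field F] [AddCommGroup A] [Module F A] [AddCommGroup B] [Module F B]
  [AddCommGroup V] [Module F V] {σ : F →+* F}

namespace RootCore

variable {T : Sys F A B V σ} {ε : F} {H : Subgroup (V ≃ₗ[F] V)} {Gen : Set (A ≃ₗ[F] A)}
variable [Finite F] [FiniteDimensional F A] [FiniteDimensional F B] [FiniteDimensional F V]
variable [CharP F 2]

theorem tv_sq (R : RootCore T ε H Gen) {y : B} (hy : T.fB y y = 0) {t : V ≃ₗ[F] V}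
    (htx : ∀ x, t x = x + T.tau (T.C y x) y) : t * t = 1 := LinearEquiv.ext fun x => by
  rw [LinearEquiv.mul_apply, htx, htx, map_add (T.C y), R.good.C_tau, hy, zero_smul, add_zero,
    add_assoc, ← two_smul F, CharTwo.two_eq_zero, zero_smul, add_zero]
  rfl

theorem pair_odd (R : RootCore T ε H Gen) {y : B} (hy : T.fB y y = 0) (hy0 : y ≠ 0)
    {h t : V ≃ₗ[F] V} (hh : h ∈ H) (hnk : ¬ IsKron T h) (ht : t ∈ H)
    (htx : ∀ x, t x = x + T.tau (T.C y x) y) : ¬ 2 ∣ orderOf (t * (h * t * h⁻¹)) := by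
  haveI : Finite V := Module.finite_of_finite F
  haveI : Finite (V ≃ₗ[F] V) := Finite.of_injective _ DFunLike.coe_injective
  rintro ⟨l, hl⟩
  have ht2 := R.tv_sq hy htx
  have hti : t⁻¹ = t := inv_eq_of_mul_eq_one_left ht2
  set u := h * t * h⁻¹ with hu
  have hu2 : u * u = 1 := by
    rw [hu]
    calc h * t * h⁻¹ * (h * t * h⁻¹) = h * (t * t) * h⁻¹ := by group
      _ = 1 := by rw [ht2]; group
  have hl0 : 0 < l := by
    have := orderOf_pos (t * u); omega
  obtain ⟨hj1, hjt, hju, -⟩ := invol_central ht2 hu2 hl hl0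
  have huH : u ∈ H := mul_mem (mul_mem hh ht) (inv_mem hh)
  obtain ⟨h', hh', he⟩ : ∃ h' ∈ H, t * (t * u) ^ l = h' * t * h'⁻¹ := by
    rcases Nat.even_or_odd' l with ⟨i, rfl | rfl⟩
    · exact ⟨_, pow_mem (mul_mem huH ht) i, (dihedral_refl ht2 hu2 i).1⟩
    · refine ⟨(u * t) ^ i * h, mul_mem (pow_mem (mul_mem huH ht) i) hh, ?_⟩
      rw [(dihedral_refl ht2 hu2 i).2, hu]; group
  refine hnk (R.kron_of_central hy hy0 hh hh' ht htx ?_ ?_ ?_)
  · rw [← he]; exact (Commute.refl t).mul_right hjt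
  · rw [← he]; exact fun e => hj1 (mul_left_cancel (e.trans (mul_one t).symm))
  · rw [← he, inv_mul_cancel_left, ← hu]; exact hju.symm

/-- translation by a vector fixed by both root elements -/
theorem pow_translate {t u : V ≃ₗ[F] V} {e k : V} (he : t e = e + k) (hk : t k = k) (hue : u e = e)
    (huk : u k = k) (n : ℕ) : ((t * u) ^ n) e = e + (n : F) • k := by
  induction n with
  | zero => simp
  | succ n ih =>
      rw [pow_succ', LinearEquiv.mul_apply, ih, LinearEquiv.mul_apply, map_add u, map_smul u, hue, huk,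
        map_add t, map_smul t, he, hk, Nat.cast_succ, add_smul, one_smul]
      abel

/-- the orthogonal of an image pencil is mapped onto `A` unless the pencils meet -/
theorem exists_perp_value (R : RootCore T ε H Gen) {y : B} (hy0 : y ≠ 0) {h : V ≃ₗ[F] V}
    (hh : h ∈ H) {W : Type*} [AddCommGroup W] [Module F W] [FiniteDimensional F W]
    (f : W →ₗ[F] W →ₛₗ[σ] F) (hf : ∀ x, (∀ c, f x c = 0) → x = 0) (L : V →ₗ[F] W) (ι : W → V)
    (hι : ∀ v c, T.form v (ι c) = f (L v) c) (hmeet : ∀ c, h⁻¹ (ι c) ∈ pen T y → c = 0) (w : W) :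
    ∃ e, T.C y (h⁻¹ e) = 0 ∧ L e = w := by
  have hT := R.good
  let K : Submodule F W := (LinearMap.ker (T.C y ∘ₗ ((h⁻¹ : V ≃ₗ[F] V) : V →ₗ[F] V))).map L
  suffices K = ⊤ by
    have hw : w ∈ K := by rw [this]; trivial
    obtain ⟨e, he, rfl⟩ := hw
    exact ⟨e, he, rfl⟩
  by_contra hne
  obtain ⟨χ, hχ0, hχ⟩ := Submodule.exists_le_ker_of_lt_top K (lt_of_le_of_ne le_top hne)
  obtain ⟨c, hc⟩ := exists_repr hT.invol f hf χ
  have hc0 : c ≠ 0 := fun e => hχ0 (LinearMap.ext fun x => by rw [← hc, e, map_zero, LinearMap.zero_apply])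
  refine hc0 (hmeet c (hT.mem_pen_of_C hy0 fun v hv => hT.C_eq_zero fun a => ?_))
  have h1 : h (T.tau a v) ∈ LinearMap.ker (T.C y ∘ₗ ((h⁻¹ : V ≃ₗ[F] V) : V →ₗ[F] V)) := by
    show T.C y (h⁻¹ (h (T.tau a v))) = 0
    rw [inv_apply', hT.C_tau, hv, zero_smul]
  have h2 : χ (L (h (T.tau a v))) = 0 := hχ (Submodule.mem_map_of_mem h1)
  rw [← R.isom h hh, inv_apply]
  refine hT.form_flip_zero ?_
  rw [hι, hc, h2]

/-- no meeting implies non-degenerate pairing, at a fixed pencil -/
theorem ker_zero_same (R : RootCore T ε H Gen) {y : B} (hy : T.fB y y = 0) (hy0 : y ≠ 0)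
    {h : V ≃ₗ[F] V} (hh : h ∈ H) (hnk : ¬ IsKron T h)
    (hmeet : ∀ c, h⁻¹ (T.tau c y) ∈ pen T y → c = 0) {c : A}
    (hc : T.C y (h⁻¹ (T.tau c y)) = 0) : c = 0 := by
  have hT := R.good
  obtain ⟨t, ht, htx⟩ := R.exists_tv hy
  obtain ⟨e, he, hec⟩ := R.exists_perp_value hy0 hh T.fA hT.nondegA (T.C y) (fun c => T.tau c y)
    (fun v c => hT.form_C v c y) hmeet c
  have h1 := pow_translate (t := t) (u := h * t * h⁻¹) (k := T.tau c y) (e := e)
    (by rw [htx, hec]) (by rw [htx, hT.C_tau, hy, zero_smul, map_zero, LinearMap.zero_apply, add_zero])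
    (by rw [R.root_apply hh htx, he, map_zero, LinearMap.zero_apply, map_zero, add_zero])
    (by rw [R.root_apply hh htx, hc, map_zero, LinearMap.zero_apply, map_zero, add_zero])
    (orderOf (t * (h * t * h⁻¹)))
  rw [pow_orderOf_eq_one] at h1
  change e = _ at h1
  have h2 : ((orderOf (t * (h * t * h⁻¹)) : ℕ) : F) ≠ 0 := fun e0 =>
    R.pair_odd hy hy0 hh hnk ht htx ((CharP.cast_eq_zero_iff F 2 _).1 e0)
  rw [left_eq_add, smul_eq_zero] at h1
  exact hT.tau_left_inj hy0 ((h1.resolve_left h2).trans (by simp))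

theorem ker_zero (R : RootCore T ε H Gen) {y w : B} (hy : T.fB y y = 0) (hy0 : y ≠ 0)
    (hw : T.fB w w = 0) (hw0 : w ≠ 0) {h : V ≃ₗ[F] V} (hh : h ∈ H) (hnk : ¬ IsKron T h)
    (hmeet : ∀ c, h⁻¹ (T.tau c w) ∈ pen T y → c = 0) {c : A}
    (hc : T.C y (h⁻¹ (T.tau c w)) = 0) : c = 0 := by
  obtain ⟨k, hk, f, hkf, hfy⟩ := R.trans y w hy hy0 hw hw0
  have hkK : IsKron T k := ⟨LinearMap.id, f.toLinearMap, hkf⟩
  have hki : IsKron T (k⁻¹ : V ≃ₗ[F] V) := R.kron_inv hk hkK
  have hnk' : ¬ IsKron T (k⁻¹ * h : V ≃ₗ[F] V) := fun h' => hnk (by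
    have := kron_mul hkK h'
    rwa [mul_inv_cancel_left] at this)
  have e : ∀ c, (k⁻¹ * h : V ≃ₗ[F] V)⁻¹ (T.tau c y) = h⁻¹ (T.tau c w) := fun c => by
    rw [mul_inv_rev, inv_inv, LinearEquiv.mul_apply, hkf, hfy]
  exact R.ker_zero_same hy hy0 (mul_mem (inv_mem hk) hh) hnk' (fun c hc => hmeet c (by rwa [← e]))
    (by rw [e]; exact hc)

set_option maxHeartbeats 1000000 in
/-- characteristic two, the bulk of the argument: a non-pure `h` and `x ⊗ 1` transvection `s` give an element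
`j` of `H` with `s j` a pure root element, moving the image pencil inside itself -/
theorem two_split (R : RootCore T ε H Gen) (hperp : ∀ v, ∃ w, w ≠ 0 ∧ T.fB w w = 0 ∧ T.fB w v = 0)
    (hinj : ∀ y w, T.fB y y = 0 → y ≠ 0 → T.fB w w = 0 → w ≠ 0 → ∀ {h : V ≃ₗ[F] V}, h ∈ H →
      ¬ IsKron T h → ∀ {c}, T.C w (h (T.tau c y)) = 0 → c = 0)
    {x : A} (hx0 : x ≠ 0) (hxx : T.fA x x = 0) {γ : F} (hγ : γ ≠ 0) {s : V ≃ₗ[F] V} (hsH : s ∈ H)
    (hsx : ∀ v, s v = v + γ • T.tau x (T.C' x v)) {y : B} (hy : T.fB y y = 0) (hy0 : y ≠ 0)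
    {h : V ≃ₗ[F] V} (hh : h ∈ H) (hnk : ¬ IsKron T h) :
    ∃ j ∈ H, ∃ (y' : B) (φ : B →ₗ[F] F), T.fB y' y' = 0 ∧
      (∀ a b, (s * j) (T.tau a b) = T.tau a (b + φ b • y')) ∧
      (∀ a, ∃ d, j (h (T.tau a y)) = h (T.tau a y) + h (T.tau d y)) ∧
      ¬ ∀ a, j (h (T.tau a y)) = h (T.tau a y) := by
  classical
  have hinj' : ∀ y w, T.fB y y = 0 → y ≠ 0 → T.fB w w = 0 → w ≠ 0 → ∀ {h : V ≃ₗ[F] V}, h ∈ H →
      ¬ IsKron T h → ∀ {c}, T.C y (h⁻¹ (T.tau c w)) = 0 → c = 0 := fun y w hy hy0 hw hw0 h hh hnk c hc =>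
    hinj w y hw hw0 hy hy0 (inv_mem hh) (fun h' => hnk (by
      have := R.kron_inv (inv_mem hh) h'
      rwa [inv_inv] at this)) hc
  have hT := R.good
  haveI := R.nontriv
  haveI : Finite V := Module.finite_of_finite F
  haveI : Finite (V ≃ₗ[F] V) := Finite.of_injective _ DFunLike.coe_injective
  by_contra hno
  obtain ⟨t, ht, htx⟩ := R.exists_tv hy
  have hC'x : ∀ b, T.C' x (T.tau x b) = 0 := fun b => by rw [hT.C'_tau, hxx, zero_smul]
  have hts : Commute t s := LinearEquiv.ext fun v => LinearMap.congr_fun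
    (hT.ext_tau (f := ((t * s : V ≃ₗ[F] V) : V →ₗ[F] V)) (g := ((s * t : V ≃ₗ[F] V) : V →ₗ[F] V))
      fun a b => by
        show t (s (T.tau a b)) = s (t (T.tau a b))
        simp only [hsx, htx, map_add, map_smul, LinearMap.add_apply, LinearMap.smul_apply, hT.C_tau,
          hT.C'_tau]
        module) v
  have hs2 : s * s = 1 := LinearEquiv.ext fun v => by
    show s (s v) = v
    rw [hsx, hsx, map_add (T.C' x), map_smul (T.C' x), hC'x, smul_zero, add_zero, add_assoc,
      ← two_smul F, CharTwo.two_eq_zero, zero_smul, add_zero]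
  obtain ⟨e₀, he₀, -⟩ := hT.exists_partner hy0
  -- only pure root elements commute with `s`
  have hCs : ∀ g ∈ H, Commute s (g * t * g⁻¹) → IsKron T g := by
    intro g hg hc
    by_contra hgk
    have hz : ∀ a, T.C' x (g (T.tau a y)) = 0 := by
      intro a
      obtain ⟨w, hw0, hw, hwb⟩ := hperp (T.C' x (g (T.tau a y)))
      have h1 := LinearEquiv.congr_fun hc.eq (g (T.tau a e₀))
      change s ((g * t * g⁻¹) (g (T.tau a e₀))) = (g * t * g⁻¹) (s (g (T.tau a e₀))) at h1
      rw [R.root_apply hg htx, R.root_apply hg htx, inv_apply', hT.C_tau, he₀, one_smul, map_add s,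
        add_right_inj, hsx (g (T.tau a y))] at h1
      obtain ⟨c, hc'⟩ : ∃ c, γ • T.tau x (T.C' x (g (T.tau a y))) = g (T.tau c y) :=
        ⟨T.C y (g⁻¹ (s (g (T.tau a e₀)))) - a, by
          rw [map_sub, LinearMap.sub_apply, map_sub g, ← h1, add_sub_cancel_left]⟩
      have h2 : T.C w (g (T.tau c y)) = 0 := by
        rw [← hc', map_smul, hT.C_tau, hT.B_flip_zero hwb, zero_smul, smul_zero]
      rw [hinj _ _ hy hy0 hw hw0 hg hgk h2, map_zero, LinearMap.zero_apply, map_zero,
        smul_eq_zero] at hc'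
      exact hT.tau_right_inj hx0 ((hc'.resolve_left hγ).trans (by simp))
    obtain ⟨w, hw0, hw, -⟩ := hperp y
    refine hx0 (hinj' _ _ hy hy0 hw hw0 hg hgk (hT.C_eq_zero fun a => hT.form_flip_zero ?_))
    rw [← R.isom g hg, inv_apply, hT.form_C', hz, map_zero, LinearMap.zero_apply]
  set u := h * t * h⁻¹ with hu
  have huH : u ∈ H := mul_mem (mul_mem hh ht) (inv_mem hh)
  have ht2 := R.tv_sq hy htx
  have hu2 : u * u = 1 := by
    rw [hu]
    calc h * t * h⁻¹ * (h * t * h⁻¹) = h * (t * t) * h⁻¹ := by group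
      _ = 1 := by rw [ht2]; group
  -- the order of `s u` is even
  obtain ⟨z, hz0, hzν⟩ : ∃ z, z ≠ 0 ∧ T.C y (h⁻¹ (T.tau x z)) = 0 := by
    let L : B →ₗ[F] A := T.C y ∘ₗ ((h⁻¹ : V ≃ₗ[F] V) : V →ₗ[F] V) ∘ₗ T.tau x
    obtain ⟨z, hz, hz0⟩ : ∃ z ∈ LinearMap.ker L, z ≠ 0 := by
      refine Submodule.exists_mem_ne_zero_of_ne_bot fun h0 => ?_
      have := LinearMap.finrank_le_finrank_of_injective (LinearMap.ker_eq_bot.1 h0)
      have := R.lt.resolve_right fun e => e.1 CharTwo.two_eq_zero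
      omega
    exact ⟨z, hz0, hz⟩
  obtain ⟨e, he, hez⟩ := R.exists_perp_value hy0 hh T.fB hT.nondegB (T.C' x) (fun b => T.tau x b)
    (fun v b => hT.form_C' v x b)
    (fun b hb => by
      obtain ⟨a, ha⟩ := hb
      rw [LinearMap.flip_apply] at ha
      obtain ⟨w, hw0, hw, hwb⟩ := hperp b
      have h1 : h (T.tau a y) = T.tau x b := by rw [ha, inv_apply]
      have h2 : T.C w (h (T.tau a y)) = 0 := by
        rw [h1, hT.C_tau, hT.B_flip_zero hwb, zero_smul]
      rw [hinj _ _ hy hy0 hw hw0 hh hnk h2, map_zero, LinearMap.zero_apply, map_zero] at h1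
      exact hT.tau_right_inj hx0 (h1.symm.trans (by simp))) z
  have heven : 2 ∣ orderOf (s * u) := by
    have h1 := pow_translate (t := s) (u := u) (k := γ • T.tau x z) (e := e)
      (by rw [hsx, hez]) (by rw [map_smul s, hsx, hC'x, map_zero, smul_zero, add_zero])
      (by rw [R.root_apply hh htx, he, map_zero, LinearMap.zero_apply, map_zero, add_zero])
      (by rw [map_smul u, R.root_apply hh htx, hzν, map_zero, LinearMap.zero_apply, map_zero, add_zero])
      (orderOf (s * u))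
    rw [pow_orderOf_eq_one] at h1
    change e = _ at h1
    rw [left_eq_add, smul_eq_zero, CharP.cast_eq_zero_iff F 2] at h1
    refine h1.resolve_right fun h0 => hz0 (hT.tau_right_inj hx0 ?_)
    simpa [smul_eq_zero, hγ] using h0
  obtain ⟨l, hl⟩ := heven
  have hl0 : 0 < l := by
    have := orderOf_pos (s * u); omega
  obtain ⟨hj1, hjs, hju, hswap⟩ := invol_central hs2 hu2 hl hl0
  set j := (s * u) ^ l with hjdef
  have hjH : j ∈ H := pow_mem (mul_mem hsH huH) l
  have hj2 : ∀ v, j (j v) = v := fun v => by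
    have h1 : j * j = 1 := by rw [hjdef, ← pow_add, ← two_mul, ← hl, pow_orderOf_eq_one]
    exact LinearEquiv.congr_fun h1 v
  have hjK : IsKron T j := by
    refine hCs j hjH ?_
    exact (hjs.mul_right hts.symm).mul_right hjs.inv_right
  -- `j` fixes the image pencil pointwise
  have hjU : ∀ a, j (h (T.tau a y)) = h (T.tau a y) := by
    rcases Nat.even_or_odd' l with ⟨i, hi | hi⟩
    · -- `u j` is a conjugate of `u`
      have h1 := (dihedral_refl hu2 hs2 i).1
      rw [← hi, hswap] at h1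
      set g := (s * u) ^ i with hg
      set k := h⁻¹ * g * h with hk
      have hkH : k ∈ H := mul_mem (mul_mem (inv_mem hh) (pow_mem (mul_mem hsH huH) i)) hh
      have hr : k * t * k⁻¹ = h⁻¹ * (u * j) * h := by rw [h1, hu, hk]; group
      have hc : Commute t (k * t * k⁻¹) := by
        rw [hr]
        show t * (h⁻¹ * (u * j) * h) = h⁻¹ * (u * j) * h * t
        have e1 : u * (u * j) = u * j * u := by
          rw [mul_assoc u j u, ← hju.eq, ← mul_assoc u u]
        calc t * (h⁻¹ * (u * j) * h) = h⁻¹ * (u * (u * j)) * h := by rw [hu]; group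
          _ = h⁻¹ * (u * j * u) * h := by rw [e1]
          _ = _ := by rw [hu]; group
      obtain ⟨y', φ, hy', -, hrp⟩ := R.root_pure hy hy0 hkH htx (R.kron_of_commute hy hy0 hkH ht htx hc)
      obtain ⟨a₀, ha₀⟩ := exists_ne (0 : A)
      have hφy : φ y = 0 := by
        by_contra hne
        have hy'0 : y' ≠ 0 ∨ y' = 0 := (ne_or_eq y' 0)
        have horth : T.fB y' y = 0 := by
          have h2 := LinearEquiv.congr_fun hc.eq (T.tau a₀ y)
          change t ((k * t * k⁻¹) _) = (k * t * k⁻¹) (t _) at h2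
          rw [hrp, htx, htx, hT.C_tau, hT.C_tau, hy, zero_smul, map_zero, LinearMap.zero_apply, add_zero,
            hrp, add_eq_left] at h2
          simp only [map_add, map_smul, LinearMap.add_apply, LinearMap.smul_apply, hy, zero_add,
            smul_eq_mul, smul_eq_zero, mul_eq_zero] at h2
          rcases h2 with h2 | h2
          · exact h2.resolve_left hne
          · exact absurd (hT.tau_left_inj hy0 (h2.trans (by simp))) ha₀
        obtain ⟨b', hb'⟩ : ∃ b', T.fB y' b' ≠ 0 ∨ y' = 0 := by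
          by_cases h0 : y' = 0
          · exact ⟨0, Or.inr h0⟩
          · by_contra hall
            simp only [not_exists, not_or, not_not] at hall
            exact h0 (hT.nondegB y' fun b => (hall b).1)
        obtain ⟨a', ha'⟩ : ∃ a', T.fA a₀ a' ≠ 0 := by
          by_contra hall
          simp only [not_exists, not_not] at hall
          exact ha₀ (hT.nondegA _ hall)
        rcases hb' with hb' | hb'
        · have h2 := R.isom _ (mul_mem (mul_mem hkH ht) (inv_mem hkH)) (T.tau a₀ y) (T.tau a' b')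
          rw [hrp, hrp, hT.form_tau, hT.form_tau] at h2
          have h3 := mul_left_cancel₀ ha' h2
          simp only [map_add, map_smul, map_smulₛₗ, LinearMap.add_apply, LinearMap.smul_apply, smul_eq_mul,
            hy', hT.B_flip_zero horth, mul_zero, add_zero, RingHom.id_apply] at h3
          exact hb' ((mul_eq_zero.1 (add_eq_left.1 h3)).resolve_left hne)
        · have h4 : k * t * k⁻¹ = 1 := LinearEquiv.ext fun v => LinearMap.congr_fun
            (hT.ext_tau (f := ((k * t * k⁻¹ : V ≃ₗ[F] V) : V →ₗ[F] V)) (g := LinearMap.id) fun a b => by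
              show (k * t * k⁻¹) (T.tau a b) = _
              rw [hrp, hb', smul_zero, add_zero]; rfl) v
          have h5 : t = 1 := by
            calc t = k⁻¹ * (k * t * k⁻¹) * k := by group
              _ = 1 := by rw [h4]; group
          have h6 := htx (T.tau a₀ e₀)
          rw [h5, hT.C_tau, he₀, one_smul] at h6
          exact ha₀ (hT.tau_left_inj hy0 ((left_eq_add.1 h6).trans (by simp)))
      intro a
      have h7 : j (h (T.tau a y)) = u ((u * j) (h (T.tau a y))) := by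
        show _ = u (u (j (h (T.tau a y))))
        exact (LinearEquiv.congr_fun hu2 _).symm
      have h8 : (u * j) (h (T.tau a y)) = h ((k * t * k⁻¹) (T.tau a y)) := by
        rw [hr]
        show _ = h (h⁻¹ ((u * j) (h (T.tau a y))))
        rw [inv_apply]
      rw [h7, h8, hrp, hφy, zero_smul, add_zero, hu, R.root_apply hh htx, inv_apply', hT.C_tau, hy,
        zero_smul, map_zero, LinearMap.zero_apply, map_zero, add_zero]
    · -- `s j` is a conjugate of `u`
      have h1 := (dihedral_refl hs2 hu2 i).2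
      rw [← hi, ← hjdef] at h1
      set g := (u * s) ^ i * h with hg
      have hgH : g ∈ H := mul_mem (pow_mem (mul_mem huH hsH) i) hh
      have hr : g * t * g⁻¹ = s * j := by rw [h1, hg, hu]; group
      have hgK : IsKron T g := hCs g hgH (by rw [hr]; exact (Commute.refl s).mul_right hjs)
      obtain ⟨y', φ, hy'', -, hrp⟩ := R.root_pure hy hy0 hgH htx hgK
      rw [hr] at hrp
      have hrpen : ∀ v, (s * j) v - v ∈ pen T y' := fun v =>
        hT.induction (p := fun v => (s * j) v - v ∈ pen T y') (by simp)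
          (fun v v' hv hv' => by
            have := add_mem hv hv'
            rwa [← add_sub_add_comm, ← map_add] at this)
          (fun a b => ⟨φ b • a, by rw [hrp]; simp⟩) v
      by_contra hne
      refine hno ⟨j, hjH, y', φ, hy'', hrp, fun a => ?_, hne⟩
      -- the difference is in the image pencil
      obtain ⟨d, hd⟩ : ∃ d, j (h (T.tau a y)) - h (T.tau a y) = h (T.tau d y) := by
        have h2 := LinearEquiv.congr_fun hju.eq (h (T.tau a e₀))
        change u (j (h (T.tau a e₀))) = j (u (h (T.tau a e₀))) at h2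
        rw [hu, R.root_apply hh htx, R.root_apply hh htx, inv_apply', hT.C_tau, he₀, one_smul,
          map_add j, add_right_inj] at h2
        exact ⟨T.C y (h⁻¹ (j (h (T.tau a e₀)))) - a, by
          rw [map_sub, LinearMap.sub_apply, map_sub h, h2]⟩
      exact ⟨d, eq_add_of_sub_eq' hd⟩
  -- `j` is pure, fixes the pencil `x ⊗ B`
  obtain ⟨M, f, hMf⟩ := hjK
  obtain ⟨a₁, ha₁⟩ : ∃ a, T.fA a x = 1 := by
    obtain ⟨c, hc⟩ : ∃ c, T.fA c x ≠ 0 := by
      by_contra hall
      simp only [not_exists, not_not] at hall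
      exact hx0 (hT.nondegA x fun c => hT.A_flip_zero (hall c))
    exact ⟨(T.fA c x)⁻¹ • c, by rw [map_smul, LinearMap.smul_apply, smul_eq_mul, inv_mul_cancel₀ hc]⟩
  have hfinj : Function.Injective f := fun b b' e => hT.tau_right_inj hx0 (j.injective (by
    show j (T.tau x b) = j (T.tau x b')
    rw [hMf, hMf, e]))
  have hcomm : ∀ a b, T.fA a x • T.tau (M x) (f b) = T.fA (M a) x • T.tau x (f b) := by
    intro a b
    have h2 := LinearEquiv.congr_fun hjs.eq (T.tau a b)
    change s (j (T.tau a b)) = j (s (T.tau a b)) at h2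
    rw [hMf, hsx, hsx, hT.C'_tau, hT.C'_tau, map_add j, hMf, map_smul j, map_smul (T.tau x),
      map_smul (T.tau x), map_smul j, hMf, add_right_inj] at h2
    exact (smul_right_injective V hγ h2).symm
  obtain ⟨b₁, hb₁⟩ : ∃ b, f b ≠ 0 := ⟨y, fun e => hy0 (hfinj (e.trans (map_zero f).symm))⟩
  have hMx : M x = T.fA (M a₁) x • x := hT.tau_left_inj hb₁ (by
    have := hcomm a₁ b₁
    rw [ha₁, one_smul] at this
    show T.tau (M x) (f b₁) = T.tau (T.fA (M a₁) x • x) (f b₁)
    rw [this, map_smul, LinearMap.smul_apply])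
  set ξ := T.fA (M a₁) x with hξ
  have hξ0 : ξ ≠ 0 := fun e => by
    have h2 : j (T.tau x y) = 0 := by rw [hMf, hMx, e, zero_smul, map_zero, LinearMap.zero_apply]
    rw [LinearEquiv.map_eq_zero_iff, ← map_zero (T.tau x)] at h2
    exact hy0 (hT.tau_right_inj hx0 h2)
  obtain ⟨M, f, hMf, hMx, hMa₁⟩ : ∃ (M : A →ₗ[F] A) (f : B →ₗ[F] B),
      (∀ a b, j (T.tau a b) = T.tau (M a) (f b)) ∧ M x = x ∧ T.fA (M a₁) x = 1 :=
    ⟨ξ⁻¹ • M, ξ • f, fun a b => by simp [hMf, smul_smul, mul_inv_cancel₀ hξ0, inv_mul_cancel₀ hξ0],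
      by simp [hMx, smul_smul, inv_mul_cancel₀ hξ0],
      by simp [← hξ, inv_mul_cancel₀ hξ0]⟩
  have hf2 : ∀ b, f (f b) = b := fun b => hT.tau_right_inj hx0 (by
    show T.tau x (f (f b)) = T.tau x b
    conv_rhs => rw [← hj2 (T.tau x b)]
    rw [hMf, hMf, hMx, hMx])
  have hfiso : ∀ b b', T.fB (f b) (f b') = T.fB b b' := fun b b' => by
    have h2 := R.isom j hjH (T.tau a₁ b) (T.tau x b')
    rw [hMf, hMf, hMx, hT.form_tau, hT.form_tau, hMa₁, ha₁, one_mul, one_mul] at h2
    exact h2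
  obtain ⟨w, hw0, hw, hfw⟩ : ∃ w, w ≠ 0 ∧ T.fB w w = 0 ∧ f w = w := by
    by_cases hf : ∃ b, f b ≠ b
    · obtain ⟨b, hb⟩ := hf
      refine ⟨f b - b, sub_ne_zero.2 hb, ?_, ?_⟩
      · have h2 : T.fB (f b) b = T.fB b (f b) := by
          have h3 := hfiso b (f b)
          rw [hf2] at h3
          exact h3
        simp only [map_sub, LinearMap.sub_apply, hfiso, h2]
        rw [show T.fB b b - T.fB b (f b) - (T.fB b (f b) - T.fB b b) =
          (2 : F) * (T.fB b b - T.fB b (f b)) by ring, CharTwo.two_eq_zero, zero_mul]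
      · rw [map_sub, hf2, ← neg_sub (f b) b]
        exact (eq_neg_of_add_eq_zero_left (by rw [← two_smul F, CharTwo.two_eq_zero, zero_smul])).symm
    · simp only [not_exists, not_not] at hf
      exact ⟨y, hy0, hy, hf y⟩
  have hM1 : ∀ a, M a = a := by
    intro a
    refine sub_eq_zero.1 (hinj' _ _ hy hy0 hw hw0 hh hnk (hT.C_eq_zero fun c => hT.form_flip_zero ?_))
    rw [← R.isom h hh, inv_apply, map_sub (T.tau), LinearMap.sub_apply, map_sub, sub_eq_zero]
    have h2 := R.isom j hjH (h (T.tau c y)) (T.tau a w)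
    rwa [hjU, hMf, hfw] at h2
  obtain ⟨b, hb⟩ : ∃ b, f b ≠ b := by
    by_contra hall
    simp only [not_exists, not_not] at hall
    exact hj1 (LinearEquiv.ext fun v => LinearMap.congr_fun
      (hT.ext_tau (f := (j : V →ₗ[F] V)) (g := LinearMap.id) fun a b => by
        show j (T.tau a b) = _
        rw [hMf, hM1, hall]; rfl) v)
  have hfb : T.fB (f b - b) (f b - b) = 0 := by
    have h2 : T.fB (f b) b = T.fB b (f b) := by
      have h3 := hfiso b (f b)
      rw [hf2] at h3
      exact h3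
    simp only [map_sub, LinearMap.sub_apply, hfiso, h2]
    rw [show T.fB b b - T.fB b (f b) - (T.fB b (f b) - T.fB b b) =
      (2 : F) * (T.fB b b - T.fB b (f b)) by ring, CharTwo.two_eq_zero, zero_mul]
  obtain ⟨a₀, ha₀⟩ := exists_ne (0 : A)
  refine ha₀ (hinj' _ _ hy hy0 hfb (sub_ne_zero.2 hb) hh hnk (hT.C_eq_zero fun c =>
    hT.form_flip_zero ?_))
  rw [← R.isom h hh, inv_apply]
  have h2 := R.isom j hjH (h (T.tau c y)) (T.tau a₀ b)
  rw [hjU, hMf, hM1] at h2
  rw [map_sub (T.tau a₀), map_sub, h2, sub_self]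


end RootCore

namespace RootHyp

variable {T : Sys F A B V σ} {ε : F} {H : Subgroup (V ≃ₗ[F] V)} {Gen : Set (A ≃ₗ[F] A)}
variable [Finite F] [FiniteDimensional F A] [FiniteDimensional F B] [FiniteDimensional F V]
variable [CharP F 2]

theorem isoSpan_top (R : RootHyp T ε H Gen) :
    Submodule.span F {w | T.fB w w = 0} = ⊤ := by
  have hT := R.good
  obtain ⟨z, hz0, hz⟩ := R.isoVec
  obtain ⟨e, he, he'⟩ := hT.exists_partner hz0
  obtain ⟨z', hz'0, hz', hz'e, -⟩ := R.perp2 e e
  have hle : ∀ z, T.fB z z = 0 → z ≠ 0 → ∀ v, T.fB v z = 0 → v ∈ Submodule.span F {w | T.fB w w = 0} :=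
    fun z hz hz0 v hv => Submodule.span_mono (fun w hw => hw.1) (R.isoSpan z hz hz0 v hv)
  -- a vector orthogonal to `z'` but not to `z`
  obtain ⟨d, hd, hd'⟩ : ∃ d, T.fB d z ≠ 0 ∧ d ∈ Submodule.span F {w | T.fB w w = 0} :=
    ⟨e, by rw [he]; exact one_ne_zero, hle z' hz' hz'0 e (hT.B_flip_zero hz'e)⟩
  refine eq_top_iff.2 fun v _ => ?_
  have h1 := hle z hz hz0 (v - (T.fB v z / T.fB d z) • d)
    (by rw [map_sub, map_smul, LinearMap.sub_apply, LinearMap.smul_apply, smul_eq_mul,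
      div_mul_cancel₀ _ hd, sub_self])
  have := add_mem h1 (Submodule.smul_mem _ (T.fB v z / T.fB d z) hd')
  rwa [sub_add_cancel] at this

/-- the image of a pencil meets no pencil -/
theorem not_meet (R : RootHyp T ε H Gen) {y w : B} (hy : T.fB y y = 0) (hy0 : y ≠ 0)
    (hw : T.fB w w = 0) (hw0 : w ≠ 0) {h : V ≃ₗ[F] V} (hh : h ∈ H) (hnk : ¬ IsKron T h)
    {c : A} (hc : h⁻¹ (T.tau c w) ∈ pen T y) : c = 0 := by
  classical
  have hT := R.good
  by_contra hc0
  let P : B → Prop := fun w => ∃ c, c ≠ 0 ∧ h⁻¹ (T.tau c w) ∈ pen T y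
  have step : ∀ w w', w ≠ 0 → P w → T.fB w' w' = 0 → w' ≠ 0 → T.fB w' w = 0 → P w' := by
    intro w w' hwne hP hw' hw'0 horth
    obtain ⟨c, hc0, a₁, ha₁⟩ := hP
    by_contra hP'
    have hmeet : ∀ d, h⁻¹ (T.tau d w') ∈ pen T y → d = 0 := fun d hd =>
      Classical.byContradiction fun hd0 => hP' ⟨d, hd0, hd⟩
    let L : A →ₗ[F] A := T.C y ∘ₗ ((h⁻¹ : V ≃ₗ[F] V) : V →ₗ[F] V) ∘ₗ T.tau.flip w'
    have hinj : Function.Injective L := by
      rw [← LinearMap.ker_eq_bot, LinearMap.ker_eq_bot']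
      exact fun d hd => R.core.ker_zero hy hy0 hw' hw'0 hh hnk hmeet hd
    have ha₁0 : a₁ ≠ 0 := by
      rintro rfl
      rw [map_zero, eq_comm, LinearEquiv.map_eq_zero_iff, ← map_zero (T.tau.flip w)] at ha₁
      exact hc0 (hT.tau_left_inj hwne ha₁)
    refine ha₁0 (hT.nondegA a₁ fun q => ?_)
    obtain ⟨d, rfl⟩ := LinearMap.injective_iff_surjective.1 hinj q
    refine hT.A_flip_zero ?_
    show T.fA (T.C y (h⁻¹ (T.tau d w'))) a₁ = 0
    rw [← hT.form_C]
    change T.form (h⁻¹ (T.tau d w')) (T.tau.flip y a₁) = 0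
    rw [ha₁, R.isom _ (inv_mem hh), hT.form_tau, horth, mul_zero]
  have hall : ∀ v, T.fB v v = 0 → v ≠ 0 → P v := by
    intro v hv hv0
    obtain ⟨m, hm0, hm, hmw, hmv⟩ := R.perp2 w v
    exact step m v hm0 (step w m hw0 ⟨c, hc0, hc⟩ hm hm0 hmw) hv hv0 (hT.B_flip_zero hmv)
  obtain ⟨S, hS, hspan, hli⟩ := exists_linearIndependent F {w : B | T.fB w w = 0}
  rw [R.isoSpan_top] at hspan
  let bs : Basis S F B := Basis.mk hli (by rw [Subtype.range_coe]; exact hspan.ge)
  haveI : Fintype S := FiniteDimensional.fintypeBasisIndex bs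
  choose g hg0 hg using fun i : S => hall (bs i) (by rw [Basis.mk_apply]; exact hS i.2) (bs.ne_zero i)
  choose g' hg' using hg
  have hg'' : ∀ i, h⁻¹ (T.tau (g i) (bs i)) = T.tau (g' i) y := fun i => (hg' i).symm
  have hind : LinearIndependent F g' := by
    rw [Fintype.linearIndependent_iff]
    intro r hr i
    have h1 : h⁻¹ (∑ j, r j • T.tau (g j) (bs j)) = 0 := by
      rw [map_sum]
      simp only [map_smul, hg'']
      rw [← map_zero (T.tau.flip y), ← hr]
      simp [map_sum]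
    rw [LinearEquiv.map_eq_zero_iff] at h1
    obtain ⟨w, hw⟩ := exists_repr hT.invol T.fB hT.nondegB (bs.coord i)
    have h2 := congrArg (T.C w) h1
    simp only [map_sum, map_smul, hT.C_tau, hw, Basis.coord_apply, Basis.repr_self, Finsupp.single_apply,
      ite_smul, smul_ite, one_smul, zero_smul, smul_zero, Finset.sum_ite_eq', Finset.mem_univ, if_true,
      map_zero] at h2
    exact (smul_eq_zero.1 h2).resolve_right (hg0 i)
  have := hind.fintype_card_le_finrank
  rw [← Module.finrank_eq_card_basis bs] at this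
  have := R.lt.resolve_right fun e => e.1 CharTwo.two_eq_zero
  omega

theorem pairing_inj (R : RootHyp T ε H Gen) {y w : B} (hy : T.fB y y = 0) (hy0 : y ≠ 0)
    (hw : T.fB w w = 0) (hw0 : w ≠ 0) {h : V ≃ₗ[F] V} (hh : h ∈ H) (hnk : ¬ IsKron T h) {c : A}
    (hc : T.C y (h⁻¹ (T.tau c w)) = 0) : c = 0 :=
  R.core.ker_zero hy hy0 hw hw0 hh hnk (fun _ hd => R.not_meet hy hy0 hw hw0 hh hnk hd) hc

theorem pairing_inj' (R : RootHyp T ε H Gen) {y w : B} (hy : T.fB y y = 0) (hy0 : y ≠ 0)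
    (hw : T.fB w w = 0) (hw0 : w ≠ 0) {h : V ≃ₗ[F] V} (hh : h ∈ H) (hnk : ¬ IsKron T h) {c : A}
    (hc : T.C w (h (T.tau c y)) = 0) : c = 0 := by
  refine R.pairing_inj hw hw0 hy hy0 (inv_mem hh) (fun h' => hnk ?_) (by rwa [inv_inv])
  have := R.core.kron_inv (inv_mem hh) h'
  rwa [inv_inv] at this

set_option maxHeartbeats 1000000 in
/-- characteristic two: all of `H` is pure -/
theorem kron_two (R : RootHyp T ε H Gen) {x : A} (hx0 : x ≠ 0) (hxx : T.fA x x = 0) {γ : F}
    (hγ : γ ≠ 0) (hs : InH H fun v => v + γ • T.tau x (T.C' x v))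
    {h : V ≃ₗ[F] V} (hh : h ∈ H) : IsKron T h := by
  classical
  by_contra hnk
  have hT := R.good
  haveI := R.nontriv
  obtain ⟨y, hy0, hy⟩ := R.isoVec
  obtain ⟨s, hsH, hsx⟩ := hs
  replace hsx : ∀ v, s v = v + γ • T.tau x (T.C' x v) := hsx
  have hC'x : ∀ b, T.C' x (T.tau x b) = 0 := fun b => by rw [hT.C'_tau, hxx, zero_smul]
  have hs2 : s * s = 1 := LinearEquiv.ext fun v => by
    show s (s v) = v
    rw [hsx, hsx, map_add (T.C' x), map_smul (T.C' x), hC'x, smul_zero, add_zero, add_assoc,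
      ← two_smul F, CharTwo.two_eq_zero, zero_smul, add_zero]
  obtain ⟨j, -, y', φ, -, hrp, hd, hne⟩ := R.core.two_split
    (fun v => (R.perp2 v v).imp fun w hw => ⟨hw.1, hw.2.1, hw.2.2.1⟩)
    (fun y w hy hy0 hw hw0 h hh hnk c hc => R.pairing_inj' hy hy0 hw hw0 hh hnk hc)
    hx0 hxx hγ hsH hsx hy hy0 hh hnk
  have hrpen : ∀ v, (s * j) v - v ∈ pen T y' := fun v =>
    hT.induction (p := fun v => (s * j) v - v ∈ pen T y') (by simp)
      (fun v v' hv hv' => by
        have := add_mem hv hv'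
        rwa [← add_sub_add_comm, ← map_add] at this)
      (fun a b => ⟨φ b • a, by rw [hrp]; simp⟩) v
  refine hne fun a => ?_
  obtain ⟨c, hc⟩ := hrpen (h (T.tau a y))
  rw [LinearMap.flip_apply] at hc
  have e1 : j (h (T.tau a y)) = s ((s * j) (h (T.tau a y))) := (LinearEquiv.congr_fun hs2 _).symm
  obtain ⟨w, hw0, hw, hwy', hwb⟩ := R.perp2 y' (T.C' x ((s * j) (h (T.tau a y))))
  obtain ⟨d, hd⟩ := hd a
  replace hd := sub_eq_of_eq_add' hd
  have h3 : T.C w (h (T.tau d y)) = 0 := by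
    rw [← hd, e1, hsx, add_sub_right_comm, map_add, ← hc, hT.C_tau, map_smul, hT.C_tau,
      hT.B_flip_zero hwy', hT.B_flip_zero hwb, zero_smul, zero_smul, smul_zero, add_zero]
  rw [R.pairing_inj' hy hy0 hw hw0 hh hnk h3, map_zero, LinearMap.zero_apply, map_zero,
    sub_eq_zero] at hd
  exact hd

end RootHyp

end CfsgLib.MaxSub.TForm
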