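import Cfsg.Agent.Lib.MaxSub.TFormSSAlg
import Cfsg.Agent.Lib.MaxSub.TFormOdd
import Cfsg.Agent.Lib.MaxSub.TFormTwo

/-!
Symplectic ⊗ symplectic: an overgroup without long root elements at pure lines consists of pure maps.
-/

set_option autoImplicit false
set_option linter.unusedSectionVars false
set_option linter.unusedSimpArgs false
set_option linter.unusedVariables false
set_option linter.style.haveILetI false

namespace CfsgLib.MaxSub.TForm

open Module

variable {F A B V : Type*} [Field F] [AddCommGroup A] [Module F A] [AddCommGroup B] [Module F B]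
  [AddCommGroup V] [Module F V]

/-- transvections of `A` -/
def TvGen (T : Sys F A B V (RingHom.id F)) : Set (A ≃ₗ[F] A) :=
  {g | ∃ (c : F) (p : A), ∀ a, g a = altTv T.fA c p a}

namespace SSData

variable {T : Sys F A B V (RingHom.id F)} {Q : V → F} {H : Subgroup (V ≃ₗ[F] V)}
variable [Finite F] [FiniteDimensional F A] [FiniteDimensional F B]

/-- frames are self-adjoint -/
theorem frame_alt (D : SSData T Q H) {z : B} (hz0 : z ≠ 0) {X : A →ₗ[F] A} (hX : InH H (fMap T z X)) :
    (∀ a, T.fA (X a) a = 0) ∧ ∀ u w, T.fA (X u) w = T.fA u (X w) := by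
  obtain ⟨g, hg, hgx⟩ := hX
  obtain ⟨e, he, -⟩ := D.good.exists_partner hz0
  have halt : ∀ a, T.fA (X a) a = 0 := fun a => by
    have h := D.isom g hg (T.tau a e)
    rw [hgx, fMap, D.good.C_tau, he, one_smul, D.q_add, D.q_tau, D.q_tau, zero_add, zero_add,
      D.good.form_tau, he, mul_one] at h
    rw [D.swapA, h, neg_zero]
  refine ⟨halt, fun u w => ?_⟩
  have h := halt (u + w)
  simp only [map_add, LinearMap.add_apply, halt, zero_add, add_zero] at h
  rw [D.swapA (X w) u]
  linear_combination h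

theorem frame_scalar (D : SSData T Q H) (hno : NoRoot T H) {z : B} (hz0 : z ≠ 0) {X : A →ₗ[F] A}
    (hX : InH H (fMap T z X)) : ∃ k : F, ∀ a, X a = k • a := by
  obtain ⟨halt, hadj⟩ := D.frame_alt hz0 hX
  obtain ⟨d, hd, hzd⟩ := D.exists_pair hz0
  have hdz : T.fB d z = 0 := D.good.B_flip_zero hzd
  have hall : ∀ w : B, w ≠ 0 → InH H (fMap T w X) := fun w hw =>
    trans_induction T.fB D.altB D.good.nondegB (P := fun w => InH H (fMap T w X))
      (fun c s _ hP => D.fMap_conjB hP c s) hz0 hw hX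
  have hneg : ∀ w : B, w ≠ 0 → InH H (fMap T w (-X)) := fun w hw => by
    obtain ⟨g, hg, hgx⟩ := hall w hw
    refine ⟨g⁻¹, inv_mem hg, fun x => g.injective ?_⟩
    rw [ap_inv, hgx]
    simp [fMap, D.good.C_tau, D.altB]
  obtain ⟨hd0, -⟩ := not_mem_span_symm hz0 hd
  have hzd0 : z + d ≠ 0 := fun e => hd (by
    rw [eq_neg_of_add_eq_zero_right e]
    exact Submodule.neg_mem _ (Submodule.mem_span_singleton_self z))
  refine D.alg_eq_scalar hno (D.alg_of_one hadj hz0 hd hzd
    (((hall _ hzd0).comp ((hneg z hz0).comp (hneg d hd0))).congr fun x => ?_))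
  simp only [eMap, fMap, D.good.C_add, LinearMap.add_apply, LinearMap.neg_apply, map_add, map_neg,
    D.good.C_tau, D.altB, hzd, hdz, zero_smul, map_zero, LinearMap.zero_apply, neg_zero, add_zero]
  abel

theorem q_scalar (D : SSData T Q H) (hno : NoRoot T H) {q : V ≃ₗ[F] V} (hq : q ∈ H) {z : B}
    (hz0 : z ≠ 0) (hqz : ∀ a, q (T.tau a z) = T.tau a z)
    (hQ : ∀ x, T.C z x = 0 → ∃ b, q x = x + T.tau b z) {w : B} (hwz : T.fB w z = 0) :
    ∃ k : F, ∀ a, q (T.tau a w) = T.tau a w + k • T.tau a z := by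
  have hT := D.good
  have hzw : T.fB z w = 0 := hT.B_flip_zero hwz
  by_cases hsp : w ∈ Submodule.span F ({z} : Set B)
  · obtain ⟨l, rfl⟩ := Submodule.mem_span_singleton.1 hsp
    exact ⟨0, fun a => by simp [hqz]⟩
  obtain ⟨e, he, he'⟩ := hT.exists_partner hz0
  let L : A →ₗ[F] A := -(T.C e ∘ₗ ((q : V →ₗ[F] V) ∘ₗ T.tau.flip w - T.tau.flip w))
  have hL : ∀ a, q (T.tau a w) = T.tau a w + T.tau (L a) z := by
    intro a
    obtain ⟨b, hb⟩ := hQ (T.tau a w) (by rw [hT.C_tau, hwz, zero_smul])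
    have : L a = b := by
      show -(T.C e (q (T.tau a w) - T.tau a w)) = b
      rw [hb, add_sub_cancel_left, hT.C_tau, he']; simp
    rw [this, hb]
  let L' : A →ₗ[F] A :=
    T.C w ∘ₗ ((q⁻¹ : V ≃ₗ[F] V) : V →ₗ[F] V) ∘ₗ T.tau.flip e - T.C w ∘ₗ T.tau.flip e
  have qi : ∀ x, q (q⁻¹ x) = x := fun x => ap_inv q x
  have hCz : ∀ x, T.C z (q⁻¹ x) = T.C z x := fun x => sub_eq_zero.1 (hT.nondegA _ fun a => by
    rw [map_sub, LinearMap.sub_apply, ← hT.form_C, ← hT.form_C, ← D.formH hq, qi, hqz, sub_self])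
  have hCw : ∀ x a, T.fA (T.C w (q⁻¹ x) - T.C w x) a = T.fA (T.C z x) (L a) := fun x a => by
    rw [map_sub, LinearMap.sub_apply, ← hT.form_C, ← hT.form_C, ← D.formH hq, qi, hL, map_add,
      hT.form_C x (L a) z, add_sub_cancel_left]
  have hL' : ∀ c a, T.fA (L' c) a = T.fA c (L a) := fun c a => by
    have h1 := hCw (T.tau c e) a
    rw [hT.C_tau z c e, he, one_smul] at h1
    exact h1
  have hCw' : ∀ x, T.C w (q⁻¹ x) = T.C w x + L' (T.C z x) := fun x => by
    rw [← sub_eq_iff_eq_add']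
    refine sub_eq_zero.1 (hT.nondegA _ fun a => ?_)
    rw [map_sub, LinearMap.sub_apply, hCw, hL', sub_self]
  -- the commutator with the transvection at `w`
  obtain ⟨t, ht, htx⟩ := D.tvB w 1
  replace htx : ∀ x, t x = x + T.tau (T.C w x) w := fun x => (htx x).trans (by simp)
  set s := q * t * q⁻¹ * t⁻¹ with hsdef
  have hsH : s ∈ H := mul_mem (mul_mem (mul_mem hq ht) (inv_mem hq)) (inv_mem ht)
  have hs : ∀ x, s x = x + T.tau (L' (T.C z x)) w + T.tau (L (T.C w x)) z +
      T.tau (L (L' (T.C z x))) z := by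
    intro x
    obtain ⟨x, rfl⟩ := t.surjective x
    show q (t (q⁻¹ (t⁻¹ (t x)))) = _
    rw [inv_ap, htx (q⁻¹ x), map_add, qi, hL, hCw', htx]
    simp only [map_add, LinearMap.add_apply, hT.C_tau, hzw, hwz, D.altB, zero_smul, map_zero,
      LinearMap.zero_apply, add_zero]
    abel
  -- the commutator with an Eichler element
  obtain ⟨d, d', hdz, hdw, hd'z, hd'w, h1⟩ := exists_perp_pair T.fB D.altB hT.nondegB
    (by have := D.dimB; omega) z w
  obtain ⟨y, hyz, hwy⟩ := exists_seen T.fB D.altB hT.nondegB hz0 hsp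
  set y' := (T.fB w y)⁻¹ • y with hy'
  have hy'z : T.fB y' z = 0 := by simp [hy', hyz]
  have hwy' : T.fB w y' = 1 := by rw [hy', map_smul, smul_eq_mul, inv_mul_cancel₀ hwy]
  set x₀ := d - T.fB d y' • w with hx₀def
  have hzy' : T.fB z y' = 0 := hT.B_flip_zero hy'z
  have hzx : T.fB z x₀ = 0 := by simp [hx₀def, hT.B_flip_zero hdz, hzw]
  have hwx : T.fB w x₀ = 0 := by simp [hx₀def, hT.B_flip_zero hdw, D.altB]
  have hx₀y : T.fB x₀ y' = 0 := by simp [hx₀def, hwy']
  have hy'x₀ : T.fB y' x₀ = 0 := hT.B_flip_zero hx₀y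
  have hx₀z : T.fB x₀ z = 0 := hT.B_flip_zero hzx
  have hx₀w : T.fB x₀ w = 0 := hT.B_flip_zero hwx
  have hy'w : T.fB y' w = -1 := by rw [D.swapB w y', hwy']
  have hx₀sp : x₀ ∉ Submodule.span F ({z} : Set B) := fun hh => by
    obtain ⟨k, hk⟩ := Submodule.mem_span_singleton.1 hh
    have h2 := congrArg (T.fB d') hk
    simp [hx₀def, hd'z, hd'w, h1] at h2
  have hy'0 : y' ≠ 0 := fun h => by simp [h] at hwy'
  have hxy' : x₀ ∉ Submodule.span F ({y'} : Set B) := fun hh => by
    obtain ⟨k, hk⟩ := Submodule.mem_span_singleton.1 hh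
    have h2 := congrArg (T.fB w) hk
    simp [hwx, hwy'] at h2
    rw [h2, zero_smul] at hk
    exact hx₀sp (hk ▸ Submodule.zero_mem _)
  obtain ⟨v, hv, hvx⟩ := (D.alg_scalar 1).mem y' x₀ hy'0 hxy' hy'x₀
  replace hvx : ∀ x, v x = x + T.tau (T.C y' x) x₀ + T.tau (T.C x₀ x) y' := fun x => (hvx x).trans (by
    simp [eMap])
  have hM : InH H (eMap T z x₀ L' L) := by
    refine ⟨v * s * v⁻¹ * s⁻¹, mul_mem (mul_mem (mul_mem hv hsH) (inv_mem hv)) (inv_mem hsH), fun x => ?_⟩
    obtain ⟨x, rfl⟩ := (s * v).surjective x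
    show v (s (v⁻¹ (s⁻¹ (s (v x))))) = _
    rw [inv_ap, inv_ap]
    show v (s x) = eMap T z x₀ L' L (s (v x))
    simp only [hs, hvx, eMap, map_add, map_neg, LinearMap.add_apply, LinearMap.neg_apply, hT.C_tau, D.altB,
      hzw, hwz, hzy', hy'z, hzx, hx₀z, hwx, hx₀w, hx₀y, hy'x₀, hwy', hy'w, zero_smul, map_zero,
      LinearMap.zero_apply, add_zero, zero_add, one_smul, neg_smul, neg_zero, neg_neg]
    abel
  have hadj : ∀ u v, T.fA (L u) v = T.fA u (L' v) := fun u v => by
    rw [D.swapA v (L u), ← hL', ← D.swapA]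
  obtain ⟨k, hk⟩ := D.alg_eq_scalar hno (D.alg_swap (D.alg_of_one hadj hz0 hx₀sp hzx hM))
  exact ⟨k, fun a => by rw [hL, hk, map_smul, LinearMap.smul_apply]⟩

/-- a map nearly commuting with all transvections is scalar -/
theorem diff_scalar (D : SSData T Q H) {X : A →ₗ[F] A}
    (h : ∀ g ∈ TvGen T, ∃ k : F, ∀ a, X (g a) - g (X a) = k • g a) : ∃ k : F, ∀ a, X a = k • a := by
  have hgen : ∀ (c : F) (p : A), ∃ k : F, ∀ a,
      (c * T.fA a p) • X p - (c * T.fA (X a) p) • p = k • (a + (c * T.fA a p) • p) := by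
    intro c p
    let g : A ≃ₗ[F] A := LinearEquiv.ofLinearMap (altTv T.fA c p) (altTv T.fA (-c) p)
      (LinearMap.ext (altTv_neg T.fA D.altA c p)) (LinearMap.ext (altTv_neg' T.fA D.altA c p))
    obtain ⟨k, hk⟩ := h g ⟨c, p, fun a => rfl⟩
    refine ⟨k, fun a => ?_⟩
    have hga : g a = a + (c * T.fA a p) • p := altTv_apply T.fA c p a
    rw [← hga, ← hk a, hga, map_add, map_smul,
      show g (X a) = X a + (c * T.fA (X a) p) • p from altTv_apply T.fA c p _]
    module
  have hk0 : ∀ c p, p ≠ 0 → ∀ k : F, (∀ a,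
      (c * T.fA a p) • X p - (c * T.fA (X a) p) • p = k • (a + (c * T.fA a p) • p)) → k = 0 := by
    intro c p hp k hk
    obtain ⟨q, hq⟩ : ∃ q, T.fA q p ≠ 0 := by
      by_contra h'
      simp only [not_exists, not_not] at h'
      exact hp (D.good.nondegA p fun y => D.good.A_flip_zero (h' y))
    rcases (Nat.lt_or_eq_of_le D.dimA).symm with h2 | h3
    · -- dimension two
      obtain ⟨R, hR0, hR1⟩ := D.big h2.symm
      obtain ⟨k', hk'⟩ := hgen (R * c) p
      have e1 := hk p
      have e1' := hk' p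
      simp only [D.altA, mul_zero, zero_smul, zero_sub, add_zero, ← neg_smul] at e1 e1'
      have f1 := smul_left_injective F hp e1
      have f1' := smul_left_injective F hp e1'
      have e2 := congrArg (fun y => T.fA y p) (hk q)
      have e2' := congrArg (fun y => T.fA y p) (hk' q)
      simp only [map_add, map_sub, map_smul, LinearMap.add_apply, LinearMap.sub_apply,
        LinearMap.smul_apply, smul_eq_mul, D.altA, mul_zero, add_zero, sub_zero] at e2 e2'
      have e3 := congrArg (fun y => T.fA q y) (hk q)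
      have e3' := congrArg (fun y => T.fA q y) (hk' q)
      simp only [map_add, map_sub, map_smul, smul_eq_mul, D.altA, mul_zero, zero_add] at e3 e3'
      have hm : (R * R - R) * (c * c) * (T.fA q p * T.fA q p) * T.fA (X p) p = 0 := by
        simp only [← f1] at e3
        simp only [← f1'] at e3'
        linear_combination e3' - R * e3
      have hm' : c * T.fA (X p) p = 0 := by
        rcases eq_or_ne c 0 with rfl | hc
        · rw [zero_mul]
        have : (R * R - R) ≠ 0 := by
          rw [show R * R - R = R * (R - 1) by ring]; exact mul_ne_zero hR0 (sub_ne_zero.2 hR1)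
        simp [this, hc, hq] at hm
        rw [hm, mul_zero]
      rw [← f1, hm', neg_zero]
    · by_contra hk0
      obtain ⟨v, hvp, hvs⟩ : ∃ v, T.fA v p = 0 ∧ v ∉ Submodule.span F ({p} : Set A) := by
        by_contra h'
        simp only [not_exists, not_and, not_not] at h'
        have h1 := (T.fA.flip p).finrank_range_add_finrank_ker
        have h2 := Submodule.finrank_le (LinearMap.range (T.fA.flip p))
        rw [Module.finrank_self] at h2
        have h4 := Submodule.finrank_mono (show LinearMap.ker (T.fA.flip p) ≤ Submodule.span F ({p} : Set A)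
          from fun x hx => h' x (LinearMap.mem_ker.1 hx))
        rw [finrank_span_singleton hp] at h4
        omega
      have e1 := hk v
      rw [hvp, mul_zero, zero_smul, zero_smul, add_zero, zero_sub] at e1
      refine hvs (Submodule.mem_span_singleton.2 ⟨-(k⁻¹ * (c * T.fA (X v) p)), ?_⟩)
      rw [neg_smul, mul_smul, ← smul_neg, e1, inv_smul_smul₀ hk0]
  obtain ⟨μ, hμ⟩ := LinearMap.exists_eq_smul_id_of_forall_notLinearIndependent (f := X) fun p hli => by
    have hp : p ≠ 0 := hli.ne_zero 0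
    obtain ⟨k, hk⟩ := hgen 1 p
    have hk' := hk
    rw [hk0 1 p hp k hk] at hk'
    obtain ⟨q, hq⟩ : ∃ q, T.fA q p ≠ 0 := by
      by_contra h'
      simp only [not_exists, not_not] at h'
      exact hp (D.good.nondegA p fun y => D.good.A_flip_zero (h' y))
    have e1 := hk' q
    rw [zero_smul, one_mul, one_mul, sub_eq_zero] at e1
    refine (LinearIndependent.pair_iff' hp).1 hli ((T.fA q p)⁻¹ * T.fA (X q) p) ?_
    rw [mul_smul, ← e1, inv_smul_smul₀ hq]
  exact ⟨μ, fun a => by simpa using LinearMap.congr_fun hμ a⟩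

theorem rootHyp (D : SSData T Q H) (hno : NoRoot T H) : RootHyp T (-1) H (TvGen T) where
  good := D.good
  isom _ hg := D.formH hg
  tv z _ c _ := D.tvB z c
  frame z _ hz0 X hX := D.frame_scalar hno hz0 hX
  qlem q hq z _ hz0 hqz hQ w _ hwz := D.q_scalar hno hq hz0 hqz hQ hwz
  gen_mem g hg := by
    obtain ⟨c, p, hga⟩ := hg
    obtain ⟨k, hk, hkab⟩ := D.pureA_tv c p
    exact ⟨k, hk, fun a b => by rw [hkab, hga]⟩
  gen_conj M m hM g hg := by
    obtain ⟨c, p, hga⟩ := hg
    have hm0 : m ≠ 0 := fun e => by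
      haveI := Module.nontrivial_of_finrank_pos (R := F) (M := A) (by have := D.dimA; omega)
      obtain ⟨v, hv⟩ := exists_ne (0 : A)
      refine hv (M.injective ((D.good.nondegA _ fun y => ?_).trans (map_zero M).symm))
      obtain ⟨y', rfl⟩ := M.surjective y
      rw [hM, e, zero_mul]
    refine ⟨c / m, M p, fun a => ?_⟩
    obtain ⟨a, rfl⟩ := M.surjective a
    rw [LinearEquiv.mul_apply, LinearEquiv.mul_apply, inv_ap, hga, altTv_apply, altTv_apply, map_add,
      map_smul, hM, ← mul_assoc, div_mul_cancel₀ _ hm0]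
  diff X hX := D.diff_scalar hX
  isoSpan z _ _ w hw := Submodule.subset_span ⟨D.altB w, hw⟩
  nontriv := Module.nontrivial_of_finrank_pos (R := F) (by have := D.dimA; omega)
  lt := Or.inl D.lt
  trans y y' _ hy _ hy' := D.transB hy hy'
  perp2 v v' := by
    obtain ⟨d, d', hdv, hdv', -, -, h1⟩ := exists_perp_pair T.fB D.altB D.good.nondegB
      (by have := D.dimB; omega) v v'
    exact ⟨d, fun e => by simp [e] at h1, D.altB d, hdv, hdv'⟩
  isoVec := by
    haveI := Module.nontrivial_of_finrank_pos (R := F) (M := B) (by have := D.dimB; omega)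
    obtain ⟨z, hz⟩ := exists_ne (0 : B)
    exact ⟨z, hz, D.altB z⟩
  three := by have := D.dimB; omega

/-- without such root elements everything is pure -/
theorem kron_all (D : SSData T Q H) [FiniteDimensional F V] (hno : NoRoot T H) {h : V ≃ₗ[F] V}
    (hh : h ∈ H) : IsKron T h := by
  obtain ⟨p, hp⟩ := CharP.exists F
  haveI := hp
  haveI : Fact p.Prime := ⟨CharP.char_is_prime F p⟩
  have R := D.rootHyp hno
  by_cases h2 : p = 2
  · subst h2
    haveI := R.nontriv
    obtain ⟨x, hx⟩ := exists_ne (0 : A)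
    exact R.kron_two hx (D.altA x) one_ne_zero (D.tvA x 1) hh
  · exact R.kron_odd h2 hh

end SSData

end CfsgLib.MaxSub.TForm
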