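import Cfsg.Agent.Lib.MaxSub.OrthPolar
import Cfsg.Agent.Lib.MaxSub.OmegaGen

/-!
The maximality argument of `S5697`, for smaller dimensions.
-/
set_option autoImplicit false
open Cfsg

namespace CfsgLib.MaxSub.OmegaPair

open CfsgLib.Classical CfsgLib.Geom CfsgLib.MaxSub
open QuadraticMap (polar)

section
variable {F V : Type*} [Field F] [Finite F] [AddCommGroup V] [Module F V] [FiniteDimensional F V]
  {Q : QuadraticForm F V}

/-- The element interchanging the two subspaces of a hyperbolic decomposition, for an even number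
of pairs. -/
theorem exists_swap (hQ : ∀ x, (∀ y, polar Q x y = 0) → x = 0) (h5 : 5 ≤ Module.finrank F V)
    {k : ℕ} (hke : Even k) (e f : Fin k → V)
    (he : ∀ i, Q (e i) = 0) (hf : ∀ i, Q (f i) = 0) (hee : ∀ i j, polar Q (e i) (e j) = 0)
    (hff : ∀ i j, polar Q (f i) (f j) = 0)
    (hef : ∀ i j, polar Q (e i) (f j) = if i = j then 1 else 0) :
    ∃ s ∈ commutator (quadIsoms Q),
      (∀ i, ∃ (j : Fin k) (c : F), s.1 (e i) = c • f j) ∧
      (∀ i, ∃ (j : Fin k) (c : F), s.1 (f i) = c • e j) ∧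
      ∀ h1 : 1 < k, s.1 (e ⟨0, by omega⟩) = f ⟨1, h1⟩ ∧ s.1 (f ⟨1, h1⟩) = -e ⟨0, by omega⟩ := by
  obtain ⟨r, rfl⟩ := hke
  have hfe : ∀ i j, polar Q (f i) (e j) = if j = i then 1 else 0 := fun i j => by
    rw [QuadraticMap.polar_comm, hef]
  -- swap the first `l` double pairs
  suffices ∀ l ≤ r, ∃ s ∈ commutator (quadIsoms Q),
      (∀ i : Fin (r + r), ∀ h : i.1 < 2 * l,
        (i.1 % 2 = 0 → ∀ h' : i.1 + 1 < r + r, s.1 (e i) = f ⟨i.1 + 1, h'⟩ ∧ s.1 (f i) = e ⟨i.1 + 1, h'⟩) ∧
        (i.1 % 2 = 1 → s.1 (e i) = -f ⟨i.1 - 1, by omega⟩ ∧ s.1 (f i) = -e ⟨i.1 - 1, by omega⟩)) ∧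
      ∀ i : Fin (r + r), ¬ i.1 < 2 * l → s.1 (e i) = e i ∧ s.1 (f i) = f i by
    obtain ⟨s, hs, h1, -⟩ := this r le_rfl
    refine ⟨s, hs, fun i => ?_, fun i => ?_, fun h => ?_⟩
    · rcases Nat.mod_two_eq_zero_or_one i.1 with hi | hi
      · exact ⟨⟨i.1 + 1, by omega⟩, 1, by rw [((h1 i (by omega)).1 hi _).1, one_smul]⟩
      · exact ⟨⟨i.1 - 1, by omega⟩, -1, by rw [((h1 i (by omega)).2 hi).1, neg_one_smul]⟩
    · rcases Nat.mod_two_eq_zero_or_one i.1 with hi | hi
      · exact ⟨⟨i.1 + 1, by omega⟩, 1, by rw [((h1 i (by omega)).1 hi _).2, one_smul]⟩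
      · exact ⟨⟨i.1 - 1, by omega⟩, -1, by rw [((h1 i (by omega)).2 hi).2, neg_one_smul]⟩
    · exact ⟨((h1 ⟨0, by omega⟩ (show (0 : ℕ) < 2 * r by omega)).1 rfl (show (0 : ℕ) + 1 < r + r by omega)).1,
        ((h1 ⟨1, h⟩ (show 1 < 2 * r by omega)).2 rfl).2⟩
  intro l hl
  induction l with
  | zero => exact ⟨1, one_mem _, fun i h => absurd h (by omega), fun i _ => ⟨rfl, rfl⟩⟩
  | succ l ih =>
    obtain ⟨s, hs, hin, hout⟩ := ih (by omega)
    let a : Fin (r + r) := ⟨2 * l, by omega⟩
    let b : Fin (r + r) := ⟨2 * l + 1, by omega⟩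
    have hab : a ≠ b := by simp [a, b, Fin.ext_iff]
    let X := siegel Q (e a) (e b)
    let Y := siegel Q (f a) (f b)
    have hX : ∀ z, X.1 z = z + polar Q (e a) z • e b - polar Q (e b) z • e a := fun z => by
      rw [siegel_apply Q (he a) (hee a b), he b, zero_mul, add_zero]
    have hY : ∀ z, Y.1 z = z + polar Q (f a) z • f b - polar Q (f b) z • f a := fun z => by
      rw [siegel_apply Q (hf a) (hff a b), hf b, zero_mul, add_zero]
    have hrot : ∀ z, (X * Y * X).1 z = X.1 (Y.1 (X.1 z)) := fun z => rfl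
    have e1 : (X * Y * X).1 (e a) = f b ∧ (X * Y * X).1 (f a) = e b ∧
        (X * Y * X).1 (e b) = -f a ∧ (X * Y * X).1 (f b) = -e a := by
      have x1 : X.1 (e a) = e a := by rw [hX, hee, hee]; simp
      have x2 : X.1 (e b) = e b := by rw [hX, hee, hee]; simp
      have x3 : X.1 (f a) = f a + e b := by rw [hX, hef, hef, if_pos rfl, if_neg hab.symm]; simp
      have x4 : X.1 (f b) = f b - e a := by rw [hX, hef, hef, if_pos rfl, if_neg hab]; simp
      have y1 : Y.1 (f a) = f a := by rw [hY, hff, hff]; simp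
      have y2 : Y.1 (f b) = f b := by rw [hY, hff, hff]; simp
      have y3 : Y.1 (e a) = e a + f b := by rw [hY, hfe, hfe, if_pos rfl, if_neg hab]; simp
      have y4 : Y.1 (e b) = e b - f a := by rw [hY, hfe, hfe, if_pos rfl, if_neg hab.symm]; simp
      refine ⟨?_, ?_, ?_, ?_⟩ <;>
        simp only [hrot, x1, x2, x3, x4, y1, y2, y3, y4, map_add, map_sub] <;> abel
    have hfix : ∀ i, i ≠ a → i ≠ b → (X * Y * X).1 (e i) = e i ∧ (X * Y * X).1 (f i) = f i := by
      intro i hia hib
      have x1 : X.1 (e i) = e i := by rw [hX, hee, hee]; simp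
      have x2 : X.1 (f i) = f i := by rw [hX, hef, hef, if_neg hia.symm, if_neg hib.symm]; simp
      have y1 : Y.1 (f i) = f i := by rw [hY, hff, hff]; simp
      have y2 : Y.1 (e i) = e i := by rw [hY, hfe, hfe, if_neg hia, if_neg hib]; simp
      exact ⟨by simp only [hrot, x1, y2], by simp only [hrot, x2, y1]⟩
    refine ⟨X * Y * X * s, mul_mem (mul_mem (mul_mem (OrthSub.siegel_mem_commutator hQ h5 _ _)
      (OrthSub.siegel_mem_commutator hQ h5 _ _)) (OrthSub.siegel_mem_commutator hQ h5 _ _)) hs,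
      fun i hi => ?_, fun i hi => ?_⟩
    · show (i.1 % 2 = 0 → ∀ h' : i.1 + 1 < r + r, (X * Y * X).1 (s.1 (e i)) = _ ∧
          (X * Y * X).1 (s.1 (f i)) = _) ∧
        (i.1 % 2 = 1 → (X * Y * X).1 (s.1 (e i)) = _ ∧ (X * Y * X).1 (s.1 (f i)) = _)
      by_cases hil : i.1 < 2 * l
      · refine ⟨fun hm h' => ?_, fun hm => ?_⟩
        · obtain ⟨p1, p2⟩ := (hin i hil).1 hm h'
          rw [p1, p2]
          have hj := hfix ⟨i.1 + 1, h'⟩ (by simp [a, Fin.ext_iff]; omega) (by simp [b, Fin.ext_iff]; omega)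
          exact ⟨hj.2, hj.1⟩
        · obtain ⟨p1, p2⟩ := (hin i hil).2 hm
          rw [p1, p2, map_neg, map_neg]
          have hj := hfix ⟨i.1 - 1, by omega⟩ (by simp [a, Fin.ext_iff]; omega)
            (by simp [b, Fin.ext_iff]; omega)
          exact ⟨by rw [hj.2], by rw [hj.1]⟩
      · rw [(hout i hil).1, (hout i hil).2]
        refine ⟨fun hm h' => ?_, fun hm => ?_⟩
        · obtain rfl : i = a := Fin.ext (show i.1 = 2 * l by omega)
          exact ⟨e1.1, e1.2.1⟩
        · obtain rfl : i = b := Fin.ext (show i.1 = 2 * l + 1 by omega)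
          exact ⟨e1.2.2.1, e1.2.2.2⟩
    · show (X * Y * X).1 (s.1 (e i)) = e i ∧ (X * Y * X).1 (s.1 (f i)) = f i
      rw [(hout i (by omega)).1, (hout i (by omega)).2]
      exact hfix i (by simp [a, Fin.ext_iff]; omega) (by simp [b, Fin.ext_iff]; omega)

end

/-- the maximal subgroup -/
theorem ts_pair_isMaximalIn {F : Type*} [Field F] [Fintype F] {n : ℕ} (hn : 12 ≤ n) (heven : Even n) (Q : (Fin n → F) → F) (hQ : Cfsg.Geo.IsNondegenerateQuadraticForm Q) (hplus : Cfsg.Geo.IsPlusTypeOn Q ⊤) (k : ℕ) (hk : 2 * k = n) (hke : Even k) (D : Fin 2 → Submodule F (Fin n → F)) (hD : Cfsg.Geo.IsMDecomposition k D) (hts : ∀ i, Cfsg.Geo.IsTotallySingularQuad Q (D i)) : Cfsg.Geo.IsMaximalIn (Cfsg.Geo.omegaGL Q) (Cfsg.Geo.decompositionStabilizer D ⊓ Cfsg.Geo.omegaGL Q) := by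
  classical
  let Qf := quadFormOf hQ
  have hsep : ∀ x, (∀ y, polar Qf x y = 0) → x = 0 := quadFormOf_sep hQ
  have hdimV : Module.finrank F (Fin n → F) = n := Module.finrank_fin_fun F
  let A := D 0
  let B := D 1
  have P : OPolar Qf k A B := by
    refine ⟨hsep, hts 0, hts 1, disjoint_iff.1 (hD.indep.pairwiseDisjoint (by decide : (0 : Fin 2) ≠ 1)),
      ?_, hD.finrank_eq 0, hD.finrank_eq 1⟩
    rw [eq_top_iff, ← hD.iSup_eq_top, iSup_le_iff]
    intro i
    fin_cases i
    · exact le_sup_left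
    · exact le_sup_right
  have hmem : ∀ g : quadIsoms Qf, ∀ π : Equiv.Perm (Fin 2), (∀ i, ∀ x ∈ D i, g.1 x ∈ D (π i)) →
      isomsToGL Qf g ∈ Cfsg.Geo.decompositionStabilizer D := by
    intro g π h
    refine ⟨π, fun i => ?_⟩
    have hinj : Function.Injective
        (Matrix.toLin' (isomsToGL Qf g : Matrix (Fin n) (Fin n) F)) := fun x y e => by
      simp only [Matrix.toLin'_apply, isomsToGL_mulVec] at e
      exact g.1.injective e
    refine Submodule.eq_of_le_of_finrank_eq ?_ ?_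
    · rintro _ ⟨x, hx, rfl⟩
      rw [Matrix.toLin'_apply, isomsToGL_mulVec]
      exact h i x hx
    · rw [← (Submodule.equivMapOfInjective _ hinj (D i)).finrank_eq, hD.finrank_eq, hD.finrank_eq]
  -- dual bases
  let bA := (Module.finBasis F A).reindex (finCongr P.dimA)
  let L : B →ₗ[F] (Fin k → F) :=
    { toFun := fun y i => polar Qf (bA i : Fin n → F) y
      map_add' := fun y z => funext fun i => QuadraticMap.polar_add_right Qf _ _ _
      map_smul' := fun c y => funext fun i => QuadraticMap.polar_smul_right Qf c _ _ }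
  have hLinj : Function.Injective L := by
    rw [← LinearMap.ker_eq_bot, Submodule.eq_bot_iff]
    intro y hy
    refine Subtype.ext (P.zero_of_orth (fun a ha => ?_) fun b hb => polar_of_singular P.singB y.2 hb)
    have hφ : ((pLin Qf (y : Fin n → F)).comp A.subtype) = 0 :=
      bA.ext fun i => congrFun (LinearMap.mem_ker.mp hy) i
    rw [QuadraticMap.polar_comm]
    exact LinearMap.congr_fun hφ ⟨a, ha⟩
  have hLsurj : Function.Surjective L :=
    (LinearMap.injective_iff_surjective_of_finrank_eq_finrank (by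
      rw [P.dimB, Module.finrank_fin_fun])).1 hLinj
  choose fB hfB using fun j => hLsurj (Pi.single j 1)
  let eL : Fin k → (Fin n → F) := fun i => (bA i : Fin n → F)
  let fL : Fin k → (Fin n → F) := fun i => (fB i : Fin n → F)
  have hef : ∀ i j, polar Qf (eL i) (fL j) = if i = j then 1 else 0 := fun i j => by
    have := congrFun (hfB j) i
    rw [Pi.single_apply] at this
    exact this
  have hee : ∀ i j, polar Qf (eL i) (eL j) = 0 := fun i j => polar_of_singular P.singA (bA i).2 (bA j).2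
  have hff : ∀ i j, polar Qf (fL i) (fL j) = 0 := fun i j => polar_of_singular P.singB (fB i).2 (fB j).2
  have hfe : ∀ i j, polar Qf (fL i) (eL j) = if j = i then 1 else 0 := fun i j => by
    rw [QuadraticMap.polar_comm, hef]
  let e₀ : Fin k := ⟨0, by omega⟩
  let e₁ : Fin k := ⟨1, by omega⟩
  let e₂ : Fin k := ⟨2, by omega⟩
  obtain ⟨s, hs, hse, hsf, hs01⟩ := exists_swap hsep (by omega) hke eL fL
    (fun i => hts 0 _ (bA i).2) (fun i => hts 1 _ (fB i).2) hee hff hef
  obtain ⟨hs0, hs1⟩ := hs01 (by omega)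
  have hsA : ∀ x ∈ A, s.1 x ∈ B := by
    intro x hx
    have hsum := congrArg Subtype.val (bA.sum_repr ⟨x, hx⟩)
    simp only [Submodule.coe_sum, Submodule.coe_smul] at hsum
    rw [← hsum, map_sum]
    refine Submodule.sum_mem _ fun i _ => ?_
    obtain ⟨j, c, hjc⟩ := hse i
    rw [map_smul, hjc]
    exact B.smul_mem _ (B.smul_mem _ (fB j).2)
  have hsB : ∀ x ∈ B, s.1 x ∈ A := by
    intro x hx
    have hx' : (⟨x, hx⟩ : B) = ∑ j, L ⟨x, hx⟩ j • fB j := hLinj (by
      rw [map_sum]
      simp_rw [map_smul, hfB]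
      exact pi_eq_sum_univ' _)
    have hsum := congrArg Subtype.val hx'
    simp only [Submodule.coe_sum, Submodule.coe_smul] at hsum
    rw [hsum, map_sum]
    refine Submodule.sum_mem _ fun i _ => ?_
    obtain ⟨j, c, hjc⟩ := hsf i
    rw [map_smul, hjc]
    exact A.smul_mem _ (A.smul_mem _ (bA j).2)
  refine omega_isMaximalIn_of Qf (quadFormOf_coe hQ) (Cfsg.Geo.decompositionStabilizer D) ?_ ?_
  · -- a Siegel transformation moving the pair
    have h02 : e₀ ≠ e₂ := by simp [e₀, e₂]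
    have h12 : e₁ ≠ e₂ := by simp [e₁, e₂]
    have h01 : e₀ ≠ e₁ := by simp [e₀, e₁]
    set a := eL e₀ + fL e₁ with hadef
    have ha : Qf a = 0 := by
      rw [hadef, QuadraticMap.map_add (Qf : QuadraticMap F (Fin n → F) F), P.singA _ (bA e₀).2, P.singB _ (fB e₁).2, hef, if_neg h01]; ring
    have hab : polar Qf a (eL e₂) = 0 := by
      rw [hadef, QuadraticMap.polar_add_left, hee, hfe, if_neg h12.symm, add_zero]
    refine ⟨siegel Qf a (eL e₂), OrthSub.siegel_mem_commutator hsep (by omega) _ _, fun hH => ?_⟩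
    obtain ⟨π, hπ⟩ := hH
    have him : ∀ x ∈ D 0, (siegel Qf a (eL e₂)).1 x ∈ D (π 0) := fun x hx => by
      rw [← hπ 0]; exact ⟨x, hx, by rw [Matrix.toLin'_apply, isomsToGL_mulVec]⟩
    have him' : ∀ x ∈ D 1, (siegel Qf a (eL e₂)).1 x ∈ D (π 1) := fun x hx => by
      rw [← hπ 1]; exact ⟨x, hx, by rw [Matrix.toLin'_apply, isomsToGL_mulVec]⟩
    have hval : (siegel Qf a (eL e₂)).1 (eL e₁) = eL e₁ + eL e₂ := by
      rw [siegel_apply Qf ha hab, P.singA _ (bA e₂).2, hadef, QuadraticMap.polar_add_left, hee, hee, hfe,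
        if_pos rfl]
      simp
    have hval' : (siegel Qf a (eL e₂)).1 (fL e₂) = fL e₂ - (eL e₀ + fL e₁) := by
      rw [siegel_apply Qf ha hab, P.singA _ (bA e₂).2, hadef, QuadraticMap.polar_add_left, hef, hff,
        hef, if_neg h02, if_pos rfl]
      simp
    have hπ0 : π 0 = 0 := by
      rcases Fin.exists_fin_two.1 ⟨π 0, rfl⟩ with h | h
      · exact h
      · exfalso
        have h1 := him _ (bA e₁).2
        rw [show ((bA e₁ : A) : Fin n → F) = eL e₁ from rfl, hval, h] at h1
        have h0 := P.zero_of_mem (add_mem (bA e₁).2 (bA e₂).2) h1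
        have h3 : polar Qf (eL e₁ + eL e₂) (fL e₁) = 1 := by
          rw [QuadraticMap.polar_add_left, hef, hef, if_pos rfl, if_neg h12.symm, add_zero]
        rw [show eL e₁ + eL e₂ = 0 from h0, QuadraticMap.polar_zero_left] at h3
        exact zero_ne_one h3
    have hπ1 : π 1 = 1 := by
      rcases Fin.exists_fin_two.1 ⟨π 1, rfl⟩ with h | h
      · exact absurd (π.injective (h.trans hπ0.symm)) (by decide)
      · exact h
    have h1 := him' _ (fB e₂).2
    rw [show ((fB e₂ : B) : Fin n → F) = fL e₂ from rfl, hval', hπ1] at h1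
    have h2 : eL e₀ ∈ B := by
      have := sub_mem (sub_mem (fB e₂).2 h1) (fB e₁).2
      simpa [fL] using this
    have h0 := P.zero_of_mem (bA e₀).2 h2
    have h3 := hef e₀ e₀
    rw [show eL e₀ = 0 from h0, QuadraticMap.polar_zero_left, if_pos rfl] at h3
    exact zero_ne_one h3
  · intro M hM g hg hgc hgH
    have hsing : ∀ x, Qf (g.1 x) = Qf x := fun x => g.2 x
    have hsM : s ∈ M := hM s hs (hmem s (Equiv.swap 0 1) fun i x hx => by
      fin_cases i
      · exact hsA x hx
      · exact hsB x hx)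
    have hM' : ∀ u ∈ A, ∀ α ∈ B, polar Qf u α = 0 → siegel Qf u α ∈ M := by
      intro u hu α hα h
      refine hM _ (OrthSub.siegel_mem_commutator hsep (by omega) _ _) (hmem _ 1 fun i x hx => ?_)
      rw [siegel_apply Qf (P.singA u hu) h, P.singB α hα, zero_mul, add_zero, Equiv.Perm.one_apply]
      fin_cases i
      · rw [polar_of_singular P.singA hu hx, zero_smul, add_zero]
        exact sub_mem hx (A.smul_mem _ hu)
      · rw [polar_of_singular P.singB hα hx, zero_smul, sub_zero]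
        exact add_mem hx (B.smul_mem _ hα)
    have hM'' : ∀ u ∈ B, ∀ α ∈ A, polar Qf u α = 0 → siegel Qf u α ∈ M := by
      intro u hu α hα h
      have h' : polar Qf α u = 0 := by rw [QuadraticMap.polar_comm]; exact h
      rw [siegel_swap (P.singA α hα) (P.singB u hu) h', ← siegel_neg Qf (P.singA α hα) h']
      exact inv_mem (hM' α hα u hu h')
    obtain ⟨U, U', hpol, hUM, u, hu, huA, huB⟩ : ∃ U U', OPolar Qf k U U' ∧
        (∀ u ∈ U, ∀ α ∈ U', polar Qf u α = 0 → siegel Qf u α ∈ M) ∧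
        ∃ u ∈ U, g.1 u ∉ A ∧ g.1 u ∉ B := by
      by_contra hno
      push Not at hno
      have hA' : ∀ x ∈ A.map g.1.toLinearMap, x ∈ A ∨ x ∈ B := by
        rintro _ ⟨x, hx, rfl⟩
        exact or_iff_not_imp_left.2 (hno A B P hM' x hx)
      have hB' : ∀ x ∈ B.map g.1.toLinearMap, x ∈ A ∨ x ∈ B := by
        rintro _ ⟨x, hx, rfl⟩
        exact or_iff_not_imp_left.2 (hno B A P.symm hM'' x hx)
      have hnotboth : ∀ W : Submodule F (Fin n → F), Module.finrank F W = k →
          A.map g.1.toLinearMap ≤ W → B.map g.1.toLinearMap ≤ W → False := by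
        intro W hW h h'
        have htop : (⊤ : Submodule F (Fin n → F)).map g.1.toLinearMap ≤ W := by
          rw [← P.sup_eq, Submodule.map_sup]; exact sup_le h h'
        rw [Submodule.map_top, LinearEquiv.range] at htop
        have := Submodule.finrank_mono htop
        rw [finrank_top, hdimV, hW] at this
        omega
      apply hgH
      rcases le_or_le_of_forall_mem hA' with h | h <;> rcases le_or_le_of_forall_mem hB' with h' | h'
      · exact (hnotboth A P.dimA h h').elim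
      · refine hmem g 1 fun i x hx => ?_
        fin_cases i
        · exact h ⟨x, hx, rfl⟩
        · exact h' ⟨x, hx, rfl⟩
      · refine hmem g (Equiv.swap 0 1) fun i x hx => ?_
        fin_cases i
        · exact h ⟨x, hx, rfl⟩
        · exact h' ⟨x, hx, rfl⟩
      · exact (hnotboth B P.dimB h h').elim
    obtain ⟨w, hw, w', hw', hsum⟩ := P.decomp (g.1 u)
    have hw0 : w ≠ 0 := by rintro rfl; exact huB (by rw [← hsum, zero_add]; exact hw')
    have hw'0 : w' ≠ 0 := by rintro rfl; exact huA (by rw [← hsum, add_zero]; exact hw)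
    obtain ⟨α, hα, hαout⟩ : ∃ α ∈ U' ⊓ LinearMap.ker (pLin Qf u),
        g.1 α ∉ Submodule.span F {w, w'} := by
      obtain ⟨α, hα, hαout⟩ := exists_notMem_span_pair (U := U' ⊓ LinearMap.ker (pLin Qf u))
        (g.1.symm w) (g.1.symm w')
        (by have := finrank_le_inf_ker U' (pLin Qf u); rw [hpol.dimB] at this; omega)
      refine ⟨α, hα, fun h => hαout ?_⟩
      obtain ⟨i, j, e⟩ := Submodule.mem_span_pair.1 h
      refine Submodule.mem_span_pair.2 ⟨i, j, g.1.injective ?_⟩
      rw [map_add, map_smul, map_smul, LinearEquiv.apply_symm_apply, LinearEquiv.apply_symm_apply, e]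
    have hαu : polar Qf α u = 0 := hα.2
    have hS : siegel Qf (g.1 α) (g.1 u) ∈ M := by
      rw [← siegel_conj]
      refine mul_mem (mul_mem hg ?_) (inv_mem hg)
      have h' : polar Qf u α = 0 := by rw [QuadraticMap.polar_comm]; exact hαu
      rw [siegel_swap (hpol.singA u hu) (hpol.singB α hα.1) h',
        ← siegel_neg Qf (hpol.singA u hu) h']
      exact inv_mem (hUM u hu α hα.1 h')
    have haa : Qf (g.1 α) = 0 := (hsing α).trans (hpol.singB α hα.1)
    have hbb : Qf (g.1 u) = 0 := (hsing u).trans (hpol.singA u hu)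
    have hab : polar Qf (g.1 α) (g.1 u) = 0 := (OrthSub.polar_map g α u).trans hαu
    obtain ⟨a₁, ha₁, a₂, ha₂, hasum⟩ := P.decomp (g.1 α)
    obtain ⟨i, hFe, hFf⟩ : ∃ i, OrthSub.Full M (eL i) ∧ OrthSub.Full M (fL i) := by
      by_cases h : a₁ ∈ Submodule.span F {w}
      · have hFB := P.symm.full_of_pair hM'' (by omega) ha₂ ha₁
          (by rw [add_comm]; exact hasum) hw' hw (by rw [add_comm]; exact hsum) haa hbb hab hS hw'0
          fun h' => hαout (by
            rw [← hasum]
            exact add_mem (Submodule.span_mono (by simp) h) (Submodule.span_mono (by simp) h'))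
        refine ⟨e₀, ?_, hFB _ (fB e₀).2⟩
        have hh := (hFB (fL e₁) (fB e₁).2).conj hsM
        rw [hs1, ← neg_one_smul F] at hh
        have := hh.smul (by rw [CfsgLib.Geom.quad_smul, P.singA _ (bA e₀).2, mul_zero]) (-1)
        rwa [smul_smul, neg_one_mul, neg_neg, one_smul] at this
      · have hFA := P.full_of_pair hM' (by omega) ha₁ ha₂ hasum hw hw' hsum haa hbb hab hS hw0 h
        refine ⟨e₁, hFA _ (bA e₁).2, ?_⟩
        have hh := (hFA (eL e₀) (bA e₀).2).conj hsM
        rwa [hs0] at hh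
    exact OrthSub.commutator_le_of_pair hsep (by omega) hFe hFf (P.singA _ (bA i).2)
      (P.singB _ (fB i).2) (by rw [hef, if_pos rfl]; exact one_ne_zero)

end CfsgLib.MaxSub.OmegaPair
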