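import Cfsg.Agent.Lib.MaxSub.OrthUnitary
import Cfsg.Agent.Lib.MaxSub.OmegaGen

/-!
The maximality argument of `S5700`, for smaller dimensions.
-/
set_option autoImplicit false
open Cfsg

namespace CfsgLib.MaxSub.OmegaUnitary

open Matrix CfsgLib.Classical CfsgLib.Geom CfsgLib.MaxSub
open QuadraticMap (polar)

section
variable {F : Type*} [Field F] {n : ℕ} {Q : QuadraticForm F (Fin n → F)} {j : Matrix (Fin n) (Fin n) F}
  {K : Subalgebra F (Matrix (Fin n) (Fin n) F)} (hjK : j ∈ K)
  (hspan : ∀ k ∈ K, ∃ p q : F, k = p • 1 + q • j) (hnsc : ∀ r : F, j ≠ r • 1)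
include hjK hspan hnsc

theorem mem_normalizer_iff (g : quadIsoms Q) :
    isomsToGL Q g ∈ Cfsg.Geo.subalgebraNormalizer K ↔ KNorm (Matrix.toLin' j) g := by
  have hg : ∀ x, (isomsToGL Q g : Matrix (Fin n) (Fin n) F) *ᵥ x = g.1 x := isomsToGL_mulVec Q g
  constructor
  · intro h
    obtain ⟨p, q, hpq⟩ := hspan _ ((h j).1 hjK)
    have e : (isomsToGL Q g : Matrix (Fin n) (Fin n) F) * j =
        (p • 1 + q • j) * (isomsToGL Q g : Matrix (Fin n) (Fin n) F) := by
      rw [← hpq, Matrix.mul_assoc, ← Units.val_mul, inv_mul_cancel, Units.val_one, Matrix.mul_one]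
    refine ⟨p, q, fun hq => hnsc p ?_, fun x => ?_⟩
    · rw [hq, zero_smul, add_zero, Matrix.smul_mul, Matrix.one_mul,
        show p • (isomsToGL Q g : Matrix (Fin n) (Fin n) F) =
          (isomsToGL Q g : Matrix (Fin n) (Fin n) F) * (p • 1) by rw [Matrix.mul_smul, Matrix.mul_one]] at e
      exact (isomsToGL Q g).isUnit.mul_left_cancel e
    · have := congrArg (· *ᵥ x) e
      simp only [← mulVec_mulVec, add_mulVec, smul_mulVec, one_mulVec, hg] at this
      simpa using this
  · rintro ⟨p, q, hq, h⟩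
    have e : (isomsToGL Q g : Matrix (Fin n) (Fin n) F) * j =
        (p • 1 + q • j) * (isomsToGL Q g : Matrix (Fin n) (Fin n) F) := by
      refine Matrix.ext_of_mulVec_single fun i => ?_
      simp only [← mulVec_mulVec, add_mulVec, smul_mulVec, one_mulVec, hg]
      simpa using h (Pi.single i 1)
    intro k
    constructor
    · intro hk
      obtain ⟨a, b, rfl⟩ := hspan k hk
      rw [Matrix.mul_add, Matrix.mul_smul, Matrix.mul_smul, e, Matrix.mul_one, Matrix.add_mul,
        Matrix.smul_mul, Matrix.smul_mul, Matrix.mul_assoc, ← Units.val_mul, mul_inv_cancel,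
        Units.val_one, Matrix.mul_one]
      exact add_mem (K.smul_mem (one_mem K) a)
        (K.smul_mem (add_mem (K.smul_mem (one_mem K) p) (K.smul_mem hjK q)) b)
    · intro hk
      obtain ⟨a, b, hab⟩ := hspan _ hk
      have h' : (isomsToGL Q g : Matrix (Fin n) (Fin n) F) * k =
          (isomsToGL Q g : Matrix (Fin n) (Fin n) F) * ((a - b * q⁻¹ * p) • 1 + (b * q⁻¹) • j) := by
        rw [Matrix.mul_add, Matrix.mul_smul, Matrix.mul_smul, e, Matrix.mul_one, Matrix.add_mul,
          Matrix.smul_mul, Matrix.smul_mul, Matrix.one_mul, smul_add, smul_smul, smul_smul,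
          inv_mul_cancel_right₀ hq, ← add_assoc, ← add_smul, sub_add_cancel]
        have := congrArg (· * (isomsToGL Q g : Matrix (Fin n) (Fin n) F)) hab
        simpa only [Matrix.mul_assoc, ← Units.val_mul, inv_mul_cancel, Units.val_one, Matrix.mul_one,
          Matrix.add_mul, Matrix.smul_mul, Matrix.one_mul] using this
      rw [(isomsToGL Q g).isUnit.mul_left_cancel h']
      exact add_mem (K.smul_mem (one_mem K) _) (K.smul_mem hjK _)

end

/-- the maximal subgroup -/
theorem unitary_isMaximalIn {F : Type*} [Field F] [Fintype F] {n : ℕ} (hn : 10 ≤ n) (heven : Even n) (Q : (Fin n → F) → F) (hQ : Cfsg.Geo.IsNondegenerateQuadraticForm Q) (K : Subalgebra F (Matrix (Fin n) (Fin n) F)) (hK : Cfsg.Geo.IsFieldSubalgebra 2 K) (hac : Cfsg.Geo.IsAdjointClosedFor (QuadraticMap.polar Q) K) (hnsa : ¬ Cfsg.Geo.IsSelfAdjointFor (QuadraticMap.polar Q) K) (hsc : ∀ k ∈ K, ∃ c : F, ∀ v : (Fin n → F), Q (Matrix.mulVec k v) = c * Q v) : Cfsg.Geo.IsMaximalIn (Cfsg.Geo.omegaGL Q) (Cfsg.Geo.subalgebraNormalizer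 K ⊓ Cfsg.Geo.omegaGL Q) := by
  classical
  let Qf := quadFormOf hQ
  have hsep : ∀ x, (∀ y, polar Qf x y = 0) → x = 0 := quadFormOf_sep hQ
  have hdimV : Module.finrank F (Fin n → F) = n := Module.finrank_fin_fun F
  haveI : Nonempty (Fin n) := ⟨⟨0, by omega⟩⟩
  obtain ⟨j, hjK, hnsc⟩ : ∃ j ∈ K, ∀ r : F, j ≠ r • 1 := by
    by_contra hno
    push Not at hno
    have hle : Subalgebra.toSubmodule K ≤ Submodule.span F {(1 : Matrix (Fin n) (Fin n) F)} := fun k hk => by
      obtain ⟨r, rfl⟩ := hno k hk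
      exact Submodule.smul_mem _ _ (Submodule.mem_span_singleton_self _)
    have h1 := Submodule.finrank_mono hle
    rw [finrank_span_singleton one_ne_zero] at h1
    have h2 := hK.finrank_eq
    rw [← Subalgebra.finrank_toSubmodule] at h2
    omega
  have hspan : ∀ k ∈ K, ∃ p q : F, k = p • 1 + q • j := by
    have hle : Submodule.span F {(1 : Matrix (Fin n) (Fin n) F), j} ≤ Subalgebra.toSubmodule K :=
      Submodule.span_le.2 (by
        rintro _ (rfl | rfl)
        · exact one_mem K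
        · exact hjK)
    have hli : LinearIndependent F ![(1 : Matrix (Fin n) (Fin n) F), j] :=
      (LinearIndependent.pair_iff' one_ne_zero).2 fun r e => hnsc r e.symm
    have hfr := finrank_span_eq_card hli
    rw [Fintype.card_fin, show Set.range ![(1 : Matrix (Fin n) (Fin n) F), j] = {1, j} by
      simp [Set.pair_comm]] at hfr
    have he := Submodule.eq_of_le_of_finrank_eq hle (by rw [hfr]; exact hK.finrank_eq.symm)
    intro k hk
    have : k ∈ Submodule.span F {(1 : Matrix (Fin n) (Fin n) F), j} := by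
      rw [he]; exact hk
    obtain ⟨p, q, h⟩ := Submodule.mem_span_pair.1 this
    exact ⟨p, q, h.symm⟩
  obtain ⟨c, hc⟩ := hsc j hjK
  obtain ⟨c', hc'⟩ := hsc (j + 1) (add_mem hjK (one_mem K))
  have A : OAnti Qf (Matrix.toLin' j) (c' - c - 1) c := by
    have hpol : ∀ x, polar Qf (j *ᵥ x) x = (c' - c - 1) * Qf x := fun x => by
      have h := hc' x
      rw [add_mulVec, one_mulVec] at h
      show Q (j *ᵥ x + x) - Q (j *ᵥ x) - Q x = _ * Q x
      rw [h, hc]; ring
    refine ⟨hsep, hc, hpol, fun r hr => ?_⟩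
    have hne : j + r • 1 ≠ 0 := fun e => hnsc (-r) (by rw [neg_smul]; exact eq_neg_of_add_eq_zero_left e)
    obtain ⟨y, -, hy⟩ := hK.inv _ (add_mem hjK (K.smul_mem (one_mem K) r)) hne
    have hQ0 : ∀ x, Qf x = 0 := fun x => by
      rw [show x = (j + r • 1) *ᵥ (y *ᵥ x) by rw [mulVec_mulVec, hy, one_mulVec], add_mulVec,
        smul_mulVec, one_mulVec, quad_map_add_smul, hpol, show Qf (j *ᵥ (y *ᵥ x)) = c * Qf (y *ᵥ x) from hc _]
      linear_combination (Qf (y *ᵥ x)) * hr
    have h1 : (Pi.single ⟨0, by omega⟩ (1 : F) : Fin n → F) = 0 :=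
      hsep _ fun z => by simp [QuadraticMap.polar, hQ0]
    simpa using congrFun h1 ⟨0, by omega⟩
  have hiff := mem_normalizer_iff (Q := Qf) hjK hspan hnsc
  refine omega_isMaximalIn_of Qf rfl _ ?_ fun M hM g hgM _ hgH => ?_
  · obtain ⟨g, hg, hgn⟩ := A.exists_move (by omega)
    exact ⟨g, hg, fun h => hgn ((hiff g).1 h)⟩
  · exact A.dichotomy (by omega) (fun v hv s => hM _ (OrthSub.siegel_mem_commutator hsep (by omega) _ _)
      ((hiff _).2 (A.siegel_comm hv s))) hgM fun h => hgH ((hiff g).2 h)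

end CfsgLib.MaxSub.OmegaUnitary
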