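import Mathlib

/-!
Orders of orthogonal groups over `F_q` and `F_{q^2}` at a prime with multiplicative order divisible by four, and the
primes dividing an orthogonal order.
-/

set_option autoImplicit false

namespace CfsgLib.MaxSub.OrthExt

/-- The factor of `|O(2k+2, q)|` belonging to the type. -/
def typeFactor (q k : ℕ) (b : Bool) : ℕ := if b then q ^ (k + 1) - 1 else q ^ (k + 1) + 1

/-- `|O(2k+2, q)|`. -/
def orderO (q k : ℕ) (b : Bool) : ℕ :=
  2 * q ^ ((k + 1) * k) * typeFactor q k b * ∏ i ∈ Finset.range k, (q ^ (2 * (i + 1)) - 1)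

theorem prod_split (q : ℕ) : ∀ m, ∏ i ∈ Finset.range (2 * m), (q ^ (2 * (i + 1)) - 1) =
    (∏ i ∈ Finset.range m, ((q ^ 2) ^ (2 * (i + 1)) - 1)) *
      ∏ i ∈ Finset.range m, (q ^ (2 * (2 * i + 1)) - 1) := by
  intro m
  induction m with
  | zero => simp
  | succ m ih =>
    rw [show 2 * (m + 1) = 2 * m + 1 + 1 by ring, Finset.prod_range_succ, Finset.prod_range_succ, ih,
      Finset.prod_range_succ, Finset.prod_range_succ, ← pow_mul, show 2 * (2 * (m + 1)) = 2 * (2 * m + 1 + 1) by ring]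
    ring

variable {q r i : ℕ} (hq : 2 ≤ q) [hr : Fact r.Prime] (hi : i = orderOf (q : ZMod r))

include hi in
theorem dvd_of_sub (hq1 : 1 ≤ q) {n : ℕ} (h : r ∣ q ^ n - 1) : i ∣ n := by
  rw [← ZMod.natCast_eq_zero_iff, Nat.cast_sub (Nat.one_le_pow _ _ hq1), sub_eq_zero, Nat.cast_pow, Nat.cast_one] at h
  exact hi ▸ orderOf_dvd_of_pow_eq_one h

include hi in
theorem dvd_of_add (hr2 : r ≠ 2) {n : ℕ} (h : r ∣ q ^ n + 1) : i ∣ 2 * n ∧ ¬ i ∣ n := by
  rw [← ZMod.natCast_eq_zero_iff, Nat.cast_add, Nat.cast_pow, Nat.cast_one] at h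
  have h1 : (q : ZMod r) ^ n = -1 := eq_neg_of_add_eq_zero_left h
  refine ⟨hi ▸ orderOf_dvd_of_pow_eq_one (by rw [mul_comm, pow_mul, h1, neg_one_sq]), fun hd => ?_⟩
  obtain ⟨t, rfl⟩ := hd
  rw [hi, pow_mul, pow_orderOf_eq_one, one_pow] at h1
  exact hr2 ((Nat.prime_dvd_prime_iff_eq hr.out Nat.prime_two).1
    ((ZMod.natCast_eq_zero_iff 2 r).1 (by push_cast; linear_combination h1)))

include hq hi in
/-- What a prime dividing the order says. -/
theorem dvd_orderO (hr2 : r ≠ 2) (hrq : ¬ r ∣ q) (hipos : 0 < i) {c k : ℕ}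
    (hc : c = if Even i then i else 2 * i) {b : Bool} (h : r ∣ orderO q k b) :
    c < 2 * (k + 1) ∨ (c = 2 * (k + 1) ∧ (b = true ↔ Odd i)) := by
  have hci : c ≤ 2 * i := by rw [hc]; split_ifs <;> omega
  rcases hr.out.dvd_mul.1 h with h | h
  swap
  · obtain ⟨j, hj, hjr⟩ := (Nat.prime_iff.1 hr.out).exists_mem_finset_dvd h
    have hd := dvd_of_sub hi (by omega) hjr
    have hj' := Finset.mem_range.1 hj
    left
    rw [hc]
    split_ifs with hev
    · have := Nat.le_of_dvd (by omega) hd; omega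
    · have := Nat.le_of_dvd (by omega) ((Nat.coprime_two_right.2 (Nat.not_even_iff_odd.1 hev)).dvd_of_dvd_mul_left hd)
      omega
  rcases hr.out.dvd_mul.1 h with h | h
  · rcases hr.out.dvd_mul.1 h with h | h
    · exact absurd ((Nat.prime_dvd_prime_iff_eq hr.out Nat.prime_two).1 h) hr2
    · exact absurd (hr.out.dvd_of_dvd_pow h) hrq
  cases b
  · obtain ⟨hd, hnd⟩ := dvd_of_add hi hr2 (n := k + 1) (by simpa [typeFactor] using h)
    have hev : Even i := by
      by_contra ho
      exact hnd ((Nat.coprime_two_right.2 (Nat.not_even_iff_odd.1 ho)).dvd_of_dvd_mul_left hd)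
    rw [hc, if_pos hev]
    rcases lt_or_eq_of_le (Nat.le_of_dvd (by omega) hd) with hl | he
    · exact Or.inl hl
    · exact Or.inr ⟨he, by simpa using hev⟩
  · have hd := dvd_of_sub hi (by omega) (n := k + 1) (by simpa [typeFactor] using h)
    have hle := Nat.le_of_dvd (by omega) hd
    by_cases hev : Even i
    · left; rw [hc, if_pos hev]; omega
    · rw [hc, if_neg hev]
      rcases lt_or_eq_of_le hle with hl | he
      · left; omega
      · exact Or.inr ⟨by omega, by simpa using Nat.not_even_iff_odd.1 hev⟩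

include hq hi in
/-- The index is prime to `r` when `4 ∣ i`. -/
theorem not_dvd_four (hr2 : r ≠ 2) (hrq : ¬ r ∣ q) (h4 : 4 ∣ i) {I k : ℕ} {b : Bool}
    (hodd : ∀ m, k = 2 * m →
      I * (2 * (q ^ 2) ^ (m ^ 2) * ∏ j ∈ Finset.range m, ((q ^ 2) ^ (2 * (j + 1)) - 1)) ∣ orderO q k b)
    (heven : ∀ m, k = 2 * m + 1 → I * orderO (q ^ 2) m b ∣ orderO q k b) : ¬ r ∣ I := by
  intro hI
  have hf : ∀ m, ¬ r ∣ ∏ j ∈ Finset.range m, (q ^ (2 * (2 * j + 1)) - 1) := fun m h => by
    obtain ⟨j, -, hj⟩ := (Nat.prime_iff.1 hr.out).exists_mem_finset_dvd h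
    have := h4.trans (dvd_of_sub hi (by omega) hj)
    omega
  have hpos : ∀ m, 0 < ∏ j ∈ Finset.range m, ((q ^ 2) ^ (2 * (j + 1)) - 1) := fun m =>
    Finset.prod_pos fun j _ => by
      have := Nat.one_lt_pow (n := 2 * (j + 1)) (by omega) (show 1 < q ^ 2 by nlinarith)
      omega
  have hcancel : ∀ {X Y Z : ℕ}, 0 < X → ¬ r ∣ Y → I * (Z * X) ∣ Y * X → False := fun {X Y Z} hX hY h => by
    refine hY (hI.trans (dvd_trans (dvd_mul_right I Z) ?_))
    rw [← mul_assoc] at h
    exact Nat.dvd_of_mul_dvd_mul_right hX h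
  have hrp : ∀ e, ¬ r ∣ 2 * q ^ e := fun e h => by
    rcases hr.out.dvd_mul.1 h with h | h
    · exact hr2 ((Nat.prime_dvd_prime_iff_eq hr.out Nat.prime_two).1 h)
    · exact hrq (hr.out.dvd_of_dvd_pow h)
  rcases Nat.even_or_odd' k with ⟨m, rfl | rfl⟩
  · refine hcancel (hpos m) (fun h => ?_) (Z := 2 * (q ^ 2) ^ (m ^ 2))
      (Y := 2 * q ^ ((2 * m + 1) * (2 * m)) * typeFactor q (2 * m) b *
        ∏ j ∈ Finset.range m, (q ^ (2 * (2 * j + 1)) - 1)) ?_
    · rcases hr.out.dvd_mul.1 h with h | h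
      · rcases hr.out.dvd_mul.1 h with h | h
        · exact hrp _ h
        · cases b
          · have := (dvd_of_add hi hr2 (n := 2 * m + 1) (by simpa [typeFactor] using h)).1
            have := h4.trans this
            omega
          · have := h4.trans (dvd_of_sub hi (by omega) (n := 2 * m + 1) (by simpa [typeFactor] using h))
            omega
      · exact hf m h
    · refine (hodd m rfl).trans (dvd_of_eq ?_)
      rw [orderO, prod_split]
      ring
  · have htf : typeFactor (q ^ 2) m b = typeFactor q (2 * m + 1) b := by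
      simp only [typeFactor]
      rw [← pow_mul, show 2 * m + 1 + 1 = 2 * (m + 1) by ring]
    have hX : 0 < typeFactor q (2 * m + 1) b := by
      have := Nat.one_lt_pow (n := 2 * m + 1 + 1) (by omega) (show 1 < q by omega)
      unfold typeFactor
      split_ifs <;> omega
    refine hcancel (Nat.mul_pos (hpos m) hX) (fun h => ?_) (Z := 2 * (q ^ 2) ^ ((m + 1) * m))
      (Y := 2 * q ^ ((2 * m + 1 + 1) * (2 * m + 1)) * (∏ j ∈ Finset.range m, (q ^ (2 * (2 * j + 1)) - 1)) *
        (q ^ (2 * (2 * m + 1)) - 1)) ?_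
    · rcases hr.out.dvd_mul.1 h with h | h
      · rcases hr.out.dvd_mul.1 h with h | h
        · exact hrp _ h
        · exact hf m h
      · have := h4.trans (dvd_of_sub hi (by omega) h)
        omega
    · refine (dvd_of_eq ?_).trans ((heven m rfl).trans (dvd_of_eq ?_))
      · rw [orderO, htf]; ring
      · rw [orderO, Finset.prod_range_succ, prod_split]
        ring

end CfsgLib.MaxSub.OrthExt
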