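import Cfsg.Agent.Lib.MaxSub.OrthExtGram
import Cfsg.Agent.Lib.Geom.NegOne
import Cfsg.Agent.Lib.Geom.OddInvol
import Cfsg.Agent.Lib.Geom.WittQuad

/-!
Conjugacy inside `Ω` through the spinor norm: adjusting a conjugating isometry by one that keeps the target inside
a prescribed set.
-/

set_option autoImplicit false

namespace CfsgLib.MaxSub.OrthExt

open CfsgLib CfsgLib.Classical CfsgLib.Geom
open QuadraticMap (polar)

universe u

variable {F : Type u} [Field F] [Finite F] {ι : Type} [Fintype ι] [DecidableEq ι] {Q : QuadraticForm F (ι → F)}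
  (hQ : ∀ z, (∀ y, polar Q z y = 0) → z = 0) (h2 : (2 : F) ≠ 0)

/-- The spinor homomorphism on linear isometries. -/
noncomputable def sp : ↥(quadIsoms Q) →* Multiplicative (ZMod 2) × SqClass F :=
  (spinorHom Q hQ (exGen_of_odd h2)).comp (orEquiv Q).toMonoidHom

theorem sp_refl {v : ι → F} (hv : Q v ≠ 0) :
    sp hQ h2 ⟨reflEquiv Q v hv, reflEquiv_mem Q v hv⟩ = (Multiplicative.ofAdd 1, sqClass hv) :=
  spinorHom_refl Q hQ _ _ hv (glOfEquiv_reflEquiv Q v hv)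

theorem sp_eq_one_iff (g : quadIsoms Q) : sp hQ h2 g = 1 ↔ orEquiv Q g ∈ Cfsg.Omega F (⇑Q) := by
  rw [omega_eq_ker_spinorHom Q hQ (exGen_of_odd h2), MonoidHom.mem_ker]
  rfl

/-- A reflection commutes with every isometry fixing or negating its vector. -/
theorem refl_comm {v : ι → F} (hv : Q v ≠ 0) {y : quadIsoms Q} {ε : F} (hε : ε * ε = 1) (hy : y.1 v = ε • v) :
    (⟨reflEquiv Q v hv, reflEquiv_mem Q v hv⟩ : quadIsoms Q)⁻¹ * y * ⟨reflEquiv Q v hv, reflEquiv_mem Q v hv⟩ = y := by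
  rw [mul_assoc, inv_mul_eq_iff_eq_mul]
  refine Subtype.ext (LinearEquiv.ext fun z => ?_)
  show y.1 (reflEquiv Q v hv z) = reflEquiv Q v hv (y.1 z)
  rw [reflEquiv_apply, reflEquiv_apply, map_sub, map_smul, hy, smul_smul]
  congr 2
  have h := polar_quadIsom (Q := Q) y.2 v z
  rw [hy, QuadraticMap.polar_smul_left, smul_eq_mul] at h
  rw [← h]
  linear_combination ((Q v)⁻¹ * polar Q v (y.1 z)) * hε

variable {S : Set ↥(quadIsoms Q)}

/-- If the set reaches every spinor value, conjugacy can be moved into `Ω`. -/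
theorem finish {x h y : quadIsoms Q} (hxy : h * x = y * h)
    (hcov : ∀ t, ∃ c, sp hQ h2 c = t ∧ c⁻¹ * y * c ∈ S) : ∃ g, sp hQ h2 g = 1 ∧ g⁻¹ * x * g ∈ S := by
  obtain ⟨c, hc, hS⟩ := hcov (sp hQ h2 h)
  refine ⟨h⁻¹ * c, by rw [map_mul, map_inv, hc, inv_mul_cancel], ?_⟩
  rwa [mul_inv_rev, inv_inv, show c⁻¹ * h * x * (h⁻¹ * c) = c⁻¹ * y * c by
    rw [mul_assoc c⁻¹ h x, hxy]; group]

/-- Products of reflections in vectors of all values reach every spinor value. -/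
theorem cover {y : quadIsoms Q} (hrot : ∀ a : F, a ≠ 0 → ∃ (v w : ι → F) (hv : Q v ≠ 0) (hw : Q w ≠ 0),
      IsSquare (Q v * Q w * a) ∧ ∀ z, y.1 (reflEquiv Q v hv (reflEquiv Q w hw z)) =
        reflEquiv Q v hv (reflEquiv Q w hw (y.1 z)))
    (hy : y ∈ S) {ρ : quadIsoms Q} (hρ : (sp hQ h2 ρ).1 = Multiplicative.ofAdd 1) (hρS : ρ⁻¹ * y * ρ ∈ S) :
    ∀ t, ∃ c, sp hQ h2 c = t ∧ c⁻¹ * y * c ∈ S := by
  have hcomm : ∀ s : SqClass F, ∃ c : quadIsoms Q, sp hQ h2 c = (1, s) ∧ c⁻¹ * y * c = y := by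
    intro s
    obtain ⟨u, rfl⟩ := sqProj_surjective F s
    obtain ⟨v, w, hv, hw, hsq, hz⟩ := hrot u u.ne_zero
    refine ⟨⟨reflEquiv Q v hv, reflEquiv_mem Q v hv⟩ * ⟨reflEquiv Q w hw, reflEquiv_mem Q w hw⟩, ?_, ?_⟩
    · rw [map_mul, sp_refl, sp_refl, Prod.mk_mul_mk, ← sqClass_mul]
      refine Prod.ext (show Multiplicative.ofAdd (1 : ZMod 2) * Multiplicative.ofAdd 1 = 1 by decide) ?_
      have h1 : sqClass (mul_ne_zero (mul_ne_zero hv hw) u.ne_zero) = 1 := (sqClass_eq_one_iff _).2 hsq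
      rw [sqClass_mul (mul_ne_zero hv hw) u.ne_zero] at h1
      have h3 : sqClass (F := F) u.ne_zero = sqProj F u := by simp [sqClass]
      show sqClass _ = sqProj F u
      rw [← h3, eq_inv_of_mul_eq_one_left h1]
      exact (eq_inv_of_mul_eq_one_left (sqClass_mul_self _)).symm
    · rw [mul_assoc, inv_mul_eq_iff_eq_mul]
      exact Subtype.ext (LinearEquiv.ext fun z => hz z)
  rintro ⟨e, s⟩
  have h0 : ∀ e : Multiplicative (ZMod 2), e = 1 ∨ e = Multiplicative.ofAdd (1 : ZMod 2) := by decide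
  rcases h0 e with rfl | rfl
  · obtain ⟨c, hc, hcy⟩ := hcomm s
    exact ⟨c, hc, hcy.symm ▸ hy⟩
  · obtain ⟨c, hc, hcy⟩ := hcomm (s * (sp hQ h2 ρ).2)
    refine ⟨c * ρ, ?_, ?_⟩
    · rw [map_mul, hc]
      refine Prod.ext ?_ ?_
      · show 1 * (sp hQ h2 ρ).1 = _
        rw [one_mul, hρ]
      · show s * (sp hQ h2 ρ).2 * (sp hQ h2 ρ).2 = s
        rw [mul_assoc, sqClass_mul_self, mul_one]
    · rwa [mul_inv_rev, show ρ⁻¹ * c⁻¹ * y * (c * ρ) = ρ⁻¹ * (c⁻¹ * y * c) * ρ by group, hcy]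

include h2 in
omit [Finite F] [DecidableEq ι] in
/-- Involutive isometries conjugate through their negated spaces. -/
theorem conj_invol (hQ : ∀ z, (∀ y, polar Q z y = 0) → z = 0) {x y h : quadIsoms Q}
    (hxx : ∀ z, x.1 (x.1 z) = z) (hyy : ∀ z, y.1 (y.1 z) = z) (hN : ∀ z, x.1 z = -z → y.1 (h.1 z) = -h.1 z)
    (hN' : ∀ n, y.1 n = -n → ∃ z, x.1 z = -z ∧ h.1 z = n) : h * x = y * h := by
  refine Subtype.ext (LinearEquiv.ext fun z => ?_)
  show h.1 (x.1 z) = y.1 (h.1 z)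
  have hm : y.1 (h.1 (z - x.1 z)) = -h.1 (z - x.1 z) := hN _ (by rw [map_sub, hxx, neg_sub])
  obtain ⟨u, hu⟩ : ∃ u, u = h.1 (z + x.1 z) := ⟨_, rfl⟩
  have hun : ∀ n, y.1 n = -n → polar Q u n = 0 := fun n hn => by
    obtain ⟨t, ht, rfl⟩ := hN' n hn
    rw [hu, polar_quadIsom h.2]
    have h1 := polar_quadIsom (Q := Q) x.2 (z + x.1 z) t
    rw [map_add, hxx, ht, add_comm, QuadraticMap.polar_neg_right] at h1
    exact (mul_eq_zero.1 (show (2 : F) * polar Q (z + x.1 z) t = 0 by linear_combination -h1)).resolve_left h2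
  have hyu : u - y.1 u = 0 := hQ _ fun w => by
    have h1 : polar Q (u - y.1 u) (w + y.1 w) = 0 := by
      have e1 := polar_quadIsom (Q := Q) y.2 u (w + y.1 w)
      rw [map_add, hyy, add_comm (y.1 w) w] at e1
      rw [QuadraticMap.polar_sub_left, e1, sub_self]
    have h3 : polar Q (u - y.1 u) (w - y.1 w) = 0 := by
      have e1 := polar_quadIsom (Q := Q) y.2 u (w - y.1 w)
      have hn : y.1 (w - y.1 w) = -(w - y.1 w) := by rw [map_sub, hyy, neg_sub]
      rw [hn, QuadraticMap.polar_neg_right, hun _ hn, neg_eq_zero] at e1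
      rw [QuadraticMap.polar_sub_left, hun _ hn, e1, sub_self]
    have h4 : polar Q (u - y.1 u) ((2 : F) • w) = 0 := by
      rw [show (2 : F) • w = (w + y.1 w) + (w - y.1 w) by rw [two_smul]; abel, QuadraticMap.polar_add_right, h1, h3,
        add_zero]
    rw [QuadraticMap.polar_smul_right, smul_eq_mul] at h4
    exact (mul_eq_zero.1 h4).resolve_left h2
  have hu' : y.1 (h.1 (z + x.1 z)) = h.1 (z + x.1 z) := hu ▸ (sub_eq_zero.1 hyu).symm
  refine smul_right_injective (ι → F) h2 ?_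
  rw [map_sub, map_sub] at hm
  rw [map_add, map_add] at hu'
  show (2 : F) • h.1 (x.1 z) = (2 : F) • y.1 (h.1 z)
  linear_combination (norm := module) -hu' - hm

end CfsgLib.MaxSub.OrthExt
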