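import Cfsg.Agent.Lib.MaxSub.OrthExtGram

/-!
A quadratic extension `L = F(θ)`, `θ ^ 2 = δ` a non-square: coordinates, conjugation, norm and squares.
-/

set_option autoImplicit false

namespace CfsgLib.MaxSub.OrthExt

open CfsgLib.Geom

universe u w

variable {F : Type u} [Field F] {L : Type w} [Field L] [Algebra F L] {θ : L} {δ : F}

/-- `L` is `F(θ)` with `θ ^ 2 = δ` a non-square. -/
structure QE (θ : L) (δ : F) : Prop where
  sq : θ * θ = algebraMap F L δ
  span : ∀ t : L, ∃ a b : F, t = algebraMap F L a + algebraMap F L b * θ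
  nonsq : ∀ c : F, c * c ≠ δ

/-- `algebraMap a + algebraMap b * θ`. -/
def el (θ : L) (a b : F) : L := algebraMap F L a + algebraMap F L b * θ

variable (E : QE θ δ)

/-- The first coordinate. -/
noncomputable def QE.re (t : L) : F := (E.span t).choose

/-- The second coordinate. -/
noncomputable def QE.im (t : L) : F := (E.span t).choose_spec.choose

namespace QE

include E in
theorem δ_ne : δ ≠ 0 := fun h => E.nonsq 0 (by rw [mul_zero, h])

theorem eq_el (t : L) : t = el θ (E.re t) (E.im t) := (E.span t).choose_spec.choose_spec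

include E in
theorem indep {a b a' b' : F} (h : el θ a b = el θ a' b') : a = a' ∧ b = b' := by
  unfold el at h
  by_cases hb : b = b'
  · subst hb
    exact ⟨(algebraMap F L).injective (add_right_cancel h), rfl⟩
  refine absurd ?_ (E.nonsq ((a' - a) / (b - b')))
  have hne : algebraMap F L (b - b') ≠ 0 := (map_ne_zero _).2 (sub_ne_zero.2 hb)
  have hθeq : θ = algebraMap F L ((a' - a) / (b - b')) := by
    rw [map_div₀, eq_div_iff hne, map_sub, map_sub]
    linear_combination h
  exact (algebraMap F L).injective (by rw [map_mul, ← hθeq, E.sq])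

theorem re_el (a b : F) : E.re (el θ a b) = a := (E.indep (E.eq_el (el θ a b))).1.symm

theorem im_el (a b : F) : E.im (el θ a b) = b := (E.indep (E.eq_el (el θ a b))).2.symm

omit E in
theorem el_add (a b a' b' : F) : el θ a b + el θ a' b' = el θ (a + a') (b + b') := by
  simp only [el, map_add]; ring

include E in
theorem el_mul (a b a' b' : F) : el θ a b * el θ a' b' = el θ (a * a' + δ * (b * b')) (a * b' + b * a') := by
  simp only [el, map_add, map_mul]
  linear_combination (algebraMap F L b * algebraMap F L b') * E.sq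

omit E in
theorem el_alg (a : F) : el θ a 0 = algebraMap F L a := by simp [el]

omit E in
theorem el_θ : el θ (0 : F) 1 = θ := by simp [el]

omit E in
theorem smul_el (c a b : F) : c • el θ a b = el θ (c * a) (c * b) := by
  simp only [Algebra.smul_def, el, map_mul]; ring

theorem re_add (t t' : L) : E.re (t + t') = E.re t + E.re t' := by
  conv_lhs => rw [E.eq_el t, E.eq_el t', el_add]
  exact E.re_el _ _

theorem re_smul (c : F) (t : L) : E.re (c • t) = c * E.re t := by
  conv_lhs => rw [E.eq_el t, smul_el]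
  exact E.re_el _ _

theorem re_alg (a : F) : E.re (algebraMap F L a) = a := by rw [← el_alg (θ := θ), E.re_el]

theorem re_θ : E.re θ = 0 := by
  have h := E.re_el (0 : F) 1
  rwa [el_θ] at h

/-- The first coordinate as a linear map. -/
noncomputable def reL : L →ₗ[F] F where
  toFun := E.re
  map_add' := E.re_add
  map_smul' := E.re_smul

theorem reL_apply (t : L) : E.reL t = E.re t := rfl

/-- The conjugation. -/
noncomputable def conj (t : L) : L := el θ (E.re t) (-E.im t)

theorem conj_el (a b : F) : E.conj (el θ a b) = el θ a (-b) := by rw [conj, E.re_el, E.im_el]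

theorem conj_add (t t' : L) : E.conj (t + t') = E.conj t + E.conj t' := by
  rw [E.eq_el t, E.eq_el t', el_add, E.conj_el, E.conj_el, E.conj_el, el_add, neg_add]

theorem conj_mul (t t' : L) : E.conj (t * t') = E.conj t * E.conj t' := by
  rw [E.eq_el t, E.eq_el t', E.el_mul, E.conj_el, E.conj_el, E.conj_el, E.el_mul]
  congr 1 <;> ring

theorem conj_conj (t : L) : E.conj (E.conj t) = t := by
  rw [E.eq_el t, E.conj_el, E.conj_el, neg_neg]

theorem conj_alg (a : F) : E.conj (algebraMap F L a) = algebraMap F L a := by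
  rw [← el_alg (θ := θ), E.conj_el, neg_zero]

theorem conj_θ : E.conj θ = -θ := by
  have h := E.conj_el (0 : F) 1
  rw [el_θ] at h
  rw [h]
  simp [el]

theorem conj_smul (c : F) (t : L) : E.conj (c • t) = c • E.conj t := by
  rw [Algebra.smul_def, E.conj_mul, E.conj_alg, Algebra.smul_def]

theorem re_conj (t : L) : E.re (E.conj t) = E.re t := by rw [conj, E.re_el]

/-- The norm. -/
noncomputable def nrm (t : L) : F := E.re t * E.re t - δ * (E.im t * E.im t)

theorem nrm_eq (t : L) : algebraMap F L (E.nrm t) = t * E.conj t := by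
  rw [← el_alg (θ := θ)]
  conv_rhs => rw [E.eq_el t, E.conj_el, E.el_mul]
  unfold nrm
  congr 1 <;> ring

theorem nrm_mul (t t' : L) : E.nrm (t * t') = E.nrm t * E.nrm t' := by
  apply (algebraMap F L).injective
  rw [map_mul, E.nrm_eq, E.nrm_eq, E.nrm_eq, E.conj_mul]
  ring

theorem nrm_one : E.nrm 1 = 1 := by
  apply (algebraMap F L).injective
  rw [E.nrm_eq, map_one, one_mul, ← map_one (algebraMap F L), E.conj_alg]

theorem nrm_prod {ι : Type*} (s : Finset ι) (c : ι → L) : E.nrm (∏ i ∈ s, c i) = ∏ i ∈ s, E.nrm (c i) := by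
  classical
  induction s using Finset.induction_on with
  | empty => simp [E.nrm_one]
  | insert i s hi ih => rw [Finset.prod_insert hi, Finset.prod_insert hi, E.nrm_mul, ih]

theorem nrm_ne {t : L} (ht : t ≠ 0) : E.nrm t ≠ 0 := fun h => by
  have h1 := E.nrm_mul t t⁻¹
  rw [mul_inv_cancel₀ ht, E.nrm_one, h, zero_mul] at h1
  exact one_ne_zero h1

variable [Fintype F]

include E in
/-- `L` has `q ^ 2` elements. -/
theorem card_eq [Fintype L] : Fintype.card L = Fintype.card F ^ 2 := by
  rw [pow_two, ← Fintype.card_prod]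
  exact Fintype.card_congr
    { toFun := fun t => (E.re t, E.im t)
      invFun := fun ab => el θ ab.1 ab.2
      left_inv := fun t => (E.eq_el t).symm
      right_inv := fun ab => Prod.ext (E.re_el _ _) (E.im_el _ _) }

include E in
/-- `L` is two-dimensional. -/
theorem finrank_eq [Fintype L] : Module.finrank F L = 2 := by
  haveI : FiniteDimensional F L := Module.Finite.of_finite
  have h := Module.card_eq_pow_finrank (K := F) (V := L)
  rw [E.card_eq] at h
  exact (Nat.pow_right_injective Fintype.one_lt_card h).symm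

include E in
/-- Every element of `F` is a square in `L`. -/
theorem isSquare_alg (h2 : (2 : F) ≠ 0) (a : F) : IsSquare (algebraMap F L a) := by
  classical
  by_cases ha : IsSquare a
  · obtain ⟨s, rfl⟩ := ha; exact ⟨algebraMap F L s, map_mul _ _ _⟩
  have ha0 : a ≠ 0 := fun h => ha (h ▸ ⟨0, (mul_zero 0).symm⟩)
  have hch : ringChar F ≠ 2 := fun hc => h2 (by
    have := ringChar.charP F
    rw [hc] at this
    exact_mod_cast CharP.cast_eq_zero F 2)
  have hδs : ¬ IsSquare δ := fun ⟨c, hc⟩ => E.nonsq c hc.symm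
  have h1 : IsSquare (a * δ) := by
    rw [← quadraticChar_one_iff_isSquare (mul_ne_zero ha0 E.δ_ne), map_mul,
      quadraticChar_neg_one_iff_not_isSquare.2 ha, quadraticChar_neg_one_iff_not_isSquare.2 hδs]
    norm_num
  obtain ⟨s, hs⟩ := h1
  refine ⟨algebraMap F L (s / δ) * θ, ?_⟩
  rw [mul_mul_mul_comm, E.sq, ← map_mul, ← map_mul]
  congr 1
  have := E.δ_ne
  field_simp
  linear_combination hs

include E in
/-- An element is a square exactly when its norm is. -/
theorem isSquare_iff (h2 : (2 : F) ≠ 0) {t : L} : IsSquare t ↔ IsSquare (E.nrm t) := by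
  refine ⟨fun ⟨s, hs⟩ => ⟨E.nrm s, by rw [hs, E.nrm_mul]⟩, fun ⟨s, hs⟩ => ?_⟩
  obtain ⟨S, hS⟩ : ∃ S, S = algebraMap F L s := ⟨_, rfl⟩
  have hN : t * E.conj t = S * S := by rw [← E.nrm_eq, hs, map_mul, hS]
  by_cases h0 : t + S = 0
  · rw [eq_neg_of_add_eq_zero_left h0, hS, ← map_neg]
    exact E.isSquare_alg h2 _
  obtain ⟨m, hm⟩ : ∃ m : F, t + E.conj t + 2 * S = algebraMap F L m := by
    refine ⟨2 * E.re t + 2 * s, ?_⟩
    conv_lhs => rw [E.eq_el t, E.conj_el, hS]
    simp only [el, map_add, map_mul, map_neg, map_ofNat]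
    ring
  have hmul : (t + S) * (t + S) = t * algebraMap F L m := by
    rw [← hm]; linear_combination -hN
  obtain ⟨b, hb⟩ := E.isSquare_alg h2 m
  have hb0 : b ≠ 0 := fun h => by
    rw [hb, h, mul_zero, mul_zero, mul_self_eq_zero] at hmul
    exact h0 hmul
  refine ⟨(t + S) / b, ?_⟩
  rw [hb] at hmul
  field_simp
  linear_combination -hmul

/-- Every element of `F` is a norm. -/
theorem exists_nrm (h2 : (2 : F) ≠ 0) (c : F) : ∃ t : L, E.nrm t = c := by
  obtain ⟨a, b, hab⟩ := exists_binary_eq h2 (one_ne_zero (α := F)) (neg_ne_zero.2 E.δ_ne) c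
  refine ⟨el θ a b, ?_⟩
  rw [nrm, E.re_el, E.im_el]
  linear_combination hab

omit [Fintype F] in
/-- An orthogonal pair in a line, and the class of its discriminant. -/
theorem exists_pair (h2 : (2 : F) ≠ 0) {c : L} (hc : c ≠ 0) :
    ∃ t t' : L, E.re (c * t * t') = 0 ∧ E.re (c * t * t) ≠ 0 ∧ E.re (c * t' * t') ≠ 0 ∧
      IsSquare (2 * E.re (c * t * t) * (2 * E.re (c * t' * t')) * (δ * E.nrm c)) := by
  have hθ : θ ≠ 0 := fun h => E.δ_ne ((algebraMap F L).injective (by rw [map_zero, ← E.sq, h, mul_zero]))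
  obtain ⟨t, ht⟩ : ∃ t : L, E.re (c * t * t) ≠ 0 := by
    by_cases h : E.re c = 0
    · refine ⟨el θ (1 : F) 1, ?_⟩
      have him : E.im c ≠ 0 := fun h' => hc (by rw [E.eq_el c, h, h']; simp [el])
      have e : c = el θ 0 (E.im c) := by conv_lhs => rw [E.eq_el c, h]
      rw [e, E.el_mul, E.el_mul, E.re_el]
      intro h'
      refine mul_ne_zero (mul_ne_zero h2 E.δ_ne) him ?_
      linear_combination h'
    · exact ⟨1, by simpa using h⟩
  have ht0 : t ≠ 0 := fun h => ht (by rw [h, mul_zero, ← map_zero (algebraMap F L), E.re_alg])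
  have hT : c * t * t ≠ 0 := mul_ne_zero (mul_ne_zero hc ht0) ht0
  have hre : E.re (c * (θ / (c * t)) * (θ / (c * t))) = δ * E.re (c * t * t) / E.nrm (c * t * t) := by
    have e : c * (θ / (c * t)) * (θ / (c * t)) = (δ / E.nrm (c * t * t)) • E.conj (c * t * t) := by
      have hσ : E.conj (c * t * t) ≠ 0 := fun h =>
        hT (by rw [← E.conj_conj (c * t * t), h, ← map_zero (algebraMap F L), E.conj_alg])
      rw [Algebra.smul_def, map_div₀, E.nrm_eq]
      field_simp at hσ ⊢
      linear_combination E.sq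
    rw [e, E.re_smul, E.re_conj]
    ring
  refine ⟨t, θ / (c * t), ?_, ht, ?_, ?_⟩
  · rw [mul_div_cancel₀ _ (mul_ne_zero hc ht0), E.re_θ]
  · rw [hre]
    exact div_ne_zero (mul_ne_zero E.δ_ne ht) (E.nrm_ne hT)
  · rw [hre]
    refine ⟨2 * δ * E.re (c * t * t) / E.nrm t, ?_⟩
    rw [E.nrm_mul, E.nrm_mul]
    have := E.nrm_ne hc
    have := E.nrm_ne ht0
    field_simp

end QE

end CfsgLib.MaxSub.OrthExt
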