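import Cfsg.Agent.Lib.MaxSub.OrthExtMain

/-!
The criterion for a self-adjoint quadratic field of matrices.
-/

set_option autoImplicit false

namespace CfsgLib.MaxSub.OrthExt

open CfsgLib CfsgLib.Classical CfsgLib.Geom Matrix
open QuadraticMap (polar)

universe u

variable {F : Type u} [Field F] [Fintype F] {ι : Type} [Fintype ι] [DecidableEq ι]

/-- A copy of the subalgebra to carry the field structure. -/
def FieldOfSub (K : Subalgebra F (Matrix ι ι F)) : Type _ := ↥K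

/-- The criterion for fields of matrices. -/
theorem of_field {Q : QuadraticForm F (ι → F)} {p : ℕ} [Fact p.Prime] [CharP F p]
    (hQ : ∀ z, (∀ y, polar Q z y = 0) → z = 0) (hodd : Odd (Fintype.card F)) {d : ℕ}
    (hcard : Fintype.card ι = 2 * d) (hd : 4 ≤ d) (K : Subalgebra F (Matrix ι ι F))
    (hK : Cfsg.Geo.IsFieldSubalgebra 2 K) (hKf : Cfsg.Geo.IsSelfAdjointFor (polar (⇑Q)) K)
    {r : ℕ} [Fact r.Prime]
    (hΩ : r ∣ (Cfsg.Geo.subalgebraNormalizer K).relIndex (Cfsg.Geo.omegaGL (⇑Q))) :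
    (∀ x ∈ Cfsg.Geo.omegaGL (⇑Q), (∃ z : F, ((x ^ r : GL ι F) : Matrix ι ι F) = z • (1 : Matrix ι ι F)) →
      (∀ z : F, (x : Matrix ι ι F) ≠ z • (1 : Matrix ι ι F)) →
      ∃ g ∈ Cfsg.Geo.omegaGL (⇑Q), g⁻¹ * x * g ∈ Cfsg.Geo.subalgebraNormalizer K) ↔ r = 2 := by
  classical
  haveI : Nonempty ι := Fintype.card_pos_iff.1 (by omega)
  have h2 : (2 : F) ≠ 0 := fun h => (Nat.not_even_iff_odd.2 hodd) (Nat.even_iff.2 (FiniteField.even_card_of_char_two (by
    haveI := (CharP.charP_iff_prime_eq_zero Nat.prime_two).2 (by exact_mod_cast h : ((2 : ℕ) : F) = 0)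
    exact ringChar.eq F 2)))
  haveI : NeZero (2 : F) := ⟨h2⟩
  obtain ⟨j₀, hj₀K, hj₀⟩ : ∃ j₀ ∈ K, ∀ c : F, j₀ ≠ c • (1 : Matrix ι ι F) := by
    by_contra h
    push Not at h
    have hle : Subalgebra.toSubmodule K ≤ Submodule.span F {(1 : Matrix ι ι F)} := fun k hk => by
      obtain ⟨c, rfl⟩ := h k hk
      exact Submodule.smul_mem _ c (Submodule.mem_span_singleton_self _)
    have h1 := Submodule.finrank_mono hle
    rw [finrank_span_singleton (one_ne_zero (α := Matrix ι ι F)),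
      show Module.finrank F ↥(Subalgebra.toSubmodule K) = 2 from hK.finrank_eq] at h1
    omega
  have hspan₀ : ∀ k ∈ K, ∃ a b : F, k = a • 1 + b • j₀ := by
    have hle : Submodule.span F {(1 : Matrix ι ι F), j₀} ≤ Subalgebra.toSubmodule K := Submodule.span_le.2 (by
      rintro _ (rfl | rfl)
      · exact one_mem K
      · exact hj₀K)
    have hli : LinearIndependent F ![(1 : Matrix ι ι F), j₀] :=
      (LinearIndependent.pair_iff' one_ne_zero).2 fun c e => hj₀ c e.symm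
    have hfr := finrank_span_eq_card hli
    rw [Fintype.card_fin, show Set.range ![(1 : Matrix ι ι F), j₀] = {1, j₀} by simp [Set.pair_comm]] at hfr
    have he := Submodule.eq_of_le_of_finrank_eq hle (by rw [hfr]; exact hK.finrank_eq.symm)
    intro k hk
    have : k ∈ Submodule.span F {(1 : Matrix ι ι F), j₀} := by rw [he]; exact hk
    obtain ⟨a, b, h⟩ := Submodule.mem_span_pair.1 this
    exact ⟨a, b, h.symm⟩
  obtain ⟨a, b, hab⟩ := hspan₀ _ (mul_mem hj₀K hj₀K)
  obtain ⟨j, hj⟩ : ∃ j, j = j₀ - (b / 2) • (1 : Matrix ι ι F) := ⟨_, rfl⟩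
  have hjK : j ∈ K := hj ▸ sub_mem hj₀K (K.smul_mem (one_mem K) _)
  have hnsc : ∀ c : F, j ≠ c • 1 := fun c e => hj₀ (c + b / 2) (by
    rw [add_smul, ← e, hj, sub_add_cancel])
  obtain ⟨δ, hδdef⟩ : ∃ δ, δ = a + b / 2 * (b / 2) := ⟨_, rfl⟩
  have hδ : j * j = δ • 1 := by
    rw [hj, Matrix.sub_mul, Matrix.mul_sub, Matrix.mul_sub, hab, Matrix.mul_smul, Matrix.mul_one, Matrix.smul_mul,
      Matrix.one_mul, Matrix.smul_mul, Matrix.one_mul, smul_smul, hδdef, add_smul]
    have hb : b • j₀ = (b / 2) • j₀ + (b / 2) • j₀ := by rw [← add_smul, add_halves]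
    rw [hb]
    abel
  have hspan : ∀ k ∈ K, ∃ a b : F, k = a • 1 + b • j := fun k hk => by
    obtain ⟨u, v, rfl⟩ := hspan₀ k hk
    exact ⟨u + v * (b / 2), v, by rw [hj, smul_sub, smul_smul, add_smul]; abel⟩
  have A : SelfAdj Q (Matrix.toLinAlgEquiv' j) δ := by
    refine ⟨hQ, fun u v => ?_, fun v => ?_, fun c hc => ?_⟩
    · rw [Matrix.toLinAlgEquiv'_apply, Matrix.toLinAlgEquiv'_apply]; exact hKf j hjK u v
    · rw [Matrix.toLinAlgEquiv'_apply, Matrix.toLinAlgEquiv'_apply, mulVec_mulVec, hδ, smul_mulVec, one_mulVec]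
    have hzero : (j + c • 1) * (j - c • 1) = 0 := by
      rw [Matrix.add_mul, Matrix.mul_sub, Matrix.mul_sub, hδ, Matrix.mul_smul, Matrix.mul_one,
        Matrix.smul_mul, Matrix.one_mul, Matrix.smul_mul, Matrix.one_mul, smul_smul, hc]
      abel
    have hne : j + c • 1 ≠ 0 := fun e => hnsc (-c) (by rw [neg_smul]; exact eq_neg_of_add_eq_zero_left e)
    obtain ⟨y, hy, hxy⟩ := hK.inv _ (add_mem hjK (K.smul_mem (one_mem K) c)) hne
    refine hnsc c (sub_eq_zero.1 ?_)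
    have := congrArg (y * ·) hzero
    simp only [← Matrix.mul_assoc, Matrix.mul_zero] at this
    rwa [hK.comm y hy _ (add_mem hjK (K.smul_mem (one_mem K) c)), hxy, Matrix.one_mul] at this
  have hF : IsField K :=
    { exists_pair_ne := ⟨0, 1, zero_ne_one⟩
      mul_comm := fun x y => Subtype.ext (hK.comm x x.2 y y.2)
      mul_inv_cancel := fun {a} ha => by
        obtain ⟨y, hy, hxy⟩ := hK.inv a a.2 fun e => ha (Subtype.ext e)
        exact ⟨⟨y, hy⟩, Subtype.ext hxy⟩ }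
  letI : Field (FieldOfSub K) := hF.toField
  letI : Algebra F (FieldOfSub K) := (inferInstance : Algebra F ↥K)
  letI : Module (FieldOfSub K) (ι → F) := Module.compHom (ι → F)
    (((Matrix.toLinAlgEquiv' : Matrix ι ι F ≃ₐ[F] _).toRingEquiv.toRingHom.comp
      K.val.toRingHom : ↥K →+* Module.End F (ι → F)) : FieldOfSub K →+* Module.End F (ι → F))
  haveI : Finite (FieldOfSub K) := (inferInstance : Finite ↥K)
  haveI := Fintype.ofFinite (FieldOfSub K)
  haveI : IsScalarTower F (FieldOfSub K) (ι → F) := ⟨fun c a x => by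
    show (c • (a : ↥K) : ↥K).1 *ᵥ x = c • ((a : ↥K).1 *ᵥ x)
    exact Matrix.smul_mulVec c (a : ↥K).1 x⟩
  have halgval : ∀ a : F, ((algebraMap F (FieldOfSub K) a : ↥K)).1 = a • (1 : Matrix ι ι F) :=
    fun a => Algebra.algebraMap_eq_smul_one a
  have E : QE (L := FieldOfSub K) ((⟨j, hjK⟩ : ↥K) : FieldOfSub K) δ := by
    refine ⟨Subtype.ext ?_, fun t => ?_, A.nonsq⟩
    · rw [halgval]; exact hδ
    · obtain ⟨c₀, c₁, h⟩ := hspan _ (t : ↥K).2
      refine ⟨c₀, c₁, Subtype.ext ?_⟩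
      show (t : ↥K).1 = (algebraMap F (FieldOfSub K) c₀ : ↥K).1 + (algebraMap F (FieldOfSub K) c₁ : ↥K).1 * j
      rw [h, halgval, halgval, smul_mul_assoc, one_mul]
  exact main (L := FieldOfSub K) A hjK hspan (by rw [Module.finrank_fintype_fun_eq_card, hcard]) E
    (fun v => (Matrix.toLinAlgEquiv'_apply j v).symm) (p := p) h2 hd hΩ

end CfsgLib.MaxSub.OrthExt
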