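import Cfsg.Agent.Lib.MaxSub.IsoType
import Cfsg.Agent.Lib.Geom.PlusType
import Cfsg.Agent.Lib.Geom.FormClass

/-!
Discriminant classes of quadratic forms through orthogonal families, and orthonormal families adapted to a square
root of `-1`.
-/

set_option autoImplicit false

namespace CfsgLib.MaxSub.OrthExt

open CfsgLib CfsgLib.Classical CfsgLib.Geom CfsgLib.KnownC CfsgLib.KnownC.OrthType
open QuadraticMap (polar)

universe u v w x y

variable {F : Type u} [Field F] {V : Type v} [AddCommGroup V] [Module F V]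

theorem sq_trans {a b c : F} (hb : b ≠ 0) (h₁ : IsSquare (a * b)) (h₂ : IsSquare (b * c)) : IsSquare (a * c) := by
  obtain ⟨s, hs⟩ := h₁
  obtain ⟨t, ht⟩ := h₂
  refine ⟨s * t / b, ?_⟩
  field_simp
  linear_combination (b * c) * hs + (s * s) * ht

theorem sq_cancel {a s : F} (hs : s ≠ 0) (h : IsSquare (s * s * a)) : IsSquare a := by
  obtain ⟨t, ht⟩ := h
  refine ⟨t / s, ?_⟩
  field_simp
  linear_combination ht

theorem sq_extend {a s : F} (h : IsSquare a) : IsSquare (s * s * a) := IsSquare.mul ⟨s, rfl⟩ h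

/-- An anisotropic orthogonal family. -/
structure OFam (Q : QuadraticForm F V) {ι : Type w} (v : ι → V) : Prop where
  orth : ∀ i k, i ≠ k → polar Q (v i) (v k) = 0
  ne : ∀ i, Q (v i) ≠ 0

namespace OFam

variable {Q : QuadraticForm F V} {ι : Type w} {v : ι → V}

theorem indep (O : OFam Q v) (h2 : (2 : F) ≠ 0) : LinearIndependent F v := by
  classical
  rw [linearIndependent_iff']
  intro s g hg i hi
  have h := congrArg (fun z => Q.polarBilin (v i) z) hg
  simp only [map_sum, map_smul, map_zero, QuadraticMap.polarBilin_apply_apply] at h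
  rw [Finset.sum_eq_single i (fun k _ hk => by rw [O.orth i k hk.symm, smul_zero]) (fun h => absurd hi h),
    polar_self_two, smul_eq_mul] at h
  exact (mul_eq_zero.1 h).resolve_right (mul_ne_zero h2 (O.ne i))

theorem exists_basis [Fintype ι] [FiniteDimensional F V] (O : OFam Q v) (h2 : (2 : F) ≠ 0)
    (hc : Fintype.card ι = Module.finrank F V) : ∃ b : Module.Basis ι F V, ⇑b = v := by
  rcases isEmpty_or_nonempty ι with h | h
  · haveI : Subsingleton V := Module.finrank_zero_iff.1 (hc ▸ Fintype.card_eq_zero)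
    exact ⟨Module.Basis.empty V, funext fun i => h.elim i⟩
  · exact ⟨basisOfLinearIndependentOfCardEqFinrank (O.indep h2) hc,
      coe_basisOfLinearIndependentOfCardEqFinrank _ _⟩

theorem prod_ne [Fintype ι] (O : OFam Q v) : ∏ i, Q (v i) ≠ 0 := Finset.prod_ne_zero_iff.2 fun i _ => O.ne i

end OFam

/-- `a` represents the discriminant class of `Q`. -/
def Disc (Q : QuadraticForm F V) (a : F) : Prop :=
  ∃ (n : ℕ) (v : Fin n → V), OFam Q v ∧ n = Module.finrank F V ∧ IsSquare ((∏ i, Q (v i)) * a)

theorem disc_of_fam {Q : QuadraticForm F V} {ι : Type w} [Fintype ι] {v : ι → V} (O : OFam Q v)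
    (hc : Fintype.card ι = Module.finrank F V) {a : F} (ha : IsSquare ((∏ i, Q (v i)) * a)) : Disc Q a := by
  refine ⟨_, fun k => v ((Fintype.equivFinOfCardEq hc).symm k),
    ⟨fun i k h => O.orth _ _ fun e => h ((Fintype.equivFinOfCardEq hc).symm.injective e), fun i => O.ne _⟩, rfl, ?_⟩
  rwa [Equiv.prod_comp (Fintype.equivFinOfCardEq hc).symm fun i => Q (v i)]

theorem disc_congr {W : Type y} [AddCommGroup W] [Module F W] {Q : QuadraticForm F V} {R : QuadraticForm F W}
    (e : V ≃ₗ[F] W) (he : ∀ z, R (e z) = Q z) {a : F} (h : Disc Q a) : Disc R a := by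
  obtain ⟨n, v, O, hn, ha⟩ := h
  refine ⟨n, fun i => e (v i), ⟨fun i k hik => ?_, fun i => by rw [he]; exact O.ne i⟩, hn.trans e.finrank_eq, ?_⟩
  · rw [← O.orth i k hik]
    simp only [polar, ← map_add, he]
  · simpa [he] using ha

variable [FiniteDimensional F V] {Q : QuadraticForm F V}

theorem disc_unique (h2 : (2 : F) ≠ 0) {a a' : F} (h : Disc Q a) (h' : Disc Q a') : IsSquare (a * a') := by
  obtain ⟨n, v, O, hn, ha⟩ := h
  obtain ⟨n', v', O', hn', ha'⟩ := h'
  obtain rfl : n = n' := hn.trans hn'.symm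
  obtain ⟨b, hb⟩ := O.exists_basis h2 (by rw [Fintype.card_fin, hn])
  obtain ⟨b', hb'⟩ := O'.exists_basis h2 (by rw [Fintype.card_fin, hn])
  obtain ⟨t, ht, hdet⟩ := disc_change Q b b'
  rw [toMatrix₂_orth Q b (hb ▸ O.orth), toMatrix₂_orth Q b' (hb' ▸ O'.orth), hb, hb',
    Finset.prod_mul_distrib, Finset.prod_mul_distrib] at hdet
  have hP : IsSquare ((∏ i, Q (v i)) * ∏ i, Q (v' i)) := by
    refine ⟨t * ∏ i, Q (v i), ?_⟩
    have h2n : (∏ _i : Fin n, (2 : F)) ≠ 0 := Finset.prod_ne_zero_iff.2 fun _ _ => h2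
    refine mul_left_cancel₀ h2n ?_
    linear_combination (∏ i, Q (v i)) * hdet
  rw [mul_comm] at ha
  exact sq_trans O'.prod_ne (sq_trans O.prod_ne ha hP) ha'

variable [Finite F]

omit [Finite F] in
theorem disc_empty (hn : Module.finrank F V = 0) : Disc Q 1 :=
  ⟨0, Fin.elim0, ⟨fun i => i.elim0, fun i => i.elim0⟩, hn.symm, by simp⟩

theorem disc_exists (h2 : (2 : F) ≠ 0) (hQ : ∀ z, (∀ y, polar Q z y = 0) → z = 0) :
    ∃ a, a ≠ 0 ∧ Disc Q a := by
  rcases Nat.eq_zero_or_pos (Module.finrank F V) with h | h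
  · exact ⟨1, one_ne_zero, disc_empty h⟩
  obtain ⟨b, d, hd, hb, hv⟩ := exists_normal_basis Q h2 hQ (n := Module.finrank F V - 1) (by omega)
  have O : OFam Q b := ⟨hb, fun i => by rw [hv]; split_ifs <;> [exact hd; exact one_ne_zero]⟩
  exact ⟨_, O.prod_ne, disc_of_fam O (by rw [Fintype.card_fin]; omega) ⟨_, rfl⟩⟩

/-- Forms of equal dimension and discriminant class are isometric. -/
theorem exists_iso_of_disc (h2 : (2 : F) ≠ 0) (hQ : ∀ z, (∀ y, polar Q z y = 0) → z = 0) {W : Type y}
    [AddCommGroup W] [Module F W] [FiniteDimensional F W] {R : QuadraticForm F W}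
    (hR : ∀ z, (∀ y, polar R z y = 0) → z = 0) (hd : Module.finrank F V = Module.finrank F W) {a a' : F}
    (ha0 : a ≠ 0) (ha0' : a' ≠ 0) (ha : Disc Q a) (ha' : Disc R a') (hsq : IsSquare (a * a')) :
    ∃ e : V ≃ₗ[F] W, ∀ z, R (e z) = Q z := by
  obtain ⟨n, v, O, hn, hva⟩ := ha
  obtain ⟨n', v', O', hn', hva'⟩ := ha'
  obtain rfl : n = n' := hn.trans (hd.trans hn'.symm)
  obtain ⟨b, hb⟩ := O.exists_basis h2 (by rw [Fintype.card_fin, hn])
  obtain ⟨b', hb'⟩ := O'.exists_basis h2 (by rw [Fintype.card_fin, hn'])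
  refine exists_isometry_of_disc Q R h2 hQ hR b b' ?_
  rw [toMatrix₂_orth Q b (hb ▸ O.orth), toMatrix₂_orth R b' (hb' ▸ O'.orth), hb, hb', Finset.prod_mul_distrib,
    Finset.prod_mul_distrib, mul_mul_mul_comm]
  refine sq_extend (sq_trans ha0 hva (sq_trans ha0' hsq ?_))
  rwa [mul_comm]

/-- Plus type through the discriminant class. -/
theorem isPlus_iff_disc (h2 : (2 : F) ≠ 0) (hQ : ∀ z, (∀ y, polar Q z y = 0) → z = 0) {k : ℕ}
    (hk : Module.finrank F V = 2 * k) {a : F} (ha0 : a ≠ 0) (ha : Disc Q a) :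
    IsPlus Q k ↔ IsSquare ((-1 : F) ^ k * a) := by
  classical
  haveI := Fintype.ofFinite F
  constructor
  · rintro ⟨e, he⟩
    let v : Fin k ⊕ Fin k → V := Sum.elim (fun i => e (Pi.single (Sum.inl i) 1 + Pi.single (Sum.inr i) 1))
      fun i => e (Pi.single (Sum.inl i) 1 + Pi.single (Sum.inr i) (-1))
    have hval : ∀ s, Q (v s) = Sum.elim (fun _ => (1 : F)) (fun _ => -1) s := by
      rintro (i | i) <;> simp only [v, Sum.elim_inl, Sum.elim_inr, he] <;>
        simp [qfPlus_apply, Cfsg.quadFormPlus, Pi.single_apply]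
    have O : OFam Q v := by
      refine ⟨fun s t hst => ?_, fun s => by rw [hval]; rcases s with i | i <;> simp⟩
      have hp : ∀ z z', polar Q (e z) (e z') = polar (qfPlus k F) z z' := fun z z' => by
        simp only [polar, ← map_add, he]
      rcases s with i | i <;> rcases t with l | l <;>
        simp only [v, Sum.elim_inl, Sum.elim_inr, hp, polar_qfPlus] <;>
        simp [Pi.single_apply, Finset.sum_add_distrib, add_comm] <;> by_cases hil : i = l <;>
        simp_all [eq_comm]
    have hd : Disc Q ((-1 : F) ^ k) := disc_of_fam O (by rw [Fintype.card_sum, Fintype.card_fin, hk, two_mul]) (by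
      rw [Finset.prod_congr rfl fun s _ => hval s, Fintype.prod_sum_type]
      simp)
    exact disc_unique h2 hd ha
  · intro hsq
    obtain ⟨n, v, O, hn, hva⟩ := ha
    obtain ⟨b, hb⟩ := O.exists_basis h2 (by rw [Fintype.card_fin, hn])
    obtain rfl : n = k + k := by omega
    obtain ⟨W, hW, hW0⟩ := CfsgLib.Geom.exists_totallySingular Q h2 hQ hk b (by
      rw [toMatrix₂_orth Q b (hb ▸ O.orth), hb, Finset.prod_mul_distrib, mul_left_comm, Finset.prod_const,
        Finset.card_univ, Fintype.card_fin, pow_add]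
      refine sq_extend (sq_trans ha0 hsq ?_)
      rwa [mul_comm])
    exact (IsoType.isPlus_iff_hasHalf Q hQ hk).2 ⟨W, le_top, hW0, by rw [hW, finrank_top, hk]⟩

variable {J : Module.End F V}

omit [FiniteDimensional F V] [Finite F] in
theorem polar_skew (hJ : ∀ z, J (J z) = -z) (hiso : ∀ z, Q (J z) = Q z) (z t : V) :
    polar Q (J z) t = -polar Q z (J t) := by
  have h : polar Q (J z) (J (J t)) = polar Q z (J t) := by simp only [polar, ← map_add, hiso]
  rw [hJ, QuadraticMap.polar_neg_right] at h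
  rw [← h, neg_neg]

/-- An orthonormal family of vectors and their images under a square root of `-1`. -/
theorem exists_frame (h2 : (2 : F) ≠ 0) (hQ : ∀ z, (∀ y, polar Q z y = 0) → z = 0) (hJ : ∀ z, J (J z) = -z)
    (hiso : ∀ z, Q (J z) = Q z) : ∀ k, 2 * k ≤ Module.finrank F V → ∃ v : Fin k → V,
      OFam Q (Sum.elim v fun i => J (v i)) ∧ ∀ i, Q (v i) = 1 := by
  classical
  intro k
  induction k with
  | zero => exact fun _ => ⟨Fin.elim0, ⟨fun i => (i.elim (fun a => a.elim0) fun a => a.elim0),
      fun i => (i.elim (fun a => a.elim0) fun a => a.elim0)⟩, fun a => a.elim0⟩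
  | succ k ih =>
    intro hk
    obtain ⟨v, O, hv⟩ := ih (by omega)
    obtain ⟨u, hu⟩ : ∃ u, u = Sum.elim v fun i => J (v i) := ⟨_, rfl⟩
    rw [← hu] at O
    have hu1 : ∀ s, Q (u s) = 1 := by rintro (i | i) <;> simp [hu, hiso, hv]
    let π : V → V := fun z => z - ∑ s, ((2 : F)⁻¹ * polar Q (u s) z) • u s
    have hπu : ∀ z s, polar Q (π z) (u s) = 0 := fun z s => by
      have h : Q.polarBilin (π z) (u s) = 0 := by
        simp only [π, map_sub, map_sum, map_smul, LinearMap.sub_apply, LinearMap.sum_apply, LinearMap.smul_apply,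
          QuadraticMap.polarBilin_apply_apply, smul_eq_mul]
        rw [Finset.sum_eq_single s (fun t _ ht => by rw [O.orth t s ht, mul_zero]) (fun h => absurd (Finset.mem_univ s) h),
          polar_self_two, hu1, QuadraticMap.polar_comm Q (u s) z]
        field_simp
        ring
      exact h
    obtain ⟨z, hz⟩ : ∃ z, Q (π z) ≠ 0 := by
      by_contra h
      push Not at h
      have h0 : ∀ z, π z = 0 := fun z => hQ _ fun y => by
        have hzy : polar Q (π z) (π y) = 0 := by
          have : π z + π y = π (z + y) := by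
            simp only [π, QuadraticMap.polar_add_right, mul_add, add_smul, Finset.sum_add_distrib]
            abel
          rw [polar, this, h, h, h]
          simp
        have hsum : y = π y + ∑ s, ((2 : F)⁻¹ * polar Q (u s) y) • u s := (sub_add_cancel _ _).symm
        rw [hsum, QuadraticMap.polar_add_right, hzy, zero_add, ← QuadraticMap.polarBilin_apply_apply, map_sum]
        exact Finset.sum_eq_zero fun s _ => by
          rw [map_smul, QuadraticMap.polarBilin_apply_apply, hπu, smul_zero]
      have htop : (⊤ : Submodule F V) ≤ Submodule.span F (Set.range u) := fun z _ => by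
        rw [← sub_add_cancel z (∑ s, ((2 : F)⁻¹ * polar Q (u s) z) • u s),
          show z - ∑ s, ((2 : F)⁻¹ * polar Q (u s) z) • u s = 0 from h0 z, zero_add]
        exact Submodule.sum_mem _ fun s _ => Submodule.smul_mem _ _ (Submodule.subset_span ⟨s, rfl⟩)
      have h1 := Submodule.finrank_mono htop
      have h3 := finrank_range_le_card (R := F) u
      rw [finrank_top] at h1
      rw [Set.finrank, Fintype.card_sum, Fintype.card_fin] at h3
      omega
    obtain ⟨w, hw, hwu⟩ : ∃ w, Q w ≠ 0 ∧ ∀ s, polar Q w (u s) = 0 := ⟨π z, hz, hπu z⟩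
    have hJw : ∀ s, polar Q (J w) (u s) = 0 := by
      rintro (i | i)
      · rw [hu, Sum.elim_inl, polar_skew hJ hiso, show J (v i) = u (Sum.inr i) by rw [hu]; rfl, hwu, neg_zero]
      · rw [hu, Sum.elim_inr, polar_skew hJ hiso, hJ, QuadraticMap.polar_neg_right,
          show v i = u (Sum.inl i) by rw [hu]; rfl, hwu, neg_zero, neg_zero]
    have hwJw : polar Q w (J w) = 0 := by
      have h := polar_skew hJ hiso w w
      rw [QuadraticMap.polar_comm Q (J w) w] at h
      exact (mul_eq_zero.1 (show (2 : F) * polar Q w (J w) = 0 by linear_combination h)).resolve_left h2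
    obtain ⟨α, β, hαβ⟩ := exists_binary_eq h2 hw hw (1 : F)
    obtain ⟨w', hw'⟩ : ∃ w', w' = α • w + β • J w := ⟨_, rfl⟩
    have hw1 : Q w' = 1 := by
      rw [hw', quad_map_add_smul, quad_smul, QuadraticMap.polar_smul_left, hiso, hwJw, smul_zero, mul_zero, add_zero]
      linear_combination hαβ
    have hw'u : ∀ s, polar Q w' (u s) = 0 ∧ polar Q (J w') (u s) = 0 := fun s => by
      refine ⟨by rw [hw', QuadraticMap.polar_add_left, QuadraticMap.polar_smul_left, QuadraticMap.polar_smul_left,
        hwu, hJw, smul_zero, smul_zero, add_zero], ?_⟩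
      rw [hw', map_add, map_smul, map_smul, hJ, QuadraticMap.polar_add_left, QuadraticMap.polar_smul_left,
        QuadraticMap.polar_smul_left, QuadraticMap.polar_neg_left, hwu, hJw, neg_zero, smul_zero, smul_zero, add_zero]
    have hww : polar Q w' (J w') = 0 := by
      have h := polar_skew hJ hiso w' w'
      rw [QuadraticMap.polar_comm Q (J w') w'] at h
      exact (mul_eq_zero.1 (show (2 : F) * polar Q w' (J w') = 0 by linear_combination h)).resolve_left h2
    refine ⟨Fin.cons w' v, ⟨?_, ?_⟩, fun i => by cases i using Fin.cases <;> simp [hw1, hv]⟩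
    · have e1 : ∀ i, u (Sum.inl i) = v i := fun i => by rw [hu]; rfl
      have e2 : ∀ i, u (Sum.inr i) = J (v i) := fun i => by rw [hu]; rfl
      rintro (i | i) (l | l) hil <;> cases i using Fin.cases <;> cases l using Fin.cases <;>
        simp only [Sum.elim_inl, Sum.elim_inr, Fin.cons_zero, Fin.cons_succ, ← e2] <;> (try simp only [← e1]) <;>
        first
        | exact absurd rfl hil
        | exact hww
        | exact (QuadraticMap.polar_comm Q _ _).trans hww
        | exact (hw'u _).1
        | exact (hw'u _).2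
        | exact (QuadraticMap.polar_comm Q _ _).trans (hw'u _).1
        | exact (QuadraticMap.polar_comm Q _ _).trans (hw'u _).2
        | exact O.orth _ _ (by simpa [Fin.succ_inj] using hil)
    · rintro (i | i) <;> cases i using Fin.cases <;> simp [hiso, hw1, hv]

end CfsgLib.MaxSub.OrthExt
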