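import Cfsg.Agent.Lib.MaxSub.OrthExtModel
import Cfsg.Agent.Lib.MaxSub.OrthExtConj
import Cfsg.Agent.Lib.KnownB.BCSpinor
import Cfsg.Agent.Lib.MaxSub.IsoTwo

/-!
Elements of `Ω` squaring to a scalar `±1` are conjugate in `Ω` to semilinear maps for `J`.
-/

set_option autoImplicit false

namespace CfsgLib.MaxSub.OrthExt

open CfsgLib CfsgLib.Classical CfsgLib.Geom CfsgLib.MaxSub.IsoSemi
open QuadraticMap (polar)

universe u w

variable {F : Type u} [Field F] [Fintype F] {ι : Type} [Fintype ι] [DecidableEq ι] {Q : QuadraticForm F (ι → F)}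
  {L : Type w} [Field L] [Algebra F L] [Fintype L] [Module L (ι → F)] [IsScalarTower F L (ι → F)]
  {θ : L} {δ : F} {J : Module.End F (ι → F)} {d : ℕ} (A : SelfAdj Q J δ) (E : QE θ δ) (h2 : (2 : F) ≠ 0)
  (hθJ : ∀ z : ι → F, θ • z = J z) (hV : Module.finrank F (ι → F) = 2 * d)

/-- Commuting or anticommuting with `J`. -/
def Semi (J : Module.End F (ι → F)) (y : quadIsoms Q) : Prop :=
  ∃ β : F, β ≠ 0 ∧ ∀ z, y.1 (J z) = β • J (y.1 z)

include A E h2 hθJ hV in
omit [DecidableEq ι] in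
/-- Coordinates in which `J` is `θ` and all values but the last are a given one of norm `δ`. -/
theorem exists_eta {a : F} (ha0 : a ≠ 0) (ha : Disc Q a) (hd : 0 < d) :
    ∃ (η γ : L) (c : Fin d → L) (e : (ι → F) ≃ₗ[F] (Fin d → L)), Coords Q J E c e ∧ E.nrm η = δ ∧
      (∀ k, c k ≠ 0) ∧ (∀ k : Fin d, (k : ℕ) + 1 < d → c k = η) ∧
      ((IsSquare a) → ∀ k : Fin d, (k : ℕ) + 1 = d → c k = γ ∧ E.nrm γ = δ) := by
  classical
  obtain ⟨η, hη⟩ := E.exists_nrm h2 δ
  obtain ⟨γ, hγ⟩ : ∃ γ : L, E.nrm γ = if IsSquare a then δ else a / δ := ⟨_, (E.exists_nrm h2 _).choose_spec⟩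
  have hz : E.nrm 0 = 0 := by
    apply (algebraMap F L).injective
    rw [E.nrm_eq, map_zero, zero_mul]
  have hη0 : η ≠ 0 := fun h => A.δ_ne (by rw [← hη, h, hz])
  have hγ0 : γ ≠ 0 := fun h => by
    rw [h, hz] at hγ
    split_ifs at hγ
    · exact A.δ_ne hγ.symm
    · exact div_ne_zero ha0 A.δ_ne hγ.symm
  obtain ⟨c, hc⟩ : ∃ c : Fin d → L, c = fun k : Fin d => if (k : ℕ) + 1 = d then γ else η := ⟨_, rfl⟩
  have hc0 : ∀ k, c k ≠ 0 := fun k => by rw [hc]; dsimp only; split_ifs <;> assumption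
  have hsq : IsSquare ((∏ k, (δ * E.nrm (c k))) * a) := by
    have hlast : ∀ k : Fin d, k ≠ ⟨d - 1, by omega⟩ → δ * E.nrm (c k) = δ * δ := fun k hk => by
      have hk' : ¬ (k : ℕ) + 1 = d := fun h => hk (Fin.ext (show (k : ℕ) = d - 1 by omega))
      simp [hc, hk', hη]
    rw [← Finset.mul_prod_erase Finset.univ _ (Finset.mem_univ (⟨d - 1, by omega⟩ : Fin d)),
      Finset.prod_congr rfl fun k hk => hlast k (Finset.ne_of_mem_erase hk), Finset.prod_const, mul_right_comm]
    refine IsSquare.mul ?_ ⟨δ ^ _, (mul_pow δ δ _)⟩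
    simp only [hc, show d - 1 + 1 = d by omega, if_true, hγ]
    split_ifs with h
    · exact IsSquare.mul ⟨δ, rfl⟩ h
    · refine ⟨a, ?_⟩
      have := A.δ_ne
      field_simp
  obtain ⟨e, C⟩ := exists_coords A h2 hθJ hV hc0 ha0 ha hsq
  refine ⟨η, γ, c, e, C, hη, hc0, fun k hk => ?_, fun hs k hk => ?_⟩
  · rw [hc]; exact if_neg (by omega)
  · exact ⟨by rw [hc]; exact if_pos hk, by rw [hγ, if_pos hs]⟩

include A E h2 hθJ hV in
/-- Involutions. -/
theorem fix_pos {x : quadIsoms Q} (hx : sp A.sep h2 x = 1) (hxx : ∀ z, x.1 (x.1 z) = z)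
    (hne₁ : ∃ z, x.1 z ≠ z) (hne₂ : ∃ z, x.1 z ≠ -z) : ∃ g, sp A.sep h2 g = 1 ∧ Semi J (g⁻¹ * x * g) := by
  classical
  obtain ⟨N, hNdef⟩ : ∃ N : Submodule F (ι → F), N = LinearMap.ker (x.1.toLinearMap + 1) := ⟨_, rfl⟩
  have hmemN : ∀ z, z ∈ N ↔ x.1 z = -z := fun z => by
    rw [hNdef, LinearMap.mem_ker, LinearMap.add_apply, Module.End.one_apply, LinearEquiv.coe_coe,
      add_eq_zero_iff_eq_neg]
  -- the fixed vectors are orthogonal to `N`
  have hperp : ∀ u, x.1 u = u → ∀ n ∈ N, polar Q n u = 0 := fun u hu n hn => by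
    have h := polar_quadIsom (Q := Q) x.2 n u
    rw [hu, (hmemN n).1 hn, QuadraticMap.polar_neg_left] at h
    exact (mul_eq_zero.1 (show (2 : F) * polar Q n u = 0 by linear_combination -h)).resolve_left h2
  have hNnd : ND Q.polarBilin N := fun n hn h => by
    refine A.sep n fun w => ?_
    have h1 : polar Q n (w - x.1 w) = 0 := h _ ((hmemN _).2 (by rw [map_sub, hxx, neg_sub]))
    have h4 : polar Q n ((2 : F) • w) = 0 := by
      rw [show (2 : F) • w = (w + x.1 w) + (w - x.1 w) by rw [two_smul]; abel, QuadraticMap.polar_add_right, h1,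
        hperp _ (by rw [map_add, hxx, add_comm]) n hn, add_zero]
    rw [QuadraticMap.polar_smul_right, smul_eq_mul] at h4
    exact (mul_eq_zero.1 h4).resolve_left h2
  have hNsep := IsoType.sep_comp hNnd
  -- the discriminant of `N`
  obtain ⟨a₁, -, n, v, Ov, hn, -⟩ := disc_exists h2 hNsep
  obtain ⟨b, hb⟩ := Ov.exists_basis h2 (by rw [Fintype.card_fin, hn])
  have hp : ∀ i k, polar Q (v i : ι → F) (v k : ι → F) = polar (Q.comp N.subtype) (v i) (v k) := fun i k => by
    simp [polar]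
  have hM : (Matrix.of fun i k => polar Q (v i : ι → F) (v k : ι → F)) =
      Matrix.diagonal fun i => 2 * (Q.comp N.subtype) (v i) := by
    ext i k
    rw [Matrix.of_apply, hp]
    by_cases hik : i = k
    · subst hik; rw [polar_self_two, Matrix.diagonal_apply_eq]
    · rw [Ov.orth i k hik, Matrix.diagonal_apply_ne _ hik]
  have hdet : (Matrix.of fun i k => polar Q (v i : ι → F) (v k : ι → F)).det ≠ 0 := by
    rw [hM, Matrix.det_diagonal]
    exact Finset.prod_ne_zero_iff.2 fun i _ => mul_ne_zero h2 (Ov.ne i)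
  have hiso : ∀ z, isoLin (orEquiv Q x) z = x.1 z := fun z => by
    rw [isoLin, Matrix.toLin'_apply]; exact orEquiv_mulVec Q x z
  have hspin := KnownB.BC.spinor_involution Q A.sep (exGen_of_odd h2) h2 (orEquiv Q x) (fun i => (v i : ι → F))
    (fun z => by rw [hiso, hiso, hxx]) (fun i => by rw [hiso]; exact (hmemN _).1 (v i).2)
    (fun z hz => by
      rw [hiso] at hz
      have hs : (⟨z, (hmemN z).2 hz⟩ : N) ∈ Submodule.span F (Set.range v) := by rw [← hb, b.span_eq]; trivial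
      have := Submodule.mem_map_of_mem (f := N.subtype) hs
      rw [Submodule.map_span, ← Set.range_comp] at this
      exact this) hdet
  change spinorHom Q A.sep _ (orEquiv Q x) = 1 at hx
  rw [hx] at hspin
  obtain ⟨heven, hsqN⟩ := Prod.mk_eq_one.1 hspin.symm
  rw [Fintype.card_fin, ofAdd_eq_one, ZMod.natCast_eq_zero_iff_even] at heven
  rw [sqClass_eq_one_iff, Fintype.card_fin, hM, Matrix.det_diagonal, Finset.prod_mul_distrib, Finset.prod_const,
    Finset.card_univ, Fintype.card_fin, ← mul_assoc] at hsqN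
  have hdiscN : Disc (Q.comp N.subtype) 1 :=
    ⟨n, v, Ov, hn, by rw [mul_one]; exact sq_cancel (pow_ne_zero _ h2) hsqN⟩
  obtain ⟨j, rfl⟩ := heven
  have hj0 : 0 < j := by
    by_contra h
    have hN0 : N = ⊥ := Submodule.finrank_eq_zero.1 (hn.symm.trans (by omega))
    obtain ⟨z, hz⟩ := hne₁
    have : z - x.1 z ∈ N := (hmemN _).2 (by rw [map_sub, hxx, neg_sub])
    rw [hN0, Submodule.mem_bot, sub_eq_zero] at this
    exact hz this.symm
  have hjd : j < d := by
    have hle := N.finrank_le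
    rw [hV, ← hn] at hle
    by_contra h
    have hN1 : N = ⊤ := Submodule.eq_top_of_finrank_eq (by rw [← hn, hV]; omega)
    obtain ⟨z, hz⟩ := hne₂
    exact hz ((hmemN z).1 (hN1 ▸ trivial))
  -- the model involution
  obtain ⟨a, ha0, ha⟩ := disc_exists h2 A.sep
  obtain ⟨η, γ, c, e, C, hη, hc0, hc, -⟩ := exists_eta A E h2 hθJ hV ha0 ha (by omega)
  obtain ⟨s, hs⟩ : ∃ s : Fin d → L, s = fun k : Fin d => if (k : ℕ) < j then -1 else 1 := ⟨_, rfl⟩
  have hss : ∀ k, s k * s k = 1 := fun k => by rw [hs]; dsimp only; split_ifs <;> ring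
  let f : (Fin d → L) →ₗ[F] (Fin d → L) := LinearMap.pi fun k =>
    (LinearMap.mulLeft F (s k)).comp (LinearMap.proj k)
  have hf : ∀ z k, f z k = s k * z k := fun z k => rfl
  obtain ⟨Y, hY⟩ : ∃ Y : (ι → F) ≃ₗ[F] (ι → F), ∀ z k, e (Y z) k = s k * e z k := by
    refine ⟨LinearEquiv.ofLinear (e.symm.toLinearMap ∘ₗ f ∘ₗ e.toLinearMap)
      (e.symm.toLinearMap ∘ₗ f ∘ₗ e.toLinearMap) ?_ ?_, fun z k => ?_⟩
    any_goals
      refine LinearMap.ext fun z => e.injective (funext fun k => ?_)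
      simp only [LinearMap.comp_apply, LinearEquiv.coe_coe, e.apply_symm_apply, LinearMap.id_apply, hf]
      rw [← mul_assoc, hss, one_mul]
    show e (e.symm (f (e z))) k = _
    rw [e.apply_symm_apply, hf]
  have hYQ : Y ∈ quadIsoms Q := fun z => by
    rw [C.quad, C.quad]
    congr 2
    refine Finset.sum_congr rfl fun k _ => ?_
    rw [hY]
    linear_combination (c k * (e z k * e z k)) * hss k
  obtain ⟨y, hy⟩ : ∃ y : quadIsoms Q, y = ⟨Y, hYQ⟩ := ⟨_, rfl⟩
  have hy1 : ∀ z k, e (y.1 z) k = s k * e z k := fun z k => by rw [hy]; exact hY z k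
  have hyy : ∀ z, y.1 (y.1 z) = z := fun z =>
    e.injective (funext fun k => by rw [hy1, hy1, ← mul_assoc, hss, one_mul])
  have h2L : (2 : L) ≠ 0 := two_ne h2
  obtain ⟨M, hMdef⟩ : ∃ M : Submodule F (ι → F), M = LinearMap.ker (y.1.toLinearMap + 1) := ⟨_, rfl⟩
  have hmemM : ∀ z, z ∈ M ↔ ∀ k : Fin d, ¬ (k : ℕ) < j → e z k = 0 := fun z => by
    rw [hMdef, LinearMap.mem_ker, LinearMap.add_apply, Module.End.one_apply, LinearEquiv.coe_coe,
      add_eq_zero_iff_eq_neg, ← e.injective.eq_iff, funext_iff]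
    refine forall_congr' fun k => ?_
    rw [hy1, map_neg, Pi.neg_apply, hs]
    dsimp only
    split_ifs with h
    · simp [h]
    · rw [one_mul, eq_neg_iff_add_eq_zero, ← two_mul, mul_eq_zero, or_iff_right h2L]
      exact ⟨fun h' _ => h', fun h' => h' h⟩
  -- an orthogonal family of `M`
  obtain ⟨w, Ow, hw0, hwsq⟩ := C.exists_fam h2 hc0
  obtain ⟨u, hu⟩ : ∃ u : Fin j ⊕ Fin j → M, ∀ t, (u t : ι → F) = w (Sum.map (Fin.castLE hjd.le) (Fin.castLE hjd.le) t) := by
    refine ⟨fun t => ⟨w (Sum.map (Fin.castLE hjd.le) (Fin.castLE hjd.le) t), (hmemM _).2 fun k hk => ?_⟩, fun t => rfl⟩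
    rcases t with i | i
    · exact (hw0 (Fin.castLE hjd.le i) k fun h => hk (by rw [h]; exact i.2)).1
    · exact (hw0 (Fin.castLE hjd.le i) k fun h => hk (by rw [h]; exact i.2)).2
  have Ou : OFam (Q.comp M.subtype) u := by
    refine ⟨fun t t' h => ?_, fun t => by simpa [hu] using Ow.ne _⟩
    have := Ow.orth _ _ fun e' => h ((Fin.castLE_injective hjd.le).sumMap (Fin.castLE_injective hjd.le) e')
    simpa [polar, hu] using this
  have hMd : Module.finrank F M = j + j := by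
    haveI : FiniteDimensional F L := Module.Finite.of_finite
    let P : M →ₗ[F] (Fin j → L) := LinearMap.pi fun i =>
      (LinearMap.proj (Fin.castLE hjd.le i)).comp (e.toLinearMap.comp M.subtype)
    have hinj : Function.Injective P := (injective_iff_map_eq_zero P).2 fun z hz =>
      Subtype.ext (e.map_eq_zero_iff.1 (funext fun k => by
        by_cases hk : (k : ℕ) < j
        · exact congrFun hz ⟨k, hk⟩
        · exact (hmemM _).1 z.2 k hk))
    refine le_antisymm ((LinearMap.finrank_le_finrank_of_injective hinj).trans ?_) ?_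
    · rw [Module.finrank_pi_fintype, Finset.sum_const, Finset.card_univ, Fintype.card_fin, E.finrank_eq, smul_eq_mul]
      omega
    · have h := (Ou.indep h2).fintype_card_le_finrank
      rwa [Fintype.card_sum, Fintype.card_fin] at h
  have hdiscM : Disc (Q.comp M.subtype) 1 := by
    refine disc_of_fam Ou (by rw [Fintype.card_sum, Fintype.card_fin, hMd]) ?_
    rw [mul_one, Fintype.prod_sum_type, ← Finset.prod_mul_distrib]
    refine Finset.prod_induction _ IsSquare (fun _ _ ha hb => ha.mul hb) IsSquare.one fun i _ => ?_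
    have h := hwsq (Fin.castLE hjd.le i)
    have hi := i.2
    rw [hc _ (by rw [Fin.val_castLE]; omega), hη] at h
    simp only [QuadraticMap.comp_apply, Submodule.subtype_apply, hu, Sum.map_inl, Sum.map_inr]
    exact sq_cancel A.δ_ne (by rwa [mul_comm (δ * δ)])
  obtain ⟨bM, hbM⟩ := Ou.exists_basis h2 (by rw [Fintype.card_sum, Fintype.card_fin, hMd])
  have hMsep : ∀ z, (∀ t, polar (Q.comp M.subtype) z t = 0) → z = 0 := fun z hz => by
    refine bM.repr.map_eq_zero_iff.1 (Finsupp.ext fun t => ?_)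
    have h := hz (bM t)
    conv_lhs at h => rw [← bM.sum_repr z]
    rw [← QuadraticMap.polarBilin_apply_apply, map_sum, LinearMap.sum_apply, Finset.sum_eq_single t
      (fun k _ hk => by rw [map_smul, LinearMap.smul_apply, hbM, QuadraticMap.polarBilin_apply_apply, Ou.orth k t hk,
        smul_zero]) (fun h => absurd (Finset.mem_univ t) h), map_smul, LinearMap.smul_apply,
      QuadraticMap.polarBilin_apply_apply, polar_self_two, smul_eq_mul, hbM] at h
    exact ((mul_eq_zero.1 h).resolve_right (mul_ne_zero h2 (Ou.ne t)))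
  obtain ⟨e0, he0⟩ := exists_iso_of_disc h2 hNsep hMsep (by rw [← hn, hMd]) one_ne_zero one_ne_zero hdiscN hdiscM
    ⟨1, rfl⟩
  obtain ⟨h, hh, hhN⟩ := witt_quadratic Q A.sep N (M.subtype ∘ₗ e0.toLinearMap)
    (M.injective_subtype.comp e0.injective) fun z => he0 z
  have hconj : (⟨h, hh⟩ : quadIsoms Q) * x = y * ⟨h, hh⟩ := by
    refine conj_invol h2 A.sep hxx hyy (fun z hz => ?_) fun m hm => ?_
    · show y.1 (h z) = -h z
      rw [show z = ((⟨z, (hmemN z).2 hz⟩ : N) : ι → F) from rfl, hhN]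
      have hmem := hMdef.le (e0 ⟨z, (hmemN z).2 hz⟩).2
      rw [LinearMap.mem_ker, LinearMap.add_apply, Module.End.one_apply, LinearEquiv.coe_coe,
        add_eq_zero_iff_eq_neg] at hmem
      exact hmem
    · have hmM : m ∈ M := by
        rw [hMdef, LinearMap.mem_ker, LinearMap.add_apply, Module.End.one_apply, LinearEquiv.coe_coe, hm,
          neg_add_cancel]
      refine ⟨(e0.symm ⟨m, hmM⟩ : N), (hmemN _).1 (e0.symm ⟨m, hmM⟩).2, ?_⟩
      show h _ = m
      rw [hhN]
      exact congrArg Subtype.val (e0.apply_symm_apply ⟨m, hmM⟩)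
  have hsemi : Semi J y := ⟨1, one_ne_zero, fun z => e.injective (funext fun k => by
    rw [one_smul, hy1, C.map_J, C.map_J, hy1]; ring)⟩
  -- reflections in fixed vectors
  obtain ⟨P, hP⟩ : ∃ P : Submodule F (ι → F), P = LinearMap.ker (y.1.toLinearMap - 1) := ⟨_, rfl⟩
  have hmemP : ∀ z, z ∈ P ↔ y.1 z = z := fun z => by
    rw [hP, LinearMap.mem_ker, LinearMap.sub_apply, Module.End.one_apply, LinearEquiv.coe_coe, sub_eq_zero]
  have hPsep : ∀ z, (∀ t, polar (Q.comp P.subtype) z t = 0) → z = 0 := fun z hz => Subtype.ext (A.sep _ fun w => by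
    have h1 : polar Q (z : ι → F) (w + y.1 w) = 0 := by
      simpa [polar] using hz ⟨w + y.1 w, (hmemP _).2 (by rw [map_add, hyy, add_comm])⟩
    have h3 : polar Q (z : ι → F) (w - y.1 w) = 0 := by
      have e1 := polar_quadIsom (Q := Q) y.2 (z : ι → F) (w - y.1 w)
      rw [(hmemP _).1 z.2, map_sub, hyy, ← neg_sub w, QuadraticMap.polar_neg_right] at e1
      exact (mul_eq_zero.1 (show (2 : F) * polar Q (z : ι → F) (w - y.1 w) = 0 by linear_combination -e1)).resolve_left h2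
    have h4 : polar Q (z : ι → F) ((2 : F) • w) = 0 := by
      rw [show (2 : F) • w = (w + y.1 w) + (w - y.1 w) by rw [two_smul]; abel, QuadraticMap.polar_add_right, h1, h3,
        add_zero]
    rw [QuadraticMap.polar_smul_right, smul_eq_mul] at h4
    exact (mul_eq_zero.1 h4).resolve_left h2)
  have hPd : 2 ≤ Module.finrank F P := by
    have hlast : ∀ t : Fin 1 ⊕ Fin 1, w (Sum.map (fun _ => (⟨d - 1, by omega⟩ : Fin d))
        (fun _ => (⟨d - 1, by omega⟩ : Fin d)) t) ∈ P := by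
      intro t
      rw [hmemP]
      refine e.injective (funext fun k => ?_)
      rw [hy1]
      by_cases hk : k = ⟨d - 1, by omega⟩
      · rw [hs, hk]; simp [show ¬ d - 1 < j by omega]
      · rcases t with i | i
        · simp only [Sum.map_inl]; rw [(hw0 _ k hk).1, mul_zero]
        · simp only [Sum.map_inr]; rw [(hw0 _ k hk).2, mul_zero]
    have hli := (Ow.indep h2).comp _ (Function.Injective.sumMap
      (Function.injective_of_subsingleton fun _ : Fin 1 => (⟨d - 1, by omega⟩ : Fin d))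
      (Function.injective_of_subsingleton fun _ : Fin 1 => (⟨d - 1, by omega⟩ : Fin d)))
    have hli' : LinearIndependent F fun t => (⟨_, hlast t⟩ : P) := LinearIndependent.of_comp P.subtype hli
    simpa using hli'.fintype_card_le_finrank
  have hval : ∀ b : F, b ≠ 0 → ∃ (v : ι → F) (hv : Q v ≠ 0), Q v = b ∧ y.1 v = v := fun b hb => by
    obtain ⟨v, hv⟩ := exists_value (Q.comp P.subtype) h2 hPsep hPd b hb
    exact ⟨v, by rw [show Q v = b from hv]; exact hb, hv, (hmemP _).1 v.2⟩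
  obtain ⟨v₁, hv₁, hQ₁, hyv₁⟩ := hval 1 one_ne_zero
  refine finish A.sep h2 (S := {g | Semi J g}) hconj (cover A.sep h2 (fun b hb => ?_) hsemi
    (ρ := ⟨reflEquiv Q v₁ hv₁, reflEquiv_mem Q v₁ hv₁⟩) (by rw [sp_refl])
    (by rw [refl_comm hv₁ (one_mul 1) (by rw [hyv₁, one_smul])]; exact hsemi))
  obtain ⟨v₂, hv₂, hQ₂, hyv₂⟩ := hval b hb
  refine ⟨v₁, v₂, hv₁, hv₂, ?_, fun z => ?_⟩
  · rw [hQ₁, hQ₂, one_mul]; exact ⟨b, rfl⟩
  · have key : ∀ (v : ι → F) (hv : Q v ≠ 0), y.1 v = v → ∀ z, y.1 (reflEquiv Q v hv z) = reflEquiv Q v hv (y.1 z) := by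
      intro v hv hyv z
      have h := congrArg (fun g : quadIsoms Q => g.1 z) (refl_comm hv (one_mul 1) (y := y) (by rw [hyv, one_smul]))
      have h' : reflEquiv Q v hv (y.1 (reflEquiv Q v hv z)) = y.1 z := by
        simpa [mul_assoc, reflEquiv_inv] using h
      rw [← h']
      exact (congrArg (fun g : (ι → F) ≃ₗ[F] (ι → F) => g (y.1 (reflEquiv Q v hv z))) (reflEquiv_mul_self Q v hv)).symm
    rw [key v₁ hv₁ hyv₁, key v₂ hv₂ hyv₂]

include A E h2 hθJ hV in
/-- Square roots of `-1`. -/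
theorem fix_neg (hd : 0 < d) {x : quadIsoms Q} (hxx : ∀ z, x.1 (x.1 z) = -z) :
    ∃ g, sp A.sep h2 g = 1 ∧ Semi J (g⁻¹ * x * g) := by
  classical
  obtain ⟨v, Ov, hv⟩ := exists_frame h2 A.sep (J := x.1.toLinearMap) hxx (fun z => x.2 z) d hV.ge
  have hdisc : Disc Q 1 := disc_of_fam Ov (by rw [Fintype.card_sum, Fintype.card_fin, hV, two_mul]) (by
    refine ⟨1, ?_⟩
    simp only [mul_one]
    refine Finset.prod_eq_one fun t _ => ?_
    rcases t with i | i
    · simp [hv]
    · simp only [Sum.elim_inr]; exact (x.2 _).trans (hv i))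
  obtain ⟨η, γ, c, e, C, hη, hc0, hc, hlast⟩ := exists_eta A E h2 hθJ hV one_ne_zero hdisc hd
  have hcn : ∀ k, E.nrm (c k) = δ := fun k => by
    by_cases hk : (k : ℕ) + 1 < d
    · rw [hc k hk, hη]
    · obtain ⟨h, hγ⟩ := hlast ⟨1, (mul_one 1).symm⟩ k (by omega)
      rw [h, hγ]
  have hδL : algebraMap F L δ ≠ 0 := (map_ne_zero _).2 A.δ_ne
  obtain ⟨a, ha⟩ : ∃ a : Fin d → L, a = fun k => E.conj (c k) * θ / algebraMap F L δ := ⟨_, rfl⟩
  have hN : ∀ k, E.conj (c k) * c k = algebraMap F L δ := fun k => by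
    rw [mul_comm, ← E.nrm_eq, hcn]
  have haa : ∀ k, c k * (a k * a k) = E.conj (c k) := fun k => by
    rw [ha]; dsimp only
    field_simp
    linear_combination (c k * E.conj (c k) ^ 2) * E.sq + (E.conj (c k) * algebraMap F L δ) * hN k
  have hdiv : ∀ u : L, E.conj (u / algebraMap F L δ) = E.conj u / algebraMap F L δ := fun u => by
    rw [eq_div_iff hδL]
    conv_rhs => rw [← div_mul_cancel₀ u hδL, E.conj_mul, E.conj_alg]
  have ha1 : ∀ k, a k * E.conj (a k) = -1 := fun k => by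
    rw [ha]; dsimp only
    rw [hdiv, E.conj_mul, E.conj_conj, E.conj_θ]
    field_simp
    linear_combination (-(θ * θ)) * hN k - algebraMap F L δ * E.sq
  let σ : L →ₗ[F] L :=
    { toFun := E.conj
      map_add' := E.conj_add
      map_smul' := E.conj_smul }
  let f : (Fin d → L) →ₗ[F] (Fin d → L) := LinearMap.pi fun k =>
    (LinearMap.mulLeft F (a k)).comp (σ.comp (LinearMap.proj k))
  have hf : ∀ z k, f z k = a k * E.conj (z k) := fun z k => rfl
  obtain ⟨Y, hY⟩ : ∃ Y : (ι → F) ≃ₗ[F] (ι → F), ∀ z k, e (Y z) k = a k * E.conj (e z k) := by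
    refine ⟨LinearEquiv.ofLinear (e.symm.toLinearMap ∘ₗ f ∘ₗ e.toLinearMap)
      (-(e.symm.toLinearMap ∘ₗ f ∘ₗ e.toLinearMap)) ?_ ?_, fun z k => ?_⟩
    any_goals
      refine LinearMap.ext fun z => e.injective (funext fun k => ?_)
      simp only [LinearMap.comp_apply, LinearMap.neg_apply, map_neg, LinearEquiv.coe_coe, e.apply_symm_apply,
        LinearMap.id_apply, Pi.neg_apply, hf, E.conj_mul, E.conj_conj]
      linear_combination (-(e z k)) * ha1 k
    show e (e.symm (f (e z))) k = _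
    rw [e.apply_symm_apply, hf]
  have hYQ : Y ∈ quadIsoms Q := fun z => by
    rw [C.quad, C.quad]
    congr 1
    rw [← E.reL_apply, ← E.reL_apply, map_sum, map_sum]
    refine Finset.sum_congr rfl fun k _ => ?_
    rw [E.reL_apply, E.reL_apply, hY, show c k * (a k * E.conj (e z k) * (a k * E.conj (e z k))) =
      E.conj (c k * (e z k * e z k)) by rw [E.conj_mul, E.conj_mul, ← haa k]; ring, E.re_conj]
  obtain ⟨y, hy⟩ : ∃ y : quadIsoms Q, y = ⟨Y, hYQ⟩ := ⟨_, rfl⟩
  have hy1 : ∀ z k, e (y.1 z) k = a k * E.conj (e z k) := fun z k => by rw [hy]; exact hY z k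
  have hyy : ∀ z, y.1 (y.1 z) = -z := fun z => e.injective (funext fun k => by
    rw [hy1, hy1, E.conj_mul, E.conj_conj, map_neg, Pi.neg_apply]
    linear_combination (e z k) * ha1 k)
  have hsemi : Semi J y := ⟨-1, by simp, fun z => e.injective (funext fun k => by
    rw [hy1, map_smul, Pi.smul_apply, C.map_J, C.map_J, hy1, E.conj_mul, E.conj_θ, neg_one_smul]; ring)⟩
  -- the conjugating isometry
  obtain ⟨w, Ow, hw⟩ := exists_frame h2 A.sep (J := y.1.toLinearMap) hyy (fun z => y.2 z) d hV.ge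
  obtain ⟨bv, hbv⟩ := Ov.exists_basis h2 (by rw [Fintype.card_sum, Fintype.card_fin, hV, two_mul])
  obtain ⟨bw, hbw⟩ := Ow.exists_basis h2 (by rw [Fintype.card_sum, Fintype.card_fin, hV, two_mul])
  obtain ⟨h, hhb⟩ : ∃ h : (ι → F) ≃ₗ[F] (ι → F), ∀ t, h (bv t) = bw t :=
    ⟨bv.equiv bw (Equiv.refl _), fun t => by rw [Module.Basis.equiv_apply]; rfl⟩
  have hval : ∀ (u : Fin d → ι → F) (T : quadIsoms Q), (∀ i, Q (u i) = 1) →
      ∀ t : Fin d ⊕ Fin d, Q (Sum.elim u (fun i => T.1.toLinearMap (u i)) t) = 1 := by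
    intro u T hu t
    rcases t with i | i
    · exact hu i
    · exact (T.2 _).trans (hu i)
  have hh : h ∈ quadIsoms Q := fun z => by
    have hcomp : (Q.comp h.toLinearMap).polarBilin = Q.polarBilin := by
      refine bv.ext fun s => bv.ext fun t => ?_
      show polar (Q.comp h.toLinearMap) (bv s) (bv t) = polar Q (bv s) (bv t)
      rw [show polar (Q.comp h.toLinearMap) (bv s) (bv t) = polar Q (bw s) (bw t) by simp [polar, hhb], hbv, hbw]
      by_cases hst : s = t
      · subst hst; rw [polar_self_two, polar_self_two, hval v x hv, hval w y hw]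
      · rw [Ov.orth s t hst, Ow.orth s t hst]
    have h1 := LinearMap.congr_fun (LinearMap.congr_fun hcomp z) z
    simp only [QuadraticMap.polarBilin_apply_apply, polar_self_two, QuadraticMap.comp_apply, LinearEquiv.coe_coe] at h1
    exact mul_left_cancel₀ h2 h1
  have hconj : (⟨h, hh⟩ : quadIsoms Q) * x = y * ⟨h, hh⟩ := by
    refine Subtype.ext (LinearEquiv.toLinearMap_injective (bv.ext fun t => ?_))
    show h (x.1 (bv t)) = y.1 (h (bv t))
    rw [hhb, hbv, hbw]
    rcases t with i | i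
    · show h (x.1 (v i)) = y.1 (w i)
      rw [show x.1 (v i) = bv (Sum.inr i) by rw [hbv]; rfl, hhb, hbw]; rfl
    · show h (x.1 (x.1 (v i))) = y.1 (y.1 (w i))
      rw [hxx, hyy, map_neg, show v i = bv (Sum.inl i) by rw [hbv]; rfl, hhb, hbw]; rfl
  -- the reflection in one coordinate line
  obtain ⟨u, Ou, hu0, -⟩ := C.exists_fam h2 hc0
  obtain ⟨k₀, hk₀⟩ : ∃ k₀ : Fin d, k₀ = ⟨0, hd⟩ := ⟨_, rfl⟩
  obtain ⟨v₀, hv₀def⟩ : ∃ v₀, v₀ = u (Sum.inl k₀) := ⟨_, rfl⟩
  have hv₀ : Q v₀ ≠ 0 := hv₀def ▸ Ou.ne _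
  have hsupp : ∀ k, k ≠ k₀ → e v₀ k = 0 ∧ e (y.1 v₀) k = 0 := fun k hk => by
    have h := (hu0 k₀ k hk).1
    rw [hy1, hv₀def, h]
    refine ⟨rfl, ?_⟩
    rw [← map_zero (algebraMap F L), E.conj_alg, map_zero, mul_zero]
  have hskew : polar Q v₀ (y.1 v₀) = 0 := by
    have h := polar_skew (J := y.1.toLinearMap) hyy (fun z => y.2 z) v₀ v₀
    simp only [LinearEquiv.coe_coe] at h
    rw [QuadraticMap.polar_comm Q (y.1 v₀) v₀] at h
    exact (mul_eq_zero.1 (show (2 : F) * polar Q v₀ (y.1 v₀) = 0 by linear_combination h)).resolve_left h2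
  have hrefl : ∀ z k, e (reflEquiv Q v₀ hv₀ (y.1 (reflEquiv Q v₀ hv₀ z))) k =
      (if k = k₀ then -1 else 1) * e (y.1 z) k := by
    intro z k
    obtain ⟨P, hP⟩ : ∃ P, P = (Q v₀)⁻¹ * polar Q v₀ z := ⟨_, rfl⟩
    obtain ⟨R, hR⟩ : ∃ R, R = (Q v₀)⁻¹ * polar Q v₀ (y.1 z) := ⟨_, rfl⟩
    have hform : reflEquiv Q v₀ hv₀ (y.1 (reflEquiv Q v₀ hv₀ z)) = y.1 z - P • y.1 v₀ - R • v₀ := by
      rw [reflEquiv_apply, reflEquiv_apply, ← hP, map_sub, map_smul, QuadraticMap.polar_sub_right,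
        QuadraticMap.polar_smul_right, hskew, smul_zero, sub_zero, ← hR]
    by_cases hk : k = k₀
    swap
    · rw [hform, if_neg hk]
      simp only [map_sub, map_smul, Pi.sub_apply, Pi.smul_apply, (hsupp k hk).1, (hsupp k hk).2, smul_zero, sub_zero,
        one_mul]
    subst hk
    -- the line is spanned by `v₀` and its image
    have hli : LinearIndependent F ![e v₀ k, e (y.1 v₀) k] := by
      rw [LinearIndependent.pair_iff]
      intro α β hαβ
      have hz : α • v₀ + β • y.1 v₀ = 0 := e.map_eq_zero_iff.1 (funext fun l => by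
        by_cases hl : l = k
        · subst hl; simpa using hαβ
        · simp [(hsupp l hl).1, (hsupp l hl).2])
      have h1 := congrArg (fun t => polar Q v₀ t) hz
      simp only [QuadraticMap.polar_add_right, QuadraticMap.polar_smul_right, polar_self_two, hskew, smul_eq_mul,
        mul_zero, add_zero, QuadraticMap.polar_zero_right] at h1
      have hα : α = 0 := (mul_eq_zero.1 h1).resolve_right (mul_ne_zero h2 hv₀)
      rw [hα, zero_smul, zero_add, smul_eq_zero] at hz
      exact ⟨hα, hz.resolve_right fun h0 => hv₀ (by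
        rw [y.1.map_eq_zero_iff.1 h0, QuadraticMap.map_zero])⟩
    haveI : FiniteDimensional F L := Module.Finite.of_finite
    have htop := hli.span_eq_top_of_card_eq_finrank (by rw [Fintype.card_fin, E.finrank_eq])
    have hmem : e z k ∈ Submodule.span F (Set.range ![e v₀ k, e (y.1 v₀) k]) := htop ▸ trivial
    rw [Matrix.range_cons, Matrix.range_cons, Matrix.range_empty, Set.union_empty, Set.singleton_union] at hmem
    obtain ⟨α, β, hαβ⟩ := Submodule.mem_span_pair.1 hmem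
    obtain ⟨ρ, hρ⟩ : ∃ ρ, ρ = z - α • v₀ - β • y.1 v₀ := ⟨_, rfl⟩
    have hρk : e ρ k = 0 := by
      rw [hρ]; simp only [map_sub, map_smul, Pi.sub_apply, Pi.smul_apply]; rw [← hαβ]; abel
    have horth : polar Q v₀ ρ = 0 ∧ polar Q (y.1 v₀) ρ = 0 := by
      constructor <;>
      · rw [C.polar_eq, Finset.sum_eq_zero, ← map_zero (algebraMap F L), E.re_alg, mul_zero]
        intro l _
        by_cases hl : l = k
        · rw [hl, hρk, mul_zero, mul_zero]
        · simp [(hsupp l hl).1, (hsupp l hl).2]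
    have hz : z = α • v₀ + β • y.1 v₀ + ρ := by rw [hρ]; abel
    have hyρ : e (y.1 ρ) k = 0 := by rw [hy1, hρk, ← map_zero (algebraMap F L), E.conj_alg, map_zero, mul_zero]
    have hPval : P = 2 * α := by
      rw [hP, hz]
      simp only [QuadraticMap.polar_add_right, QuadraticMap.polar_smul_right, polar_self_two, hskew, horth.1,
        smul_eq_mul, mul_zero, add_zero]
      field_simp
    have hRval : R = -2 * β := by
      rw [hR, hz]
      simp only [map_add, map_smul, hyy, QuadraticMap.polar_add_right, QuadraticMap.polar_smul_right,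
        QuadraticMap.polar_neg_right, polar_self_two, hskew, smul_eq_mul, mul_zero, zero_add]
      have h3 := polar_skew (J := y.1.toLinearMap) hyy (fun z => y.2 z) v₀ ρ
      simp only [LinearEquiv.coe_coe] at h3
      rw [horth.2] at h3
      rw [neg_eq_zero.1 h3.symm]
      field_simp
      ring
    rw [hform, if_pos rfl, hPval, hRval, hz]
    simp only [map_add, map_sub, map_smul, map_neg, hyy, Pi.add_apply, Pi.sub_apply, Pi.smul_apply, Pi.neg_apply, hyρ]
    simp only [Algebra.smul_def, map_neg, map_mul, map_ofNat]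
    ring
  have hy' : Semi J ((⟨reflEquiv Q v₀ hv₀, reflEquiv_mem Q v₀ hv₀⟩ : quadIsoms Q)⁻¹ * y *
      ⟨reflEquiv Q v₀ hv₀, reflEquiv_mem Q v₀ hv₀⟩) := by
    refine ⟨-1, by simp, fun z => ?_⟩
    have heq : ∀ t, ((⟨reflEquiv Q v₀ hv₀, reflEquiv_mem Q v₀ hv₀⟩ : quadIsoms Q)⁻¹ * y *
        ⟨reflEquiv Q v₀ hv₀, reflEquiv_mem Q v₀ hv₀⟩).1 t = reflEquiv Q v₀ hv₀ (y.1 (reflEquiv Q v₀ hv₀ t)) :=
      fun t => by simp [mul_assoc, reflEquiv_inv]
    refine e.injective (funext fun k => ?_)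
    rw [heq, heq, map_smul, Pi.smul_apply, C.map_J, hrefl, hrefl, hy1, hy1, C.map_J, E.conj_mul, E.conj_θ,
      neg_one_smul]
    ring
  refine finish A.sep h2 (S := {g | Semi J g}) hconj (cover A.sep h2 (fun b hb => ?_) hsemi
    (ρ := ⟨reflEquiv Q v₀ hv₀, reflEquiv_mem Q v₀ hv₀⟩) (by rw [sp_refl]) hy')
  -- rotations of every spinor norm
  obtain ⟨v₁, hv₁⟩ : ∃ v₁, v₁ = w k₀ := ⟨_, rfl⟩
  have hQ₁ : Q v₁ = 1 := hv₁ ▸ hw k₀
  have hp₁ : polar Q v₁ (y.1 v₁) = 0 := hv₁ ▸ Ow.orth (Sum.inl k₀) (Sum.inr k₀) Sum.inl_ne_inr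
  obtain ⟨α, β, hαβ⟩ := exists_binary_eq h2 (one_ne_zero (α := F)) one_ne_zero b
  have hQw : Q (α • v₁ + β • y.1 v₁) = b := by
    rw [quad_map_add_smul, quad_smul, QuadraticMap.polar_smul_left, hQ₁, y.2, hQ₁, hp₁, smul_zero, mul_zero, add_zero]
    linear_combination hαβ
  refine ⟨v₁, α • v₁ + β • y.1 v₁, hQ₁ ▸ one_ne_zero, hQw.symm ▸ hb, ?_, fun z => ?_⟩
  · rw [hQ₁, hQw, one_mul]; exact ⟨b, rfl⟩
  · have h1 := polar_quadIsom (Q := Q) y.2 v₁ z
    have h3 := polar_quadIsom (Q := Q) y.2 (y.1 v₁) z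
    rw [hyy, QuadraticMap.polar_neg_left] at h3
    have hsym : polar Q (y.1 v₁) v₁ = 0 := by rw [QuadraticMap.polar_comm]; exact hp₁
    simp only [reflEquiv_apply, map_sub, map_smul, map_add, hyy, hQ₁, hQw, QuadraticMap.polar_sub_right,
      QuadraticMap.polar_smul_right, QuadraticMap.polar_add_left, QuadraticMap.polar_smul_left,
      QuadraticMap.polar_add_right, polar_self_two, hp₁, smul_eq_mul, mul_zero, add_zero, inv_one,
      one_mul, smul_neg, smul_add, smul_smul]
    have hb' : b = α * α + β * β := by linear_combination -hαβ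
    have e1 : polar Q v₁ z = polar Q (y.1 v₁) (y.1 z) := h1.symm
    have e2 : polar Q (y.1 v₁) z = -polar Q v₁ (y.1 z) := h3.symm
    simp only [e1, e2]
    subst hb'
    have hne : α ^ 2 + β ^ 2 ≠ 0 := fun h => hb (by linear_combination h)
    have hne' : β ^ 2 + α ^ 2 ≠ 0 := fun h => hb (by linear_combination h)
    match_scalars <;> field_simp <;> ring

end CfsgLib.MaxSub.OrthExt
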