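import Cfsg.Agent.Lib.MaxSub.OrthSing
import Cfsg.Agent.Lib.Geom.OmegaMax

/-!
Long root elements of `Ω` in odd characteristic.
-/

set_option autoImplicit false

namespace CfsgLib.MaxSub.OrthExt

open CfsgLib CfsgLib.Classical CfsgLib.Geom Matrix
open QuadraticMap (polar)

universe u

variable {F : Type u} [Field F] [Fintype F] {ι : Type} [Fintype ι] [DecidableEq ι] {Q : QuadraticForm F (ι → F)}

/-- An element of `Ω` of order `p` moving a totally singular plane. -/
theorem exists_root (hQ : ∀ z, (∀ y, polar Q z y = 0) → z = 0) (hn : 8 ≤ Module.finrank F (ι → F))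
    {p : ℕ} [CharP F p] :
    ∃ x : GL ι F, x ∈ Cfsg.Geo.omegaGL (⇑Q) ∧ x ^ p = 1 ∧
      Module.finrank F ↥(LinearMap.range ((glLin x).toLinearMap - 1)) = 2 ∧
      ∀ a b, polar Q (glLin x a - a) (glLin x b - b) = 0 := by
  classical
  have htop : 3 ≤ Module.finrank F (⊤ : Submodule F (ι → F)) := by rw [finrank_top]; omega
  obtain ⟨u, -, hu0, hQu⟩ := exists_singular_in (Q := Q) htop
  obtain ⟨C, hC⟩ := (Submodule.span F {u}).exists_isCompl
  have hCd := Submodule.finrank_add_eq_of_isCompl hC
  rw [finrank_span_singleton hu0] at hCd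
  have h1 := finrank_le_finrank_qPerp_add (Q := Q) ({u} : Finset (ι → F))
  have h3 := Submodule.finrank_sup_add_finrank_inf_eq (qPerp Q (({u} : Finset (ι → F)) : Set (ι → F))) C
  have h4 := Submodule.finrank_le (qPerp Q (({u} : Finset (ι → F)) : Set (ι → F)) ⊔ C)
  rw [Finset.card_singleton] at h1
  obtain ⟨w, ⟨hwp, hwC⟩, hw0, hQw⟩ := exists_singular_in (Q := Q)
    (W := qPerp Q (({u} : Finset (ι → F)) : Set (ι → F)) ⊓ C) (by omega)
  have huw : polar Q u w = 0 := by
    rw [QuadraticMap.polar_comm]; exact mem_qPerp.1 hwp u (by simp)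
  have hwu : ∀ c : F, w ≠ c • u := fun c e => hw0 (by
    have hmem : w ∈ Submodule.span F {u} ⊓ C := ⟨e ▸ Submodule.smul_mem _ c (Submodule.mem_span_singleton_self u), hwC⟩
    rw [hC.disjoint.eq_bot] at hmem
    exact hmem)
  obtain ⟨s, hsdef⟩ : ∃ s, s = siegel Q u w := ⟨_, rfl⟩
  have hs : ∀ z, s.1 z = z + (polar Q u z • w - polar Q w z • u) := fun z => by
    rw [hsdef, siegel_apply Q hQu huw, hQw, zero_mul, add_zero]; abel
  obtain ⟨x, hxdef⟩ : ∃ x, x = isomsToGL Q s := ⟨_, rfl⟩
  have hx : x ∈ Cfsg.Geo.omegaGL (⇑Q) := by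
    rw [omegaGL_eq_map, hxdef, hsdef]
    exact Subgroup.mem_map_of_mem _ (OrthSub.siegel_mem_commutator hQ (by omega) u w)
  have hxz : ∀ z, glLin x z = z + (polar Q u z • w - polar Q w z • u) := fun z => by
    rw [glLin_apply, hxdef, isomsToGL_mulVec, hs]
  have huu : polar Q u u = 0 := by rw [polar_self_two, hQu, mul_zero]
  have hww : polar Q w w = 0 := by rw [polar_self_two, hQw, mul_zero]
  have hwu' : polar Q w u = 0 := (QuadraticMap.polar_comm Q w u).trans huw
  have hpow : ∀ (n : ℕ) z, glLin (x ^ n) z = z + (n : F) • (polar Q u z • w - polar Q w z • u) := by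
    intro n
    induction n with
    | zero => intro z; simp
    | succ n ih =>
      intro z
      rw [pow_succ', map_mul, LinearEquiv.mul_apply, ih, hxz]
      simp only [QuadraticMap.polar_add_right, QuadraticMap.polar_sub_right, QuadraticMap.polar_smul_right, huu, huw,
        hwu', hww, smul_eq_mul, mul_zero, sub_zero, add_zero, Nat.cast_succ]
      module
  refine ⟨x, hx, ?_, ?_, fun a b => ?_⟩
  · refine (glLin (ι := ι) (F := F)).injective (LinearEquiv.ext fun z => ?_)
    rw [hpow, CharP.cast_eq_zero, zero_smul, add_zero, map_one]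
    rfl
  · obtain ⟨N, hN⟩ : ∃ N, N = (glLin x).toLinearMap - 1 := ⟨_, rfl⟩
    have hNz : ∀ z, N z = polar Q u z • w - polar Q w z • u := fun z => by
      rw [hN, LinearMap.sub_apply, LinearEquiv.coe_coe, Module.End.one_apply, hxz, add_sub_cancel_left]
    rw [← hN]
    refine le_antisymm ?_ ?_
    · have hle : LinearMap.range N ≤ Submodule.span F (({u, w} : Finset (ι → F)) : Set (ι → F)) := by
        rintro _ ⟨z, rfl⟩
        rw [hNz, Finset.coe_pair]
        exact sub_mem (Submodule.smul_mem _ _ (Submodule.subset_span (Set.mem_insert_of_mem _ rfl)))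
          (Submodule.smul_mem _ _ (Submodule.subset_span (Set.mem_insert _ _)))
      exact (Submodule.finrank_mono hle).trans ((finrank_span_finset_le_card _).trans Finset.card_le_two)
    · obtain ⟨z₀, hz₀⟩ : ∃ z, polar Q u z ≠ 0 := by
        by_contra h; push Not at h; exact hu0 (hQ u h)
      obtain ⟨z₁, hz₁, hz₁'⟩ : ∃ z, polar Q u z = 0 ∧ polar Q w z ≠ 0 := by
        by_contra h
        push Not at h
        refine hwu (polar Q w z₀ / polar Q u z₀) (sub_eq_zero.1 (hQ _ fun z => ?_))
        have h0 := h (z - (polar Q u z / polar Q u z₀) • z₀) (by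
          rw [QuadraticMap.polar_sub_right, QuadraticMap.polar_smul_right, smul_eq_mul, div_mul_cancel₀ _ hz₀, sub_self])
        rw [QuadraticMap.polar_sub_right, QuadraticMap.polar_smul_right, smul_eq_mul] at h0
        rw [QuadraticMap.polar_sub_left, QuadraticMap.polar_smul_left, smul_eq_mul]
        linear_combination h0
      have hli : LinearIndependent F ![N z₀, N z₁] := LinearIndependent.pair_iff.2 fun α β h => by
        rw [hNz, hNz, hz₁, zero_smul, zero_sub] at h
        have hα : α = 0 := by
          by_contra hα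
          refine hwu ((α * polar Q w z₀ + β * polar Q w z₁) / (α * polar Q u z₀)) ?_
          have hne : α * polar Q u z₀ ≠ 0 := mul_ne_zero hα hz₀
          refine smul_right_injective (ι → F) hne ?_
          show (α * polar Q u z₀) • w = (α * polar Q u z₀) • (_ • u)
          rw [smul_smul, mul_div_cancel₀ _ hne]
          linear_combination (norm := module) h
        rw [hα, zero_smul, zero_add, smul_neg, neg_eq_zero, smul_smul, smul_eq_zero] at h
        exact ⟨hα, (mul_eq_zero.1 (h.resolve_right hu0)).resolve_right hz₁'⟩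
      have hle : Submodule.span F (Set.range ![N z₀, N z₁]) ≤ LinearMap.range N := Submodule.span_le.2 (by
        rintro _ ⟨k, rfl⟩
        fin_cases k <;> exact ⟨_, rfl⟩)
      have := Submodule.finrank_mono hle
      rwa [finrank_span_eq_card hli, Fintype.card_fin] at this
  · rw [hxz, hxz, add_sub_cancel_left, add_sub_cancel_left]
    simp only [QuadraticMap.polar_sub_left, QuadraticMap.polar_sub_right, QuadraticMap.polar_smul_left,
      QuadraticMap.polar_smul_right, huu, huw, hwu', hww, smul_eq_mul, mul_zero, sub_zero]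

end CfsgLib.MaxSub.OrthExt
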