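import Cfsg.Agent.Lib.MaxSub.OrthExtInvol
import Cfsg.Agent.Lib.MaxSub.OrthExtArith
import Cfsg.Agent.Lib.MaxSub.OrthExtRoot
import Cfsg.Agent.Lib.MaxSub.IsoNDMain
import Cfsg.Agent.Lib.MaxSub.IsoNDStd

/-!
Which prime-order elements of an orthogonal group fix a field extension structure of orthogonal type.
-/

set_option autoImplicit false

namespace CfsgLib.MaxSub.OrthExt

open CfsgLib CfsgLib.Classical CfsgLib.Geom CfsgLib.KnownC CfsgLib.KnownC.OrthType CfsgLib.MaxSub.IsoType Matrix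
open QuadraticMap (polar)

universe u w

variable {F : Type u} [Field F] [Fintype F] {ι : Type} [Fintype ι] [DecidableEq ι] {Q : QuadraticForm F (ι → F)}
  {K : Subalgebra F (Matrix ι ι F)} {j : Matrix ι ι F} {δ : F} {d : ℕ}
  (A : SelfAdj Q (Matrix.toLinAlgEquiv' j) δ) (hjK : j ∈ K) (hspan : ∀ k ∈ K, ∃ a b : F, k = a • 1 + b • j)
  (hV : Module.finrank F (ι → F) = 2 * d)

include hjK hspan in
omit [Fintype F] in
/-- Semilinear maps normalise. -/
theorem mem_norm {g : GL ι F} {β : F} (hβ : β ≠ 0) (h : ∀ z, glLin g (j *ᵥ z) = β • (j *ᵥ glLin g z)) :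
    g ∈ Cfsg.Geo.subalgebraNormalizer K := by
  have key : ∀ {g : GL ι F} {β : F}, (g : Matrix ι ι F) * j = β • (j * (g : Matrix ι ι F)) →
      ∀ k ∈ K, (g : Matrix ι ι F) * k * ((g⁻¹ : GL ι F) : Matrix ι ι F) ∈ K := by
    intro g β h k hk
    obtain ⟨p, q, rfl⟩ := hspan k hk
    rw [Matrix.mul_add, Matrix.mul_smul, Matrix.mul_smul, h, Matrix.mul_one, Matrix.add_mul, Matrix.smul_mul,
      Matrix.smul_mul, Matrix.smul_mul, Matrix.mul_assoc, ← Units.val_mul, mul_inv_cancel, Units.val_one,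
      Matrix.mul_one]
    exact add_mem (K.smul_mem (one_mem K) p) (K.smul_mem (K.smul_mem hjK β) q)
  have hm : (g : Matrix ι ι F) * j = β • (j * (g : Matrix ι ι F)) := Matrix.ext_of_mulVec_single fun k => by
    have h1 := h (Pi.single k 1)
    rw [glLin_apply, glLin_apply, mulVec_mulVec, mulVec_mulVec] at h1
    rw [h1, smul_mulVec]
  have hm' : ((g⁻¹ : GL ι F) : Matrix ι ι F) * j = β⁻¹ • (j * ((g⁻¹ : GL ι F) : Matrix ι ι F)) := by
    have h1 := congrArg (fun M => ((g⁻¹ : GL ι F) : Matrix ι ι F) * M * ((g⁻¹ : GL ι F) : Matrix ι ι F)) hm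
    simp only [Matrix.mul_smul, Matrix.smul_mul, ← Matrix.mul_assoc, ← Units.val_mul, inv_mul_cancel, Units.val_one,
      Matrix.one_mul] at h1
    simp only [Matrix.mul_assoc, ← Units.val_mul, mul_inv_cancel, Units.val_one, Matrix.mul_one] at h1
    rw [h1, smul_smul, inv_mul_cancel₀ hβ, one_smul]
  refine fun k => ⟨key hm k, fun hk => ?_⟩
  have h1 := key hm' _ hk
  simpa [Matrix.mul_assoc, ← Units.val_mul] using h1

include A hjK hspan in
omit [Fintype F] in
/-- Normalising elements commute or anticommute with `j`. -/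
theorem exists_beta (h2 : (2 : F) ≠ 0) {y : GL ι F} (hy : y ∈ Cfsg.Geo.subalgebraNormalizer K) {w : ι → F}
    (hw : w ≠ 0) : ∃ β : F, β * β = 1 ∧ ∀ v, glLin y (j *ᵥ v) = β • (j *ᵥ glLin y v) := by
  obtain ⟨a, b, hab⟩ := hspan _ ((hy j).mp hjK)
  have h1 : ∀ v, glLin y (j *ᵥ v) = a • glLin y v + b • (j *ᵥ glLin y v) := fun v => by
    rw [glLin_apply, glLin_apply, mulVec_mulVec]
    have h := congrArg (fun M => M * (y : Matrix ι ι F)) hab
    simp only [mul_assoc, ← Units.val_mul, inv_mul_cancel, Units.val_one, mul_one] at h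
    rw [h, add_mul, add_mulVec, smul_mul_assoc, smul_mul_assoc, one_mul, smul_mulVec, smul_mulVec, mulVec_mulVec]
  have hsq : ∀ v, j *ᵥ (j *ᵥ v) = δ • v := fun v => by simpa using A.sq v
  have h3 : ∀ u, (a * a + b * b * δ - δ) • u + (2 * a * b) • (j *ᵥ u) = 0 := fun u => by
    obtain ⟨v, rfl⟩ := (glLin y).surjective u
    have h := h1 (j *ᵥ v)
    rw [hsq, map_smul, h1, mulVec_add, mulVec_smul, mulVec_smul, hsq] at h
    linear_combination (norm := module) -h
  have h2ab : 2 * a * b = 0 := by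
    by_contra hne
    refine hw (A.no_eigen (t := -(a * a + b * b * δ - δ) / (2 * a * b)) ?_)
    rw [Matrix.toLinAlgEquiv'_apply, div_eq_inv_mul, mul_smul, neg_smul, ← eq_neg_of_add_eq_zero_right (h3 w),
      smul_smul, inv_mul_cancel₀ hne, one_smul]
  have hd0 : a * a + b * b * δ - δ = 0 := by
    have h := h3 w
    rw [h2ab, zero_smul, add_zero] at h
    exact (smul_eq_zero.1 h).resolve_right hw
  have ha : a = 0 := by
    rcases mul_eq_zero.1 h2ab with h | h
    · exact (mul_eq_zero.1 h).resolve_left h2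
    · exact absurd (by rw [h] at hd0; linear_combination hd0) (A.nonsq a)
  refine ⟨b, mul_right_cancel₀ A.δ_ne (by rw [ha] at hd0; linear_combination hd0), fun v => ?_⟩
  rw [h1, ha, zero_smul, zero_add]

include A hjK hspan in
omit [Fintype F] in
/-- What a fixed point gives for an element of odd order. -/
theorem exists_comm (h2 : (2 : F) ≠ 0) {w : ι → F} (hw : w ≠ 0) {r : ℕ} (hr : Odd r) {x g : GL ι F}
    (hxq : ∀ v, Q (glLin x v) = Q v) (hgq : ∀ v, Q (glLin g v) = Q v) (hxr : x ^ r = 1)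
    (hfix : g⁻¹ * x * g ∈ Cfsg.Geo.subalgebraNormalizer K) :
    ∃ T : Module.End F (ι → F), (∀ v, Q (T v) = Q v) ∧ T ^ r = 1 ∧
      (∀ v, T (Matrix.toLinAlgEquiv' j v) = Matrix.toLinAlgEquiv' j (T v)) ∧
        Module.finrank F ↥(LinearMap.range (T - 1)) = Module.finrank F ↥(LinearMap.range ((glLin x).toLinearMap - 1)) ∧
          ((∀ a b, polar Q (glLin x a - a) (glLin x b - b) = 0) → ∀ a b, polar Q ((T - 1) a) ((T - 1) b) = 0) := by
  obtain ⟨y, hy⟩ : ∃ y, y = g⁻¹ * x * g := ⟨_, rfl⟩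
  rw [← hy] at hfix
  have hgi : ∀ v, Q (glLin g⁻¹ v) = Q v := fun v => by
    conv_rhs => rw [← LinearEquiv.apply_symm_apply (glLin g) v, hgq]
    rw [map_inv]; rfl
  have hyv : ∀ v, glLin y v = glLin g⁻¹ (glLin x (glLin g v)) := fun v => by
    rw [hy, map_mul, map_mul, LinearEquiv.mul_apply, LinearEquiv.mul_apply]
  have hsub : ∀ v, glLin y v - v = glLin g⁻¹ (glLin x (glLin g v) - glLin g v) := fun v => by
    rw [hyv, map_sub]
    congr 1
    rw [← LinearEquiv.mul_apply, ← map_mul, inv_mul_cancel, map_one]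
    rfl
  have hyr : y ^ r = 1 := by
    rw [hy, show g⁻¹ * x * g = g⁻¹ * x * g⁻¹⁻¹ by rw [inv_inv], conj_pow, hxr, mul_one, mul_inv_cancel]
  have hpow : ∀ (k : ℕ) v, ((glLin y).toLinearMap ^ k) v = glLin (y ^ k) v := by
    intro k
    induction k with
    | zero => intro v; simp
    | succ k ih => intro v; rw [pow_succ', Module.End.mul_apply, ih, pow_succ', map_mul]; rfl
  obtain ⟨β, hβ, hβj⟩ := exists_beta A hjK hspan h2 hfix hw
  have hβk : ∀ (k : ℕ) v, glLin (y ^ k) (j *ᵥ v) = β ^ k • (j *ᵥ glLin (y ^ k) v) := by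
    intro k
    induction k with
    | zero => intro v; simp
    | succ k ih =>
      intro v
      rw [pow_succ', map_mul, LinearEquiv.mul_apply, ih, map_smul, hβj, smul_smul, LinearEquiv.mul_apply, pow_succ]
  have hβ1 : β = 1 := by
    have h := hβk r w
    rw [hyr, map_one] at h
    have hjw : j *ᵥ w ≠ 0 := fun h0 => hw (A.J_inj (by simpa using h0))
    have h1 : β ^ r = 1 := (smul_left_injective F hjw (by simpa using h)).symm
    obtain ⟨k, rfl⟩ := hr
    rw [pow_succ, pow_mul, pow_two, hβ, one_pow, one_mul] at h1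
    exact h1
  refine ⟨(glLin y).toLinearMap, fun v => ?_, LinearMap.ext fun v => ?_, fun v => ?_, ?_, fun hts a b => ?_⟩
  · rw [LinearEquiv.coe_coe, hyv, hgi, hxq, hgq]
  · rw [hpow, hyr, map_one]; rfl
  · simpa [hβ1] using hβj v
  · have hrange : LinearMap.range ((glLin y).toLinearMap - 1) =
        (LinearMap.range ((glLin x).toLinearMap - 1)).map (glLin g⁻¹).toLinearMap := by
      refine le_antisymm ?_ ?_
      · rintro _ ⟨v, rfl⟩
        exact ⟨_, ⟨glLin g v, rfl⟩, (hsub v).symm⟩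
      · rintro _ ⟨_, ⟨v, rfl⟩, rfl⟩
        obtain ⟨u, rfl⟩ := (glLin g).surjective v
        exact ⟨u, hsub u⟩
    rw [hrange, LinearEquiv.finrank_map_eq]
  · show polar Q (glLin y a - a) (glLin y b - b) = 0
    rw [hsub, hsub, ← hts (glLin g a) (glLin g b)]
    simp only [polar, ← map_add, hgi]

omit [Fintype F] in
theorem iso_glLin {x : GL ι F} (hx : x ∈ Cfsg.Geo.omegaGL (⇑Q)) (v : ι → F) : Q (glLin x v) = Q v := by
  rw [glLin_apply]; exact IsoNDMain.iso_of_mem hx v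

variable {L : Type w} [Field L] [Algebra F L] [Fintype L] [Module L (ι → F)] [IsScalarTower F L (ι → F)] {θ : L}
  (E : QE θ δ) (hθJ : ∀ z : ι → F, θ • z = Matrix.toLinAlgEquiv' j z)

include A hjK hspan hV E hθJ in
/-- The numerical consequences for the index. -/
theorem index_bounds (h2 : (2 : F) ≠ 0) {k : ℕ} (hk : d = k + 1) : ∃ b : Bool, (b = true ↔ HasHalf Q ⊤) ∧
    (Cfsg.Geo.subalgebraNormalizer K).relIndex (Cfsg.Geo.omegaGL (⇑Q)) ∣ orderO (Fintype.card F) k b ∧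
    (∀ m, k = 2 * m → (Cfsg.Geo.subalgebraNormalizer K).relIndex (Cfsg.Geo.omegaGL (⇑Q)) *
      (2 * (Fintype.card F ^ 2) ^ (m ^ 2) * ∏ i ∈ Finset.range m, ((Fintype.card F ^ 2) ^ (2 * (i + 1)) - 1)) ∣
        orderO (Fintype.card F) k b) ∧
    (∀ m, k = 2 * m + 1 → (Cfsg.Geo.subalgebraNormalizer K).relIndex (Cfsg.Geo.omegaGL (⇑Q)) *
      orderO (Fintype.card F ^ 2) m b ∣ orderO (Fintype.card F) k b) := by
  classical
  subst hk
  obtain ⟨b, hb⟩ : ∃ b : Bool, (b = true ↔ HasHalf Q ⊤) :=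
    ⟨decide (HasHalf Q ⊤), by simp⟩
  have hplus : IsPlus Q (k + 1) ↔ b = true := (isPlus_iff_hasHalf Q A.sep hV).trans hb.symm
  have hO : Nat.card (Cfsg.isometryGroup F (⇑Q)) = orderO (Fintype.card F) k b := by
    rw [← Nat.card_congr (orEquiv Q).toEquiv]
    cases b
    · obtain ⟨l, hl, hM⟩ := (dichotomy Q A.sep hV).resolve_left fun h => by simpa using hplus.1 h
      obtain rfl : k = l := by omega
      obtain ⟨a, c, hac⟩ := exists_anisotropic_binary (F := F)
      obtain ⟨f, hf⟩ := hM a c hac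
      rw [← card_quadIsoms_congr (qfMinus k F a c) Q f hf, card_qfMinus_isoms hac]
      simp [orderO, typeFactor]
    · obtain ⟨f, hf⟩ := hplus.2 rfl
      rw [← card_quadIsoms_congr (qfPlus (k + 1) F) Q f hf, card_qfPlus_isoms]
      simp [orderO, typeFactor]
  obtain ⟨M, hM⟩ : ∃ M : Subgroup (Cfsg.isometryGroup F (⇑Q)),
      M = (Cfsg.Geo.subalgebraNormalizer K).comap (Cfsg.isometryGroup F (⇑Q)).subtype := ⟨_, rfl⟩
  obtain ⟨Om, hOm⟩ : ∃ Om, Om = Cfsg.Omega F (⇑Q) := ⟨_, rfl⟩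
  have hI : (Cfsg.Geo.subalgebraNormalizer K).relIndex (Cfsg.Geo.omegaGL (⇑Q)) = M.relIndex Om := by
    rw [hM, hOm, Subgroup.relIndex_comap]; rfl
  have hidx : Om.index = 4 := hOm ▸ omega_index_odd Q A.sep h2 (by
    rw [Module.finrank_fintype_fun_eq_card] at hV; omega)
  have hdvd : M.relIndex Om * Nat.card M ∣ Nat.card (Cfsg.isometryGroup F (⇑Q)) := by
    haveI : Om.Normal := hOm ▸ (inferInstance : (commutator (Cfsg.isometryGroup F (⇑Q))).Normal)
    have h1 : Nat.card ↥(M ⊓ Om) * M.relIndex Om = Nat.card Om := by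
      rw [← Subgroup.inf_relIndex_right M Om, Subgroup.relIndex,
        ← Nat.card_congr (Subgroup.subgroupOfEquivOfLe (inf_le_right : M ⊓ Om ≤ Om)).toEquiv, Subgroup.card_mul_index]
    have h3 : Nat.card ↥M = Nat.card ↥(M ⊓ Om) * Om.relIndex M := by
      rw [← Subgroup.card_mul_index (Om.subgroupOf M), Subgroup.relIndex, ← Subgroup.inf_subgroupOf_right Om M,
        inf_comm M Om, Nat.card_congr (Subgroup.subgroupOfEquivOfLe (inf_le_right : Om ⊓ M ≤ M)).toEquiv]
    rw [← Om.card_mul_index, ← h1, h3, hidx, ← mul_assoc, mul_comm (M.relIndex Om)]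
    exact mul_dvd_mul_left _ (hidx ▸ Subgroup.relIndex_dvd_index_of_normal (H := Om) (K := M))
  refine ⟨b, hb, ?_⟩
  rw [hI, ← hO]
  obtain ⟨φ, hφ⟩ : ∃ φ : Cfsg.isometryGroup F (⇑Q) →* ((ι → F) ≃ₗ[F] (ι → F)),
      φ = (glLin (ι := ι) (F := F)).toMonoidHom.comp (Cfsg.isometryGroup F (⇑Q)).subtype := ⟨_, rfl⟩
  have hφi : Function.Injective φ := by
    rw [hφ]; exact (glLin (ι := ι) (F := F)).injective.comp Subtype.val_injective
  have hG : ∀ g : (ι → F) ≃ₗ[F] (ι → F), (∀ z, Q (g z) = Q z) →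
      (∀ z, g (Matrix.toLinAlgEquiv' j z) = Matrix.toLinAlgEquiv' j (g z)) → g ∈ M.map φ := by
    intro g hgQ hgJ
    obtain ⟨y, rfl⟩ := (glLin (ι := ι) (F := F)).surjective g
    have hyO : y ∈ Cfsg.isometryGroup F (⇑Q) := (mem_isometryGroup_iff _ _).2 fun v => by
      rw [← glLin_apply]; exact hgQ v
    refine ⟨⟨y, hyO⟩, ?_, by rw [hφ]; rfl⟩
    rw [hM]
    exact mem_norm hjK hspan one_ne_zero fun z => by simpa using hgJ z
  have hcd := card_dvd A h2 hθJ hV (E := E) (M.map φ) hG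
  rw [Subgroup.card_map_of_injective hφi] at hcd
  refine ⟨(dvd_mul_right _ _).trans hdvd, fun m hm => ?_, fun m hm => ?_⟩
  · exact (mul_dvd_mul_left _ (hcd.1 m (by omega))).trans hdvd
  · refine (mul_dvd_mul_left _ ?_).trans hdvd
    obtain ⟨hp, hn⟩ := hcd.2 m (by omega)
    cases b
    · exact hn fun h => by simpa using hplus.1 h
    · exact hp (hplus.2 rfl)

include A hjK hspan hV E hθJ in
/-- The criterion. -/
theorem main {p : ℕ} [Fact p.Prime] [CharP F p] (h2 : (2 : F) ≠ 0) (hd : 4 ≤ d) {r : ℕ} [hrP : Fact r.Prime]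
    (hΩ : r ∣ (Cfsg.Geo.subalgebraNormalizer K).relIndex (Cfsg.Geo.omegaGL (⇑Q))) :
    (∀ x ∈ Cfsg.Geo.omegaGL (⇑Q), (∃ z : F, ((x ^ r : GL ι F) : Matrix ι ι F) = z • (1 : Matrix ι ι F)) →
      (∀ z : F, (x : Matrix ι ι F) ≠ z • (1 : Matrix ι ι F)) →
      ∃ g ∈ Cfsg.Geo.omegaGL (⇑Q), g⁻¹ * x * g ∈ Cfsg.Geo.subalgebraNormalizer K) ↔ r = 2 := by
  classical
  have hr : r.Prime := hrP.out
  haveI : Nonempty ι := Fintype.card_pos_iff.1 (by rw [← Module.finrank_fintype_fun_eq_card F, hV]; omega)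
  haveI : Nontrivial (ι → F) := inferInstance
  obtain ⟨v₀, hv₀⟩ := CfsgLib.Geom.exists_anisotropic Q A.sep
  have hv₀' : v₀ ≠ 0 := fun h => hv₀ (by rw [h, QuadraticMap.map_zero])
  constructor
  · intro hall
    by_contra hr2
    have hrodd := hr.odd_of_ne_two hr2
    have hwit : ∀ x ∈ Cfsg.Geo.omegaGL (⇑Q), x ^ r = 1 → ∀ c, 0 < c →
        Module.finrank F ↥(LinearMap.range ((glLin x).toLinearMap - 1)) = c →
        ∃ T : Module.End F (ι → F), (∀ v, Q (T v) = Q v) ∧ T ^ r = 1 ∧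
          (∀ v, T (Matrix.toLinAlgEquiv' j v) = Matrix.toLinAlgEquiv' j (T v)) ∧
            Module.finrank F ↥(LinearMap.range (T - 1)) = c ∧
              ((∀ a b, polar Q (glLin x a - a) (glLin x b - b) = 0) →
                ∀ a b, polar Q ((T - 1) a) ((T - 1) b) = 0) := by
      intro x hx hxr c hc0 hc
      obtain ⟨g, hg, hfix⟩ := hall x hx ⟨1, by rw [hxr, one_smul]; rfl⟩ fun z hz => by
        have hz2 := IsoNDMain.scalar_sq hv₀ hx hz
        have hzr : z ^ r = 1 := by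
          have h' := congrArg (fun y : GL ι F => (y : Matrix ι ι F) *ᵥ v₀) hxr
          simp only [Units.val_pow_eq_pow_val, hz, _root_.smul_pow, one_pow, Matrix.smul_mulVec, Matrix.one_mulVec,
            Units.val_one] at h'
          exact smul_left_injective F hv₀' (by simpa using h')
        obtain ⟨k, hk⟩ := hrodd
        rw [hk, pow_succ, pow_mul, pow_two, hz2, one_pow, one_mul] at hzr
        rw [LinearMap.range_eq_bot.2 (LinearMap.ext fun v => by
          rw [LinearMap.sub_apply, LinearEquiv.coe_coe, glLin_apply, hz, hzr, one_smul, one_mulVec,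
            Module.End.one_apply, sub_self]; rfl), finrank_bot] at hc
        omega
      obtain ⟨T, h1, h2, h3, h4, h5⟩ :=
        exists_comm A hjK hspan h2 hv₀' hrodd (iso_glLin hx) (iso_glLin hg) hxr hfix
      exact ⟨T, h1, h2, h3, h4.trans hc, h5⟩
    by_cases hrp : r = p
    · subst hrp
      obtain ⟨x, hx, hxr, hc, hts⟩ := exists_root (Q := Q) A.sep (by omega) (p := r)
      obtain ⟨T, hT, -, hTJ, hT2, hTts⟩ := hwit x hx hxr 2 two_pos hc
      exact contra_root A h2 hT hTJ (hTts hts) hT2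
    have hrF : (r : F) ≠ 0 := SympOrderR.r_ne_zero (p := p) hr hrp
    obtain ⟨i, hi⟩ : ∃ i, i = orderOf (Fintype.card F : ZMod r) := ⟨_, rfl⟩
    have hipos : 0 < i := SympOrderR.i_pos (F := F) (p := p) rfl hr hrp hi
    have hrq : ¬ r ∣ Fintype.card F := fun h => by
      rw [← ZMod.natCast_eq_zero_iff] at h
      rw [h] at hi
      simp at hi
      omega
    obtain ⟨c, hc⟩ : ∃ c, c = if Even i then i else 2 * i := ⟨_, rfl⟩
    obtain ⟨b, hb, hdI, hodd, heven⟩ := index_bounds A hjK hspan hV E hθJ h2 (k := d - 1) (by omega)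
    have hq2 : 2 ≤ Fintype.card F := Fintype.one_lt_card
    by_cases h4 : 4 ∣ i
    · exact not_dvd_four hq2 hi hr2 hrq h4 hodd heven hΩ
    have hle := dvd_orderO hq2 hi hr2 hrq hipos hc (hΩ.trans hdI)
    rw [show 2 * (d - 1 + 1) = 2 * d by omega] at hle
    have hcard : Fintype.card ι = 2 * d := by rw [← Module.finrank_fintype_fun_eq_card F, hV]
    have hallow : IsoNDMain.Allowed i c (2 * d) (HasHalf Q ⊤) 1 := by
      refine ⟨le_rfl, by omega, fun he => ?_⟩
      rcases hle with hl | ⟨-, hiff⟩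
      · omega
      · rw [← hb, hiff, IsoNDMain.PType]
        simp
    have hemb : ∀ k, 2 * k ≤ 2 * d → ∀ Q₀ : QuadraticForm F (Fin k ⊕ Fin k → F),
        (∀ x, (∀ y, polar Q₀ x y = 0) → x = 0) → (2 * k < 2 * d ∨ (HasHalf Q₀ ⊤ ↔ HasHalf Q ⊤)) →
          ∃ φ : (Fin k ⊕ Fin k → F) →ₗ[F] (ι → F), ∀ v, Q (φ v) = Q₀ v := by
      intro k hk Q₀ hQ₀ hcase
      rcases dichotomy Q A.sep hV with ⟨f, hf⟩ | ⟨l, rfl, hM⟩
      · have hh : HasHalf Q ⊤ := (isPlus_iff_hasHalf Q A.sep hV).1 ⟨f, hf⟩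
        obtain ⟨φ, hφ⟩ := IsoNDStd.plus_emb d k hk Q₀ hQ₀ (hcase.imp_right fun h => by simpa [hh] using h)
        exact ⟨f.toLinearMap ∘ₗ φ, fun v => (hf _).trans (hφ v)⟩
      · obtain ⟨a, c', hac⟩ := exists_anisotropic_binary (F := F)
        have hh : ¬ HasHalf Q ⊤ := fun h => not_plus_of_minus hac (hM a c' hac) ((isPlus_iff_hasHalf Q A.sep hV).2 h)
        obtain ⟨f, hf⟩ := hM a c' hac
        obtain ⟨φ, hφ⟩ := IsoNDStd.minus_emb hac l k hk Q₀ hQ₀ (hcase.imp_right fun h => by simpa [hh] using h)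
        exact ⟨f.toLinearMap ∘ₗ φ, fun v => (hf _).trans (hφ v)⟩
    obtain ⟨x, hx, hxr, -, -, hfix⟩ :=
      IsoNDMain.exists_element (p := p) A.sep hr2 hrp hi hc hcard (by omega) hemb hallow
    have hc0 : 0 < c := by rw [hc]; split_ifs <;> omega
    have hxc : Module.finrank F ↥(LinearMap.range ((glLin x).toLinearMap - 1)) = c := by
      have hsum := ((glLin x).toLinearMap - 1).finrank_range_add_finrank_ker
      rw [show (glLin x).toLinearMap = Matrix.toLin' (x : Matrix ι ι F) from rfl] at hsum ⊢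
      rw [hV] at hsum
      omega
    obtain ⟨T, hT, hTr, hTJ, hTc, -⟩ := hwit x hx hxr c hc0 hxc
    by_cases hev : Even i
    · obtain ⟨m, hm⟩ := hev.two_dvd
      exact contra_two A hr hT hTr hrF hr2 hTJ h2 hi hm (Nat.odd_iff.2 (by omega))
        (by rw [hTc, hc, if_pos hev])
    · exact contra_odd A hr hT hTr hrF hr2 hTJ (p := p) hi (Nat.not_even_iff_odd.1 hev)
        (by rw [hTc, hc, if_neg hev])
  · rintro rfl x hx ⟨z, hz⟩ hns
    have hz2 := IsoNDMain.scalar_sq hv₀ (pow_mem hx 2) hz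
    obtain ⟨a, haΩ, rfl⟩ := hx
    obtain ⟨g, rfl⟩ := (orEquiv Q).surjective a
    have hsp : sp A.sep h2 g = 1 := (sp_eq_one_iff A.sep h2 g).2 haΩ
    have hgz : ∀ v, g.1 (g.1 v) = z • v := fun v => by
      rw [← orEquiv_mulVec Q g (g.1 v), ← orEquiv_mulVec Q g v, Matrix.mulVec_mulVec, ← Units.val_mul, ← pow_two]
      have h := congrArg (fun X : Matrix ι ι F => X *ᵥ v) hz
      simpa [Matrix.smul_mulVec] using h
    suffices h : ∃ G, sp A.sep h2 G = 1 ∧ Semi (Matrix.toLinAlgEquiv' j) (G⁻¹ * g * G) by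
      obtain ⟨G, hG, β, hβ, hsemi⟩ := h
      refine ⟨(orEquiv Q G : GL ι F), Subgroup.mem_map_of_mem _ ((sp_eq_one_iff A.sep h2 G).1 hG), ?_⟩
      have hval : ((orEquiv Q G : GL ι F))⁻¹ * (Cfsg.isometryGroup F (⇑Q)).subtype (orEquiv Q g) *
          (orEquiv Q G : GL ι F) = ((orEquiv Q (G⁻¹ * g * G) : Cfsg.isometryGroup F (⇑Q)) : GL ι F) := by
        rw [map_mul, map_mul, map_inv]; rfl
      rw [hval]
      refine mem_norm hjK hspan hβ fun v => ?_
      rw [glLin_apply, glLin_apply, orEquiv_mulVec, orEquiv_mulVec]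
      simpa using hsemi v
    have hmat : ∀ v, g.1 v = ((orEquiv Q g : GL ι F) : Matrix ι ι F) *ᵥ v := fun v => (orEquiv_mulVec Q g v).symm
    rcases mul_self_eq_one_iff.1 hz2 with rfl | rfl
    · refine fix_pos A E h2 hθJ hV hsp (fun v => (hgz v).trans (one_smul F v)) ?_ ?_
      · by_contra h
        push Not at h
        exact hns 1 (Matrix.ext_iff_mulVec.2 fun v => by
          rw [one_smul, Matrix.one_mulVec]; exact (hmat v).symm.trans (h v))
      · by_contra h
        push Not at h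
        exact hns (-1) (Matrix.ext_iff_mulVec.2 fun v => by
          rw [Matrix.smul_mulVec, Matrix.one_mulVec, neg_one_smul]; exact (hmat v).symm.trans (h v))
    · exact fix_neg A E h2 hθJ hV (by omega) fun v => (hgz v).trans (neg_one_smul F v)

end CfsgLib.MaxSub.OrthExt
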