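import Cfsg.Agent.Lib.MaxSub.SimNormal
import Cfsg.Agent.Lib.KnownC.OrthPrimeOrder
import Cfsg.Agent.Lib.KnownC.AutPOmegaOdd
import Cfsg.Agent.Lib.Classical.OrthOrder
import Cfsg.Agent.Lib.Geom.FormClass
import Cfsg.Agent.Lib.Aschbacher.OrthCongr

/-!
Orthogonal similitudes: congruence by determinant, orders of isometry groups and unipotent elements.
-/

set_option autoImplicit false

namespace CfsgLib.MaxSub.SimFix

open Matrix CfsgLib.Classical CfsgLib.Geom
open QuadraticMap (polar)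

universe u
variable {F : Type u} [Field F] [Fintype F] {n : ℕ}

local notation "𝕄" => Matrix (Fin n) (Fin n) F

/-- Symmetric matrices are congruent when their determinants differ by a square. -/
theorem exists_congr_det (h2 : (2 : F) ≠ 0) {G G₀ : 𝕄} (hG : Gᵀ = G) (hG₀ : G₀ᵀ = G₀) (hu : IsUnit G)
    (hu₀ : IsUnit G₀) (hsq : IsSquare (G.det * G₀.det)) :
    ∃ P : GL (Fin n) F, (P : 𝕄)ᵀ * G * (P : 𝕄) = G₀ := by
  classical
  let B₁ : LinearMap.BilinForm F (Fin n → F) := Matrix.toBilin' G₀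
  let B₂ : LinearMap.BilinForm F (Fin n → F) := Matrix.toBilin' G
  have hsymm : ∀ (M : 𝕄), Mᵀ = M → (Matrix.toBilin' M).IsSymm := fun M hM => ⟨fun x y => by
    rw [Matrix.toBilin'_apply', Matrix.toBilin'_apply', dotProduct_mulVec, ← mulVec_transpose, hM, dotProduct_comm]⟩
  have hsep : ∀ (M : 𝕄), IsUnit M → Mᵀ = M → ∀ x, (∀ y, Matrix.toBilin' M x y = 0) → x = 0 := by
    intro M hM hMt x hx
    have h1 : M *ᵥ x = 0 := by
      funext i
      have := hx (Pi.single i 1)
      rw [Matrix.toBilin'_apply', dotProduct_mulVec, ← mulVec_transpose, hMt, dotProduct_single, mul_one] at this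
      exact this
    exact Matrix.mulVec_injective_iff_isUnit.2 hM (h1.trans (mulVec_zero M).symm)
  have hmat : ∀ (M : 𝕄) (hM : (Matrix.toBilin' M).IsSymm),
      LinearMap.toMatrix₂ (Pi.basisFun F (Fin n)) (Pi.basisFun F (Fin n))
        (LinearMap.BilinMap.toQuadraticMap (Matrix.toBilin' M)).polarBilin = (2 : F) • M := fun M hM => by
    rw [CfsgLib.Geom.polarBilin_toQuadraticMap _ hM]
    ext i j
    simp [LinearMap.toMatrix₂_apply]
  obtain ⟨t, ht⟩ := hsq
  obtain ⟨e, he⟩ := CfsgLib.Geom.exists_isometry_of_disc (LinearMap.BilinMap.toQuadraticMap B₁)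
    (LinearMap.BilinMap.toQuadraticMap B₂) h2
    (CfsgLib.Geom.sep_toQuadraticMap B₁ (hsymm _ hG₀) h2 (hsep _ hu₀ hG₀))
    (CfsgLib.Geom.sep_toQuadraticMap B₂ (hsymm _ hG) h2 (hsep _ hu hG))
    (Pi.basisFun F (Fin n)) (Pi.basisFun F (Fin n)) (by
      rw [hmat _ (hsymm _ hG₀), hmat _ (hsymm _ hG), det_smul, det_smul, Fintype.card_fin]
      exact ⟨(2 : F) ^ n * t, by linear_combination (2 : F) ^ n * (2 : F) ^ n * ht⟩)
  have hB : ∀ x y, B₂ (e x) (e y) = B₁ x y := fun x y => by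
    have h : polar (LinearMap.BilinMap.toQuadraticMap B₂) (e x) (e y) =
        polar (LinearMap.BilinMap.toQuadraticMap B₁) x y := by
      simp only [QuadraticMap.polar, ← map_add, he]
    rw [← QuadraticMap.polarBilin_apply_apply, ← QuadraticMap.polarBilin_apply_apply,
      CfsgLib.Geom.polarBilin_toQuadraticMap _ (hsymm _ hG₀), CfsgLib.Geom.polarBilin_toQuadraticMap _ (hsymm _ hG)] at h
    exact mul_left_cancel₀ h2 (by simpa using h)
  obtain ⟨P, hP⟩ := (glLin (ι := Fin n) (F := F)).surjective e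
  refine ⟨P, ?_⟩
  ext i j
  have := hB (Pi.single i 1) (Pi.single j 1)
  simp only [B₁, B₂, Matrix.toBilin'_apply'] at this
  rw [← hP, glLin_apply, glLin_apply, ← vecMul_transpose, ← dotProduct_mulVec, mulVec_mulVec, mulVec_mulVec] at this
  simpa using this

omit [Fintype F] in
/-- No element fixing a hyperplane pointwise and with `N ^ 2 = 0` is an isometry in odd characteristic. -/
theorem no_transvection (h2 : (2 : F) ≠ 0) {G N : 𝕄} (hG : IsUnit G) (hGt : Gᵀ = G) (hN : N * N = 0)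
    (hiso : (1 + N)ᵀ * G * (1 + N) = G) (hrk : N.rank = 1) : False := by
  classical
  have hsum : G * N + Nᵀ * G + Nᵀ * G * N = 0 := by
    rw [Matrix.transpose_add, Matrix.transpose_one] at hiso
    have e : (1 + Nᵀ) * G * (1 + N) = G + (G * N + Nᵀ * G + Nᵀ * G * N) := by noncomm_ring
    rw [e, add_eq_left] at hiso
    exact hiso
  have hz : Nᵀ * G * N = 0 := by
    have := congrArg (· * N) hsum
    simp only [Matrix.add_mul, Matrix.mul_assoc, hN, Matrix.mul_zero, add_zero, zero_add, Matrix.zero_mul] at this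
    rw [Matrix.mul_assoc]; exact this
  rw [hz, add_zero] at hsum
  obtain ⟨K, hK⟩ : ∃ K, K = G * N := ⟨_, rfl⟩
  have hKt : ∀ a b, K b a = -K a b := fun a b => by
    have h := congrFun (congrFun hsum b) a
    rw [show Nᵀ * G = Kᵀ by rw [hK, Matrix.transpose_mul, hGt], ← hK, Matrix.add_apply, Matrix.transpose_apply,
      Matrix.zero_apply] at h
    linear_combination h
  have hKr : K.rank = 1 := by
    rw [hK, Matrix.rank_mul_eq_right_of_isUnit_det _ _ ((Matrix.isUnit_iff_isUnit_det G).1 hG), hrk]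
  obtain ⟨a, b, hab⟩ : ∃ a b, K a b ≠ 0 := by
    by_contra h
    push Not at h
    rw [show K = 0 from Matrix.ext h, Matrix.rank_zero] at hKr
    exact zero_ne_one hKr
  have haa : ∀ a, K a a = 0 := fun a => by
    have := hKt a a
    exact (mul_eq_zero.1 (show (2 : F) * K a a = 0 by linear_combination this)).resolve_left h2
  have hli : LinearIndependent F ![K *ᵥ Pi.single a 1, K *ᵥ Pi.single b 1] := by
    rw [LinearIndependent.pair_iff]
    intro s t h
    have h1 := congrFun h a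
    have h3 := congrFun h b
    simp only [Pi.add_apply, Pi.smul_apply, Matrix.mulVec_single_one, Matrix.col_apply, smul_eq_mul, Pi.zero_apply, haa,
      mul_zero, zero_add, add_zero] at h1 h3
    rw [hKt a b, mul_neg, neg_eq_zero] at h3
    exact ⟨(mul_eq_zero.1 h3).resolve_right hab, (mul_eq_zero.1 h1).resolve_right hab⟩
  have hle : Submodule.span F (Set.range ![K *ᵥ Pi.single a 1, K *ᵥ Pi.single b 1]) ≤ LinearMap.range K.mulVecLin := by
    rw [Submodule.span_le]
    rintro _ ⟨j, rfl⟩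
    fin_cases j <;> exact ⟨_, rfl⟩
  have := Submodule.finrank_mono hle
  rw [finrank_span_eq_card hli, Fintype.card_fin] at this
  change 2 ≤ K.rank at this
  omega

omit [Fintype F] in
theorem quadIsoms_smul {V : Type*} [AddCommGroup V] [Module F V] (Q : QuadraticForm F V) {c : F} (hc : c ≠ 0) :
    quadIsoms (c • Q) = quadIsoms Q := by
  ext g
  simp only [mem_quadIsoms, QuadraticMap.smul_apply, smul_eq_mul]
  exact forall_congr' fun v => ⟨fun h => mul_left_cancel₀ hc h, fun h => by rw [h]⟩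

/-- The isometry group of a form of odd dimension. -/
theorem card_odd (h2 : (2 : F) ≠ 0) {m : ℕ} (hn : n = 2 * m + 1) (Q : QuadraticForm F (Fin n → F))
    (hQ : ∀ x, (∀ y, polar Q x y = 0) → x = 0) :
    Nat.card (quadIsoms Q) =
      2 * Fintype.card F ^ (m ^ 2) * ∏ i ∈ Finset.range m, (Fintype.card F ^ (2 * (i + 1)) - 1) := by
  let ε : (Unit ⊕ (Fin m ⊕ Fin m)) ≃ Fin n := Fintype.equivFinOfCardEq (by simp; omega)
  let θ : (Unit ⊕ (Fin m ⊕ Fin m) → F) ≃ₗ[F] (Fin n → F) := LinearEquiv.funCongrLeft F F ε.symm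
  obtain ⟨R, hR⟩ : ∃ R, R = Q.comp θ.toLinearMap := ⟨_, rfl⟩
  have hpol : ∀ x y, polar R x y = polar Q (θ x) (θ y) := fun x y => by
    simp [hR, QuadraticMap.polar]
  obtain ⟨M, e, he, hM⟩ := KnownC.similar_qfOdd h2 R fun x hx => θ.map_eq_zero_iff.1 (hQ _ fun w => by
    obtain ⟨w, rfl⟩ := θ.surjective w
    rw [← hpol]; exact hx w)
  rw [← card_qfOdd_isoms h2 m, ← quadIsoms_smul (qfOdd m F) he,
    card_quadIsoms_congr (e • qfOdd m F) Q (M.trans θ) fun v => by
      rw [LinearEquiv.trans_apply, QuadraticMap.smul_apply, smul_eq_mul, ← hM, hR]; rfl]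

/-- The index of the similitudes, times the order of the isometry group, divides the order of `GL`. -/
theorem relIndex_mul_dvd (hn : 0 < n) (H U : Subgroup (GL (Fin n) F))
    (hU : U ⊓ Cfsg.Geo.specialLinear (Fin n) F ≤ H) :
    H.relIndex (Cfsg.Geo.specialLinear (Fin n) F) * Nat.card ↥U ∣ Nat.card (GL (Fin n) F) := by
  classical
  let S := Cfsg.Geo.specialLinear (Fin n) F
  have h1 : Nat.card ↥(U ⊓ S) ∣ Nat.card ↥(H ⊓ S) := Subgroup.card_dvd_of_le (le_inf hU inf_le_right)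
  have hidx : S.index = Fintype.card F - 1 := by
    show (Matrix.GeneralLinearGroup.det : GL (Fin n) F →* Fˣ).ker.index = _
    rw [Subgroup.index_ker, MonoidHom.range_eq_top.2 ?_, Subgroup.card_top, Nat.card_units, Nat.card_eq_fintype_card]
    intro c
    refine ⟨Matrix.GeneralLinearGroup.mkOfDetNeZero (Matrix.diagonal fun j : Fin n => if j = ⟨0, hn⟩ then (c : F) else 1)
      (by rw [diag_det]; exact c.ne_zero), Units.ext ?_⟩
    rw [Matrix.GeneralLinearGroup.val_det_apply]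
    exact diag_det _ _
  have h2 : Nat.card ↥U ∣ Nat.card ↥(U ⊓ S) * (Fintype.card F - 1) := by
    haveI : S.Normal := MonoidHom.normal_ker _
    rw [← Subgroup.card_mul_index (S.subgroupOf U), inf_comm,
      Nat.card_congr (Subgroup.subgroupOfEquivOfLe (inf_le_right : S ⊓ U ≤ U)).symm.toEquiv,
      Subgroup.inf_subgroupOf_right]
    exact mul_dvd_mul_left _ (hidx ▸ Subgroup.relIndex_dvd_index_of_normal (H := S) (K := U))
  refine (mul_dvd_mul_left _ (h2.trans (mul_dvd_mul_right h1 _))).trans (dvd_of_eq ?_)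
  rw [← mul_assoc, ← Subgroup.inf_relIndex_right H S, mul_comm (Subgroup.relIndex _ _), Subgroup.relIndex,
    ← Nat.card_congr (Subgroup.subgroupOfEquivOfLe (inf_le_right : H ⊓ S ≤ S)).toEquiv, Subgroup.card_mul_index,
    ← hidx, Subgroup.card_mul_index]

/-- `r` does not divide the index when the orthogonal order holds all relevant cyclotomic factors. -/
theorem not_dvd_of_order {q r i I e m N A B : ℕ} (hq : 2 ≤ q) (hr : r.Prime) (hrq : ¬ r ∣ q)
    (hi : i = orderOf (q : ZMod r)) (hev : Even i) (hA : ¬ r ∣ A)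
    (hcase : (N = 2 * m + 1 ∧ A = 1 ∧ B = 1) ∨ (N = 2 * (m + 1) ∧ q ^ (2 * (m + 1)) - 1 = A * B))
    (hI : I * (2 * q ^ e * B * ∏ j ∈ Finset.range m, (q ^ (2 * (j + 1)) - 1)) ∣
      (∏ j ∈ Finset.range N, q ^ j) * ∏ k ∈ Finset.range N, (q ^ (k + 1) - 1)) : ¬ r ∣ I := by
  intro hrI
  obtain ⟨P, hP⟩ : ∃ P, P = ∏ j ∈ Finset.range m, (q ^ (2 * (j + 1)) - 1) := ⟨_, rfl⟩
  obtain ⟨O', hO'⟩ : ∃ O', O' = ∏ j ∈ Finset.range (m + 1), (q ^ (2 * j + 1) - 1) := ⟨_, rfl⟩
  have hsplit : ∀ k, ∏ j ∈ Finset.range (2 * k), (q ^ (j + 1) - 1) =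
      (∏ j ∈ Finset.range k, (q ^ (2 * j + 1) - 1)) * ∏ j ∈ Finset.range k, (q ^ (2 * (j + 1)) - 1) := by
    intro k
    induction k with
    | zero => simp
    | succ k ih =>
      rw [show 2 * (k + 1) = 2 * k + 1 + 1 by ring, Finset.prod_range_succ, Finset.prod_range_succ, ih,
        Finset.prod_range_succ, Finset.prod_range_succ, show 2 * k + 1 + 1 = 2 * (k + 1) by ring]
      ring
  have hB : 0 < B ∧ ∏ k ∈ Finset.range N, (q ^ (k + 1) - 1) = O' * A * (B * P) := by
    rcases hcase with ⟨rfl, rfl, rfl⟩ | ⟨rfl, hAB⟩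
    · refine ⟨one_pos, ?_⟩
      rw [Finset.prod_range_succ, hsplit, hO', hP, Finset.prod_range_succ]
      ring
    · refine ⟨Nat.pos_of_ne_zero fun h => ?_, ?_⟩
      · have := Nat.one_lt_pow (n := 2 * (m + 1)) (by omega) (show 1 < q by omega)
        rw [h, mul_zero] at hAB; omega
      · rw [hsplit, hO', hP, Finset.prod_range_succ (fun j => q ^ (2 * (j + 1)) - 1), hAB]
        ring
  have hP0 : 0 < P := hP ▸ Finset.prod_pos fun j _ => by
    have := Nat.one_lt_pow (n := 2 * (j + 1)) (by omega) (show 1 < q by omega)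
    omega
  have h : r * (B * P) ∣ (∏ j ∈ Finset.range N, q ^ j) * (O' * A) * (B * P) := by
    refine ((mul_dvd_mul hrI (dvd_mul_left (B * P) (2 * q ^ e))).trans ?_)
    rw [hB.2] at hI
    refine dvd_trans (dvd_of_eq ?_) (hI.trans (dvd_of_eq ?_)) <;> [rw [hP]; skip] <;> ring
  rcases hr.dvd_mul.1 (Nat.dvd_of_mul_dvd_mul_right (Nat.mul_pos hB.1 hP0) h) with h | h
  · obtain ⟨k, -, hk⟩ := (Nat.prime_iff.1 hr).exists_mem_finset_dvd h
    exact hrq (hr.dvd_of_dvd_pow hk)
  · rcases hr.dvd_mul.1 h with h | h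
    · rw [hO'] at h
      obtain ⟨k, -, hk⟩ := (Nat.prime_iff.1 hr).exists_mem_finset_dvd h
      rw [← ZMod.natCast_eq_zero_iff, Nat.cast_sub (Nat.one_le_pow _ _ (by omega)), sub_eq_zero, Nat.cast_pow,
        Nat.cast_one, ← orderOf_dvd_iff_pow_eq_one, ← hi] at hk
      exact (Nat.not_even_iff_odd.2 (odd_two_mul_add_one k)) (even_iff_two_dvd.2 ((even_iff_two_dvd.1 hev).trans hk))
    · exact hA h

end CfsgLib.MaxSub.SimFix
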