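import Cfsg.Agent.Lib.MaxSub.OrthExtSelf
import Cfsg.Agent.Lib.MaxSub.OrthExtField
import Cfsg.Agent.Lib.MaxSub.SimOrth

/-!
The `L`-bilinear form of a self-adjoint `J`: coordinates with prescribed values, the type, and the order of its
isometry group.
-/

set_option autoImplicit false

namespace CfsgLib.MaxSub.OrthExt

open CfsgLib CfsgLib.Classical CfsgLib.Geom CfsgLib.KnownC CfsgLib.KnownC.OrthType
open QuadraticMap (polar)

universe u v w

variable {F : Type u} [Field F] {V : Type v} [AddCommGroup V] [Module F V]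
  {L : Type w} [Field L] [Algebra F L] {θ : L} {δ : F}

/-- Coordinates over `L` in which `Q` is a sum of traces. -/
structure Coords (Q : QuadraticForm F V) (J : Module.End F V) (E : QE θ δ) {d : ℕ} (c : Fin d → L)
    (e : V ≃ₗ[F] (Fin d → L)) : Prop where
  quad : ∀ z, Q z = 2 * E.re (∑ k, c k * (e z k * e z k))
  map_J : ∀ z k, e (J z) k = θ * e z k

variable {Q : QuadraticForm F V} {J : Module.End F V} {E : QE θ δ} {d : ℕ} {c : Fin d → L}
  {e : V ≃ₗ[F] (Fin d → L)}

theorem Coords.polar_eq (C : Coords Q J E c e) (z t : V) :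
    polar Q z t = 4 * E.re (∑ k, c k * (e z k * e t k)) := by
  have h : ∀ a b : L, E.re (a + b) = E.re a + E.re b := E.re_add
  have hs : ∑ k, c k * (e (z + t) k * e (z + t) k) = (∑ k, c k * (e z k * e z k)) + (∑ k, c k * (e t k * e t k)) +
      ((∑ k, c k * (e z k * e t k)) + ∑ k, c k * (e z k * e t k)) := by
    simp only [← Finset.sum_add_distrib, map_add, Pi.add_apply]
    exact Finset.sum_congr rfl fun k _ => by ring
  rw [polar, C.quad, C.quad, C.quad, hs, h, h, h]
  ring

/-- An orthogonal family adapted to coordinates, and the class of the discriminant. -/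
theorem Coords.exists_fam (C : Coords Q J E c e) (h2 : (2 : F) ≠ 0) (hc : ∀ k, c k ≠ 0) :
    ∃ v : Fin d ⊕ Fin d → V, OFam Q v ∧
      (∀ k l, l ≠ k → e (v (Sum.inl k)) l = 0 ∧ e (v (Sum.inr k)) l = 0) ∧
      ∀ k, IsSquare (Q (v (Sum.inl k)) * Q (v (Sum.inr k)) * (δ * E.nrm (c k))) := by
  classical
  choose t t' ho ht ht' hsq using fun k => E.exists_pair h2 (hc k)
  obtain ⟨v, hv⟩ : ∃ v : Fin d ⊕ Fin d → V, v = Sum.elim (fun k => e.symm (Pi.single k (t k)))
    fun k => e.symm (Pi.single k (t' k)) := ⟨_, rfl⟩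
  have hsum : ∀ (k l : Fin d) (a b : L), ∑ m, c m * ((Pi.single k a : Fin d → L) m * (Pi.single l b : Fin d → L) m) =
      if k = l then c k * a * b else 0 := by
    intro k l a b
    rw [Finset.sum_eq_single k (fun m _ hm => by rw [Pi.single_eq_of_ne hm, zero_mul, mul_zero])
      (fun h => absurd (Finset.mem_univ k) h), Pi.single_eq_same]
    split_ifs with h
    · rw [h, Pi.single_eq_same, mul_assoc]
    · rw [Pi.single_eq_of_ne h, mul_zero, mul_zero]
  have hl : ∀ k, Q (v (Sum.inl k)) = 2 * E.re (c k * t k * t k) := fun k => by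
    rw [C.quad, hv, Sum.elim_inl, e.apply_symm_apply, hsum, if_pos rfl]
  have hr : ∀ k, Q (v (Sum.inr k)) = 2 * E.re (c k * t' k * t' k) := fun k => by
    rw [C.quad, hv, Sum.elim_inr, e.apply_symm_apply, hsum, if_pos rfl]
  have h0 : E.re 0 = 0 := by rw [← map_zero (algebraMap F L), E.re_alg]
  refine ⟨v, ⟨fun s s' hss => ?_, ?_⟩, fun k l hl => ?_, fun k => by rw [hl, hr]; exact hsq k⟩
  · rw [C.polar_eq]
    rcases s with k | k <;> rcases s' with l | l <;>
      simp only [hv, Sum.elim_inl, Sum.elim_inr, e.apply_symm_apply, hsum] <;> split_ifs with h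
    any_goals rw [h0, mul_zero]
    · exact absurd (congrArg Sum.inl h) hss
    · subst h; rw [ho, mul_zero]
    · subst h; rw [mul_right_comm, ho, mul_zero]
    · exact absurd (congrArg Sum.inr h) hss
  · rintro (k | k)
    · rw [hl]; exact mul_ne_zero h2 (ht k)
    · rw [hr]; exact mul_ne_zero h2 (ht' k)
  · simp only [hv, Sum.elim_inl, Sum.elim_inr, e.apply_symm_apply, Pi.single_eq_of_ne hl, and_self]

/-- The discriminant class in coordinates. -/
theorem Coords.disc (C : Coords Q J E c e) (h2 : (2 : F) ≠ 0) (hc : ∀ k, c k ≠ 0)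
    (hV : Module.finrank F V = 2 * d) : Disc Q (∏ k, (δ * E.nrm (c k))) := by
  obtain ⟨v, O, -, hsq⟩ := C.exists_fam h2 hc
  refine disc_of_fam O (by rw [Fintype.card_sum, Fintype.card_fin, hV, two_mul]) ?_
  rw [Fintype.prod_sum_type, ← Finset.prod_mul_distrib, ← Finset.prod_mul_distrib]
  exact Finset.prod_induction _ IsSquare (fun _ _ ha hb => ha.mul hb) IsSquare.one fun k _ => hsq k

/-- Diagonal forms over `L`. -/
theorem wss_facts (h2 : (2 : L) ≠ 0) {c : Fin d → L} (hc : ∀ k, c k ≠ 0) :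
    (∀ z, (∀ y, polar (QuadraticMap.weightedSumSquares L c) z y = 0) → z = 0) ∧
      Disc (QuadraticMap.weightedSumSquares L c) (∏ k, c k) := by
  classical
  have hp : ∀ z y, polar (QuadraticMap.weightedSumSquares L c) z y = ∑ k, 2 * c k * (z k * y k) := fun z y => by
    simp only [polar, QuadraticMap.weightedSumSquares_apply, Pi.add_apply, smul_eq_mul, ← Finset.sum_sub_distrib]
    exact Finset.sum_congr rfl fun k _ => by ring
  have hv : ∀ k, QuadraticMap.weightedSumSquares L c (Pi.single k 1) = c k := fun k => by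
    rw [QuadraticMap.weightedSumSquares_apply, Finset.sum_eq_single k] <;> simp +contextual
  refine ⟨fun z hz => funext fun k => ?_, disc_of_fam (v := fun k => (Pi.single k 1 : Fin d → L))
    ⟨fun k l hkl => ?_, fun k => (hv k).symm ▸ hc k⟩ (by rw [Fintype.card_fin, Module.finrank_fin_fun]) ?_⟩
  · have h := hz (Pi.single k 1)
    rw [hp, Finset.sum_eq_single k (fun m _ hm => by simp [hm]) (by simp)] at h
    simpa [h2, hc k] using h
  · rw [hp]
    refine Finset.sum_eq_zero fun m _ => ?_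
    by_cases hm : m = k
    · subst hm; simp [hkl]
    · simp [hm]
  · rw [Finset.prod_congr rfl fun k _ => hv k]
    exact ⟨_, rfl⟩

variable [Fintype F] [FiniteDimensional F V] [Fintype L] [Module L V] [IsScalarTower F L V]
  (A : SelfAdj Q J δ) (h2 : (2 : F) ≠ 0) (hθJ : ∀ z, θ • z = J z) (hV : Module.finrank F V = 2 * d)

include h2 in
omit [Fintype F] [Fintype L] in
theorem two_ne : (2 : L) ≠ 0 := by
  rw [← map_ofNat (algebraMap F L) 2]; exact (map_ne_zero _).2 h2

include E A h2 hθJ hV in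
/-- The symmetric `L`-bilinear form. -/
theorem exists_phi : ∃ φ : QuadraticForm L V, (∀ z, (∀ y, polar φ z y = 0) → z = 0) ∧
    (∀ z, Q z = 2 * E.re (φ z)) ∧ Module.finrank L V = d := by
  haveI : FiniteDimensional F L := Module.Finite.of_finite
  haveI : FiniteDimensional L V := Module.Finite.of_restrictScalars_finite F L V
  have h4 : (4 : F) ≠ 0 := by
    have := mul_ne_zero h2 h2
    norm_num at this ⊢
    exact this
  have hδ := A.δ_ne
  have htow : ∀ (a : F) (z : V), algebraMap F L a • z = a • z := fun a z => algebraMap_smul L a z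
  have hsmul : ∀ (α β : F) (z : V), el θ α β • z = α • z + β • J z := fun α β z => by
    unfold el
    rw [add_smul, mul_smul, htow, htow, hθJ]
  let Φ : LinearMap.BilinForm L V := LinearMap.mk₂ L
    (fun u z => el θ (polar Q u z / 4) (polar Q (J u) z / (4 * δ)))
    (fun u u' z => by simp only [map_add, QuadraticMap.polar_add_left, add_div, QE.el_add])
    (fun a u z => by
      rw [E.eq_el a, hsmul, smul_eq_mul, E.el_mul]
      simp only [map_add, map_smul, A.sq, QuadraticMap.polar_add_left, QuadraticMap.polar_smul_left, smul_eq_mul]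
      congr 1 <;> field_simp <;> ring)
    (fun u z z' => by simp only [QuadraticMap.polar_add_right, add_div, QE.el_add])
    (fun a u z => by
      rw [E.eq_el a, hsmul, smul_eq_mul, E.el_mul]
      simp only [QuadraticMap.polar_add_right, QuadraticMap.polar_smul_right, smul_eq_mul, A.form_JJ, ← A.self u z]
      congr 1 <;> field_simp <;> ring)
  have hΦ : ∀ u z, Φ u z = el θ (polar Q u z / 4) (polar Q (J u) z / (4 * δ)) := fun u z => rfl
  have hS : Φ.IsSymm := ⟨fun u z => by
    rw [hΦ, hΦ, QuadraticMap.polar_comm Q z u, A.self, QuadraticMap.polar_comm Q u (J z)]⟩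
  refine ⟨LinearMap.BilinMap.toQuadraticMap Φ, fun z hz => sep_toQuadraticMap Φ hS (two_ne h2) (fun z hz => ?_) z hz,
    fun z => ?_, ?_⟩
  · refine A.sep z fun y => ?_
    have h := hz y
    rw [hΦ, ← map_zero (algebraMap F L), ← QE.el_alg (θ := θ)] at h
    simpa [h4] using (E.indep h).1
  · rw [LinearMap.BilinMap.toQuadraticMap_apply, hΦ, E.re_el, polar_self_two]
    field_simp
    ring
  · have h := Module.finrank_mul_finrank F L V
    rw [E.finrank_eq, hV] at h
    omega

include E A h2 hθJ hV in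
/-- Coordinates with prescribed values, and the plus type. -/
theorem exists_coords {c : Fin d → L} (hc : ∀ k, c k ≠ 0) {a : F} (ha0 : a ≠ 0) (ha : Disc Q a)
    (hsq : IsSquare ((∏ k, (δ * E.nrm (c k))) * a)) : ∃ e : V ≃ₗ[F] (Fin d → L), Coords Q J E c e := by
  classical
  haveI : FiniteDimensional F L := Module.Finite.of_finite
  haveI : FiniteDimensional L V := Module.Finite.of_restrictScalars_finite F L V
  obtain ⟨φ, hφ, hre, hd⟩ := exists_phi A h2 hθJ hV (E := E)
  have h2L : (2 : L) ≠ 0 := two_ne h2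
  obtain ⟨D, hD0, hD⟩ := disc_exists h2L hφ
  have mkc : ∀ (c : Fin d → L) (f : V ≃ₗ[L] (Fin d → L)),
      (∀ z, QuadraticMap.weightedSumSquares L c (f z) = φ z) → Coords Q J E c (f.restrictScalars F) := fun c f hf =>
    ⟨fun z => by rw [hre, ← hf, QuadraticMap.weightedSumSquares_apply]; rfl, fun z k => by
      show f (J z) k = θ * f z k
      rw [← hθJ, map_smul, Pi.smul_apply, smul_eq_mul]⟩
  have hnrm : ∀ c : Fin d → L, ∏ k, (δ * E.nrm (c k)) = δ ^ d * E.nrm (∏ k, c k) := fun c => by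
    rw [E.nrm_prod, Finset.prod_mul_distrib, Finset.prod_const, Finset.card_univ, Fintype.card_fin]
  suffices h : IsSquare (D * ∏ k, c k) by
    obtain ⟨hwsep, hwd⟩ := wss_facts h2L hc
    obtain ⟨f, hf⟩ := exists_iso_of_disc h2L hφ hwsep (by rw [hd, Module.finrank_fin_fun]) hD0
      (Finset.prod_ne_zero_iff.2 fun k _ => hc k) hD hwd h
    exact ⟨_, mkc c f hf⟩
  rcases Nat.eq_zero_or_pos d with rfl | hd0
  · rw [Finset.univ_eq_empty, Finset.prod_empty, mul_one]
    simpa using disc_unique h2L hD (disc_empty hd)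
  obtain ⟨c₀, hc₀, hp₀⟩ : ∃ c₀ : Fin d → L, (∀ k, c₀ k ≠ 0) ∧ ∏ k, c₀ k = D := by
    refine ⟨Pi.mulSingle ⟨0, hd0⟩ D, fun k => ?_, ?_⟩
    · rw [Pi.mulSingle_apply]; split_ifs <;> [exact hD0; exact one_ne_zero]
    · rw [Finset.prod_eq_single (⟨0, hd0⟩ : Fin d) (fun b _ hb => Pi.mulSingle_eq_of_ne hb _) (by simp),
        Pi.mulSingle_eq_same]
  obtain ⟨hwsep, hwd⟩ := wss_facts h2L hc₀
  obtain ⟨f, hf⟩ := exists_iso_of_disc h2L hφ hwsep (by rw [hd, Module.finrank_fin_fun]) hD0 (hp₀.symm ▸ hD0) hD hwd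
    ⟨D, by rw [hp₀]⟩
  have h0 := (mkc c₀ f hf).disc h2 hc₀ hV
  have h1 := sq_trans ha0 hsq (disc_unique h2 ha h0)
  rw [hnrm, hnrm, hp₀, mul_mul_mul_comm, ← E.nrm_mul, mul_comm (∏ k, c k)] at h1
  exact (E.isSquare_iff h2).2 (sq_cancel (pow_ne_zero _ A.δ_ne) h1)

include E A h2 hθJ hV in
/-- The order of the isometry group of the form divides that of any group containing the commuting isometries. -/
theorem card_dvd (G : Subgroup (V ≃ₗ[F] V))
    (hG : ∀ g : V ≃ₗ[F] V, (∀ z, Q (g z) = Q z) → (∀ z, g (J z) = J (g z)) → g ∈ G) :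
    (∀ m, d = 2 * m + 1 → 2 * (Fintype.card F ^ 2) ^ (m ^ 2) *
        (∏ i ∈ Finset.range m, ((Fintype.card F ^ 2) ^ (2 * (i + 1)) - 1)) ∣ Nat.card G) ∧
      ∀ m, d = 2 * (m + 1) →
        (IsPlus Q d → 2 * (Fintype.card F ^ 2) ^ ((m + 1) * m) * ((Fintype.card F ^ 2) ^ (m + 1) - 1) *
          (∏ i ∈ Finset.range m, ((Fintype.card F ^ 2) ^ (2 * (i + 1)) - 1)) ∣ Nat.card G) ∧
        (¬ IsPlus Q d → 2 * (Fintype.card F ^ 2) ^ ((m + 1) * m) * ((Fintype.card F ^ 2) ^ (m + 1) + 1) *
          (∏ i ∈ Finset.range m, ((Fintype.card F ^ 2) ^ (2 * (i + 1)) - 1)) ∣ Nat.card G) := by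
  classical
  haveI : FiniteDimensional F L := Module.Finite.of_finite
  haveI : FiniteDimensional L V := Module.Finite.of_restrictScalars_finite F L V
  obtain ⟨φ, hφ, hre, hd⟩ := exists_phi A h2 hθJ hV (E := E)
  have h2L : (2 : L) ≠ 0 := two_ne h2
  have hcard : Nat.card (quadIsoms φ) ∣ Nat.card G := by
    let ψ : ↥(quadIsoms φ) →* (V ≃ₗ[F] V) := MonoidHom.mk' (fun g => g.1.restrictScalars F)
      fun a b => LinearEquiv.ext fun z => rfl
    have hinj : Function.Injective ψ := fun a b hab =>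
      Subtype.ext (LinearEquiv.ext fun z => LinearEquiv.congr_fun hab z)
    have hmem : ψ.range ≤ G := by
      rintro _ ⟨g, rfl⟩
      refine hG _ (fun z => ?_) fun z => ?_
      · show Q (g.1 z) = Q z
        rw [hre, hre, g.2]
      · show g.1 (J z) = J (g.1 z)
        rw [← hθJ, ← hθJ, map_smul]
    rw [Nat.card_congr (MonoidHom.ofInjective hinj).toEquiv]
    exact Subgroup.card_dvd_of_le hmem
  have hcL : Fintype.card F ^ 2 = Fintype.card L := E.card_eq.symm
  refine ⟨fun m hm => ?_, fun m hm => ?_⟩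
  · let ε : (Unit ⊕ (Fin m ⊕ Fin m) → L) ≃ₗ[L] V := LinearEquiv.ofFinrankEq _ _ (by simp; omega)
    obtain ⟨R, hR⟩ : ∃ R, R = φ.comp ε.toLinearMap := ⟨_, rfl⟩
    have hpol : ∀ x y, polar R x y = polar φ (ε x) (ε y) := fun x y => by simp [hR, polar]
    obtain ⟨M, t, ht, hM⟩ := KnownC.similar_qfOdd h2L R fun x hx => ε.map_eq_zero_iff.1 (hφ _ fun y => by
      obtain ⟨y, rfl⟩ := ε.surjective y
      rw [← hpol]; exact hx y)
    rw [hcL, ← card_qfOdd_isoms h2L m, ← SimFix.quadIsoms_smul (qfOdd m L) ht,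
      card_quadIsoms_congr (t • qfOdd m L) φ (M.trans ε) fun z => by
        rw [LinearEquiv.trans_apply, QuadraticMap.smul_apply, smul_eq_mul, ← hM, hR]; rfl]
    exact hcard
  · -- the type is the same over both fields
    obtain ⟨D, hD0, hD⟩ := disc_exists h2L hφ
    have hdm : Module.finrank L V = 2 * (m + 1) := hd.trans hm
    have hi : IsSquare (-1 : L) := by
      rw [← map_one (algebraMap F L), ← map_neg]; exact E.isSquare_alg h2 _
    obtain ⟨c, hc, hcD⟩ : ∃ c : Fin d → L, (∀ k, c k ≠ 0) ∧ ∏ k, c k = D := by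
      refine ⟨Pi.mulSingle ⟨0, by omega⟩ D, fun k => ?_, ?_⟩
      · rw [Pi.mulSingle_apply]; split_ifs <;> [exact hD0; exact one_ne_zero]
      · rw [Finset.prod_eq_single (⟨0, by omega⟩ : Fin d) (fun b _ hb => Pi.mulSingle_eq_of_ne hb _) (by simp),
          Pi.mulSingle_eq_same]
    obtain ⟨hwsep, hwd⟩ := wss_facts h2L hc
    obtain ⟨f, hf⟩ := exists_iso_of_disc h2L hφ hwsep (by rw [hd, Module.finrank_fin_fun]) hD0 (hcD.symm ▸ hD0) hD hwd
      ⟨D, by rw [hcD]⟩
    have C : Coords Q J E c (f.restrictScalars F) :=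
      ⟨fun z => by rw [hre, ← hf, QuadraticMap.weightedSumSquares_apply]; rfl, fun z k => by
        show f (J z) k = θ * f z k
        rw [← hθJ, map_smul, Pi.smul_apply, smul_eq_mul]⟩
    have hne : ∏ k, (δ * E.nrm (c k)) ≠ 0 :=
      Finset.prod_ne_zero_iff.2 fun k _ => mul_ne_zero A.δ_ne (E.nrm_ne (hc k))
    have hev : Even d := ⟨m + 1, by omega⟩
    have hiff : IsPlus Q d ↔ IsPlus φ (m + 1) := by
      rw [isPlus_iff_disc h2 A.sep hV hne (C.disc h2 hc hV), isPlus_iff_disc h2L hφ hdm hD0 hD,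
        Finset.prod_mul_distrib, Finset.prod_const, Finset.card_univ, Fintype.card_fin, hev.neg_one_pow, one_mul,
        ← E.nrm_prod, hcD]
      have hδd : IsSquare (δ ^ d) := hev.isSquare_pow δ
      obtain ⟨s, hs⟩ := hδd
      have hs0 : s ≠ 0 := fun h => pow_ne_zero d A.δ_ne (by rw [hs, h, mul_zero])
      rw [hs, show IsSquare (s * s * E.nrm D) ↔ IsSquare (E.nrm D) from ⟨sq_cancel hs0, sq_extend⟩,
        ← E.isSquare_iff h2]
      obtain ⟨u, hu⟩ := hi.pow (m + 1)
      have hu0 : u ≠ 0 := fun h => pow_ne_zero (m + 1) (neg_ne_zero.2 (one_ne_zero (α := L))) (by rw [hu, h, mul_zero])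
      rw [hu]
      exact ⟨sq_extend, sq_cancel hu0⟩
    refine ⟨fun hP => ?_, fun hP => ?_⟩ <;> rw [hiff] at hP
    · obtain ⟨f, hf⟩ := hP
      rw [hcL, ← card_qfPlus_isoms, card_quadIsoms_congr (qfPlus (m + 1) L) φ f hf]
      exact hcard
    · obtain ⟨l, hl, hM⟩ := (dichotomy φ hφ hdm).resolve_left hP
      obtain rfl : m = l := by omega
      obtain ⟨a, b, hab⟩ := exists_anisotropic_binary (F := L)
      obtain ⟨f, hf⟩ := hM a b hab
      rw [hcL, ← card_qfMinus_isoms hab, card_quadIsoms_congr (qfMinus m L a b) φ f hf]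
      exact hcard

end CfsgLib.MaxSub.OrthExt
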