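import Cfsg.Agent.Lib.MaxSub.IsoPieces
import Cfsg.Agent.Lib.MaxSub.IsoOrth

/-!
An orthogonal space with a self-adjoint `J`, `J ^ 2 = δ` a non-square: isometries commuting with `J` and their
moving spaces.
-/

set_option autoImplicit false

namespace CfsgLib.MaxSub.OrthExt

open Polynomial CfsgLib.MaxSub CfsgLib.MaxSub.IsoSemi CfsgLib.Classical CfsgLib.Geom
open QuadraticMap (polar)

universe u v

variable {F : Type u} [Field F] {V : Type v} [AddCommGroup V] [Module F V]

/-- `J` is self-adjoint for the polar form of `Q` with square a non-square. -/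
structure SelfAdj (Q : QuadraticForm F V) (J : Module.End F V) (δ : F) : Prop where
  sep : ∀ x, (∀ y, polar Q x y = 0) → x = 0
  self : ∀ u v, polar Q (J u) v = polar Q u (J v)
  sq : ∀ v, J (J v) = δ • v
  nonsq : ∀ c : F, c * c ≠ δ

variable {Q : QuadraticForm F V} {J : Module.End F V} {δ : F}

namespace SelfAdj

variable (A : SelfAdj Q J δ)
include A

theorem δ_ne : δ ≠ 0 := fun h => A.nonsq 0 (by rw [mul_zero, h])

theorem J_inj {v : V} (h : J v = 0) : v = 0 := by
  have h1 := A.sq v
  rw [h, map_zero] at h1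
  exact (smul_eq_zero.1 h1.symm).resolve_left A.δ_ne

theorem J_surj (v : V) : J (δ⁻¹ • J v) = v := by
  rw [map_smul, A.sq, smul_smul, inv_mul_cancel₀ A.δ_ne, one_smul]

theorem form_JJ (u v : V) : polar Q (J u) (J v) = δ * polar Q u v := by
  rw [A.self, A.sq, QuadraticMap.polar_smul_right, smul_eq_mul]

/-- An eigenvector of `J` is zero. -/
theorem no_eigen {v : V} {t : F} (h : J v = t • v) : v = 0 := by
  by_contra hv
  have h1 := A.sq v
  rw [h, map_smul, h, smul_smul] at h1
  exact A.nonsq t (smul_left_injective F hv h1)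

end SelfAdj

variable (A : SelfAdj Q J δ)
include A

/-- No isometry commuting with `J` moves exactly a totally singular plane. -/
theorem contra_root [FiniteDimensional F V] (h2 : (2 : F) ≠ 0) {T : Module.End F V}
    (hiso : ∀ v, Q (T v) = Q v) (hcomm : ∀ v, T (J v) = J (T v))
    (hts : ∀ a b, polar Q ((T - 1) a) ((T - 1) b) = 0)
    (hd : Module.finrank F ↥(LinearMap.range (T - 1)) = 2) : False := by
  obtain ⟨N, hN⟩ : ∃ N, N = T - 1 := ⟨_, rfl⟩
  rw [← hN] at hd hts
  have hT : ∀ a, T a = a + N a := fun a => by rw [hN, LinearMap.sub_apply, Module.End.one_apply]; abel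
  have hskew : ∀ a b, polar Q (N a) b = -polar Q (N b) a := fun a b => by
    have h : polar Q (T a) (T b) = polar Q a b := by simp only [polar, ← map_add, hiso]
    rw [hT, hT, QuadraticMap.polar_add_left, QuadraticMap.polar_add_right, QuadraticMap.polar_add_right,
      hts, QuadraticMap.polar_comm Q a (N b)] at h
    linear_combination h
  have hNJ : ∀ a, N (J a) = J (N a) := fun a => by
    rw [hN, LinearMap.sub_apply, LinearMap.sub_apply, Module.End.one_apply, Module.End.one_apply, hcomm, map_sub]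
  obtain ⟨a, ha⟩ : ∃ a, N a ≠ 0 := by
    by_contra h
    push Not at h
    rw [show N = 0 from LinearMap.ext h, LinearMap.range_zero, finrank_bot] at hd
    omega
  have hself : ∀ b, polar Q (N b) b = 0 := fun b =>
    (mul_eq_zero.1 (show (2 : F) * polar Q (N b) b = 0 by linear_combination hskew b b)).resolve_left h2
  have hJa : polar Q (N a) (J a) = 0 := by
    refine (mul_eq_zero.1 (show (2 : F) * polar Q (N a) (J a) = 0 from ?_)).resolve_left h2
    have h1 := hskew a (J a)
    rw [hNJ, A.self] at h1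
    linear_combination h1
  have hli : LinearIndependent F ![N a, J (N a)] :=
    (LinearIndependent.pair_iff' ha).2 fun t e => ha (A.no_eigen e.symm)
  have hspan : LinearMap.range N = Submodule.span F (Set.range ![N a, J (N a)]) := by
    refine (Submodule.eq_of_le_of_finrank_eq (Submodule.span_le.2 ?_) ?_).symm
    · rintro _ ⟨k, rfl⟩
      fin_cases k
      · exact ⟨a, rfl⟩
      · exact ⟨J a, hNJ a⟩
    · rw [finrank_span_eq_card hli, hd, Fintype.card_fin]
  refine ha (A.sep _ fun b => ?_)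
  have hb : N b ∈ Submodule.span F (Set.range ![N a, J (N a)]) := hspan ▸ ⟨b, rfl⟩
  rw [Matrix.range_cons, Matrix.range_cons, Matrix.range_empty, Set.union_empty, Set.singleton_union] at hb
  obtain ⟨α, β, hαβ⟩ := Submodule.mem_span_pair.1 hb
  rw [hskew, ← hαβ, QuadraticMap.polar_add_left, QuadraticMap.polar_smul_left, QuadraticMap.polar_smul_left,
    A.self, hJa, hself, smul_zero, smul_zero, add_zero, neg_zero]

variable [Fintype F] [FiniteDimensional F V] {p : ℕ} [Fact p.Prime] [CharP F p] {r : ℕ} {T : Module.End F V}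
  (hr : r.Prime) (hiso : ∀ v, Q (T v) = Q v) (hpow : T ^ r = 1) (hrF : (r : F) ≠ 0) (hr2 : r ≠ 2)
  (hcomm : ∀ v, T (J v) = J (T v))
include hr hiso hpow hrF hr2 hcomm

omit [Fintype F] [FiniteDimensional F V] hr hiso hpow hrF hr2 in
theorem J_mov {x : V} (hx : x ∈ LinearMap.range (T - 1)) : J x ∈ LinearMap.range (T - 1) := by
  obtain ⟨w, rfl⟩ := hx
  exact ⟨J w, by rw [LinearMap.sub_apply, LinearMap.sub_apply, Module.End.one_apply, Module.End.one_apply, hcomm,
    map_sub]⟩

include p in
/-- Multiplicative order odd: no minimal moving space. -/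
theorem contra_odd {i : ℕ} (hi : i = orderOf (Fintype.card F : ZMod r)) (hodd : Odd i)
    (hc : Module.finrank F ↥(LinearMap.range (T - 1)) = 2 * i) : False := by
  haveI : Fact r.Prime := ⟨hr⟩
  have hC := IsoOrth.ctx A.sep hr hr2 hrF hiso hpow
  obtain ⟨X, hXR, hXi, hXd⟩ := exists_sub hC (inv_mov T) le_rfl 1 (by rw [hc, ← hi]; omega)
  rw [mul_one] at hXd
  have hsd : ¬ SelfDual (Fintype.card F) (p ^ 0) r := fun h =>
    (Nat.not_even_iff_odd.2 hodd) ((IsoOrth.sd_iff hi hr2 hodd.pos).1 h)
  have hσp : ∀ x : F, (RingHom.id F) x = x ^ p ^ 0 := fun x => by simp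
  have hti := ti_of_not_sd hC hσp hsd hXi hXR hXd
  let B' : V →ₗ[F] V →ₗ[F] F := Q.polarBilin.compl₂ J
  have hC' : Ctx B' T r :=
    { sep := fun x hx => A.sep x fun y => by
        have := hx (δ⁻¹ • J y)
        rwa [LinearMap.compl₂_apply, A.J_surj] at this
      refl := fun x y h => by
        simpa [B', ← A.self y x, QuadraticMap.polar_comm Q (J y) x] using h
      invol := fun _ => rfl
      flip := ⟨1, by simp, fun u v => by
        simp [B', ← A.self v u, QuadraticMap.polar_comm Q (J v) u]⟩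
      iso := fun u v => by simp [B', polar, ← hcomm, ← map_add, hiso]
      pow := hpow
      prime := hr
      rne := hrF
      rne2 := hr2 }
  have hti' := ti_of_not_sd hC' hσp hsd hXi hXR hXd
  let Y : Submodule F V := X.map J
  have hYR : Y ≤ LinearMap.range (T - 1) := by
    rintro _ ⟨x, hx, rfl⟩; exact J_mov A hcomm (hXR hx)
  have hYi : Y.map T ≤ Y := by
    rintro _ ⟨_, ⟨x, hx, rfl⟩, rfl⟩; exact ⟨T x, apply_mem hXi hx, (hcomm x).symm⟩
  have hYd : Module.finrank F Y = Module.finrank F X :=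
    (Submodule.equivMapOfInjective J (fun a b h => sub_eq_zero.1 (A.J_inj (by rw [map_sub, h, sub_self]))) X).finrank_eq.symm
  rcases simple hC hXd hXR (inv_inf hXi hYi) inf_le_left with h | h
  · have hsup : X ⊔ Y = LinearMap.range (T - 1) := by
      refine Submodule.eq_of_le_of_finrank_le (sup_le hXR hYR) ?_
      have := Submodule.finrank_sup_add_finrank_inf_eq X Y
      rw [h, finrank_bot, hYd] at this
      rw [hXd, ← hi] at this
      omega
    refine ne_bot_of_finrank hC hXd ((Submodule.eq_bot_iff _).2 fun x hx => ?_)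
    refine nd_mov hC x (hXR hx) fun w hw => ?_
    rw [← hsup] at hw
    obtain ⟨w₁, hw₁, _, ⟨w₂, hw₂, rfl⟩, rfl⟩ := Submodule.mem_sup.1 hw
    rw [map_add, hti x hx w₁ hw₁, zero_add]
    exact hti' x hx w₂ hw₂
  · have hJX : ∀ x ∈ X, J x ∈ X := fun x hx => by
      have hXY : X = Y := Submodule.eq_of_le_of_finrank_le (inf_eq_left.1 h) hYd.le
      rw [hXY]; exact ⟨x, hx, rfl⟩
    have hsq : (J.restrict hJX).comp (J.restrict hJX) = δ • LinearMap.id :=
      LinearMap.ext fun x => Subtype.ext (A.sq x)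
    have hdet := congrArg LinearMap.det hsq
    rw [LinearMap.det_comp, LinearMap.det_smul, LinearMap.det_id, mul_one, hXd, ← hi] at hdet
    obtain ⟨k, rfl⟩ := hodd
    have hne : δ ^ k ≠ 0 := pow_ne_zero _ A.δ_ne
    refine A.nonsq (LinearMap.det (J.restrict hJX) / δ ^ k) ?_
    field_simp
    linear_combination hdet

/-- Multiplicative order twice an odd number: no minimal moving space. -/
theorem contra_two (h2 : (2 : F) ≠ 0) {i : ℕ} (hi : i = orderOf (Fintype.card F : ZMod r)) {m : ℕ} (hm : i = 2 * m)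
    (hmo : Odd m) (hc : Module.finrank F ↥(LinearMap.range (T - 1)) = i) : False := by
  haveI : Fact r.Prime := ⟨hr⟩
  have hC := IsoOrth.ctx A.sep hr hr2 hrF hiso hpow
  obtain ⟨R, hR⟩ : ∃ R, R = LinearMap.range (T - 1) := ⟨_, rfl⟩
  rw [← hR] at hc
  have hRi : R.map T ≤ R := hR ▸ inv_mov T
  have hd : Module.finrank F R = orderOf (Fintype.card F : ZMod r) := hc.trans hi
  obtain ⟨w, hw, hw0⟩ := (Submodule.ne_bot_iff R).1 (ne_bot_of_finrank hC hd)
  let E : F[X] →ₗ[F] V := (LinearMap.applyₗ w).comp (aeval T).toLinearMap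
  have hE : ∀ f, E f = aeval T f w := fun f => rfl
  have hEi : (LinearMap.range E).map T ≤ LinearMap.range E := by
    rintro _ ⟨_, ⟨f, rfl⟩, rfl⟩
    exact ⟨X * f, by rw [hE, hE, map_mul, Module.End.mul_apply, aeval_X]⟩
  rcases simple hC hd hR.le hEi (by rintro _ ⟨f, rfl⟩; exact aeval_apply_mem hRi f hw) with h | h
  · refine hw0 ((Submodule.mem_bot F).1 (h ▸ ⟨1, ?_⟩))
    rw [hE, map_one, Module.End.one_apply]
  obtain ⟨f, hf⟩ : J w ∈ LinearMap.range E := by
    rw [h, hR]; exact J_mov A hcomm (hR ▸ hw)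
  rw [hE] at hf
  have hcf : ∀ (g : F[X]) x, J (aeval T g x) = aeval T g (J x) := fun g x => by
    induction g using Polynomial.induction_on' with
    | add g g' hg hg' => simp [hg, hg']
    | monomial k a =>
      have hk : ∀ k x, J ((T ^ k) x) = (T ^ k) (J x) := by
        intro k
        induction k with
        | zero => simp
        | succ k ih => intro x; rw [pow_succ', Module.End.mul_apply, Module.End.mul_apply, ← hcomm, ih]
      simp [aeval_monomial, hk]
  have hJ : ∀ x ∈ R, J x = aeval T f x := by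
    intro x hx
    obtain ⟨g, rfl⟩ : x ∈ LinearMap.range E := h.symm ▸ hx
    rw [hE, hcf, ← hf, ← Module.End.mul_apply, ← Module.End.mul_apply, ← map_mul, ← map_mul, mul_comm]
  have hRJ : ∀ x ∈ R, J x ∈ R := fun x hx => hR ▸ J_mov A hcomm (hR ▸ hx)
  obtain ⟨N, hN⟩ : ∃ N, N = Fintype.card F ^ m := ⟨_, rfl⟩
  have hTN : T ^ (r - 1) = T ^ N := pow_modEq hC <| by
    rw [← Nat.ModEq, ← ZMod.natCast_eq_natCast_iff, Nat.cast_sub hr.one_le, ZMod.natCast_self, hN,
      Nat.cast_pow, Nat.cast_one, zero_sub]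
    have h1 : ((Fintype.card F : ZMod r) ^ m) ^ 2 = 1 := by
      rw [← pow_mul, mul_comm, ← hm, hi, pow_orderOf_eq_one]
    rcases sq_eq_one_iff.1 h1 with h | h
    · have hpos : 0 < m := hmo.pos
      have := Nat.le_of_dvd hpos (orderOf_dvd_of_pow_eq_one h)
      omega
    · exact h.symm
  have hch : ringChar F ≠ 2 := fun hc => h2 (by
    have := ringChar.charP F
    rw [hc] at this
    exact_mod_cast CharP.cast_eq_zero F 2)
  obtain ⟨a, ha⟩ : Odd (Fintype.card F) := Nat.odd_iff.2 (FiniteField.odd_card_of_char_ne_two hch)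
  have hδ : δ ^ a = -1 := by
    have ha' : Fintype.card F / 2 = a := by omega
    have hns : ¬ δ ^ (Fintype.card F / 2) = 1 := fun h => by
      obtain ⟨c, hc⟩ := (FiniteField.isSquare_iff hch A.δ_ne).2 h
      exact A.nonsq c hc.symm
    rw [← ha']
    exact ((FiniteField.pow_dichotomy hch A.δ_ne).resolve_left hns)
  obtain ⟨e, he, heδ⟩ : ∃ e, N = 2 * e + 1 ∧ δ ^ e = -1 := by
    suffices ∀ k, ∃ e, Fintype.card F ^ k = 2 * e + 1 ∧ δ ^ e = (-1) ^ k by
      obtain ⟨e, he, h⟩ := this m
      exact ⟨e, hN.trans he, by rw [h, hmo.neg_one_pow]⟩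
    intro k
    induction k with
    | zero => exact ⟨0, rfl, by simp⟩
    | succ k ih =>
      obtain ⟨e, he, h⟩ := ih
      refine ⟨e * Fintype.card F + a, ?_, ?_⟩
      · rw [pow_succ, he, add_mul, one_mul, mul_assoc]; omega
      · rw [pow_add, pow_mul, h, hδ, ← pow_mul, mul_comm k, pow_mul, Odd.neg_one_pow ⟨a, ha⟩, pow_succ]
  have hJ2 : ∀ k x, (J ^ (2 * k)) x = δ ^ k • x := by
    intro k
    induction k with
    | zero => intro x; simp
    | succ k ih => intro x; rw [mul_add, mul_one, pow_add, Module.End.mul_apply, ih, pow_two, Module.End.mul_apply,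
        A.sq, smul_smul, pow_succ]
  have hpowR : ∀ k, ∀ x ∈ R, (aeval T f ^ k) x = (J ^ k) x := by
    intro k
    induction k with
    | zero => intro x _; rfl
    | succ k ih =>
      intro x hx
      rw [pow_succ, pow_succ, Module.End.mul_apply, Module.End.mul_apply, ← hJ x hx, ih _ (hRJ x hx)]
  refine ne_bot_of_finrank hC hd ((Submodule.eq_bot_iff _).2 fun x hx => ?_)
  refine nd_mov hC x (hR ▸ hx) fun w hw => ?_
  rw [← hR] at hw
  obtain ⟨z, hz, rfl⟩ : ∃ z ∈ R, J z = w := ⟨_, R.smul_mem δ⁻¹ (hRJ w hw), A.J_surj w⟩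
  have h1 : Q.polarBilin (J x) z = Q.polarBilin x (J z) := A.self x z
  rw [hJ x hx, aeval_adj hC, Polynomial.map_id, expand_aeval, hTN, ← expand_aeval, hN, expand_card_pow,
    map_pow, ← hN, hpowR N z hz, he, pow_succ, Module.End.mul_apply, hJ2, heδ, neg_one_smul, map_neg] at h1
  have h3 : (2 : F) * Q.polarBilin x (J z) = 0 := by linear_combination -h1
  exact (mul_eq_zero.1 h3).resolve_left h2

end CfsgLib.MaxSub.OrthExt
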