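import Cfsg.Agent.Lib.MaxSub.OrthSing

/-!
Singular vectors in the orthogonal of a set, by the dimension of its radical.
-/

set_option autoImplicit false
set_option linter.unusedSectionVars false

namespace CfsgLib.MaxSub

open CfsgLib.Classical CfsgLib.Geom
open QuadraticMap (polar)

variable {F V : Type*} [Field F] [AddCommGroup V] [Module F V] [FiniteDimensional F V]
variable {Q : QuadraticForm F V}
variable [Finite F] (hQ : ∀ x, (∀ y, polar Q x y = 0) → x = 0)
include hQ

/-- singular vectors span the orthogonal of a set, by the dimension of the radical -/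
theorem qPerp_le_of_singular_rad (S : Finset V) (hS : Module.finrank F
      ((Submodule.span F (S : Set V)).comap (qPerp Q (S : Set V)).subtype) + S.card + 3 ≤ Module.finrank F V)
    {P : Submodule F V} (hP : ∀ x ∈ qPerp Q (S : Set V), Q x = 0 → x ∈ P) :
    qPerp Q (S : Set V) ≤ P := by
  classical
  set W := qPerp Q (S : Set V) with hWdef
  have hW := finrank_le_finrank_qPerp_add (Q := Q) S
  obtain ⟨C, hC⟩ := Submodule.exists_isCompl
    ((Submodule.span F (S : Set V)).comap W.subtype)
  have hd := Submodule.finrank_add_eq_of_isCompl hC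
  rw [← hWdef] at hW
  obtain ⟨s, hs, hs0, hQs⟩ := exists_singular_in (Q := Q) (W := C.map W.subtype) (by
    rw [Submodule.finrank_map_subtype_eq]; omega)
  obtain ⟨⟨s', hs'W⟩, hs'C, rfl⟩ := hs
  simp only [Submodule.subtype_apply] at hs0 hQs
  have hout : s' ∉ Submodule.span F (S : Set V) := fun hm => hs0 (congrArg Subtype.val
    ((Submodule.mem_bot F).1 (hC.disjoint.le_bot
      ⟨(show (⟨s', hs'W⟩ : W) ∈ (Submodule.span F (S : Set V)).comap W.subtype from hm), hs'C⟩)))
  obtain ⟨z₀, hz₀, hz₀s⟩ := exists_perp_pair (σ := RingHom.id F) (QuadraticMap.polarBilin Q) hQ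
    (Submodule.span F (S : Set V)) hout
  simp only [QuadraticMap.polarBilin_apply_apply] at hz₀ hz₀s
  have hz₀W : z₀ ∈ W := fun x hx => by
    rw [QuadraticMap.polar_comm]; exact hz₀ x (Submodule.subset_span hx)
  have key : ∀ z ∈ W, polar Q z s' ≠ 0 → z ∈ P := fun z hz hzs => by
    have h1 : z + (-Q z / polar Q z s') • s' ∈ P := hP _ (add_mem hz (W.smul_mem _ hs'W)) (by
      rw [quad_map_add_smul, hQs, div_mul_cancel₀ _ hzs]; ring)
    have := sub_mem h1 (P.smul_mem (-Q z / polar Q z s') (hP _ hs'W hQs))
    rwa [add_sub_cancel_right] at this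
  intro z hz
  by_cases hzs : polar Q z s' = 0
  · have hz₀' : polar Q z₀ s' ≠ 0 := by rw [QuadraticMap.polar_comm, hz₀s]; exact one_ne_zero
    have h1 := key (z + z₀) (add_mem hz hz₀W) (by
      rw [QuadraticMap.polar_add_left, hzs, zero_add]; exact hz₀')
    simpa using sub_mem h1 (key z₀ hz₀W hz₀')
  · exact key z hz hzs

/-- a singular vector orthogonal to a set, not to `b`, by the dimension of the radical -/
theorem exists_singular_pair_rad (S : Finset V) (hS : Module.finrank F
      ((Submodule.span F (S : Set V)).comap (qPerp Q (S : Set V)).subtype) + S.card + 3 ≤ Module.finrank F V) {b : V}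
    (hb : b ∉ Submodule.span F (S : Set V)) :
    ∃ z, Q z = 0 ∧ (∀ s ∈ S, polar Q z s = 0) ∧ polar Q z b ≠ 0 := by
  by_contra hno
  push Not at hno
  obtain ⟨y, hy, hby⟩ := exists_perp_pair (σ := RingHom.id F) (QuadraticMap.polarBilin Q) hQ
    (Submodule.span F (S : Set V)) hb
  simp only [QuadraticMap.polarBilin_apply_apply] at hy hby
  have hle := qPerp_le_of_singular_rad hQ S hS (P := LinearMap.ker ((QuadraticMap.polarBilin Q).flip b))
    fun x hx hQx => hno x hQx fun s hs => hx s hs
  have : polar Q y b = 0 := hle fun s hs => by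
    rw [QuadraticMap.polar_comm]; exact hy s (Submodule.subset_span hs)
  rw [QuadraticMap.polar_comm, hby] at this
  exact one_ne_zero this

end CfsgLib.MaxSub
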