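import Cfsg.Agent.Lib.MaxSub.OrthSing
import Cfsg.Agent.Lib.MaxSub.OrthPolar

/-!
Maximality of the normaliser of a quadratic overfield acting by similitudes on a quadratic space:
every characteristic, dimension at least thirteen.
-/

set_option autoImplicit false
set_option linter.unusedSectionVars false

namespace CfsgLib.MaxSub

open CfsgLib.Classical CfsgLib.Geom
open QuadraticMap (polar)

variable {F V : Type*} [Field F] [AddCommGroup V] [Module F V]

/-- `j` is a similitude with irreducible minimal polynomial `X² - t X + c` and `polar Q (j x) x = t Q x`. -/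
structure OAnti (Q : QuadraticForm F V) (j : V →ₗ[F] V) (t c : F) : Prop where
  sep : ∀ x, (∀ y, polar Q x y = 0) → x = 0
  quad : ∀ x, Q (j x) = c * Q x
  pol : ∀ x, polar Q (j x) x = t * Q x
  irr : ∀ r : F, r * r + t * r + c ≠ 0

/-- the line of `v` over the field generated by `j` -/
def kLine (j : V →ₗ[F] V) (v : V) : Submodule F V := Submodule.span F {v, j v}

/-- `g` normalises the field generated by `j`. -/
def KNorm {Q : QuadraticForm F V} (j : V →ₗ[F] V) (g : quadIsoms Q) : Prop :=
  ∃ p q : F, q ≠ 0 ∧ ∀ x, g.1 (j x) = p • g.1 x + q • j (g.1 x)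

namespace OAnti

variable {Q : QuadraticForm F V} {j : V →ₗ[F] V} {t c : F} (A : OAnti Q j t c)
include A

theorem c_ne : c ≠ 0 := fun h => A.irr 0 (by rw [h]; ring)

theorem adj (x y : V) : polar Q (j x) y = t * polar Q x y - polar Q x (j y) := by
  have h := A.pol (x + y)
  rw [map_add, QuadraticMap.polar_add_left, QuadraticMap.polar_add_right, QuadraticMap.polar_add_right,
    A.pol, A.pol, QuadraticMap.map_add (Q : QuadraticMap F V F) x y,
    QuadraticMap.polar_comm _ (j y) x] at h
  linear_combination h

theorem polJJ (x y : V) : polar Q (j x) (j y) = c * polar Q x y := by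
  simp only [QuadraticMap.polar, ← map_add, A.quad]
  ring

theorem sq (x : V) : j (j x) = t • j x - c • x := by
  refine sub_eq_zero.1 (A.sep _ fun y => ?_)
  rw [QuadraticMap.polar_sub_left, QuadraticMap.polar_sub_left, QuadraticMap.polar_smul_left,
    QuadraticMap.polar_smul_left, A.adj (j x) y, A.polJJ x y, smul_eq_mul, smul_eq_mul]
  ring

theorem indep {v : V} (hv : v ≠ 0) {p q : F} (h : p • v + q • j v = 0) : p = 0 ∧ q = 0 := by
  have h' := congrArg j h
  rw [map_add, map_smul, map_smul, A.sq, map_zero] at h'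
  have e : (p * p + t * p * q + c * (q * q)) • v = 0 := by
    linear_combination (norm := module) (p + t * q) • h - q • h'
  have hN := (smul_eq_zero.1 e).resolve_right hv
  rcases eq_or_ne q 0 with rfl | hq
  · exact ⟨mul_self_eq_zero.1 (by linear_combination hN), rfl⟩
  · exact absurd (by field_simp; linear_combination hN) (A.irr (p / q))

theorem mem_kLine (v : V) : v ∈ kLine j v := Submodule.subset_span (by simp)

theorem j_mem_kLine (v : V) : j v ∈ kLine j v := Submodule.subset_span (by simp)

theorem kLine_map {u x : V} (hx : x ∈ kLine j u) : j x ∈ kLine j u := by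
  obtain ⟨p, q, rfl⟩ := Submodule.mem_span_pair.1 hx
  refine Submodule.mem_span_pair.2 ⟨-(q * c), p + q * t, ?_⟩
  rw [map_add, map_smul, map_smul, A.sq]
  module

/-- multiplication by a non-zero element of the field is invertible -/
theorem mem_of_comb {W : Submodule F V} (hW : ∀ x ∈ W, j x ∈ W) {x : V} {p q : F}
    (h : p • x + q • j x ∈ W) (hpq : p ≠ 0 ∨ q ≠ 0) : x ∈ W := by
  have hN : p * p + t * p * q + c * (q * q) ≠ 0 := by
    intro hN
    rcases eq_or_ne q 0 with rfl | hq
    · exact (hpq.resolve_right (by simp)) (mul_self_eq_zero.1 (by linear_combination hN))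
    · exact A.irr (p / q) (by field_simp; linear_combination hN)
  refine (Submodule.smul_mem_iff _ hN).1 ?_
  have e : (p * p + t * p * q + c * (q * q)) • x =
      (p + t * q) • (p • x + q • j x) - q • j (p • x + q • j x) := by
    rw [map_add, map_smul, map_smul, A.sq]
    module
  rw [e]
  exact sub_mem (W.smul_mem _ h) (W.smul_mem _ (hW _ h))

theorem kLine_swap {v w : V} (hv : v ≠ 0) (h : v ∈ kLine j w) : w ∈ kLine j v := by
  obtain ⟨p, q, hpq⟩ := Submodule.mem_span_pair.1 h
  refine A.mem_of_comb (fun x hx => A.kLine_map hx) (p := p) (q := q) (by rw [hpq]; exact A.mem_kLine v) ?_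
  by_contra hh
  push Not at hh
  exact hv (by rw [← hpq, hh.1, hh.2, zero_smul, zero_smul, add_zero])

theorem quad_j_zero {v : V} (hv : Q v = 0) : Q (j v) = 0 := by rw [A.quad, hv, mul_zero]

theorem polar_j_self {v : V} (hv : Q v = 0) : polar Q v (j v) = 0 := by
  rw [QuadraticMap.polar_comm, A.pol, hv, mul_zero]

/-- the Siegel transformations of the unitary group commute with `j` -/
theorem siegel_comm {v : V} (hv : Q v = 0) (s : F) :
    KNorm j (siegel Q v (s • j v)) := by
  refine ⟨0, 1, one_ne_zero, fun z => ?_⟩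
  have hw : polar Q v (s • j v) = 0 := by
    rw [QuadraticMap.polar_smul_right, A.polar_j_self hv, smul_zero]
  rw [siegel_apply Q hv hw, siegel_apply Q hv hw, quad_smul, A.quad_j_zero hv, zero_smul, zero_add,
    one_smul, QuadraticMap.polar_smul_left, QuadraticMap.polar_smul_left, A.polJJ,
    show polar Q v (j z) = t * polar Q v z - polar Q (j v) z by rw [A.adj]; ring]
  simp only [map_sub, map_add, map_smul, A.sq, smul_eq_mul, mul_zero, add_zero]
  module

end OAnti

variable [Finite F] [FiniteDimensional F V]
variable {Q : QuadraticForm F V} {j : V →ₗ[F] V} {t c : F}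

/-- a perpendicular pair of singular points with their root group in `M` -/
structure OPair (M : Subgroup (quadIsoms Q)) (j : V →ₗ[F] V) (a z : V) : Prop where
  a0 : a ≠ 0
  qa : Q a = 0
  qz : Q z = 0
  az : polar Q a z = 0
  jaz : polar Q (j a) z = 0
  indep : z ∉ kLine j a
  mem : ∀ r : F, siegel Q a (r • z) ∈ M

/-- the vectors orthogonal to `a` whose root group at `a` lies in `M` -/
def rootSpace (M : Subgroup (quadIsoms Q)) {a : V} (ha : Q a = 0) : Submodule F V where
  carrier := {x | polar Q a x = 0 ∧ ∀ r : F, siegel Q a (r • x) ∈ M}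
  add_mem' {x y} hx hy := ⟨by rw [QuadraticMap.polar_add_right, hx.1, hy.1, add_zero], fun r => by
    rw [smul_add, siegel_add Q ha (by rw [QuadraticMap.polar_smul_right, hx.1, smul_zero])
      (by rw [QuadraticMap.polar_smul_right, hy.1, smul_zero])]
    exact mul_mem (hx.2 r) (hy.2 r)⟩
  zero_mem' := ⟨QuadraticMap.polar_zero_right Q a, fun r => by rw [smul_zero, siegel_zero]; exact one_mem M⟩
  smul_mem' s x hx := ⟨by rw [QuadraticMap.polar_smul_right, hx.1, smul_zero], fun r => by
    rw [smul_smul]; exact hx.2 _⟩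

theorem mem_rootSpace {M : Subgroup (quadIsoms Q)} {a : V} {ha : Q a = 0} {x : V} :
    x ∈ rootSpace M ha ↔ polar Q a x = 0 ∧ ∀ r : F, siegel Q a (r • x) ∈ M := Iff.rfl

theorem rootSpace_map {M : Subgroup (quadIsoms Q)} {a : V} {ha : Q a = 0} {T : quadIsoms Q} (hT : T ∈ M)
    (hTa : T.1 a = a) {x : V} (hx : x ∈ rootSpace M ha) : T.1 x ∈ rootSpace M ha := by
  refine ⟨?_, fun r => ?_⟩
  · have h := polar_quadIsom T.2 a x
    rwa [hTa, hx.1] at h
  · have h := mul_mem (mul_mem hT (hx.2 r)) (inv_mem hT)
    rwa [siegel_conj, hTa, map_smul] at h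

namespace OAnti

variable (A : OAnti Q j t c) (hd : 10 ≤ Module.finrank F V) {M : Subgroup (quadIsoms Q)}
  (hU : ∀ v : V, Q v = 0 → ∀ s : F, siegel Q v (s • j v) ∈ M)
include A

theorem pair_symm {a z : V} (P : OPair M j a z) : OPair M j z a := by
  refine ⟨fun h => P.indep (h ▸ Submodule.zero_mem _), P.qz, P.qa,
    by rw [QuadraticMap.polar_comm]; exact P.az, ?_,
    fun h => P.indep (A.kLine_swap P.a0 h), fun r => ?_⟩
  · rw [A.adj, QuadraticMap.polar_comm _ z a, P.az, QuadraticMap.polar_comm _ z, P.jaz]; ring
  · have h := P.mem (-r)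
    have e1 : polar Q (r • a) z = 0 := by rw [QuadraticMap.polar_smul_left, P.az, smul_zero]
    rw [siegel_swap (a := r • a) (by rw [quad_smul, P.qa, mul_zero]) P.qz e1,
      siegel_smul Q P.qa (by rw [QuadraticMap.polar_neg_right, P.az, neg_zero]), smul_neg, ← neg_smul]
    exact h

include hU

theorem j_mem_rootSpace {a : V} (ha : Q a = 0) : j a ∈ rootSpace M ha :=
  ⟨A.polar_j_self ha, hU a ha⟩

/-- the basic move -/
theorem move {a z x : V} (P : OPair M j a z) (hx : Q x = 0) (hxa : polar Q x a = 0)
    (hxja : polar Q x (j a) = 0) (hxz : polar Q x z = 0) (hxjz : polar Q x (j z) ≠ 0) :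
    x ∈ rootSpace M P.qa := by
  have hc := A.c_ne
  set w := c⁻¹ • (t • x - j x) with hw
  have hjw : j w = x := by
    rw [hw, map_smul, map_sub, map_smul, A.sq]
    refine smul_right_injective V hc ?_
    simp only [smul_inv_smul₀ hc]
    module
  have hQw : Q w = 0 := by
    have h := A.quad w
    rw [hjw, hx] at h
    exact (mul_eq_zero.1 h.symm).resolve_left hc
  have hwa : polar Q w a = 0 := by
    rw [hw, QuadraticMap.polar_smul_left, QuadraticMap.polar_sub_left, QuadraticMap.polar_smul_left,
      A.adj, hxa, hxja]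
    simp
  have hwz : polar Q w z = c⁻¹ * polar Q x (j z) := by
    rw [hw, QuadraticMap.polar_smul_left, QuadraticMap.polar_sub_left, QuadraticMap.polar_smul_left,
      A.adj, hxz]
    simp
  clear_value w
  have hr : polar Q w z ≠ 0 := by rw [hwz]; exact mul_ne_zero (inv_ne_zero hc) hxjz
  have hT := hU w hQw (polar Q w z)⁻¹
  rw [hjw] at hT
  have hperp : polar Q w ((polar Q w z)⁻¹ • x) = 0 := by
    rw [← hjw, QuadraticMap.polar_smul_right, A.polar_j_self hQw, smul_zero]
  have hTa : (siegel Q w ((polar Q w z)⁻¹ • x)).1 a = a := by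
    rw [siegel_apply Q hQw hperp, hwa, QuadraticMap.polar_smul_left, hxa]
    simp
  have hz := rootSpace_map hT hTa (x := z) (ha := P.qa) ⟨P.az, P.mem⟩
  rw [siegel_apply Q hQw hperp, QuadraticMap.polar_smul_left, hxz, smul_smul,
    mul_inv_cancel₀ hr, quad_smul, hx] at hz
  simpa using sub_mem hz (show z ∈ rootSpace M P.qa from ⟨P.az, P.mem⟩)

include hd

/-- a singular vector orthogonal to the pair but not to `j z` -/
theorem exists_mover {a z : V} (P : OPair M j a z) : ∃ x, Q x = 0 ∧ polar Q x a = 0 ∧
    polar Q x (j a) = 0 ∧ polar Q x z = 0 ∧ polar Q x (j z) ≠ 0 := by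
  classical
  obtain ⟨x, hx, hxS, hxb⟩ := exists_singular_pair A.sep ({a, j a, z} : Finset V)
    (le_trans (by have := Finset.card_le_three (a := a) (b := j a) (c := z); omega) hd) (b := j z) (fun h => by
      simp only [Finset.coe_insert, Finset.coe_singleton, Submodule.mem_span_insert,
        Submodule.mem_span_singleton] at h
      obtain ⟨p, _, ⟨q, _, ⟨r, rfl⟩, rfl⟩, h⟩ := h
      refine P.indep (A.mem_of_comb (fun x hx => A.kLine_map hx) (p := -r) (q := 1) ?_ (Or.inr one_ne_zero))
      rw [h, show (-r) • z + (1 : F) • (p • a + (q • j a + r • z)) = p • a + q • j a by module]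
      exact Submodule.mem_span_pair.2 ⟨p, q, rfl⟩)
  exact ⟨x, hx, hxS a (by simp), hxS (j a) (by simp), hxS z (by simp), hxb⟩

theorem polar_a_jz {a z : V} (P : OPair M j a z) : polar Q a (j z) = 0 := by
  have h := A.adj a z
  rw [P.jaz, P.az] at h
  linear_combination h

theorem jz_mem {a z : V} (P : OPair M j a z) : j z ∈ rootSpace M P.qa := by
  classical
  obtain ⟨x, hx, hxa, hxja, hxz, hxb⟩ := A.exists_mover hd hU P
  obtain ⟨W, hW⟩ : ∃ W, W = qPerp Q (({a, j a, z, j z, x} : Finset V) : Set V) := ⟨_, rfl⟩
  -- the polar form does not vanish on the orthogonal of the five vectors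
  obtain ⟨u, hu, v, hv, huv⟩ : ∃ u ∈ W, ∃ v ∈ W, polar Q u v ≠ 0 := by
    by_contra hno
    push Not at hno
    obtain ⟨S, hS⟩ : ∃ S : Submodule F V, S = Submodule.span F (({a, j a, z, j z, x} : Finset V) : Set V) :=
      ⟨_, rfl⟩
    have hB : LinearMap.BilinForm.Nondegenerate (Q.polarBilin : LinearMap.BilinForm F V) :=
      ⟨fun x hx => A.sep x hx, fun y hy => A.sep y fun x => by rw [QuadraticMap.polar_comm]; exact hy x⟩
    have hWS : W ≤ LinearMap.BilinForm.orthogonal (Q.polarBilin : LinearMap.BilinForm F V) W := by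
      intro y hy
      rw [LinearMap.BilinForm.mem_orthogonal_iff]
      exact fun z hz => hno z hz y hy
    have hSW : S ≤ LinearMap.BilinForm.orthogonal (Q.polarBilin : LinearMap.BilinForm F V) W := by
      rw [hS, Submodule.span_le]
      intro y hy
      rw [SetLike.mem_coe, LinearMap.BilinForm.mem_orthogonal_iff]
      exact fun z hz => by
        rw [hW] at hz
        exact hz y hy
    have h1 := LinearMap.BilinForm.finrank_orthogonal hB W
    have h2 : 5 ≤ Module.finrank F W := by
      have h := finrank_le_finrank_qPerp_add (Q := Q) ({a, j a, z, j z, x} : Finset V)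
      have h' : ({a, j a, z, j z, x} : Finset V).card ≤ 5 :=
        le_trans (Finset.card_insert_le _ _) (Nat.succ_le_succ Finset.card_le_four)
      rw [hW]; omega
    have hxS : x ∈ S := by rw [hS]; exact Submodule.subset_span (by simp)
    have hjzS : j z ∈ S := by rw [hS]; exact Submodule.subset_span (by simp)
    have h3 := Submodule.finrank_mono hWS
    have h5 : Module.finrank F S ≤ 5 := by
      rw [hS]
      exact le_trans (finrank_span_finset_le_card _)
        (le_trans (Finset.card_insert_le _ _) (Nat.succ_le_succ Finset.card_le_four))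
    by_cases heq : Module.finrank F W = 5 ∧ Module.finrank F V = 10
    · have e := Submodule.eq_of_le_of_finrank_le hWS (by omega)
      have hx' : x ∈ W := e.symm ▸ hSW hxS
      rw [hW] at hx'
      exact hxb (hx' (j z) (by simp))
    · have h6 := finrank_le_finrank_qPerp_add (Q := Q) ({a, j a, z, j z, x} : Finset V)
      have h7 : ({a, j a, z, j z, x} : Finset V).card ≤ 5 :=
        le_trans (Finset.card_insert_le _ _) (Nat.succ_le_succ Finset.card_le_four)
      rw [← hW] at h6
      omega
  rw [hW] at hu hv
  -- the three shifted movers combine to a multiple of `j z`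
  obtain ⟨f, hf⟩ : ∃ f : V → V, ∀ e, f e = x + e + (-(Q e) / polar Q x (j z)) • j z := ⟨_, fun _ => rfl⟩
  have hmem : ∀ e ∈ qPerp Q (({a, j a, z, j z, x} : Finset V) : Set V), f e ∈ rootSpace M P.qa := by
    intro e he
    have hea := he a (by simp)
    have heja := he (j a) (by simp)
    have hez := he z (by simp)
    have hejz := he (j z) (by simp)
    have hex := he x (by simp)
    have hja : polar Q (j z) (j a) = 0 := by rw [A.polJJ, QuadraticMap.polar_comm, P.az, mul_zero]
    have hjzz : polar Q (j z) z = 0 := by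
      rw [QuadraticMap.polar_comm]; exact A.polar_j_self P.qz
    rw [hf]
    refine A.move hU P ?_ ?_ ?_ ?_ ?_
    · rw [quad_map_add_smul, QuadraticMap.map_add (Q : QuadraticMap F V F) x e, hx, A.quad_j_zero P.qz,
        QuadraticMap.polar_add_left, hejz, QuadraticMap.polar_comm _ x e, hex]
      field_simp
      ring
    · rw [QuadraticMap.polar_add_left, QuadraticMap.polar_add_left, QuadraticMap.polar_smul_left, hxa, hea,
        QuadraticMap.polar_comm _ (j z) a, A.polar_a_jz hd hU P]
      simp
    · rw [QuadraticMap.polar_add_left, QuadraticMap.polar_add_left, QuadraticMap.polar_smul_left, hxja, heja, hja]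
      simp
    · rw [QuadraticMap.polar_add_left, QuadraticMap.polar_add_left, QuadraticMap.polar_smul_left, hxz, hez, hjzz]
      simp
    · rw [QuadraticMap.polar_add_left, QuadraticMap.polar_add_left, QuadraticMap.polar_smul_left, hejz,
        polar_self_of_singular Q (A.quad_j_zero P.qz)]
      simpa using hxb
  have h := add_mem (sub_mem (sub_mem (hmem _ (add_mem hu hv)) (hmem u hu)) (hmem v hv))
    (hmem 0 (zero_mem _))
  rw [hf, hf, hf, hf] at h
  refine (Submodule.smul_mem_iff _ (div_ne_zero (neg_ne_zero.2 huv) hxb)).1 ?_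
  convert h using 1
  rw [QuadraticMap.map_add (Q : QuadraticMap F V F) u v, map_zero]
  module

/-- every singular vector orthogonal to the pair -/
theorem core {a z x : V} (P : OPair M j a z) (hx : Q x = 0) (hxa : polar Q x a = 0)
    (hxja : polar Q x (j a) = 0) (hxz : polar Q x z = 0) : x ∈ rootSpace M P.qa := by
  classical
  by_cases hxjz : polar Q x (j z) = 0
  swap
  · exact A.move hU P hx hxa hxja hxz hxjz
  obtain ⟨y, hy, hya, hyja, hyz, hyb⟩ := A.exists_mover hd hU P
  have hja : polar Q (j z) (j a) = 0 := by rw [A.polJJ, QuadraticMap.polar_comm, P.az, mul_zero]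
  have hjzz : polar Q (j z) z = 0 := by
    rw [QuadraticMap.polar_comm]; exact A.polar_j_self P.qz
  obtain ⟨r, hr⟩ : ∃ r, r = -(polar Q x y) / polar Q y (j z) := ⟨_, rfl⟩
  have h1 : x + y + r • j z ∈ rootSpace M P.qa := by
    refine A.move hU P ?_ ?_ ?_ ?_ ?_
    · rw [quad_map_add_smul, QuadraticMap.map_add (Q : QuadraticMap F V F) x y, hx, hy, A.quad_j_zero P.qz,
        QuadraticMap.polar_add_left, hxjz, hr]
      field_simp
      ring
    · rw [QuadraticMap.polar_add_left, QuadraticMap.polar_add_left, QuadraticMap.polar_smul_left, hxa, hya,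
        QuadraticMap.polar_comm _ (j z) a, A.polar_a_jz hd hU P]
      simp
    · rw [QuadraticMap.polar_add_left, QuadraticMap.polar_add_left, QuadraticMap.polar_smul_left, hxja, hyja, hja]
      simp
    · rw [QuadraticMap.polar_add_left, QuadraticMap.polar_add_left, QuadraticMap.polar_smul_left, hxz, hyz, hjzz]
      simp
    · rw [QuadraticMap.polar_add_left, QuadraticMap.polar_add_left, QuadraticMap.polar_smul_left, hxjz,
        polar_self_of_singular Q (A.quad_j_zero P.qz)]
      simpa using hyb
  have h2 := sub_mem (sub_mem h1 (A.move hU P hy hya hyja hyz hyb))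
    (Submodule.smul_mem _ r (A.jz_mem hd hU P))
  convert h2 using 1
  abel

theorem perp_le {a z : V} (P : OPair M j a z) :
    qPerp Q ({a, j a} : Set V) ≤ rootSpace M P.qa := by
  classical
  have side : ∀ {w : V}, OPair M j a w → ∀ y, polar Q y a = 0 → polar Q y (j a) = 0 → polar Q y w = 0 →
      y ∈ rootSpace M P.qa := by
    intro w P' y h1 h2 h3
    refine qPerp_le_of_singular A.sep ({a, j a, w} : Finset V)
      (le_trans (by have := Finset.card_le_three (a := a) (b := j a) (c := w); omega) hd)
      (P := rootSpace M P.qa) (fun v hv hQv => A.core hd hU P' hQv (hv a (by simp)) (hv (j a) (by simp))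
        (hv w (by simp))) ?_
    intro s hs
    simp only [Finset.coe_insert, Finset.coe_singleton, Set.mem_insert_iff, Set.mem_singleton_iff] at hs
    rcases hs with rfl | rfl | rfl <;> assumption
  have P' : OPair M j a (j z) := ⟨P.a0, P.qa, A.quad_j_zero P.qz, A.polar_a_jz hd hU P,
    by rw [A.polJJ, P.az, mul_zero],
    fun h => P.indep (A.mem_of_comb (fun x hx => A.kLine_map hx) (p := 0) (q := 1)
      (by rwa [zero_smul, zero_add, one_smul]) (Or.inr one_ne_zero)),
    (A.jz_mem hd hU P).2⟩
  obtain ⟨y, hy, hyS, hyz⟩ := exists_singular_pair A.sep ({a, j a, j z} : Finset V)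
    (le_trans (by have := Finset.card_le_three (a := a) (b := j a) (c := j z); omega) hd) (b := z) (fun h => by
      simp only [Finset.coe_insert, Finset.coe_singleton, Submodule.mem_span_insert,
        Submodule.mem_span_singleton] at h
      obtain ⟨p, _, ⟨q, _, ⟨r, rfl⟩, rfl⟩, h⟩ := h
      refine P.indep (A.mem_of_comb (fun x hx => A.kLine_map hx) (p := 1) (q := -r) ?_ (Or.inl one_ne_zero))
      rw [show (1 : F) • z + (-r) • j z = p • a + q • j a by
        linear_combination (norm := module) h]
      exact Submodule.mem_span_pair.2 ⟨p, q, rfl⟩)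
  have hya := hyS a (by simp)
  have hyja := hyS (j a) (by simp)
  have hy' := side P' y hya hyja (hyS (j z) (by simp))
  intro x hx
  have hxa : polar Q x a = 0 := hx a (by simp)
  have hxja : polar Q x (j a) = 0 := hx (j a) (by simp)
  have h1 := side P (x - (polar Q x z / polar Q y z) • y)
    (by rw [QuadraticMap.polar_sub_left, QuadraticMap.polar_smul_left, hxa, hya]; simp)
    (by rw [QuadraticMap.polar_sub_left, QuadraticMap.polar_smul_left, hxja, hyja]; simp)
    (by rw [QuadraticMap.polar_sub_left, QuadraticMap.polar_smul_left, smul_eq_mul, div_mul_cancel₀ _ hyz,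
      sub_self])
  simpa using add_mem h1 (Submodule.smul_mem _ (polar Q x z / polar Q y z) hy')

theorem pair_full {a z : V} (P : OPair M j a z) : OrthSub.Full M a := by
  classical
  obtain ⟨q, hq, hqS, hqja⟩ := exists_singular_pair A.sep ({a, z} : Finset V)
    (le_trans (by have := Finset.card_le_two (a := a) (b := z); omega) hd) (b := j a) (fun h => by
      simp only [Finset.coe_insert, Finset.coe_singleton, Submodule.mem_span_insert,
        Submodule.mem_span_singleton] at h
      obtain ⟨p, _, ⟨r, rfl⟩, h⟩ := h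
      rcases eq_or_ne r 0 with rfl | hr
      · exact one_ne_zero (A.indep P.a0 (p := -p) (q := 1) (by rw [h]; module)).2
      · refine P.indep ((Submodule.smul_mem_iff _ hr).1 ?_)
        rw [show r • z = (-p) • a + (1 : F) • j a by rw [h]; module]
        exact Submodule.mem_span_pair.2 ⟨_, _, rfl⟩)
  have hqa := hqS a (by simp)
  have hqz := hqS z (by simp)
  obtain ⟨p, hpW, hp0, hp⟩ := exists_singular_in (Q := Q)
    (W := qPerp Q (({a, j a, q, j q} : Finset V) : Set V)) (by
      have h := finrank_le_finrank_qPerp_add (Q := Q) ({a, j a, q, j q} : Finset V)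
      have := Finset.card_le_four (a := a) (b := j a) (c := q) (d := j q)
      omega)
  have hpS : ∀ s ∈ ({a, j a, q, j q} : Finset V), polar Q p s = 0 := fun s hs => hpW s (Finset.mem_coe.2 hs)
  have hpa := hpS a (by simp)
  have hpja := hpS (j a) (by simp)
  have hpq := hpS q (by simp)
  have hpjq := hpS (j q) (by simp)
  have hZ := A.perp_le hd hU P
  have hpout : p ∉ kLine j a := fun h => by
    obtain ⟨u, v, rfl⟩ := Submodule.mem_span_pair.1 h
    have hv : v = 0 := by
      have e := hpq
      rw [QuadraticMap.polar_add_left, QuadraticMap.polar_smul_left, QuadraticMap.polar_smul_left,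
        QuadraticMap.polar_comm _ a q, hqa, smul_zero, zero_add, QuadraticMap.polar_comm, smul_eq_mul,
        mul_eq_zero] at e
      exact e.resolve_right hqja
    have hu : u = 0 := by
      have e := hpjq
      have ha : polar Q a (j q) = -polar Q (j a) q := by
        have h := A.adj a q
        rw [QuadraticMap.polar_comm _ a q, hqa] at h
        linear_combination h
      rw [hv, zero_smul, add_zero, QuadraticMap.polar_smul_left, ha, smul_eq_mul, mul_eq_zero, neg_eq_zero,
        QuadraticMap.polar_comm] at e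
      exact e.resolve_right hqja
    exact hp0 (by rw [hu, hv, zero_smul, zero_smul, add_zero])
  obtain ⟨z', hz', hz'S, hz'p⟩ := exists_singular_pair A.sep ({a, j a} : Finset V)
    (le_trans (by have := Finset.card_le_two (a := a) (b := j a); omega) hd) (b := p)
    (by simpa [kLine] using hpout)
  have hpz : polar Q p z' ≠ 0 := by rwa [QuadraticMap.polar_comm]
  have hz'Z : z' ∈ rootSpace M P.qa := hZ (show z' ∈ qPerp Q ({a, j a} : Set V) from by
    rintro s (rfl | rfl)
    · exact hz'S _ (by simp)
    · exact hz'S _ (by simp))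
  have P2 : OPair M j a p := ⟨P.a0, P.qa, hp, by rw [QuadraticMap.polar_comm]; exact hpa,
    by rw [QuadraticMap.polar_comm]; exact hpja, hpout,
    (hZ (show p ∈ qPerp Q ({a, j a} : Set V) from by
      rintro s (rfl | rfl) <;> assumption)).2⟩
  have hTm := (A.perp_le hd hU (A.pair_symm P2) (show q ∈ qPerp Q ({p, j p} : Set V) from by
    rintro s (rfl | rfl)
    · rw [QuadraticMap.polar_comm]; exact hpq
    · rw [QuadraticMap.polar_comm, A.adj, hpq, hpjq]; ring)).2 1
  rw [one_smul] at hTm
  have hTa : (siegel Q p q).1 a = a := by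
    rw [siegel_apply Q hp hpq, hpa, hqa]; simp
  have hz := rootSpace_map hTm hTa (x := z') (ha := P.qa) hz'Z
  rw [siegel_apply Q hp hpq, hq] at hz
  simp only [zero_mul, add_zero] at hz
  have hqZ : q ∈ rootSpace M P.qa := by
    refine (Submodule.smul_mem_iff _ hpz).1 ?_
    have h := add_mem (sub_mem hz hz'Z) (Submodule.smul_mem _ (polar Q q z')
      (show p ∈ rootSpace M P.qa from hZ (show p ∈ qPerp Q ({a, j a} : Set V) from by
        rintro s (rfl | rfl) <;> assumption)))
    convert h using 1
    module
  intro x hx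
  have hx' : x + (-(polar Q x (j a) / polar Q q (j a))) • q ∈ qPerp Q ({a, j a} : Set V) := by
    rintro s (rfl | rfl) <;>
      simp only [QuadraticMap.polar_add_left, QuadraticMap.polar_smul_left, smul_eq_mul]
    · rw [QuadraticMap.polar_comm, hx, hqa]; ring
    · field_simp; ring
  have := add_mem (hZ hx') (Submodule.smul_mem _ (polar Q x (j a) / polar Q q (j a)) hqZ)
  rw [add_assoc, ← add_smul, neg_add_cancel, zero_smul, add_zero] at this
  simpa using this.2 1

theorem commutator_le_of_oPair {a z : V} (P : OPair M j a z) : commutator (quadIsoms Q) ≤ M := by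
  classical
  obtain ⟨p, hp, hpS, hpz⟩ := exists_singular_pair A.sep ({a, j a} : Finset V)
    (le_trans (by have := Finset.card_le_two (a := a) (b := j a); omega) hd) (b := z)
    (by simpa [kLine] using P.indep)
  have hpa := hpS a (by simp)
  have hpja := hpS (j a) (by simp)
  have P2 : OPair M j a p := ⟨P.a0, P.qa, hp, by rw [QuadraticMap.polar_comm]; exact hpa,
    by rw [QuadraticMap.polar_comm]; exact hpja, fun h => hpz (by
      obtain ⟨u, v, rfl⟩ := Submodule.mem_span_pair.1 h
      rw [QuadraticMap.polar_add_left, QuadraticMap.polar_smul_left, QuadraticMap.polar_smul_left,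
        P.az, P.jaz, smul_zero, smul_zero, add_zero]),
    (A.perp_le hd hU P (show p ∈ qPerp Q ({a, j a} : Set V) from by
      rintro s (rfl | rfl) <;> assumption)).2⟩
  exact OrthSub.commutator_le_of_pair A.sep (by omega) (A.pair_full hd hU (A.pair_symm P2))
    (A.pair_full hd hU (A.pair_symm P)) hp P.qz hpz

omit hU in
/-- a singular point whose image line is not stable under `j` -/
theorem exists_out {g : quadIsoms Q} (hg : ¬ KNorm j g) :
    ∃ v, Q v = 0 ∧ g.1 (j v) ∉ kLine j (g.1 v) := by
  classical
  by_contra hno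
  push Not at hno
  apply hg
  let L : V →ₗ[F] V := (g.1.symm : V →ₗ[F] V) ∘ₗ j ∘ₗ (g.1 : V →ₗ[F] V)
  have hgL : ∀ x, g.1 (L x) = j (g.1 x) := fun x => g.1.apply_symm_apply _
  have hLv : ∀ v, Q v = 0 → v ≠ 0 → ∃ α β : F, L v = α • v + β • j v := by
    intro v hv hv0
    obtain ⟨p, q, hpq⟩ := Submodule.mem_span_pair.1 (hno v hv)
    have h : p • v + q • L v = j v := g.1.injective (by
      rw [map_add, map_smul, map_smul, hgL]; exact hpq)
    rcases eq_or_ne q 0 with rfl | hq
    · exact absurd (A.indep hv0 (p := p) (q := -1) (by rw [← h]; module)).2 (neg_ne_zero.2 one_ne_zero)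
    · refine ⟨-(q⁻¹ * p), q⁻¹, ?_⟩
      rw [← h, smul_add, smul_smul, smul_smul, inv_mul_cancel₀ hq]
      module
  have hpair : ∀ v w, Q v = 0 → Q w = 0 → polar Q v w = 0 → w ∉ kLine j v → v ≠ 0 →
      ∀ α β : F, L v = α • v + β • j v → L w = α • w + β • j w := by
    intro v w hv hw hvw hind hv0 α β hα
    obtain ⟨α₁, β₁, h1⟩ := hLv w hw fun e => hind (e ▸ Submodule.zero_mem _)
    obtain ⟨α₂, β₂, h2⟩ := hLv (v + w)
      (by rw [QuadraticMap.map_add (Q : QuadraticMap F V F) v w, hv, hw, hvw]; simp) fun e => hind (by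
        rw [eq_neg_of_add_eq_zero_right e]
        exact neg_mem (A.mem_kLine v))
    rw [map_add, map_add, hα, h1] at h2
    have key : (α₁ - α₂) • w + (β₁ - β₂) • j w = (α₂ - α) • v + (β₂ - β) • j v := by
      linear_combination (norm := module) h2
    by_cases hn : α₁ - α₂ = 0 ∧ β₁ - β₂ = 0
    · rw [hn.1, hn.2, zero_smul, zero_smul, add_zero] at key
      obtain ⟨e1, e2⟩ := A.indep hv0 key.symm
      rw [h1, show α₁ = α by linear_combination hn.1 + e1, show β₁ = β by linear_combination hn.2 + e2]
    · exact absurd (A.mem_of_comb (fun x hx => A.kLine_map hx) (W := kLine j v)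
        (by rw [key]; exact Submodule.mem_span_pair.2 ⟨_, _, rfl⟩) (not_and_or.1 hn)) hind
  obtain ⟨v₀, -, hv₀0, hv₀⟩ := exists_singular_in (Q := Q) (W := (⊤ : Submodule F V))
    (by rw [finrank_top]; omega)
  obtain ⟨α, β, hαβ⟩ := hLv v₀ hv₀ hv₀0
  have hall : ∀ v, Q v = 0 → L v = α • v + β • j v := by
    intro v hv
    rcases eq_or_ne v 0 with rfl | hv0
    · simp
    set T : Finset V := {v₀, j v₀, v, j v} with hT
    have hsub : kLine j v₀ ≤ Submodule.span F (T : Set V) := Submodule.span_mono (by
      rintro _ (rfl | rfl) <;> simp [hT])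
    have hsub' : kLine j v ≤ Submodule.span F (T : Set V) := Submodule.span_mono (by
      rintro _ (rfl | rfl) <;> simp [hT])
    obtain ⟨w, hwS, hw, hwT⟩ : ∃ w ∈ qPerp Q (({v₀, v} : Finset V) : Set V),
        Q w = 0 ∧ w ∉ Submodule.span F (T : Set V) := by
      by_contra hno'
      push Not at hno'
      have h0 : T.card ≤ 4 := Finset.card_le_four
      have h0' := Finset.card_le_two (a := v₀) (b := v)
      have h1 := Submodule.finrank_mono (qPerp_le_of_singular A.sep ({v₀, v} : Finset V) (by omega) hno')
      have h2 := finrank_span_finset_le_card (R := F) T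
      have h3 := finrank_le_finrank_qPerp_add (Q := Q) ({v₀, v} : Finset V)
      simp only [Set.finrank] at h2
      omega
    have hw0 : w ≠ 0 := fun e => hwT (e ▸ Submodule.zero_mem _)
    have hLw := hpair v₀ w hv₀ hw (by rw [QuadraticMap.polar_comm]; exact hwS v₀ (by simp))
      (fun h => hwT (hsub h)) hv₀0 α β hαβ
    exact hpair w v hw hv (hwS v (by simp)) (fun h => hwT (hsub' (A.kLine_swap hv0 h))) hw0 α β hLw
  have heq : ∀ x, L x = α • x + β • j x := by
    intro x
    have := qPerp_le_of_singular A.sep (∅ : Finset V) (by simp; omega)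
      (P := LinearMap.ker (L - α • LinearMap.id - β • j)) (fun s _ hs => by
        simp [hall s hs]) (x := x) (by simp [qPerp])
    rw [LinearMap.mem_ker] at this
    simp only [LinearMap.sub_apply, LinearMap.smul_apply, LinearMap.id_apply] at this
    linear_combination (norm := module) this
  have hβ : β ≠ 0 := by
    intro hβ
    have hj : ∀ x, j (g.1 x) = α • g.1 x := fun x => by
      rw [← hgL, heq, hβ, zero_smul, add_zero, map_smul]
    have h := hj ((g.1.symm) v₀)
    rw [g.1.apply_symm_apply] at h
    exact one_ne_zero (A.indep hv₀0 (p := -α) (q := 1) (by rw [h]; module)).2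
  refine ⟨-(β⁻¹ * α), β⁻¹, inv_ne_zero hβ, fun x => ?_⟩
  rw [← hgL, heq, map_add, map_smul, map_smul, smul_add, smul_smul, smul_smul, inv_mul_cancel₀ hβ]
  module

theorem dichotomy {g : quadIsoms Q} (hgM : g ∈ M) (hg : ¬ KNorm j g) :
    commutator (quadIsoms Q) ≤ M := by
  classical
  obtain ⟨v, hv, hout⟩ := A.exists_out hd hg
  set a := g.1 v with ha
  set b := g.1 (j v) with hb
  have hQa : Q a = 0 := (g.2 v).trans hv
  have hab : polar Q a b = 0 := (polar_quadIsom g.2 _ _).trans (A.polar_j_self hv)
  have ha0 : a ≠ 0 := fun e => hout (by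
    have hv0 : v = 0 := g.1.injective (e.trans (map_zero g.1).symm)
    rw [hb, hv0, map_zero, map_zero]; exact Submodule.zero_mem _)
  have hS : ∀ r : F, siegel Q a (r • b) ∈ M := fun r => by
    have h := mul_mem (mul_mem hgM (hU v hv r)) (inv_mem hgM)
    rwa [siegel_conj, map_smul] at h
  obtain ⟨z, hz, hzS, hzb, hzl⟩ := exists_singular_pair_avoid A.sep ({a, j a, j b} : Finset V)
    (le_trans (by have := Finset.card_le_three (a := a) (b := j a) (c := j b); omega) hd)
    (b := b) (ℓ := j a) (fun h => by
      simp only [Finset.coe_insert, Finset.coe_singleton, Submodule.mem_span_insert,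
        Submodule.mem_span_singleton] at h
      obtain ⟨p, _, ⟨q, _, ⟨r, rfl⟩, rfl⟩, h⟩ := h
      refine hout (A.mem_of_comb (fun x hx => A.kLine_map hx) (p := 1) (q := -r) ?_ (Or.inl one_ne_zero))
      rw [show (1 : F) • b + (-r) • j b = p • a + q • j a by
        linear_combination (norm := module) h]
      exact Submodule.mem_span_pair.2 ⟨_, _, rfl⟩) (by simp) (A.quad_j_zero hQa)
  have hza := hzS a (by simp)
  have hzja := hzS (j a) (by simp)
  have hzjb := hzS (j b) (by simp)
  have hU1 := hU z hz 1
  rw [one_smul] at hU1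
  have hzz := A.polar_j_self hz
  have hTa : (siegel Q z (j z)).1 a = a := by
    rw [siegel_apply Q hz hzz, hza, A.adj, hza, hzja]; simp
  have hTb : (siegel Q z (j z)).1 b = b + polar Q z b • (j z - t • z) := by
    rw [siegel_apply Q hz hzz, A.quad_j_zero hz, A.adj, hzjb]
    module
  set z' := j z - t • z with hz'
  have hQz' : Q z' = 0 := by
    rw [hz', show j z - t • z = j z + (-t) • z by module, quad_map_add_smul, A.quad_j_zero hz, hz, A.pol, hz]; ring
  have hmem : ∀ r : F, siegel Q a (r • z') ∈ M := by
    intro r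
    have h := mul_mem (mul_mem hU1 (hS (r / polar Q z b))) (inv_mem hU1)
    rw [siegel_conj, hTa, map_smul, hTb, smul_add, smul_smul, div_mul_cancel₀ _ hzb,
      siegel_add Q hQa (by rw [QuadraticMap.polar_smul_right, hab, smul_zero]) (by
        rw [QuadraticMap.polar_smul_right, hz', QuadraticMap.polar_sub_right,
          QuadraticMap.polar_smul_right, QuadraticMap.polar_comm, A.adj, hza, hzja,
          QuadraticMap.polar_comm _ a z, hza]
        simp)] at h
    exact (Subgroup.mul_mem_cancel_left M (hS _)).1 h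
  refine A.commutator_le_of_oPair hd hU (a := a) (z := z') ⟨ha0, hQa, hQz', ?_, ?_, ?_, hmem⟩
  · rw [hz', QuadraticMap.polar_sub_right, QuadraticMap.polar_smul_right, QuadraticMap.polar_comm,
      A.adj, hza, hzja, QuadraticMap.polar_comm _ a z, hza]
    simp
  · rw [hz', QuadraticMap.polar_sub_right, QuadraticMap.polar_smul_right, A.polJJ,
      QuadraticMap.polar_comm _ a z, hza, QuadraticMap.polar_comm _ (j a) z, hzja]
    simp
  · intro h
    have hza' : z ∈ kLine j a := A.mem_of_comb (fun x hx => A.kLine_map hx) (p := -t) (q := 1)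
      (by rw [one_smul, neg_smul, add_comm, ← sub_eq_add_neg]; exact h) (Or.inr one_ne_zero)
    obtain ⟨p, q, hpq⟩ := Submodule.mem_span_pair.1 hza'
    rw [← hpq, QuadraticMap.polar_add_left, QuadraticMap.polar_smul_left, QuadraticMap.polar_smul_left,
      A.polJJ, hab, smul_eq_mul, smul_eq_mul, mul_zero, mul_zero, add_zero, mul_eq_zero] at hzjb
    rw [← hpq, QuadraticMap.polar_add_left, QuadraticMap.polar_smul_left, QuadraticMap.polar_smul_left,
      hab, A.adj, hab, smul_eq_mul, smul_eq_mul, mul_zero, zero_add, mul_zero, zero_sub] at hzb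
    rcases hzjb with hp | hjb
    · exact hzl (Submodule.mem_span_singleton.2 ⟨q, by rw [← hpq, hp, zero_smul, zero_add]⟩)
    · exact hzb (by rw [hjb, neg_zero, mul_zero])

omit hU in
/-- a Siegel transformation that does not normalise -/
theorem exists_move : ∃ g ∈ commutator (quadIsoms Q), ¬ KNorm j g := by
  classical
  obtain ⟨v, -, hv0, hv⟩ := exists_singular_in (Q := Q) (W := (⊤ : Submodule F V))
    (by rw [finrank_top]; omega)
  obtain ⟨w, hw, hwS, hwj⟩ := exists_singular_pair A.sep ({v} : Finset V)
    (by rw [Finset.card_singleton]; omega) (b := j v) (by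
      rw [Finset.coe_singleton, Submodule.mem_span_singleton]
      rintro ⟨r, hr⟩
      exact one_ne_zero (A.indep hv0 (p := -r) (q := 1) (by rw [← hr]; module)).2)
  have hwv := hwS v (by simp)
  have hvw : polar Q v w = 0 := by rw [QuadraticMap.polar_comm]; exact hwv
  refine ⟨_, OrthSub.siegel_mem_commutator A.sep (by omega) v w, fun hK => ?_⟩
  obtain ⟨p, q, -, h⟩ := hK
  have hcard : ({v, w, j v, j w} : Finset V).card ≤ 4 := Finset.card_le_four
  have h3 := finrank_le_finrank_qPerp_add (Q := Q) ({v, w, j v, j w} : Finset V)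
  obtain ⟨x, hx, hx0⟩ := Submodule.exists_mem_ne_zero_of_ne_bot
    (p := qPerp Q (({v, w, j v, j w} : Finset V) : Set V)) (fun e => by rw [e, finrank_bot] at h3; omega)
  have e := h x
  rw [siegel_apply Q hv hvw, siegel_apply Q hv hvw,
    show polar Q v (j x) = t * polar Q v x - polar Q (j v) x by rw [A.adj]; ring,
    show polar Q w (j x) = t * polar Q w x - polar Q (j w) x by rw [A.adj]; ring,
    QuadraticMap.polar_comm _ v x, QuadraticMap.polar_comm _ w x, QuadraticMap.polar_comm _ (j v) x,
    QuadraticMap.polar_comm _ (j w) x, hx v (by simp), hx w (by simp), hx (j v) (by simp),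
    hx (j w) (by simp), hw] at e
  simp only [mul_zero, sub_zero, zero_smul, add_zero] at e
  obtain ⟨e1, e2⟩ := A.indep hx0 (p := p) (q := q - 1) (by linear_combination (norm := module) -e)
  obtain rfl : q = 1 := sub_eq_zero.1 e2
  subst e1
  have e' := h v
  rw [siegel_apply Q hv hvw, siegel_apply Q hv hvw, polar_self_of_singular Q hv, A.polar_j_self hv,
    hwv, hw] at e'
  simp only [mul_zero, add_zero, zero_smul, sub_zero, zero_add, one_smul, sub_eq_self] at e'
  exact hwj ((smul_eq_zero.1 e').resolve_right hv0)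

end OAnti

end CfsgLib.MaxSub
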