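import Cfsg.Agent.Lib.Geom.Symp
import Cfsg.Agent.Lib.Classical.AltOrder
import Mathlib.LinearAlgebra.Matrix.GeneralLinearGroup.Card

/-!
The number of polar pairs of a symplectic space: complementary totally isotropic subspaces, counted through
the symplectic bases adapted to them.
-/

set_option autoImplicit false

namespace CfsgLib.MaxSub.PolarCount

open CfsgLib.Geom

variable (F : Type*) [Field F] [Fintype F] (d : ℕ)

/-- Complementary totally isotropic subspaces. -/
def Pairs : Type _ :=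
  {P : Submodule F (Fin d ⊕ Fin d → F) × Submodule F (Fin d ⊕ Fin d → F) // IsCompl P.1 P.2 ∧
    (∀ u ∈ P.1, ∀ v ∈ P.1, Cfsg.sympForm d F u v = 0) ∧ (∀ u ∈ P.2, ∀ v ∈ P.2, Cfsg.sympForm d F u v = 0)}

noncomputable instance instFinitePairs : Finite (Pairs F d) := Subtype.finite

variable {F d}

theorem iso_left (P : Pairs F d) {u v : Fin d ⊕ Fin d → F} (hu : u ∈ P.1.1) (hv : v ∈ P.1.1) : sympBilin d F u v = 0 := by
  rw [sympBilin_apply]; exact P.2.2.1 u hu v hv

theorem iso_right (P : Pairs F d) {u v : Fin d ⊕ Fin d → F} (hu : u ∈ P.1.2) (hv : v ∈ P.1.2) : sympBilin d F u v = 0 := by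
  rw [sympBilin_apply]; exact P.2.2.2 u hu v hv

theorem eq_zero_of_pairing (P : Pairs F d) {w : Fin d ⊕ Fin d → F} (hw : w ∈ P.1.2)
    (h : ∀ u ∈ P.1.1, sympBilin d F u w = 0) : w = 0 := by
  refine sympBilin_sep w fun y => ?_
  obtain ⟨a, ha, b, hb, rfl⟩ := Submodule.mem_sup.1 (P.2.1.sup_eq_top ▸ Submodule.mem_top : y ∈ P.1.1 ⊔ P.1.2)
  rw [map_add, iso_right P hw hb, sympBilin_swap a w, h a ha]
  simp

theorem eq_zero_of_pairing' (P : Pairs F d) {u : Fin d ⊕ Fin d → F} (hu : u ∈ P.1.1)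
    (h : ∀ w ∈ P.1.2, sympBilin d F u w = 0) : u = 0 := by
  refine sympBilin_sep u fun y => ?_
  obtain ⟨a, ha, b, hb, rfl⟩ := Submodule.mem_sup.1 (P.2.1.sup_eq_top ▸ Submodule.mem_top : y ∈ P.1.1 ⊔ P.1.2)
  rw [map_add, iso_left P hu ha, h b hb, add_zero]

theorem finrank_eq (P : Pairs F d) : Module.finrank F P.1.1 = d ∧ Module.finrank F P.1.2 = d := by
  have h1 := Submodule.finrank_add_eq_of_isCompl P.2.1
  rw [Module.finrank_fintype_fun_eq_card, Fintype.card_sum, Fintype.card_fin] at h1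
  let f : P.1.2 →ₗ[F] (P.1.1 →ₗ[F] F) := (sympBilin d F).flip.compl₁₂ P.1.2.subtype P.1.1.subtype
  let g : P.1.1 →ₗ[F] (P.1.2 →ₗ[F] F) := (sympBilin d F).compl₁₂ P.1.1.subtype P.1.2.subtype
  have hf : Function.Injective f := by
    rw [injective_iff_map_eq_zero]
    exact fun w hw => Subtype.ext (eq_zero_of_pairing P w.2 fun u hu => LinearMap.congr_fun hw ⟨u, hu⟩)
  have hg : Function.Injective g := by
    rw [injective_iff_map_eq_zero]
    exact fun u hu => Subtype.ext (eq_zero_of_pairing' P u.2 fun w hw => LinearMap.congr_fun hu ⟨w, hw⟩)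
  have h2 := LinearMap.finrank_le_finrank_of_injective hf
  have h3 := LinearMap.finrank_le_finrank_of_injective hg
  rw [show Module.finrank F (↥P.1.1 →ₗ[F] F) = _ from Subspace.dual_finrank_eq] at h2
  rw [show Module.finrank F (↥P.1.2 →ₗ[F] F) = _ from Subspace.dual_finrank_eq] at h3
  omega

/-- Coordinates of the second member against a basis of the first. -/
noncomputable def dualMap (P : Pairs F d) (φ : (Fin d → F) ≃ₗ[F] P.1.1) : P.1.2 →ₗ[F] (Fin d → F) :=
  LinearMap.pi fun l => -((sympBilin d F (φ (Pi.single l 1) : Fin d ⊕ Fin d → F)).comp P.1.2.subtype)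

theorem pairing (P : Pairs F d) (φ : (Fin d → F) ≃ₗ[F] P.1.1) (x : Fin d → F) (w : P.1.2) :
    sympBilin d F (φ x : Fin d ⊕ Fin d → F) (w : Fin d ⊕ Fin d → F) = -∑ l, x l * dualMap P φ w l := by
  conv_lhs => rw [pi_eq_sum_univ' x]
  simp [dualMap, map_sum, LinearMap.sum_apply, Finset.sum_neg_distrib]

theorem dualMap_injective (P : Pairs F d) (φ : (Fin d → F) ≃ₗ[F] P.1.1) : Function.Injective (dualMap P φ) := by
  rw [injective_iff_map_eq_zero]
  refine fun w hw => Subtype.ext (eq_zero_of_pairing P w.2 fun u hu => ?_)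
  obtain ⟨x, hx⟩ := φ.surjective ⟨u, hu⟩
  have h := pairing P φ x w
  rw [hx, hw] at h
  simpa using h

/-- The dual coordinates as an equivalence. -/
noncomputable def dualEquiv (P : Pairs F d) (φ : (Fin d → F) ≃ₗ[F] P.1.1) : P.1.2 ≃ₗ[F] (Fin d → F) :=
  LinearMap.linearEquivOfInjective (dualMap P φ) (dualMap_injective P φ) (by rw [(finrank_eq P).2, Module.finrank_fin_fun])

/-- The map of the standard space adapted to a pair. -/
noncomputable def adapted (P : Pairs F d) (φ : (Fin d → F) ≃ₗ[F] P.1.1) : (Fin d ⊕ Fin d → F) →ₗ[F] (Fin d ⊕ Fin d → F) :=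
  P.1.1.subtype ∘ₗ (φ : (Fin d → F) →ₗ[F] P.1.1) ∘ₗ LinearMap.funLeft F F Sum.inl +
    P.1.2.subtype ∘ₗ ((dualEquiv P φ).symm : (Fin d → F) →ₗ[F] P.1.2) ∘ₗ LinearMap.funLeft F F Sum.inr

theorem adapted_apply (P : Pairs F d) (φ : (Fin d → F) ≃ₗ[F] P.1.1) (a : Fin d ⊕ Fin d → F) :
    adapted P φ a = (φ (a ∘ Sum.inl) : Fin d ⊕ Fin d → F) + ((dualEquiv P φ).symm (a ∘ Sum.inr) : Fin d ⊕ Fin d → F) := rfl

theorem adapted_isom (P : Pairs F d) (φ : (Fin d → F) ≃ₗ[F] P.1.1) (a b : Fin d ⊕ Fin d → F) :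
    sympBilin d F (adapted P φ a) (adapted P φ b) = sympBilin d F a b := by
  have hd : ∀ y, dualMap P φ ((dualEquiv P φ).symm y) = y := fun y => (dualEquiv P φ).apply_symm_apply y
  simp only [adapted_apply, map_add, LinearMap.add_apply, iso_left P (φ _).2 (φ _).2,
    iso_right P ((dualEquiv P φ).symm _).2 ((dualEquiv P φ).symm _).2]
  rw [pairing, sympBilin_swap (φ (b ∘ Sum.inl) : Fin d ⊕ Fin d → F), pairing, hd, hd,
    sympBilin_apply, sympForm_eq_sum, Finset.sum_sub_distrib]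
  simp only [Function.comp_apply, zero_add, add_zero, neg_neg]
  rw [Finset.sum_congr rfl fun l (_ : l ∈ Finset.univ) => mul_comm (b (Sum.inl l)) (a (Sum.inr l))]
  ring

theorem natCard_pairs_mul (F : Type*) [Field F] [Fintype F] (d : ℕ) :
    Nat.card (Pairs F d) * Nat.card (GL (Fin d) F) = Nat.card (formIsoms (sympBilin d F)) := by
  classical
  haveI : Fintype (Pairs F d) := Fintype.ofFinite _
  let mk : ((P : Pairs F d) × ((Fin d → F) ≃ₗ[F] P.1.1)) → formIsoms (sympBilin d F) := fun p =>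
    ⟨(exists_mem_formIsoms (sympBilin d F) sympBilin_sep _ (adapted_isom p.1 p.2)).choose,
      (exists_mem_formIsoms (sympBilin d F) sympBilin_sep _ (adapted_isom p.1 p.2)).choose_spec.1⟩
  have hmk : ∀ p a, (mk p).1 a = adapted p.1 p.2 a := fun p a =>
    (exists_mem_formIsoms (sympBilin d F) sympBilin_sep _ (adapted_isom p.1 p.2)).choose_spec.2 a
  have hmemU : ∀ (P : Pairs F d) φ u, u ∈ P.1.1 ↔ ∃ x, adapted P φ (Sum.elim x 0) = u := fun P φ u => by
    have h0 : ∀ x : Fin d → F, adapted P φ (Sum.elim x 0) = φ x := fun x => by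
      rw [adapted_apply, Sum.elim_comp_inl, Sum.elim_comp_inr, map_zero]; simp
    exact ⟨fun hu => ⟨φ.symm ⟨u, hu⟩, by rw [h0, φ.apply_symm_apply]⟩, fun ⟨x, hx⟩ => hx ▸ (h0 x).symm ▸ (φ x).2⟩
  have hmemW : ∀ (P : Pairs F d) φ u, u ∈ P.1.2 ↔ ∃ x, adapted P φ (Sum.elim 0 x) = u := fun P φ u => by
    have h0 : ∀ x : Fin d → F, adapted P φ (Sum.elim 0 x) = (dualEquiv P φ).symm x := fun x => by
      rw [adapted_apply, Sum.elim_comp_inl, Sum.elim_comp_inr, map_zero]; simp
    exact ⟨fun hu => ⟨dualEquiv P φ ⟨u, hu⟩, by rw [h0, (dualEquiv P φ).symm_apply_apply]⟩,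
      fun ⟨x, hx⟩ => hx ▸ (h0 x).symm ▸ ((dualEquiv P φ).symm x).2⟩
  have hbij : Function.Bijective mk := by
    constructor
    · rintro ⟨P, φ⟩ ⟨P', φ'⟩ h
      have h' : ∀ a, adapted P φ a = adapted P' φ' a := fun a => by rw [← hmk ⟨P, φ⟩, ← hmk ⟨P', φ'⟩, h]
      have hP : P = P' := by
        refine Subtype.ext (Prod.ext (Submodule.ext fun u => ?_) (Submodule.ext fun u => ?_))
        · rw [hmemU P φ, hmemU P' φ']; simp only [h']
        · rw [hmemW P φ, hmemW P' φ']; simp only [h']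
      subst hP
      refine Sigma.ext rfl (heq_of_eq (LinearEquiv.ext fun x => Subtype.ext ?_))
      have := h' (Sum.elim x 0)
      simpa [adapted_apply] using this
    · intro g
      have hg : ∀ a b, sympBilin d F (g.1 a) (g.1 b) = sympBilin d F a b := g.2
      let inL : (Fin d → F) →ₗ[F] (Fin d ⊕ Fin d → F) :=
        { toFun := fun x => Sum.elim x 0
          map_add' := fun x y => by funext i; rcases i with i | i <;> simp
          map_smul' := fun c x => by funext i; rcases i with i | i <;> simp }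
      let inR : (Fin d → F) →ₗ[F] (Fin d ⊕ Fin d → F) :=
        { toFun := fun x => Sum.elim 0 x
          map_add' := fun x y => by funext i; rcases i with i | i <;> simp
          map_smul' := fun c x => by funext i; rcases i with i | i <;> simp }
      let gU := (g.1 : (Fin d ⊕ Fin d → F) →ₗ[F] (Fin d ⊕ Fin d → F)) ∘ₗ inL
      let gW := (g.1 : (Fin d ⊕ Fin d → F) →ₗ[F] (Fin d ⊕ Fin d → F)) ∘ₗ inR
      have hsplit : ∀ a : Fin d ⊕ Fin d → F, a = inL (a ∘ Sum.inl) + inR (a ∘ Sum.inr) := fun a => by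
        funext i; rcases i with i | i <;> simp [inL, inR]
      have hcompl : IsCompl (LinearMap.range gU) (LinearMap.range gW) := by
        constructor
        · rw [Submodule.disjoint_def]
          rintro _ ⟨x, rfl⟩ ⟨y, hy⟩
          have h1 : inR y = inL x := g.1.injective hy
          have hx : x = 0 := funext fun l => (congrFun h1 (Sum.inl l)).symm
          rw [hx, map_zero]
        · rw [codisjoint_iff, eq_top_iff]
          intro v _
          rw [← g.1.apply_symm_apply v, hsplit (g.1.symm v), map_add]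
          exact Submodule.add_mem_sup ⟨_, rfl⟩ ⟨_, rfl⟩
      let P : Pairs F d := ⟨(LinearMap.range gU, LinearMap.range gW), hcompl, by
          rintro _ ⟨x, rfl⟩ _ ⟨y, rfl⟩
          rw [← sympBilin_apply]; show sympBilin d F (g.1 _) (g.1 _) = 0
          rw [hg, sympBilin_apply, sympForm_eq_sum]; simp [inL], by
          rintro _ ⟨x, rfl⟩ _ ⟨y, rfl⟩
          rw [← sympBilin_apply]; show sympBilin d F (g.1 _) (g.1 _) = 0
          rw [hg, sympBilin_apply, sympForm_eq_sum]; simp [inR]⟩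
      have hinj : Function.Injective gU := fun x y h => funext fun l => congrFun (g.1.injective h) (Sum.inl l)
      refine ⟨⟨P, LinearEquiv.ofInjective gU hinj⟩, Subtype.ext (LinearEquiv.ext fun a => ?_)⟩
      rw [hmk, adapted_apply]
      conv_rhs => rw [hsplit a, map_add]
      refine congrArg (g.1 (inL (a ∘ Sum.inl)) + ·) ?_
      have hW : g.1 (inR (a ∘ Sum.inr)) ∈ P.1.2 := ⟨_, rfl⟩
      refine congrArg Subtype.val (show (dualEquiv P (LinearEquiv.ofInjective gU hinj)).symm (a ∘ Sum.inr) = ⟨_, hW⟩ from ?_)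
      rw [LinearEquiv.symm_apply_eq]
      funext l
      show a (Sum.inr l) = -(sympBilin d F (g.1 (inL (Pi.single l 1))) (g.1 (inR (a ∘ Sum.inr))))
      rw [hg, sympBilin_apply, sympForm_eq_sum]
      simp [inL, inR, Pi.single_apply]
  haveI hfinF : ∀ P : Pairs F d, Finite ((Fin d → F) ≃ₗ[F] P.1.1) := fun P =>
    Finite.of_injective (fun φ => (φ : (Fin d → F) → P.1.1)) DFunLike.coe_injective
  rw [← Nat.card_congr (Equiv.ofBijective mk hbij), Nat.card_sigma]
  have hfib : ∀ P : Pairs F d, Nat.card ((Fin d → F) ≃ₗ[F] P.1.1) = Nat.card (GL (Fin d) F) := fun P => by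
    obtain ⟨e⟩ : Nonempty ((Fin d → F) ≃ₗ[F] P.1.1) :=
      ⟨LinearEquiv.ofFinrankEq _ _ (by rw [Module.finrank_fin_fun, (finrank_eq P).1])⟩
    refine (Nat.card_congr ?_).trans (Nat.card_congr
      ((Matrix.GeneralLinearGroup.toLin (n := Fin d) (R := F)).trans
        (LinearMap.GeneralLinearGroup.generalLinearEquiv F (Fin d → F))).toEquiv).symm
    exact ⟨fun φ => φ.trans e.symm, fun ψ => ψ.trans e, fun φ => by ext; simp, fun ψ => by ext; simp⟩
  simp only [hfib, Finset.sum_const, Finset.card_univ, smul_eq_mul, Nat.card_eq_fintype_card]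

end CfsgLib.MaxSub.PolarCount
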