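import Cfsg.Agent.Lib.MaxSub.Transvection
import Cfsg.Agent.Lib.MaxSub.Dual

/-!
Non-degenerate quadratic forms on coordinate spaces in odd characteristic: singular vectors span large subspaces,
and the elements `1 + u v* - v u*` (with `v* = polar Q · v`).
-/

set_option autoImplicit false
set_option linter.unusedSectionVars false

namespace CfsgLib.MaxSub

open Matrix QuadraticMap
open scoped MatrixGroups

variable {ι : Type} [Fintype ι] [DecidableEq ι] {F : Type*} [Field F] {Q : (ι → F) → F}

/-- the functional `polar Q · v` as a coordinate vector -/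
def pDual (Q : (ι → F) → F) (v : ι → F) : ι → F := fun i => polar Q (Pi.single i 1) v

variable (hQ : Cfsg.Geo.IsNondegenerateQuadraticForm Q)
include hQ

/-- the polar form as a bilinear map -/
def pBil : LinearMap.BilinForm F (ι → F) :=
  LinearMap.mk₂ F (polar Q) hQ.polar_bilinear.add_left hQ.polar_bilinear.smul_left
    hQ.polar_bilinear.add_right hQ.polar_bilinear.smul_right

theorem pBil_apply (u v : ι → F) : pBil hQ u v = polar Q u v := rfl

theorem pDual_dot (x v : ι → F) : pDual Q v ⬝ᵥ x = polar Q x v := by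
  show _ = (pBil hQ).flip v x
  conv_rhs => rw [pi_eq_sum_univ' x, map_sum]
  refine Finset.sum_congr rfl fun i _ => ?_
  rw [map_smul, smul_eq_mul, mul_comm]
  rfl

theorem quad_zero : Q 0 = 0 := by simpa using hQ.smul 0 0

theorem quad_add (u v : ι → F) : Q (u + v) = Q u + Q v + polar Q u v := by
  simp only [QuadraticMap.polar]; ring

theorem polar_self' (v : ι → F) : polar Q v v = 2 * Q v := by
  simp only [QuadraticMap.polar]
  rw [show v + v = (2 : F) • v by rw [two_smul], hQ.smul]
  ring

theorem quad_add_smul (z u : ι → F) (s : F) : Q (z + s • u) = Q z + s ^ 2 * Q u + s * polar Q z u := by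
  rw [quad_add hQ, hQ.smul, hQ.polar_bilinear.smul_right]

theorem pDual_add (u v : ι → F) : pDual Q (u + v) = pDual Q u + pDual Q v :=
  funext fun _ => hQ.polar_bilinear.add_right _ _ _

theorem pDual_smul (c : F) (v : ι → F) : pDual Q (c • v) = c • pDual Q v :=
  funext fun _ => hQ.polar_bilinear.smul_right _ _ _

theorem pDual_eq_zero {v : ι → F} : pDual Q v = 0 ↔ v = 0 := by
  refine ⟨fun h => ?_, fun h => by
    subst h
    have := pDual_smul hQ (0 : F) (0 : ι → F)
    simpa using this⟩
  by_contra hv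
  obtain ⟨x, hx⟩ := (hQ.nondegenerate v hv).1
  exact hx (by rw [← pDual_dot hQ, h, zero_dotProduct])

theorem pDual_surjective : Function.Surjective (pDual Q) := by
  let L : (ι → F) →ₗ[F] (ι → F) :=
    { toFun := pDual Q, map_add' := pDual_add hQ, map_smul' := pDual_smul hQ }
  have hL : Function.Injective L := by
    rw [injective_iff_map_eq_zero]
    exact fun x hx => (pDual_eq_zero hQ).1 hx
  exact LinearMap.injective_iff_surjective.1 hL

/-- vectors orthogonal to `v` -/
def pKer (v : ι → F) : Submodule F (ι → F) := LinearMap.ker ((pBil hQ).flip v)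

theorem mem_pKer {v x : ι → F} : x ∈ pKer hQ v ↔ polar Q x v = 0 := Iff.rfl

theorem finrank_le_inf_pKer (U : Submodule F (ι → F)) (v : ι → F) :
    Module.finrank F U ≤ Module.finrank F (U ⊓ pKer hQ v : Submodule F (ι → F)) + 1 := by
  set φ : U →ₗ[F] F := ((pBil hQ).flip v).comp U.subtype
  have h1 := LinearMap.finrank_range_add_finrank_ker φ
  have h2 : Module.finrank F (LinearMap.range φ) ≤ 1 :=
    (Submodule.finrank_le _).trans (le_of_eq (Module.finrank_self F))
  have h3 : (LinearMap.ker φ).map U.subtype = U ⊓ pKer hQ v := by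
    ext y
    simp only [Submodule.mem_map, LinearMap.mem_ker, Submodule.mem_inf]
    constructor
    · rintro ⟨z, hz, rfl⟩; exact ⟨z.2, hz⟩
    · rintro ⟨hy, hy'⟩; exact ⟨⟨y, hy⟩, hy', rfl⟩
  have h4 := Submodule.finrank_map_subtype_eq U (LinearMap.ker φ)
  rw [h3] at h4
  omega

theorem finrank_pKer_ge (v : ι → F) : Fintype.card ι ≤ Module.finrank F (pKer hQ v) + 1 := by
  have := finrank_le_inf_pKer hQ ⊤ v
  rwa [finrank_top, Module.finrank_fintype_fun_eq_card, top_inf_eq] at this

variable (h2 : (2 : F) ≠ 0) [Finite F]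
include h2

theorem quad_of_polar (v : ι → F) : Q v = polar Q v v / 2 := by
  rw [polar_self' hQ, mul_div_cancel_left₀ _ h2]

theorem exists_singular {W : Submodule F (ι → F)} (hW : 3 ≤ Module.finrank F W) :
    ∃ s ∈ W, s ≠ 0 ∧ Q s = 0 := by
  by_contra hno
  push Not at hno
  obtain ⟨a, ha, ha0⟩ := Submodule.exists_mem_ne_zero_of_ne_bot
    (show W ≠ ⊥ from fun h => by rw [h, finrank_bot] at hW; omega)
  have h1 := finrank_le_inf_pKer hQ W a
  obtain ⟨b, ⟨hb, hab⟩, hb0⟩ := Submodule.exists_mem_ne_zero_of_ne_bot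
    (show W ⊓ pKer hQ a ≠ ⊥ from fun h => by rw [h, finrank_bot] at h1; omega)
  have h1' := finrank_le_inf_pKer hQ (W ⊓ pKer hQ a) b
  obtain ⟨c, ⟨⟨hc, hac⟩, hbc⟩, hc0⟩ := Submodule.exists_mem_ne_zero_of_ne_bot
    (show W ⊓ pKer hQ a ⊓ pKer hQ b ≠ ⊥ from fun h => by rw [h, finrank_bot] at h1'; omega)
  have := Fintype.ofFinite F
  have hodd : Fintype.card F % 2 = 1 := by
    refine Nat.odd_iff.1 (Nat.odd_iff.2 (FiniteField.odd_card_of_char_ne_two ?_))
    intro hc2
    have := ringChar.spec F 2
    rw [hc2] at this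
    exact h2 (by exact_mod_cast this.2 dvd_rfl)
  obtain ⟨x, y, hxy⟩ := FiniteField.exists_root_sum_quadratic
    (f := Polynomial.C (Q a) * Polynomial.X ^ 2 + Polynomial.C (Q c))
    (g := Polynomial.C (Q b) * Polynomial.X ^ 2)
    (by compute_degree!; exact hno a ha ha0)
    (by compute_degree!; exact hno b hb hb0) hodd
  simp only [Polynomial.eval_add, Polynomial.eval_mul, Polynomial.eval_C, Polynomial.eval_pow,
    Polynomial.eval_X] at hxy
  refine hno (x • a + y • b + c) (add_mem (add_mem (W.smul_mem _ ha) (W.smul_mem _ hb)) hc) ?_ ?_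
  · intro h0
    have hca : polar Q c a = 0 := hac
    have hcb : polar Q c b = 0 := hbc
    have : polar Q c (x • a + y • b + c) = 0 := by
      rw [h0, ← zero_smul F (0 : ι → F), hQ.polar_bilinear.smul_right, zero_mul]
    rw [hQ.polar_bilinear.add_right, hQ.polar_bilinear.add_right, hQ.polar_bilinear.smul_right,
      hQ.polar_bilinear.smul_right, hca, hcb, polar_self' hQ] at this
    exact hno c hc hc0 (by simpa [h2] using this)
  · have hba : polar Q (x • a) b = 0 := by
      rw [hQ.polar_bilinear.smul_left, QuadraticMap.polar_comm, show polar Q b a = 0 from hab, mul_zero]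
    have hca : polar Q (x • a + y • b) c = 0 := by
      rw [hQ.polar_bilinear.add_left, hQ.polar_bilinear.smul_left, hQ.polar_bilinear.smul_left,
        QuadraticMap.polar_comm Q a c, QuadraticMap.polar_comm Q b c, show polar Q c a = 0 from hac,
        show polar Q c b = 0 from hbc, mul_zero, mul_zero, add_zero]
    rw [quad_add hQ, hca, quad_add_smul hQ, hba, hQ.smul]
    linear_combination hxy

/-- The singular vectors of a large subspace span it. -/
theorem le_of_singular_mem {W S : Submodule F (ι → F)}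
    (hW : Fintype.card ι + 3 ≤ 2 * Module.finrank F W)
    (hS : ∀ s ∈ W, Q s = 0 → s ∈ S) : W ≤ S := by
  have hrefl : (pBil hQ).IsRefl := fun x y h => (QuadraticMap.polar_comm Q y x).trans h
  have hnd : (pBil hQ).Nondegenerate := by
    constructor
    · intro x hx
      by_contra h0
      obtain ⟨y, hy⟩ := (hQ.nondegenerate x h0).2
      exact hy (hx y)
    · intro x hx
      by_contra h0
      obtain ⟨y, hy⟩ := (hQ.nondegenerate x h0).1
      exact hy (hx y)
  have hperp := LinearMap.BilinForm.finrank_orthogonal hnd W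
  rw [Module.finrank_fintype_fun_eq_card] at hperp
  obtain ⟨C, hC⟩ := Submodule.exists_isCompl ((W ⊓ (pBil hQ).orthogonal W).comap W.subtype)
  have hd := Submodule.finrank_add_eq_of_isCompl hC
  have hR : Module.finrank F ((W ⊓ (pBil hQ).orthogonal W).comap W.subtype) ≤
      Module.finrank F ((pBil hQ).orthogonal W) := by
    rw [← Submodule.finrank_map_subtype_eq, Submodule.map_comap_subtype]
    exact Submodule.finrank_mono (le_trans inf_le_right inf_le_right)
  obtain ⟨s, hs, hs0, hQs⟩ := exists_singular hQ h2 (W := C.map W.subtype) (by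
    rw [Submodule.finrank_map_subtype_eq]
    have hle := Submodule.finrank_le W
    rw [Module.finrank_fintype_fun_eq_card] at hle
    omega)
  obtain ⟨⟨s', hs'W⟩, hs'C, rfl⟩ := hs
  simp only [Submodule.subtype_apply] at hs0 hQs ⊢
  obtain ⟨w', hw', hws'⟩ : ∃ w' ∈ W, polar Q w' s' ≠ 0 := by
    by_contra hno
    push Not at hno
    have hmem : (⟨s', hs'W⟩ : W) ∈ (W ⊓ (pBil hQ).orthogonal W).comap W.subtype :=
      ⟨hs'W, fun n hn => hno n hn⟩
    exact hs0 (congrArg Subtype.val ((Submodule.mem_bot F).1 (hC.disjoint.le_bot ⟨hmem, hs'C⟩)))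
  have hsS : s' ∈ S := hS s' hs'W hQs
  have key : ∀ w ∈ W, polar Q w s' ≠ 0 → w ∈ S := fun w hw hws => by
    have h1 : w + (-Q w / polar Q w s') • s' ∈ S :=
      hS _ (add_mem hw (W.smul_mem _ hs'W)) (by
        rw [quad_add_smul hQ, hQs, div_mul_cancel₀ _ hws]; ring)
    have := sub_mem h1 (S.smul_mem (-Q w / polar Q w s') hsS)
    rwa [add_sub_cancel_right] at this
  intro w hw
  by_cases hws : polar Q w s' = 0
  · have h1 := key (w + w') (add_mem hw hw') (by
      rwa [hQ.polar_bilinear.add_left, hws, zero_add])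
    simpa using sub_mem h1 (key w' hw' hws')
  · exact key w hw hws

theorem exists_singular_avoid {W P : Submodule F (ι → F)}
    (hW : Fintype.card ι + 3 ≤ 2 * Module.finrank F W) (hP : ¬ W ≤ P) :
    ∃ s ∈ W, Q s = 0 ∧ s ∉ P := by
  by_contra hno
  push Not at hno
  exact hP (le_of_singular_mem hQ h2 hW hno)

end CfsgLib.MaxSub
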