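import Cfsg.Agent.Lib.MaxSub.QuadOver
import Cfsg.Agent.Lib.MaxSub.Sub

/-!
In odd characteristic the similarities of a non-degenerate quadratic form on a four-dimensional space
form a maximal subgroup of the special linear group.

Outline: an overgroup with an element `g` that is not a similarity contains two flips of a hyperbolic
plane (one for `Q`, one for the transported form), whose product is `1 + e φ + f ψ`; a commutator with
an Eichler element gives a transvection with singular centre, and such a transvection spreads to all.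
-/

set_option autoImplicit false
set_option linter.unusedSectionVars false

namespace CfsgLib.MaxSub.QuadFour

open Matrix QuadraticMap CfsgLib.MaxSub
open scoped MatrixGroups

variable {ι : Type} [Fintype ι] [DecidableEq ι] {F : Type*} [Field F] [Finite F] {Q : (ι → F) → F}
  (hQ : Cfsg.Geo.IsNondegenerateQuadraticForm Q) {M : Subgroup (GL ι F)}

/-- a hyperbolic pair -/
def IsHyp (Q : (ι → F) → F) (e f : ι → F) : Prop := Q e = 0 ∧ Q f = 0 ∧ polar Q e f = 1

/-- an isometry -/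
def IsIso (Q : (ι → F) → F) (h : GL ι F) : Prop := ∀ x, Q ((h : Matrix ι ι F) *ᵥ x) = Q x

/-- all transvections with centre `a` -/
def Full (M : Subgroup (GL ι F)) (a : ι → F) : Prop := ∀ φ, φ ⬝ᵥ a = 0 → HasTv M a φ

theorem IsHyp.symm {e f : ι → F} (h : IsHyp Q e f) : IsHyp Q f e :=
  ⟨h.2.1, h.1, (QuadraticMap.polar_comm Q f e).trans h.2.2⟩

theorem IsIso.polar {h : GL ι F} (hi : IsIso Q h) (x y : ι → F) :
    polar Q ((h : Matrix ι ι F) *ᵥ x) ((h : Matrix ι ι F) *ᵥ y) = polar Q x y := by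
  simp only [QuadraticMap.polar, ← mulVec_add, hi _]

theorem IsIso.mul {g h : GL ι F} (hg : IsIso Q g) (hh : IsIso Q h) : IsIso Q (g * h) := fun x => by
  rw [Units.val_mul, ← mulVec_mulVec, hg, hh]

theorem iso_mem (hS : Cfsg.Geo.quadSimilarityGroup Q ⊓ Cfsg.Geo.specialLinear ι F ≤ M) {h : GL ι F}
    (hi : IsIso Q h) (hd : (h : Matrix ι ι F).det = 1) : h ∈ M :=
  hS ⟨⟨1, fun x => by rw [hi, Units.val_one, one_mul]⟩, Units.ext hd⟩

theorem Full.conj {a : ι → F} (ha : Full M a) {h : GL ι F} (hh : h ∈ M) :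
    Full M ((h : Matrix ι ι F) *ᵥ a) := by
  intro φ hφ
  have := (ha (φ ᵥ* (h : Matrix ι ι F)) (by rw [← dotProduct_mulVec]; exact hφ)).conj hh
  rwa [vecMul_vecMul, ← Units.val_mul, mul_inv_cancel, Units.val_one, vecMul_one] at this

theorem Full.smul {a : ι → F} (ha : Full M a) {c : F} (hc : c ≠ 0) : Full M (c • a) := fun φ hφ =>
  (hasTv_smul_iff hc).2 (ha _ (by rw [smul_dotProduct]; rw [dotProduct_smul] at hφ; exact hφ))

/-- `T(b, φ)` moves centres along `b` -/
theorem Full.shift {a b : ι → F} (ha : Full M a) (hb : Full M b) {φ : ι → F} (hφb : φ ⬝ᵥ b = 0) :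
    Full M (a + (φ ⬝ᵥ a) • b) := by
  obtain ⟨-, g, hg, hgv⟩ := hb φ hφb
  have := ha.conj hg
  rwa [hgv, tvMat_mulVec] at this

include hQ

theorem polar_zero_l (y : ι → F) : polar Q 0 y = 0 := map_zero ((pBil hQ).flip y)
theorem polar_zero_r (y : ι → F) : polar Q y 0 = 0 := map_zero (pBil hQ y)
theorem polar_neg_l (x y : ι → F) : polar Q (-x) y = -polar Q x y := map_neg ((pBil hQ).flip y) x
theorem polar_neg_r (x y : ι → F) : polar Q x (-y) = -polar Q x y := map_neg (pBil hQ x) y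
theorem polar_sub_l (x x' y : ι → F) : polar Q (x - x') y = polar Q x y - polar Q x' y :=
  map_sub ((pBil hQ).flip y) x x'
theorem polar_sub_r (x y y' : ι → F) : polar Q x (y - y') = polar Q x y - polar Q x y' :=
  map_sub (pBil hQ x) y y'

theorem polar_self_of_singular {e : ι → F} (he : Q e = 0) : polar Q e e = 0 := by
  rw [polar_self' hQ, he, mul_zero]

theorem quad_neg (x : ι → F) : Q (-x) = Q x := by
  rw [← neg_one_smul F x, hQ.smul]; ring

/-- an isometry transports the dual vector -/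
theorem HasTv.pconj {a v : ι → F} (h : HasTv M a (pDual Q v)) {k : GL ι F} (hk : k ∈ M)
    (hi : IsIso Q k) :
    HasTv M ((k : Matrix ι ι F) *ᵥ a) (pDual Q ((k : Matrix ι ι F) *ᵥ v)) := by
  have := h.conj hk
  convert this using 1
  refine dotProduct_eq _ _ fun x => ?_
  rw [vecMul_inv_dotProduct, pDual_dot hQ, pDual_dot hQ]
  conv_lhs => rw [← mulVec_mulVec_inv k x, hi.polar]

/-! ### reflections and flips -/

/-- the reflection in `v` -/
def reflGL (v : ι → F) (hv : Q v ≠ 0) : GL ι F where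
  val := tvMat ((-(Q v)⁻¹) • v) (pDual Q v)
  inv := tvMat ((-(Q v)⁻¹) • v) (pDual Q v)
  val_inv := by
    refine Matrix.ext_iff_mulVec.2 fun x => ?_
    rw [← mulVec_mulVec, tvMat_mulVec, tvMat_mulVec, one_mulVec]
    simp only [pDual_dot hQ, hQ.polar_bilinear.add_left, hQ.polar_bilinear.smul_left, polar_self' hQ]
    match_scalars <;> field_simp <;> ring
  inv_val := by
    refine Matrix.ext_iff_mulVec.2 fun x => ?_
    rw [← mulVec_mulVec, tvMat_mulVec, tvMat_mulVec, one_mulVec]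
    simp only [pDual_dot hQ, hQ.polar_bilinear.add_left, hQ.polar_bilinear.smul_left, polar_self' hQ]
    match_scalars <;> field_simp <;> ring

theorem reflGL_mulVec {v : ι → F} (hv : Q v ≠ 0) (x : ι → F) :
    (reflGL hQ v hv : Matrix ι ι F) *ᵥ x = x + (-(polar Q x v / Q v)) • v := by
  show tvMat ((-(Q v)⁻¹) • v) (pDual Q v) *ᵥ x = _
  rw [tvMat_mulVec, pDual_dot hQ, smul_smul]
  congr 2
  ring

theorem reflGL_iso {v : ι → F} (hv : Q v ≠ 0) : IsIso Q (reflGL hQ v hv) := fun x => by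
  rw [reflGL_mulVec hQ hv, quad_add_smul hQ]
  field_simp
  ring

theorem det_reflGL {v : ι → F} (hv : Q v ≠ 0) : (reflGL hQ v hv : Matrix ι ι F).det = -1 := by
  show (tvMat ((-(Q v)⁻¹) • v) (pDual Q v)).det = -1
  have : tvMat ((-(Q v)⁻¹) • v) (pDual Q v) =
      1 + Matrix.replicateCol Unit ((-(Q v)⁻¹) • v) * Matrix.replicateRow Unit (pDual Q v) := by
    ext i j
    simp [tvMat, vecMulVec_apply, Matrix.mul_apply, mul_assoc]
  rw [this, Matrix.det_one_add_replicateCol_mul_replicateRow, dotProduct_smul, pDual_dot hQ,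
    polar_self' hQ, smul_eq_mul]
  field_simp
  ring

theorem refl_pair_mem (hS : Cfsg.Geo.quadSimilarityGroup Q ⊓ Cfsg.Geo.specialLinear ι F ≤ M)
    {u v : ι → F} (hu : Q u ≠ 0) (hv : Q v ≠ 0) : reflGL hQ u hu * reflGL hQ v hv ∈ M :=
  iso_mem hS ((reflGL_iso hQ hu).mul (reflGL_iso hQ hv))
    (by rw [Units.val_mul, det_mul, det_reflGL, det_reflGL]; ring)

theorem eich_iso {u y : ι → F} (hu : Q u = 0) (huy : polar Q u y = 0) :
    IsIso Q (eichGL hQ u y hu huy) := fun x => by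
  have hyu : polar Q y u = 0 := (QuadraticMap.polar_comm Q y u).trans huy
  rw [eichGL_mulVec hQ hu huy, sub_eq_add_neg, ← neg_smul, quad_add_smul hQ, quad_add_smul hQ, hu,
    hQ.polar_bilinear.add_left, hQ.polar_bilinear.smul_left, huy]
  ring

/-- minus one on a non-degenerate plane, one on its orthogonal -/
theorem exists_flip {a b : ι → F} (hd : polar Q a a * polar Q b b - polar Q a b ^ 2 ≠ 0) :
    ∃ r : GL ι F, IsIso Q r ∧ (r : Matrix ι ι F).det = 1 ∧
      (r : Matrix ι ι F) *ᵥ a = -a ∧ (r : Matrix ι ι F) *ᵥ b = -b ∧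
      ∀ x, ∃ c d : F, (r : Matrix ι ι F) *ᵥ x = x + c • a + d • b := by
  set δ := polar Q a a * polar Q b b - polar Q a b ^ 2 with hδ
  set φ := δ⁻¹ • (polar Q b b • pDual Q a - polar Q a b • pDual Q b) with hφ
  set ψ := δ⁻¹ • (polar Q a a • pDual Q b - polar Q a b • pDual Q a) with hψ
  have dφ : ∀ x, φ ⬝ᵥ x = δ⁻¹ * (polar Q b b * polar Q x a - polar Q a b * polar Q x b) := fun x => by
    simp only [hφ, smul_dotProduct, sub_dotProduct, pDual_dot hQ, smul_eq_mul]
  have dψ : ∀ x, ψ ⬝ᵥ x = δ⁻¹ * (polar Q a a * polar Q x b - polar Q a b * polar Q x a) := fun x => by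
    simp only [hψ, smul_dotProduct, sub_dotProduct, pDual_dot hQ, smul_eq_mul]
  have hba : polar Q b a = polar Q a b := QuadraticMap.polar_comm Q b a
  have hφa : φ ⬝ᵥ a = 1 := by rw [dφ]; field_simp; rw [hδ]; ring
  have hφb : φ ⬝ᵥ b = 0 := by rw [dφ, hba]; ring
  have hψa : ψ ⬝ᵥ a = 0 := by rw [dψ]; ring
  have hψb : ψ ⬝ᵥ b = 1 := by rw [dψ, hba]; field_simp; rw [hδ]
  let U : Matrix ι (Fin 2) F := Matrix.of fun i j => ![a i, b i] j
  let V : Matrix (Fin 2) ι F := Matrix.of fun j i => (-2 : F) * ![φ i, ψ i] j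
  let R : Matrix ι ι F := 1 + U * V
  have hR : ∀ x, R *ᵥ x = x + (-2 * (φ ⬝ᵥ x)) • a + (-2 * (ψ ⬝ᵥ x)) • b := fun x => by
    show (1 + U * V) *ᵥ x = _
    rw [add_mulVec, one_mulVec, ← mulVec_mulVec, add_assoc]
    congr 1
    ext i
    have eV : ∀ j, (V *ᵥ x) j = ![-2 * (φ ⬝ᵥ x), -2 * (ψ ⬝ᵥ x)] j := fun j => by
      fin_cases j <;> simp [V, Matrix.mulVec, dotProduct, Finset.mul_sum, mul_assoc]
    rw [Matrix.mulVec, dotProduct, Fin.sum_univ_two, eV, eV]
    simp only [U, Matrix.of_apply, Matrix.cons_val_zero, Matrix.cons_val_one, Pi.add_apply,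
      Pi.smul_apply, smul_eq_mul]
    ring
  have hRR : R * R = 1 := by
    refine Matrix.ext_iff_mulVec.2 fun x => ?_
    rw [← mulVec_mulVec, hR, hR, one_mulVec]
    simp only [dotProduct_add, dotProduct_smul, hφa, hφb, hψa, hψb, smul_eq_mul]
    match_scalars <;> ring
  refine ⟨⟨R, R, hRR, hRR⟩, fun x => ?_, ?_, ?_, ?_, fun x => ⟨_, _, hR x⟩⟩
  · show Q (R *ᵥ x) = Q x
    rw [hR, quad_add_smul hQ, quad_add_smul hQ, hQ.polar_bilinear.add_left,
      hQ.polar_bilinear.smul_left]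
    have k1 : polar Q x a = (φ ⬝ᵥ x) * polar Q a a + (ψ ⬝ᵥ x) * polar Q a b := by
      rw [dφ, dψ]; field_simp; rw [hδ]; ring
    have k2 : polar Q x b = (φ ⬝ᵥ x) * polar Q a b + (ψ ⬝ᵥ x) * polar Q b b := by
      rw [dφ, dψ]; field_simp; rw [hδ]; ring
    rw [polar_self' hQ] at k1 k2
    linear_combination (-2 * (φ ⬝ᵥ x)) * k1 + (-2 * (ψ ⬝ᵥ x)) * k2
  · show (1 + U * V).det = 1
    rw [Matrix.det_one_add_mul_comm]
    have : V * U = Matrix.of fun i j : Fin 2 => if i = j then (-2 : F) else 0 := by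
      ext i j
      have e : ∀ (χ y : ι → F), ∑ k, (-2 : F) * χ k * y k = -2 * (χ ⬝ᵥ y) := fun χ y => by
        simp [dotProduct, Finset.mul_sum, mul_assoc]
      fin_cases i <;> fin_cases j <;>
        simp [U, V, Matrix.mul_apply, e φ a, e φ b, e ψ a, e ψ b, hφa, hφb, hψa, hψb, -neg_mul]
    rw [this, Matrix.det_fin_two]
    simp
    ring
  · show R *ᵥ a = -a
    rw [hR, hφa, hψa]; module
  · show R *ᵥ b = -b
    rw [hR, hφb, hψb]; module

/-! ### the orthogonal plane of a hyperbolic pair -/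

variable {e f : ι → F} (h : IsHyp Q e f)
include h

theorem resid_mem (x : ι → F) :
    x - polar Q x f • e - polar Q x e • f ∈ pKer hQ e ⊓ pKer hQ f := by
  have hfe : polar Q f e = 1 := h.symm.2.2
  constructor
  · show polar Q _ e = 0
    simp only [polar_sub_l hQ, hQ.polar_bilinear.smul_left, hfe, polar_self_of_singular hQ h.1]
    ring
  · show polar Q _ f = 0
    simp only [polar_sub_l hQ, hQ.polar_bilinear.smul_left, h.2.2, polar_self_of_singular hQ h.2.1]
    ring

theorem finrank_W (hn : Fintype.card ι = 4) :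
    Module.finrank F (pKer hQ e ⊓ pKer hQ f : Submodule F (ι → F)) = 2 := by
  classical
  have hfe : polar Q f e = 1 := h.symm.2.2
  have h1 := finrank_pKer_ge hQ e
  have h2' := finrank_le_inf_pKer hQ (pKer hQ e) f
  have hli : LinearIndependent F ![e, f] := by
    rw [LinearIndependent.pair_iff]
    intro s t hst
    have a1 := congrArg (fun z => polar Q z f) hst
    have a2 := congrArg (fun z => polar Q z e) hst
    simp only [hQ.polar_bilinear.add_left, hQ.polar_bilinear.smul_left, h.2.2, hfe,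
      polar_self_of_singular hQ h.1, polar_self_of_singular hQ h.2.1, polar_zero_l hQ] at a1 a2
    exact ⟨by linear_combination a1, by linear_combination a2⟩
  set P := Submodule.span F (Set.range ![e, f]) with hPdef
  have hP : Module.finrank F P = 2 := by
    rw [hPdef, finrank_span_eq_card hli, Fintype.card_fin]
  have hdisj : P ⊓ (pKer hQ e ⊓ pKer hQ f) = ⊥ := by
    rw [eq_bot_iff]
    rintro x ⟨hxP, hxe, hxf⟩
    rw [hPdef] at hxP
    obtain ⟨c, rfl⟩ := (Submodule.mem_span_range_iff_exists_fun F).1 hxP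
    simp only [Fin.sum_univ_two, Matrix.cons_val_zero, Matrix.cons_val_one] at hxe hxf ⊢
    have a1 : polar Q (c 0 • e + c 1 • f) e = 0 := hxe
    have a2 : polar Q (c 0 • e + c 1 • f) f = 0 := hxf
    simp only [hQ.polar_bilinear.add_left, hQ.polar_bilinear.smul_left, h.2.2, hfe,
      polar_self_of_singular hQ h.1, polar_self_of_singular hQ h.2.1, mul_zero, mul_one, zero_add,
      add_zero] at a1 a2
    rw [Submodule.mem_bot, a1, a2, zero_smul, zero_smul, add_zero]
  have h3 := Submodule.finrank_sup_add_finrank_inf_eq P (pKer hQ e ⊓ pKer hQ f)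
  rw [hdisj, finrank_bot, hP] at h3
  have h4 := Submodule.finrank_le (P ⊔ (pKer hQ e ⊓ pKer hQ f))
  rw [Module.finrank_fintype_fun_eq_card] at h4
  omega

theorem exists_partner {y : ι → F} (hy : y ∈ pKer hQ e ⊓ pKer hQ f) (hy0 : y ≠ 0) :
    ∃ v ∈ pKer hQ e ⊓ pKer hQ f, polar Q v y = 1 := by
  obtain ⟨x, hx⟩ := (hQ.nondegenerate y hy0).1
  refine ⟨(polar Q x y)⁻¹ • (x - polar Q x f • e - polar Q x e • f),
    Submodule.smul_mem _ _ (resid_mem hQ h x), ?_⟩
  have hye : polar Q y e = 0 := hy.1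
  have hyf : polar Q y f = 0 := hy.2
  simp only [hQ.polar_bilinear.smul_left, polar_sub_l hQ, QuadraticMap.polar_comm Q e y,
    QuadraticMap.polar_comm Q f y, hye, hyf]
  field_simp
  ring

theorem W_le_of_pair (hn : Fintype.card ι = 4) {S : Submodule F (ι → F)} {u w : ι → F}
    (hu : u ∈ pKer hQ e ⊓ pKer hQ f) (hw : w ∈ pKer hQ e ⊓ pKer hQ f) (hw0 : w ≠ 0)
    (hind : u ∉ Submodule.span F ({w} : Set (ι → F))) (huS : u ∈ S) (hwS : w ∈ S) :
    pKer hQ e ⊓ pKer hQ f ≤ S := by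
  have hli : LinearIndependent F ![w, u] := by
    rw [LinearIndependent.pair_iff' hw0]
    exact fun a ha => hind (Submodule.mem_span_singleton.2 ⟨a, ha⟩)
  have hle : Submodule.span F (Set.range ![w, u]) ≤ pKer hQ e ⊓ pKer hQ f := by
    rw [Submodule.span_le]
    rintro _ ⟨i, rfl⟩
    fin_cases i <;> simp [hu.1, hu.2, hw.1, hw.2]
  rw [← Submodule.eq_of_le_of_finrank_eq hle (by
    rw [finrank_span_eq_card hli, Fintype.card_fin, finrank_W hQ h hn]), Submodule.span_le]
  rintro _ ⟨i, rfl⟩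
  fin_cases i <;> simp [huS, hwS]

/-! ### from one transvection with singular centre to all -/

theorem exists_torus (hS : Cfsg.Geo.quadSimilarityGroup Q ⊓ Cfsg.Geo.specialLinear ι F ≤ M)
    {t : F} (ht : t ≠ 0) : ∃ k ∈ M, IsIso Q k ∧ (k : Matrix ι ι F) *ᵥ e = t • e ∧
      ∀ x ∈ pKer hQ e ⊓ pKer hQ f, (k : Matrix ι ι F) *ᵥ x = x := by
  have hfe : polar Q f e = 1 := h.symm.2.2
  have q1 : ∀ s : F, Q (e + s • f) = s := fun s => by rw [quad_add_smul hQ, h.1, h.2.1, h.2.2]; ring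
  have hv1 : Q (e + (-1 : F) • f) ≠ 0 := by rw [q1]; simp
  have hv2 : Q (e + (-t) • f) ≠ 0 := by rw [q1]; simpa using ht
  refine ⟨_, refl_pair_mem hQ hS hv1 hv2, (reflGL_iso hQ hv1).mul (reflGL_iso hQ hv2), ?_, ?_⟩
  · rw [Units.val_mul, ← mulVec_mulVec, reflGL_mulVec hQ hv2, reflGL_mulVec hQ hv1]
    simp only [hQ.polar_bilinear.add_left, hQ.polar_bilinear.add_right, hQ.polar_bilinear.smul_left,
      hQ.polar_bilinear.smul_right, q1, h.2.2, hfe, polar_self_of_singular hQ h.1,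
      polar_self_of_singular hQ h.2.1]
    match_scalars <;> field_simp <;> ring
  · rintro x ⟨hxe, hxf⟩
    have hxe : polar Q x e = 0 := hxe
    have hxf : polar Q x f = 0 := hxf
    have : ∀ s : F, polar Q x (e + s • f) = 0 := fun s => by
      rw [hQ.polar_bilinear.add_right, hQ.polar_bilinear.smul_right, hxe, hxf, mul_zero, add_zero]
    rw [Units.val_mul, ← mulVec_mulVec, reflGL_mulVec hQ hv2, reflGL_mulVec hQ hv1, this]
    simp only [zero_div, neg_zero, zero_smul, add_zero, this]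

theorem exists_swap (hS : Cfsg.Geo.quadSimilarityGroup Q ⊓ Cfsg.Geo.specialLinear ι F ≤ M)
    {v : ι → F} (hv : v ∈ pKer hQ e ⊓ pKer hQ f) (hQv : Q v ≠ 0) :
    ∃ k ∈ M, IsIso Q k ∧ (k : Matrix ι ι F) *ᵥ e = f ∧
      ∀ x ∈ pKer hQ e ⊓ pKer hQ f, (k : Matrix ι ι F) *ᵥ x = x + (-(polar Q x v / Q v)) • v := by
  have hve : polar Q v e = 0 := hv.1
  have hvf : polar Q v f = 0 := hv.2
  have q1 : Q (e + (-1 : F) • f) = -1 := by rw [quad_add_smul hQ, h.1, h.2.1, h.2.2]; ring
  have hv1 : Q (e + (-1 : F) • f) ≠ 0 := by rw [q1]; simp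
  refine ⟨_, refl_pair_mem hQ hS hv1 hQv, (reflGL_iso hQ hv1).mul (reflGL_iso hQ hQv), ?_, ?_⟩
  · rw [Units.val_mul, ← mulVec_mulVec, reflGL_mulVec hQ hQv, reflGL_mulVec hQ hv1,
      QuadraticMap.polar_comm Q e v, hve]
    simp only [hQ.polar_bilinear.add_right, hQ.polar_bilinear.smul_right, q1, h.2.2,
      polar_self_of_singular hQ h.1, zero_div, neg_zero, zero_smul, add_zero]
    match_scalars <;> field_simp <;> ring
  · rintro x ⟨hxe, hxf⟩
    have hxe : polar Q x e = 0 := hxe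
    have hxf : polar Q x f = 0 := hxf
    rw [Units.val_mul, ← mulVec_mulVec, reflGL_mulVec hQ hQv, reflGL_mulVec hQ hv1]
    simp only [hQ.polar_bilinear.add_left, hQ.polar_bilinear.smul_left,
      hQ.polar_bilinear.add_right, hQ.polar_bilinear.smul_right, hxe, hxf, hve, hvf, mul_zero,
      add_zero, zero_div, neg_zero, zero_smul]

theorem specialLinear_le_of_singular_center
    (hS : Cfsg.Geo.quadSimilarityGroup Q ⊓ Cfsg.Geo.specialLinear ι F ≤ M) (h2 : (2 : F) ≠ 0)
    (hn : Fintype.card ι = 4) {w : ι → F} (hw : w ∈ pKer hQ e ⊓ pKer hQ f) (hw0 : w ≠ 0)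
    (hT : HasTv M e (pDual Q w)) : Cfsg.Geo.specialLinear ι F ≤ M := by
  have hfe : polar Q f e = 1 := h.symm.2.2
  have hwe : polar Q w e = 0 := hw.1
  have hwf : polar Q w f = 0 := hw.2
  have hef0 : e ≠ 0 := fun e0 => by
    have := h.2.2; rw [e0, polar_zero_l hQ] at this; exact zero_ne_one this
  let A : Submodule F (ι → F) :=
    { carrier := {v | ∀ t : F, HasTv M e (t • pDual Q v) }
      add_mem' := fun {x y} hx hy t => by rw [pDual_add hQ, smul_add]; exact (hx t).add (hy t)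
      zero_mem' := fun t => by rw [(pDual_eq_zero hQ).2 rfl, smul_zero]; exact hasTv_zero e
      smul_mem' := fun c x hx t => by rw [pDual_smul hQ, smul_smul]; exact hx (t * c) }
  have hwA : w ∈ A := fun t => by
    rcases eq_or_ne t 0 with rfl | ht
    · rw [zero_smul]; exact hasTv_zero e
    obtain ⟨k, hk, hki, hke, hkW⟩ := exists_torus hQ h hS ht
    have := HasTv.pconj hQ hT hk hki
    rw [hke, hkW w hw] at this
    exact (hasTv_smul_iff ht).1 this
  have heA : e ∈ A := fun t => by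
    obtain ⟨y, hy, hyw⟩ := exists_partner hQ h hw hw0
    have hey : polar Q e y = 0 := (QuadraticMap.polar_comm Q e y).trans hy.1
    have hi := eich_iso hQ h.1 hey
    have h1 := hwA t
    rw [← pDual_smul hQ] at h1
    have h2' := HasTv.pconj hQ h1 (eichGL_mem hQ hS h.1 hey) hi
    rw [eichGL_mulVec hQ h.1 hey, eichGL_mulVec hQ h.1 hey] at h2'
    simp only [hQ.polar_bilinear.smul_left, hwe, QuadraticMap.polar_comm Q w y, hyw, hey,
      polar_self_of_singular hQ h.1, mul_zero, mul_one, sub_zero, zero_smul, add_zero] at h2'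
    have h3 := h2'.sub h1
    rwa [pDual_add hQ, add_sub_cancel_left, pDual_smul hQ] at h3
  -- `T(p, t p*)` for `p = e + u`, `u` singular in the orthogonal plane
  obtain ⟨v, hv, hQv⟩ : ∃ v ∈ pKer hQ e ⊓ pKer hQ f, Q v ≠ 0 := by
    obtain ⟨y, hy, hyw⟩ := exists_partner hQ h hw hw0
    by_contra hno
    push Not at hno
    have := quad_add hQ y w
    rw [hno _ (add_mem hy hw), hno _ hy, hno _ hw, hyw, zero_add, zero_add] at this
    exact zero_ne_one this
  have hWA : pKer hQ e ⊓ pKer hQ f ≤ A := by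
    by_cases hsing : ∃ u ∈ pKer hQ e ⊓ pKer hQ f, u ≠ 0 ∧ Q u = 0
    · obtain ⟨u, hu, hQu, huw⟩ : ∃ u ∈ pKer hQ e ⊓ pKer hQ f, Q u = 0 ∧ polar Q u w ≠ 0 := by
        obtain ⟨u₀, hu₀, hu₀0, hQu₀⟩ := hsing
        by_contra hno
        push Not at hno
        obtain ⟨y, hy, hyu⟩ := exists_partner hQ h hu₀ hu₀0
        have a1 := hno _ hu₀ hQu₀
        have hu1 : y + (-Q y) • u₀ ∈ pKer hQ e ⊓ pKer hQ f := add_mem hy (Submodule.smul_mem _ _ hu₀)
        have a2 := hno _ hu1 (by rw [quad_add_smul hQ, hQu₀, hyu]; ring)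
        rw [hQ.polar_bilinear.add_left, hQ.polar_bilinear.smul_left, a1, mul_zero, add_zero] at a2
        have hy0 : y ∉ Submodule.span F ({u₀} : Set (ι → F)) := fun hm => by
          obtain ⟨c, rfl⟩ := Submodule.mem_span_singleton.1 hm
          rw [hQ.polar_bilinear.smul_left, polar_self_of_singular hQ hQu₀, mul_zero] at hyu
          exact zero_ne_one hyu
        have hle := W_le_of_pair hQ h hn hy hu₀ hu₀0 hy0 (S := pKer hQ w) a2 a1
        obtain ⟨z, hz, hzw⟩ := exists_partner hQ h hw hw0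
        have : polar Q z w = 0 := hle hz
        rw [hzw] at this
        exact one_ne_zero this
      have hue : polar Q u e = 0 := hu.1
      have huf : polar Q u f = 0 := hu.2
      have hfu : polar Q f (-u) = 0 := by
        rw [polar_neg_r hQ, QuadraticMap.polar_comm Q f u, huf, neg_zero]
      have hpu : (eichGL hQ f (-u) h.2.1 hfu : Matrix ι ι F) *ᵥ e = e + u := by
        rw [eichGL_mulVec hQ h.2.1 hfu, quad_neg hQ, hQu, h.2.2, polar_neg_r hQ,
          QuadraticMap.polar_comm Q e u, hue]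
        module
      have hpT : HasTv M (e + u) (pDual Q (e + u)) := by
        have h1 := heA 1
        rw [one_smul] at h1
        have := HasTv.pconj hQ h1 (eichGL_mem hQ hS h.2.1 hfu) (eich_iso hQ h.2.1 hfu)
        rwa [hpu] at this
      have heuA : e + u ∈ A := fun t => by
        have := hpT.comm (hwA (t / polar Q u w)) (by
          rw [pDual_dot hQ, hQ.polar_bilinear.add_right, polar_self_of_singular hQ h.1,
            QuadraticMap.polar_comm Q e u, hue, add_zero])
        rwa [smul_dotProduct, pDual_dot hQ, hQ.polar_bilinear.add_left,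
          QuadraticMap.polar_comm Q e w, hwe, zero_add, smul_eq_mul, div_mul_cancel₀ _ huw] at this
      refine W_le_of_pair hQ h hn hu hw hw0 (fun hm => ?_) (by simpa using A.sub_mem heuA heA) hwA
      obtain ⟨c, rfl⟩ := Submodule.mem_span_singleton.1 hm
      rcases eq_or_ne c 0 with rfl | hc
      · exact huw (by rw [zero_smul, polar_zero_l hQ])
      · rw [hQ.smul] at hQu
        exact huw (by rw [hQ.polar_bilinear.smul_left, polar_self' hQ,
          (mul_eq_zero.1 hQu).resolve_left (pow_ne_zero 2 hc), mul_zero, mul_zero])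
    · push Not at hsing
      obtain ⟨z, ⟨hzW, hzw⟩, hz0⟩ := Submodule.exists_mem_ne_zero_of_ne_bot
        (p := pKer hQ e ⊓ pKer hQ f ⊓ pKer hQ w) (fun hb => by
          have := finrank_le_inf_pKer hQ (pKer hQ e ⊓ pKer hQ f) w
          rw [finrank_W hQ h hn, hb, finrank_bot] at this
          omega)
      have hzw : polar Q z w = 0 := hzw
      have hQw := hsing w hw hw0
      have hQz := hsing z hzW hz0
      have hwz : polar Q w z = 0 := (QuadraticMap.polar_comm Q w z).trans hzw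
      have hvW : w + z ∈ pKer hQ e ⊓ pKer hQ f := add_mem hw hzW
      have hv0 : w + z ≠ 0 := fun h0 => by
        have := congrArg (fun x => polar Q w x) h0
        simp only [hQ.polar_bilinear.add_right, polar_self' hQ, hwz, add_zero, polar_zero_r hQ] at this
        exact mul_ne_zero h2 hQw this
      have hQwz := hsing _ hvW hv0
      obtain ⟨k, hk, hki, hke, hkW⟩ := exists_swap hQ h hS hvW hQwz
      set c := -(polar Q w (w + z) / Q (w + z)) with hc
      have hc0 : c ≠ 0 := by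
        rw [hc, hQ.polar_bilinear.add_right, polar_self' hQ, hwz, add_zero]
        exact neg_ne_zero.2 (div_ne_zero (mul_ne_zero h2 hQw) hQwz)
      have hrA : w + c • (w + z) ∈ A := fun t => by
        have h1 := hwA t
        rw [← pDual_smul hQ] at h1
        have h1' := HasTv.pconj hQ h1 hk hki
        rw [hke, mulVec_smul, hkW w hw, ← hc, pDual_smul hQ] at h1'
        have hb := heA 1
        rw [one_smul] at hb
        have := h1'.comm hb (by
          rw [smul_dotProduct, pDual_dot hQ, hQ.polar_bilinear.add_right,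
            hQ.polar_bilinear.smul_right, QuadraticMap.polar_comm Q e w, hwe,
            QuadraticMap.polar_comm Q e (w + z), show polar Q (w + z) e = 0 from hvW.1]
          simp)
        rwa [pDual_dot hQ, hfe, one_smul] at this
      refine W_le_of_pair hQ h hn (add_mem hw (Submodule.smul_mem _ c hvW)) hw hw0 (fun hm => ?_) hrA hwA
      obtain ⟨d, hd⟩ := Submodule.mem_span_singleton.1 hm
      have := congrArg (fun x => polar Q x z) hd
      simp only [hQ.polar_bilinear.add_left, hQ.polar_bilinear.smul_left, hwz, mul_zero, zero_add,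
        polar_self' hQ] at this
      exact (mul_ne_zero hc0 (mul_ne_zero h2 hQz)) this.symm
  have hFe : Full M e := fun φ hφ => by
    obtain ⟨x, rfl⟩ := pDual_surjective hQ φ
    rw [pDual_dot hQ, QuadraticMap.polar_comm] at hφ
    have hx : x ∈ A := by
      have h1 := hWA (resid_mem hQ h x)
      rw [hφ, zero_smul, sub_zero] at h1
      simpa using A.add_mem h1 (A.smul_mem (polar Q x f) heA)
    simpa using hx 1
  have hFf : Full M f := by
    obtain ⟨k, hk, -, hke, -⟩ := exists_swap hQ h hS hv hQv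
    exact hke ▸ hFe.conj hk
  refine specialLinear_le_of_forall_center fun a φ ha0 => ?_
  revert φ
  change Full M a
  obtain ⟨α, β, y, hy, rfl⟩ : ∃ α β : F, ∃ y ∈ pKer hQ e ⊓ pKer hQ f, a = α • e + β • f + y :=
    ⟨_, _, _, resid_mem hQ h a, by abel⟩
  rcases eq_or_ne y 0 with rfl | hy0
  · rw [add_zero] at ha0 ⊢
    rcases eq_or_ne α 0 with rfl | hα
    · rw [zero_smul, zero_add] at ha0 ⊢
      exact hFf.smul (fun hβ => ha0 (by rw [hβ, zero_smul]))
    · have := (hFe.shift hFf (φ := (β / α) • pDual Q f) (by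
        rw [smul_dotProduct, pDual_dot hQ, polar_self_of_singular hQ h.2.1, smul_zero])).smul hα
      rw [smul_dotProduct, pDual_dot hQ, h.2.2, smul_eq_mul, mul_one, smul_add, smul_smul,
        mul_div_cancel₀ _ hα] at this
      exact this
  · have hye : polar Q y e = 0 := hy.1
    have hyf : polar Q y f = 0 := hy.2
    have hfy : polar Q f (-y) = 0 := by
      rw [polar_neg_r hQ, QuadraticMap.polar_comm Q f y, hyf, neg_zero]
    have hb : Full M (e + (-Q y) • f + y) := by
      have := hFe.conj (eichGL_mem hQ hS h.2.1 hfy)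
      rw [eichGL_mulVec hQ h.2.1 hfy, quad_neg hQ, h.2.2, polar_neg_r hQ,
        QuadraticMap.polar_comm Q e y, hye] at this
      convert this using 1
      module
    obtain ⟨z, hz, hzy⟩ := exists_partner hQ h hy hy0
    have hze : polar Q z e = 0 := hz.1
    have hzf : polar Q z f = 0 := hz.2
    have hyz : polar Q y z = 1 := (QuadraticMap.polar_comm Q y z).trans hzy
    have h1 := hb.shift hFe (φ := (α - 1) • pDual Q z) (by
      rw [smul_dotProduct, pDual_dot hQ, QuadraticMap.polar_comm, hze, smul_zero])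
    have h1' := h1.shift hFf (φ := (β + Q y) • pDual Q z) (by
      rw [smul_dotProduct, pDual_dot hQ, QuadraticMap.polar_comm, hzf, smul_zero])
    simp only [smul_dotProduct, pDual_dot hQ, hQ.polar_bilinear.add_left, hQ.polar_bilinear.smul_left,
      QuadraticMap.polar_comm Q e z, QuadraticMap.polar_comm Q f z, hze, hzf, hyz, smul_eq_mul,
      mul_zero, zero_add, add_zero, mul_one] at h1'
    convert h1' using 1
    module

/-! ### a transvection from `1 + e φ + f ψ` -/

theorem eich_comm (hS : Cfsg.Geo.quadSimilarityGroup Q ⊓ Cfsg.Geo.specialLinear ι F ≤ M)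
    {φ ψ y : ι → F} {T : GL ι F} (hT : T ∈ M)
    (hTv : ∀ x, (T : Matrix ι ι F) *ᵥ x = x + (φ ⬝ᵥ x) • e + (ψ ⬝ᵥ x) • f)
    (hφe : φ ⬝ᵥ e = 0) (hφf : φ ⬝ᵥ f = 0) (hψe : ψ ⬝ᵥ e = 0) (hψf : ψ ⬝ᵥ f = 0)
    (hy : y ∈ pKer hQ e ⊓ pKer hQ f) (hψy : ψ ⬝ᵥ y = 0) :
    ∃ C ∈ M, ∀ x, (C : Matrix ι ι F) *ᵥ x =
      x + (-(φ ⬝ᵥ y) * polar Q x e + (Q y + φ ⬝ᵥ y) * (ψ ⬝ᵥ x)) • e + (ψ ⬝ᵥ x) • y := by
  have hfe : polar Q f e = 1 := h.symm.2.2
  have hye : polar Q y e = 0 := hy.1
  have hey : polar Q e y = 0 := (QuadraticMap.polar_comm Q e y).trans hye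
  have hfy : polar Q f y = 0 := (QuadraticMap.polar_comm Q f y).trans hy.2
  have hTi : ∀ x, ((T⁻¹ : GL ι F) : Matrix ι ι F) *ᵥ x = x - (φ ⬝ᵥ x) • e - (ψ ⬝ᵥ x) • f := fun x => by
    have h0 : x = (T : Matrix ι ι F) *ᵥ (x - (φ ⬝ᵥ x) • e - (ψ ⬝ᵥ x) • f) := by
      rw [hTv]
      simp only [dotProduct_sub, dotProduct_smul, hφe, hφf, hψe, hψf, smul_eq_mul]
      module
    conv_lhs => rw [h0, inv_mulVec_mulVec]
  have hE := eichGL_mem hQ hS h.1 hey
  refine ⟨T * eichGL hQ e y h.1 hey * T⁻¹ * (eichGL hQ e y h.1 hey)⁻¹,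
    mul_mem (mul_mem (mul_mem hT hE) (inv_mem hT)) (inv_mem hE), fun x => ?_⟩
  simp only [Units.val_mul, ← mulVec_mulVec, eichGL_inv_mulVec hQ h.1 hey, hTi,
    eichGL_mulVec hQ h.1 hey, hTv, dotProduct_add, dotProduct_sub, dotProduct_smul,
    hQ.polar_bilinear.add_left, polar_sub_l hQ, hQ.polar_bilinear.smul_left, hφe, hφf, hψe, hψf,
    hψy, hye, hey, hfe, hfy, polar_self_of_singular hQ h.1, polar_self' hQ y, smul_eq_mul]
  match_scalars <;> ring

theorem specialLinear_le_of_plane_elem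
    (hS : Cfsg.Geo.quadSimilarityGroup Q ⊓ Cfsg.Geo.specialLinear ι F ≤ M) (h2 : (2 : F) ≠ 0)
    (hn : Fintype.card ι = 4) {φ ψ : ι → F} {T : GL ι F} (hT : T ∈ M)
    (hTv : ∀ x, (T : Matrix ι ι F) *ᵥ x = x + (φ ⬝ᵥ x) • e + (ψ ⬝ᵥ x) • f)
    (hφe : φ ⬝ᵥ e = 0) (hφf : φ ⬝ᵥ f = 0) (hψe : ψ ⬝ᵥ e = 0) (hψf : ψ ⬝ᵥ f = 0)
    (hne : φ ≠ 0 ∨ ψ ≠ 0) : Cfsg.Geo.specialLinear ι F ≤ M := by
  have hfe : polar Q f e = 1 := h.symm.2.2
  have fin : ∀ χ : ι → F, χ ≠ 0 → χ ⬝ᵥ e = 0 → χ ⬝ᵥ f = 0 → HasTv M e χ →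
      Cfsg.Geo.specialLinear ι F ≤ M := by
    intro χ hχ he hf hv
    obtain ⟨w, rfl⟩ := pDual_surjective hQ χ
    rw [pDual_dot hQ, QuadraticMap.polar_comm] at he hf
    exact specialLinear_le_of_singular_center hQ h hS h2 hn ⟨he, hf⟩
      (fun h0 => hχ ((pDual_eq_zero hQ).2 h0)) hv
  by_cases hψ : ψ = 0
  · refine fin φ (hne.resolve_right (fun hh => hh hψ)) hφe hφf ⟨hφe, T, hT,
      Matrix.ext_iff_mulVec.2 fun x => ?_⟩
    rw [hTv, tvMat_mulVec, hψ, zero_dotProduct, zero_smul, add_zero]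
  obtain ⟨η, rfl⟩ := pDual_surjective hQ ψ
  obtain ⟨y, ⟨hy, hyη⟩, hy0⟩ := Submodule.exists_mem_ne_zero_of_ne_bot
    (p := pKer hQ e ⊓ pKer hQ f ⊓ pKer hQ η) (fun hb => by
      have := finrank_le_inf_pKer hQ (pKer hQ e ⊓ pKer hQ f) η
      rw [finrank_W hQ h hn, hb, finrank_bot] at this
      omega)
  have hψy : pDual Q η ⬝ᵥ y = 0 := by rw [pDual_dot hQ]; exact hyη
  have hye : polar Q y e = 0 := hy.1
  have hyf : polar Q y f = 0 := hy.2
  -- the difference of two commutators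
  have good : ∀ z ∈ pKer hQ e ⊓ pKer hQ f, pDual Q η ⬝ᵥ z = 0 → Q z + φ ⬝ᵥ z ≠ 0 →
      Cfsg.Geo.specialLinear ι F ≤ M := by
    intro z hz hψz hne'
    obtain ⟨C₁, hC₁, hC₁v⟩ := eich_comm hQ h hS hT hTv hφe hφf hψe hψf hz hψz
    obtain ⟨C₂, hC₂, hC₂v⟩ := eich_comm hQ h hS (φ := -φ) (ψ := -pDual Q η) (y := -z) (inv_mem hT)
      (fun x => by
        have h0 : x = (T : Matrix ι ι F) *ᵥ (x + ((-φ) ⬝ᵥ x) • e + ((-pDual Q η) ⬝ᵥ x) • f) := by
          rw [hTv]
          simp only [dotProduct_add, neg_dotProduct, dotProduct_smul, hφe, hφf, hψe, hψf,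
            smul_eq_mul]
          module
        conv_lhs => rw [h0, inv_mulVec_mulVec])
      (by rw [neg_dotProduct, hφe, neg_zero]) (by rw [neg_dotProduct, hφf, neg_zero])
      (by rw [neg_dotProduct, hψe, neg_zero]) (by rw [neg_dotProduct, hψf, neg_zero])
      (Submodule.neg_mem _ hz) (by simp [hψz])
    refine fin ((2 * (Q z + φ ⬝ᵥ z)) • pDual Q η) (smul_ne_zero (mul_ne_zero h2 hne') hψ)
      (by rw [smul_dotProduct, hψe, smul_zero]) (by rw [smul_dotProduct, hψf, smul_zero])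
      ⟨by rw [smul_dotProduct, hψe, smul_zero], C₁ * C₂⁻¹, mul_mem hC₁ (inv_mem hC₂), ?_⟩
    have key : (C₁ : Matrix ι ι F) =
        tvMat e ((2 * (Q z + φ ⬝ᵥ z)) • pDual Q η) * (C₂ : Matrix ι ι F) := by
      refine Matrix.ext_iff_mulVec.2 fun x => ?_
      rw [← mulVec_mulVec, hC₁v, hC₂v, tvMat_mulVec]
      simp only [dotProduct_add, neg_dotProduct, dotProduct_neg, smul_dotProduct, dotProduct_smul,
        quad_neg hQ, hψe, hψz, smul_eq_mul]
      match_scalars <;> ring
    rw [Units.val_mul, key, mul_assoc, ← Units.val_mul, mul_inv_cancel, Units.val_one, mul_one]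
  by_cases h1 : Q y + φ ⬝ᵥ y = 0
  swap; · exact good y hy hψy h1
  by_cases h1' : Q (-y) + φ ⬝ᵥ (-y) = 0
  swap; · exact good (-y) (Submodule.neg_mem _ hy) (by rw [dotProduct_neg, hψy, neg_zero]) h1'
  rw [quad_neg hQ, dotProduct_neg] at h1'
  have hQy : Q y = 0 := (mul_eq_zero.1 (by linear_combination h1 + h1' : (2 : F) * Q y = 0)).resolve_left h2
  have hφy : φ ⬝ᵥ y = 0 := by rw [hQy, zero_add] at h1; exact h1
  -- now both functionals are multiples of `y*`
  obtain ⟨y₁, hy₁, hy₁y⟩ := exists_partner hQ h hy hy0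
  set y' := y₁ + (-Q y₁) • y with hy'def
  have hy' : y' ∈ pKer hQ e ⊓ pKer hQ f := add_mem hy₁ (Submodule.smul_mem _ _ hy)
  have hy'y : polar Q y' y = 1 := by
    rw [hy'def, hQ.polar_bilinear.add_left, hQ.polar_bilinear.smul_left,
      polar_self_of_singular hQ hQy, hy₁y, mul_zero, add_zero]
  have hQy' : Q y' = 0 := by rw [hy'def, quad_add_smul hQ, hQy, hy₁y]; ring
  have hyy' : polar Q y y' = 1 := (QuadraticMap.polar_comm Q y y').trans hy'y
  have hprop : ∀ χ : ι → F, χ ⬝ᵥ e = 0 → χ ⬝ᵥ f = 0 → χ ⬝ᵥ y = 0 → ∀ x,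
      χ ⬝ᵥ x = (χ ⬝ᵥ y') * polar Q x y := by
    intro χ he hf hχy x
    obtain ⟨κ, rfl⟩ := pDual_surjective hQ χ
    have hmem := W_le_of_pair hQ h hn hy' hy hy0 (fun hm => by
      obtain ⟨c, hc⟩ := Submodule.mem_span_singleton.1 hm
      rw [← hc, hQ.polar_bilinear.smul_left, polar_self_of_singular hQ hQy, mul_zero] at hy'y
      exact zero_ne_one hy'y)
      (S := pKer hQ (κ - (polar Q y' κ) • y))
      (by
        show polar Q y' _ = 0
        rw [polar_sub_r hQ, hQ.polar_bilinear.smul_right, hy'y, mul_one, sub_self])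
      (by
        show polar Q y _ = 0
        rw [polar_sub_r hQ, hQ.polar_bilinear.smul_right, ← pDual_dot hQ, hχy,
          polar_self_of_singular hQ hQy, mul_zero, sub_zero]) (resid_mem hQ h x)
    have h0 : polar Q (x - polar Q x f • e - polar Q x e • f) (κ - (polar Q y' κ) • y) = 0 := hmem
    simp only [pDual_dot hQ] at he hf ⊢
    simp only [polar_sub_l hQ, polar_sub_r hQ, hQ.polar_bilinear.smul_left,
      hQ.polar_bilinear.smul_right, QuadraticMap.polar_comm Q e y, QuadraticMap.polar_comm Q f y,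
      hye, hyf, he, hf] at h0
    linear_combination h0
  set α := φ ⬝ᵥ y'
  set β := pDual Q η ⬝ᵥ y'
  have hβ : β ≠ 0 := fun hb => hψ (dotProduct_eq_zero _ fun x => by
    rw [hprop _ hψe hψf hψy x]; show β * _ = 0; rw [hb, zero_mul])
  set p := α • e + β • f with hpdef
  have hpy : polar Q p y = 0 := by
    rw [hpdef, hQ.polar_bilinear.add_left, hQ.polar_bilinear.smul_left, hQ.polar_bilinear.smul_left,
      QuadraticMap.polar_comm Q e y, QuadraticMap.polar_comm Q f y, hye, hyf, mul_zero, mul_zero,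
      add_zero]
  have hTp : HasTv M p (pDual Q y) := ⟨by rw [pDual_dot hQ]; exact hpy, T, hT,
    Matrix.ext_iff_mulVec.2 fun x => by
      rw [hTv, tvMat_mulVec, hprop φ hφe hφf hφy x, hprop _ hψe hψf hψy x, pDual_dot hQ x y, hpdef]
      module⟩
  have hey : polar Q e y = 0 := (QuadraticMap.polar_comm Q e y).trans hye
  have hTyy : HasTv M y ((-β) • pDual Q y) := by
    have h3 := HasTv.pconj hQ hTp (eichGL_mem hQ hS h.1 hey) (eich_iso hQ h.1 hey)
    rw [eichGL_mulVec hQ h.1 hey, eichGL_mulVec hQ h.1 hey] at h3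
    simp only [hpy, hQy, polar_self_of_singular hQ hQy, hye, zero_mul, mul_zero, sub_zero, zero_smul,
      add_zero] at h3
    have hpe : polar Q p e = β := by
      rw [hpdef, hQ.polar_bilinear.add_left, hQ.polar_bilinear.smul_left, hQ.polar_bilinear.smul_left,
        hfe, polar_self_of_singular hQ h.1]; ring
    rw [hpe] at h3
    have h4 : HasTv M ((-1 : F) • p) (pDual Q y) := by
      rw [hasTv_smul_iff (neg_ne_zero.2 one_ne_zero), neg_one_smul]; exact hTp.neg
    have h5 := h3.add_left h4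
    rw [show p - β • y + (-1 : F) • p = (-β) • y by module, hasTv_smul_iff (neg_ne_zero.2 hβ)] at h5
    exact h5
  have hy'e : polar Q y' e = 0 := hy'.1
  have hfy : polar Q f (-y) = 0 := by
    rw [polar_neg_r hQ, QuadraticMap.polar_comm Q f y, hyf, neg_zero]
  have hee : HasTv M e ((-β) • pDual Q e) := by
    rw [← pDual_smul hQ] at hTyy
    have h3 := HasTv.pconj hQ (HasTv.pconj hQ hTyy (eichGL_mem hQ hS hQy' hy'e)
      (eich_iso hQ hQy' hy'e)) (eichGL_mem hQ hS h.2.1 hfy) (eich_iso hQ h.2.1 hfy)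
    have he1 : (eichGL hQ y' e hQy' hy'e : Matrix ι ι F) *ᵥ y = y - e := by
      rw [eichGL_mulVec hQ hQy' hy'e, hye, h.1, hyy']; module
    have he2 : (eichGL hQ f (-y) h.2.1 hfy : Matrix ι ι F) *ᵥ (y - e) = (-1 : F) • e := by
      rw [eichGL_mulVec hQ h.2.1 hfy, quad_neg hQ, hQy]
      simp only [polar_sub_l hQ, polar_neg_r hQ, hyf, h.2.2, hey, polar_self_of_singular hQ hQy]
      module
    simp only [mulVec_smul, he1, he2, pDual_smul hQ] at h3
    rw [hasTv_smul_iff (neg_ne_zero.2 one_ne_zero), smul_smul, smul_smul] at h3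
    convert h3 using 1
    module
  have h6 := hTp.comm hee (by rw [pDual_dot hQ]; exact hey)
  refine fin _ ?_ ?_ ?_ h6
  · refine smul_ne_zero ?_ (fun h0 => hy0 ((pDual_eq_zero hQ).1 h0))
    rw [smul_dotProduct, pDual_dot hQ, hpdef, hQ.polar_bilinear.add_left, hQ.polar_bilinear.smul_left,
      hQ.polar_bilinear.smul_left, hfe, polar_self_of_singular hQ h.1, smul_eq_mul]
    simpa using hβ
  · rw [smul_dotProduct, pDual_dot hQ, hey, smul_zero]
  · rw [smul_dotProduct, pDual_dot hQ, QuadraticMap.polar_comm Q f y, hyf, smul_zero]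

/-- A plane that is non-degenerate for the transported form gives `SL`. -/
theorem specialLinear_le_of_plane
    (hS : Cfsg.Geo.quadSimilarityGroup Q ⊓ Cfsg.Geo.specialLinear ι F ≤ M) (h2 : (2 : F) ≠ 0)
    (hn : Fintype.card ι = 4) {g : GL ι F} (hg : g ∈ M)
    (hd : polar Q (((g⁻¹ : GL ι F) : Matrix ι ι F) *ᵥ e) (((g⁻¹ : GL ι F) : Matrix ι ι F) *ᵥ e) *
        polar Q (((g⁻¹ : GL ι F) : Matrix ι ι F) *ᵥ f) (((g⁻¹ : GL ι F) : Matrix ι ι F) *ᵥ f) -
      polar Q (((g⁻¹ : GL ι F) : Matrix ι ι F) *ᵥ e) (((g⁻¹ : GL ι F) : Matrix ι ι F) *ᵥ f) ^ 2 ≠ 0)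
    {x₀ : ι → F} (hx₀ : x₀ ∈ pKer hQ e ⊓ pKer hQ f)
    (hx₀' : polar Q (((g⁻¹ : GL ι F) : Matrix ι ι F) *ᵥ x₀)
      (((g⁻¹ : GL ι F) : Matrix ι ι F) *ᵥ e) ≠ 0) :
    Cfsg.Geo.specialLinear ι F ≤ M := by
  have hfe : polar Q f e = 1 := h.symm.2.2
  obtain ⟨r, hri, hrd, hra, hrb, hrx⟩ := exists_flip hQ hd
  obtain ⟨s, hsi, hsd, hse, hsf, hsx⟩ := exists_flip hQ (a := e) (b := f) (by
    rw [polar_self_of_singular hQ h.1, h.2.2]; simp)
  set K := g * r * g⁻¹ with hK
  set T := s * K with hTdef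
  have hKM : K ∈ M := mul_mem (mul_mem hg (iso_mem hS hri hrd)) (inv_mem hg)
  have hTM : T ∈ M := mul_mem (iso_mem hS hsi hsd) hKM
  have hKv : ∀ x, (K : Matrix ι ι F) *ᵥ x =
      (g : Matrix ι ι F) *ᵥ ((r : Matrix ι ι F) *ᵥ (((g⁻¹ : GL ι F) : Matrix ι ι F) *ᵥ x)) := fun x => by
    simp only [hK, Units.val_mul, ← mulVec_mulVec]
  have hTe : (T : Matrix ι ι F) *ᵥ e = e := by
    rw [hTdef, Units.val_mul, ← mulVec_mulVec, hKv, hra, mulVec_neg, mulVec_mulVec_inv, mulVec_neg,
      hse, neg_neg]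
  have hTf : (T : Matrix ι ι F) *ᵥ f = f := by
    rw [hTdef, Units.val_mul, ← mulVec_mulVec, hKv, hrb, mulVec_neg, mulVec_mulVec_inv, mulVec_neg,
      hsf, neg_neg]
  have hTx : ∀ x, ∃ c d : F, (T : Matrix ι ι F) *ᵥ x = x + c • e + d • f := by
    intro x
    obtain ⟨c, d, hcd⟩ := hrx (((g⁻¹ : GL ι F) : Matrix ι ι F) *ᵥ x)
    obtain ⟨c', d', hcd'⟩ := hsx x
    refine ⟨c' - c, d' - d, ?_⟩
    rw [hTdef, Units.val_mul, ← mulVec_mulVec, hKv, hcd]
    simp only [mulVec_add, mulVec_smul, mulVec_mulVec_inv, hse, hsf, hcd']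
    module
  set φ := (pDual Q f ᵥ* ((T : Matrix ι ι F) - 1)) with hφdef
  set ψ := (pDual Q e ᵥ* ((T : Matrix ι ι F) - 1)) with hψdef
  have hTv : ∀ x, (T : Matrix ι ι F) *ᵥ x = x + (φ ⬝ᵥ x) • e + (ψ ⬝ᵥ x) • f := by
    intro x
    obtain ⟨c, d, hcd⟩ := hTx x
    have hc : φ ⬝ᵥ x = c := by
      rw [hφdef, ← dotProduct_mulVec, sub_mulVec, one_mulVec, pDual_dot hQ, hcd,
        show x + c • e + d • f - x = c • e + d • f by abel, hQ.polar_bilinear.add_left,
        hQ.polar_bilinear.smul_left, hQ.polar_bilinear.smul_left, h.2.2,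
        polar_self_of_singular hQ h.2.1]
      ring
    have hd' : ψ ⬝ᵥ x = d := by
      rw [hψdef, ← dotProduct_mulVec, sub_mulVec, one_mulVec, pDual_dot hQ, hcd,
        show x + c • e + d • f - x = c • e + d • f by abel, hQ.polar_bilinear.add_left,
        hQ.polar_bilinear.smul_left, hQ.polar_bilinear.smul_left, hfe,
        polar_self_of_singular hQ h.1]
      ring
    rw [hcd, hc, hd']
  have h0 : ∀ (χ z : ι → F), (T : Matrix ι ι F) *ᵥ z = z →
      (χ ᵥ* ((T : Matrix ι ι F) - 1)) ⬝ᵥ z = 0 := fun χ z hz => by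
    rw [← dotProduct_mulVec, sub_mulVec, one_mulVec, hz, sub_self, dotProduct_zero]
  refine specialLinear_le_of_plane_elem hQ h hS h2 hn hTM hTv (h0 _ e hTe) (h0 _ f hTf) (h0 _ e hTe)
    (h0 _ f hTf) ?_
  by_contra hcon
  simp only [not_or, not_not] at hcon
  have hTx₀ : (T : Matrix ι ι F) *ᵥ x₀ = x₀ := by
    rw [hTv, hcon.1, hcon.2, zero_dotProduct, zero_smul, zero_smul, add_zero, add_zero]
  have hsx₀ : (s : Matrix ι ι F) *ᵥ x₀ = x₀ := by
    obtain ⟨c, d, hcd⟩ := hsx x₀
    have hxe : polar Q x₀ e = 0 := hx₀.1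
    have hxf : polar Q x₀ f = 0 := hx₀.2
    have e1 := hsi.polar x₀ e
    have e2 := hsi.polar x₀ f
    rw [hse, hcd, polar_neg_r hQ, hQ.polar_bilinear.add_left, hQ.polar_bilinear.add_left,
      hQ.polar_bilinear.smul_left, hQ.polar_bilinear.smul_left, hxe, hfe,
      polar_self_of_singular hQ h.1] at e1
    rw [hsf, hcd, polar_neg_r hQ, hQ.polar_bilinear.add_left, hQ.polar_bilinear.add_left,
      hQ.polar_bilinear.smul_left, hQ.polar_bilinear.smul_left, hxf, h.2.2,
      polar_self_of_singular hQ h.2.1] at e2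
    rw [hcd, show d = 0 by linear_combination -e1, show c = 0 by linear_combination -e2]
    simp
  have hKx₀ : (K : Matrix ι ι F) *ᵥ x₀ = x₀ := by
    have := congrArg (((s⁻¹ : GL ι F) : Matrix ι ι F) *ᵥ ·) (hTx₀.trans hsx₀.symm)
    simp only [hTdef, Units.val_mul, ← mulVec_mulVec, inv_mulVec_mulVec] at this
    exact this
  have hrx₀ := congrArg (((g⁻¹ : GL ι F) : Matrix ι ι F) *ᵥ ·) hKx₀
  simp only [hKv, inv_mulVec_mulVec] at hrx₀
  have e3 := hri.polar (((g⁻¹ : GL ι F) : Matrix ι ι F) *ᵥ x₀) (((g⁻¹ : GL ι F) : Matrix ι ι F) *ᵥ e)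
  rw [hrx₀, hra, polar_neg_r hQ] at e3
  exact hx₀' ((mul_eq_zero.1 (by linear_combination -e3 : (2 : F) * _ = 0)).resolve_left h2)

omit h

/-- A symmetric form of this shape is degenerate. -/
theorem false_of_rank_one {G : Matrix ι ι F} (hn : 2 ≤ Fintype.card ι)
    (hG : ∀ z, (∀ x, polar Q (G *ᵥ z) (G *ᵥ x) = 0) → z = 0) {e : ι → F}
    (hne : polar Q (G *ᵥ e) (G *ᵥ e) ≠ 0)
    (hH : ∀ x x', polar Q (G *ᵥ e) (G *ᵥ e) * polar Q (G *ᵥ x) (G *ᵥ x') =
      polar Q (G *ᵥ e) (G *ᵥ x) * polar Q (G *ᵥ e) (G *ᵥ x')) : False := by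
  obtain ⟨z, hz, hz0⟩ := Submodule.exists_mem_ne_zero_of_ne_bot
    (p := LinearMap.ker (((pBil hQ) (G *ᵥ e)).comp (Matrix.toLin' G))) (fun hb => by
      have h1 := CfsgLib.MaxSub.finrank_le_inf_ker (⊤ : Submodule F (ι → F))
        (((pBil hQ) (G *ᵥ e)).comp (Matrix.toLin' G))
      rw [hb, top_inf_eq, finrank_bot, finrank_top, Module.finrank_fintype_fun_eq_card] at h1
      omega)
  refine hz0 (hG z fun x => ?_)
  have hz : polar Q (G *ᵥ e) (G *ᵥ z) = 0 := hz
  have := hH z x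
  rw [hz, zero_mul] at this
  exact (mul_eq_zero.1 this).resolve_left hne

/-- An element that is not a similarity has a suitable plane. -/
theorem exists_plane (h2 : (2 : F) ≠ 0) (hn : Fintype.card ι = 4) {g : GL ι F}
    (hg : g ∉ Cfsg.Geo.quadSimilarityGroup Q) :
    ∃ (e f x : ι → F) (_ : IsHyp Q e f),
      polar Q (((g⁻¹ : GL ι F) : Matrix ι ι F) *ᵥ e) (((g⁻¹ : GL ι F) : Matrix ι ι F) *ᵥ e) *
          polar Q (((g⁻¹ : GL ι F) : Matrix ι ι F) *ᵥ f) (((g⁻¹ : GL ι F) : Matrix ι ι F) *ᵥ f) -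
        polar Q (((g⁻¹ : GL ι F) : Matrix ι ι F) *ᵥ e) (((g⁻¹ : GL ι F) : Matrix ι ι F) *ᵥ f) ^ 2 ≠ 0 ∧
      x ∈ pKer hQ e ⊓ pKer hQ f ∧
      polar Q (((g⁻¹ : GL ι F) : Matrix ι ι F) *ᵥ x) (((g⁻¹ : GL ι F) : Matrix ι ι F) *ᵥ e) ≠ 0 := by
  set G := ((g⁻¹ : GL ι F) : Matrix ι ι F) with hGdef
  have hG : ∀ z, (∀ x, polar Q (G *ᵥ z) (G *ᵥ x) = 0) → z = 0 := by
    intro z hz
    by_contra hz0
    have hGz : G *ᵥ z ≠ 0 := fun h0 => hz0 (by
      have := congrArg ((g : Matrix ι ι F) *ᵥ ·) h0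
      simpa [hGdef, mulVec_mulVec_inv] using this)
    obtain ⟨y, hy⟩ := (hQ.nondegenerate _ hGz).2
    exact hy (by rw [← inv_mulVec_mulVec g y]; exact hz _)
  have hyp_of : ∀ u : ι → F, u ≠ 0 → Q u = 0 → ∃ v, IsHyp Q u v := by
    intro u hu0 hu
    obtain ⟨x, hx⟩ := (hQ.nondegenerate u hu0).2
    refine ⟨(polar Q u x)⁻¹ • x + (-Q ((polar Q u x)⁻¹ • x)) • u, hu, ?_, ?_⟩
    · have e1 : polar Q ((polar Q u x)⁻¹ • x) u = 1 := by
        rw [hQ.polar_bilinear.smul_left, QuadraticMap.polar_comm Q x u, inv_mul_cancel₀ hx]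
      rw [quad_add_smul hQ, hu, e1]; ring
    · rw [hQ.polar_bilinear.add_right, hQ.polar_bilinear.smul_right, hQ.polar_bilinear.smul_right,
        polar_self_of_singular hQ hu, inv_mul_cancel₀ hx, mul_zero, add_zero]
  -- a singular vector moved by the transported form
  obtain ⟨e, f, h, x₁, hx₁, hx₁'⟩ : ∃ (e f : ι → F) (_ : IsHyp Q e f) (x : ι → F),
      polar Q x e = 0 ∧ polar Q (G *ᵥ x) (G *ᵥ e) ≠ 0 := by
    by_contra hno
    push Not at hno
    obtain ⟨e, -, he0, he⟩ := exists_singular hQ h2 (W := (⊤ : Submodule F (ι → F)))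
      (by rw [finrank_top, Module.finrank_fintype_fun_eq_card]; omega)
    obtain ⟨f, h⟩ := hyp_of e he0 he
    set c := polar Q (G *ᵥ f) (G *ᵥ e) with hc
    have hsing : ∀ u v, IsHyp Q u v → ∀ x,
        polar Q (G *ᵥ x) (G *ᵥ u) = polar Q (G *ᵥ v) (G *ᵥ u) * polar Q x u := by
      intro u v huv x
      have := hno u v huv (x - polar Q x u • v) (by
        rw [polar_sub_l hQ, hQ.polar_bilinear.smul_left, huv.symm.2.2, mul_one, sub_self])
      rw [mulVec_sub, mulVec_smul, polar_sub_l hQ, hQ.polar_bilinear.smul_left] at this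
      linear_combination this
    let L : Submodule F (ι → F) :=
      { carrier := {u | ∀ x, polar Q (G *ᵥ x) (G *ᵥ u) = c * polar Q x u}
        add_mem' := fun {p r} hp hr x => by
          show polar Q (G *ᵥ x) (G *ᵥ (p + r)) = _
          rw [mulVec_add, hQ.polar_bilinear.add_right, hQ.polar_bilinear.add_right, hp x, hr x]; ring
        zero_mem' := fun x => by
          show polar Q (G *ᵥ x) (G *ᵥ 0) = _
          rw [mulVec_zero, polar_zero_r hQ, polar_zero_r hQ, mul_zero]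
        smul_mem' := fun t p hp x => by
          show polar Q (G *ᵥ x) (G *ᵥ (t • p)) = _
          rw [mulVec_smul, hQ.polar_bilinear.smul_right, hQ.polar_bilinear.smul_right, hp x]; ring }
    have heL : e ∈ L := fun x => hsing e f h x
    have hfy : ∀ y ∈ pKer hQ e ⊓ pKer hQ f, f + y + (-Q y) • e ∈ L := by
      intro y hy x
      have hye : polar Q y e = 0 := hy.1
      have hyf : polar Q y f = 0 := hy.2
      have hh : IsHyp Q (f + y + (-Q y) • e) e := by
        refine ⟨?_, he, ?_⟩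
        · rw [quad_add_smul hQ, he, quad_add hQ, h.2.1, hQ.polar_bilinear.add_left,
            QuadraticMap.polar_comm Q f y, hyf, h.symm.2.2, hye]
          ring
        · rw [hQ.polar_bilinear.add_left, hQ.polar_bilinear.add_left, hQ.polar_bilinear.smul_left,
            h.symm.2.2, hye, polar_self_of_singular hQ he]
          ring
      have h1 := hsing _ _ hh x
      have hval := heL (f + y + (-Q y) • e)
      rw [hh.2.2, mul_one, QuadraticMap.polar_comm] at hval
      rwa [hval] at h1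
    have hfL : f ∈ L := by
      have := hfy 0 (zero_mem _)
      rwa [quad_zero hQ, neg_zero, zero_smul, add_zero, add_zero] at this
    have hWL : pKer hQ e ⊓ pKer hQ f ≤ L := fun y hy => by
      have h3 : y + (-Q y) • e ∈ L := by
        have := L.sub_mem (hfy y hy) hfL
        rwa [show f + y + (-Q y) • e - f = y + (-Q y) • e by abel] at this
      simpa using L.sub_mem h3 (L.smul_mem (-Q y) heL)
    have hall : ∀ u, u ∈ L := fun u => by
      have := L.add_mem (L.add_mem (hWL (resid_mem hQ h u)) (L.smul_mem (polar Q u f) heL))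
        (L.smul_mem (polar Q u e) hfL)
      convert this using 1
      module
    have hc0 : c ≠ 0 := fun hc0 => he0 (hG e fun x => by
      rw [QuadraticMap.polar_comm, heL x, hc0, zero_mul])
    refine hg ⟨Units.mk0 c⁻¹ (inv_ne_zero hc0), fun v => ?_⟩
    have := hall ((g : Matrix ι ι F) *ᵥ v) ((g : Matrix ι ι F) *ᵥ v)
    rw [hGdef, inv_mulVec_mulVec, polar_self' hQ, polar_self' hQ] at this
    rw [Units.val_mk0]
    field_simp
    exact mul_left_cancel₀ h2 (by linear_combination -this)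
  have hfe : polar Q f e = 1 := h.symm.2.2
  set a := polar Q (G *ᵥ e) (G *ᵥ e) with ha
  -- the candidates `⟨e, f + y⟩`
  have cand : ∀ y ∈ pKer hQ e ⊓ pKer hQ f, ∀ z ∈ pKer hQ e ⊓ pKer hQ f,
      polar Q (G *ᵥ z) (G *ᵥ e) - polar Q z y * a ≠ 0 →
      a * polar Q (G *ᵥ (f + y)) (G *ᵥ (f + y)) - polar Q (G *ᵥ e) (G *ᵥ (f + y)) ^ 2 ≠ 0 →
      ∃ (e f x : ι → F) (_ : IsHyp Q e f),
        polar Q (G *ᵥ e) (G *ᵥ e) * polar Q (G *ᵥ f) (G *ᵥ f) - polar Q (G *ᵥ e) (G *ᵥ f) ^ 2 ≠ 0 ∧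
        x ∈ pKer hQ e ⊓ pKer hQ f ∧ polar Q (G *ᵥ x) (G *ᵥ e) ≠ 0 := by
    intro y hy z hz hmove hdet
    have hye : polar Q y e = 0 := hy.1
    have hyf : polar Q y f = 0 := hy.2
    have hze : polar Q z e = 0 := hz.1
    have hzf : polar Q z f = 0 := hz.2
    refine ⟨e, f + y + (-Q y) • e, z + (-polar Q z y) • e, ⟨h.1, ?_, ?_⟩, ?_, ⟨?_, ?_⟩, ?_⟩
    · rw [quad_add_smul hQ, h.1, quad_add hQ, h.2.1, hQ.polar_bilinear.add_left,
        QuadraticMap.polar_comm Q f y, hyf, hfe, hye]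
      ring
    · rw [hQ.polar_bilinear.add_right, hQ.polar_bilinear.add_right, hQ.polar_bilinear.smul_right,
        h.2.2, QuadraticMap.polar_comm Q e y, hye, polar_self_of_singular hQ h.1]
      ring
    · intro h0
      refine hdet (Eq.trans ?_ h0)
      rw [mulVec_add (G) (f + y), mulVec_smul]
      simp only [hQ.polar_bilinear.add_left, hQ.polar_bilinear.add_right,
        hQ.polar_bilinear.smul_left, hQ.polar_bilinear.smul_right,
        QuadraticMap.polar_comm Q (G *ᵥ (f + y)) (G *ᵥ e), ← ha]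
      ring
    · show polar Q _ e = 0
      rw [hQ.polar_bilinear.add_left, hQ.polar_bilinear.smul_left, hze,
        polar_self_of_singular hQ h.1, mul_zero, add_zero]
    · show polar Q _ (f + y + (-Q y) • e) = 0
      simp only [hQ.polar_bilinear.add_left, hQ.polar_bilinear.add_right,
        hQ.polar_bilinear.smul_left, hQ.polar_bilinear.smul_right, hze, hzf, h.2.2,
        QuadraticMap.polar_comm Q e y, hye, polar_self_of_singular hQ h.1]
      ring
    · rw [mulVec_add, mulVec_smul, hQ.polar_bilinear.add_left, hQ.polar_bilinear.smul_left, ← ha]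
      intro h0
      exact hmove (by linear_combination h0)
  have hx₁eq : x₁ - polar Q x₁ f • e - polar Q x₁ e • f = x₁ - polar Q x₁ f • e := by
    rw [hx₁, zero_smul, sub_zero]
  by_cases ha0 : a = 0
  · -- every candidate moves; choose one with non-zero off-diagonal entry
    set z := x₁ - polar Q x₁ f • e with hzdef
    have hz : z ∈ pKer hQ e ⊓ pKer hQ f := by rw [← hx₁eq]; exact resid_mem hQ h x₁
    have hzne : polar Q (G *ᵥ z) (G *ᵥ e) ≠ 0 := by
      rw [hzdef, mulVec_sub, mulVec_smul, polar_sub_l hQ, hQ.polar_bilinear.smul_left, ← ha, ha0,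
        mul_zero, sub_zero]
      exact hx₁'
    by_cases hef : polar Q (G *ᵥ e) (G *ᵥ f) = 0
    · refine cand z hz z hz (by simpa [ha0] using hzne) ?_
      rw [ha0, mulVec_add, zero_mul, hQ.polar_bilinear.add_right (G *ᵥ e), hef, zero_add, zero_sub,
        neg_ne_zero, QuadraticMap.polar_comm]
      exact pow_ne_zero 2 hzne
    · refine cand 0 (zero_mem _) z hz (by simpa [ha0] using hzne) ?_
      rw [ha0, add_zero, zero_mul, zero_sub, neg_ne_zero]
      exact pow_ne_zero 2 hef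
  · by_contra hno
    -- only one candidate fails to move
    let H : (ι → F) → (ι → F) → F := fun x x' =>
      a * polar Q (G *ᵥ x) (G *ᵥ x') - polar Q (G *ᵥ e) (G *ᵥ x) * polar Q (G *ᵥ e) (G *ᵥ x')
    have Hadd : ∀ x x' u, H (x + x') u = H x u + H x' u := fun x x' u => by
      simp only [H, mulVec_add, hQ.polar_bilinear.add_left, hQ.polar_bilinear.add_right]; ring
    have Hsmul : ∀ (t : F) x u, H (t • x) u = t * H x u := fun t x u => by
      simp only [H, mulVec_smul, hQ.polar_bilinear.smul_left, hQ.polar_bilinear.smul_right]; ring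
    have Hcomm : ∀ x u, H x u = H u x := fun x u => by
      simp only [H, QuadraticMap.polar_comm Q (G *ᵥ x) (G *ᵥ u)]; ring
    have He : ∀ u, H e u = 0 := fun u => by simp only [H, ← ha]; ring
    let W := pKer hQ e ⊓ pKer hQ f
    have hz1 : ∀ y ∈ W, (∃ z ∈ W, polar Q (G *ᵥ z) (G *ᵥ e) ≠ polar Q z y * a) →
        H (f + y) (f + y) = 0 := by
      intro y hy hex
      obtain ⟨z, hz, hzne⟩ := hex
      by_contra hdet
      exact hno (cand y hy z hz (sub_ne_zero.2 hzne) (fun h0 => hdet (by simp only [H]; linear_combination h0)))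
    have huniq : ∀ y ∈ W, ∀ y' ∈ W, (∀ z ∈ W, polar Q (G *ᵥ z) (G *ᵥ e) = polar Q z y * a) →
        (∀ z ∈ W, polar Q (G *ᵥ z) (G *ᵥ e) = polar Q z y' * a) → y = y' := by
      intro y hy y' hy' h3 h4
      by_contra hyy
      obtain ⟨z, hz, hzy⟩ := exists_partner hQ h (sub_mem hy hy') (sub_ne_zero.2 hyy)
      have := (h3 z hz).symm.trans (h4 z hz)
      rw [polar_sub_r hQ] at hzy
      exact ha0 (by linear_combination this - a * hzy)
    obtain ⟨y₁, hy₁, hoff⟩ : ∃ y₁ ∈ W, ∀ y ∈ W, y ≠ y₁ → H (f + y) (f + y) = 0 := by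
      by_cases hb : ∃ y ∈ W, ∀ z ∈ W, polar Q (G *ᵥ z) (G *ᵥ e) = polar Q z y * a
      · obtain ⟨y₁, hy₁, hy₁'⟩ := hb
        refine ⟨y₁, hy₁, fun y hy hne => hz1 y hy ?_⟩
        by_contra hc
        push Not at hc
        exact hne (huniq y hy y₁ hy₁ hc hy₁')
      · push Not at hb
        exact ⟨0, zero_mem _, fun y hy _ => hz1 y hy (hb y hy)⟩
    have hdim := finrank_W hQ h hn
    have hindep : ∀ z ∈ W, z ≠ 0 → ∃ z' ∈ W, z' ∉ Submodule.span F ({z} : Set (ι → F)) := by
      intro z hz hz0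
      by_contra hc
      push Not at hc
      have := Submodule.finrank_mono (hc : W ≤ Submodule.span F ({z} : Set (ι → F)))
      rw [finrank_span_singleton hz0] at this
      have : Module.finrank F W = 2 := hdim
      omega
    have line : ∀ z ∈ W, ∀ z' ∈ W, z' ∉ Submodule.span F ({z} : Set (ι → F)) →
        H (f + y₁ + z') (f + y₁ + z') = 0 ∧ H z z = 0 ∧ H (f + y₁ + z') z = 0 := by
      intro z hz z' hz' hout
      have hs : ∀ t : F, H (f + y₁ + z' + t • z) (f + y₁ + z' + t • z) = 0 := fun t => by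
        have := hoff (y₁ + z' + t • z) (add_mem (add_mem hy₁ hz') (W.smul_mem t hz)) (fun heq => hout
          (Submodule.mem_span_singleton.2 ⟨-t, by
            rw [add_assoc, add_eq_left] at heq
            rw [neg_smul]; exact (eq_neg_of_add_eq_zero_left heq).symm⟩))
        rwa [show f + (y₁ + z' + t • z) = f + y₁ + z' + t • z by abel] at this
      have hexp : ∀ u v (t : F), H (u + t • v) (u + t • v) = H u u + 2 * t * H u v + t ^ 2 * H v v := by
        intro u v t
        rw [Hadd, Hsmul, Hcomm u (u + t • v), Hcomm v (u + t • v), Hadd, Hsmul, Hadd, Hsmul,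
          Hcomm v u]
        ring
      have e0 : H (f + y₁ + z') (f + y₁ + z') = 0 := by simpa using hs 0
      have e1 := hs 1
      have e2 := hs (-1)
      rw [hexp, e0] at e1 e2
      exact ⟨e0, mul_left_cancel₀ h2 (by linear_combination e1 + e2),
        mul_left_cancel₀ (mul_ne_zero h2 h2) (by linear_combination e1 - e2)⟩
    have hWW : ∀ z ∈ W, H z z = 0 := by
      intro z hz
      rcases eq_or_ne z 0 with rfl | hz0
      · simp [H, polar_zero_l hQ, polar_zero_r hQ]
      · obtain ⟨z', hz', hout⟩ := hindep z hz hz0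
        exact (line z hz z' hz' hout).2.1
    have hWW' : ∀ z ∈ W, ∀ z' ∈ W, H z z' = 0 := by
      intro z hz z' hz'
      have := hWW _ (add_mem hz hz')
      rw [Hadd, Hcomm z (z + z'), Hcomm z' (z + z'), Hadd, Hadd, hWW z hz, hWW z' hz',
        Hcomm z' z] at this
      exact mul_left_cancel₀ h2 (by linear_combination this)
    have hu₁W : ∀ z ∈ W, H (f + y₁) z = 0 := by
      intro z hz
      rcases eq_or_ne z 0 with rfl | hz0
      · simp [H, polar_zero_r hQ]
      · obtain ⟨z', hz', hout⟩ := hindep z hz hz0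
        have := (line z hz z' hz' hout).2.2
        rwa [Hadd, hWW' z' hz' z hz, add_zero] at this
    have hu₁ : H (f + y₁) (f + y₁) = 0 := by
      obtain ⟨z, hz, hz0⟩ := Submodule.exists_mem_ne_zero_of_ne_bot (p := W) (fun hb => by
        have : Module.finrank F W = 2 := hdim
        rw [hb, finrank_bot] at this
        omega)
      obtain ⟨z', hz', hout⟩ := hindep z hz hz0
      have := (line z hz z' hz' hout).1
      rw [Hadd (f + y₁) z', Hcomm (f + y₁) (f + y₁ + z'), Hcomm z' (f + y₁ + z'),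
        Hadd (f + y₁) z', Hadd (f + y₁) z', hWW z' hz', Hcomm z' (f + y₁), hu₁W z' hz'] at this
      linear_combination this
    have hfW : ∀ z ∈ W, H f z = 0 := fun z hz => by
      have := hu₁W z hz
      rwa [Hadd, hWW' y₁ hy₁ z hz, add_zero] at this
    have hff : H f f = 0 := by
      have := hu₁
      rw [Hadd, Hcomm f (f + y₁), Hcomm y₁ (f + y₁), Hadd, Hadd, hWW y₁ hy₁, Hcomm y₁ f,
        hfW y₁ hy₁] at this
      linear_combination this
    have hall : ∀ x x', H x x' = 0 := by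
      have dec : ∀ x, ∃ α β : F, ∃ r ∈ W, x = α • e + β • f + r := fun x =>
        ⟨_, _, _, resid_mem hQ h x, by abel⟩
      have hf' : ∀ x, H f x = 0 := fun x => by
        obtain ⟨α, β, r, hr, rfl⟩ := dec x
        rw [Hcomm, Hadd, Hadd, Hsmul, Hsmul, He, hff, Hcomm r f, hfW r hr]; ring
      have hW' : ∀ z ∈ W, ∀ x, H z x = 0 := fun z hz x => by
        obtain ⟨α, β, r, hr, rfl⟩ := dec x
        rw [Hcomm, Hadd, Hadd, Hsmul, Hsmul, He, hf', hWW' r hr z hz]; ring
      intro x x'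
      obtain ⟨α, β, r, hr, rfl⟩ := dec x
      rw [Hadd, Hadd, Hsmul, Hsmul, He, hf', hW' r hr]; ring
    exact false_of_rank_one hQ (by omega) hG ha0 fun x x' => by
      have := hall x x'
      simp only [H] at this
      linear_combination this

theorem specialLinear_le
    (hS : Cfsg.Geo.quadSimilarityGroup Q ⊓ Cfsg.Geo.specialLinear ι F ≤ M) (h2 : (2 : F) ≠ 0)
    (hn : Fintype.card ι = 4) {g : GL ι F} (hg : g ∈ M)
    (hgS : g ∉ Cfsg.Geo.quadSimilarityGroup Q) : Cfsg.Geo.specialLinear ι F ≤ M := by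
  obtain ⟨e, f, x, h, hd, hx, hx'⟩ := exists_plane hQ h2 hn hgS
  exact specialLinear_le_of_plane hQ h hS h2 hn hg hd hx hx'

end CfsgLib.MaxSub.QuadFour

namespace CfsgLib.MaxSub.SlFour

open Matrix CfsgLib.MaxSub

/-- For a finite field of odd order, the similarities of a non-degenerate quadratic form on `F⁴`
form a maximal subgroup of `SL₄(F)`. -/
theorem quad_maximal_four {F : Type*} [Field F] [Fintype F] (hodd : Odd (Fintype.card F))
    (Q : (Fin 4 → F) → F) (hQ : Cfsg.Geo.IsNondegenerateQuadraticForm Q) :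
    Cfsg.Geo.IsMaximalIn (Cfsg.Geo.specialLinear (Fin 4) F)
      (Cfsg.Geo.quadSimilarityGroup Q ⊓ Cfsg.Geo.specialLinear (Fin 4) F) := by
  have h2 : (2 : F) ≠ 0 := by
    intro h
    have hc : ringChar F = 2 := by
      have := CharP.charP_iff_prime_eq_zero Nat.prime_two |>.2 (by exact_mod_cast h : ((2 : ℕ) : F) = 0)
      exact ringChar.eq F 2
    exact (Nat.not_even_iff_odd.2 hodd) (Nat.even_iff.2 (FiniteField.even_card_of_char_two hc))
  refine isMaximalIn_of_lt (lt_of_le_of_ne inf_le_right fun he => ?_) fun M hH hM g hg hgH =>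
    QuadFour.specialLinear_le hQ hH h2 (Fintype.card_fin 4) hg fun hgS => hgH ⟨hgS, hM hg⟩
  obtain ⟨u, -, hu0, hu⟩ := exists_singular hQ h2 (W := (⊤ : Submodule F (Fin 4 → F))) (by
    rw [finrank_top, Module.finrank_fin_fun]; omega)
  have hd : pDual Q u ⬝ᵥ u = 0 := by rw [pDual_dot hQ, polar_self' hQ, hu, mul_zero]
  have hT := tvGL_mem_specialLinear u (pDual Q u) hd
  rw [← he] at hT
  obtain ⟨c, hc⟩ := hT.1
  obtain ⟨x, hx⟩ := (hQ.nondegenerate u hu0).1
  set y := x + (-Q x / QuadraticMap.polar Q x u) • u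
  have hQy : Q y = 0 := by
    rw [quad_add_smul hQ, hu, div_mul_cancel₀ _ hx]; ring
  have hyu : QuadraticMap.polar Q y u = QuadraticMap.polar Q x u := by
    rw [hQ.polar_bilinear.add_left, hQ.polar_bilinear.smul_left, polar_self' hQ, hu]; ring
  have h1 := hc y
  rw [coe_tvGL, tvMat_mulVec, pDual_dot hQ, quad_add_smul hQ, hQy, hu, mul_zero, hyu] at h1
  exact hx (mul_self_eq_zero.1 (by linear_combination h1))

end CfsgLib.MaxSub.SlFour
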