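import Cfsg.Agent.Lib.MaxSub.Quad

/-!
Overgroups of the elements `1 + u v* - v u*` of a quadratic form in large dimension: one suitable transvection
gives `SL`, and an element of small residual space gives a transvection by a commutator.
-/

set_option autoImplicit false
set_option linter.unusedSectionVars false

namespace CfsgLib.MaxSub

open Matrix QuadraticMap
open scoped MatrixGroups

variable {ι : Type} [Fintype ι] [DecidableEq ι] {F : Type*} [Field F] {Q : (ι → F) → F}
  (hQ : Cfsg.Geo.IsNondegenerateQuadraticForm Q)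

/-- The element `1 + u v* - v u*` for singular orthogonal `u, v`. -/
def siegGL (u v : ι → F) (hu : Q u = 0) (huv : polar Q u v = 0) : GL ι F :=
  tvGL u (pDual Q v) (by rw [pDual_dot hQ, huv]) *
    tvGL v (-pDual Q u) (by rw [neg_dotProduct, pDual_dot hQ, QuadraticMap.polar_comm, huv, neg_zero])

/-- `M` contains all the elements `1 + u v* - v u*`. -/
def HasSieg (M : Subgroup (GL ι F)) : Prop :=
  ∀ (u v : ι → F) (hu : Q u = 0) (_ : Q v = 0) (huv : polar Q u v = 0), siegGL hQ u v hu huv ∈ M

theorem siegGL_mulVec {u v : ι → F} (hu : Q u = 0) (hv : Q v = 0) (huv : polar Q u v = 0) (x : ι → F) :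
    (siegGL hQ u v hu huv : Matrix ι ι F) *ᵥ x = x + polar Q x v • u - polar Q x u • v := by
  rw [siegGL, Units.val_mul, ← mulVec_mulVec, coe_tvGL, coe_tvGL, tvMat_mulVec, tvMat_mulVec,
    neg_dotProduct, pDual_dot hQ, pDual_dot hQ, hQ.polar_bilinear.add_left, hQ.polar_bilinear.smul_left,
    polar_self' hQ, hv]
  simp only [mul_zero, add_zero, neg_smul]
  abel

theorem vecMul_siegGL_inv {u v : ι → F} (hu : Q u = 0) (huv : polar Q u v = 0) (φ : ι → F) :
    φ ᵥ* (((siegGL hQ u v hu huv)⁻¹ : GL ι F) : Matrix ι ι F) =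
      φ + (φ ⬝ᵥ v) • pDual Q u - (φ ⬝ᵥ u) • pDual Q v := by
  rw [siegGL, _root_.mul_inv_rev, Units.val_mul, ← vecMul_vecMul]
  show φ ᵥ* tvMat v (- -pDual Q u) ᵥ* tvMat u (-pDual Q v) = _
  rw [vecMul_tvMat, vecMul_tvMat, neg_neg, add_dotProduct, smul_dotProduct, pDual_dot hQ, polar_self' hQ, hu]
  simp only [mul_zero, smul_zero, add_zero, smul_neg]
  abel

theorem pDual_siegGL {u v : ι → F} (hu : Q u = 0) (hv : Q v = 0) (huv : polar Q u v = 0) (x : ι → F) :
    pDual Q ((siegGL hQ u v hu huv : Matrix ι ι F) *ᵥ x) =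
      pDual Q x ᵥ* (((siegGL hQ u v hu huv)⁻¹ : GL ι F) : Matrix ι ι F) := by
  rw [siegGL_mulVec hQ hu hv, vecMul_siegGL_inv, pDual_dot hQ, pDual_dot hQ, sub_eq_add_neg,
    pDual_add hQ, pDual_add hQ, pDual_smul hQ, ← neg_smul, pDual_smul hQ, QuadraticMap.polar_comm Q v x,
    QuadraticMap.polar_comm Q u x, neg_smul, sub_eq_add_neg]

variable {M : Subgroup (GL ι F)}
include hQ

theorem sieg_conj (hM : HasSieg hQ M) {a φ u v : ι → F} (h : HasTv M a φ) (hu : Q u = 0) (hv : Q v = 0)
    (huv : polar Q u v = 0) :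
    HasTv M (a + polar Q a v • u - polar Q a u • v) (φ + (φ ⬝ᵥ v) • pDual Q u - (φ ⬝ᵥ u) • pDual Q v) := by
  have := h.conj (hM u v hu hv huv)
  rwa [siegGL_mulVec hQ hu hv, vecMul_siegGL_inv] at this

theorem sieg_transport (hM : HasSieg hQ M) {a u v : ι → F} (h : HasTv M a (pDual Q a)) (hu : Q u = 0)
    (hv : Q v = 0) (huv : polar Q u v = 0) :
    HasTv M (a + polar Q a v • u - polar Q a u • v) (pDual Q (a + polar Q a v • u - polar Q a u • v)) := by
  have := h.conj (hM u v hu hv huv)
  rwa [← pDual_siegGL hQ hu hv, siegGL_mulVec hQ hu hv] at this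

theorem sieg_transport_smul (hM : HasSieg hQ M) {a u v : ι → F} {c : F} (h : HasTv M a (c • pDual Q a))
    (hu : Q u = 0) (hv : Q v = 0) (huv : polar Q u v = 0) :
    HasTv M (a + polar Q a v • u - polar Q a u • v)
      (c • pDual Q (a + polar Q a v • u - polar Q a u • v)) := by
  have := h.conj (hM u v hu hv huv)
  rwa [smul_vecMul, ← pDual_siegGL hQ hu hv, siegGL_mulVec hQ hu hv] at this

variable (h2 : (2 : F) ≠ 0) [Finite F] (hn : 6 ≤ Fintype.card ι)
include h2 hn

theorem big_two (u v : ι → F) :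
    Fintype.card ι ≤ Module.finrank F (pKer hQ u ⊓ pKer hQ v : Submodule F (ι → F)) + 2 := by
  have h1 := finrank_pKer_ge hQ u
  have h3 := finrank_le_inf_pKer hQ (pKer hQ u) v
  omega

theorem big_three (u v w : ι → F) :
    Fintype.card ι ≤ Module.finrank F (pKer hQ u ⊓ pKer hQ v ⊓ pKer hQ w : Submodule F (ι → F)) + 3 := by
  have h1 := big_two hQ h2 hn u v
  have h3 := finrank_le_inf_pKer hQ (pKer hQ u ⊓ pKer hQ v) w
  omega

theorem finrank_span_pair_le (u v : ι → F) : Module.finrank F (Submodule.span F {u, v}) ≤ 2 := by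
  classical
  have e : ({u, v} : Set (ι → F)) = (↑({u, v} : Finset (ι → F)) : Set (ι → F)) := by simp
  rw [e]
  exact (finrank_span_finset_le_card _).trans Finset.card_le_two

/-- A vector outside a subspace is detected by the polar form. -/
theorem exists_polar_of_notMem {P : Submodule F (ι → F)} {x : ι → F} (hx : x ∉ P) :
    ∃ z, polar Q x z = 1 ∧ ∀ y ∈ P, polar Q y z = 0 := by
  obtain ⟨φ, hφ, hp⟩ := Submodule.exists_le_ker_of_notMem hx
  have key : ∀ y, (fun i => φ (Pi.single i 1)) ⬝ᵥ y = φ y := fun y => by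
    conv_rhs => rw [pi_eq_sum_univ' y, map_sum]
    refine Finset.sum_congr rfl fun i _ => ?_
    rw [map_smul, smul_eq_mul, mul_comm]
  obtain ⟨z, hz⟩ := pDual_surjective hQ ((φ x)⁻¹ • fun i => φ (Pi.single i 1))
  refine ⟨z, ?_, fun y hy => ?_⟩
  · rw [← pDual_dot hQ, hz, smul_dotProduct, key, smul_eq_mul, inv_mul_cancel₀ hφ]
  · rw [← pDual_dot hQ, hz, smul_dotProduct, key, LinearMap.mem_ker.mp (hp hy), smul_zero]

/-- From `T(a, u*)` a transvection `T(u, c u*)`. -/
theorem exists_diag (hM : HasSieg hQ M) {a u : ι → F} (hu : Q u = 0) (hu0 : u ≠ 0) (ha : a ≠ 0)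
    (h : HasTv M a (pDual Q u)) : ∃ c : F, c ≠ 0 ∧ HasTv M u (c • pDual Q u) := by
  by_cases hau : a ∈ Submodule.span F {u}
  · obtain ⟨c, hc⟩ := Submodule.mem_span_singleton.1 hau
    have hc0 : c ≠ 0 := fun e => ha (by rw [← hc, e, zero_smul])
    rw [← hc, hasTv_smul_iff hc0] at h
    exact ⟨c, hc0, h⟩
  · obtain ⟨z, hz1, hz2⟩ := exists_polar_of_notMem hQ h2 hn hau
    have hW := finrank_pKer_ge hQ u
    obtain ⟨u', hu'u, hQu', hu'a⟩ := exists_singular_avoid hQ h2 (W := pKer hQ u) (P := pKer hQ a)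
      (by omega) (fun hle => by
        have h3 : polar Q z u = 0 := by rw [QuadraticMap.polar_comm]; exact hz2 u (Submodule.mem_span_singleton_self u)
        have h4 : polar Q z a = 0 := hle h3
        rw [QuadraticMap.polar_comm, hz1] at h4
        exact one_ne_zero h4)
    set s := polar Q a u' with hs
    have hs0 : s ≠ 0 := fun e => hu'a ((QuadraticMap.polar_comm Q u' a).trans e)
    have hau0 : polar Q a u = 0 := by
      have := h.1
      rwa [pDual_dot hQ] at this
    have hu'u0 : polar Q u' u = 0 := hu'u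
    have huu : polar Q u u = 0 := by rw [polar_self' hQ, hu, mul_zero]
    have hc := sieg_conj hQ hM h (u := s⁻¹ • u') (v := u) (by rw [hQ.smul, hQu', mul_zero]) hu
      (by rw [hQ.polar_bilinear.smul_left, hu'u0, mul_zero])
    rw [hau0, zero_smul, add_zero, hQ.polar_bilinear.smul_right, ← hs, inv_mul_cancel₀ hs0, one_smul,
      pDual_dot hQ, pDual_dot hQ, huu, hQ.polar_bilinear.smul_left, hu'u0, mul_zero,
      zero_smul, zero_smul, add_zero, sub_zero] at hc
    refine ⟨1, one_ne_zero, ?_⟩
    have hneg : HasTv M ((-1 : F) • (a - u)) (pDual Q u) := by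
      rw [hasTv_smul_iff (neg_ne_zero.2 one_ne_zero), neg_one_smul]; exact hc.neg
    have h5 := h.add_left hneg
    rwa [neg_one_smul, neg_sub, add_sub_cancel, ← one_smul F (pDual Q u)] at h5

/-- `T(x, c x*)` for one singular vector gives it for all. -/
theorem diag_all (hM : HasSieg hQ M) {u : ι → F} (hu : Q u = 0) (hu0 : u ≠ 0) {c : F}
    (h : HasTv M u (c • pDual Q u)) {x : ι → F} (hx : Q x = 0) : HasTv M x (c • pDual Q x) := by
  -- orthogonal independent singular vectors
  have step : ∀ p r : ι → F, Q p = 0 → Q r = 0 → polar Q p r = 0 → p ∉ Submodule.span F {r} →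
      r ∉ Submodule.span F {p} → HasTv M p (c • pDual Q p) → HasTv M r (c • pDual Q r) := by
    intro p r hp hr hpr hp' hr' hT
    obtain ⟨z, hz1, hz2⟩ := exists_polar_of_notMem hQ h2 hn
      (P := Submodule.span F {r - p}) (x := p) (fun hm => by
        obtain ⟨t, ht⟩ := Submodule.mem_span_singleton.1 hm
        rcases eq_or_ne t 0 with rfl | ht0
        · exact hp' (by rw [← ht, zero_smul]; exact zero_mem _)
        · refine hr' (Submodule.mem_span_singleton.2 ⟨t⁻¹ + 1, ?_⟩)
          rw [add_smul, one_smul]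
          nth_rw 1 [← ht]
          rw [smul_smul, inv_mul_cancel₀ ht0, one_smul, sub_add_cancel])
    have hrz : polar Q r z = 1 := by
      have := hz2 _ (Submodule.mem_span_singleton_self (r - p))
      rw [sub_eq_add_neg, ← neg_one_smul F p, hQ.polar_bilinear.add_left, hQ.polar_bilinear.smul_left, hz1] at this
      linear_combination this
    set v := z + (-Q z) • p with hv
    have hQv : Q v = 0 := by
      rw [hv, quad_add_smul hQ, hp, QuadraticMap.polar_comm, hz1]; ring
    have hpv : polar Q p v = 1 := by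
      rw [hv, hQ.polar_bilinear.add_right, hQ.polar_bilinear.smul_right, polar_self' hQ, hp, hz1]; ring
    have hrv : polar Q r v = 1 := by
      rw [hv, hQ.polar_bilinear.add_right, hQ.polar_bilinear.smul_right, QuadraticMap.polar_comm Q r p, hpr, hrz]
      ring
    set d := r + (-1 : F) • p with hd
    have hQd : Q d = 0 := by
      rw [hd, quad_add_smul hQ, hr, hp, QuadraticMap.polar_comm, hpr]; ring
    have hdv : polar Q d v = 0 := by
      rw [hd, hQ.polar_bilinear.add_left, hQ.polar_bilinear.smul_left, hrv, hpv]; ring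
    have hpd : polar Q p d = 0 := by
      rw [hd, hQ.polar_bilinear.add_right, hQ.polar_bilinear.smul_right, hpr, polar_self' hQ, hp]; ring
    have := sieg_transport_smul hQ hM hT hQd hQv hdv
    rw [hpv, hpd, one_smul, zero_smul, sub_zero] at this
    rwa [hd, neg_one_smul, add_add_neg_cancel'_right] at this
  rcases eq_or_ne x 0 with rfl | hx0
  · exact hasTv_zero_left _
  have hsym : ∀ {y z : ι → F}, y ≠ 0 → z ∉ Submodule.span F {y} → y ∉ Submodule.span F {z} := by
    intro y z hy hzy hm
    obtain ⟨t, rfl⟩ := Submodule.mem_span_singleton.1 hm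
    have ht : t ≠ 0 := fun e => hy (by rw [e, zero_smul])
    exact hzy (Submodule.mem_span_singleton.2 ⟨t⁻¹, by rw [smul_smul, inv_mul_cancel₀ ht, one_smul]⟩)
  by_cases hux : polar Q u x = 0
  · by_cases hxu : x ∈ Submodule.span F {u}
    · obtain ⟨w, hwu, hQw, hwP⟩ := exists_singular_avoid hQ h2 (W := pKer hQ u)
        (P := Submodule.span F {u}) (by have := finrank_pKer_ge hQ u; omega) (fun hle => by
          have h1 := (Submodule.finrank_mono hle).trans (le_of_eq (finrank_span_singleton hu0))
          have := finrank_pKer_ge hQ u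
          omega)
      obtain ⟨t, rfl⟩ := Submodule.mem_span_singleton.1 hxu
      have hwx : w ∉ Submodule.span F {t • u} := fun hm => hwP (by
        obtain ⟨s, rfl⟩ := Submodule.mem_span_singleton.1 hm
        exact Submodule.smul_mem _ _ (Submodule.smul_mem _ _ (Submodule.mem_span_singleton_self u)))
      exact step w _ hQw hx (by rw [hQ.polar_bilinear.smul_right, show polar Q w u = 0 from hwu, mul_zero])
        hwx (hsym hx0 hwx) (step u w hu hQw ((QuadraticMap.polar_comm Q u w).trans hwu)
          (hsym hu0 hwP) hwP h)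
    · exact step u x hu hx hux (hsym hu0 hxu) hxu h
  · obtain ⟨w, ⟨hwu, hwx⟩, hw0, hQw⟩ := exists_singular hQ h2 (W := pKer hQ u ⊓ pKer hQ x)
      (by have := big_two hQ h2 hn u x; omega)
    have hwu' : w ∉ Submodule.span F {u} := fun hm => by
      obtain ⟨t, rfl⟩ := Submodule.mem_span_singleton.1 hm
      have : t * polar Q u x = 0 := by rw [← hQ.polar_bilinear.smul_left]; exact hwx
      exact hw0 (by rw [(mul_eq_zero.1 this).resolve_right hux, zero_smul])
    have hwx' : w ∉ Submodule.span F {x} := fun hm => by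
      obtain ⟨t, rfl⟩ := Submodule.mem_span_singleton.1 hm
      have : t * polar Q x u = 0 := by rw [← hQ.polar_bilinear.smul_left]; exact hwu
      exact hw0 (by rw [(mul_eq_zero.1 this).resolve_right (fun e => hux
        ((QuadraticMap.polar_comm Q u x).trans e)), zero_smul])
    exact step w x hQw hx hwx hwx' (hsym hx0 hwx')
      (step u w hu hQw ((QuadraticMap.polar_comm Q u w).trans hwu) (hsym hu0 hwu') hwu' h)

/-- One transvection `T(a, u*)` with `u` singular gives `SL`. -/
theorem specialLinear_le_of_tv (hM : HasSieg hQ M) {a u : ι → F} (hu : Q u = 0) (hu0 : u ≠ 0) (ha : a ≠ 0)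
    (h : HasTv M a (pDual Q u)) : Cfsg.Geo.specialLinear ι F ≤ M := by
  obtain ⟨c, hc, hc'⟩ := exists_diag hQ h2 hn hM hu hu0 ha h
  have hd : ∀ x, Q x = 0 → HasTv M x (c • pDual Q x) := fun x hx => diag_all hQ h2 hn hM hu hu0 hc' hx
  -- mixed singular pairs
  have hpair2 : ∀ p r, Q p = 0 → Q r = 0 → polar Q p r = 0 → HasTv M p ((2 * c) • pDual Q r) := by
    intro p r hp hr hpr
    have hrp : polar Q r p = 0 := (QuadraticMap.polar_comm Q r p).trans hpr
    have hs : ∀ t : F, Q (p + t • r) = 0 := fun t => by rw [quad_add_smul hQ, hp, hr, hpr]; ring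
    obtain ⟨h0, g1, hg1, e1⟩ := hd (p + (1 : F) • r) (hs 1)
    obtain ⟨h0', g2, hg2, e2⟩ := (hd p hp).neg
    obtain ⟨h0'', g3, hg3, e3⟩ := (hd r hr).neg
    have hsg := hM p (c • r) hp (by rw [hQ.smul, hr, mul_zero]) (by rw [hQ.polar_bilinear.smul_right, hpr, mul_zero])
    have hpp : polar Q p p = 0 := by rw [polar_self' hQ, hp, mul_zero]
    have hrr : polar Q r r = 0 := by rw [polar_self' hQ, hr, mul_zero]
    have hT : HasTv M p ((2 * c) • pDual Q r) := by
      refine ⟨by rw [smul_dotProduct, pDual_dot hQ, hpr, smul_zero],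
        g1 * g2 * g3 * siegGL hQ p (c • r) hp (by rw [hQ.polar_bilinear.smul_right, hpr, mul_zero]),
        mul_mem (mul_mem (mul_mem hg1 hg2) hg3) hsg, ?_⟩
      refine Matrix.ext_iff_mulVec.2 fun z => ?_
      simp only [Units.val_mul, ← mulVec_mulVec, e1, e2, e3, siegGL_mulVec hQ hp
        (show Q (c • r) = 0 by rw [hQ.smul, hr, mul_zero])]
      simp only [tvMat_mulVec, smul_dotProduct, neg_dotProduct, pDual_dot hQ, pDual_add hQ, pDual_smul hQ,
        add_dotProduct, hQ.polar_bilinear.add_left, hQ.polar_bilinear.smul_left,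
        hQ.polar_bilinear.smul_right, sub_eq_add_neg, smul_eq_mul, dotProduct_add, dotProduct_neg,
        dotProduct_smul, hpr, hrp, hpp, hrr, one_mul, mul_zero, zero_mul, add_zero, neg_zero, zero_smul,
        mul_neg, neg_mul]
      module
    exact hT
  have hpair : ∀ p r, Q p = 0 → Q r = 0 → polar Q p r = 0 → HasTv M p (pDual Q r) := fun p r hp hr hpr => by
    have := hpair2 p ((2 * c)⁻¹ • r) hp (by rw [hQ.smul, hr, mul_zero])
      (by rw [hQ.polar_bilinear.smul_right, hpr, mul_zero])
    rwa [pDual_smul hQ, smul_smul, mul_inv_cancel₀ (mul_ne_zero h2 hc), one_smul] at this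
  -- all functionals for a singular centre
  have hsing : ∀ p φ, Q p = 0 → φ ⬝ᵥ p = 0 → HasTv M p φ := by
    intro p φ hp hφ
    obtain ⟨z, rfl⟩ := pDual_surjective hQ φ
    rw [pDual_dot hQ, QuadraticMap.polar_comm] at hφ
    let S : Submodule F (ι → F) :=
      { carrier := {z | ∀ t : F, HasTv M p (t • pDual Q z)}
        add_mem' := fun {x y} hx hy t => by
          have := (hx t).add (hy t)
          rwa [← smul_add, ← pDual_add hQ] at this
        zero_mem' := fun t => by rw [(pDual_eq_zero hQ).2 rfl, smul_zero]; exact hasTv_zero _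
        smul_mem' := fun s x hx t => by
          show HasTv M p (t • pDual Q (s • x))
          rw [pDual_smul hQ, smul_smul]; exact hx _ }
    have hle : pKer hQ p ≤ S := le_of_singular_mem hQ h2 (by have := finrank_pKer_ge hQ p; omega)
      fun r hr hQr t => by
        rw [← pDual_smul hQ]
        exact hpair p (t • r) hp (by rw [hQ.smul, hQr, mul_zero])
          (by rw [hQ.polar_bilinear.smul_right, QuadraticMap.polar_comm, show polar Q r p = 0 from hr, mul_zero])
    simpa using hle hφ 1
  -- all centres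
  refine specialLinear_le_of_forall_center fun w φ _ hw => ?_
  obtain ⟨z, rfl⟩ := pDual_surjective hQ φ
  let S : Submodule F (ι → F) :=
    { carrier := {w | ∀ t : F, HasTv M (t • w) (pDual Q z)}
      add_mem' := fun {x y} hx hy t => by
        have := (hx t).add_left (hy t)
        rwa [← smul_add] at this
      zero_mem' := fun t => by rw [smul_zero]; exact hasTv_zero_left _
      smul_mem' := fun s x hx t => by
        show HasTv M (t • s • x) _
        rw [smul_smul]; exact hx _ }
  rw [pDual_dot hQ] at hw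
  have hle : pKer hQ z ≤ S := le_of_singular_mem hQ h2 (by have := finrank_pKer_ge hQ z; omega)
    fun r hr hQr t => hsing _ _ (by rw [hQ.smul, hQr, mul_zero])
      (by rw [pDual_dot hQ, hQ.polar_bilinear.smul_left, show polar Q r z = 0 from hr, mul_zero])
  simpa using hle hw 1

end CfsgLib.MaxSub
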