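import Cfsg.Agent.Lib.MaxSub.QuadGen

/-!
A group containing all `1 + u v* - v u*` and an element that is not a similarity contains `SL`.
-/

set_option autoImplicit false
set_option linter.unusedSectionVars false

namespace CfsgLib.MaxSub

open Matrix QuadraticMap
open scoped MatrixGroups

variable {ι : Type} [Fintype ι] [DecidableEq ι] {F : Type*} [Field F] {Q : (ι → F) → F}
  (hQ : Cfsg.Geo.IsNondegenerateQuadraticForm Q) (h2 : (2 : F) ≠ 0) [Finite F]
  (hn : 6 ≤ Fintype.card ι) {M : Subgroup (GL ι F)}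

/-- The Eichler element `E(u, y)` for singular `u` orthogonal to `y`. -/
def eichGL (u y : ι → F) (hu : Q u = 0) (huy : polar Q u y = 0) : GL ι F :=
  tvGL u (pDual Q y + Q y • pDual Q u) (by
      rw [add_dotProduct, smul_dotProduct, pDual_dot hQ, pDual_dot hQ, huy, polar_self' hQ, hu]
      simp) *
    tvGL y (-pDual Q u) (by
      rw [neg_dotProduct, pDual_dot hQ, QuadraticMap.polar_comm, huy, neg_zero])

theorem eichGL_mulVec {u y : ι → F} (hu : Q u = 0) (huy : polar Q u y = 0) (x : ι → F) :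
    (eichGL hQ u y hu huy : Matrix ι ι F) *ᵥ x =
      x + (polar Q x y - Q y * polar Q x u) • u - polar Q x u • y := by
  have hyu : polar Q y u = 0 := (QuadraticMap.polar_comm Q y u).trans huy
  rw [eichGL, Units.val_mul, ← mulVec_mulVec, coe_tvGL, coe_tvGL, tvMat_mulVec, tvMat_mulVec]
  simp only [dotProduct_add, add_dotProduct, smul_dotProduct, dotProduct_smul, neg_dotProduct,
    pDual_dot hQ, hyu, polar_self' hQ, smul_eq_mul]
  module

theorem eichGL_inv_mulVec {u y : ι → F} (hu : Q u = 0) (huy : polar Q u y = 0) (x : ι → F) :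
    (((eichGL hQ u y hu huy)⁻¹ : GL ι F) : Matrix ι ι F) *ᵥ x =
      x + (-polar Q x y - Q y * polar Q x u) • u + polar Q x u • y := by
  have hyu : polar Q y u = 0 := (QuadraticMap.polar_comm Q y u).trans huy
  rw [eichGL, _root_.mul_inv_rev, Units.val_mul, ← mulVec_mulVec]
  show tvMat y (-(-pDual Q u)) *ᵥ (tvMat u (-(pDual Q y + Q y • pDual Q u)) *ᵥ x) = _
  rw [tvMat_mulVec, tvMat_mulVec]
  simp only [dotProduct_add, add_dotProduct, smul_dotProduct, dotProduct_smul, neg_dotProduct,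
    neg_neg, pDual_dot hQ, hQ.polar_bilinear.add_left, hQ.polar_bilinear.smul_left, hyu,
    polar_self' hQ, hu, smul_eq_mul]
  module

theorem eichGL_mem (hS : Cfsg.Geo.quadSimilarityGroup Q ⊓ Cfsg.Geo.specialLinear ι F ≤ M)
    {u y : ι → F} (hu : Q u = 0) (huy : polar Q u y = 0) : eichGL hQ u y hu huy ∈ M := by
  have hyu : polar Q y u = 0 := (QuadraticMap.polar_comm Q y u).trans huy
  refine hS ⟨⟨1, fun x => ?_⟩,
    mul_mem (tvGL_mem_specialLinear _ _ _) (tvGL_mem_specialLinear _ _ _)⟩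
  rw [eichGL_mulVec hQ hu huy, Units.val_one, one_mul, sub_eq_add_neg, ← neg_smul,
    quad_add_smul hQ, quad_add_smul hQ, hu, hQ.polar_bilinear.add_left,
    hQ.polar_bilinear.smul_left, huy]
  ring

include hQ h2 hn

/-- Any transvection gives one with singular functional. -/
theorem exists_singular_tv (hS : Cfsg.Geo.quadSimilarityGroup Q ⊓ Cfsg.Geo.specialLinear ι F ≤ M)
    {c η : ι → F} (hc : c ≠ 0) (hη : η ≠ 0) (h : HasTv M c (pDual Q η)) :
    ∃ a' u : ι → F, a' ≠ 0 ∧ u ≠ 0 ∧ Q u = 0 ∧ HasTv M a' (pDual Q u) := by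
  by_cases hQη : Q η = 0
  · exact ⟨c, η, hc, hη, hQη, h⟩
  have hcη : polar Q c η = 0 := by
    have := h.1
    rwa [pDual_dot hQ] at this
  obtain ⟨u, ⟨huc, huη⟩, hu0, hu⟩ := exists_singular hQ h2 (W := pKer hQ c ⊓ pKer hQ η)
    (by have := big_two hQ h2 hn c η; omega)
  have huc : polar Q u c = 0 := huc
  have huη : polar Q u η = 0 := huη
  have hnot : η ∉ Submodule.span F {c, u} := fun hm => by
    obtain ⟨α, β, he⟩ := Submodule.mem_span_pair.1 hm
    have h1 : α * (2 * Q c) = 0 := by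
      have := hcη
      rw [← he, hQ.polar_bilinear.add_right, hQ.polar_bilinear.smul_right,
        hQ.polar_bilinear.smul_right, polar_self' hQ, (QuadraticMap.polar_comm Q c u).trans huc,
        mul_zero, add_zero] at this
      exact this
    apply hQη
    rw [← he, quad_add_smul hQ, hQ.smul, hQ.polar_bilinear.smul_left,
      (QuadraticMap.polar_comm Q c u).trans huc, hu]
    rcases mul_eq_zero.1 h1 with e | e
    · rw [e]; ring
    · rw [(mul_eq_zero.1 e).resolve_left h2]; ring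
  obtain ⟨y, hy1, hy2⟩ := exists_polar_of_notMem hQ h2 hn hnot
  have hcy : polar Q c y = 0 := hy2 c (Submodule.subset_span (by simp))
  have huy : polar Q u y = 0 := hy2 u (Submodule.subset_span (by simp))
  have h' := h.conj (eichGL_mem hQ hS hu huy)
  have e1 : (eichGL hQ u y hu huy : Matrix ι ι F) *ᵥ c = c := by
    rw [eichGL_mulVec hQ hu huy, hcy, (QuadraticMap.polar_comm Q c u).trans huc]
    simp
  have e2 : pDual Q η ᵥ* (((eichGL hQ u y hu huy)⁻¹ : GL ι F) : Matrix ι ι F) =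
      pDual Q η + pDual Q u := by
    refine dotProduct_eq _ _ fun x => ?_
    rw [vecMul_inv_dotProduct, eichGL_inv_mulVec hQ hu huy, add_dotProduct, pDual_dot hQ,
      pDual_dot hQ, pDual_dot hQ, hQ.polar_bilinear.add_left, hQ.polar_bilinear.add_left,
      hQ.polar_bilinear.smul_left, hQ.polar_bilinear.smul_left, huη,
      (QuadraticMap.polar_comm Q y η).trans hy1]
    ring
  rw [e1, e2] at h'
  have := h'.sub h
  rw [add_sub_cancel_left] at this
  exact ⟨c, u, hc, hu0, hu, this⟩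

/-- `T(a, φ) T(b, ψ)` gives a transvection when one of `φ, ψ` is non-zero somewhere on `a⊥ ∩ b⊥`. -/
theorem exists_tv_of_pair (hS : Cfsg.Geo.quadSimilarityGroup Q ⊓ Cfsg.Geo.specialLinear ι F ≤ M)
    {a φ b ψ : ι → F} (ha : φ ⬝ᵥ a = 0) (hb : ψ ⬝ᵥ b = 0) (hφb : φ ⬝ᵥ b = 0) (hψa : ψ ⬝ᵥ a = 0)
    (hind : ∀ α β : F, α • a + β • b = 0 → α = 0 ∧ β = 0)
    (hx : tvGL a φ ha * tvGL b ψ hb ∈ M) {z : ι → F}
    (hza : polar Q z a = 0) (hzb : polar Q z b = 0) (hz : φ ⬝ᵥ z ≠ 0 ∨ ψ ⬝ᵥ z ≠ 0) :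
    ∃ a' u : ι → F, a' ≠ 0 ∧ u ≠ 0 ∧ Q u = 0 ∧ HasTv M a' (pDual Q u) := by
  -- the commutator with an Eichler element centralising `a, b`
  have hcom : ∀ (u y : ι → F) (hu : Q u = 0) (huy : polar Q u y = 0), polar Q u a = 0 →
      polar Q u b = 0 → polar Q y a = 0 → polar Q y b = 0 → ∃ g ∈ M, (g : Matrix ι ι F) =
        1 + vecMulVec (-((φ ⬝ᵥ u) • a + (ψ ⬝ᵥ u) • b)) (pDual Q y + Q y • pDual Q u) +
          vecMulVec ((φ ⬝ᵥ y) • a + (ψ ⬝ᵥ y) • b) (pDual Q u) := by
    intro u y hu huy hua hub hya hyb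
    set E := eichGL hQ u y hu huy with hE
    have hau : polar Q a u = 0 := (QuadraticMap.polar_comm Q a u).trans hua
    have hbu : polar Q b u = 0 := (QuadraticMap.polar_comm Q b u).trans hub
    have hay : polar Q a y = 0 := (QuadraticMap.polar_comm Q a y).trans hya
    have hby : polar Q b y = 0 := (QuadraticMap.polar_comm Q b y).trans hyb
    refine ⟨E * (tvGL a φ ha * tvGL b ψ hb) * E⁻¹ * (tvGL a φ ha * tvGL b ψ hb)⁻¹,
      mul_mem (mul_mem (mul_mem (eichGL_mem hQ hS hu huy) hx) (inv_mem (eichGL_mem hQ hS hu huy)))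
        (inv_mem hx), ?_⟩
    refine Matrix.ext_iff_mulVec.2 fun x => ?_
    simp only [_root_.mul_inv_rev, Units.val_mul, ← mulVec_mulVec]
    rw [show ((tvGL b ψ hb)⁻¹ : GL ι F) = tvGL b (-ψ) (by simp [hb]) from
        Units.ext (by rw [coe_tvGL]; rfl),
      show ((tvGL a φ ha)⁻¹ : GL ι F) = tvGL a (-φ) (by simp [ha]) from
        Units.ext (by rw [coe_tvGL]; rfl)]
    simp only [coe_tvGL, tvMat_mulVec, hE, eichGL_mulVec hQ hu huy, eichGL_inv_mulVec hQ hu huy,
      dotProduct_add, add_dotProduct, dotProduct_smul, smul_dotProduct, neg_dotProduct,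
      add_mulVec, one_mulVec, vecMulVec_mulVec, hQ.polar_bilinear.add_left,
      hQ.polar_bilinear.smul_left, hau, hbu, hay, hby, huy,
      (QuadraticMap.polar_comm Q y u).trans huy, polar_self' hQ, hu, ha, hb, hφb, hψa,
      pDual_dot hQ, smul_eq_mul, op_smul_eq_smul]
    module
  have hAne : ∀ {t : ι → F}, φ ⬝ᵥ t ≠ 0 ∨ ψ ⬝ᵥ t ≠ 0 → (φ ⬝ᵥ t) • a + (ψ ⬝ᵥ t) • b ≠ 0 :=
    fun {t} ht e => ht.elim (fun h => h (hind _ _ e).1) (fun h => h (hind _ _ e).2)
  obtain ⟨u₀, ⟨hu₀a, hu₀b⟩, hu₀0, hu₀⟩ := exists_singular hQ h2 (W := pKer hQ a ⊓ pKer hQ b)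
    (by have := big_two hQ h2 hn a b; omega)
  have hu₀a : polar Q u₀ a = 0 := hu₀a
  have hu₀b : polar Q u₀ b = 0 := hu₀b
  -- centre outside the common kernel
  have caseB : ∀ u : ι → F, Q u = 0 → polar Q u a = 0 → polar Q u b = 0 →
      φ ⬝ᵥ u ≠ 0 ∨ ψ ⬝ᵥ u ≠ 0 →
      ∃ a' u : ι → F, a' ≠ 0 ∧ u ≠ 0 ∧ Q u = 0 ∧ HasTv M a' (pDual Q u) := by
    intro u hu hua hub hne
    obtain ⟨p, hp⟩ := pDual_surjective hQ φ
    obtain ⟨r, hr⟩ := pDual_surjective hQ ψ
    obtain ⟨y, ⟨⟨⟨⟨hya, hyb⟩, hyu⟩, hyp⟩, hyr⟩, hy0⟩ := Submodule.exists_mem_ne_zero_of_ne_bot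
      (p := pKer hQ a ⊓ pKer hQ b ⊓ pKer hQ u ⊓ pKer hQ p ⊓ pKer hQ r) (fun e => by
        have h1 := big_three hQ h2 hn a b u
        have h4 := finrank_le_inf_pKer hQ (pKer hQ a ⊓ pKer hQ b ⊓ pKer hQ u) p
        have h5 := finrank_le_inf_pKer hQ (pKer hQ a ⊓ pKer hQ b ⊓ pKer hQ u ⊓ pKer hQ p) r
        rw [e, finrank_bot] at h5
        omega)
    have hφy : φ ⬝ᵥ y = 0 := by rw [← hp, pDual_dot hQ]; exact hyp
    have hψy : ψ ⬝ᵥ y = 0 := by rw [← hr, pDual_dot hQ]; exact hyr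
    have hya : polar Q y a = 0 := hya
    have hyb : polar Q y b = 0 := hyb
    obtain ⟨g, hg, hgv⟩ := hcom u y hu ((QuadraticMap.polar_comm Q u y).trans hyu) hua hub hya hyb
    have hη : y + Q y • u ≠ 0 := fun e => by
      have hys : y = (-Q y) • u := by rw [neg_smul]; exact eq_neg_of_add_eq_zero_left e
      rw [hys, dotProduct_smul, smul_eq_mul, mul_eq_zero] at hφy hψy
      have h0 : -Q y ≠ 0 := fun h0 => hy0 (by rw [hys, h0, zero_smul])
      exact hne.elim (fun h => h (hφy.resolve_left h0)) (fun h => h (hψy.resolve_left h0))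
    refine exists_singular_tv hQ h2 hn hS (c := -((φ ⬝ᵥ u) • a + (ψ ⬝ᵥ u) • b))
      (neg_ne_zero.2 (hAne hne)) hη ⟨?_, g, hg, ?_⟩
    · rw [pDual_add hQ, pDual_smul hQ]
      simp only [dotProduct_neg, dotProduct_add, add_dotProduct, dotProduct_smul, smul_dotProduct,
        pDual_dot hQ, (QuadraticMap.polar_comm Q a u).trans hua,
        (QuadraticMap.polar_comm Q b u).trans hub, (QuadraticMap.polar_comm Q a y).trans hya,
        (QuadraticMap.polar_comm Q b y).trans hyb, smul_eq_mul]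
      ring
    · rw [hgv, hφy, hψy, pDual_add hQ, pDual_smul hQ, zero_smul, zero_smul, add_zero, zero_vecMulVec,
        add_zero]
      rfl
  by_cases hne : φ ⬝ᵥ u₀ ≠ 0 ∨ ψ ⬝ᵥ u₀ ≠ 0
  · exact caseB u₀ hu₀ hu₀a hu₀b hne
  push Not at hne
  by_cases hzu : polar Q z u₀ = 0
  · obtain ⟨g, hg, hgv⟩ := hcom u₀ z hu₀ ((QuadraticMap.polar_comm Q u₀ z).trans hzu) hu₀a hu₀b hza hzb
    refine ⟨_, u₀, hAne hz, hu₀0, hu₀, ?_, g, hg, ?_⟩
    · rw [pDual_dot hQ, hQ.polar_bilinear.add_left, hQ.polar_bilinear.smul_left,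
        hQ.polar_bilinear.smul_left, (QuadraticMap.polar_comm Q a u₀).trans hu₀a,
        (QuadraticMap.polar_comm Q b u₀).trans hu₀b, mul_zero, mul_zero, add_zero]
    · rw [hgv, hne.1, hne.2, zero_smul, zero_smul, add_zero, neg_zero, zero_vecMulVec, add_zero]
      rfl
  · refine caseB (z + (-Q z / polar Q z u₀) • u₀) ?_ ?_ ?_ ?_
    · rw [quad_add_smul hQ, hu₀, div_mul_cancel₀ _ hzu]; ring
    · rw [hQ.polar_bilinear.add_left, hQ.polar_bilinear.smul_left, hza, hu₀a, mul_zero, add_zero]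
    · rw [hQ.polar_bilinear.add_left, hQ.polar_bilinear.smul_left, hzb, hu₀b, mul_zero, add_zero]
    · simpa [dotProduct_add, dotProduct_smul, hne.1, hne.2] using hz


/-- An overgroup of all `1 + u v* - v u*` either contains `SL` or consists of similarities. -/
theorem specialLinear_le_or_similar (hM : HasSieg hQ M)
    (hS : Cfsg.Geo.quadSimilarityGroup Q ⊓ Cfsg.Geo.specialLinear ι F ≤ M)
    {g : GL ι F} (hg : g ∈ M) :
    Cfsg.Geo.specialLinear ι F ≤ M ∨ g ∈ Cfsg.Geo.quadSimilarityGroup Q := by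
  by_cases hex : ∃ a' u : ι → F, a' ≠ 0 ∧ u ≠ 0 ∧ Q u = 0 ∧ HasTv M a' (pDual Q u)
  · obtain ⟨a', u, ha', hu0, hu, hT⟩ := hex
    exact .inl (specialLinear_le_of_tv hQ h2 hn hM hu hu0 ha' hT)
  right
  set G : Matrix ι ι F := (g : Matrix ι ι F)
  set G' : Matrix ι ι F := ((g⁻¹ : GL ι F) : Matrix ι ι F)
  have hinj : ∀ x, G *ᵥ x = 0 → x = 0 := fun x hx => by
    have := congrArg (G' *ᵥ ·) hx
    simpa [G, G', inv_mulVec_mulVec] using this
  -- orthogonality of singular pairs is transported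
  have hK : ∀ u v, Q u = 0 → Q v = 0 → polar Q u v = 0 → u ≠ 0 → v ∉ Submodule.span F {u} → ∀ z,
      polar Q z (G *ᵥ u) = 0 → polar Q z (G *ᵥ v) = 0 → polar Q (G' *ᵥ z) u = 0 := by
    intro u v hu hv huv hu0 hvu' z hzu hzv
    have hv0 : v ≠ 0 := fun e => hvu' (e ▸ zero_mem _)
    by_contra hzne
    set a := G *ᵥ u with ha_def
    set b := G *ᵥ v with hb_def
    set φ := pDual Q v ᵥ* G' with hφ
    set ψ := -(pDual Q u ᵥ* G') with hψ
    have hpp : polar Q u u = 0 := by rw [polar_self' hQ, hu, mul_zero]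
    have hvv : polar Q v v = 0 := by rw [polar_self' hQ, hv, mul_zero]
    have dφ : ∀ x, φ ⬝ᵥ x = polar Q (G' *ᵥ x) v := fun x => by
      rw [hφ, vecMul_inv_dotProduct, pDual_dot hQ]
    have dψ : ∀ x, ψ ⬝ᵥ x = -polar Q (G' *ᵥ x) u := fun x => by
      rw [hψ, neg_dotProduct, vecMul_inv_dotProduct, pDual_dot hQ]
    have hG'a : G' *ᵥ a = u := inv_mulVec_mulVec g u
    have hG'b : G' *ᵥ b = v := inv_mulVec_mulVec g v
    have hvu : polar Q v u = 0 := (QuadraticMap.polar_comm Q v u).trans huv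
    have h1 : φ ⬝ᵥ a = 0 := by rw [dφ, hG'a, huv]
    have h3 : ψ ⬝ᵥ b = 0 := by rw [dψ, hG'b, hvu, neg_zero]
    have h1' : φ ⬝ᵥ b = 0 := by rw [dφ, hG'b, hvv]
    have h3' : ψ ⬝ᵥ a = 0 := by rw [dψ, hG'a, hpp, neg_zero]
    have hxM : tvGL a φ h1 * tvGL b ψ h3 ∈ M := by
      have := mul_mem (mul_mem hg (hM u v hu hv huv)) (inv_mem hg)
      convert this using 1
      refine Units.ext ?_
      simp only [Units.val_mul, siegGL, coe_tvGL]
      calc tvMat a φ * tvMat b ψ
          = (G * tvMat u (pDual Q v) * G') * (G * tvMat v (-pDual Q u) * G') := by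
            rw [mul_tvMat_mul _ _ _ _ (by rw [← Units.val_mul, mul_inv_cancel, Units.val_one]),
              mul_tvMat_mul _ _ _ _ (by rw [← Units.val_mul, mul_inv_cancel, Units.val_one]), neg_vecMul]
        _ = G * (tvMat u (pDual Q v) * tvMat v (-pDual Q u)) * G' := by
            simp only [Matrix.mul_assoc]
            rw [← Matrix.mul_assoc G' G, ← Units.val_mul, inv_mul_cancel, Units.val_one, Matrix.one_mul]
    have hψz : ψ ⬝ᵥ z ≠ 0 := by rw [dψ]; exact neg_ne_zero.2 hzne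
    refine hex (exists_tv_of_pair hQ h2 hn hS h1 h3 h1' h3' (fun α β e => ?_) hxM hzu hzv (.inr hψz))
    rw [ha_def, hb_def, ← mulVec_smul, ← mulVec_smul, ← mulVec_add] at e
    have e' := hinj _ e
    have hβ : β = 0 := by
      by_contra hβ
      refine hvu' (Submodule.mem_span_singleton.2 ⟨-(β⁻¹ * α), ?_⟩)
      rw [neg_smul, mul_smul, eq_neg_of_add_eq_zero_left e', smul_neg, neg_neg, smul_smul,
        inv_mul_cancel₀ hβ, one_smul]
    rw [hβ, zero_smul, add_zero, smul_eq_zero, or_iff_left hu0] at e'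
    exact ⟨e', hβ⟩
  have hloc : ∀ u, Q u = 0 → u ≠ 0 → ∃ l : F, l ≠ 0 ∧
      ∀ x, polar Q (G *ᵥ x) (G *ᵥ u) = l * polar Q x u := by
    intro u hu hu0
    have hker : ∀ z, polar Q z (G *ᵥ u) = 0 → polar Q (G' *ᵥ z) u = 0 := by
      intro z hz
      have hW : Fintype.card ι + 3 ≤ 2 * Module.finrank F (pKer hQ u) := by
        have := finrank_pKer_ge hQ u; omega
      obtain ⟨v₂, hv₂u, hQv₂, hv₂P⟩ := exists_singular_avoid hQ h2 (P := Submodule.span F {u}) hW (fun hle => by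
        have h' := (Submodule.finrank_mono hle).trans (le_of_eq (finrank_span_singleton hu0))
        omega)
      obtain ⟨v₁, hv₁u, hQv₁, hv₁P⟩ := exists_singular_avoid hQ h2 (P := Submodule.span F {u, v₂}) hW (fun hle => by
        have h' := (Submodule.finrank_mono hle).trans (finrank_span_pair_le hQ h2 hn u v₂)
        omega)
      have hP : G *ᵥ v₁ ∉ Submodule.span F {G *ᵥ u, G *ᵥ v₂} := fun hm => by
        obtain ⟨s, t, he⟩ := Submodule.mem_span_pair.1 hm
        rw [← mulVec_smul, ← mulVec_smul, ← mulVec_add, ← sub_eq_zero, ← mulVec_sub] at he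
        exact hv₁P (Submodule.mem_span_pair.2 ⟨s, t, sub_eq_zero.1 (hinj _ he)⟩)
      obtain ⟨w, hw1, hw2⟩ := exists_polar_of_notMem hQ h2 hn hP
      set z₂ := polar Q z (G *ᵥ v₁) • w
      have hz₂u : polar Q z₂ (G *ᵥ u) = 0 := by
        rw [hQ.polar_bilinear.smul_left, QuadraticMap.polar_comm Q w, hw2 _ (Submodule.subset_span (by simp)), mul_zero]
      have hz₂2 : polar Q z₂ (G *ᵥ v₂) = 0 := by
        rw [hQ.polar_bilinear.smul_left, QuadraticMap.polar_comm Q w, hw2 _ (Submodule.subset_span (by simp)), mul_zero]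
      have hz₂1 : polar Q z₂ (G *ᵥ v₁) = polar Q z (G *ᵥ v₁) := by
        rw [hQ.polar_bilinear.smul_left, QuadraticMap.polar_comm Q w, hw1, mul_one]
      have hsub : ∀ t, polar Q (z - z₂) t = polar Q z t - polar Q z₂ t := fun t => by
        rw [sub_eq_add_neg, ← neg_one_smul F z₂, hQ.polar_bilinear.add_left, hQ.polar_bilinear.smul_left]; ring
      have hv₁s : v₁ ∉ Submodule.span F {u} := fun hm => hv₁P (Submodule.span_mono (by simp) hm)
      have k1 := hK u v₁ hu hQv₁ ((QuadraticMap.polar_comm Q u v₁).trans hv₁u) hu0 hv₁s (z - z₂)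
        (by rw [hsub, hz, hz₂u, sub_zero]) (by rw [hsub, hz₂1, sub_self])
      have k2 := hK u v₂ hu hQv₂ ((QuadraticMap.polar_comm Q u v₂).trans hv₂u) hu0 hv₂P z₂ hz₂u hz₂2
      rw [mulVec_sub, sub_eq_add_neg, hQ.polar_bilinear.add_left, ← neg_one_smul F (G' *ᵥ z₂),
        hQ.polar_bilinear.smul_left, k2, mul_zero, add_zero] at k1
      exact k1
    obtain ⟨y, hy, -⟩ := exists_polar_of_notMem hQ h2 hn (P := ⊥) (x := G *ᵥ u)
      (fun hm => hu0 (hinj _ ((Submodule.mem_bot F).1 hm)))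
    rw [QuadraticMap.polar_comm] at hy
    have hform : ∀ x, polar Q x u = polar Q (G' *ᵥ y) u * polar Q (G *ᵥ x) (G *ᵥ u) := by
      intro x
      have h := hker (G *ᵥ x + (-polar Q (G *ᵥ x) (G *ᵥ u)) • y)
        (by rw [hQ.polar_bilinear.add_left, hQ.polar_bilinear.smul_left, hy]; ring)
      rw [mulVec_add, mulVec_smul, show G' *ᵥ (G *ᵥ x) = x from inv_mulVec_mulVec g x,
        hQ.polar_bilinear.add_left, hQ.polar_bilinear.smul_left] at h
      linear_combination h
    have hμ : polar Q (G' *ᵥ y) u ≠ 0 := fun e => by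
      obtain ⟨x, hx⟩ := (hQ.nondegenerate u hu0).1
      exact hx (by rw [hform, e, zero_mul])
    exact ⟨(polar Q (G' *ᵥ y) u)⁻¹, inv_ne_zero hμ, fun x => by
      rw [hform x, ← mul_assoc, inv_mul_cancel₀ hμ, one_mul]⟩
  obtain ⟨u₀, -, hu₀0, hu₀⟩ := exists_singular hQ h2 (W := (⊤ : Submodule F (ι → F))) (by
    rw [finrank_top, Module.finrank_fintype_fun_eq_card]; omega)
  obtain ⟨l, hl0, hl⟩ := hloc u₀ hu₀ hu₀0
  have hsame : ∀ u w, Q u = 0 → Q w = 0 → polar Q u w = 0 → u ∉ Submodule.span F {w} →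
      w ∉ Submodule.span F {u} → (∀ x, polar Q (G *ᵥ x) (G *ᵥ u) = l * polar Q x u) →
      ∀ x, polar Q (G *ᵥ x) (G *ᵥ w) = l * polar Q x w := by
    intro u w hu hw huw huw' hwu' hlu
    have hu0 : u ≠ 0 := fun e => huw' (e ▸ zero_mem _)
    have hw0 : w ≠ 0 := fun e => hwu' (e ▸ zero_mem _)
    obtain ⟨lw, -, hlw⟩ := hloc w hw hw0
    have hs0 : u + w ≠ 0 := fun e => huw' (by
      rw [eq_neg_of_add_eq_zero_left e]; exact neg_mem (Submodule.mem_span_singleton_self w))
    obtain ⟨ls, -, hls⟩ := hloc (u + w) (by rw [quad_add hQ, hu, hw, huw]; ring) hs0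
    have key : ∀ x, l * polar Q x u + lw * polar Q x w = ls * (polar Q x u + polar Q x w) := fun x => by
      rw [← hlu, ← hlw, ← hQ.polar_bilinear.add_right (v := x), ← hls, mulVec_add, hQ.polar_bilinear.add_right]
    obtain ⟨x₁, hx1, hx1'⟩ := exists_polar_of_notMem hQ h2 hn huw'
    obtain ⟨x₂, hx2, hx2'⟩ := exists_polar_of_notMem hQ h2 hn hwu'
    have k1 := key x₁
    have k2 := key x₂
    rw [QuadraticMap.polar_comm Q x₁ u, QuadraticMap.polar_comm Q x₁ w, hx1,
      hx1' w (Submodule.mem_span_singleton_self w)] at k1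
    rw [QuadraticMap.polar_comm Q x₂ u, QuadraticMap.polar_comm Q x₂ w, hx2,
      hx2' u (Submodule.mem_span_singleton_self u)] at k2
    have : lw = l := by linear_combination k2 - k1
    exact fun x => this ▸ hlw x
  let S : Submodule F (ι → F) :=
    { carrier := {u | ∀ x, polar Q (G *ᵥ x) (G *ᵥ u) = l * polar Q x u}
      add_mem' := fun {p r} hp hr x => by
        show polar Q (G *ᵥ x) (G *ᵥ (p + r)) = _
        rw [mulVec_add, hQ.polar_bilinear.add_right, hQ.polar_bilinear.add_right, hp x, hr x]; ring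
      zero_mem' := fun x => by
        show polar Q (G *ᵥ x) (G *ᵥ 0) = _
        rw [mulVec_zero, ← zero_smul F (0 : ι → F), hQ.polar_bilinear.smul_right, hQ.polar_bilinear.smul_right]
        ring
      smul_mem' := fun t p hp x => by
        show polar Q (G *ᵥ x) (G *ᵥ (t • p)) = _
        rw [mulVec_smul, hQ.polar_bilinear.smul_right, hQ.polar_bilinear.smul_right, hp x]; ring }
  have hall : (⊤ : Submodule F (ι → F)) ≤ S := le_of_singular_mem hQ h2
    (by rw [finrank_top, Module.finrank_fintype_fun_eq_card]; omega) fun u _ hu => by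
      by_cases hu0 : u = 0
      · subst hu0; exact S.zero_mem
      have hsym : ∀ {y z : ι → F}, y ≠ 0 → z ∉ Submodule.span F {y} → y ∉ Submodule.span F {z} := by
        intro y z hy hzy hm
        obtain ⟨t, rfl⟩ := Submodule.mem_span_singleton.1 hm
        have ht : t ≠ 0 := fun e => hy (by rw [e, zero_smul])
        exact hzy (Submodule.mem_span_singleton.2 ⟨t⁻¹, by rw [smul_smul, inv_mul_cancel₀ ht, one_smul]⟩)
      by_cases huu : polar Q u₀ u = 0
      · by_cases hspan : u ∈ Submodule.span F {u₀}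
        · obtain ⟨t, rfl⟩ := Submodule.mem_span_singleton.1 hspan
          exact S.smul_mem t (show u₀ ∈ S from hl)
        · exact hsame u₀ u hu₀ hu huu (hsym hu₀0 hspan) hspan hl
      · obtain ⟨w, ⟨hwu, hwx⟩, hw0, hQw⟩ := exists_singular hQ h2 (W := pKer hQ u ⊓ pKer hQ u₀)
          (by have := big_two hQ h2 hn u u₀; omega)
        have hw1 : w ∉ Submodule.span F {u} := fun hm => by
          obtain ⟨t, rfl⟩ := Submodule.mem_span_singleton.1 hm
          have : t * polar Q u u₀ = 0 := by rw [← hQ.polar_bilinear.smul_left]; exact hwx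
          exact hw0 (by rw [(mul_eq_zero.1 this).resolve_right (fun e => huu
            ((QuadraticMap.polar_comm Q u₀ u).trans e)), zero_smul])
        have hw2 : w ∉ Submodule.span F {u₀} := fun hm => by
          obtain ⟨t, rfl⟩ := Submodule.mem_span_singleton.1 hm
          have : t * polar Q u₀ u = 0 := by rw [← hQ.polar_bilinear.smul_left]; exact hwu
          exact hw0 (by rw [(mul_eq_zero.1 this).resolve_right huu, zero_smul])
        exact hsame w u hQw hu hwu hw1 (hsym hu0 hw1)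
          (hsame u₀ w hu₀ hQw ((QuadraticMap.polar_comm Q u₀ w).trans hwx) (hsym hu₀0 hw2) hw2 hl)
  refine ⟨Units.mk0 l hl0, fun v => ?_⟩
  rw [Units.val_mk0, quad_of_polar hQ h2, quad_of_polar hQ h2 v,
    (hall (Submodule.mem_top (x := v)) : ∀ x, _) v, mul_div_assoc]

/-- The elements `1 + u v* - v u*` are similarities of determinant one. -/
theorem hasSieg_of_le (hM : Cfsg.Geo.quadSimilarityGroup Q ⊓ Cfsg.Geo.specialLinear ι F ≤ M) : HasSieg hQ M := by
  intro u v hu hv huv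
  refine hM ⟨⟨1, fun x => ?_⟩, mul_mem (tvGL_mem_specialLinear _ _ _) (tvGL_mem_specialLinear _ _ _)⟩
  rw [siegGL_mulVec hQ hu hv, Units.val_one, one_mul, sub_eq_add_neg, ← neg_smul, quad_add_smul hQ,
    quad_add_smul hQ, hu, hv, hQ.polar_bilinear.add_left, hQ.polar_bilinear.smul_left, huv]
  ring

end CfsgLib.MaxSub
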