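import Cfsg.Agent.S0428
import Cfsg.Agent.Lib.Golay.HSGraphUnique
import Cfsg.Agent.Lib.Golay.HSOut

/-!
A transitive group on 100 points with point stabiliser of order 443520 and suborbits 1, 22, 77 is
the Higman–Sims group.
-/

set_option autoImplicit false
set_option linter.unusedSectionVars false

namespace CfsgLib.MaxSub

open Cfsg CfsgLib.Golay MulAction

/-- An idempotent rational matrix has natural trace. -/
theorem idem_trace {n : Type*} [Fintype n] [DecidableEq n] (P : Matrix n n ℚ) (h : P * P = P) :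
    ∃ d : ℕ, P.trace = d := by
  have hid : Matrix.toLin' P ∘ₗ Matrix.toLin' P = Matrix.toLin' P := by rw [← Matrix.toLin'_mul, h]
  have hp : LinearMap.IsProj (LinearMap.range (Matrix.toLin' P)) (Matrix.toLin' P) :=
    ⟨fun x => LinearMap.mem_range_self _ x, fun x hx => by
      obtain ⟨y, rfl⟩ := hx
      exact LinearMap.congr_fun hid y⟩
  refine ⟨Module.finrank ℚ (LinearMap.range (Matrix.toLin' P)), ?_⟩
  rw [← hp.trace, Matrix.trace_toLin'_eq]

section srg

variable {V : Type*} [Fintype V] [DecidableEq V] {G : SimpleGraph V} [DecidableRel G.Adj]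

/-- Feasibility for strongly regular graphs on 100 points of valency 22. -/
theorem srg_hundred {l m : ℕ} (h : G.IsSRGWith 100 22 l m) (hl : l ≤ 21) (he : ∃ u v, G.Adj u v) :
    l = 0 ∧ m = 6 := by
  obtain ⟨a, b, hab⟩ := he
  have hpe := h.param_eq G (by norm_num)
  have hJ : Gᶜ.adjMatrix ℚ =
      Matrix.of (fun _ _ => (1 : ℚ)) - 1 - G.adjMatrix ℚ := by
    ext v w
    simp only [SimpleGraph.adjMatrix_apply, SimpleGraph.compl_adj, Matrix.sub_apply, Matrix.of_apply]
    rcases eq_or_ne v w with rfl | hn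
    · simp [G.irrefl]
    · rw [Matrix.one_apply_ne hn]
      by_cases ha : G.Adj v w <;> simp [ha, hn]
  have hsq : G.adjMatrix ℚ * G.adjMatrix ℚ = (22 : ℚ) • (1 : Matrix V V ℚ) +
      (l : ℚ) • G.adjMatrix ℚ + (m : ℚ) • (Matrix.of (fun _ _ => (1 : ℚ)) - 1 - G.adjMatrix ℚ) := by
    rw [← pow_two, h.matrix_eq, hJ]
    simp only [← Nat.cast_smul_eq_nsmul ℚ]
    norm_num
  set A := G.adjMatrix ℚ
  set J : Matrix V V ℚ := Matrix.of (fun _ _ => (1 : ℚ))
  have hAJ : A * J = (22 : ℚ) • J := by
    ext v w
    simp [A, J, SimpleGraph.adjMatrix_mul_apply, h.regular v]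
  have hJA : J * A = (22 : ℚ) • J := by
    ext v w
    simp [A, J, SimpleGraph.mul_adjMatrix_apply, h.regular w]
  have hJJ : J * J = (100 : ℚ) • J := by
    ext v w
    simp [J, Matrix.mul_apply, h.card]
  have htA : A.trace = 0 := G.trace_adjMatrix ℚ
  have ht1 : (1 : Matrix V V ℚ).trace = 100 := by rw [Matrix.trace_one, h.card]; norm_num
  have htJ : J.trace = 100 := by simp [J, Matrix.trace, h.card]
  have hcases : (l = 0 ∧ m = 6) ∨ (l = 7 ∧ m = 4) ∨ (l = 14 ∧ m = 2) ∨ (l = 21 ∧ m = 0) := by
    interval_cases l <;> omega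
  rcases hcases with h0 | ⟨rfl, rfl⟩ | ⟨rfl, rfl⟩ | ⟨rfl, rfl⟩
  · exact h0
  · exfalso
    obtain ⟨d, hd⟩ := idem_trace ((1 / 9 : ℚ) • (A + (3 : ℚ) • 1 - (1 / 4 : ℚ) • J)) (by
      simp only [smul_mul_assoc, mul_smul_comm, add_mul, mul_add, sub_mul, mul_sub, one_mul, mul_one,
        hAJ, hJA, hJJ, hsq]
      module)
    rw [Matrix.trace_smul, Matrix.trace_sub, Matrix.trace_add, Matrix.trace_smul, Matrix.trace_smul,
      htA, ht1, htJ] at hd
    norm_num at hd
    have : (d : ℚ) * 9 = 275 := by linarith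
    norm_cast at this
    omega
  · exfalso
    -- two nonadjacent neighbours of `a`
    have hNcard : ∀ v, (G.neighborFinset v).card = 22 := fun v => h.regular v
    have hcom : ∀ v w, (G.neighborFinset v ∩ G.neighborFinset w).card =
        Fintype.card (G.commonNeighbors v w) := fun v w => by
      rw [← Set.toFinset_card]
      congr 1
      ext z
      rw [Set.mem_toFinset]
      simp [SimpleGraph.commonNeighbors]
    have h14 : ∀ u, G.Adj a u → (G.neighborFinset a ∩ G.neighborFinset u).card = 14 := fun u hu => by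
      rw [hcom, h.of_adj a u hu]
    obtain ⟨v, hv, hbv⟩ : ∃ v ∈ G.neighborFinset a, v ∉ insert b (G.neighborFinset a ∩ G.neighborFinset b) := by
      apply Finset.exists_mem_notMem_of_card_lt_card
      have := Finset.card_insert_le b (G.neighborFinset a ∩ G.neighborFinset b)
      rw [h14 b hab] at this
      rw [hNcard]; omega
    rw [SimpleGraph.mem_neighborFinset] at hv
    simp only [Finset.mem_insert, Finset.mem_inter, SimpleGraph.mem_neighborFinset, not_or, not_and] at hbv
    obtain ⟨hne, hnadj⟩ := hbv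
    have hnadj := hnadj hv
    set S := G.neighborFinset a ∩ G.neighborFinset b
    set T := G.neighborFinset a ∩ G.neighborFinset v
    have hunion : S ∪ T ⊆ ((G.neighborFinset a).erase b).erase v := by
      intro x hx
      simp only [S, T, Finset.mem_union, Finset.mem_inter, SimpleGraph.mem_neighborFinset] at hx
      simp only [Finset.mem_erase, SimpleGraph.mem_neighborFinset]
      rcases hx with ⟨hx1, hx2⟩ | ⟨hx1, hx2⟩
      · exact ⟨fun e => hnadj (e ▸ hx2), fun e => G.irrefl (e ▸ hx2), hx1⟩
      · exact ⟨fun e => G.irrefl (e ▸ hx2), fun e => hnadj (e ▸ hx2).symm, hx1⟩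
    have hu : (S ∪ T).card ≤ 20 := by
      refine (Finset.card_le_card hunion).trans ?_
      rw [Finset.card_erase_of_mem (Finset.mem_erase.2 ⟨hne, by simpa using hv⟩),
        Finset.card_erase_of_mem (by simpa using hab), hNcard]
    have hST := Finset.card_union_add_card_inter S T
    rw [show S.card = 14 from h14 b hab, show T.card = 14 from h14 v hv] at hST
    have h2 : (G.neighborFinset b ∩ G.neighborFinset v).card = 2 := by
      rw [hcom, h.of_not_adj (Ne.symm hne) hnadj]
    have hle : (S ∩ T).card ≤ 2 := h2 ▸ Finset.card_le_card (fun x hx => by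
      simp only [S, T, Finset.mem_inter] at hx ⊢
      exact ⟨hx.1.2, hx.2.2⟩)
    omega
  · exfalso
    obtain ⟨d, hd⟩ := idem_trace ((1 / 23 : ℚ) • (A + 1)) (by
      simp only [smul_mul_assoc, mul_smul_comm, add_mul, mul_add, one_mul, mul_one, hsq]
      module)
    rw [Matrix.trace_smul, Matrix.trace_add, htA, ht1] at hd
    norm_num at hd
    have : (d : ℚ) * 23 = 100 := by linarith
    norm_cast at this
    omega

end srg

variable {Ω : Type*} [Fintype Ω] [DecidableEq Ω]

/-- The orbital relation of a pair. -/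
def orbital (G : Subgroup (Equiv.Perm Ω)) (a b : Ω) (x y : Ω) : Prop :=
  ∃ g : G, g • a = x ∧ g • b = y

/-- The recognition of the Higman–Sims group. -/
theorem iso_hsGroup (hΩ : Fintype.card Ω = 100) (G : Subgroup (Equiv.Perm Ω))
    [MulAction.IsPretransitive G Ω] (a : Ω) (hs : Nat.card (stabilizer G a) = 443520) (b c : Ω)
    (hb : (orbit (stabilizer G a) b).ncard = 22) (hc : (orbit (stabilizer G a) c).ncard = 77) :
    Nonempty (G ≃* hsGroup) := by
  classical
  have hG : Nat.card G = 44352000 := by
    rw [← Subgroup.card_mul_index (stabilizer G a), hs, MulAction.index_stabilizer_of_transitive,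
      Nat.card_eq_fintype_card, hΩ]
  set O₁ := orbit (stabilizer G a) b
  set O₂ := orbit (stabilizer G a) c
  have hself : orbit (stabilizer G a) a = {a} := by
    ext x
    refine ⟨?_, fun h => by rw [Set.mem_singleton_iff.1 h]; exact mem_orbit_self a⟩
    rintro ⟨g, rfl⟩
    exact g.2
  have ha1 : a ∉ O₁ := fun h => by
    rw [show O₁ = orbit (stabilizer G a) a from (MulAction.orbit_eq_iff.2 h).symm, hself,
      Set.ncard_singleton] at hb
    omega
  have ha2 : a ∉ O₂ := fun h => by
    rw [show O₂ = orbit (stabilizer G a) a from (MulAction.orbit_eq_iff.2 h).symm, hself,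
      Set.ncard_singleton] at hc
    omega
  have hdis : Disjoint O₁ O₂ := by
    rw [Set.disjoint_left]
    intro x h1 h2
    have e1 := MulAction.orbit_eq_iff.2 h1
    have e2 := MulAction.orbit_eq_iff.2 h2
    rw [show O₁ = O₂ from e1.symm.trans e2] at hb
    omega
  have hcover : ∀ x, x ≠ a → x ∈ O₁ ∨ x ∈ O₂ := by
    intro x hx
    have hU : insert a (O₁ ∪ O₂) = Set.univ := by
      refine Set.eq_of_subset_of_ncard_le (Set.subset_univ _) ?_ (Set.toFinite _)
      rw [Set.ncard_univ, Nat.card_eq_fintype_card, hΩ, Set.ncard_insert_of_notMem (by simp [ha1, ha2]),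
        Set.ncard_union_eq hdis, hb, hc]
    have := hU.symm ▸ Set.mem_univ x
    simpa [hx] using this
  have hne : b ≠ a := fun h => ha1 (h ▸ mem_orbit_self b)
  -- the suborbit of size 22 is self-paired
  have hswap : ∃ g : G, g • a = b ∧ g • b = a := by
    obtain ⟨h, hh⟩ := MulAction.exists_smul_eq G b a
    rcases hcover (h • a) (fun e => hne (smul_left_cancel h (hh.trans e.symm))) with h1 | h2
    · obtain ⟨k, hk⟩ := h1
      refine ⟨(k : G)⁻¹ * h, ?_, ?_⟩
      · rw [mul_smul, inv_smul_eq_iff]; exact hk.symm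
      · rw [mul_smul, hh, inv_smul_eq_iff]; exact k.2.symm
    · exfalso
      have hst : Nat.card (stabilizer (stabilizer G a) b) =
          Nat.card (stabilizer (stabilizer G a) (h • a)) := by
        refine Nat.card_congr
          { toFun := fun g => ⟨⟨h * g * h⁻¹, ?_⟩, ?_⟩
            invFun := fun g => ⟨⟨h⁻¹ * g * h, ?_⟩, ?_⟩
            left_inv := fun g => Subtype.ext (Subtype.ext (by simp [mul_assoc]))
            right_inv := fun g => Subtype.ext (Subtype.ext (by simp [mul_assoc])) }
        · show (h * ((g : stabilizer G a) : G) * h⁻¹) • a = a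
          rw [mul_smul, mul_smul, inv_smul_eq_iff.2 hh.symm, show ((g : stabilizer G a) : G) • b = b from g.2, hh]
        · show (h * ((g : stabilizer G a) : G) * h⁻¹) • (h • a) = h • a
          rw [mul_smul, mul_smul, inv_smul_smul, show ((g : stabilizer G a) : G) • a = a from g.1.2]
        · show (h⁻¹ * ((g : stabilizer G a) : G) * h) • a = a
          rw [mul_smul, mul_smul, show ((g : stabilizer G a) : G) • (h • a) = h • a from g.2, inv_smul_smul]
        · show (h⁻¹ * ((g : stabilizer G a) : G) * h) • b = b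
          rw [mul_smul, mul_smul, hh, show ((g : stabilizer G a) : G) • a = a from g.1.2,
            inv_smul_eq_iff, hh]
      have e1 := Subgroup.card_mul_index (stabilizer (stabilizer G a) b)
      have e2 := Subgroup.card_mul_index (stabilizer (stabilizer G a) (h • a))
      rw [MulAction.index_stabilizer, hb, hs] at e1
      rw [MulAction.index_stabilizer, MulAction.orbit_eq_iff.2 h2, hc, hs, ← hst] at e2
      omega
  -- the graph
  let Γ : SimpleGraph Ω :=
    { Adj := fun x y => orbital G a b x y
      symm := ⟨fun x y hxy => by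
        obtain ⟨g, rfl, rfl⟩ := hxy
        obtain ⟨s, s1, s2⟩ := hswap
        exact ⟨g * s, by rw [mul_smul, s1], by rw [mul_smul, s2]⟩⟩
      loopless := ⟨fun x ⟨g, h1, h2⟩ => hne (smul_left_cancel g (h2.trans h1.symm))⟩ }
  have hinv : ∀ (g : G) x y, Γ.Adj x y → Γ.Adj (g • x) (g • y) := by
    rintro g x y ⟨k, rfl, rfl⟩
    exact ⟨g * k, mul_smul _ _ _, mul_smul _ _ _⟩
  have hinv' : ∀ (g : G) x y, Γ.Adj (g • x) (g • y) ↔ Γ.Adj x y := fun g x y =>
    ⟨fun h => by simpa using hinv g⁻¹ _ _ h, hinv g x y⟩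
  have hnbr : ∀ y, Γ.Adj a y ↔ y ∈ O₁ := by
    intro y
    constructor
    · rintro ⟨g, g1, g2⟩; exact ⟨⟨g, g1⟩, g2⟩
    · rintro ⟨g, rfl⟩; exact ⟨g, g.2, rfl⟩
  haveI : DecidableRel Γ.Adj := Classical.decRel _
  set l := Fintype.card (Γ.commonNeighbors a b)
  set m := Fintype.card (Γ.commonNeighbors a c)
  have hcn : ∀ (g : G) x y, Fintype.card (Γ.commonNeighbors (g • x) (g • y)) =
      Fintype.card (Γ.commonNeighbors x y) := fun g x y => by
    refine (Fintype.card_congr (Equiv.subtypeEquiv (MulAction.toPerm g) fun z => ?_)).symm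
    simp [SimpleGraph.commonNeighbors, hinv' g]
  have hsrg : Γ.IsSRGWith 100 22 l m := by
    refine ⟨hΩ, fun x => ?_, fun x y ⟨g, g1, g2⟩ => ?_, fun x y hxy hn => ?_⟩
    · obtain ⟨g, rfl⟩ := MulAction.exists_smul_eq G a x
      rw [← SimpleGraph.card_neighborSet_eq_degree, ← hb, ← Nat.card_coe_set_eq, ← Nat.card_eq_fintype_card]
      refine Nat.card_congr (Equiv.subtypeEquiv (MulAction.toPerm g).symm fun z => ?_)
      rw [SimpleGraph.mem_neighborSet, ← hnbr, ← hinv' g a]
      simp
    · rw [← g1, ← g2, hcn]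
    · obtain ⟨g, rfl⟩ := MulAction.exists_smul_eq G a x
      rcases hcover (g⁻¹ • y) (fun e => hxy (by rw [← e, smul_inv_smul])) with h1 | ⟨k, hk⟩
      · exact absurd ((hinv' g a (g⁻¹ • y)).2 ((hnbr _).2 h1)) (by rwa [smul_inv_smul])
      · have e1 : (g * (k : G)) • a = g • a := by rw [mul_smul, show (k : G) • a = a from k.2]
        have e2 : (g * (k : G)) • c = y := by
          rw [mul_smul]
          exact (congrArg (g • ·) hk).trans (smul_inv_smul g y)
        show Fintype.card (Γ.commonNeighbors (g • a) y) = m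
        rw [← e1, ← e2, hcn]
  have hl : l ≤ 21 := by
    have hsub : (Γ.commonNeighbors a b).toFinset ⊆ (Γ.neighborFinset a).erase b := fun z hz => by
      rw [Set.mem_toFinset] at hz
      simp only [SimpleGraph.commonNeighbors, Set.mem_inter_iff,
        SimpleGraph.mem_neighborSet] at hz
      simp only [Finset.mem_erase, SimpleGraph.mem_neighborFinset]
      exact ⟨fun e => Γ.irrefl (e ▸ hz.2), hz.1⟩
    have := Finset.card_le_card hsub
    rw [Set.toFinset_card, Finset.card_erase_of_mem (by simpa using (hnbr b).2 (mem_orbit_self b)),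
      SimpleGraph.card_neighborFinset_eq_degree, hsrg.regular a] at this
    exact this
  obtain ⟨hl0, hm6⟩ := srg_hundred hsrg hl ⟨a, b, (hnbr b).2 (mem_orbit_self b)⟩
  rw [hl0, hm6] at hsrg
  -- identification with the 100 vectors
  haveI : Fintype blocks22 := Fintype.ofFinite _
  have hsrg' := Cfsg.Agent.S0428.result card_pt22 blocks22_steiner
  obtain ⟨φ⟩ := hsGraph_unique hsrg hsrg'
  obtain ⟨ι, -, hιmem, hιinj, hιsurj, hadj⟩ := hsGraph_embedding card_pt22 blocks22_steiner
  let W : Ω ≃ hsPoints := φ.toEquiv.trans (Equiv.ofBijective (fun v => ⟨ι v, hιmem v⟩)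
    ⟨fun u v h => hιinj (congrArg Subtype.val h),
      fun ⟨y, hy⟩ => by obtain ⟨v, hv⟩ := hιsurj y hy; exact ⟨v, Subtype.ext hv⟩⟩)
  have hW : ∀ u v, Γ.Adj u v ↔
      dotInt (((W u : hsPoints) : leechLattice) : GolayPt → ℤ) ((W v : hsPoints) : leechLattice) = 8 :=
    fun u v => φ.map_rel_iff.symm.trans (hadj _ _)
  let θ : G →* hsGraphAut :=
    (W.permCongrHom.toMonoidHom.comp G.subtype).codRestrict hsGraphAut fun g u v => by
      obtain ⟨u, rfl⟩ := W.surjective u
      obtain ⟨v, rfl⟩ := W.surjective v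
      show dotInt (((W.permCongr (g : Equiv.Perm Ω) (W u) : hsPoints) : leechLattice) : GolayPt → ℤ)
        ((W.permCongr (g : Equiv.Perm Ω) (W v) : hsPoints) : leechLattice) = 8 ↔ _
      rw [Equiv.permCongr_apply, Equiv.permCongr_apply, Equiv.symm_apply_apply, Equiv.symm_apply_apply,
        ← hW, ← hW]
      exact hinv' g u v
  have hθ : Function.Injective θ := fun g g' h =>
    Subtype.ext (W.permCongrHom.injective (congrArg Subtype.val h))
  haveI : Finite hsGraphAut := Nat.finite_of_card_ne_zero (by rw [card_hsGraphAut]; norm_num)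
  haveI : Finite hsGroup := Nat.finite_of_card_ne_zero (by rw [card_hsGroup]; norm_num)
  have c1 : Nat.card θ.range = 44352000 := by
    rw [← Nat.card_congr (MonoidHom.ofInjective hθ).toEquiv, hG]
  have c2 : Nat.card hsPermHom.range = 44352000 := by
    rw [← Nat.card_congr (MonoidHom.ofInjective hsPermHom_injective).toEquiv, card_hsGroup]
  have idx : ∀ K : Subgroup hsGraphAut, Nat.card K = 44352000 → K.index = 2 := fun K hK => by
    have := Subgroup.card_mul_index K
    rw [hK, card_hsGraphAut] at this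
    omega
  haveI := Subgroup.normal_of_index_eq_two (idx _ c1)
  haveI := isSimple_hsGroup
  haveI : IsSimpleGroup hsPermHom.range :=
    haveI := (MonoidHom.ofInjective hsPermHom_injective).symm.toEquiv.nontrivial
    IsSimpleGroup.isSimpleGroup_of_surjective (MonoidHom.ofInjective hsPermHom_injective).toMonoidHom
      (MonoidHom.ofInjective hsPermHom_injective).surjective
  have hle : hsPermHom.range ≤ θ.range := by
    have hN : (θ.range.subgroupOf hsPermHom.range).Normal := inferInstance
    rcases hN.eq_bot_or_eq_top with h | h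
    · exfalso
      have hd : θ.range ⊓ hsPermHom.range = ⊥ := by
        rw [Subgroup.subgroupOf_eq_bot, disjoint_iff] at h
        exact h
      have hf : Function.Injective (fun x : hsPermHom.range => (x : hsGraphAut ⧸ θ.range)) := by
        intro x y hxy
        have hm := QuotientGroup.eq.1 hxy
        have : ((x : hsGraphAut)⁻¹ * y) ∈ θ.range ⊓ hsPermHom.range := ⟨hm, Subgroup.mul_mem _ (Subgroup.inv_mem _ x.2) y.2⟩
        rw [hd, Subgroup.mem_bot, inv_mul_eq_one] at this
        exact Subtype.ext this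
      have := Nat.card_le_card_of_injective _ hf
      rw [c2, ← Subgroup.index_eq_card, idx _ c1] at this
      omega
    · exact Subgroup.subgroupOf_eq_top.1 h
  have heq := Subgroup.eq_of_le_of_card_ge hle (by rw [c1, c2])
  exact ⟨(MonoidHom.ofInjective hθ).trans ((MulEquiv.subgroupCongr heq.symm).trans
    (MonoidHom.ofInjective hsPermHom_injective).symm)⟩

end CfsgLib.MaxSub
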