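import Cfsg.Agent.Lib.MaxSub.RatEightPlane

/-!
Maximality of subfield groups in eight-dimensional minus geometry, odd characteristic.
-/

set_option autoImplicit false
set_option linter.unusedSectionVars false

namespace CfsgLib.MaxSub

open CfsgLib.Classical CfsgLib.Geom
open QuadraticMap (polar)

variable {F V V₀ : Type*} [Field F] [Finite F] {F₀ : Subfield F} [AddCommGroup V] [Module F V]
  [AddCommGroup V₀] [Module F₀ V₀] [FiniteDimensional F₀ V₀] [FiniteDimensional F V]
variable {Q : QuadraticForm F V} {Q₀ : QuadraticForm F₀ V₀} {inc : V₀ →+ V}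

namespace RatOrth

variable (A : RatOrth Q Q₀ inc)
include A

/-- square roots of the subfield lie in it, odd degree -/
theorem sqrt_of_card (h : Nat.card F₀ ^ 2 < Nat.card F) (c : F) (hc : c * c ∈ F₀) : c ∈ F₀ := by
  by_contra hcm
  let d : F₀ := ⟨c * c, hc⟩
  let L : Subring F :=
    { carrier := {w | ∃ a b : F₀, w = (a : F) + (b : F) * c}
      mul_mem' := by
        rintro _ _ ⟨a, b, rfl⟩ ⟨a', b', rfl⟩
        exact ⟨a * a' + b * b' * d, a * b' + b * a', by simp only [d]; push_cast; ring⟩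
      one_mem' := ⟨1, 0, by simp⟩
      add_mem' := by
        rintro _ _ ⟨a, b, rfl⟩ ⟨a', b', rfl⟩
        exact ⟨a + a', b + b', by push_cast; ring⟩
      zero_mem' := ⟨0, 0, by simp⟩
      neg_mem' := by
        rintro _ ⟨a, b, rfl⟩
        exact ⟨-a, -b, by push_cast; ring⟩ }
  have hall := A.ring L (fun w hw => ⟨⟨w, hw⟩, 0, by simp⟩) c ⟨0, 1, by simp⟩ hcm
  have hle := Nat.card_le_card_of_surjective (fun p : F₀ × F₀ => (p.1 : F) + (p.2 : F) * c) fun w => by
    obtain ⟨a, b, hab⟩ := hall w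
    exact ⟨(a, b), hab.symm⟩
  rw [Nat.card_prod, ← sq] at hle
  omega

/-- totally singular rational subspaces stay totally singular of the same dimension -/
theorem exists_ts_span {S : Submodule F₀ V₀} (hS : ∀ x ∈ S, Q₀ x = 0) :
    ∃ T : Submodule F V, (∀ x ∈ T, Q x = 0) ∧ Module.finrank F T = Module.finrank F₀ S := by
  classical
  have hle : ∀ P : Submodule F₀ V₀, Module.finrank F (rSpan (F := F) inc P) ≤ Module.finrank F₀ P := by
    intro P
    let b := Module.finBasis F₀ P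
    have hle : rSpan (F := F) inc P ≤ Submodule.span F (Set.range fun i => inc (b i : V₀)) := by
      refine Submodule.span_le.2 ?_
      rintro _ ⟨q, hq, rfl⟩
      have e := congrArg Subtype.val (b.sum_repr ⟨q, hq⟩)
      simp only [Submodule.coe_sum, Submodule.coe_smul] at e
      rw [← e, map_sum]
      exact Submodule.sum_mem _ fun i _ => by
        rw [A.inc_smul]; exact Submodule.smul_mem _ _ (Submodule.subset_span ⟨i, rfl⟩)
    exact (Submodule.finrank_mono hle).trans ((finrank_range_le_card _).trans (by simp))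
  refine ⟨rSpan (F := F) inc S, fun x hx => ?_, le_antisymm (hle S) ?_⟩
  · suffices h : Q x = 0 ∧ ∀ s ∈ S, polar Q x (inc s) = 0 from h.1
    induction hx using Submodule.span_induction with
    | mem x hx =>
      obtain ⟨s, hs, rfl⟩ := hx
      refine ⟨A.quad_zero (hS s hs), fun s' hs' => A.pol_zero ?_⟩
      rw [QuadraticMap.polar, hS _ (add_mem hs hs'), hS s hs, hS s' hs']; simp
    | zero => exact ⟨QuadraticMap.map_zero Q, fun s _ => QuadraticMap.polar_zero_left Q _⟩
    | add a b _ hb' ha hb =>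
      refine ⟨?_, fun s hs => by rw [QuadraticMap.polar_add_left, ha.2 s hs, hb.2 s hs, add_zero]⟩
      have hp : polar Q a b = 0 := by
        have h : rSpan (F := F) inc S ≤ LinearMap.ker (Q.polarBilin a) :=
          Submodule.span_le.2 (by rintro _ ⟨s, hs, rfl⟩; exact ha.2 s hs)
        exact h hb'
      rw [QuadraticMap.map_add (Q : QuadraticMap F V F) a b, ha.1, hb.1, hp]; simp
    | smul c a _ ha =>
      exact ⟨by rw [quad_smul, ha.1, mul_zero], fun s hs => by
        rw [QuadraticMap.polar_smul_left, ha.2 s hs, smul_zero]⟩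
  · obtain ⟨T, hT⟩ := Submodule.exists_isCompl S
    have hsup : rSpan (F := F) inc S ⊔ rSpan (F := F) inc T = ⊤ := by
      rw [eq_top_iff, ← A.span]
      refine Submodule.span_le.2 ?_
      rintro _ ⟨z, rfl⟩
      obtain ⟨a, ha, b, hb, rfl⟩ := Submodule.mem_sup.1 (show z ∈ S ⊔ T by rw [hT.sup_eq_top]; trivial)
      rw [map_add]
      exact add_mem (Submodule.mem_sup_left (Submodule.subset_span ⟨a, ha, rfl⟩))
        (Submodule.mem_sup_right (Submodule.subset_span ⟨b, hb, rfl⟩))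
    have h1 := Submodule.finrank_add_le_finrank_add_finrank (rSpan (F := F) inc S) (rSpan (F := F) inc T)
    rw [hsup, finrank_top, ← A.dim] at h1
    have h3 := Submodule.finrank_add_eq_of_isCompl hT
    have h4 := hle T
    omega

end RatOrth

namespace RatCtx

variable {M : Subgroup (quadIsoms Q)} (C : RatCtx Q Q₀ inc M) (h2 : (2 : F) ≠ 0)
  (hd8 : Module.finrank F₀ V₀ = 8)
  (hno : ¬ ∃ S : Submodule F₀ V₀, (∀ x ∈ S, Q₀ x = 0) ∧ Module.finrank F₀ S = 4)
  (hsq : ∀ c : F, c * c ∈ F₀ → c ∈ F₀)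
include C h2 hd8 hno hsq

/-- overgroups of the rational group are rational, dimension eight -/
theorem odd_dichotomy_eight {g : quadIsoms Q} (hg : g ∈ M) : KRat inc g := by
  classical
  have A := C.base
  have h20 := A.two₀ h2
  have htop : Nondeg Q₀ (⊤ : Submodule F₀ V₀) := fun x _ h => A.sep₀ x fun y => h y trivial
  obtain ⟨s₀, hs₀, hss₀, Ks, -, hKsd, hsn, hsf⟩ :=
    exists_neg A.sep₀ h20 1 ⊤ htop (by rw [finrank_top]; omega)
  obtain ⟨t₀, ht₀, htt₀, Kt, -, hKtd, htn, htf⟩ :=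
    exists_neg A.sep₀ h20 2 ⊤ htop (by rw [finrank_top]; omega)
  obtain ⟨s, hs, hsJ⟩ := C.exists_lift hs₀
  obtain ⟨t, ht, htJ⟩ := C.exists_lift ht₀
  have hs2 : s * s = 1 := A.isom_ext fun z => by
    show s.1 (s.1 (inc z)) = inc z
    rw [hsJ, hsJ]; exact congrArg inc (hss₀ z)
  have ht2 : t * t = 1 := A.isom_ext fun z => by
    show t.1 (t.1 (inc z)) = inc z
    rw [htJ, htJ]; exact congrArg inc (htt₀ z)
  have hdim : ∀ (x : quadIsoms Q) (x₀ : quadIsoms Q₀) (R : Submodule F₀ V₀),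
      RatMap inc x (x₀.1 : V₀ →ₗ[F₀] V₀) → x * x = 1 → (∀ w ∈ R, x₀.1 w = -w) →
      (∀ w ∈ oPerp Q₀ R, x₀.1 w = w) →
      Module.finrank F (qEig x (-1)) = Module.finrank F₀ R ∧
        Module.finrank F₀ (eig (x₀.1 : V₀ →ₗ[F₀] V₀) (-1)) = Module.finrank F₀ R := by
    intro x x₀ R hJ hx hn' hf'
    rw [(A.finrank_qEig h2 hJ hx).2]
    have h1 := Submodule.finrank_mono (show R ≤ eig (x₀.1 : V₀ →ₗ[F₀] V₀) (-1) from fun w hw => by
      rw [mem_eig, neg_one_smul]; exact hn' w hw)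
    have h3 := Submodule.finrank_mono (show oPerp Q₀ R ≤ eig (x₀.1 : V₀ →ₗ[F₀] V₀) 1 from fun w hw => by
      rw [mem_eig, one_smul]; exact hf' w hw)
    have h4 := finrank_eig_add h20 (A.ratMap_sq hJ hx)
    have h5 := finrank_le_oPerp_add (B := Q₀) R
    omega
  obtain ⟨his, hes⟩ := hdim s s₀ Ks hsJ hs2 hsn hsf
  obtain ⟨hit, het⟩ := hdim t t₀ Kt htJ ht2 htn htf
  set t' := g * t * g⁻¹ with ht'
  have ht'M : t' ∈ M := mul_mem (mul_mem hg ht) (inv_mem hg)
  have ht'2 : t' * t' = 1 := by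
    rw [ht', show g * t * g⁻¹ * (g * t * g⁻¹) = g * (t * t) * g⁻¹ by group, ht2, mul_one, mul_inv_cancel]
  have hit' : Module.finrank F (qEig t' (-1)) = Module.finrank F₀ Kt := by
    rw [← finrank_qEig_conj ht'.symm, hit]
  suffices hKt : KRat inc t' by
    obtain ⟨J', hJ'⟩ := A.ratMap_of_krat hsq ht'2 hKt
    have hE := (A.finrank_qEig h2 hJ' ht'2).2
    have happ : ∀ (e : F₀) (v : V₀), (t₀.1 : V₀ →ₗ[F₀] V₀) v = e • v →
        g.1 (inc v) ∈ qEig t' (e : F) := fun e v hv => by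
      rw [mem_eig]
      show g.1 (t.1 ((g⁻¹).1 (g.1 (inc v)))) = _
      rw [show (g⁻¹).1 (g.1 (inc v)) = inc v from g.1.symm_apply_apply _, htJ, hv, A.inc_smul, map_smul]
    have hperp : ∀ (e : F₀), e * e = 1 → ∀ {v : V₀}, (t₀.1 : V₀ →ₗ[F₀] V₀) v = e • v →
        ∀ w ∈ eig J' (-e), polar Q (g.1 (inc v)) (inc w) = 0 := fun e he v hv w hw =>
      A.perp_span ((A.eig_perp h2 hJ' ht'2 he).2.1 hw) (A.qEig_le_span h2 hJ' ht'2 he (happ e v hv))
    have hsum := finrank_eig_add h20 (A.ratMap_sq hJ' ht'2)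
    obtain ⟨hN, hle, -⟩ := A.eig_perp h2 hJ' ht'2 (e := -1) (by ring)
    have hperpE : oPerp Q₀ (eig J' (-1)) = eig J' 1 := by
      rw [neg_neg] at hle
      refine (Submodule.eq_of_le_of_finrank_le hle ?_).symm
      have := finrank_oPerp hN
      omega
    have hsumt := finrank_eig_add h20 (fun z => htt₀ z : ∀ z, (t₀.1 : V₀ →ₗ[F₀] V₀) ((t₀.1 : V₀ →ₗ[F₀] V₀) z) = z)
    rcases four_split h20 A.sep₀ hd8 hno hN (by omega) with hpair | hpair
    · obtain ⟨v, hv, hv0, hQv⟩ := exists_singular_in (Q := Q₀) (W := eig (t₀.1 : V₀ →ₗ[F₀] V₀) 1) (by omega)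
      rw [mem_eig] at hv
      exact C.pair_rat' hg hQv hv0 hpair (hperp 1 (one_mul 1) hv)
    · rw [hperpE] at hpair
      obtain ⟨v, hv, hv0, hQv⟩ := exists_singular_in (Q := Q₀) (W := eig (t₀.1 : V₀ →ₗ[F₀] V₀) (-1))
        (by omega)
      rw [mem_eig] at hv
      exact C.pair_rat' hg hQv hv0 hpair (fun w hw => hperp (-1) (by ring) hv w (by rwa [neg_neg]))
  have hst : ¬ IsConj s t' := fun h => by
    obtain ⟨h', hh'⟩ := isConj_iff.1 h
    have := finrank_qEig_conj hh' (-1 : F)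
    omega
  haveI : Finite V := Module.finite_of_finite F
  haveI : Finite (V ≃ₗ[F] V) := Finite.of_injective _ DFunLike.coe_injective
  haveI : Finite (quadIsoms Q) := inferInstance
  obtain ⟨j, hjz, hj1, hj2, hjs, hjt, hjc⟩ := exists_commuting_involution s t' hs2 ht'2 hst
  have hjM : j ∈ M := (Subgroup.zpowers_le.2 (mul_mem hs ht'M)) hjz
  have small : ∀ {x : quadIsoms Q}, x ∈ M → ∀ R : Submodule F₀ V₀, Nondeg Q₀ R → 2 ≤ Module.finrank F₀ R →
      Module.finrank F₀ R ≤ 5 → Pres inc x R → KRat inc x := fun hx R hR h2R h5R hxR => by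
    rcases eq_or_lt_of_le h2R with h | h
    · exact C.plane_step h2 hd8 hno hsq hx hR h.symm hxR
    · exact C.pres_mid h2 hd8 hno hx hR h h5R hxR
  obtain ⟨J, hJ⟩ := A.ratMap_of_krat hsq hj2 (small hjM _
    (A.eig_perp h2 hsJ hs2 (e := -1) (by ring)).1 (by omega) (by omega)
    (A.pres_eig h2 hsJ hs2 hjs.symm (by ring)))
  obtain ⟨hN1, -, hsum⟩ := A.eig_perp h2 hJ hj2 (e := 1) (one_mul 1)
  obtain ⟨hN, -, -⟩ := A.eig_perp h2 hJ hj2 (e := -1) (by ring)
  have heven : Even (Module.finrank F₀ (eig J (-1))) := by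
    rw [← (A.finrank_qEig h2 hJ hj2).2]
    have hd := det_of_invol h2 (f := (j.1 : V →ₗ[F] V))
      fun w => congrArg (fun k : quadIsoms Q => k.1 w) hj2
    rw [det_of_mem_commutator (C.le hjM)] at hd
    refine (neg_one_pow_eq_one_iff_even ?_).1 hd.symm
    exact fun h => h2 (by linear_combination -h)
  obtain ⟨m, hm⟩ := heven
  have h0 : Module.finrank F₀ (eig J (-1)) ≠ 0 := fun h => by
    refine hj1 (A.isom_ext fun z => ?_)
    have hz : z ∈ eig J 1 := by rw [Submodule.eq_top_of_finrank_eq (S := eig J 1) (by omega)]; trivial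
    rw [mem_eig, one_smul] at hz
    rw [hJ, hz]; rfl
  have h8 : Module.finrank F₀ (eig J (-1)) ≠ 8 := fun h => by
    have hneg : ∀ z, J z = -z := fun z => by
      have hz : z ∈ eig J (-1) := by rw [Submodule.eq_top_of_finrank_eq (S := eig J (-1)) (by omega)]; trivial
      rwa [mem_eig, neg_one_smul] at hz
    have hsj2 : (s * j) * (s * j) = 1 := by
      rw [show (s * j) * (s * j) = s * (j * s) * j by group, hjs.eq,
        show s * (s * j) * j = (s * s) * (j * j) by group, hs2, hj2, mul_one]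
    have hsjJ : RatMap inc (s * j) ((s₀.1 : V₀ →ₗ[F₀] V₀) ∘ₗ J) := fun z => by
      show s.1 (j.1 (inc z)) = _
      rw [hJ, hsJ]; rfl
    have h1 := Submodule.finrank_mono (show oPerp Q₀ Ks ≤ eig ((s₀.1 : V₀ →ₗ[F₀] V₀) ∘ₗ J) (-1) from
      fun w hw => by
        rw [mem_eig, neg_one_smul]
        show s₀.1 (J w) = -w
        rw [hneg, map_neg, hsf w hw])
    rw [← (A.finrank_qEig h2 hsjJ hsj2).2] at h1
    have h3 := finrank_le_oPerp_add (B := Q₀) Ks
    rcases hjc with hc | hc <;> obtain ⟨h', hh'⟩ := isConj_iff.1 hc <;>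
      have := finrank_qEig_conj hh' (-1 : F) <;> omega
  rcases le_or_gt (Module.finrank F₀ (eig J (-1))) 5 with h | h
  · exact small ht'M _ hN (by omega) h (A.pres_eig h2 hJ hj2 hjt (by ring))
  · exact small ht'M _ hN1 (by omega) (by omega) (A.pres_eig h2 hJ hj2 hjt (one_mul 1))

end RatCtx

end CfsgLib.MaxSub
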