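import Cfsg.Agent.Lib.MaxSub.RatEightTools

/-!
Overgroups of subfield groups in eight-dimensional minus geometry, odd characteristic: elements preserving a
rational plane are rational.
-/

set_option autoImplicit false
set_option linter.unusedSectionVars false

namespace CfsgLib.MaxSub

open CfsgLib.Classical CfsgLib.Geom
open QuadraticMap (polar)

variable {F V V₀ : Type*} [Field F] [Finite F] {F₀ : Subfield F} [AddCommGroup V] [Module F V]
  [AddCommGroup V₀] [Module F₀ V₀] [FiniteDimensional F₀ V₀] [FiniteDimensional F V]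
variable {Q : QuadraticForm F V} {Q₀ : QuadraticForm F₀ V₀} {inc : V₀ →+ V}

section
variable {K W : Type*} [Field K] [AddCommGroup W] [Module K W] [FiniteDimensional K W]
variable {B : QuadraticForm K W}

/-- an involutive isometry keeping `P` splits its eigenvectors along `P` and its orthogonal -/
theorem eig_split {P : Submodule K W} (hP : Nondeg B P) {J : W →ₗ[K] W} (hJJ : ∀ x, J (J x) = x)
    (hJp : ∀ a b, polar B (J a) (J b) = polar B a b) (hJP : ∀ p ∈ P, J p ∈ P) {ε : K} {x : W}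
    (hx : x ∈ eig J ε) : ∃ p ∈ P ⊓ eig J ε, ∃ w ∈ oPerp B P ⊓ eig J ε, x = p + w := by
  obtain ⟨p, hp, w, hw, rfl⟩ := Submodule.mem_sup.1 (show x ∈ P ⊔ oPerp B P by rw [sup_oPerp hP]; trivial)
  have hJW : J w ∈ oPerp B P := fun q hq => by
    rw [← hJJ q, hJp]; exact hw _ (hJP q hq)
  rw [mem_eig, map_add, smul_add] at hx
  have h0 : J p - ε • p = 0 := hP _ (sub_mem (hJP p hp) (P.smul_mem ε hp)) fun y hy => by
    rw [show J p - ε • p = ε • w - J w from sub_eq_sub_iff_add_eq_add.2 (by rw [hx]; abel)]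
    exact sub_mem (Submodule.smul_mem _ ε hw) hJW y hy
  refine ⟨p, ⟨hp, mem_eig.2 (sub_eq_zero.1 h0)⟩, w, ⟨hw, mem_eig.2 ?_⟩, rfl⟩
  rw [sub_eq_zero.1 h0] at hx
  exact add_left_cancel hx

theorem nondeg_eig_inf {P : Submodule K W} (hP : Nondeg B P) {J : W →ₗ[K] W} (hJJ : ∀ x, J (J x) = x)
    (hJp : ∀ a b, polar B (J a) (J b) = polar B a b) (hJP : ∀ p ∈ P, J p ∈ P) {ε : K}
    (hE : Nondeg B (eig J ε)) : Nondeg B (oPerp B P ⊓ eig J ε) := fun x hx h => hE x hx.2 fun y hy => by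
  obtain ⟨p, hp, w, hw, rfl⟩ := eig_split hP hJJ hJp hJP hy
  rw [QuadraticMap.polar_add_right, hx.1 p hp.1, h w hw, add_zero]

end

namespace RatOrth

variable (A : RatOrth Q Q₀ inc)
include A

theorem ratMap_pres {x : quadIsoms Q} {J : V₀ →ₗ[F₀] V₀} (hJ : RatMap inc x J) {P : Submodule F₀ V₀}
    (hP : Nondeg Q₀ P) (hx : Pres inc x P) : ∀ p ∈ P, J p ∈ P := fun p hp =>
  A.mem_of_mem_span hP (by rw [← hJ]; exact hx p hp)

/-- rationality with a scalar forced into the subfield -/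
theorem ratMap_of_krat (hsq : ∀ c : F, c * c ∈ F₀ → c ∈ F₀) {x : quadIsoms Q} (hx : x * x = 1)
    (hK : KRat inc x) : ∃ J : V₀ →ₗ[F₀] V₀, RatMap inc x J := by
  obtain ⟨c, hc, h⟩ := hK
  choose f hf using h
  exact A.ratMap_of_scalar (hsq c (A.scalar_sq hx hf)) hc fun z => ⟨_, hf z⟩

end RatOrth

namespace RatCtx

variable {M : Subgroup (quadIsoms Q)} (C : RatCtx Q Q₀ inc M) (h2 : (2 : F) ≠ 0)
  (hd8 : Module.finrank F₀ V₀ = 8)
  (hno : ¬ ∃ S : Submodule F₀ V₀, (∀ x ∈ S, Q₀ x = 0) ∧ Module.finrank F₀ S = 4)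
  (hsq : ∀ c : F, c * c ∈ F₀ → c ∈ F₀)
include C h2 hd8 hno hsq

/-- an element preserving a rational plane is rational -/
theorem plane_step {g : quadIsoms Q} (hg : g ∈ M) {P : Submodule F₀ V₀} (hP : Nondeg Q₀ P)
    (h2P : Module.finrank F₀ P = 2) (hgP : Pres inc g P) : KRat inc g := by
  classical
  by_cases hsing : ∃ v ∈ P, Q₀ v = 0 ∧ v ≠ 0
  · obtain ⟨v, hv, hQv, hv0⟩ := hsing
    exact C.pres_plane h2 hd8 hno hg hP h2P hv hQv hv0 hgP
  have A := C.base
  have h20 := A.two₀ h2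
  have hW := nondeg_oPerp A.sep₀ hP
  have hW6 : Module.finrank F₀ (oPerp Q₀ P) = 6 := by have := finrank_oPerp hP; omega
  obtain ⟨s₀, hs₀, hss₀, Ks, hKs, hKsd, hsn, hsf⟩ := exists_neg A.sep₀ h20 1 (oPerp Q₀ P) hW (by omega)
  obtain ⟨e, heP, hQe⟩ := exists_one h20 hP (by omega)
  obtain ⟨f, hfW, hQf⟩ := exists_one h20 hW (by omega)
  have he0 : Q₀ e ≠ 0 := by rw [hQe]; exact one_ne_zero
  have hfe : Q₀ f = Q₀ e := hQf.trans hQe.symm
  have ht₀ := refl_pair_mem_commutator A.sep₀ (by omega) he0 hfe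
  set t₀ : quadIsoms Q₀ := ⟨reflEquiv Q₀ e he0, reflEquiv_mem Q₀ e he0⟩ *
    ⟨reflEquiv Q₀ f (hfe ▸ he0), reflEquiv_mem Q₀ f (hfe ▸ he0)⟩ with ht₀def
  have hef : polar Q₀ e f = 0 := by rw [QuadraticMap.polar_comm]; exact hfW e heP
  have hfe' : polar Q₀ f e = 0 := hfW e heP
  have hT : ∀ x, t₀.1 x = x - polar Q₀ e x • e - polar Q₀ f x • f := fun x => by
    show reflEquiv Q₀ e he0 (reflEquiv Q₀ f (by rw [hfe]; exact he0) x) = _
    rw [reflEquiv_apply, reflEquiv_apply, hQe, hQf, QuadraticMap.polar_sub_right,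
      QuadraticMap.polar_smul_right, hef, smul_zero, sub_zero]
    simp only [inv_one, one_mul]
    abel
  obtain ⟨s, hs, hsJ⟩ := C.exists_lift hs₀
  obtain ⟨t, ht, htJ⟩ := C.exists_lift ht₀
  have hs2 : s * s = 1 := A.isom_ext fun z => by
    show s.1 (s.1 (inc z)) = inc z
    rw [hsJ, hsJ]; exact congrArg inc (hss₀ z)
  have ht2 : t * t = 1 := A.isom_ext fun z => by
    show t.1 (t.1 (inc z)) = inc z
    rw [htJ, htJ]
    refine congrArg inc ?_
    show t₀.1 (t₀.1 z) = z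
    rw [hT, hT]
    simp only [QuadraticMap.polar_sub_right, QuadraticMap.polar_smul_right, polar_self_two, hQe, hQf, hef,
      hfe', smul_zero, smul_eq_mul]
    module
  -- the eigenspaces
  have hseig : eig (s₀.1 : V₀ →ₗ[F₀] V₀) (-1) ≤ Ks := fun x hx => by
    rw [mem_eig, neg_one_smul] at hx
    have hKnd := nondeg_of_negated h20 A.sep₀ hsn hsf
    obtain ⟨a, ha, b, hb, rfl⟩ := Submodule.mem_sup.1 (show x ∈ Ks ⊔ oPerp Q₀ Ks by
      rw [sup_oPerp hKnd]; trivial)
    have hb' : (s₀.1 : V₀ →ₗ[F₀] V₀) (a + b) = -a + b := by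
      rw [map_add, show (s₀.1 : V₀ →ₗ[F₀] V₀) a = -a from hsn a ha,
        show (s₀.1 : V₀ →ₗ[F₀] V₀) b = b from hsf b hb]
    rw [hb', neg_add] at hx
    have e2 : (2 : F₀) • b = 0 := by rw [two_smul]; exact eq_neg_iff_add_eq_zero.1 (add_left_cancel hx)
    rw [(smul_eq_zero.1 e2).resolve_left h20, add_zero]; exact ha
  have hteig : eig (t₀.1 : V₀ →ₗ[F₀] V₀) (-1) ≤ Submodule.span F₀ {e, f} := fun x hx => by
    rw [mem_eig, neg_one_smul] at hx
    have hx' : t₀.1 x = -x := hx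
    rw [hT] at hx'
    refine Submodule.mem_span_pair.2 ⟨polar Q₀ e x / 2, polar Q₀ f x / 2, smul_right_injective V₀ h20 ?_⟩
    show (2 : F₀) • _ = (2 : F₀) • x
    rw [smul_add, smul_smul, smul_smul, mul_div_cancel₀ _ h20, mul_div_cancel₀ _ h20, two_smul]
    linear_combination (norm := module) (-1 : ℤ) • hx'
  have hi_s : Module.finrank F (qEig s (-1)) ≤ 2 := by
    rw [(A.finrank_qEig h2 hsJ hs2).2]
    exact (Submodule.finrank_mono hseig).trans (by omega)
  have hi_t : Module.finrank F (qEig t (-1)) ≤ 2 := by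
    rw [(A.finrank_qEig h2 htJ ht2).2]
    refine (Submodule.finrank_mono hteig).trans ?_
    have h := finrank_span_finset_le_card (R := F₀) ({e, f} : Finset V₀)
    rw [Finset.coe_pair] at h
    exact h.trans Finset.card_le_two
  let G : Subgroup (quadIsoms Q) :=
    { carrier := {x | x ∈ M ∧ Pres inc x P}
      mul_mem' := fun {a b} ha hb => ⟨mul_mem ha.1 hb.1, fun v hv => ha.2.maps (hb.2 v hv)⟩
      one_mem' := ⟨one_mem M, fun v hv => Submodule.subset_span ⟨v, hv, rfl⟩⟩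
      inv_mem' := fun {a} ha => ⟨inv_mem ha.1, fun v hv => by
        obtain ⟨y, hy, e⟩ := ha.2.surj (Submodule.subset_span ⟨v, hv, rfl⟩)
        rw [← e]
        show (a⁻¹).1 (a.1 y) ∈ _
        rw [show (a⁻¹).1 (a.1 y) = y from a.1.symm_apply_apply y]
        exact hy⟩ }
  have hsfix : ∀ z ∈ rSpan (F := F) inc P, s.1 z = z := by
    intro z hz
    refine LinearMap.eqOn_span' (f := s.1.toLinearMap) (g := LinearMap.id) ?_ hz
    rintro _ ⟨v, hv, rfl⟩
    show s.1 (inc v) = inc v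
    rw [hsJ]; exact congrArg inc (hsf v fun w hw => by rw [QuadraticMap.polar_comm]; exact hKs hw v hv)
  have hsG : s ∈ G := ⟨hs, fun v hv => by
    rw [hsfix _ (Submodule.subset_span ⟨v, hv, rfl⟩)]; exact Submodule.subset_span ⟨v, hv, rfl⟩⟩
  have htG : t ∈ G := ⟨ht, fun v hv => Submodule.subset_span ⟨t₀.1 v, by
    rw [hT, show polar Q₀ f v = 0 from hfW v hv,
      zero_smul, sub_zero]
    exact sub_mem hv (P.smul_mem _ heP), (htJ v).symm⟩⟩
  have hgG : g ∈ G := ⟨hg, hgP⟩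
  set t' := g * t * g⁻¹ with ht'
  have ht'G : t' ∈ G := mul_mem (mul_mem hgG htG) (inv_mem hgG)
  have ht'2 : t' * t' = 1 := by
    rw [ht', show g * t * g⁻¹ * (g * t * g⁻¹) = g * (t * t) * g⁻¹ by group, ht2, mul_one, mul_inv_cancel]
  have hi_t' : Module.finrank F (qEig t' (-1)) ≤ 2 := by rw [← finrank_qEig_conj ht'.symm]; exact hi_t
  have happ : ∀ z, t'.1 (g.1 z) = g.1 (t.1 z) := fun z => by
    show g.1 (t.1 ((g⁻¹).1 (g.1 z))) = _
    rw [show (g⁻¹).1 (g.1 z) = z from g.1.symm_apply_apply z]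
  have htneg : ∀ w, t₀.1 w = -w → t'.1 (g.1 (inc w)) = -g.1 (inc w) := fun w hw => by
    rw [happ, htJ, show (t₀.1 : V₀ →ₗ[F₀] V₀) w = -w from hw, map_neg, map_neg]
  have hTe : t₀.1 e = -e := by
    rw [hT, polar_self_two, hQe, hfe', mul_one, zero_smul, sub_zero, two_smul]; abel
  have hTf : t₀.1 f = -f := by
    rw [hT, polar_self_two, hQf, hef, mul_one, zero_smul, sub_zero, two_smul]; abel
  have hze : g.1 (inc e) ∈ rSpan (F := F) inc P := hgP e heP
  have hze0 : g.1 (inc e) ≠ 0 := fun h =>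
    A.inc_ne (fun e' => he0 (by rw [e', map_zero])) (g.1.injective (h.trans (map_zero g.1).symm))
  have hnc : ¬ IsConj (⟨s, hsG⟩ : G) ⟨t', ht'G⟩ := fun hc => by
    obtain ⟨h, hh⟩ := isConj_iff.1 hc
    have hh' : (h : quadIsoms Q) * s = t' * h := by
      have e1 : h * ⟨s, hsG⟩ = (⟨t', ht'G⟩ : G) * h := by rw [← hh]; group
      exact congrArg Subtype.val e1
    obtain ⟨y, hy, ey⟩ := h.2.2.surj hze
    have e1 : (h : quadIsoms Q).1 (s.1 y) = t'.1 ((h : quadIsoms Q).1 y) :=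
      congrArg (fun m : quadIsoms Q => m.1 y) hh'
    rw [hsfix y hy, ey, htneg e hTe] at e1
    have e3 : (2 : F) • g.1 (inc e) = 0 := by rw [two_smul]; exact eq_neg_iff_add_eq_zero.1 e1
    exact hze0 ((smul_eq_zero.1 e3).resolve_left h2)
  haveI : Finite V := Module.finite_of_finite F
  haveI : Finite (V ≃ₗ[F] V) := Finite.of_injective _ DFunLike.coe_injective
  haveI : Finite (quadIsoms Q) := inferInstance
  obtain ⟨j₁, -, hj1₁, hj2₁, hjs₁, hjt₁, hjc₁⟩ := exists_commuting_involution (⟨s, hsG⟩ : G) ⟨t', ht'G⟩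
    (Subtype.ext hs2) (Subtype.ext ht'2) hnc
  obtain ⟨j, hjG⟩ := j₁
  have hj1 : j ≠ 1 := fun h => hj1₁ (Subtype.ext h)
  have hj2 : j * j = 1 := congrArg Subtype.val hj2₁
  have hjs : Commute j s := congrArg Subtype.val hjs₁.eq
  have hjt : Commute j t' := congrArg Subtype.val hjt₁.eq
  have hsj : ∃ x, (x = s ∨ x = t') ∧ IsConj x (s * j) := by
    rcases hjc₁ with h | h
    · exact ⟨s, Or.inl rfl, (G.subtype).map_isConj h⟩
    · exact ⟨t', Or.inr rfl, (G.subtype).map_isConj h⟩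
  have hi_sj : Module.finrank F (qEig (s * j) (-1)) ≤ 2 := by
    obtain ⟨x, hx, hc⟩ := hsj
    obtain ⟨h, hh⟩ := isConj_iff.1 hc
    rw [← finrank_qEig_conj hh]
    rcases hx with rfl | rfl
    · exact hi_s
    · exact hi_t'
  have hsj2 : (s * j) * (s * j) = 1 := by
    rw [show (s * j) * (s * j) = s * (j * s) * j by group, hjs.eq,
      show s * (s * j) * j = (s * s) * (j * j) by group, hs2, hj2, mul_one]
  -- `j` is rational
  have hKnd := nondeg_of_negated h20 A.sep₀ hsn hsf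
  obtain ⟨hPK, hPKd⟩ := nondeg_sup hP hKnd hKs
  obtain ⟨J, hJ⟩ := A.ratMap_of_krat hsq hj2 (C.pres_mid h2 hd8 hno hjG.1 hPK (by omega) (by omega) (by
    intro v hv
    obtain ⟨a, ha, b, hb, rfl⟩ := Submodule.mem_sup.1 hv
    rw [map_add, map_add]
    refine add_mem (Submodule.span_mono (Set.image_mono (show P ≤ P ⊔ Ks from le_sup_left)) (hjG.2 a ha)) ?_
    refine Submodule.span_mono (Set.image_mono (show eig (s₀.1 : V₀ →ₗ[F₀] V₀) (-1) ≤ P ⊔ Ks from
      hseig.trans le_sup_right)) (A.pres_eig h2 hsJ hs2 hjs.symm (by ring) b ?_)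
    rw [mem_eig, neg_one_smul]; exact hsn b hb))
  have hJJ := A.ratMap_sq hJ hj2
  have hJp : ∀ a b, polar Q₀ (J a) (J b) = polar Q₀ a b := A.ratMap_polar hJ
  have hJP := A.ratMap_pres hJ hP hjG.2
  have hab := finrank_eig_add h20 hJJ
  have hsjJ : RatMap inc (s * j) ((s₀.1 : V₀ →ₗ[F₀] V₀) ∘ₗ J) := fun z => by
    show s.1 (j.1 (inc z)) = _
    rw [hJ, hsJ]; rfl
  have hisj := (A.finrank_qEig h2 hsjJ hsj2).2
  -- an element of `G` commuting with `j`
  suffices hKt : KRat inc t' by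
    obtain ⟨J', hJ'⟩ := A.ratMap_of_krat hsq ht'2 hKt
    have hJJ' := A.ratMap_sq hJ' ht'2
    have hJp' : ∀ a b, polar Q₀ (J' a) (J' b) = polar Q₀ a b := A.ratMap_polar hJ'
    have hJP' := A.ratMap_pres hJ' hP ht'G.2
    have hE := (A.finrank_qEig h2 hJ' ht'2).2
    have hPE : P ⊓ eig J' (-1) ≠ ⊥ := fun hbot => by
      have hfix : ∀ z ∈ rSpan (F := F) inc P, t'.1 z = z := by
        intro z hz
        refine LinearMap.eqOn_span' (f := t'.1.toLinearMap) (g := LinearMap.id) ?_ hz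
        rintro _ ⟨v, hv, rfl⟩
        show t'.1 (inc v) = inc v
        rw [hJ']
        have hm : v - J' v ∈ P ⊓ eig J' (-1) := ⟨sub_mem hv (hJP' v hv), by
          show v - J' v ∈ eig J' (-1)
          rw [mem_eig, map_sub, hJJ', neg_one_smul, neg_sub]⟩
        rw [hbot, Submodule.mem_bot, sub_eq_zero] at hm
        rw [← hm]
      have e1 := hfix _ hze
      rw [htneg e hTe] at e1
      have e3 : (2 : F) • g.1 (inc e) = 0 := by rw [two_smul]; exact eq_neg_iff_add_eq_zero.1 e1.symm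
      exact hze0 ((smul_eq_zero.1 e3).resolve_left h2)
    have hEnd : Nondeg Q₀ (eig J' (-1)) := (A.eig_perp h2 hJ' ht'2 (e := -1) (by ring)).1
    obtain ⟨hR, hRd⟩ := nondeg_sup hP (nondeg_eig_inf hP hJJ' hJp' hJP' hEnd) inf_le_left
    have hER : eig J' (-1) ≤ P ⊔ (oPerp Q₀ P ⊓ eig J' (-1)) := fun x hx => by
      obtain ⟨p, hp, w, hw, rfl⟩ := eig_split hP hJJ' hJp' hJP' hx
      exact add_mem (Submodule.mem_sup_left hp.1) (Submodule.mem_sup_right hw)
    have hk : Module.finrank F₀ ↥(oPerp Q₀ P ⊓ eig J' (-1)) ≤ 1 := by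
      have h1 := Submodule.finrank_sup_add_finrank_inf_eq (P ⊓ eig J' (-1)) (oPerp Q₀ P ⊓ eig J' (-1))
      have h3 := Submodule.finrank_mono (show (P ⊓ eig J' (-1)) ⊔ (oPerp Q₀ P ⊓ eig J' (-1)) ≤ eig J' (-1) from
        sup_le inf_le_right inf_le_right)
      rw [show (P ⊓ eig J' (-1)) ⊓ (oPerp Q₀ P ⊓ eig J' (-1)) = ⊥ from (Submodule.eq_bot_iff _).2
        fun x hx => hP x hx.1.1 hx.2.1, finrank_bot] at h1
      have h5 := Submodule.one_le_finrank_iff.2 hPE
      omega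
    have hfP : f ∉ P := fun hm => by
      have h := hfW f hm
      rw [polar_self_two, hQf, mul_one] at h
      exact h20 h
    obtain ⟨v, hv, hv0, hQv⟩ := exists_singular_in (Q := Q₀) (W := P ⊔ Submodule.span F₀ {f}) (by
      have := Submodule.finrank_lt_finrank_of_lt (show P < P ⊔ Submodule.span F₀ {f} from
        lt_of_le_of_ne le_sup_left fun h => hfP (h ▸ Submodule.mem_sup_right (Submodule.mem_span_singleton_self f)))
      omega)
    refine C.pair_rat' hg hQv hv0 (exists_pair_five A.sep₀ (nondeg_oPerp A.sep₀ hR)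
      (by have := finrank_oPerp hR; omega)) fun w hw => A.perp_span hw ?_
    obtain ⟨p, hp, q, hq, rfl⟩ := Submodule.mem_sup.1 hv
    obtain ⟨c, rfl⟩ := Submodule.mem_span_singleton.1 hq
    rw [map_add, map_add, A.inc_smul, map_smul]
    refine add_mem (Submodule.span_mono (Set.image_mono (show P ≤ P ⊔ (oPerp Q₀ P ⊓ eig J' (-1)) from
      le_sup_left)) (hgP p hp)) (Submodule.smul_mem _ _ (Submodule.span_mono (Set.image_mono hER) ?_))
    refine A.qEig_le_span h2 hJ' ht'2 (e := -1) (by ring) ?_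
    rw [mem_eig, NegMemClass.coe_neg, OneMemClass.coe_one, neg_one_smul]
    exact htneg f hTf
  rcases le_or_gt 3 (Module.finrank F₀ (eig J (-1))) with hd3 | hd3
  · rcases le_or_gt (Module.finrank F₀ (eig J (-1))) 5 with hd5 | hd5
    · exact C.pres_mid h2 hd8 hno ht'G.1 (A.eig_perp h2 hJ hj2 (e := -1) (by ring)).1 hd3 hd5
        (A.pres_eig h2 hJ hj2 hjt (by ring))
    obtain ⟨hN, -, -⟩ := A.eig_perp h2 hJ hj2 (e := 1) (one_mul 1)
    obtain ⟨hR, hRd⟩ := nondeg_sup hP (nondeg_eig_inf hP hJJ hJp hJP hN) inf_le_left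
    have hle := Submodule.finrank_mono (show oPerp Q₀ P ⊓ eig J 1 ≤ eig J 1 from inf_le_right)
    rcases Nat.eq_zero_or_pos (Module.finrank F₀ ↥(oPerp Q₀ P ⊓ eig J 1)) with hk | hk
    · exfalso
      have hneg : ∀ w ∈ oPerp Q₀ P, J w = -w := fun w hw => by
        have hm : w + J w ∈ oPerp Q₀ P ⊓ eig J 1 := ⟨add_mem hw (fun q hq => by
          rw [← hJJ q, hJp]; exact hw _ (hJP q hq)), by
          show w + J w ∈ eig J 1
          rw [mem_eig, map_add, hJJ, one_smul, add_comm]⟩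
        rw [Submodule.finrank_eq_zero.1 hk, Submodule.mem_bot] at hm
        exact (neg_eq_of_add_eq_zero_right hm).symm
      have h1 := Submodule.finrank_mono (show oPerp Q₀ (P ⊔ Ks) ≤ eig ((s₀.1 : V₀ →ₗ[F₀] V₀) ∘ₗ J) (-1) from
        fun w hw => by
          rw [mem_eig, neg_one_smul]
          show s₀.1 (J w) = -w
          rw [hneg w fun q hq => hw q (Submodule.mem_sup_left hq), map_neg,
            hsf w fun q hq => hw q (Submodule.mem_sup_right hq)])
      have h3 := finrank_oPerp hPK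
      omega
    · refine C.pres_mid h2 hd8 hno ht'G.1 hR (by omega) (by omega) ?_
      intro v hv
      obtain ⟨a, ha, b, hb, rfl⟩ := Submodule.mem_sup.1 hv
      rw [map_add, map_add]
      refine add_mem (Submodule.span_mono (Set.image_mono (show P ≤ _ from le_sup_left)) (ht'G.2 a ha))
        (Submodule.span_mono (Set.image_mono ?_) (A.pres_eig h2 hJ hj2 hjt (one_mul 1) b hb.2))
      intro x hx
      obtain ⟨p, hp, w, hw, rfl⟩ := eig_split hP hJJ hJp hJP hx
      exact add_mem (Submodule.mem_sup_left hp.1) (Submodule.mem_sup_right hw)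
  obtain ⟨hN, -, -⟩ := A.eig_perp h2 hJ hj2 (e := -1) (by ring)
  obtain ⟨hR, hRd⟩ := nondeg_sup hP (nondeg_eig_inf hP hJJ hJp hJP hN) inf_le_left
  have hle := Submodule.finrank_mono (show oPerp Q₀ P ⊓ eig J (-1) ≤ eig J (-1) from inf_le_right)
  rcases Nat.eq_zero_or_pos (Module.finrank F₀ ↥(oPerp Q₀ P ⊓ eig J (-1))) with hk | hk
  · exfalso
    rcases Nat.eq_zero_or_pos (Module.finrank F₀ (eig J (-1))) with hd | hd
    · refine hj1 (A.isom_ext fun z => ?_)
      have hz : z ∈ eig J 1 := by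
        rw [Submodule.eq_top_of_finrank_eq (S := eig J 1) (by omega)]; trivial
      rw [mem_eig, one_smul] at hz
      rw [hJ, hz]; rfl
    have hEP : eig J (-1) ≤ P := fun x hx => by
      obtain ⟨p, hp, w, hw, rfl⟩ := eig_split hP hJJ hJp hJP hx
      rw [Submodule.finrank_eq_zero.1 hk, Submodule.mem_bot] at hw
      rw [hw, add_zero]; exact hp.1
    have hfix : ∀ w ∈ oPerp Q₀ P, J w = w := fun w hw => by
      have hm : w - J w ∈ oPerp Q₀ P ⊓ eig J (-1) := ⟨sub_mem hw (fun q hq => by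
        rw [← hJJ q, hJp]; exact hw _ (hJP q hq)), by
        show w - J w ∈ eig J (-1)
        rw [mem_eig, map_sub, hJJ, neg_one_smul, neg_sub]⟩
      rw [Submodule.finrank_eq_zero.1 hk, Submodule.mem_bot, sub_eq_zero] at hm
      exact hm.symm
    have h1 := Submodule.finrank_mono (show eig J (-1) ⊔ Ks ≤ eig ((s₀.1 : V₀ →ₗ[F₀] V₀) ∘ₗ J) (-1) from
      sup_le (fun w hw => by
          rw [mem_eig, neg_one_smul]
          show s₀.1 (J w) = -w
          rw [mem_eig, neg_one_smul] at hw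
          rw [hw, map_neg, hsf w fun q hq => by
            rw [QuadraticMap.polar_comm]; exact hKs hq w (hEP (by rw [mem_eig, neg_one_smul]; exact hw))])
        fun w hw => by
          rw [mem_eig, neg_one_smul]
          show s₀.1 (J w) = -w
          rw [hfix w (hKs hw), hsn w hw])
    have h3 := Submodule.finrank_sup_add_finrank_inf_eq (eig J (-1)) Ks
    rw [show eig J (-1) ⊓ Ks = ⊥ from (Submodule.eq_bot_iff _).2 fun x hx =>
      hP x (hEP hx.1) fun y hy => hKs hx.2 y hy, finrank_bot] at h3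
    omega
  · refine C.pres_mid h2 hd8 hno ht'G.1 hR (by omega) (by omega) ?_
    intro v hv
    obtain ⟨a, ha, b, hb, rfl⟩ := Submodule.mem_sup.1 hv
    rw [map_add, map_add]
    refine add_mem (Submodule.span_mono (Set.image_mono (show P ≤ _ from le_sup_left)) (ht'G.2 a ha))
      (Submodule.span_mono (Set.image_mono ?_) (A.pres_eig h2 hJ hj2 hjt (by ring) b hb.2))
    intro x hx
    obtain ⟨p, hp, w, hw, rfl⟩ := eig_split hP hJJ hJp hJP hx
    exact add_mem (Submodule.mem_sup_left hp.1) (Submodule.mem_sup_right hw)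

end RatCtx

end CfsgLib.MaxSub
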