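import Cfsg.Agent.Lib.MaxSub.SkewInvol
import Cfsg.Agent.Lib.Geom.PlusType
import Cfsg.Agent.Lib.Geom.FiniteField

/-!
Overgroups of subfield groups in eight-dimensional minus geometry, odd characteristic: elements preserving a
rational subspace of dimension three to five, or a plane with a singular vector, are rational.
-/

set_option autoImplicit false
set_option linter.unusedSectionVars false

namespace CfsgLib.MaxSub

open CfsgLib.Classical CfsgLib.Geom
open QuadraticMap (polar)
open scoped commutatorElement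

section
variable {K W : Type*} [Field K] [Finite K] [AddCommGroup W] [Module K W] [FiniteDimensional K W]
variable {B : QuadraticForm K W}

/-- two independent orthogonal singular vectors -/
def HasPair (B : QuadraticForm K W) (P : Submodule K W) : Prop :=
  ∃ u ∈ P, ∃ y ∈ P, B u = 0 ∧ B y = 0 ∧ polar B u y = 0 ∧ u ≠ 0 ∧ y ∉ Submodule.span K {u}

/-- the orthogonal of the orthogonal -/
theorem oPerp_oPerp (hsep : ∀ x, (∀ y, polar B x y = 0) → x = 0) {P : Submodule K W} (hP : Nondeg B P) :
    oPerp B (oPerp B P) = P := by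
  refine le_antisymm (fun x hx => ?_) fun x hx => fun s hs => by rw [QuadraticMap.polar_comm]; exact hs x hx
  obtain ⟨a, ha, b, hb, rfl⟩ := Submodule.mem_sup.1 (show x ∈ P ⊔ oPerp B P by rw [sup_oPerp hP]; trivial)
  have hb0 : b = 0 := nondeg_oPerp hsep hP b hb fun y hy => by
    have h := hx y hy
    rwa [QuadraticMap.polar_add_left, QuadraticMap.polar_comm B a y, hy a ha, zero_add] at h
  rw [hb0, add_zero]; exact ha

theorem finrank_oPerp {P : Submodule K W} (hP : Nondeg B P) :
    Module.finrank K P + Module.finrank K (oPerp B P) = Module.finrank K W := by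
  have hd := Submodule.finrank_sup_add_finrank_inf_eq P (oPerp B P)
  rw [sup_oPerp hP, finrank_top, show P ⊓ oPerp B P = ⊥ from (Submodule.eq_bot_iff _).2 fun x hx =>
    hP x hx.1 hx.2, finrank_bot] at hd
  omega

/-- two orthogonal non-degenerate subspaces span a non-degenerate one -/
theorem nondeg_sup {P R : Submodule K W} (hP : Nondeg B P) (hR : Nondeg B R) (hperp : R ≤ oPerp B P) :
    Nondeg B (P ⊔ R) ∧ Module.finrank K ↥(P ⊔ R) = Module.finrank K P + Module.finrank K R := by
  have hinf : P ⊓ R = ⊥ := (Submodule.eq_bot_iff _).2 fun x hx => hP x hx.1 (hperp hx.2)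
  refine ⟨fun x hx h => ?_, ?_⟩
  · obtain ⟨a, ha, b, hb, rfl⟩ := Submodule.mem_sup.1 hx
    have ea : a = 0 := hP a ha fun y hy => by
      have := h y (Submodule.mem_sup_left hy)
      rwa [QuadraticMap.polar_add_left, hperp hb y hy, add_zero] at this
    have eb : b = 0 := hR b hb fun y hy => by
      have := h y (Submodule.mem_sup_right hy)
      rwa [QuadraticMap.polar_add_left, QuadraticMap.polar_comm B a y, hperp hy a ha, zero_add] at this
    rw [ea, eb, add_zero]
  · have := Submodule.finrank_sup_add_finrank_inf_eq P R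
    rw [hinf, finrank_bot] at this
    omega

/-- a negated subspace fixing its orthogonal is non-degenerate -/
theorem nondeg_of_negated (h2 : (2 : K) ≠ 0) (hsep : ∀ x, (∀ y, polar B x y = 0) → x = 0)
    {g : quadIsoms B} {R : Submodule K W} (hn : ∀ x ∈ R, g.1 x = -x) (hf : ∀ x ∈ oPerp B R, g.1 x = x) :
    Nondeg B R := fun x hx h => by
  have e := hf x fun y hy => h y hy
  rw [hn x hx] at e
  have e2 : (2 : K) • x = 0 := by rw [two_smul]; exact eq_neg_iff_add_eq_zero.1 e.symm
  exact (smul_eq_zero.1 e2).resolve_left h2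

/-- a square discriminant gives a singular pair -/
theorem hasPair_of_square (h2 : (2 : K) ≠ 0) {P : Submodule K W} (hP : Nondeg B P)
    (hd : Module.finrank K P = 4) (b : Module.Basis (Fin 4) K P)
    (hsq : IsSquare (Matrix.of fun i j => polar B (b i : W) (b j)).det) : HasPair B P := by
  classical
  obtain ⟨S, hS, hQS⟩ := exists_totallySingular (B.comp P.subtype) h2
    (fun x hx => Subtype.ext (hP x x.2 fun y hy => hx ⟨y, hy⟩)) (m := 2) (by omega) b (by
      rw [show (LinearMap.toMatrix₂ b b (B.comp P.subtype).polarBilin) =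
          Matrix.of fun i j => polar B (b i : W) (b j) from Matrix.ext fun i j => by
        simp [LinearMap.toMatrix₂_apply, QuadraticMap.polar]]
      rw [neg_one_sq, one_mul]
      exact hsq)
  obtain ⟨u, hu, hu0⟩ := Submodule.exists_mem_ne_zero_of_ne_bot (p := S)
    (fun e => by rw [e, finrank_bot] at hS; omega)
  obtain ⟨y, hy, hyu⟩ : ∃ y ∈ S, y ∉ Submodule.span K {u} := by
    by_contra hno
    push Not at hno
    have := Submodule.finrank_mono (show S ≤ Submodule.span K {u} from hno)
    rw [finrank_span_singleton hu0] at this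
    omega
  refine ⟨u, u.2, y, y.2, hQS u hu, hQS y hy, ?_, fun e => hu0 (Subtype.ext e), fun hm => hyu ?_⟩
  · have h := hQS _ (add_mem hu hy)
    have e : B ((u : W) + y) = 0 := h
    rw [QuadraticMap.polar, e, show B (u : W) = 0 from hQS u hu, show B (y : W) = 0 from hQS y hy]
    simp
  · obtain ⟨c, hc⟩ := Submodule.mem_span_singleton.1 hm
    exact Submodule.mem_span_singleton.2 ⟨c, Subtype.ext hc⟩

/-- one of two complementary four-spaces of minus geometry has a singular pair -/
theorem four_split (h2 : (2 : K) ≠ 0) (hsep : ∀ x, (∀ y, polar B x y = 0) → x = 0)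
    (hd8 : Module.finrank K W = 8)
    (hno : ¬ ∃ S : Submodule K W, (∀ x ∈ S, B x = 0) ∧ Module.finrank K S = 4)
    {P : Submodule K W} (hP : Nondeg B P) (hP4 : Module.finrank K P = 4) :
    HasPair B P ∨ HasPair B (oPerp B P) := by
  classical
  have hU := nondeg_oPerp hsep hP
  have hU4 : Module.finrank K (oPerp B P) = 4 := by have := finrank_oPerp hP; omega
  let bP := Module.finBasisOfFinrankEq K P hP4
  let bU := Module.finBasisOfFinrankEq K (oPerp B P) hU4
  by_cases hsP : IsSquare (Matrix.of fun i j => polar B (bP i : W) (bP j)).det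
  · exact Or.inl (hasPair_of_square h2 hP hP4 bP hsP)
  by_cases hsU : IsSquare (Matrix.of fun i j => polar B (bU i : W) (bU j)).det
  · exact Or.inr (hasPair_of_square h2 hU hU4 bU hsU)
  exfalso
  have hc : IsCompl P (oPerp B P) := by
    refine IsCompl.of_eq ((Submodule.eq_bot_iff _).2 fun x hx => hP x hx.1 hx.2) (sup_oPerp hP)
  let b := (bP.prod bU).map (Submodule.prodEquivOfIsCompl P (oPerp B P) hc)
  obtain ⟨S, hS, hQS⟩ := exists_totallySingular B h2 hsep (m := 4) (by omega) b (by
    rw [show (LinearMap.toMatrix₂ b b B.polarBilin) = Matrix.fromBlocks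
        (Matrix.of fun i j => polar B (bP i : W) (bP j)) 0 0
        (Matrix.of fun i j => polar B (bU i : W) (bU j)) from ?_,
      Matrix.det_fromBlocks_zero₂₁, (Even.neg_one_pow ⟨2, rfl⟩ : (-1 : K) ^ 4 = 1), one_mul]
    · exact isSquare_mul_of_not _ _ hsP hsU
    · ext i j
      rcases i with i | i <;> rcases j with j | j <;> simp [b, LinearMap.toMatrix₂_apply]
      · rw [QuadraticMap.polar_comm]; exact (bU j).2 _ (bP i).2
      · exact (bU i).2 _ (bP j).2)
  exact hno ⟨S, hQS, hS⟩

theorem exists_pair_five (hsep : ∀ x, (∀ y, polar B x y = 0) → x = 0) {P : Submodule K W} (hP : Nondeg B P)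
    (h5 : 5 ≤ Module.finrank K P) : HasPair B P := by
  obtain ⟨u, hu, hu0, hQu⟩ := exists_singular_in (Q := B) (W := P) (by omega)
  obtain ⟨u', hu', huu'⟩ : ∃ z ∈ P, polar B u z ≠ 0 := by
    by_contra hno
    push Not at hno
    exact hu0 (hP u hu hno)
  have h1 := finrank_le_inf_ker P ((QuadraticMap.polarBilin B).flip u)
  have h2 := finrank_le_inf_ker (P ⊓ LinearMap.ker ((QuadraticMap.polarBilin B).flip u))
    ((QuadraticMap.polarBilin B).flip u')
  obtain ⟨y, hy, hy0, hQy⟩ := exists_singular_in (Q := B) (W := P ⊓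
      LinearMap.ker ((QuadraticMap.polarBilin B).flip u) ⊓
      LinearMap.ker ((QuadraticMap.polarBilin B).flip u')) (by omega)
  refine ⟨u, hu, y, hy.1.1, hQu, hQy, ?_, hu0, fun hm => ?_⟩
  · rw [QuadraticMap.polar_comm]; exact hy.1.2
  · obtain ⟨c, rfl⟩ := Submodule.mem_span_singleton.1 hm
    have h : polar B (c • u) u' = 0 := hy.2
    rw [QuadraticMap.polar_smul_left, smul_eq_mul] at h
    exact hy0 (by rw [(mul_eq_zero.1 h).resolve_right huu', zero_smul])

/-- products of two reflections with the same value -/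
theorem refl_pair_mem_commutator (hsep : ∀ x, (∀ y, polar B x y = 0) → x = 0)
    (h5 : 5 ≤ Module.finrank K W) {a c : W} (ha : B a ≠ 0) (hc : B c = B a) :
    (⟨reflEquiv B a ha, reflEquiv_mem B a ha⟩ : quadIsoms B) *
      ⟨reflEquiv B c (hc ▸ ha), reflEquiv_mem B c (hc ▸ ha)⟩ ∈ commutator (quadIsoms B) := by
  obtain ⟨g, -, hgc⟩ := siegel_transitive_value B hsep h5 ha hc.symm
  set ra : quadIsoms B := ⟨reflEquiv B a ha, reflEquiv_mem B a ha⟩
  set rc : quadIsoms B := ⟨reflEquiv B c (hc ▸ ha), reflEquiv_mem B c (hc ▸ ha)⟩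
  have hconj : g * ra * g⁻¹ = rc := by
    refine Subtype.ext ?_
    show g.1 * reflEquiv B a ha * g.1⁻¹ = reflEquiv B c (hc ▸ ha)
    rw [conj_reflEquiv B g.2]
    simp only [hgc]
  have e : ra * rc = ⁅ra, g⁆ := by
    rw [← hconj, commutatorElement_def]
    have : ra⁻¹ = ra := Subtype.ext (reflEquiv_inv B a ha)
    rw [this]; group
  rw [e, commutator_def]
  exact Subgroup.commutator_mem_commutator (Subgroup.mem_top _) (Subgroup.mem_top _)

theorem det_of_mem_commutator {g : quadIsoms B} (hg : g ∈ commutator (quadIsoms B)) :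
    LinearMap.det (g.1 : W →ₗ[K] W) = 1 := by
  let φ : quadIsoms B →* Kˣ := LinearEquiv.det.comp (quadIsoms B).subtype
  have h : φ g = 1 := Abelianization.commutator_subset_ker φ hg
  have h' := congrArg Units.val h
  simpa [φ, LinearEquiv.coe_det] using h'

end

variable {F V V₀ : Type*} [Field F] [Finite F] {F₀ : Subfield F} [AddCommGroup V] [Module F V]
  [AddCommGroup V₀] [Module F₀ V₀] [FiniteDimensional F₀ V₀] [FiniteDimensional F V]
variable {Q : QuadraticForm F V} {Q₀ : QuadraticForm F₀ V₀} {inc : V₀ →+ V}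

/-- the `F`-span of a rational subspace -/
abbrev rSpan (inc : V₀ →+ V) (P : Submodule F₀ V₀) : Submodule F V := Submodule.span F (inc '' (P : Set V₀))

/-- `g` maps the span of `P` into itself -/
def Pres (inc : V₀ →+ V) (g : quadIsoms Q) (P : Submodule F₀ V₀) : Prop :=
  ∀ v ∈ P, g.1 (inc v) ∈ rSpan (F := F) inc P

theorem Pres.maps {g : quadIsoms Q} {P : Submodule F₀ V₀} (h : Pres inc g P) {z : V}
    (hz : z ∈ rSpan (F := F) inc P) : g.1 z ∈ rSpan (F := F) inc P := by
  have hle : rSpan (F := F) inc P ≤ (rSpan (F := F) inc P).comap g.1.toLinearMap :=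
    Submodule.span_le.2 (by rintro _ ⟨v, hv, rfl⟩; exact h v hv)
  exact hle hz

theorem Pres.surj {g : quadIsoms Q} {P : Submodule F₀ V₀} (h : Pres inc g P) {z : V}
    (hz : z ∈ rSpan (F := F) inc P) : ∃ y ∈ rSpan (F := F) inc P, g.1 y = z := by
  obtain ⟨⟨y, hy⟩, e⟩ := (LinearMap.injective_iff_surjective
    (f := g.1.toLinearMap.restrict fun z hz => h.maps hz)).1
      (fun a b e => Subtype.ext (g.1.injective (congrArg Subtype.val e))) ⟨z, hz⟩
  exact ⟨y, hy, congrArg Subtype.val e⟩

namespace RatOrth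

variable (A : RatOrth Q Q₀ inc)
include A

theorem perp_span {P : Submodule F₀ V₀} {w : V₀} (hw : w ∈ oPerp Q₀ P) {z : V}
    (hz : z ∈ rSpan (F := F) inc P) : polar Q z (inc w) = 0 := by
  have hle : rSpan (F := F) inc P ≤ LinearMap.ker (Q.polarBilin.flip (inc w)) :=
    Submodule.span_le.2 (by
      rintro _ ⟨p, hp, rfl⟩
      show polar Q (inc p) (inc w) = 0
      rw [QuadraticMap.polar_comm]; exact A.pol_zero (hw p hp))
  exact hle hz

theorem mem_of_mem_span {P : Submodule F₀ V₀} (hP : Nondeg Q₀ P) {q : V₀}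
    (hq : inc q ∈ rSpan (F := F) inc P) : q ∈ P := by
  rw [← oPerp_oPerp A.sep₀ hP]
  exact fun w hw => Subtype.ext (by rw [← A.pol]; exact A.perp_span hw hq)

/-- the two eigenspaces of a rational involution -/
theorem eig_perp (h2 : (2 : F) ≠ 0) {x : quadIsoms Q} {J : V₀ →ₗ[F₀] V₀} (hJ : RatMap inc x J)
    (hx : x * x = 1) {e : F₀} (he : e * e = 1) :
    Nondeg Q₀ (eig J e) ∧ eig J (-e) ≤ oPerp Q₀ (eig J e) ∧
      Module.finrank F₀ (eig J e) + Module.finrank F₀ (eig J (-e)) = Module.finrank F₀ V₀ := by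
  have hJJ := A.ratMap_sq hJ hx
  have h20 := A.two₀ h2
  refine ⟨fun z hz h => A.sep₀ z fun p => ?_, fun b hb a ha => ?_, ?_⟩
  · rw [mem_eig] at hz
    have h0 := h (p + e • J p) (by
      rw [mem_eig, map_add, map_smul, hJJ, smul_add, smul_smul, he, one_smul, add_comm])
    have e1 : polar Q₀ z (J p) = e * polar Q₀ z p := by
      rw [← A.ratMap_polar hJ, hJJ, hz, QuadraticMap.polar_smul_left, smul_eq_mul]
    rw [QuadraticMap.polar_add_right, QuadraticMap.polar_smul_right, e1, smul_eq_mul, ← mul_assoc, he,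
      one_mul, ← two_mul] at h0
    exact (mul_eq_zero.1 h0).resolve_left h20
  · rw [SetLike.mem_coe, mem_eig] at ha
    rw [mem_eig] at hb
    have h := A.ratMap_polar hJ b a
    rw [ha, hb, QuadraticMap.polar_smul_left, QuadraticMap.polar_smul_right, smul_smul, neg_mul, he,
      neg_one_smul] at h
    have h' : (2 : F₀) * polar Q₀ b a = 0 := by linear_combination -h
    exact (mul_eq_zero.1 h').resolve_left h20
  · have h1 := finrank_eig_add h20 hJJ
    rcases mul_self_eq_one_iff.1 he with rfl | rfl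
    · exact h1
    · rw [neg_neg, add_comm]; exact h1

/-- an element commuting with a rational involution preserves its eigenspaces -/
theorem pres_eig (h2 : (2 : F) ≠ 0) {x t : quadIsoms Q} {J : V₀ →ₗ[F₀] V₀} (hJ : RatMap inc x J)
    (hx : x * x = 1) (hxt : Commute x t) {e : F₀} (he : e * e = 1) : Pres inc t (eig J e) := fun v hv => by
  refine A.qEig_le_span h2 hJ hx he ?_
  rw [mem_eig] at hv ⊢
  show x.1 (t.1 (inc v)) = _
  rw [show x.1 (t.1 (inc v)) = t.1 (x.1 (inc v)) from
    congrArg (fun m : quadIsoms Q => m.1 (inc v)) hxt.eq, hJ, hv, A.inc_smul, map_smul]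

end RatOrth

namespace RatCtx

variable {M : Subgroup (quadIsoms Q)} (C : RatCtx Q Q₀ inc M)
include C

/-- the image of a singular vector orthogonal to a subspace with a singular pair -/
theorem pair_rat' {g : quadIsoms Q} (hg : g ∈ M) {v : V₀} (hv : Q₀ v = 0) (hv0 : v ≠ 0)
    {P : Submodule F₀ V₀} (hP : HasPair Q₀ P)
    (hperp : ∀ w ∈ P, polar Q (g.1 (inc v)) (inc w) = 0) : KRat inc g := by
  obtain ⟨u, hu, y, hy, hQu, hQy, huy, hu0, hyu⟩ := hP
  exact C.pair_rat hg hv hv0 hQu hQy huy hu0 hyu (hperp u hu) (hperp y hy)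

/-- singular vector inside, pair outside -/
theorem pres_in {g : quadIsoms Q} (hg : g ∈ M) {P : Submodule F₀ V₀} (hgP : Pres inc g P) {v : V₀}
    (hvP : v ∈ P) (hv : Q₀ v = 0) (hv0 : v ≠ 0) (hpair : HasPair Q₀ (oPerp Q₀ P)) : KRat inc g :=
  C.pair_rat' hg hv hv0 hpair fun _ hw => C.base.perp_span hw (hgP v hvP)

/-- singular vector outside, pair inside -/
theorem pres_out {g : quadIsoms Q} (hg : g ∈ M) {P : Submodule F₀ V₀} (hgP : Pres inc g P) {v : V₀}
    (hvP : v ∈ oPerp Q₀ P) (hv : Q₀ v = 0) (hv0 : v ≠ 0) (hpair : HasPair Q₀ P) : KRat inc g :=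
  C.pair_rat' hg hv hv0 hpair fun w hw => by
    obtain ⟨y, hy, e⟩ := hgP.surj (Submodule.subset_span ⟨w, hw, rfl⟩)
    rw [← e, OrthSub.polar_map, QuadraticMap.polar_comm]
    exact C.base.perp_span hvP hy

variable (h2 : (2 : F) ≠ 0) (hd8 : Module.finrank F₀ V₀ = 8)
  (hno : ¬ ∃ S : Submodule F₀ V₀, (∀ x ∈ S, Q₀ x = 0) ∧ Module.finrank F₀ S = 4)
include h2 hd8 hno

/-- preserving a rational subspace of dimension three to five -/
theorem pres_mid {g : quadIsoms Q} (hg : g ∈ M) {P : Submodule F₀ V₀} (hP : Nondeg Q₀ P)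
    (h3 : 3 ≤ Module.finrank F₀ P) (h5 : Module.finrank F₀ P ≤ 5) (hgP : Pres inc g P) : KRat inc g := by
  have A := C.base
  have hU := nondeg_oPerp A.sep₀ hP
  have hd := finrank_oPerp hP
  obtain ⟨v, hv, hv0, hQv⟩ := exists_singular_in (Q := Q₀) (W := P) h3
  obtain ⟨v', hv', hv'0, hQv'⟩ := exists_singular_in (Q := Q₀) (W := oPerp Q₀ P) (by omega)
  rcases Nat.lt_or_ge (Module.finrank F₀ P) 4 with h | h
  · exact C.pres_in hg hgP hv hQv hv0 (exists_pair_five A.sep₀ hU (by omega))
  rcases Nat.lt_or_ge 4 (Module.finrank F₀ P) with h' | h'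
  · exact C.pres_out hg hgP hv' hQv' hv'0 (exists_pair_five A.sep₀ hP (by omega))
  rcases four_split (A.two₀ h2) A.sep₀ hd8 hno hP (by omega) with hpair | hpair
  · exact C.pres_out hg hgP hv' hQv' hv'0 hpair
  · exact C.pres_in hg hgP hv hQv hv0 hpair

/-- preserving a rational plane with a singular vector -/
theorem pres_plane {g : quadIsoms Q} (hg : g ∈ M) {P : Submodule F₀ V₀} (hP : Nondeg Q₀ P)
    (h2P : Module.finrank F₀ P = 2) {v : V₀} (hvP : v ∈ P) (hv : Q₀ v = 0) (hv0 : v ≠ 0)
    (hgP : Pres inc g P) : KRat inc g := by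
  have hd := finrank_oPerp hP
  exact C.pres_in hg hgP hvP hv hv0
    (exists_pair_five C.base.sep₀ (nondeg_oPerp C.base.sep₀ hP) (by omega))

end RatCtx

end CfsgLib.MaxSub
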