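import Cfsg.Agent.Lib.MaxSub.RatInvol
import Cfsg.Agent.Lib.MaxSub.Rational
import Cfsg.Agent.Lib.Geom.SpinorNorm

/-!
Maximality of subfield groups in `Ω`, characteristic two.
-/

set_option autoImplicit false
set_option linter.unusedSectionVars false

namespace CfsgLib.MaxSub

open CfsgLib.Classical CfsgLib.Geom
open QuadraticMap (polar)

variable {F V V₀ : Type*} [Field F] [Finite F] {F₀ : Subfield F} [AddCommGroup V] [Module F V]
  [AddCommGroup V₀] [Module F₀ V₀] [FiniteDimensional F₀ V₀] [FiniteDimensional F V]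
variable {Q : QuadraticForm F V} {Q₀ : QuadraticForm F₀ V₀} {inc : V₀ →+ V}

/-- a reflection is not in the commutator subgroup -/
theorem refl_notMem_commutator (hsep : ∀ x, (∀ y, polar Q x y = 0) → x = 0)
    (hd : Module.finrank F V ≠ 4) {z : V} (hz : Q z ≠ 0) {j : quadIsoms Q}
    (hj : j.1 = reflEquiv Q z hz) : j ∉ commutator (quadIsoms Q) := by
  intro h
  have hle : quadIsoms Q ≤ Subgroup.closure (reflSet Q) := (quadIsoms_eq_closure Q hsep (Or.inr hd)).le
  have h1 := Abelianization.commutator_subset_ker ((reflHom Q hsep).comp (Subgroup.inclusion hle)) h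
  rw [MonoidHom.mem_ker, MonoidHom.comp_apply,
    show Subgroup.inclusion hle j = ⟨reflEquiv Q z hz, reflEquiv_mem_closure Q z hz⟩ from Subtype.ext hj,
    reflHom_refl] at h1
  have h' : Multiplicative.ofAdd (1 : ZMod 2) = 1 := congrArg Prod.fst h1
  exact absurd h' (by decide)

namespace RatCtx

variable {M : Subgroup (quadIsoms Q)} (C : RatCtx Q Q₀ inc M) (h2 : (2 : F) = 0)
include C h2

theorem sqrt_mem {c : F} (h : c * c ∈ F₀) : c ∈ F₀ := by
  obtain ⟨d, hd⟩ := isSquare_of_two_eq_zero (F := F₀) (Subtype.ext (show ((2 : F₀) : F) = 0 from h2)) ⟨_, h⟩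
  have hd' : c * c = (d : F) * d := congrArg Subtype.val hd
  have h3 : (c - d) * (c - d) = 0 := by
    linear_combination hd' + ((d : F) * d - c * d) * h2
  rw [sub_eq_zero.1 (mul_self_eq_zero.1 h3)]
  exact d.2

theorem involution_ratMap {x : quadIsoms Q} (hx : x * x = 1) (hK : KRat inc x) : ∃ J : V₀ →ₗ[F₀] V₀, RatMap inc x J := by
  obtain ⟨c, hc, h⟩ := hK
  choose f hf using h
  exact C.base.ratMap_of_scalar (C.sqrt_mem h2 (C.base.scalar_sq hx hf)) hc fun z => ⟨_, hf z⟩

/-- an image of a singular point inside the commutator space of a rational involution -/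
theorem rat_of_range {x : quadIsoms Q} (hx : x * x = 1) {J : V₀ →ₗ[F₀] V₀} (hJ : RatMap inc x J)
    {g : quadIsoms Q} (hg : g ∈ M) {v : V₀} (hv : Q₀ v = 0) (hv0 : v ≠ 0) {p : V}
    (hp : x.1 p - p = g.1 (inc v)) : KRat inc g := by
  classical
  have A := C.base
  set a := g.1 (inc v) with ha
  have h20 : (2 : F₀) = 0 := Subtype.ext (show ((2 : F₀) : F) = 0 from h2)
  have hxx : ∀ z, x.1 (x.1 z) = z := fun z => congrArg (fun k : quadIsoms Q => k.1 z) hx
  have iso : ∀ p q, polar Q (x.1 p - p) (x.1 q - q) = 0 := fun p q => by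
    have e : polar Q p (x.1 q) = polar Q (x.1 p) q := by
      conv_lhs => rw [← OrthSub.polar_map x, hxx]
    rw [QuadraticMap.polar_sub_left, QuadraticMap.polar_sub_right, QuadraticMap.polar_sub_right,
      OrthSub.polar_map, e]
    linear_combination (polar Q p q - polar Q (x.1 p) q) * h2
  have hQa : Q a = 0 := (mem_quadIsoms.1 g.2 _).trans (A.quad_zero hv)
  have ha0 : a ≠ 0 := fun e => A.inc_ne hv0 (g.1.injective (e.trans (map_zero g.1).symm))
  let W := LinearMap.range (J - LinearMap.id)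
  have hW : ∀ w ∈ W, ∃ q, inc w = x.1 (inc q) - inc q := by
    rintro _ ⟨q, rfl⟩
    exact ⟨q, by rw [hJ, ← map_sub]; rfl⟩
  have haW : ∀ w ∈ W, polar Q a (inc w) = 0 := fun w hw => by
    obtain ⟨q, hq⟩ := hW w hw
    rw [← hp, hq]; exact iso _ _
  have hWW : ∀ w ∈ W, ∀ w' ∈ W, polar Q₀ w w' = 0 := fun w hw w' hw' => by
    obtain ⟨q, hq⟩ := hW w hw
    obtain ⟨q', hq'⟩ := hW w' hw'
    exact Subtype.ext (by rw [← A.pol, hq, hq']; exact iso _ _)
  by_cases hpl : ∃ u ∈ W, ∃ y ∈ W, Q₀ u = 0 ∧ Q₀ y = 0 ∧ u ≠ 0 ∧ y ∉ Submodule.span F₀ {u}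
  · obtain ⟨u, hu, y, hy, hQu, hQy, hu0, hyu⟩ := hpl
    have huy := hWW u hu y hy
    have hperp := A.pol_zero huy
    set E := siegel Q (inc u) (inc y)
    have hE : E ∈ M := C.mem u y hQu huy
    have hEa : E.1 a = a := by
      rw [siegel_apply Q (A.quad_zero hQu) hperp, QuadraticMap.polar_comm _ (inc u) a, haW u hu,
        QuadraticMap.polar_comm _ (inc y) a, haW y hy]
      simp
    have hE' : g⁻¹ * E * g ∈ M := mul_mem (mul_mem (inv_mem hg) hE) hg
    have hgE : ∀ z, g.1 ((g⁻¹ * E * g).1 z) = E.1 (g.1 z) := fun z => OrthSub.apply_inv g _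
    have hfix : (g⁻¹ * E * g).1 (inc v) = inc v := g.1.injective (by rw [hgE]; exact hEa)
    obtain ⟨c, hc, h⟩ := C.point_rat hE' hv hv0 one_ne_zero (v' := v) (by rw [one_smul]; exact hfix)
    choose f hf using h
    obtain ⟨J', hJ'⟩ := A.ratMap_of_scalar (A.scalar_of_fix hv0 hfix hf) hc fun z => ⟨_, hf z⟩
    obtain ⟨q, hq⟩ : ∃ q, polar Q (inc u) (g.1 (inc q)) ≠ 0 := by
      by_contra hno
      push Not at hno
      refine A.inc_ne hu0 ?_
      have h0 : (g⁻¹).1 (inc u) = 0 := A.eq_zero_of_perp fun z => by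
        rw [← OrthSub.polar_map g, OrthSub.apply_inv]; exact hno z
      rw [← OrthSub.apply_inv g (inc u), h0, map_zero]
    set w := J' q - q
    set β := polar Q (inc u) (g.1 (inc q))
    set γ := polar Q (inc y) (g.1 (inc q))
    have hgw : g.1 (inc w) = β • inc y - γ • inc u := by
      rw [map_sub, ← hJ', map_sub, hgE, siegel_apply Q (A.quad_zero hQu) hperp, A.quad_zero hQy]
      simp only [zero_mul, add_zero]
      abel
    have hQw : Q₀ w = 0 := Subtype.ext (by
      rw [← A.quad, ← mem_quadIsoms.1 g.2, hgw, sub_eq_add_neg, ← neg_smul γ (inc u), quad_map_add_smul,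
        quad_smul, A.quad_zero hQy, A.quad_zero hQu, QuadraticMap.polar_smul_left,
        QuadraticMap.polar_comm _ (inc y), hperp]
      simp)
    have hw0 : w ≠ 0 := by
      intro e
      obtain ⟨y', -, hy'S, hy'y⟩ := A.exists_unit {u} (by simp) (b := y) (by simpa using hyu)
      have h := congrArg (fun z => polar Q z (inc y')) hgw
      simp only [e, map_zero, QuadraticMap.polar_zero_left, QuadraticMap.polar_sub_left,
        QuadraticMap.polar_smul_left, A.pol, QuadraticMap.polar_comm Q₀ y y', hy'y,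
        QuadraticMap.polar_comm Q₀ u y', hy'S u (by simp), OneMemClass.coe_one, ZeroMemClass.coe_zero,
        smul_zero, sub_zero, smul_eq_mul, mul_one, mul_zero] at h
      exact hq h.symm
    refine C.pair_rat hg hQw hw0 hQu hQy huy hu0 hyu ?_ ?_
    · rw [hgw, QuadraticMap.polar_sub_left, QuadraticMap.polar_smul_left, QuadraticMap.polar_smul_left,
        polar_self_of_singular Q (A.quad_zero hQu), QuadraticMap.polar_comm _ (inc y), hperp]
      simp
    · rw [hgw, QuadraticMap.polar_sub_left, QuadraticMap.polar_smul_left, QuadraticMap.polar_smul_left,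
        polar_self_of_singular Q (A.quad_zero hQy), hperp]
      simp
  push Not at hpl
  obtain ⟨w, hwQ, hwmem⟩ : ∃ w, Q₀ w = 0 ∧ ∀ p ∈ W, Q₀ p = 0 → p ∈ Submodule.span F₀ {w} := by
    by_cases h : ∃ w ∈ W, Q₀ w = 0 ∧ w ≠ 0
    · obtain ⟨w, hw, hwQ, hw0⟩ := h
      exact ⟨w, hwQ, fun p hp hQp => hpl w hw p hp hwQ hQp hw0⟩
    · push Not at h
      exact ⟨0, map_zero Q₀, fun p hp hQp => by rw [h p hp hQp]; exact Submodule.zero_mem _⟩
  obtain ⟨z, hzW, hz⟩ : ∃ z ∈ W, ∀ p ∈ W, p ∈ Submodule.span F₀ {w, z} := by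
    by_cases h : ∃ z ∈ W, Q₀ z ≠ 0
    · obtain ⟨z, hz, hQz⟩ := h
      refine ⟨z, hz, fun p hp => ?_⟩
      obtain ⟨r, hr⟩ := isSquare_of_two_eq_zero h20 (Q₀ p / Q₀ z)
      obtain ⟨k, hk⟩ := Submodule.mem_span_singleton.1 (hwmem (p + r • z) (add_mem hp (W.smul_mem r hz)) (by
        rw [quad_map_add_smul, hWW p hp z hz, mul_zero, add_zero, ← hr, div_mul_cancel₀ _ hQz]
        linear_combination (Q₀ p) * h20))
      exact Submodule.mem_span_pair.2 ⟨k, -r, by rw [hk, neg_smul, add_neg_cancel_right]⟩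
    · push Not at h
      exact ⟨0, W.zero_mem, fun p hp => Submodule.span_mono (by simp) (hwmem p hp (h p hp))⟩
  have hin : a ∈ Submodule.span F ({inc w, inc z} : Set V) := by
    have hle : Submodule.span F (Set.range inc) ≤
        (Submodule.span F ({inc w, inc z} : Set V)).comap (x.1.toLinearMap - LinearMap.id) := by
      refine Submodule.span_le.2 ?_
      rintro _ ⟨q, rfl⟩
      obtain ⟨k, m, hkm⟩ := Submodule.mem_span_pair.1 (hz _ (LinearMap.mem_range_self (J - LinearMap.id) q))
      refine Submodule.mem_span_pair.2 ⟨(k : F), (m : F), ?_⟩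
      show _ = x.1 (inc q) - inc q
      rw [hJ, ← map_sub, ← A.inc_smul, ← A.inc_smul, ← map_add, hkm]
      rfl
    rw [← hp]
    exact hle (show p ∈ Submodule.span F (Set.range inc) by rw [A.span]; trivial)
  obtain ⟨α, β, hab⟩ := Submodule.mem_span_pair.1 hin
  have hwz : polar Q (inc w) (inc z) = 0 ∨ w = 0 := by
    rcases eq_or_ne w 0 with h | h
    · exact Or.inr h
    by_cases hwW : w ∈ W
    · exact Or.inl (A.pol_zero (hWW w hwW z hzW))
    · refine Or.inl ?_
      rcases eq_or_ne α 0 with hα | hα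
      · have h' := haW z hzW
        rw [← hab, hα, zero_smul, zero_add, QuadraticMap.polar_smul_left] at h'
        have h'' := hQa
        rw [← hab, hα, zero_smul, zero_add, quad_smul] at h''
        by_cases hQz : Q (inc z) = 0
        · have hzw := hwmem z hzW (Subtype.ext (by rw [← A.quad]; exact hQz))
          obtain ⟨k, hk⟩ := Submodule.mem_span_singleton.1 hzw
          rw [← hk, A.inc_smul, QuadraticMap.polar_smul_right, polar_self_of_singular Q (A.quad_zero hwQ),
            smul_zero]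
        · exfalso
          refine ha0 ?_
          rw [← hab, hα, zero_smul, zero_add,
            mul_self_eq_zero.1 ((mul_eq_zero.1 h'').resolve_right hQz), zero_smul]
      · have h' := haW z hzW
        rw [← hab, QuadraticMap.polar_add_left, QuadraticMap.polar_smul_left, QuadraticMap.polar_smul_left,
          A.pol_zero (hWW z hzW z hzW), smul_zero, add_zero, smul_eq_mul] at h'
        exact (mul_eq_zero.1 h').resolve_left hα
  have hQz : β * β * Q (inc z) = 0 := by
    have h := hQa
    rw [← hab, quad_map_add_smul, quad_smul, A.quad_zero hwQ, QuadraticMap.polar_smul_left] at h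
    rcases hwz with h' | h'
    · rw [h'] at h; simpa using h
    · rw [h', map_zero, QuadraticMap.polar_zero_left] at h; simpa using h
  by_cases hQ : Q (inc z) = 0
  · obtain ⟨k, hk⟩ := Submodule.mem_span_singleton.1 (hwmem z hzW (Subtype.ext (by rw [← A.quad]; exact hQ)))
    rw [← hk, A.inc_smul, smul_smul, ← add_smul] at hab
    exact C.point_rat hg hv hv0 (fun e => ha0 (by rw [← hab, e, zero_smul])) hab.symm
  · have hβ := mul_self_eq_zero.1 ((mul_eq_zero.1 hQz).resolve_right hQ)
    rw [hβ, zero_smul, add_zero] at hab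
    exact C.point_rat hg hv hv0 (fun e => ha0 (by rw [← hab, e, zero_smul])) hab.symm

theorem even_dichotomy {g : quadIsoms Q} (hg : g ∈ M) : KRat inc g := by
  classical
  have A := C.base
  have hd : 5 ≤ Module.finrank F₀ V₀ := by have := A.dim; have := A.dim7; omega
  have h20 : (2 : F₀) = 0 := Subtype.ext (show ((2 : F₀) : F) = 0 from h2)
  have hne1 : (-1 : F₀) = 1 := by linear_combination -h20
  have hinv : ∀ {a : V₀} {b : V₀}, Q₀ a = 0 → polar Q₀ a b = 0 →
      siegel Q (inc a) (inc b) * siegel Q (inc a) (inc b) = 1 := fun {a b} ha hab => by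
    rw [← siegel_add Q (A.quad_zero ha) (A.pol_zero hab) (A.pol_zero hab), ← two_smul F, h2, zero_smul,
      siegel_zero]
  obtain ⟨u, hu, -, huout⟩ := A.exists_out ∅ (by simp)
  have hu0 : u ≠ 0 := fun e => huout (e ▸ Submodule.zero_mem _)
  obtain ⟨y, hy, hyS, hyout⟩ := A.exists_out {u} (by simp)
  simp only [Finset.coe_singleton] at hyout
  have huy : polar Q₀ u y = 0 := by rw [QuadraticMap.polar_comm]; exact hyS u (by simp)
  obtain ⟨v, hv, -, hvout⟩ := A.exists_out ∅ (by simp)
  have hv0 : v ≠ 0 := fun e => hvout (e ▸ Submodule.zero_mem _)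
  obtain ⟨z₁, hvz₁, -, hz₁⟩ := exists_perp_anisotropic Q₀ A.sep₀ hd v v
  obtain ⟨r, hr⟩ := isSquare_of_two_eq_zero h20 (Q₀ z₁)⁻¹
  set z := r • z₁
  have hQz : Q₀ z = 1 := by rw [quad_smul, ← hr, inv_mul_cancel₀ hz₁]
  have hvz : polar Q₀ v z = 0 := by rw [QuadraticMap.polar_smul_right, hvz₁, smul_zero]
  set s := siegel Q (inc u) (inc y) with hs_def
  set t := siegel Q (inc v) (inc z) with ht_def
  have hs : s ∈ M := C.mem u y hu huy
  have ht : t ∈ M := C.mem v z hv hvz
  set t' := g * t * g⁻¹ with ht'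
  have ht'M : t' ∈ M := mul_mem (mul_mem hg ht) (inv_mem hg)
  have ht'2 : t' * t' = 1 := by
    rw [ht', show g * t * g⁻¹ * (g * t * g⁻¹) = g * (t * t) * g⁻¹ by group, hinv hv hvz, mul_one,
      mul_inv_cancel]
  have hst : ¬ IsConj s t' := by
    intro hc
    obtain ⟨h, hh⟩ := isConj_iff.1 hc
    set k := g⁻¹ * h
    have hks : k * s = t * k := by
      have h' : h * s = t' * h := by rw [← hh]; group
      show g⁻¹ * h * s = t * (g⁻¹ * h)
      rw [mul_assoc, h', ht']
      simp only [mul_assoc, inv_mul_cancel_left]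
    obtain ⟨p, -, hpS, hpv⟩ := A.exists_unit ∅ (by simp) (b := v) (by simpa using hv0)
    set x := (k⁻¹).1 (inc p)
    have e : k.1 (s.1 x - x) = t.1 (inc p) - inc p := by
      rw [map_sub, OrthSub.apply_inv, show k.1 (s.1 x) = t.1 (k.1 x) from
        congrArg (fun m : quadIsoms Q => m.1 x) hks, OrthSub.apply_inv]
    have h1 : Q (s.1 x - x) = 0 := by
      rw [siegel_apply Q (A.quad_zero hu) (A.pol_zero huy), A.quad_zero hy,
        show x + polar Q (inc u) x • inc y - (polar Q (inc y) x + 0 * polar Q (inc u) x) • inc u - x =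
          polar Q (inc u) x • inc y + (-polar Q (inc y) x) • inc u by module,
        quad_map_add_smul, quad_smul, A.quad_zero hy, A.quad_zero hu, QuadraticMap.polar_smul_left,
        QuadraticMap.polar_comm Q (inc y) (inc u), A.pol_zero huy]
      simp
    have h3 : Q (t.1 (inc p) - inc p) = 1 := by
      rw [A.siegel_inc hv hvz, ← map_sub, A.quad, siegel_apply Q₀ hv hvz, QuadraticMap.polar_comm _ v p,
        hpv, hQz, one_smul,
        show p + z - (polar Q₀ z p + 1 * 1) • v - p = z + (-(polar Q₀ z p + 1)) • v by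
          rw [one_mul]; module,
        quad_map_add_smul, hQz, hv, QuadraticMap.polar_comm Q₀ z v, hvz]
      simp
    rw [← e, mem_quadIsoms.1 k.2, h1] at h3
    exact zero_ne_one h3
  haveI : Finite V := Module.finite_of_finite F
  haveI : Finite (V ≃ₗ[F] V) := Finite.of_injective _ DFunLike.coe_injective
  haveI : Finite (quadIsoms Q) := inferInstance
  obtain ⟨j, hjz, hj1, hj2, hjs, hjt, -⟩ := exists_commuting_involution s t' (hinv hu huy) ht'2 hst
  have hjM : j ∈ M := (Subgroup.zpowers_le.2 (mul_mem hs ht'M)) hjz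
  -- `j` is rational
  obtain ⟨p, -, hpS, hpy⟩ := A.exists_unit {u} (by simp) (b := y) (by simpa using hyout)
  have hsp : s.1 (inc p) - inc p = inc u := by
    rw [A.siegel_inc hu huy, ← map_sub, siegel_apply Q₀ hu huy, QuadraticMap.polar_comm Q₀ y p, hpy,
      QuadraticMap.polar_comm Q₀ u p, hpS u (by simp), zero_smul, mul_zero, add_zero, add_zero, one_smul,
      sub_right_comm, sub_self, zero_sub, ← neg_one_smul F₀ u, hne1, one_smul]
  have hKj : KRat inc j := C.rat_of_range h2 (hinv hu huy) (J := (siegel Q₀ u y).1)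
    (fun w => A.siegel_inc hu huy w) hjM hu hu0 (p := j.1 (inc p)) (by
      rw [show s.1 (j.1 (inc p)) = j.1 (s.1 (inc p)) from
        congrArg (fun m : quadIsoms Q => m.1 (inc p)) hjs.eq.symm, ← map_sub, hsp])
  obtain ⟨J, hJ⟩ := C.involution_ratMap h2 hj2 hKj
  have hJJ := A.ratMap_sq hJ hj2
  -- a singular vector in the commutator space of `j`
  obtain ⟨q, hq0, hqQ⟩ : ∃ q, J q - q ≠ 0 ∧ Q₀ (J q - q) = 0 := by
    by_contra hno
    push Not at hno
    obtain ⟨q, hq⟩ : ∃ q, J q - q ≠ 0 := by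
      by_contra hall
      push Not at hall
      exact hj1 (A.isom_ext fun w => by rw [hJ, sub_eq_zero.1 (hall w)]; rfl)
    set z₀ := J q - q with hz₀
    have hQz₀ : Q₀ z₀ ≠ 0 := hno q hq
    have hline : ∀ x, J x - x ∈ Submodule.span F₀ {z₀} := fun x => by
      obtain ⟨r, hr⟩ := isSquare_of_two_eq_zero h20 (Q₀ (J x - x) / Q₀ z₀)
      have hiso : polar Q₀ (J x - x) z₀ = 0 := by
        rw [hz₀, QuadraticMap.polar_sub_left, QuadraticMap.polar_sub_right, QuadraticMap.polar_sub_right,
          A.ratMap_polar hJ, show polar Q₀ x (J q) = polar Q₀ (J x) q by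
            conv_lhs => rw [← A.ratMap_polar hJ, hJJ]]
        linear_combination (polar Q₀ x q - polar Q₀ (J x) q) * h20
      have e : J (x + r • q) - (x + r • q) = (J x - x) + r • z₀ := by
        rw [map_add, map_smul, hz₀, smul_sub]; abel
      have h0 : J (x + r • q) - (x + r • q) = 0 := by
        by_contra hne
        refine hno _ hne ?_
        rw [e, quad_map_add_smul, hiso, mul_zero, add_zero, ← hr, div_mul_cancel₀ _ hQz₀]
        linear_combination (Q₀ (J x - x)) * h20
      rw [e] at h0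
      rw [eq_neg_of_add_eq_zero_left h0, ← neg_smul]
      exact Submodule.smul_mem _ _ (Submodule.mem_span_singleton_self _)
    obtain ⟨z', hz'⟩ := A.exists_dual hq
    let φ : V₀ →ₗ[F₀] F₀ := ((QuadraticMap.polarBilin Q₀).flip z') ∘ₗ (J - LinearMap.id)
    let ψ : V₀ →ₗ[F₀] F₀ := (-(Q₀ z₀)⁻¹) • QuadraticMap.polarBilin Q₀ z₀
    have hφ : ∀ x, J x = x + φ x • z₀ := fun x => by
      obtain ⟨k, hk⟩ := Submodule.mem_span_singleton.1 (hline x)
      have : φ x = k := by
        show polar Q₀ (J x - x) z' = k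
        rw [← hk, QuadraticMap.polar_smul_left, hz', smul_eq_mul, mul_one]
      rw [this, hk, add_sub_cancel]
    have hor : ∀ x ∈ (⊤ : Submodule F₀ V₀), x ∈ LinearMap.ker φ ∨ x ∈ LinearMap.ker (φ - ψ) := fun x _ => by
      have h := A.ratMap_quad hJ x
      rw [hφ, quad_map_add_smul] at h
      by_cases hx : φ x = 0
      · exact Or.inl hx
      · refine Or.inr ?_
        show φ x - -(Q₀ z₀)⁻¹ * polar Q₀ z₀ x = 0
        have h' : φ x * (φ x * Q₀ z₀ + polar Q₀ x z₀) = 0 := by linear_combination h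
        have h'' := (mul_eq_zero.1 h').resolve_left hx
        rw [QuadraticMap.polar_comm Q₀ z₀ x]
        field_simp
        linear_combination h''
    rcases le_or_le_of_forall_mem hor with h | h
    · refine hq (sub_eq_zero.2 ?_)
      rw [hφ, show φ q = 0 from h (Submodule.mem_top (x := q)), zero_smul, add_zero]
    · have hQi : Q (inc z₀) ≠ 0 := by rw [A.quad]; simpa using hQz₀
      refine refl_notMem_commutator A.sep (by have := A.dim7; omega) hQi (j := j) ?_ (C.le hjM)
      refine LinearEquiv.toLinearMap_injective (LinearMap.ext_on A.span ?_)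
      rintro _ ⟨x, rfl⟩
      show j.1 (inc x) = reflEquiv Q (inc z₀) hQi (inc x)
      have h' : φ x - -(Q₀ z₀)⁻¹ * polar Q₀ z₀ x = 0 := h (Submodule.mem_top (x := x))
      rw [hJ, hφ, sub_eq_zero.1 h', reflEquiv_apply, map_add, A.inc_smul, A.quad, A.pol]
      push_cast
      module
  have hKt : KRat inc t' := C.rat_of_range h2 hj2 hJ ht'M hqQ hq0 (p := t'.1 (inc q)) (by
    rw [show j.1 (t'.1 (inc q)) = t'.1 (j.1 (inc q)) from
      congrArg (fun m : quadIsoms Q => m.1 (inc q)) hjt.eq, ← map_sub, hJ, ← map_sub])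
  obtain ⟨J', hJ'⟩ := C.involution_ratMap h2 ht'2 hKt
  obtain ⟨p', -, hp'S, hp'z⟩ := A.exists_unit {v} (by simp) (b := z) (by
    simp only [Finset.coe_singleton, Submodule.mem_span_singleton]
    rintro ⟨k, hk⟩
    rw [← hk, quad_smul, hv, mul_zero] at hQz
    exact zero_ne_one hQz)
  have htp : t.1 (inc p') - inc p' = inc v := by
    rw [A.siegel_inc hv hvz, ← map_sub, siegel_apply Q₀ hv hvz, QuadraticMap.polar_comm Q₀ z p', hp'z,
      QuadraticMap.polar_comm Q₀ v p', hp'S v (by simp), zero_smul, mul_zero, add_zero, add_zero, one_smul,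
      sub_right_comm, sub_self, zero_sub, ← neg_one_smul F₀ v, hne1, one_smul]
  exact C.rat_of_range h2 ht'2 hJ' hg hv hv0 (p := g.1 (inc p')) (by
    have e : t'.1 (g.1 (inc p')) = g.1 (t.1 (inc p')) := by
      show g.1 (t.1 ((g⁻¹).1 (g.1 (inc p')))) = _
      rw [show (g⁻¹).1 (g.1 (inc p')) = inc p' from g.1.symm_apply_apply _]
    rw [e, ← map_sub, htp])

end RatCtx

end CfsgLib.MaxSub
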