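import Cfsg.Agent.Lib.MaxSub.RatPair

/-!
Involutions and lifts for rational structures on quadratic spaces.
-/

set_option autoImplicit false
set_option linter.unusedSectionVars false

namespace CfsgLib.MaxSub

open CfsgLib.Classical CfsgLib.Geom
open QuadraticMap (polar)

variable {F V V₀ : Type*} [Field F] [Finite F] {F₀ : Subfield F} [AddCommGroup V] [Module F V]
  [AddCommGroup V₀] [Module F₀ V₀] [FiniteDimensional F₀ V₀] [FiniteDimensional F V]
variable {Q : QuadraticForm F V} {Q₀ : QuadraticForm F₀ V₀} {inc : V₀ →+ V}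

/-- `x` acts on the rational vectors as `J`. -/
def RatMap (inc : V₀ →+ V) (x : quadIsoms Q) (J : V₀ →ₗ[F₀] V₀) : Prop :=
  ∀ z, x.1 (inc z) = inc (J z)

namespace RatOrth

variable (A : RatOrth Q Q₀ inc)
include A

theorem isom_ext {x y : quadIsoms Q} (h : ∀ z, x.1 (inc z) = y.1 (inc z)) : x = y := by
  refine quadIsoms_ext Q fun w => ?_
  exact LinearMap.congr_fun (f := x.1.toLinearMap) (g := y.1.toLinearMap) (LinearMap.ext_on A.span
    (fun _ hw => by obtain ⟨z, rfl⟩ := hw; exact h z)) w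

theorem scalar_sq {x : quadIsoms Q} (hx : x * x = 1) {c : F} {J : V₀ → V₀}
    (h : ∀ z, c • x.1 (inc z) = inc (J z)) : c * c ∈ F₀ := by
  obtain ⟨v, hv, -, hvout⟩ := A.exists_out ∅ (by simp)
  have hv0 : v ≠ 0 := fun e => hvout (e ▸ Submodule.zero_mem _)
  obtain ⟨v', hv'⟩ := A.exists_dual hv0
  have hxx : x.1 (x.1 (inc v)) = inc v := congrArg (fun k : quadIsoms Q => k.1 (inc v)) hx
  have e : inc (J (J v)) = (c * c) • inc v := by
    rw [← h, ← h, map_smul, hxx, smul_smul]
  have h2 := congrArg (fun z => polar Q z (inc v')) e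
  simp only [A.pol, QuadraticMap.polar_smul_left, hv', OneMemClass.coe_one, smul_eq_mul, mul_one] at h2
  rw [← h2]; exact SetLike.coe_mem _

theorem scalar_of_fix {x : quadIsoms Q} {v : V₀} (hv : v ≠ 0) (hxv : x.1 (inc v) = inc v) {c : F}
    {J : V₀ → V₀} (h : ∀ z, c • x.1 (inc z) = inc (J z)) : c ∈ F₀ := by
  obtain ⟨v', hv'⟩ := A.exists_dual hv
  have e := h v
  rw [hxv] at e
  have h2 := congrArg (fun z => polar Q z (inc v')) e
  simp only [A.pol, QuadraticMap.polar_smul_left, hv', OneMemClass.coe_one, smul_eq_mul, mul_one] at h2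
  rw [h2]; exact SetLike.coe_mem _

theorem ratMap_of_scalar {x : quadIsoms Q} {c : F} (hc : c ∈ F₀) (hc0 : c ≠ 0)
    (h : ∀ z, ∃ y, c • x.1 (inc z) = inc y) : ∃ J : V₀ →ₗ[F₀] V₀, RatMap inc x J := by
  choose f hf using h
  let k : F₀ := ⟨c⁻¹, inv_mem hc⟩
  have key : ∀ z, x.1 (inc z) = inc (k • f z) := fun z => by
    rw [A.inc_smul, ← hf, smul_smul, show ((k : F₀) : F) = c⁻¹ from rfl, inv_mul_cancel₀ hc0, one_smul]
  exact ⟨{ toFun := fun z => k • f z
           map_add' := fun a b => A.inj (by rw [← key, map_add, map_add, map_add, key, key])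
           map_smul' := fun r a => A.inj (by
             rw [← key, A.inc_smul, map_smul, key, RingHom.id_apply, A.inc_smul r]) }, key⟩

theorem ratMap_quad {x : quadIsoms Q} {J : V₀ →ₗ[F₀] V₀} (h : RatMap inc x J) (z : V₀) :
    Q₀ (J z) = Q₀ z :=
  Subtype.ext (by rw [← A.quad, ← h, mem_quadIsoms.1 x.2, A.quad])

theorem ratMap_sq {x : quadIsoms Q} {J : V₀ →ₗ[F₀] V₀} (h : RatMap inc x J) (hx : x * x = 1) (z : V₀) :
    J (J z) = z :=
  A.inj (by rw [← h, ← h]; exact congrArg (fun k : quadIsoms Q => k.1 (inc z)) hx)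

theorem ratMap_polar {x : quadIsoms Q} {J : V₀ →ₗ[F₀] V₀} (h : RatMap inc x J) (z w : V₀) :
    polar Q₀ (J z) (J w) = polar Q₀ z w := by
  simp only [QuadraticMap.polar, ← map_add, A.ratMap_quad h]

/-- a Siegel transformation with irrational scalar is not rational -/
theorem exists_move (hne : ∃ θ : F, θ ∉ F₀) :
    ∃ g ∈ commutator (quadIsoms Q), ¬ KRat inc g := by
  classical
  obtain ⟨θ, hθ⟩ := hne
  obtain ⟨v, hv, -, hvout⟩ := A.exists_out ∅ (by simp)
  have hv0 : v ≠ 0 := fun e => hvout (e ▸ Submodule.zero_mem _)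
  obtain ⟨w, hw, hwS, hwout⟩ := A.exists_out {v} (by simp)
  have hvw : polar Q (inc v) (θ • inc w) = 0 := by
    rw [QuadraticMap.polar_smul_right, A.pol_zero (by rw [QuadraticMap.polar_comm]; exact hwS v (by simp)),
      smul_zero]
  refine ⟨_, OrthSub.siegel_mem_commutator A.sep (by have := A.dim7; omega) (inc v) (θ • inc w),
    fun hK => ?_⟩
  obtain ⟨c, hc, h⟩ := hK
  choose J hJ using h
  have hfix : (siegel Q (inc v) (θ • inc w)).1 (inc v) = inc v := by
    rw [siegel_apply Q (A.quad_zero hv) hvw, polar_self_of_singular Q (A.quad_zero hv),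
      QuadraticMap.polar_comm _ (θ • inc w), hvw]
    simp
  have hcm := A.scalar_of_fix hv0 hfix hJ
  obtain ⟨J', hJ'⟩ := A.ratMap_of_scalar (x := siegel Q (inc v) (θ • inc w)) hcm hc fun z => ⟨_, hJ z⟩
  obtain ⟨p, hp, hpS, hpv⟩ := A.exists_unit {w} (by simp) (b := v) (fun hm => by
    simp only [Finset.coe_singleton] at hm hwout
    obtain ⟨k, hk⟩ := Submodule.mem_span_singleton.1 hm
    have hk0 : k ≠ 0 := fun e => hv0 (by rw [← hk, e, zero_smul])
    exact hwout (Submodule.mem_span_singleton.2 ⟨k⁻¹, by rw [← hk, smul_smul, inv_mul_cancel₀ hk0, one_smul]⟩))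
  have e := hJ' p
  rw [siegel_apply Q (A.quad_zero hv) hvw, A.pol, QuadraticMap.polar_comm Q₀ v p, hpv, quad_smul,
    A.quad_zero hw, QuadraticMap.polar_smul_left, A.pol, QuadraticMap.polar_comm Q₀ w p, hpS w (by simp)] at e
  simp only [OneMemClass.coe_one, ZeroMemClass.coe_zero, smul_zero, mul_zero, zero_mul, add_zero, zero_smul,
    sub_zero, one_smul] at e
  have hw0 : w ≠ 0 := fun e' => hwout (e' ▸ Submodule.zero_mem _)
  obtain ⟨w', hw'⟩ := A.exists_dual hw0
  have h2 := congrArg (fun z => polar Q z (inc w')) e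
  simp only [QuadraticMap.polar_add_left, A.pol, QuadraticMap.polar_smul_left, hw', OneMemClass.coe_one,
    smul_eq_mul, mul_one] at h2
  exact hθ (by
    rw [show θ = ((polar Q₀ (J' p) w' : F₀) : F) - ((polar Q₀ p w' : F₀) : F) by linear_combination h2]
    exact sub_mem (SetLike.coe_mem _) (SetLike.coe_mem _))

end RatOrth

namespace RatCtx

variable {M : Subgroup (quadIsoms Q)} (C : RatCtx Q Q₀ inc M)
include C

/-- the commutator subgroup of the rational group lifts -/
theorem exists_lift {g₀ : quadIsoms Q₀} (hg : g₀ ∈ commutator (quadIsoms Q₀)) :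
    ∃ g ∈ M, RatMap inc g (g₀.1 : V₀ →ₗ[F₀] V₀) := by
  have A := C.base
  rw [commutator_eq_siegelGroup Q₀ A.sep₀ (by have := A.dim; have := A.dim7; omega)] at hg
  induction hg using Subgroup.closure_induction with
  | mem x hx =>
    obtain ⟨⟨u, w⟩, rfl⟩ := hx
    by_cases h : Q₀ u = 0 ∧ polar Q₀ u w = 0
    · exact ⟨_, C.mem u w h.1 h.2, fun z => A.siegel_inc h.1 h.2 z⟩
    · refine ⟨1, one_mem M, fun z => ?_⟩
      show inc z = inc ((siegel Q₀ u w).1 z)
      rw [siegel_of_not Q₀ h]; rfl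
  | one => exact ⟨1, one_mem M, fun z => rfl⟩
  | mul a b _ _ ha hb =>
    obtain ⟨x, hx, hx'⟩ := ha
    obtain ⟨y, hy, hy'⟩ := hb
    exact ⟨x * y, mul_mem hx hy, fun z => by
      show x.1 (y.1 (inc z)) = inc (a.1 (b.1 z))
      rw [hy', hx']; rfl⟩
  | inv a _ ha =>
    obtain ⟨x, hx, hx'⟩ := ha
    refine ⟨x⁻¹, inv_mem hx, fun z => x.1.injective ?_⟩
    rw [OrthSub.apply_inv, hx']
    show inc z = inc (a.1 ((a⁻¹).1 z))
    rw [OrthSub.apply_inv]

end RatCtx

end CfsgLib.MaxSub
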