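import Cfsg.Agent.Lib.MaxSub.RatOmega

/-!
Maximality of subfield groups in orthogonal groups of dimension nine, odd characteristic.
-/

set_option autoImplicit false
set_option linter.unusedSectionVars false

namespace CfsgLib.MaxSub

open CfsgLib.Classical CfsgLib.Geom
open QuadraticMap (polar)

variable {F V V₀ : Type*} [Field F] [Finite F] {F₀ : Subfield F} [AddCommGroup V] [Module F V]
  [AddCommGroup V₀] [Module F₀ V₀] [FiniteDimensional F₀ V₀] [FiniteDimensional F V]
variable {Q : QuadraticForm F V} {Q₀ : QuadraticForm F₀ V₀} {inc : V₀ →+ V}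

namespace RatCtx

variable {M : Subgroup (quadIsoms Q)} (C : RatCtx Q Q₀ inc M) (h2 : (2 : F) ≠ 0)
  (hd : Module.finrank F₀ V₀ = 9)
include C h2 hd

/-- preserving a rational subspace with dimension and codimension at least three -/
theorem nine_big {g : quadIsoms Q} (hg : g ∈ M) {P : Submodule F₀ V₀} (hP : Nondeg Q₀ P)
    (h3 : 3 ≤ Module.finrank F₀ P) (h3' : Module.finrank F₀ P + 3 ≤ 9) (hgP : Pres inc g P) :
    KRat inc g := by
  have A := C.base
  have hU := nondeg_oPerp A.sep₀ hP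
  have hdim := finrank_oPerp hP
  by_cases h : Module.finrank F₀ P + 5 ≤ 9
  · obtain ⟨v, hv, hv0, hQv⟩ := exists_singular_in (Q := Q₀) (W := P) h3
    exact C.pres_in hg hgP hv hQv hv0 (exists_pair_five A.sep₀ hU (by omega))
  · obtain ⟨v, hv, hv0, hQv⟩ := exists_singular_in (Q := Q₀) (W := oPerp Q₀ P) (by omega)
    exact C.pres_out hg hgP hv hQv hv0 (exists_pair_five A.sep₀ hP (by omega))

/-- preserving a rational plane -/
theorem nine_plane {g : quadIsoms Q} (hg : g ∈ M) {P : Submodule F₀ V₀} (hP : Nondeg Q₀ P)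
    (h2P : Module.finrank F₀ P = 2) (hgP : Pres inc g P) : KRat inc g := by
  classical
  have A := C.base
  have hdV := A.dim
  have h20 := A.two₀ h2
  have hW := nondeg_oPerp A.sep₀ hP
  have hWd := finrank_oPerp hP
  obtain ⟨s₀, hs₀, hss₀, Rs, hRs, hRsd, hsn, hsf⟩ := exists_neg A.sep₀ h20 3 _ hW (by omega)
  obtain ⟨t₀, ht₀, htt₀, Rt, hRt, hRtd, htn, htf⟩ := exists_neg A.sep₀ h20 2 _ hW (by omega)
  obtain ⟨s, hs, hsJ⟩ := C.exists_lift hs₀
  obtain ⟨t, ht, htJ⟩ := C.exists_lift ht₀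
  obtain ⟨hs2, hRsN, hsE, hsE1, hsd⟩ := A.eig_of_negated h2 hsJ hss₀ hsn hsf
  obtain ⟨ht2, hRtN, htE, htE1, htd⟩ := A.eig_of_negated h2 htJ htt₀ htn htf
  let G : Subgroup (quadIsoms Q) :=
    { carrier := {x | ∀ v ∈ P, x.1 (inc v) = inc v}
      mul_mem' := fun {a b} ha hb v hv => by
        show a.1 (b.1 (inc v)) = _
        rw [hb v hv, ha v hv]
      one_mem' := fun v _ => rfl
      inv_mem' := fun {a} ha v hv => a.1.injective (by rw [OrthSub.apply_inv, ha v hv]) }
  have hfixP : ∀ {x₀ : quadIsoms Q₀} {R : Submodule F₀ V₀}, R ≤ oPerp Q₀ P →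
      (∀ z ∈ oPerp Q₀ R, x₀.1 z = z) → ∀ v ∈ P, x₀.1 v = v := fun hR hf v hv =>
    hf v fun w hw => by rw [QuadraticMap.polar_comm]; exact hR hw v hv
  have hsG : s ∈ G := fun v hv => by rw [hsJ]; exact congrArg inc (hfixP hRs hsf v hv)
  have htG : t ∈ G := fun v hv => by rw [htJ]; exact congrArg inc (hfixP hRt htf v hv)
  set t' := g * t * g⁻¹ with ht'def
  have ht'M : t' ∈ M := mul_mem (mul_mem hg ht) (inv_mem hg)
  have ht'2 : t' * t' = 1 := conj_invol ht2
  have ht'G : t' ∈ G := by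
    intro v hv
    obtain ⟨y, hy, hgy⟩ := hgP.surj (Submodule.subset_span ⟨v, hv, rfl⟩ : inc v ∈ rSpan (F := F) inc P)
    have hty : t.1 y = y := by
      refine LinearMap.eqOn_span' (f := t.1.toLinearMap) (g := LinearMap.id) ?_ hy
      rintro _ ⟨w, hw, rfl⟩
      exact htG w hw
    rw [← hgy, ht'def, conj_apply, hty]
  have ht'd : Module.finrank F (qEig t' (-1)) = 4 := by
    rw [← finrank_qEig_conj ht'def.symm, htd, hRtd]
  suffices hK : KRat inc t' by
    obtain ⟨c, hc, h⟩ := hK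
    obtain ⟨J, hJ⟩ := A.ratMap_of_scalar (A.scalar_mem_of_dim h2 ht'2 hc h (by omega)) hc h
    have h1 := (A.finrank_qEig h2 hJ ht'2).2
    have h3 := finrank_eig_add h20 (A.ratMap_sq hJ ht'2)
    refine C.rat_of_centraliser h2 hg ht2 (fun x hx htx => ?_) hJ (e := 1) (one_mul 1) (by omega)
    exact C.nine_big h2 hd hx hRtN (by omega) (by omega) (htE ▸ A.pres_eig h2 htJ ht2 htx (by ring))
  have : Finite V := Module.finite_of_finite F
  have : Finite (V ≃ₗ[F] V) := Finite.of_injective _ DFunLike.coe_injective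
  have : Finite (quadIsoms Q) := inferInstance
  have hst : ¬ IsConj s t' := fun h => by
    obtain ⟨h', hh'⟩ := isConj_iff.1 h
    have := finrank_qEig_conj hh' (-1 : F)
    omega
  obtain ⟨j, hjz, hj1, hj2, hjs, hjt, hjc⟩ := exists_commuting_involution s t' hs2 ht'2 hst
  have hjM : j ∈ M := (Subgroup.zpowers_le.2 (mul_mem hs ht'M)) hjz
  have hjG : j ∈ G := (Subgroup.zpowers_le.2 (mul_mem hsG ht'G)) hjz
  obtain ⟨c, hc, hcj⟩ := C.nine_big h2 hd hjM hRsN (by omega) (by omega)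
    (hsE ▸ A.pres_eig h2 hsJ hs2 hjs.symm (by ring))
  have hcm : c ∈ F₀ := by
    obtain ⟨v, hv, hv0⟩ := Submodule.exists_mem_ne_zero_of_ne_bot (p := P)
      (fun h => by rw [h, finrank_bot] at h2P; omega)
    choose f hf using hcj
    exact A.scalar_of_fix hv0 (hjG v hv) hf
  obtain ⟨J, hJ⟩ := A.ratMap_of_scalar hcm hc hcj
  obtain ⟨hX, hle, hsum⟩ := A.eig_perp h2 hJ hj2 (e := -1) (by ring)
  obtain ⟨hY, hle1, -⟩ := A.eig_perp h2 hJ hj2 (e := 1) (one_mul 1)
  obtain ⟨m, hm⟩ := C.even_neg h2 hjM hj2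
  rw [(A.finrank_qEig h2 hJ hj2).2] at hm
  rw [neg_neg] at hsum hle
  have hPJ : P ≤ eig J 1 := fun v hv => by
    rw [mem_eig, one_smul]; exact A.inj (by rw [← hJ, hjG v hv])
  have hPd := Submodule.finrank_mono hPJ
  have hX0 : Module.finrank F₀ (eig J (-1)) ≠ 0 := fun h => by
    refine hj1 (A.isom_ext fun z => ?_)
    have hz : z ∈ eig J 1 := by rw [Submodule.eq_top_of_finrank_eq (S := eig J 1) (by omega)]; trivial
    rw [mem_eig, one_smul] at hz
    rw [hJ, hz]; rfl
  have hXP : eig J (-1) ≤ oPerp Q₀ P := fun x hx v hv => by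
    rw [QuadraticMap.polar_comm]
    exact hle (hPJ hv) x hx
  have hX' := A.pres_eig h2 hJ hj2 hjt (e := -1) (by ring)
  rcases (show Module.finrank F₀ (eig J (-1)) = 2 ∨
      (4 ≤ Module.finrank F₀ (eig J (-1)) ∧ Module.finrank F₀ (eig J (-1)) + 3 ≤ 9) by omega) with hk | hk
  · obtain ⟨hN, hdN⟩ := nondeg_sup hP hX hXP
    refine C.nine_big h2 hd ht'M hN (by omega) (by omega) fun v hv => ?_
    obtain ⟨a, ha, b, hb, rfl⟩ := Submodule.mem_sup.1 hv
    rw [map_add, map_add, ht'G a ha]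
    exact add_mem (Submodule.subset_span ⟨a, Submodule.mem_sup_left ha, rfl⟩)
      (Submodule.span_mono (Set.image_mono (le_sup_right : eig J (-1) ≤ P ⊔ eig J (-1))) (hX' b hb))
  · exact C.nine_big h2 hd ht'M hX (by omega) hk.2 hX'

/-- every element of an overgroup is rational -/
theorem odd_dichotomy_nine {g : quadIsoms Q} (hg : g ∈ M) : KRat inc g := by
  classical
  have A := C.base
  have hdV := A.dim
  have h20 := A.two₀ h2
  have htop : Nondeg Q₀ ⊤ := fun x _ h => A.sep₀ x fun y => h y trivial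
  obtain ⟨s₀, hs₀, hss₀, Rs, -, hRsd, hsn, hsf⟩ := exists_neg A.sep₀ h20 1 ⊤ htop (by rw [finrank_top]; omega)
  obtain ⟨t₀, ht₀, htt₀, Rt, -, hRtd, htn, htf⟩ := exists_neg A.sep₀ h20 2 ⊤ htop (by rw [finrank_top]; omega)
  obtain ⟨s, hs, hsJ⟩ := C.exists_lift hs₀
  obtain ⟨t, ht, htJ⟩ := C.exists_lift ht₀
  obtain ⟨hs2, hRsN, hsE, hsE1, hsd⟩ := A.eig_of_negated h2 hsJ hss₀ hsn hsf
  obtain ⟨ht2, hRtN, htE, htE1, htd⟩ := A.eig_of_negated h2 htJ htt₀ htn htf
  set t' := g * t * g⁻¹ with ht'def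
  have ht'M : t' ∈ M := mul_mem (mul_mem hg ht) (inv_mem hg)
  have ht'2 : t' * t' = 1 := conj_invol ht2
  have ht'd : Module.finrank F (qEig t' (-1)) = 4 := by rw [← finrank_qEig_conj ht'def.symm, htd, hRtd]
  suffices hK : KRat inc t' by
    obtain ⟨c, hc, h⟩ := hK
    obtain ⟨J, hJ⟩ := A.ratMap_of_scalar (A.scalar_mem_of_dim h2 ht'2 hc h (by omega)) hc h
    have h1 := (A.finrank_qEig h2 hJ ht'2).2
    have h3 := finrank_eig_add h20 (A.ratMap_sq hJ ht'2)
    refine C.rat_of_centraliser h2 hg ht2 (fun x hx htx => ?_) hJ (e := 1) (one_mul 1) (by omega)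
    exact C.nine_big h2 hd hx hRtN (by omega) (by omega) (htE ▸ A.pres_eig h2 htJ ht2 htx (by ring))
  have : Finite V := Module.finite_of_finite F
  have : Finite (V ≃ₗ[F] V) := Finite.of_injective _ DFunLike.coe_injective
  have : Finite (quadIsoms Q) := inferInstance
  have hst : ¬ IsConj s t' := fun h => by
    obtain ⟨h', hh'⟩ := isConj_iff.1 h
    have := finrank_qEig_conj hh' (-1 : F)
    omega
  obtain ⟨j, hjz, hj1, hj2, hjs, hjt, hjc⟩ := exists_commuting_involution s t' hs2 ht'2 hst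
  have hjM : j ∈ M := (Subgroup.zpowers_le.2 (mul_mem hs ht'M)) hjz
  obtain ⟨c, hc, hcj⟩ := C.nine_plane h2 hd hjM hRsN (by omega)
    (hsE ▸ A.pres_eig h2 hsJ hs2 hjs.symm (by ring))
  have hsj2 : (s * j) * (s * j) = 1 := by
    rw [show (s * j) * (s * j) = s * (j * s) * j by group, hjs.eq,
      show s * (s * j) * j = (s * s) * (j * j) by group, hs2, hj2, mul_one]
  have hsjd : Module.finrank F (qEig (s * j) (-1)) = 4 ∨ Module.finrank F (qEig (s * j) (-1)) = 2 := by
    rcases hjc with h | h <;> obtain ⟨h', hh'⟩ := isConj_iff.1 h <;>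
      have := finrank_qEig_conj hh' (-1 : F) <;> omega
  have hcm : c ∈ F₀ := by
    refine A.scalar_mem_of_dim h2 hsj2 hc (fun z => ?_) (by omega)
    obtain ⟨y, hy⟩ := hcj z
    exact ⟨(s₀.1 : V₀ →ₗ[F₀] V₀) y, by rw [← hsJ, ← hy, map_smul]; rfl⟩
  obtain ⟨J, hJ⟩ := A.ratMap_of_scalar hcm hc hcj
  obtain ⟨hX, hle, hsum⟩ := A.eig_perp h2 hJ hj2 (e := -1) (by ring)
  obtain ⟨hY, hle1, -⟩ := A.eig_perp h2 hJ hj2 (e := 1) (one_mul 1)
  obtain ⟨m, hm⟩ := C.even_neg h2 hjM hj2
  rw [(A.finrank_qEig h2 hJ hj2).2] at hm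
  rw [neg_neg] at hsum
  have hX0 : Module.finrank F₀ (eig J (-1)) ≠ 0 := fun h => by
    refine hj1 (A.isom_ext fun z => ?_)
    have hz : z ∈ eig J 1 := by rw [Submodule.eq_top_of_finrank_eq (S := eig J 1) (by omega)]; trivial
    rw [mem_eig, one_smul] at hz
    rw [hJ, hz]; rfl
  have hX' := A.pres_eig h2 hJ hj2 hjt (e := -1) (by ring)
  have hY' := A.pres_eig h2 hJ hj2 hjt (e := 1) (one_mul 1)
  rcases (show Module.finrank F₀ (eig J (-1)) = 2 ∨
      (4 ≤ Module.finrank F₀ (eig J (-1)) ∧ Module.finrank F₀ (eig J (-1)) + 3 ≤ 9) ∨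
      Module.finrank F₀ (eig J (-1)) = 8 by omega) with hk | hk | hk
  · exact C.nine_plane h2 hd ht'M hX hk hX'
  · exact C.nine_big h2 hd ht'M hX (by omega) hk.2 hX'
  · -- `j` negates a hyperplane: impossible
    exfalso
    have hsjJ : RatMap inc (s * j) ((s₀.1 : V₀ →ₗ[F₀] V₀) ∘ₗ J) := fun z => by
      show s.1 (j.1 (inc z)) = _
      rw [hJ, hsJ]; rfl
    have h1 := Submodule.finrank_mono (show oPerp Q₀ Rs ⊓ eig J (-1) ≤
        eig ((s₀.1 : V₀ →ₗ[F₀] V₀) ∘ₗ J) (-1) from fun w hw => by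
      have hJw : w ∈ eig J (-1) := hw.2
      rw [mem_eig, neg_one_smul] at hJw ⊢
      show s₀.1 (J w) = -w
      rw [hJw, map_neg, hsf w hw.1])
    rw [← (A.finrank_qEig h2 hsjJ hsj2).2] at h1
    have h3 := finrank_oPerp hRsN
    have h4 := Submodule.finrank_sup_add_finrank_inf_eq (oPerp Q₀ Rs) (eig J (-1))
    have h5 := Submodule.finrank_le (oPerp Q₀ Rs ⊔ eig J (-1))
    omega

end RatCtx

open Matrix
open scoped MatrixGroups

variable {ι : Type} [Fintype ι] [DecidableEq ι] {F : Type*} [Field F] [Fintype F]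

/-- the subfield group is maximal in `Ω`: dimension nine, odd characteristic -/
theorem subfield_isMaximalIn_nine (Q : QuadraticForm F (ι → F)) {f : (ι → F) → F} (hf : ⇑Q = f)
    (hsep : ∀ x, (∀ y, polar Q x y = 0) → x = 0) (F₀ : Subfield F) (r : ℕ)
    (hr : r.Prime) (hcard : Fintype.card F = Nat.card F₀ ^ r)
    (hn : Fintype.card ι = 9) (h2 : (2 : F) ≠ 0)
    (P : GL ι F) {ζ : F} (hζ : ζ ≠ 0)
    (hP : Cfsg.Geo.IsQuadFormRationalStructure (fun v => ζ * f v) F₀ P) :
    Cfsg.Geo.IsMaximalIn (Cfsg.Geo.omegaGL f) (Cfsg.Geo.subfieldSubgroup F₀ P ⊓ Cfsg.Geo.omegaGL f) := by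
  classical
  subst hf
  let Q' : QuadraticForm F (ι → F) := ζ • Q.comp (Matrix.toLin' (P : Matrix ι ι F))
  have hQ' : ∀ v, Q' v = ζ * Q ((P : Matrix ι ι F) *ᵥ v) := fun v => rfl
  have hpol : ∀ x y, polar Q' x y =
      ζ * polar Q ((P : Matrix ι ι F) *ᵥ x) ((P : Matrix ι ι F) *ᵥ y) := fun x y => by
    simp only [QuadraticMap.polar, hQ', mulVec_add]; ring
  have hsep' : ∀ x, (∀ y, polar Q' x y = 0) → x = 0 := fun x hx => by
    have h : (P : Matrix ι ι F) *ᵥ x = 0 := hsep _ fun y => by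
      have h := hx (((P⁻¹ : GL ι F) : Matrix ι ι F) *ᵥ y)
      rw [hpol, mulVec_mulVec_inv] at h
      exact (mul_eq_zero.1 h).resolve_left hζ
    rw [← inv_mulVec_mulVec P x, h, mulVec_zero]
  let inc : (ι → F₀) →+ (ι → F) :=
    { toFun := fun u i => (u i : F), map_zero' := rfl, map_add' := fun _ _ => rfl }
  have hincs : ∀ (c : F₀) (u : ι → F₀), inc (c • u) = (c : F) • inc u := fun _ _ => rfl
  have hrat : ∀ u, Q' (inc u) ∈ F₀ := fun u => hP (inc u) fun i => (u i).2
  let q : (ι → F₀) → F₀ := fun u => ⟨Q' (inc u), hrat u⟩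
  have hq : ∀ u v, ((polar q u v : F₀) : F) = polar Q' (inc u) (inc v) := fun u v => by
    simp only [QuadraticMap.polar, q, AddSubgroupClass.coe_sub, map_add]
  let Q₀ : QuadraticForm F₀ (ι → F₀) := QuadraticMap.ofPolar q
    (fun a x => Subtype.ext (by
      show Q' (inc (a • x)) = ((a * a) • q x : F₀)
      rw [hincs, quad_smul]; rfl))
    (fun x x' y => Subtype.ext (by
      rw [hq, map_add, QuadraticMap.polar_add_left, AddMemClass.coe_add, hq, hq]))
    (fun a x y => Subtype.ext (by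
      rw [hq, hincs, QuadraticMap.polar_smul_left]
      show _ = ((a * polar q x y : F₀) : F)
      rw [MulMemClass.coe_mul, hq]; rfl))
  have hdim : Module.finrank F₀ (ι → F₀) = Fintype.card ι := Module.finrank_fintype_fun_eq_card F₀
  have hdimF : Module.finrank F (ι → F) = Fintype.card ι := Module.finrank_fintype_fun_eq_card F
  have hsingle : ∀ i, inc (Pi.single i (1 : F₀)) = Pi.single i (1 : F) := fun i => funext fun k => by
    show ((Pi.single i (1 : F₀) : ι → F₀) k : F) = _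
    simp only [Pi.single_apply]; split <;> simp
  have A : RatOrth Q' Q₀ inc := by
    refine ⟨hincs, fun u v h => funext fun i => Subtype.ext (congrFun h i), ?_, fun u => rfl, hsep',
      by rw [hdim, hdimF], by rw [hdimF]; omega, fun L hL c hc hc0 => ?_⟩
    · rw [eq_top_iff]
      intro x _
      rw [pi_eq_sum_univ' x]
      exact Submodule.sum_mem _ fun i _ => Submodule.smul_mem _ _ (Submodule.subset_span
        ⟨Pi.single i 1, hsingle i⟩)
    · have hfin : Module.finrank F₀ F = r := by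
        have h1 := Module.natCard_eq_pow_finrank (K := F₀) (V := F)
        rw [Nat.card_eq_fintype_card (α := F), hcard] at h1
        exact (Nat.pow_right_injective (Finite.one_lt_card (α := F₀)) h1).symm
      let S : Subalgebra F₀ F :=
        { toSubsemiring := L.toSubsemiring
          algebraMap_mem' := fun x => hL _ x.2 }
      haveI := Subalgebra.isSimpleOrder_of_finrank_prime F₀ F (hfin.symm ▸ hr)
      rcases IsSimpleOrder.eq_bot_or_eq_top S with h | h
      · exfalso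
        have hmem : c ∈ S := hc
        rw [h, Algebra.mem_bot] at hmem
        obtain ⟨y, rfl⟩ := hmem
        exact hc0 y.2
      · intro x
        have : x ∈ S := by rw [h]; trivial
        exact this
  have hiff : ∀ g : quadIsoms Q', isomsToGL Q' g ∈ Cfsg.Geo.subfieldSubgroup F₀ 1 ↔ KRat inc g := by
    intro g
    rw [mem_subfieldSubgroup_one]
    constructor
    · rintro ⟨c, hc, hA⟩
      refine ⟨c, hc, fun x => ⟨fun i => ⟨_, hA.mulVec (x := inc x) (fun i => (x i).2) i⟩, ?_⟩⟩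
      show _ = (c • (isomsToGL Q' g : Matrix ι ι F)) *ᵥ inc x
      rw [smul_mulVec, isomsToGL_mulVec]
    · rintro ⟨c, hc, h⟩
      refine ⟨c, hc, fun i k => ?_⟩
      obtain ⟨y, hy⟩ := h (Pi.single k 1)
      rw [hsingle, ← isomsToGL_mulVec Q' g] at hy
      have e := congrFun hy i
      simp only [mulVec_single, MulOpposite.op_one, one_smul, Pi.smul_apply, Matrix.col_apply] at e
      rw [Matrix.smul_apply, e]
      exact (y i).2
  have key : Cfsg.Geo.IsMaximalIn (Cfsg.Geo.omegaGL (⇑Q'))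
      (Cfsg.Geo.subfieldSubgroup F₀ 1 ⊓ Cfsg.Geo.omegaGL (⇑Q')) := by
    refine omega_isMaximalIn_of Q' rfl _ ?_ fun M hM g hgM hgc hgH => ?_
    · obtain ⟨g, hg, hgn⟩ := A.exists_move (by
        by_contra hno
        push Not at hno
        have h1 : Nat.card F ≤ Nat.card F₀ :=
          Nat.card_le_card_of_injective (fun x : F => (⟨x, hno x⟩ : F₀)) fun a b h => congrArg Subtype.val h
        rw [Nat.card_eq_fintype_card (α := F), hcard] at h1
        have h2 := Nat.pow_lt_pow_right (Finite.one_lt_card (α := F₀)) hr.one_lt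
        rw [pow_one] at h2
        omega)
      exact ⟨g, hg, fun h => hgn ((hiff g).1 h)⟩
    · by_contra hle
      have C : RatCtx Q' Q₀ inc (M ⊓ commutator (quadIsoms Q')) := by
        refine ⟨A, fun u w hu huw => ⟨hM _ (OrthSub.siegel_mem_commutator A.sep (by omega) _ _) ?_,
          OrthSub.siegel_mem_commutator A.sep (by omega) _ _⟩, inf_le_right, fun h => hle (h.trans inf_le_left)⟩
        exact (hiff _).2 ⟨1, one_ne_zero, fun x => ⟨_, by rw [one_smul]; exact A.siegel_inc hu huw x⟩⟩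
      exact hgH ((hiff g).2 (C.odd_dichotomy_nine h2 (by omega) ⟨hgM, hgc⟩))
  have h := isMaximalIn_map (MulAut.conj P) key
  have e1 := omegaGL_transport (⇑Q) (⇑Q') P hζ hQ'
  have e2 : (Cfsg.Geo.subfieldSubgroup F₀ (1 : GL ι F)).map (MulAut.conj P).toMonoidHom =
      Cfsg.Geo.subfieldSubgroup F₀ P := by
    rw [Cfsg.Geo.subfieldSubgroup, Cfsg.Geo.subfieldSubgroup, Subgroup.map_map]
    congr 1
    ext x
    simp
  rwa [Subgroup.map_inf _ _ _ (MulAut.conj P).injective, e1, e2] at h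

end CfsgLib.MaxSub
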