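import Cfsg.Agent.Lib.MaxSub.RatInvol
import Cfsg.Agent.Lib.MaxSub.Rational
import Cfsg.Agent.Lib.Geom.QuadRefl
import Cfsg.Agent.Lib.Geom.WittVec

/-!
Maximality of subfield groups in `Ω`, odd characteristic.
-/

set_option autoImplicit false
set_option linter.unusedSectionVars false

namespace CfsgLib.MaxSub

open CfsgLib.Classical CfsgLib.Geom
open QuadraticMap (polar)
open scoped commutatorElement

section
variable {K W : Type*} [Field K] [AddCommGroup W] [Module K W]

/-- the `e`-eigenspace -/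
def eig (f : W →ₗ[K] W) (e : K) : Submodule K W := LinearMap.ker (f - e • LinearMap.id)

theorem mem_eig {f : W →ₗ[K] W} {e : K} {w : W} : w ∈ eig f e ↔ f w = e • w := by
  rw [eig, LinearMap.mem_ker, LinearMap.sub_apply, LinearMap.smul_apply, LinearMap.id_apply, sub_eq_zero]

theorem finrank_eig_add [FiniteDimensional K W] (h2 : (2 : K) ≠ 0) {f : W →ₗ[K] W}
    (hf : ∀ w, f (f w) = w) :
    Module.finrank K (eig f 1) + Module.finrank K (eig f (-1)) = Module.finrank K W := by
  have h1 : eig f (-1) = LinearMap.ker (f + LinearMap.id) := by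
    rw [eig, neg_one_smul, sub_neg_eq_add]
  have h3 : eig f 1 = LinearMap.range (f + LinearMap.id) := by
    refine le_antisymm ?_ ?_
    · intro w hw
      refine ⟨(2 : K)⁻¹ • w, ?_⟩
      rw [mem_eig, one_smul] at hw
      rw [LinearMap.add_apply, LinearMap.id_apply, map_smul, hw, ← add_smul, ← two_mul,
        mul_inv_cancel₀ h2, one_smul]
    · rintro _ ⟨w, rfl⟩
      rw [mem_eig, one_smul, LinearMap.add_apply, LinearMap.id_apply, map_add, hf, add_comm]
  rw [h1, h3]
  exact (f + LinearMap.id).finrank_range_add_finrank_ker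

/-- a subspace non-degenerate for the form -/
def Nondeg (B : QuadraticForm K W) (P : Submodule K W) : Prop :=
  ∀ x ∈ P, (∀ y ∈ P, polar B x y = 0) → x = 0

/-- orthogonal of a subspace -/
abbrev oPerp (B : QuadraticForm K W) (P : Submodule K W) : Submodule K W := qPerp B (P : Set W)

variable [FiniteDimensional K W] {B : QuadraticForm K W}

theorem finrank_le_oPerp_add (P : Submodule K W) :
    Module.finrank K W ≤ Module.finrank K (oPerp B P) + Module.finrank K P := by
  let L : W →ₗ[K] Module.Dual K P := (Submodule.subtype P).dualMap ∘ₗ B.polarBilin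
  have h1 := L.finrank_range_add_finrank_ker
  have h2 := Submodule.finrank_le (LinearMap.range L)
  have h3 : LinearMap.ker L ≤ oPerp B P := fun x hx s hs => LinearMap.congr_fun hx ⟨s, hs⟩
  have h4 := Submodule.finrank_mono h3
  rw [Subspace.dual_finrank_eq] at h2
  omega

theorem sup_oPerp {P : Submodule K W} (hP : Nondeg B P) : P ⊔ oPerp B P = ⊤ := by
  have hd := Submodule.finrank_sup_add_finrank_inf_eq P (oPerp B P)
  have hb : P ⊓ oPerp B P = ⊥ := (Submodule.eq_bot_iff _).2 fun x hx => hP x hx.1 hx.2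
  have h := finrank_le_oPerp_add (B := B) P
  rw [hb, finrank_bot] at hd
  exact Submodule.eq_top_of_finrank_eq (le_antisymm (Submodule.finrank_le _) (by omega))

theorem nondeg_oPerp (hsep : ∀ x, (∀ y, polar B x y = 0) → x = 0) {P : Submodule K W} (hP : Nondeg B P) :
    Nondeg B (oPerp B P) := fun x hx h => hsep x fun y => by
  obtain ⟨a, ha, b, hb, rfl⟩ := Submodule.mem_sup.1 (show y ∈ P ⊔ oPerp B P by rw [sup_oPerp hP]; trivial)
  rw [QuadraticMap.polar_add_right, hx a ha, h b hb, add_zero]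

variable [Finite K]

theorem nondeg_inf_perp {P : Submodule K W} (hP : Nondeg B P) (h2 : (2 : K) ≠ 0) {z : W} (hz : z ∈ P)
    (hQz : B z = 1) : Nondeg B (P ⊓ LinearMap.ker (B.polarBilin.flip z)) := by
  intro x hx h
  refine hP x hx.1 fun y hy => ?_
  have hxz : polar B x z = 0 := hx.2
  have hy' : y - (polar B y z / 2) • z ∈ P ⊓ LinearMap.ker (B.polarBilin.flip z) := by
    refine ⟨sub_mem hy (P.smul_mem _ hz), ?_⟩
    show polar B (y - (polar B y z / 2) • z) z = 0
    rw [QuadraticMap.polar_sub_left, QuadraticMap.polar_smul_left, polar_self_two, hQz, mul_one,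
      smul_eq_mul, div_mul_cancel₀ _ h2, sub_self]
  have := h _ hy'
  rwa [QuadraticMap.polar_sub_right, QuadraticMap.polar_smul_right, hxz, smul_zero, sub_zero] at this

theorem exists_one (h2 : (2 : K) ≠ 0) {P : Submodule K W} (hP : Nondeg B P)
    (hd : 2 ≤ Module.finrank K P) : ∃ z ∈ P, B z = 1 := by
  have anis : ∀ R : Submodule K W, R ≤ P → (∀ x ∈ R, (∀ y ∈ R, polar B x y = 0) → x = 0) → R ≠ ⊥ →
      ∃ a ∈ R, B a ≠ 0 := by
    intro R _ hR hR0
    by_contra hno
    push Not at hno
    obtain ⟨x, hx, hx0⟩ := Submodule.exists_mem_ne_zero_of_ne_bot hR0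
    exact hx0 (hR x hx fun y hy => by
      rw [QuadraticMap.polar, hno _ (add_mem hx hy), hno x hx, hno y hy]; ring)
  obtain ⟨a, ha, hQa⟩ := anis P le_rfl hP (fun e => by rw [e, finrank_bot] at hd; omega)
  have hW := finrank_le_inf_ker P (B.polarBilin.flip a)
  have hnd : ∀ x ∈ P ⊓ LinearMap.ker (B.polarBilin.flip a),
      (∀ y ∈ P ⊓ LinearMap.ker (B.polarBilin.flip a), polar B x y = 0) → x = 0 := by
    intro x hx h
    refine hP x hx.1 fun y hy => ?_
    have hxa : polar B x a = 0 := hx.2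
    have hy' : y - (polar B y a / (2 * B a)) • a ∈ P ⊓ LinearMap.ker (B.polarBilin.flip a) := by
      refine ⟨sub_mem hy (P.smul_mem _ ha), ?_⟩
      show polar B (y - (polar B y a / (2 * B a)) • a) a = 0
      rw [QuadraticMap.polar_sub_left, QuadraticMap.polar_smul_left, polar_self_two,
        smul_eq_mul, div_mul_cancel₀ _ (mul_ne_zero h2 hQa), sub_self]
    have := h _ hy'
    rwa [QuadraticMap.polar_sub_right, QuadraticMap.polar_smul_right, hxa, smul_zero, sub_zero] at this
  obtain ⟨b, hb, hQb⟩ := anis (P ⊓ LinearMap.ker (B.polarBilin.flip a)) inf_le_left hnd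
    (fun e => by rw [e, finrank_bot] at hW; omega)
  obtain ⟨s, t, hst⟩ := exists_binary_eq h2 hQa hQb 1
  refine ⟨s • a + t • b, add_mem (P.smul_mem s ha) (P.smul_mem t hb.1), ?_⟩
  rw [quad_map_add_smul, quad_smul, QuadraticMap.polar_smul_left, QuadraticMap.polar_comm,
    show polar B b a = 0 from hb.2]
  simp only [smul_zero, mul_zero, add_zero]
  linear_combination hst

/-- an involution in the commutator subgroup negating exactly `2m` dimensions inside `P` -/
theorem exists_neg (hsep : ∀ x, (∀ y, polar B x y = 0) → x = 0) (h2 : (2 : K) ≠ 0) (m : ℕ) :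
    ∀ P : Submodule K W, Nondeg B P → 2 * m + 1 ≤ Module.finrank K P →
      ∃ g ∈ commutator (quadIsoms B), (∀ x, g.1 (g.1 x) = x) ∧ ∃ R : Submodule K W, R ≤ P ∧
        Module.finrank K R = 2 * m ∧ (∀ x ∈ R, g.1 x = -x) ∧ ∀ x ∈ oPerp B R, g.1 x = x := by
  induction m with
  | zero => exact fun P _ _ => ⟨1, one_mem _, fun x => rfl, ⊥, bot_le, by simp, fun x hx => by
      rw [(Submodule.mem_bot K).1 hx, map_zero, neg_zero], fun x _ => rfl⟩
  | succ m ih =>
    intro P hP hd
    obtain ⟨z₁, hz₁, hQ₁⟩ := exists_one h2 hP (by omega)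
    have hd₁ := finrank_le_inf_ker P (B.polarBilin.flip z₁)
    have hP₁ := nondeg_inf_perp hP h2 hz₁ hQ₁
    obtain ⟨z₂, hz₂, hQ₂⟩ := exists_one h2 hP₁ (by omega)
    have hd₂ := finrank_le_inf_ker (P ⊓ LinearMap.ker (B.polarBilin.flip z₁)) (B.polarBilin.flip z₂)
    have hP₂ := nondeg_inf_perp hP₁ h2 hz₂ hQ₂
    obtain ⟨g, hg, hgg, R, hR, hRd, hRn, hRf⟩ := ih _ hP₂ (by omega)
    have h21 : polar B z₂ z₁ = 0 := hz₂.2
    have h12 : polar B z₁ z₂ = 0 := by rw [QuadraticMap.polar_comm]; exact h21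
    have hRz : ∀ x ∈ R, polar B x z₁ = 0 ∧ polar B x z₂ = 0 := fun x hx => ⟨(hR hx).1.2, (hR hx).2⟩
    have hne₁ : B z₁ ≠ 0 := by rw [hQ₁]; exact one_ne_zero
    have hne₂ : B z₂ ≠ 0 := by rw [hQ₂]; exact one_ne_zero
    let t₁ : quadIsoms B := ⟨reflEquiv B z₁ hne₁, reflEquiv_mem B z₁ hne₁⟩
    let t₂ : quadIsoms B := ⟨reflEquiv B z₂ hne₂, reflEquiv_mem B z₂ hne₂⟩
    obtain ⟨h, hh, hh12⟩ := exists_isom_vector B hsep (x := z₁) (y := z₂)
      (fun e => hne₁ (by rw [e, map_zero])) (fun e => hne₂ (by rw [e, map_zero])) (by rw [hQ₁, hQ₂])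
    have hconj : (⟨h, hh⟩ : quadIsoms B) * t₁ * (⟨h, hh⟩ : quadIsoms B)⁻¹ = t₂ := by
      refine quadIsoms_ext B fun x => ?_
      obtain ⟨y, rfl⟩ := h.surjective x
      show h (reflEquiv B z₁ hne₁ (h.symm (h y))) = reflEquiv B z₂ hne₂ (h y)
      rw [LinearEquiv.symm_apply_apply, reflEquiv_apply, reflEquiv_apply, hQ₁, hQ₂, map_sub, map_smul,
        hh12, ← hh12, polar_quadIsom hh]
    have ht₁ : t₁⁻¹ = t₁ := inv_eq_of_mul_eq_one_right (Subtype.ext (reflEquiv_mul_self B z₁ hne₁))
    have hmem : t₁ * t₂ ∈ commutator (quadIsoms B) := by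
      have : t₁ * t₂ = ⁅t₁, (⟨h, hh⟩ : quadIsoms B)⁆ := by
        rw [commutatorElement_def, ← hconj, ht₁]; group
      rw [this, commutator_def]
      exact Subgroup.commutator_mem_commutator (Subgroup.mem_top _) (Subgroup.mem_top _)
    refine ⟨t₁ * t₂ * g, mul_mem hmem hg, ?_, Submodule.span K {z₁, z₂} ⊔ R, ?_, ?_, ?_, ?_⟩
    · have fix₁ : g.1 z₁ = z₁ := hRf _ fun x hx => by rw [QuadraticMap.polar_comm]; exact (hRz x hx).1
      have fix₂ : g.1 z₂ = z₂ := hRf _ fun x hx => by rw [QuadraticMap.polar_comm]; exact (hRz x hx).2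
      have e₁ : (t₁ * t₂ * g).1 z₁ = -z₁ := by
        show reflEquiv B z₁ hne₁ (reflEquiv B z₂ hne₂ (g.1 z₁)) = _
        rw [fix₁, reflEquiv_fix B z₂ hne₂ h21, reflEquiv_self]
      have e₂ : (t₁ * t₂ * g).1 z₂ = -z₂ := by
        show reflEquiv B z₁ hne₁ (reflEquiv B z₂ hne₂ (g.1 z₂)) = _
        rw [fix₂, reflEquiv_self, map_neg, reflEquiv_fix B z₁ hne₁ h12]
      have efix : ∀ y, polar B y z₁ = 0 → polar B y z₂ = 0 → (t₁ * t₂ * g).1 y = g.1 y ∧
          polar B (g.1 y) z₁ = 0 ∧ polar B (g.1 y) z₂ = 0 := by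
        intro y h1 h3
        have a1 : polar B (g.1 y) z₁ = 0 := by
          have := OrthSub.polar_map g y z₁; rw [fix₁, h1] at this; exact this
        have a2 : polar B (g.1 y) z₂ = 0 := by
          have := OrthSub.polar_map g y z₂; rw [fix₂, h3] at this; exact this
        refine ⟨?_, a1, a2⟩
        show reflEquiv B z₁ hne₁ (reflEquiv B z₂ hne₂ (g.1 y)) = _
        rw [reflEquiv_fix B z₂ hne₂ (by rw [QuadraticMap.polar_comm]; exact a2),
          reflEquiv_fix B z₁ hne₁ (by rw [QuadraticMap.polar_comm]; exact a1)]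
      intro x
      set p := polar B x z₁ / 2
      set q := polar B x z₂ / 2
      set y := x - p • z₁ - q • z₂ with hy
      have hy1 : polar B y z₁ = 0 := by
        rw [hy, QuadraticMap.polar_sub_left, QuadraticMap.polar_sub_left, QuadraticMap.polar_smul_left,
          QuadraticMap.polar_smul_left, polar_self_two, hQ₁, h21, smul_zero, sub_zero, mul_one, smul_eq_mul,
          div_mul_cancel₀ _ h2, sub_self]
      have hy2 : polar B y z₂ = 0 := by
        rw [hy, QuadraticMap.polar_sub_left, QuadraticMap.polar_sub_left, QuadraticMap.polar_smul_left,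
          QuadraticMap.polar_smul_left, polar_self_two, hQ₂, h12, smul_zero, sub_zero, mul_one, smul_eq_mul,
          div_mul_cancel₀ _ h2, sub_self]
      obtain ⟨f1, f2, f3⟩ := efix y hy1 hy2
      rw [show x = y + p • z₁ + q • z₂ by rw [hy]; abel]
      simp only [map_add, map_smul, e₁, e₂, f1, map_neg, neg_neg, (efix _ f2 f3).1, hgg]
    · refine sup_le (Submodule.span_le.2 ?_) (hR.trans (inf_le_left.trans inf_le_left))
      rintro _ (rfl | rfl)
      · exact hz₁
      · exact hz₂.1
    · have hli : LinearIndependent K ![z₁, z₂] := by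
        refine (LinearIndependent.pair_iff' fun e => hne₁ (by rw [e, map_zero])).2 fun a ha => ?_
        have e := congrArg (fun x => polar B x z₂) ha
        simp only [QuadraticMap.polar_smul_left, h12, smul_zero, polar_self_two, hQ₂, mul_one] at e
        exact h2 e.symm
      have hd2 : Module.finrank K (Submodule.span K ({z₁, z₂} : Set W)) = 2 := by
        have := finrank_span_eq_card hli
        rwa [Fintype.card_fin, show Set.range ![z₁, z₂] = {z₁, z₂} by simp [Set.pair_comm]] at this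
      have hinf : Submodule.span K {z₁, z₂} ⊓ R = ⊥ := by
        refine (Submodule.eq_bot_iff _).2 fun x hx => ?_
        obtain ⟨p, q, hpq⟩ := Submodule.mem_span_pair.1 hx.1
        obtain ⟨r1, r2⟩ := hRz x hx.2
        rw [← hpq, QuadraticMap.polar_add_left, QuadraticMap.polar_smul_left, QuadraticMap.polar_smul_left,
          polar_self_two, hQ₁, h21, smul_zero, add_zero, mul_one, smul_eq_mul] at r1
        rw [← hpq, QuadraticMap.polar_add_left, QuadraticMap.polar_smul_left, QuadraticMap.polar_smul_left,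
          polar_self_two, hQ₂, h12, smul_zero, zero_add, mul_one, smul_eq_mul] at r2
        rw [← hpq, (mul_eq_zero.1 r1).resolve_right h2, (mul_eq_zero.1 r2).resolve_right h2, zero_smul,
          zero_smul, add_zero]
      have := Submodule.finrank_sup_add_finrank_inf_eq (Submodule.span K ({z₁, z₂} : Set W)) R
      rw [hinf, finrank_bot, hd2, hRd] at this
      omega
    · intro x hx
      obtain ⟨a, ha, b, hb, rfl⟩ := Submodule.mem_sup.1 hx
      obtain ⟨p, q, rfl⟩ := Submodule.mem_span_pair.1 ha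
      have fix₁ : g.1 z₁ = z₁ := hRf _ fun x hx => by rw [QuadraticMap.polar_comm]; exact (hRz x hx).1
      have fix₂ : g.1 z₂ = z₂ := hRf _ fun x hx => by rw [QuadraticMap.polar_comm]; exact (hRz x hx).2
      show reflEquiv B z₁ hne₁ (reflEquiv B z₂ hne₂ (g.1 _)) = _
      simp only [map_add, map_smul, fix₁, fix₂, hRn b hb, map_neg, reflEquiv_self,
        reflEquiv_fix B z₂ hne₂ h21, reflEquiv_fix B z₁ hne₁ h12,
        reflEquiv_fix B z₂ hne₂ (show polar B z₂ b = 0 by rw [QuadraticMap.polar_comm]; exact (hRz b hb).2),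
        reflEquiv_fix B z₁ hne₁ (show polar B z₁ b = 0 by rw [QuadraticMap.polar_comm]; exact (hRz b hb).1)]
      module
    · intro x hx
      have h1 : polar B x z₁ = 0 := hx _ (Submodule.mem_sup_left (Submodule.subset_span (by simp)))
      have h3 : polar B x z₂ = 0 := hx _ (Submodule.mem_sup_left (Submodule.subset_span (by simp)))
      show reflEquiv B z₁ hne₁ (reflEquiv B z₂ hne₂ (g.1 x)) = _
      rw [hRf x fun r hr => hx r (Submodule.mem_sup_right hr),
        reflEquiv_fix B z₂ hne₂ (by rw [QuadraticMap.polar_comm]; exact h3),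
        reflEquiv_fix B z₁ hne₁ (by rw [QuadraticMap.polar_comm]; exact h1)]

end

variable {F V V₀ : Type*} [Field F] [Finite F] {F₀ : Subfield F} [AddCommGroup V] [Module F V]
  [AddCommGroup V₀] [Module F₀ V₀] [FiniteDimensional F₀ V₀] [FiniteDimensional F V]
variable {Q : QuadraticForm F V} {Q₀ : QuadraticForm F₀ V₀} {inc : V₀ →+ V}

/-- eigenspace of an isometry -/
abbrev qEig (x : quadIsoms Q) (e : F) : Submodule F V := eig (x.1 : V →ₗ[F] V) e

theorem finrank_qEig_le_of_conj {a b h : quadIsoms Q} (hab : h * a * h⁻¹ = b) (e : F) :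
    Module.finrank F (qEig a e) ≤ Module.finrank F (qEig b e) := by
  have hmap : ∀ v ∈ qEig a e, h.1 v ∈ qEig b e := fun v hv => by
    rw [mem_eig] at hv ⊢
    show b.1 (h.1 v) = _
    rw [← hab]
    show h.1 (a.1 ((h⁻¹).1 (h.1 v))) = _
    rw [show (h⁻¹).1 (h.1 v) = v from h.1.symm_apply_apply v, show a.1 v = e • v from hv, map_smul]
  exact LinearMap.finrank_le_finrank_of_injective (f := h.1.toLinearMap.restrict hmap)
    fun u v huv => Subtype.ext (h.1.injective (congrArg Subtype.val huv))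

theorem finrank_qEig_conj {a b h : quadIsoms Q} (hab : h * a * h⁻¹ = b) (e : F) :
    Module.finrank F (qEig a e) = Module.finrank F (qEig b e) :=
  le_antisymm (finrank_qEig_le_of_conj hab e) (finrank_qEig_le_of_conj (h := h⁻¹) (by rw [← hab]; group) e)

namespace RatOrth

variable (A : RatOrth Q Q₀ inc) (h2 : (2 : F) ≠ 0)
include A h2

theorem two₀ : (2 : F₀) ≠ 0 := fun h => h2 (show ((2 : F₀) : F) = 0 by rw [h]; rfl)

theorem qEig_le_span {x : quadIsoms Q} {J : V₀ →ₗ[F₀] V₀} (hJ : RatMap inc x J) (hx : x * x = 1)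
    {e : F₀} (he : e * e = 1) :
    qEig x (e : F) ≤ Submodule.span F (inc '' (eig J e : Set V₀)) := by
  intro a ha
  rw [mem_eig] at ha
  have hle : Submodule.span F (Set.range inc) ≤
      (Submodule.span F (inc '' (eig J e : Set V₀))).comap (LinearMap.id + (e : F) • x.1.toLinearMap) := by
    refine Submodule.span_le.2 ?_
    rintro _ ⟨q, rfl⟩
    refine Submodule.subset_span ⟨q + e • J q, ?_, ?_⟩
    · show q + e • J q ∈ eig J e
      rw [mem_eig, map_add, map_smul, A.ratMap_sq hJ hx, smul_add, smul_smul, he, one_smul, add_comm]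
    · show inc (q + e • J q) = inc q + (e : F) • x.1 (inc q)
      rw [map_add, A.inc_smul, hJ]
  have h := hle (show a ∈ Submodule.span F (Set.range inc) by rw [A.span]; trivial)
  rw [Submodule.mem_comap] at h
  have e' : (LinearMap.id + (e : F) • x.1.toLinearMap : V →ₗ[F] V) a = (2 : F) • a := by
    show a + (e : F) • x.1 a = _
    rw [show x.1 a = (e : F) • a from ha, smul_smul,
      show (e : F) * e = 1 from congrArg Subtype.val he, one_smul, two_smul]
  rw [e', Submodule.smul_mem_iff _ h2] at h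
  exact h

theorem finrank_span_image_le (P : Submodule F₀ V₀) :
    Module.finrank F (Submodule.span F (inc '' (P : Set V₀))) ≤ Module.finrank F₀ P := by
  let b := Module.finBasis F₀ P
  have hle : Submodule.span F (inc '' (P : Set V₀)) ≤ Submodule.span F (Set.range fun i => inc (b i : V₀)) := by
    refine Submodule.span_le.2 ?_
    rintro _ ⟨q, hq, rfl⟩
    have e := congrArg Subtype.val (b.sum_repr ⟨q, hq⟩)
    simp only [Submodule.coe_sum, Submodule.coe_smul] at e
    rw [← e, map_sum]
    exact Submodule.sum_mem _ fun i _ => by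
      rw [A.inc_smul]; exact Submodule.smul_mem _ _ (Submodule.subset_span ⟨i, rfl⟩)
  exact (Submodule.finrank_mono hle).trans ((finrank_range_le_card _).trans (by simp))

theorem finrank_qEig {x : quadIsoms Q} {J : V₀ →ₗ[F₀] V₀} (hJ : RatMap inc x J) (hx : x * x = 1) :
    Module.finrank F (qEig x 1) = Module.finrank F₀ (eig J 1) ∧
      Module.finrank F (qEig x (-1)) = Module.finrank F₀ (eig J (-1)) := by
  have h1 := (Submodule.finrank_mono (A.qEig_le_span h2 hJ hx (e := 1) (one_mul 1))).trans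
    (A.finrank_span_image_le h2 _)
  have h3 := (Submodule.finrank_mono (A.qEig_le_span h2 hJ hx (e := -1) (by ring))).trans
    (A.finrank_span_image_le h2 _)
  have h5 : Module.finrank F (qEig x 1) + Module.finrank F (qEig x (-1)) = Module.finrank F V :=
    finrank_eig_add h2 (f := (x.1 : V →ₗ[F] V)) fun w => congrArg (fun k : quadIsoms Q => k.1 w) hx
  have h6 := finrank_eig_add (A.two₀ h2) (A.ratMap_sq hJ hx)
  have := A.dim
  rw [show ((1 : F₀) : F) = 1 from rfl] at h1
  rw [show ((-1 : F₀) : F) = -1 from by rw [NegMemClass.coe_neg]; rfl] at h3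
  omega

theorem scalar_mem_of_dim {x : quadIsoms Q} (hx : x * x = 1) {c : F} (hc : c ≠ 0)
    (h : ∀ z, ∃ y, c • x.1 (inc z) = inc y)
    (hdim : 2 * Module.finrank F (qEig x (-1)) ≠ Module.finrank F₀ V₀) : c ∈ F₀ := by
  classical
  by_contra hcm
  choose J hJ using h
  have hd := A.scalar_sq hx hJ
  set d : F₀ := ⟨c * c, hd⟩
  have hxx : ∀ w, x.1 (x.1 w) = w := fun w => congrArg (fun k : quadIsoms Q => k.1 w) hx
  let L : Subring F :=
    { carrier := {w | ∃ a b : F₀, w = (a : F) + (b : F) * c}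
      mul_mem' := by
        rintro _ _ ⟨a, b, rfl⟩ ⟨a', b', rfl⟩
        exact ⟨a * a' + b * b' * d, a * b' + b * a', by simp only [d]; push_cast; ring⟩
      one_mem' := ⟨1, 0, by simp⟩
      add_mem' := by
        rintro _ _ ⟨a, b, rfl⟩ ⟨a', b', rfl⟩
        exact ⟨a + a', b + b', by push_cast; ring⟩
      zero_mem' := ⟨0, 0, by simp⟩
      neg_mem' := by
        rintro _ ⟨a, b, rfl⟩
        exact ⟨-a, -b, by push_cast; ring⟩ }
  have hall := A.ring L (fun w hw => ⟨⟨w, hw⟩, 0, by simp⟩) c ⟨0, 1, by simp⟩ hcm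
  have huniq : ∀ a b : F₀, (a : F) + (b : F) * c = 0 → a = 0 ∧ b = 0 := by
    intro a b h
    rcases eq_or_ne b 0 with rfl | hb
    · exact ⟨Subtype.ext (by simpa using h), rfl⟩
    · exfalso
      refine hcm ?_
      have hb' : (b : F) ≠ 0 := fun e => hb (Subtype.ext e)
      rw [show c = -(a : F) / b by rw [eq_div_iff hb']; linear_combination h]
      exact div_mem (neg_mem a.2) b.2
  have hF : Nat.card F = Nat.card F₀ ^ 2 := by
    rw [sq, ← Nat.card_prod]
    refine (Nat.card_eq_of_bijective (fun p : F₀ × F₀ => (p.1 : F) + (p.2 : F) * c) ⟨?_, ?_⟩).symm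
    · rintro ⟨a, b⟩ ⟨a', b'⟩ h
      obtain ⟨e1, e2⟩ := huniq (a - a') (b - b') (by push_cast; linear_combination h)
      exact Prod.ext (sub_eq_zero.1 e1) (sub_eq_zero.1 e2)
    · intro w
      obtain ⟨a, b, hab⟩ := hall w
      exact ⟨(a, b), hab.symm⟩
  have vsplit : ∀ w : V, ∃ a b, w = inc a + c • inc b := by
    let S : Submodule F V :=
      { carrier := {w | ∃ a b, w = inc a + c • inc b}
        add_mem' := by
          rintro _ _ ⟨a, b, rfl⟩ ⟨a', b', rfl⟩
          exact ⟨a + a', b + b', by rw [map_add, map_add]; module⟩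
        zero_mem' := ⟨0, 0, by simp⟩
        smul_mem' := by
          rintro k _ ⟨a, b, rfl⟩
          obtain ⟨s, t, rfl⟩ := hall k
          refine ⟨s • a + (t * d) • b, t • a + s • b, ?_⟩
          simp only [map_add, A.inc_smul, d]
          push_cast
          module }
    intro w
    have hle : Submodule.span F (Set.range inc) ≤ S := Submodule.span_le.2 (by
      rintro _ ⟨q, rfl⟩; exact ⟨q, 0, by simp⟩)
    exact hle (show w ∈ Submodule.span F (Set.range inc) by rw [A.span]; trivial)
  have vuniq : ∀ a b, inc a + c • inc b = 0 → a = 0 ∧ b = 0 := by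
    intro a b h
    have hp : ∀ p, polar Q₀ a p = 0 ∧ polar Q₀ b p = 0 := fun p => huniq _ _ (by
      have e := congrArg (fun w => polar Q w (inc p)) h
      simp only [QuadraticMap.polar_add_left, QuadraticMap.polar_smul_left, A.pol,
        QuadraticMap.polar_zero_left, smul_eq_mul] at e
      linear_combination e)
    exact ⟨A.sep₀ a fun p => (hp p).1, A.sep₀ b fun p => (hp p).2⟩
  have hin : ∀ b, inc (-J b) + c • inc b ∈ qEig x (-1) := fun b => by
    rw [mem_eig]
    show x.1 _ = _
    rw [map_add, map_smul, hJ, map_neg, map_neg, ← hJ b, map_smul, hxx]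
    module
  have hcard : Nat.card V₀ = Nat.card (qEig x (-1)) := by
    refine Nat.card_eq_of_bijective (fun b => ⟨_, hin b⟩) ⟨fun b b' h => ?_, ?_⟩
    · have h' := congrArg Subtype.val h
      exact sub_eq_zero.1 (vuniq (-J b + J b') (b - b') (by
        simp only [map_neg] at h'
        rw [map_add, map_neg, map_sub]
        linear_combination (norm := module) h')).2
    · rintro ⟨w, hw⟩
      obtain ⟨a, b, rfl⟩ := vsplit w
      refine ⟨b, Subtype.ext ?_⟩
      rw [mem_eig] at hw
      have hx1 : x.1 (inc a) = c • inc (d⁻¹ • J a) := by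
        rw [A.inc_smul, ← hJ, smul_smul, smul_smul,
          show c * ((d⁻¹ : F₀) : F) * c = 1 by
            rw [show ((d⁻¹ : F₀) : F) = (c * c)⁻¹ from rfl]; field_simp, one_smul]
      have hw' : x.1 (inc a) + inc (J b) = -(inc a + c • inc b) := by
        rw [← hJ b, ← map_smul, ← map_add, ← neg_one_smul F (inc a + c • inc b)]; exact hw
      obtain ⟨e1, -⟩ := vuniq (a + J b) (b + d⁻¹ • J a) (by
        rw [hx1] at hw'
        rw [map_add, map_add]
        linear_combination (norm := module) hw')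
      show inc (-J b) + c • inc b = inc a + c • inc b
      rw [← eq_neg_of_add_eq_zero_left e1]
  rw [Module.natCard_eq_pow_finrank (K := F₀) (V := V₀),
    Module.natCard_eq_pow_finrank (K := F) (V := qEig x (-1)), hF, ← pow_mul] at hcard
  exact hdim (Nat.pow_right_injective (Finite.one_lt_card (α := F₀)) hcard).symm

end RatOrth

namespace RatCtx

variable {M : Subgroup (quadIsoms Q)} (C : RatCtx Q Q₀ inc M) (h2 : (2 : F) ≠ 0)
include C h2

/-- the image of a singular eigenvector of a rational involution -/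
theorem rat_of_eigen {x : quadIsoms Q} {J : V₀ →ₗ[F₀] V₀} (hJ : RatMap inc x J) (hx : x * x = 1)
    {e : F₀} (he : e * e = 1) {g : quadIsoms Q} (hg : g ∈ M) {v : V₀} (hv : Q₀ v = 0) (hv0 : v ≠ 0)
    (hgv : x.1 (g.1 (inc v)) = (-(e : F)) • g.1 (inc v)) (h5 : 5 ≤ Module.finrank F₀ (eig J e)) :
    KRat inc g := by
  have A := C.base
  obtain ⟨u, y, u', y', H, hu, hy, hu', hy'⟩ := A.exists_hyp (eig J e) (fun z hz h => by
    refine A.sep₀ z fun p => ?_
    rw [mem_eig] at hz
    have h0 := h (p + e • J p) (by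
      rw [mem_eig, map_add, map_smul, A.ratMap_sq hJ hx, smul_add, smul_smul, he, one_smul, add_comm])
    have e1 : polar Q₀ z (J p) = e * polar Q₀ z p := by
      rw [← A.ratMap_polar hJ, A.ratMap_sq hJ hx, hz, QuadraticMap.polar_smul_left, smul_eq_mul]
    rw [QuadraticMap.polar_add_right, QuadraticMap.polar_smul_right, e1, smul_eq_mul, ← mul_assoc, he,
      one_mul, ← two_mul] at h0
    exact (mul_eq_zero.1 h0).resolve_left (A.two₀ h2)) h5
  refine C.hull_rat hg hv hv0 H fun w hw => ?_
  have hw' : w ∈ eig J e := by rcases hw with rfl | rfl | rfl | rfl <;> assumption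
  rw [mem_eig] at hw'
  have h := OrthSub.polar_map x (g.1 (inc v)) (inc w)
  rw [hgv, hJ, hw', A.inc_smul, QuadraticMap.polar_smul_left, QuadraticMap.polar_smul_right, smul_smul,
    neg_mul, show (e : F) * e = 1 from congrArg Subtype.val he, neg_one_smul] at h
  have h' : (2 : F) * polar Q (g.1 (inc v)) (inc w) = 0 := by linear_combination -h
  exact (mul_eq_zero.1 h').resolve_left h2

/-- main step: an element preserving a small rational subspace is rational -/
theorem odd_step (hn13 : 13 ≤ Module.finrank F V ∨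
      (Module.finrank F V = 12 ∧ ∀ c : F, c * c ∈ F₀ → c ∈ F₀) ∨ Module.finrank F V = 11) (k : ℕ) : ∀ P : Submodule F₀ V₀, Nondeg Q₀ P → Module.finrank F₀ P ≤ 4 →
    3 ≤ Module.finrank F₀ P + k → ∀ g ∈ M,
    (∀ v ∈ P, g.1 (inc v) ∈ Submodule.span F (inc '' (P : Set V₀))) → KRat inc g := by
  classical
  have A := C.base
  have hn := A.dim
  have h20 := A.two₀ h2
  have big : ∀ P : Submodule F₀ V₀, Nondeg Q₀ P → Module.finrank F₀ P ≤ 4 →
      3 ≤ Module.finrank F₀ P → ∀ g ∈ M,
      (∀ v ∈ P, g.1 (inc v) ∈ Submodule.span F (inc '' (P : Set V₀))) → KRat inc g := by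
    intro P hP hP4 hP3 g hg hgP
    obtain ⟨v, hv, hv0, hQv⟩ := exists_singular_in (Q := Q₀) (W := P) hP3
    have := finrank_le_oPerp_add (B := Q₀) P
    obtain ⟨u, y, u', y', H, hu, hy, hu', hy'⟩ := A.exists_hyp (oPerp Q₀ P) (nondeg_oPerp A.sep₀ hP) (by omega)
    refine C.hull_rat hg hQv hv0 H fun w hw => ?_
    have hw' : w ∈ oPerp Q₀ P := by rcases hw with rfl | rfl | rfl | rfl <;> assumption
    have hle : Submodule.span F (inc '' (P : Set V₀)) ≤ LinearMap.ker (Q.polarBilin.flip (inc w)) :=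
      Submodule.span_le.2 (by
        rintro _ ⟨p, hp, rfl⟩
        show polar Q (inc p) (inc w) = 0
        rw [QuadraticMap.polar_comm]; exact A.pol_zero (hw' p hp))
    exact hle (hgP v hv)
  induction k with
  | zero => exact fun P hP hP4 h3 => big P hP hP4 h3
  | succ k ih =>
    intro P hP hP4 h3 g hg hgP
    by_cases hP3 : 3 ≤ Module.finrank F₀ P
    · exact big P hP hP4 hP3 g hg hgP
    have hWd := finrank_le_oPerp_add (B := Q₀) P
    have hW := nondeg_oPerp A.sep₀ hP
    obtain ⟨s₀, hs₀, hss₀, Ks, hKs, hKsd, hsn, hsf⟩ :=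
      exists_neg A.sep₀ h20 2 (oPerp Q₀ P) hW (by omega)
    obtain ⟨m, hm⟩ : ∃ m, (m = 3 ∧ (13 ≤ Module.finrank F V ∨
          (Module.finrank F V = 12 ∧ Module.finrank F₀ P ≠ 2) ∨ (Module.finrank F V = 11 ∧ Module.finrank F₀ P ≠ 1))) ∨
        (m = 4 ∧ (Module.finrank F V = 12 ∧ Module.finrank F₀ P = 2 ∨
          Module.finrank F V = 11 ∧ Module.finrank F₀ P = 1)) := by
      rcases hn13 with h | ⟨h, -⟩ | h
      · exact ⟨3, Or.inl ⟨rfl, Or.inl h⟩⟩
      · by_cases hP2 : Module.finrank F₀ P = 2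
        · exact ⟨4, Or.inr ⟨rfl, Or.inl ⟨h, hP2⟩⟩⟩
        · exact ⟨3, Or.inl ⟨rfl, Or.inr (Or.inl ⟨h, hP2⟩)⟩⟩
      · by_cases hP1 : Module.finrank F₀ P = 1
        · exact ⟨4, Or.inr ⟨rfl, Or.inr ⟨h, hP1⟩⟩⟩
        · exact ⟨3, Or.inl ⟨rfl, Or.inr (Or.inr ⟨h, hP1⟩)⟩⟩
    have hscal : ∀ {x : quadIsoms Q}, x * x = 1 → ∀ {c : F}, c ≠ 0 → (∀ z, ∃ y, c • x.1 (inc z) = inc y) →
        Module.finrank F (qEig x (-1)) ≤ 6 ∨ Module.finrank F V ≤ 12 → c ∈ F₀ := by
      intro x hx c hc h hd
      rcases hn13 with h13 | ⟨-, hsq⟩ | h11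
      · exact A.scalar_mem_of_dim h2 hx hc h (by omega)
      · choose J hJ using h
        exact hsq c (A.scalar_sq hx fun z => hJ z)
      · exact A.scalar_mem_of_dim h2 hx hc h (by omega)
    obtain ⟨t₀, ht₀, htt₀, Kt, hKt, hKtd, htn, htf⟩ :=
      exists_neg A.sep₀ h20 m (oPerp Q₀ P) hW (by omega)
    obtain ⟨s, hs, hsJ⟩ := C.exists_lift hs₀
    obtain ⟨t, ht, htJ⟩ := C.exists_lift ht₀
    have hs2 : s * s = 1 := A.isom_ext fun z => by
      show s.1 (s.1 (inc z)) = inc z
      rw [hsJ, hsJ]; exact congrArg inc (hss₀ z)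
    have ht2 : t * t = 1 := A.isom_ext fun z => by
      show t.1 (t.1 (inc z)) = inc z
      rw [htJ, htJ]; exact congrArg inc (htt₀ z)
    have hdim : ∀ (x : quadIsoms Q) (x₀ : quadIsoms Q₀) (R : Submodule F₀ V₀) (m : ℕ),
        RatMap inc x (x₀.1 : V₀ →ₗ[F₀] V₀) → x * x = 1 → Module.finrank F₀ R = m →
        (∀ w ∈ R, x₀.1 w = -w) → (∀ w ∈ oPerp Q₀ R, x₀.1 w = w) →
        Module.finrank F (qEig x (-1)) = m ∧ m + Module.finrank F₀ (eig (x₀.1 : V₀ →ₗ[F₀] V₀) 1) =
          Module.finrank F₀ V₀ := by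
      intro x x₀ R m hJ hx hR hn' hf'
      rw [(A.finrank_qEig h2 hJ hx).2]
      have h1 := Submodule.finrank_mono (show R ≤ eig (x₀.1 : V₀ →ₗ[F₀] V₀) (-1) from fun w hw => by
        rw [mem_eig, neg_one_smul]; exact hn' w hw)
      have h3 := Submodule.finrank_mono (show oPerp Q₀ R ≤ eig (x₀.1 : V₀ →ₗ[F₀] V₀) 1 from fun w hw => by
        rw [mem_eig, one_smul]; exact hf' w hw)
      have h4 := finrank_eig_add h20 (A.ratMap_sq hJ hx)
      have h5 := finrank_le_oPerp_add (B := Q₀) R
      omega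
    obtain ⟨hs4, hsU⟩ := hdim s s₀ Ks 4 hsJ hs2 (by rw [hKsd]) hsn hsf
    obtain ⟨ht6, htU⟩ := hdim t t₀ Kt (2 * m) htJ ht2 hKtd htn htf
    set t' := g * t * g⁻¹ with ht'
    have ht'M : t' ∈ M := mul_mem (mul_mem hg ht) (inv_mem hg)
    have ht'2 : t' * t' = 1 := by
      rw [ht', show g * t * g⁻¹ * (g * t * g⁻¹) = g * (t * t) * g⁻¹ by group, ht2, mul_one, mul_inv_cancel]
    have ht'6 : Module.finrank F (qEig t' (-1)) = 2 * m := by rw [← finrank_qEig_conj ht'.symm, ht6]
    have finish : KRat inc t' → KRat inc g := by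
      intro hK
      obtain ⟨c, hc, h⟩ := hK
      obtain ⟨J', hJ'⟩ := A.ratMap_of_scalar (hscal ht'2 hc h (by omega)) hc h
      have h1 := (A.finrank_qEig h2 hJ' ht'2).2
      have h4 := finrank_eig_add h20 (A.ratMap_sq hJ' ht'2)
      rw [ht'6] at h1
      rcases hm with ⟨hm3, -⟩ | ⟨hm4, hn12⟩
      · obtain ⟨v, hv, hv0, hQv⟩ := exists_singular_in (Q := Q₀) (W := Kt) (by omega)
        refine C.rat_of_eigen h2 hJ' ht'2 (one_mul (1 : F₀)) hg hQv hv0 ?_ (by omega)
        show g.1 (t.1 ((g⁻¹).1 (g.1 (inc v)))) = _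
        rw [show (g⁻¹).1 (g.1 (inc v)) = inc v from g.1.symm_apply_apply _, htJ,
          show ((t₀.1 : V₀ →ₗ[F₀] V₀) v) = -v from htn v hv, map_neg, map_neg, OneMemClass.coe_one,
          neg_one_smul]
      · obtain ⟨v, hv, hv0, hQv⟩ :=
          exists_singular_in (Q := Q₀) (W := eig (t₀.1 : V₀ →ₗ[F₀] V₀) 1) (by omega)
        rw [mem_eig, one_smul] at hv
        refine C.rat_of_eigen h2 hJ' ht'2 (e := -1) (by ring) hg hQv hv0 ?_ (by omega)
        show g.1 (t.1 ((g⁻¹).1 (g.1 (inc v)))) = _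
        rw [show (g⁻¹).1 (g.1 (inc v)) = inc v from g.1.symm_apply_apply _, htJ, hv,
          NegMemClass.coe_neg, OneMemClass.coe_one, neg_neg, one_smul]
    apply finish
    -- the common commuting involution fixes `P`
    let Fix : Subgroup (quadIsoms Q) :=
      { carrier := {x | ∀ v ∈ P, x.1 (inc v) = inc v}
        mul_mem' := fun {a b} ha hb v hv => by
          show a.1 (b.1 (inc v)) = _
          rw [hb v hv, ha v hv]
        one_mem' := fun v _ => rfl
        inv_mem' := fun {a} ha v hv => a.1.injective (by rw [OrthSub.apply_inv, ha v hv]) }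
    have hsP : s ∈ Fix := fun v hv => by
      rw [hsJ]; exact congrArg inc (hsf v fun w hw => by
        rw [QuadraticMap.polar_comm]; exact hKs hw v hv)
    have htP : ∀ z ∈ Submodule.span F (inc '' (P : Set V₀)), t.1 z = z := by
      intro z hz
      refine LinearMap.eqOn_span' (f := t.1.toLinearMap) (g := LinearMap.id) ?_ hz
      rintro _ ⟨v, hv, rfl⟩
      show t.1 (inc v) = inc v
      rw [htJ]; exact congrArg inc (htf v fun w hw => by
        rw [QuadraticMap.polar_comm]; exact hKt hw v hv)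
    have hgspan : ∀ z ∈ Submodule.span F (inc '' (P : Set V₀)),
        g.1.toLinearMap z ∈ Submodule.span F (inc '' (P : Set V₀)) := fun z hz => by
      have hle : Submodule.span F (inc '' (P : Set V₀)) ≤
          (Submodule.span F (inc '' (P : Set V₀))).comap g.1.toLinearMap :=
        Submodule.span_le.2 (by rintro _ ⟨v, hv, rfl⟩; exact hgP v hv)
      exact hle hz
    have ht'P : t' ∈ Fix := by
      intro v hv
      obtain ⟨⟨z, hz⟩, hgz⟩ := (LinearMap.injective_iff_surjective
        (f := g.1.toLinearMap.restrict hgspan)).1 (fun a b e => Subtype.ext (g.1.injective (congrArg Subtype.val e)))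
        ⟨inc v, Submodule.subset_span ⟨v, hv, rfl⟩⟩
      have hgz' : g.1 z = inc v := congrArg Subtype.val hgz
      show g.1 (t.1 ((g⁻¹).1 (inc v))) = _
      rw [← hgz', show (g⁻¹).1 (g.1 z) = z from g.1.symm_apply_apply _, htP z hz]
    have hst : ¬ IsConj s t' := fun h => by
      obtain ⟨h', hh'⟩ := isConj_iff.1 h
      have := finrank_qEig_conj hh' (-1 : F)
      omega
    haveI : Finite V := Module.finite_of_finite F
    haveI : Finite (V ≃ₗ[F] V) := Finite.of_injective _ DFunLike.coe_injective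
    haveI : Finite (quadIsoms Q) := inferInstance
    obtain ⟨j, hjz, hj1, hj2, hjs, hjt, hjc⟩ := exists_commuting_involution s t' hs2 ht'2 hst
    have hjM : j ∈ M := (Subgroup.zpowers_le.2 (mul_mem hs ht'M)) hjz
    have hjP : j ∈ Fix := (Subgroup.zpowers_le.2 (mul_mem hsP ht'P)) hjz
    -- `j` is rational
    obtain ⟨v, hv, hv0, hQv⟩ := exists_singular_in (Q := Q₀) (W := Ks) (by omega)
    have hKj : KRat inc j := C.rat_of_eigen h2 hsJ hs2 (one_mul (1 : F₀)) hjM hQv hv0 (by
      rw [show s.1 (j.1 (inc v)) = j.1 (s.1 (inc v)) from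
        congrArg (fun m : quadIsoms Q => m.1 (inc v)) hjs.eq.symm, hsJ,
        show ((s₀.1 : V₀ →ₗ[F₀] V₀) v) = -v from hsn v hv, map_neg, map_neg, OneMemClass.coe_one,
        neg_one_smul]) (by omega)
    obtain ⟨c, hc, hcj⟩ := hKj
    have hsj2 : (s * j) * (s * j) = 1 := by
      rw [show (s * j) * (s * j) = s * (j * s) * j by group, hjs.eq,
        show s * (s * j) * j = (s * s) * (j * j) by group, hs2, hj2, mul_one]
    have hsjd : Module.finrank F (qEig (s * j) (-1)) = 4 ∨ Module.finrank F (qEig (s * j) (-1)) = 2 * m := by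
      rcases hjc with h | h <;> obtain ⟨h', hh'⟩ := isConj_iff.1 h <;>
        have := finrank_qEig_conj hh' (-1 : F) <;> omega
    have hcm : c ∈ F₀ := hscal hsj2 hc (fun z => by
      obtain ⟨y, hy⟩ := hcj z
      exact ⟨(s₀.1 : V₀ →ₗ[F₀] V₀) y, by
        rw [← hsJ, ← hy, map_smul]; rfl⟩) (by omega)
    obtain ⟨J, hJ⟩ := A.ratMap_of_scalar hcm hc hcj
    have hJJ := A.ratMap_sq hJ hj2
    have hab := finrank_eig_add h20 hJJ
    have good : ∀ e : F₀, e * e = 1 → 3 ≤ Module.finrank F₀ (eig J (-e)) →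
        5 ≤ Module.finrank F₀ (eig J e) → KRat inc t' := by
      intro e he h3' h5
      obtain ⟨v, hv, hv0, hQv⟩ := exists_singular_in (Q := Q₀) (W := eig J (-e)) h3'
      rw [mem_eig] at hv
      refine C.rat_of_eigen h2 hJ hj2 he ht'M hQv hv0 ?_ h5
      rw [show j.1 (t'.1 (inc v)) = t'.1 (j.1 (inc v)) from
        congrArg (fun m : quadIsoms Q => m.1 (inc v)) hjt.eq, hJ, hv, A.inc_smul, map_smul,
        NegMemClass.coe_neg]
    have hb0 : 1 ≤ Module.finrank F₀ (eig J (-1)) := by
      rw [Nat.one_le_iff_ne_zero]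
      intro h0
      have htop : eig J 1 = ⊤ := Submodule.eq_top_of_finrank_eq (by omega)
      refine hj1 (A.isom_ext fun z => ?_)
      have hz : z ∈ eig J 1 := by rw [htop]; trivial
      rw [mem_eig, one_smul] at hz
      rw [hJ, hz]; rfl
    have hPle : P ≤ eig J 1 := fun v hv => by
      rw [mem_eig, one_smul]; exact A.inj (by rw [← hJ, hjP v hv])
    have horth : ∀ a ∈ eig J 1, ∀ b ∈ eig J (-1), polar Q₀ a b = 0 := fun a ha b hb => by
      rw [mem_eig, one_smul] at ha
      rw [mem_eig, neg_one_smul] at hb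
      have h := A.ratMap_polar hJ a b
      rw [ha, hb, QuadraticMap.polar_neg_right] at h
      have h' : (2 : F₀) * polar Q₀ a b = 0 := by linear_combination -h
      exact (mul_eq_zero.1 h').resolve_left h20
    have hnd : ∀ e : F₀, e * e = 1 → Nondeg Q₀ (eig J e) := fun e he x hx h => A.sep₀ x fun p => by
      rw [mem_eig] at hx
      have h0 := h (p + e • J p) (by
        rw [mem_eig, map_add, map_smul, hJJ, smul_add, smul_smul, he, one_smul, add_comm])
      have e1 : polar Q₀ x (J p) = e * polar Q₀ x p := by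
        rw [← A.ratMap_polar hJ, hJJ, hx, QuadraticMap.polar_smul_left, smul_eq_mul]
      rw [QuadraticMap.polar_add_right, QuadraticMap.polar_smul_right, e1, smul_eq_mul, ← mul_assoc, he,
        one_mul, ← two_mul] at h0
      exact (mul_eq_zero.1 h0).resolve_left h20
    have hrest : ∀ e : F₀, e * e = 1 → ∀ v ∈ eig J e,
        t'.1 (inc v) ∈ Submodule.span F (inc '' (eig J e : Set V₀)) := by
      intro e he v hv
      refine A.qEig_le_span h2 hJ hj2 he ?_
      rw [mem_eig] at hv ⊢
      show j.1 (t'.1 (inc v)) = _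
      rw [show j.1 (t'.1 (inc v)) = t'.1 (j.1 (inc v)) from
        congrArg (fun m : quadIsoms Q => m.1 (inc v)) hjt.eq, hJ, hv, A.inc_smul, map_smul]
    by_cases hb : Module.finrank F₀ (eig J (-1)) ≤ 2
    · -- enlarge by the negated space
      have hinf : P ⊓ eig J (-1) = ⊥ := (Submodule.eq_bot_iff _).2 fun x hx =>
        hP x hx.1 fun y hy => by
          rw [QuadraticMap.polar_comm]; exact horth y (hPle hy) x hx.2
      have hd' := Submodule.finrank_sup_add_finrank_inf_eq P (eig J (-1))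
      rw [hinf, finrank_bot] at hd'
      refine ih (P ⊔ eig J (-1)) ?_ (by omega) (by omega) t' ht'M ?_
      · intro x hx h
        obtain ⟨a, ha, b, hb', rfl⟩ := Submodule.mem_sup.1 hx
        have ea : a = 0 := hP a ha fun y hy => by
          have := h y (Submodule.mem_sup_left hy)
          rwa [QuadraticMap.polar_add_left, QuadraticMap.polar_comm Q₀ b y, horth y (hPle hy) b hb',
            add_zero] at this
        have eb : b = 0 := hnd (-1) (by ring) b hb' fun y hy => by
          have := h y (Submodule.mem_sup_right hy)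
          rwa [QuadraticMap.polar_add_left, horth a (hPle ha) y hy, zero_add] at this
        rw [ea, eb, add_zero]
      · intro v hv
        obtain ⟨a, ha, b, hb', rfl⟩ := Submodule.mem_sup.1 hv
        rw [map_add, map_add, ht'P a ha]
        exact add_mem (Submodule.subset_span ⟨a, Submodule.mem_sup_left ha, rfl⟩)
          (Submodule.span_mono (Set.image_mono (show eig J (-1) ≤ P ⊔ eig J (-1) from le_sup_right))
            (hrest (-1) (by ring) b hb'))
    by_cases ha : Module.finrank F₀ (eig J 1) ≤ 2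
    · rcases eq_or_lt_of_le hPle with heq | hlt
      · -- `j` negates the orthogonal of `P`
        exfalso
        have hJW : ∀ w ∈ oPerp Q₀ P, J w = -w := fun w hw => by
          refine eq_neg_of_add_eq_zero_left ((hnd 1 (one_mul 1)) (J w + w) ?_ fun q hq => ?_)
          · rw [mem_eig, one_smul, map_add, hJJ, add_comm]
          · have hwq : polar Q₀ w q = 0 := hw q (by rw [heq]; exact hq)
            rw [mem_eig, one_smul] at hq
            rw [QuadraticMap.polar_add_left, hwq, add_zero, ← hq, A.ratMap_polar hJ, hwq]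
        have hsjJ : RatMap inc (s * j) ((s₀.1 : V₀ →ₗ[F₀] V₀) ∘ₗ J) := fun z => by
          show s.1 (j.1 (inc z)) = _
          rw [hJ, hsJ]; rfl
        have hle := Submodule.finrank_mono
          (show oPerp Q₀ (P ⊔ Ks) ≤ eig ((s₀.1 : V₀ →ₗ[F₀] V₀) ∘ₗ J) (-1) from fun w hw => by
            have h1 : w ∈ oPerp Q₀ P := fun q hq => hw q (Submodule.mem_sup_left hq)
            have h3 : w ∈ oPerp Q₀ Ks := fun q hq => hw q (Submodule.mem_sup_right hq)
            rw [mem_eig, neg_one_smul]
            show s₀.1 (J w) = -w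
            rw [hJW w h1, map_neg, hsf w h3])
        have h1 := finrank_le_oPerp_add (B := Q₀) (P ⊔ Ks)
        have h3 := (A.finrank_qEig h2 hsjJ hsj2).2
        have h4 := Submodule.finrank_sup_add_finrank_inf_eq P Ks
        have hge := Submodule.finrank_mono
          (show P ⊔ Ks ≤ eig ((s₀.1 : V₀ →ₗ[F₀] V₀) ∘ₗ J) 1 from sup_le
            (fun p hp => by
              have hJp := hPle hp
              rw [mem_eig, one_smul] at hJp ⊢
              show s₀.1 (J p) = p
              rw [hJp, hsf p fun w hw => by rw [QuadraticMap.polar_comm]; exact hKs hw p hp])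
            (fun w hw => by
              rw [mem_eig, one_smul]
              show s₀.1 (J w) = w
              rw [hJW w (hKs hw), map_neg, hsn w hw, neg_neg]))
        have hinf : P ⊓ Ks = ⊥ := (Submodule.eq_bot_iff _).2 fun x hx =>
          hP x hx.1 fun y hy => hKs hx.2 y hy
        rw [hinf, finrank_bot] at h4
        have h5 := finrank_eig_add h20 (A.ratMap_sq hsjJ hsj2)
        have hPd : Module.finrank F₀ P = Module.finrank F₀ (eig J 1) := by rw [heq]
        omega
      · have hlt' := Submodule.finrank_lt_finrank_of_lt hlt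
        exact ih (eig J 1) (hnd 1 (one_mul 1)) (by omega) (by omega) t' ht'M (hrest 1 (one_mul 1))
    by_cases h5 : 5 ≤ Module.finrank F₀ (eig J 1)
    · exact good 1 (one_mul 1) (by omega) h5
    · exact good (-1) (by ring) (by rw [neg_neg]; omega) (by omega)

theorem odd_dichotomy (hn13 : 13 ≤ Module.finrank F V ∨
    (Module.finrank F V = 12 ∧ ∀ c : F, c * c ∈ F₀ → c ∈ F₀) ∨ Module.finrank F V = 11) {g : quadIsoms Q} (hg : g ∈ M) : KRat inc g :=
  C.odd_step h2 hn13 3 ⊥ (fun x hx _ => (Submodule.mem_bot F₀).1 hx) (by simp) (by omega) g hg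
    fun v hv => by rw [(Submodule.mem_bot F₀).1 hv, map_zero, map_zero]; exact Submodule.zero_mem _

end RatCtx

end CfsgLib.MaxSub
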