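import Cfsg.Agent.Lib.MaxSub.RatSeven

/-!
Maximality of subfield groups in orthogonal groups of even dimension at least ten, odd characteristic.
-/

set_option autoImplicit false
set_option linter.unusedSectionVars false

namespace CfsgLib.MaxSub

open CfsgLib.Classical CfsgLib.Geom
open QuadraticMap (polar)

variable {F V V₀ : Type*} [Field F] [Finite F] {F₀ : Subfield F} [AddCommGroup V] [Module F V]
  [AddCommGroup V₀] [Module F₀ V₀] [FiniteDimensional F₀ V₀] [FiniteDimensional F V]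
variable {Q : QuadraticForm F V} {Q₀ : QuadraticForm F₀ V₀} {inc : V₀ →+ V}

namespace RatCtx

variable {M : Subgroup (quadIsoms Q)} (C : RatCtx Q Q₀ inc M) (h2 : (2 : F) ≠ 0)
  {l : ℕ} (hl : 5 ≤ l) (hd : Module.finrank F₀ V₀ = 2 * l)
include C h2 hl hd

/-- preserving a rational subspace with dimension and codimension at least three -/
theorem ten_big {g : quadIsoms Q} (hg : g ∈ M) {P : Submodule F₀ V₀} (hP : Nondeg Q₀ P)
    (h3 : 3 ≤ Module.finrank F₀ P) (h3' : Module.finrank F₀ P + 3 ≤ 2 * l) (hgP : Pres inc g P) :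
    KRat inc g := by
  have A := C.base
  have hU := nondeg_oPerp A.sep₀ hP
  have hdim := finrank_oPerp hP
  by_cases h : Module.finrank F₀ P + 5 ≤ 2 * l
  · obtain ⟨v, hv, hv0, hQv⟩ := exists_singular_in (Q := Q₀) (W := P) h3
    exact C.pres_in hg hgP hv hQv hv0 (exists_pair_five A.sep₀ hU (by omega))
  · obtain ⟨v, hv, hv0, hQv⟩ := exists_singular_in (Q := Q₀) (W := oPerp Q₀ P) (by omega)
    exact C.pres_out hg hgP hv hQv hv0 (exists_pair_five A.sep₀ hP (by omega))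

/-- preserving a rational plane -/
theorem ten_plane {g : quadIsoms Q} (hg : g ∈ M) {P : Submodule F₀ V₀} (hP : Nondeg Q₀ P)
    (h2P : Module.finrank F₀ P = 2) (hgP : Pres inc g P) : KRat inc g := by
  classical
  have A := C.base
  have hdV := A.dim
  have h20 := A.two₀ h2
  have hW := nondeg_oPerp A.sep₀ hP
  have hWd := finrank_oPerp hP
  obtain ⟨s₀, hs₀, hss₀, Rs, hRs, hRsd, hsn, hsf⟩ := exists_neg A.sep₀ h20 (l - 2) _ hW (by omega)
  obtain ⟨t₀, ht₀, htt₀, Rt, hRt, hRtd, htn, htf⟩ := exists_neg A.sep₀ h20 2 _ hW (by omega)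
  obtain ⟨s, hs, hsJ⟩ := C.exists_lift hs₀
  obtain ⟨t, ht, htJ⟩ := C.exists_lift ht₀
  obtain ⟨hs2, hRsN, hsE, hsE1, hsd⟩ := A.eig_of_negated h2 hsJ hss₀ hsn hsf
  obtain ⟨ht2, hRtN, htE, htE1, htd⟩ := A.eig_of_negated h2 htJ htt₀ htn htf
  let G : Subgroup (quadIsoms Q) :=
    { carrier := {x | ∀ v ∈ P, x.1 (inc v) = inc v}
      mul_mem' := fun {a b} ha hb v hv => by
        show a.1 (b.1 (inc v)) = _
        rw [hb v hv, ha v hv]
      one_mem' := fun v _ => rfl
      inv_mem' := fun {a} ha v hv => a.1.injective (by rw [OrthSub.apply_inv, ha v hv]) }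
  have hfixP : ∀ {x₀ : quadIsoms Q₀} {R : Submodule F₀ V₀}, R ≤ oPerp Q₀ P →
      (∀ z ∈ oPerp Q₀ R, x₀.1 z = z) → ∀ v ∈ P, x₀.1 v = v := fun hR hf v hv =>
    hf v fun w hw => by rw [QuadraticMap.polar_comm]; exact hR hw v hv
  have hsG : s ∈ G := fun v hv => by rw [hsJ]; exact congrArg inc (hfixP hRs hsf v hv)
  have htG : t ∈ G := fun v hv => by rw [htJ]; exact congrArg inc (hfixP hRt htf v hv)
  set t' := g * t * g⁻¹ with ht'def
  have ht'M : t' ∈ M := mul_mem (mul_mem hg ht) (inv_mem hg)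
  have ht'2 : t' * t' = 1 := conj_invol ht2
  have ht'G : t' ∈ G := by
    intro v hv
    obtain ⟨y, hy, hgy⟩ := hgP.surj (Submodule.subset_span ⟨v, hv, rfl⟩ : inc v ∈ rSpan (F := F) inc P)
    have hty : t.1 y = y := by
      refine LinearMap.eqOn_span' (f := t.1.toLinearMap) (g := LinearMap.id) ?_ hy
      rintro _ ⟨w, hw, rfl⟩
      exact htG w hw
    rw [← hgy, ht'def, conj_apply, hty]
  have ht'd : Module.finrank F (qEig t' (-1)) = 4 := by
    rw [← finrank_qEig_conj ht'def.symm, htd, hRtd]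
  suffices hK : KRat inc t' by
    obtain ⟨c, hc, h⟩ := hK
    obtain ⟨J, hJ⟩ := A.ratMap_of_scalar (A.scalar_mem_of_dim h2 ht'2 hc h (by omega)) hc h
    have h1 := (A.finrank_qEig h2 hJ ht'2).2
    have h3 := finrank_eig_add h20 (A.ratMap_sq hJ ht'2)
    refine C.rat_of_centraliser h2 hg ht2 (fun x hx htx => ?_) hJ (e := 1) (one_mul 1) (by omega)
    exact C.ten_big h2 hl hd hx hRtN (by omega) (by omega) (htE ▸ A.pres_eig h2 htJ ht2 htx (by ring))
  have : Finite V := Module.finite_of_finite F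
  have : Finite (V ≃ₗ[F] V) := Finite.of_injective _ DFunLike.coe_injective
  have : Finite (quadIsoms Q) := inferInstance
  have hst : ¬ IsConj s t' := fun h => by
    obtain ⟨h', hh'⟩ := isConj_iff.1 h
    have := finrank_qEig_conj hh' (-1 : F)
    omega
  obtain ⟨j, hjz, hj1, hj2, hjs, hjt, hjc⟩ := exists_commuting_involution s t' hs2 ht'2 hst
  have hjM : j ∈ M := (Subgroup.zpowers_le.2 (mul_mem hs ht'M)) hjz
  have hjG : j ∈ G := (Subgroup.zpowers_le.2 (mul_mem hsG ht'G)) hjz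
  obtain ⟨c, hc, hcj⟩ := C.ten_big h2 hl hd hjM hRsN (by omega) (by omega)
    (hsE ▸ A.pres_eig h2 hsJ hs2 hjs.symm (by ring))
  have hcm : c ∈ F₀ := by
    obtain ⟨v, hv, hv0⟩ := Submodule.exists_mem_ne_zero_of_ne_bot (p := P)
      (fun h => by rw [h, finrank_bot] at h2P; omega)
    choose f hf using hcj
    exact A.scalar_of_fix hv0 (hjG v hv) hf
  obtain ⟨J, hJ⟩ := A.ratMap_of_scalar hcm hc hcj
  obtain ⟨hX, hle, hsum⟩ := A.eig_perp h2 hJ hj2 (e := -1) (by ring)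
  obtain ⟨hY, hle1, -⟩ := A.eig_perp h2 hJ hj2 (e := 1) (one_mul 1)
  obtain ⟨m, hm⟩ := C.even_neg h2 hjM hj2
  rw [(A.finrank_qEig h2 hJ hj2).2] at hm
  rw [neg_neg] at hsum hle
  have hPJ : P ≤ eig J 1 := fun v hv => by
    rw [mem_eig, one_smul]; exact A.inj (by rw [← hJ, hjG v hv])
  have hPd := Submodule.finrank_mono hPJ
  have hX0 : Module.finrank F₀ (eig J (-1)) ≠ 0 := fun h => by
    refine hj1 (A.isom_ext fun z => ?_)
    have hz : z ∈ eig J 1 := by rw [Submodule.eq_top_of_finrank_eq (S := eig J 1) (by omega)]; trivial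
    rw [mem_eig, one_smul] at hz
    rw [hJ, hz]; rfl
  have hXP : eig J (-1) ≤ oPerp Q₀ P := fun x hx v hv => by
    rw [QuadraticMap.polar_comm]
    exact hle (hPJ hv) x hx
  have hX' := A.pres_eig h2 hJ hj2 hjt (e := -1) (by ring)
  rcases (show Module.finrank F₀ (eig J (-1)) = 2 ∨
      (4 ≤ Module.finrank F₀ (eig J (-1)) ∧ Module.finrank F₀ (eig J (-1)) + 3 ≤ 2 * l) ∨
      Module.finrank F₀ (eig J (-1)) + 2 = 2 * l by omega) with hk | hk | hk
  · obtain ⟨hN, hdN⟩ := nondeg_sup hP hX hXP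
    refine C.ten_big h2 hl hd ht'M hN (by omega) (by omega) fun v hv => ?_
    obtain ⟨a, ha, b, hb, rfl⟩ := Submodule.mem_sup.1 hv
    rw [map_add, map_add, ht'G a ha]
    exact add_mem (Submodule.subset_span ⟨a, Submodule.mem_sup_left ha, rfl⟩)
      (Submodule.span_mono (Set.image_mono (le_sup_right : eig J (-1) ≤ P ⊔ eig J (-1))) (hX' b hb))
  · exact C.ten_big h2 hl hd ht'M hX (by omega) hk.2 hX'
  · -- `j` negates the orthogonal of `P`: impossible
    exfalso
    have hWX : oPerp Q₀ P ≤ eig J (-1) := (Submodule.eq_of_le_of_finrank_le hXP (by omega)).ge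
    have hsj2 : (s * j) * (s * j) = 1 := by
      rw [show (s * j) * (s * j) = s * (j * s) * j by group, hjs.eq,
        show s * (s * j) * j = (s * s) * (j * j) by group, hs2, hj2, mul_one]
    have hsjJ : RatMap inc (s * j) ((s₀.1 : V₀ →ₗ[F₀] V₀) ∘ₗ J) := fun z => by
      show s.1 (j.1 (inc z)) = _
      rw [hJ, hsJ]; rfl
    have h1 := Submodule.finrank_mono (show P ⊔ Rs ≤ eig ((s₀.1 : V₀ →ₗ[F₀] V₀) ∘ₗ J) 1 from sup_le
      (fun v hv => by
        have hJv := hPJ hv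
        rw [mem_eig, one_smul] at hJv ⊢
        show s₀.1 (J v) = v
        rw [hJv]; exact hfixP hRs hsf v hv)
      (fun w hw => by
        have hJw := hWX (hRs hw)
        rw [mem_eig, neg_one_smul] at hJw
        rw [mem_eig, one_smul]
        show s₀.1 (J w) = w
        rw [hJw, map_neg, hsn w hw, neg_neg]))
    obtain ⟨-, hdN⟩ := nondeg_sup hP hRsN hRs
    have h3 := finrank_eig_add h20 (A.ratMap_sq hsjJ hsj2)
    rw [← (A.finrank_qEig h2 hsjJ hsj2).2] at h3
    rcases hjc with h | h <;> obtain ⟨h', hh'⟩ := isConj_iff.1 h <;>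
      have := finrank_qEig_conj hh' (-1 : F) <;> omega

/-- every element of an overgroup is rational -/
theorem odd_dichotomy_ten {g : quadIsoms Q} (hg : g ∈ M) : KRat inc g := by
  classical
  have A := C.base
  have hdV := A.dim
  have h20 := A.two₀ h2
  have htop : Nondeg Q₀ ⊤ := fun x _ h => A.sep₀ x fun y => h y trivial
  obtain ⟨s₀, hs₀, hss₀, Rs, -, hRsd, hsn, hsf⟩ := exists_neg A.sep₀ h20 2 ⊤ htop (by rw [finrank_top]; omega)
  obtain ⟨t₀, ht₀, htt₀, Rt, -, hRtd, htn, htf⟩ := exists_neg A.sep₀ h20 1 ⊤ htop (by rw [finrank_top]; omega)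
  obtain ⟨s, hs, hsJ⟩ := C.exists_lift hs₀
  obtain ⟨t, ht, htJ⟩ := C.exists_lift ht₀
  obtain ⟨hs2, hRsN, hsE, hsE1, hsd⟩ := A.eig_of_negated h2 hsJ hss₀ hsn hsf
  obtain ⟨ht2, hRtN, htE, htE1, htd⟩ := A.eig_of_negated h2 htJ htt₀ htn htf
  set t' := g * t * g⁻¹ with ht'def
  have ht'M : t' ∈ M := mul_mem (mul_mem hg ht) (inv_mem hg)
  have ht'2 : t' * t' = 1 := conj_invol ht2
  have ht'd : Module.finrank F (qEig t' (-1)) = 2 := by rw [← finrank_qEig_conj ht'def.symm, htd, hRtd]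
  suffices hK : KRat inc t' by
    obtain ⟨c, hc, h⟩ := hK
    obtain ⟨J, hJ⟩ := A.ratMap_of_scalar (A.scalar_mem_of_dim h2 ht'2 hc h (by omega)) hc h
    have h1 := (A.finrank_qEig h2 hJ ht'2).2
    have h3 := finrank_eig_add h20 (A.ratMap_sq hJ ht'2)
    refine C.rat_of_centraliser h2 hg ht2 (fun x hx htx => ?_) hJ (e := 1) (one_mul 1) (by omega)
    exact C.ten_plane h2 hl hd hx hRtN (by omega) (htE ▸ A.pres_eig h2 htJ ht2 htx (by ring))
  have : Finite V := Module.finite_of_finite F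
  have : Finite (V ≃ₗ[F] V) := Finite.of_injective _ DFunLike.coe_injective
  have : Finite (quadIsoms Q) := inferInstance
  have hst : ¬ IsConj s t' := fun h => by
    obtain ⟨h', hh'⟩ := isConj_iff.1 h
    have := finrank_qEig_conj hh' (-1 : F)
    omega
  obtain ⟨j, hjz, hj1, hj2, hjs, hjt, hjc⟩ := exists_commuting_involution s t' hs2 ht'2 hst
  have hjM : j ∈ M := (Subgroup.zpowers_le.2 (mul_mem hs ht'M)) hjz
  obtain ⟨c, hc, hcj⟩ := C.ten_big h2 hl hd hjM hRsN (by omega) (by omega)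
    (hsE ▸ A.pres_eig h2 hsJ hs2 hjs.symm (by ring))
  have hsj2 : (s * j) * (s * j) = 1 := by
    rw [show (s * j) * (s * j) = s * (j * s) * j by group, hjs.eq,
      show s * (s * j) * j = (s * s) * (j * j) by group, hs2, hj2, mul_one]
  have hsjd : Module.finrank F (qEig (s * j) (-1)) = 4 ∨ Module.finrank F (qEig (s * j) (-1)) = 2 := by
    rcases hjc with h | h <;> obtain ⟨h', hh'⟩ := isConj_iff.1 h <;>
      have := finrank_qEig_conj hh' (-1 : F) <;> omega
  have hcm : c ∈ F₀ := by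
    refine A.scalar_mem_of_dim h2 hsj2 hc (fun z => ?_) (by omega)
    obtain ⟨y, hy⟩ := hcj z
    exact ⟨(s₀.1 : V₀ →ₗ[F₀] V₀) y, by rw [← hsJ, ← hy, map_smul]; rfl⟩
  obtain ⟨J, hJ⟩ := A.ratMap_of_scalar hcm hc hcj
  obtain ⟨hX, hle, hsum⟩ := A.eig_perp h2 hJ hj2 (e := -1) (by ring)
  obtain ⟨hY, hle1, -⟩ := A.eig_perp h2 hJ hj2 (e := 1) (one_mul 1)
  obtain ⟨m, hm⟩ := C.even_neg h2 hjM hj2
  rw [(A.finrank_qEig h2 hJ hj2).2] at hm
  rw [neg_neg] at hsum
  have hX0 : Module.finrank F₀ (eig J (-1)) ≠ 0 := fun h => by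
    refine hj1 (A.isom_ext fun z => ?_)
    have hz : z ∈ eig J 1 := by rw [Submodule.eq_top_of_finrank_eq (S := eig J 1) (by omega)]; trivial
    rw [mem_eig, one_smul] at hz
    rw [hJ, hz]; rfl
  have hX' := A.pres_eig h2 hJ hj2 hjt (e := -1) (by ring)
  have hY' := A.pres_eig h2 hJ hj2 hjt (e := 1) (one_mul 1)
  rcases (show Module.finrank F₀ (eig J (-1)) = 2 ∨
      (4 ≤ Module.finrank F₀ (eig J (-1)) ∧ Module.finrank F₀ (eig J (-1)) + 3 ≤ 2 * l) ∨
      Module.finrank F₀ (eig J 1) = 2 ∨ Module.finrank F₀ (eig J 1) = 0 by omega) with hk | hk | hk | hk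
  · exact C.ten_plane h2 hl hd ht'M hX hk hX'
  · exact C.ten_big h2 hl hd ht'M hX (by omega) hk.2 hX'
  · exact C.ten_plane h2 hl hd ht'M hY hk hY'
  · -- `j` is minus the identity: impossible
    exfalso
    have hsjJ : RatMap inc (s * j) ((s₀.1 : V₀ →ₗ[F₀] V₀) ∘ₗ J) := fun z => by
      show s.1 (j.1 (inc z)) = _
      rw [hJ, hsJ]; rfl
    have h1 := Submodule.finrank_mono (show oPerp Q₀ Rs ≤ eig ((s₀.1 : V₀ →ₗ[F₀] V₀) ∘ₗ J) (-1) from
      fun w hw => by
        have hJw : w ∈ eig J (-1) := by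
          rw [Submodule.eq_top_of_finrank_eq (S := eig J (-1)) (by omega)]; trivial
        rw [mem_eig, neg_one_smul] at hJw ⊢
        show s₀.1 (J w) = -w
        rw [hJw, map_neg, hsf w hw])
    rw [← (A.finrank_qEig h2 hsjJ hsj2).2] at h1
    have h3 := finrank_oPerp hRsN
    omega

end RatCtx

end CfsgLib.MaxSub
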