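import Cfsg.Agent.Lib.MaxSub.RatEven
import Cfsg.Agent.Lib.MaxSub.RatOdd
import Cfsg.Agent.Lib.MaxSub.OmegaGen
import Cfsg.Agent.Lib.MaxSub.RatEight
import Cfsg.Agent.Lib.MaxSub.RatTen

/-!
The stabiliser of a rational structure is maximal in `Ω`.
-/

set_option autoImplicit false
set_option linter.unusedSectionVars false

namespace CfsgLib.MaxSub

open CfsgLib.Classical CfsgLib.Geom
open QuadraticMap (polar)
open Matrix
open scoped MatrixGroups

variable {ι : Type} [Fintype ι] [DecidableEq ι] {F : Type*} [Field F] [Fintype F]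

theorem omegaGL_eq_commutator (f : (ι → F) → F) :
    Cfsg.Geo.omegaGL f = ⁅Cfsg.isometryGroup F f, Cfsg.isometryGroup F f⁆ := by
  show (commutator (Cfsg.isometryGroup F f)).map _ = _
  rw [commutator_def, Subgroup.map_commutator, ← MonoidHom.range_eq_map, Subgroup.range_subtype]

theorem mem_isometryGroup {f : (ι → F) → F} {g : GL ι F} :
    g ∈ Cfsg.isometryGroup F f ↔ ∀ v, f ((g : Matrix ι ι F) *ᵥ v) = f v :=
  ⟨fun h v => h v v, fun h v _ => h v⟩

theorem omegaGL_transport (f f' : (ι → F) → F) (P : GL ι F) {ζ : F} (hζ : ζ ≠ 0)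
    (hf : ∀ v, f' v = ζ * f ((P : Matrix ι ι F) *ᵥ v)) :
    (Cfsg.Geo.omegaGL f').map (MulAut.conj P).toMonoidHom = Cfsg.Geo.omegaGL f := by
  rw [omegaGL_eq_commutator, omegaGL_eq_commutator, Subgroup.map_commutator]
  have h : (Cfsg.isometryGroup F f').map (MulAut.conj P).toMonoidHom = Cfsg.isometryGroup F f := by
    ext g
    rw [Subgroup.mem_map_equiv, MulAut.conj_symm_apply, mem_isometryGroup, mem_isometryGroup]
    have e : ∀ v, f' (((P⁻¹ * g * P : GL ι F) : Matrix ι ι F) *ᵥ v) =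
        ζ * f ((g : Matrix ι ι F) *ᵥ ((P : Matrix ι ι F) *ᵥ v)) := fun v => by
      rw [hf, Units.val_mul, Units.val_mul, ← mulVec_mulVec, ← mulVec_mulVec, mulVec_mulVec_inv]
    constructor
    · intro hg w
      have h := hg (((P⁻¹ : GL ι F) : Matrix ι ι F) *ᵥ w)
      rw [e, hf, mulVec_mulVec_inv] at h
      exact mul_left_cancel₀ hζ h
    · intro hg v
      rw [e, hf, hg]
  rw [h]

/-- the subfield group is maximal in `Ω`: the cases of `subfield_isMaximalIn_all`, and dimension at least seven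
in characteristic two -/
theorem subfield_isMaximalIn_gen (Q : QuadraticForm F (ι → F)) {f : (ι → F) → F} (hf : ⇑Q = f)
    (hsep : ∀ x, (∀ y, polar Q x y = 0) → x = 0) (F₀ : Subfield F) (r : ℕ)
    (hr : r.Prime) (hcard : Fintype.card F = Nat.card F₀ ^ r)
    (hn : (13 ≤ Fintype.card ι ∨ Fintype.card ι = 8 ∧ Odd r ∧
      (¬ ∃ S : Submodule F (ι → F), (∀ x ∈ S, Q x = 0) ∧ Module.finrank F S = 4) ∨
      (Fintype.card ι = 12 ∧ Odd r) ∨ Fintype.card ι = 11 ∨ ((Fintype.card ι = 7 ∨ Even (Fintype.card ι) ∧ 10 ≤ Fintype.card ι) ∧ (2 : F) ≠ 0)) ∨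
      ((2 : F) = 0 ∧ 7 ≤ Fintype.card ι))
    (P : GL ι F) {ζ : F} (hζ : ζ ≠ 0)
    (hP : Cfsg.Geo.IsQuadFormRationalStructure (fun v => ζ * f v) F₀ P) :
    Cfsg.Geo.IsMaximalIn (Cfsg.Geo.omegaGL f) (Cfsg.Geo.subfieldSubgroup F₀ P ⊓ Cfsg.Geo.omegaGL f) := by
  classical
  subst hf
  let Q' : QuadraticForm F (ι → F) := ζ • Q.comp (Matrix.toLin' (P : Matrix ι ι F))
  have hQ' : ∀ v, Q' v = ζ * Q ((P : Matrix ι ι F) *ᵥ v) := fun v => rfl
  have hpol : ∀ x y, polar Q' x y =
      ζ * polar Q ((P : Matrix ι ι F) *ᵥ x) ((P : Matrix ι ι F) *ᵥ y) := fun x y => by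
    simp only [QuadraticMap.polar, hQ', mulVec_add]; ring
  have hsep' : ∀ x, (∀ y, polar Q' x y = 0) → x = 0 := fun x hx => by
    have h : (P : Matrix ι ι F) *ᵥ x = 0 := hsep _ fun y => by
      have h := hx (((P⁻¹ : GL ι F) : Matrix ι ι F) *ᵥ y)
      rw [hpol, mulVec_mulVec_inv] at h
      exact (mul_eq_zero.1 h).resolve_left hζ
    rw [← inv_mulVec_mulVec P x, h, mulVec_zero]
  let inc : (ι → F₀) →+ (ι → F) :=
    { toFun := fun u i => (u i : F), map_zero' := rfl, map_add' := fun _ _ => rfl }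
  have hincs : ∀ (c : F₀) (u : ι → F₀), inc (c • u) = (c : F) • inc u := fun _ _ => rfl
  have hrat : ∀ u, Q' (inc u) ∈ F₀ := fun u => hP (inc u) fun i => (u i).2
  let q : (ι → F₀) → F₀ := fun u => ⟨Q' (inc u), hrat u⟩
  have hq : ∀ u v, ((polar q u v : F₀) : F) = polar Q' (inc u) (inc v) := fun u v => by
    simp only [QuadraticMap.polar, q, AddSubgroupClass.coe_sub, map_add]
  let Q₀ : QuadraticForm F₀ (ι → F₀) := QuadraticMap.ofPolar q
    (fun a x => Subtype.ext (by
      show Q' (inc (a • x)) = ((a * a) • q x : F₀)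
      rw [hincs, quad_smul]; rfl))
    (fun x x' y => Subtype.ext (by
      rw [hq, map_add, QuadraticMap.polar_add_left, AddMemClass.coe_add, hq, hq]))
    (fun a x y => Subtype.ext (by
      rw [hq, hincs, QuadraticMap.polar_smul_left]
      show _ = ((a * polar q x y : F₀) : F)
      rw [MulMemClass.coe_mul, hq]; rfl))
  have hdim : Module.finrank F₀ (ι → F₀) = Fintype.card ι := Module.finrank_fintype_fun_eq_card F₀
  have hdimF : Module.finrank F (ι → F) = Fintype.card ι := Module.finrank_fintype_fun_eq_card F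
  have hsingle : ∀ i, inc (Pi.single i (1 : F₀)) = Pi.single i (1 : F) := fun i => funext fun k => by
    show ((Pi.single i (1 : F₀) : ι → F₀) k : F) = _
    simp only [Pi.single_apply]; split <;> simp
  have A : RatOrth Q' Q₀ inc := by
    refine ⟨hincs, fun u v h => funext fun i => Subtype.ext (congrFun h i), ?_, fun u => rfl, hsep',
      by rw [hdim, hdimF], by rw [hdimF]; rcases hn with (hn | ⟨h8, -⟩ | ⟨h12, -⟩ | h11 | ⟨h7 | ⟨-, h7⟩, -⟩) | ⟨-, h9⟩ <;> omega, fun L hL c hc hc0 => ?_⟩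
    · rw [eq_top_iff]
      intro x _
      rw [pi_eq_sum_univ' x]
      exact Submodule.sum_mem _ fun i _ => Submodule.smul_mem _ _ (Submodule.subset_span
        ⟨Pi.single i 1, hsingle i⟩)
    · have hfin : Module.finrank F₀ F = r := by
        have h1 := Module.natCard_eq_pow_finrank (K := F₀) (V := F)
        rw [Nat.card_eq_fintype_card (α := F), hcard] at h1
        exact (Nat.pow_right_injective (Finite.one_lt_card (α := F₀)) h1).symm
      let S : Subalgebra F₀ F :=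
        { toSubsemiring := L.toSubsemiring
          algebraMap_mem' := fun x => hL _ x.2 }
      haveI := Subalgebra.isSimpleOrder_of_finrank_prime F₀ F (hfin.symm ▸ hr)
      rcases IsSimpleOrder.eq_bot_or_eq_top S with h | h
      · exfalso
        have hmem : c ∈ S := hc
        rw [h, Algebra.mem_bot] at hmem
        obtain ⟨y, rfl⟩ := hmem
        exact hc0 y.2
      · intro x
        have : x ∈ S := by rw [h]; trivial
        exact this
  have hiff : ∀ g : quadIsoms Q', isomsToGL Q' g ∈ Cfsg.Geo.subfieldSubgroup F₀ 1 ↔ KRat inc g := by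
    intro g
    rw [mem_subfieldSubgroup_one]
    constructor
    · rintro ⟨c, hc, hA⟩
      refine ⟨c, hc, fun x => ⟨fun i => ⟨_, hA.mulVec (x := inc x) (fun i => (x i).2) i⟩, ?_⟩⟩
      show _ = (c • (isomsToGL Q' g : Matrix ι ι F)) *ᵥ inc x
      rw [smul_mulVec, isomsToGL_mulVec]
    · rintro ⟨c, hc, h⟩
      refine ⟨c, hc, fun i k => ?_⟩
      obtain ⟨y, hy⟩ := h (Pi.single k 1)
      rw [hsingle, ← isomsToGL_mulVec Q' g] at hy
      have e := congrFun hy i
      simp only [mulVec_single, MulOpposite.op_one, one_smul, Pi.smul_apply, Matrix.col_apply] at e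
      rw [Matrix.smul_apply, e]
      exact (y i).2
  have key : Cfsg.Geo.IsMaximalIn (Cfsg.Geo.omegaGL (⇑Q'))
      (Cfsg.Geo.subfieldSubgroup F₀ 1 ⊓ Cfsg.Geo.omegaGL (⇑Q')) := by
    refine omega_isMaximalIn_of Q' rfl _ ?_ fun M hM g hgM hgc hgH => ?_
    · obtain ⟨g, hg, hgn⟩ := A.exists_move (by
        by_contra hno
        push Not at hno
        have h1 : Nat.card F ≤ Nat.card F₀ :=
          Nat.card_le_card_of_injective (fun x : F => (⟨x, hno x⟩ : F₀)) fun a b h => congrArg Subtype.val h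
        rw [Nat.card_eq_fintype_card (α := F), hcard] at h1
        have h2 := Nat.pow_lt_pow_right (Finite.one_lt_card (α := F₀)) hr.one_lt
        rw [pow_one] at h2
        omega)
      exact ⟨g, hg, fun h => hgn ((hiff g).1 h)⟩
    · by_contra hle
      have C : RatCtx Q' Q₀ inc (M ⊓ commutator (quadIsoms Q')) := by
        refine ⟨A, fun u w hu huw => ⟨hM _ (OrthSub.siegel_mem_commutator A.sep (by rcases hn with (hn | ⟨h8, -⟩ | ⟨h12, -⟩ | h11 | ⟨h7 | ⟨-, h7⟩, -⟩) | ⟨-, h9⟩ <;> omega) _ _) ?_,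
          OrthSub.siegel_mem_commutator A.sep (by rcases hn with (hn | ⟨h8, -⟩ | ⟨h12, -⟩ | h11 | ⟨h7 | ⟨-, h7⟩, -⟩) | ⟨-, h9⟩ <;> omega) _ _⟩, inf_le_right, fun h => hle (h.trans inf_le_left)⟩
        exact (hiff _).2 ⟨1, one_ne_zero, fun x => ⟨_, by rw [one_smul]; exact A.siegel_inc hu huw x⟩⟩
      by_cases h2 : (2 : F) = 0
      · exact hgH ((hiff g).2 (C.even_dichotomy h2 ⟨hgM, hgc⟩))
      · refine hgH ((hiff g).2 ?_)
        have hsq : Odd r → ∀ c : F, c * c ∈ F₀ → c ∈ F₀ := fun hodd => A.sqrt_of_card (by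
          have h3 : 3 ≤ r := by
            rcases hodd with ⟨k, hk⟩; have := hr.two_le; omega
          rw [Nat.card_eq_fintype_card (α := F), hcard]
          exact Nat.pow_lt_pow_right (Finite.one_lt_card (α := F₀)) (by omega))
        replace hn := hn.resolve_right fun h => h2 h.1
        rcases hn with hn | ⟨h8, hodd, hno⟩ | ⟨h12, hodd⟩ | h11 | ⟨h7 | ⟨⟨l, hl⟩, h10⟩, -⟩
        · exact C.odd_dichotomy h2 (Or.inl (by omega)) ⟨hgM, hgc⟩
        rotate_left
        · exact C.odd_dichotomy h2 (Or.inr (Or.inl ⟨by omega, hsq hodd⟩)) ⟨hgM, hgc⟩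
        · exact C.odd_dichotomy h2 (Or.inr (Or.inr (by omega))) ⟨hgM, hgc⟩
        · exact C.odd_dichotomy_seven h2 (by omega) ⟨hgM, hgc⟩
        · exact C.odd_dichotomy_ten h2 (l := l) (by omega) (by omega) ⟨hgM, hgc⟩
        refine C.odd_dichotomy_eight h2 (by omega) (fun ⟨S, hS, hS4⟩ => ?_)
          (hsq hodd) ⟨hgM, hgc⟩
        · obtain ⟨T, hT, hTd⟩ := A.exists_ts_span hS
          refine hno ⟨T.map (Matrix.toLin' (P : Matrix ι ι F)), ?_, ?_⟩
          · rintro _ ⟨z, hz, rfl⟩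
            exact (mul_eq_zero.1 ((hQ' z).symm.trans (hT z hz))).resolve_left hζ
          · rw [← LinearEquiv.finrank_eq (Submodule.equivMapOfInjective _
              (fun a b h => by
                have h' := congrArg (((P⁻¹ : GL ι F) : Matrix ι ι F) *ᵥ ·) h
                simpa [mulVec_mulVec] using h') T), hTd, hS4]
  have h := isMaximalIn_map (MulAut.conj P) key
  have e1 := omegaGL_transport (⇑Q) (⇑Q') P hζ hQ'
  have e2 : (Cfsg.Geo.subfieldSubgroup F₀ (1 : GL ι F)).map (MulAut.conj P).toMonoidHom =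
      Cfsg.Geo.subfieldSubgroup F₀ P := by
    rw [Cfsg.Geo.subfieldSubgroup, Cfsg.Geo.subfieldSubgroup, Subgroup.map_map]
    congr 1
    ext x
    simp
  rwa [Subgroup.map_inf _ _ _ (MulAut.conj P).injective, e1, e2] at h

/-- the subfield group is maximal in `Ω`: dimension at least thirteen, dimension twelve with odd degree,
dimension eight of minus type with odd degree, dimension eleven, or dimension seven or even dimension at least ten
in odd characteristic -/
theorem subfield_isMaximalIn_all (Q : QuadraticForm F (ι → F)) {f : (ι → F) → F} (hf : ⇑Q = f)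
    (hsep : ∀ x, (∀ y, polar Q x y = 0) → x = 0) (F₀ : Subfield F) (r : ℕ)
    (hr : r.Prime) (hcard : Fintype.card F = Nat.card F₀ ^ r)
    (hn : 13 ≤ Fintype.card ι ∨ Fintype.card ι = 8 ∧ Odd r ∧
      (¬ ∃ S : Submodule F (ι → F), (∀ x ∈ S, Q x = 0) ∧ Module.finrank F S = 4) ∨
      (Fintype.card ι = 12 ∧ Odd r) ∨ Fintype.card ι = 11 ∨ ((Fintype.card ι = 7 ∨ Even (Fintype.card ι) ∧ 10 ≤ Fintype.card ι) ∧ (2 : F) ≠ 0))
    (P : GL ι F) {ζ : F} (hζ : ζ ≠ 0)
    (hP : Cfsg.Geo.IsQuadFormRationalStructure (fun v => ζ * f v) F₀ P) :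
    Cfsg.Geo.IsMaximalIn (Cfsg.Geo.omegaGL f) (Cfsg.Geo.subfieldSubgroup F₀ P ⊓ Cfsg.Geo.omegaGL f) :=
  subfield_isMaximalIn_gen Q hf hsep F₀ r hr hcard (Or.inl hn) P hζ hP

/-- the subfield group is maximal in `Ω`: dimension at least thirteen, dimension twelve with odd degree,
dimension eight of minus type with odd degree, or dimension eleven -/
theorem subfield_isMaximalIn' (Q : QuadraticForm F (ι → F)) {f : (ι → F) → F} (hf : ⇑Q = f)
    (hsep : ∀ x, (∀ y, polar Q x y = 0) → x = 0) (F₀ : Subfield F) (r : ℕ)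
    (hr : r.Prime) (hcard : Fintype.card F = Nat.card F₀ ^ r)
    (hn : 13 ≤ Fintype.card ι ∨ Fintype.card ι = 8 ∧ Odd r ∧
      (¬ ∃ S : Submodule F (ι → F), (∀ x ∈ S, Q x = 0) ∧ Module.finrank F S = 4) ∨
      (Fintype.card ι = 12 ∧ Odd r) ∨ Fintype.card ι = 11) (P : GL ι F) {ζ : F} (hζ : ζ ≠ 0)
    (hP : Cfsg.Geo.IsQuadFormRationalStructure (fun v => ζ * f v) F₀ P) :
    Cfsg.Geo.IsMaximalIn (Cfsg.Geo.omegaGL f) (Cfsg.Geo.subfieldSubgroup F₀ P ⊓ Cfsg.Geo.omegaGL f) :=
  subfield_isMaximalIn_all Q hf hsep F₀ r hr hcard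
    (hn.imp_right fun h => h.imp_right fun h => h.imp_right Or.inl) P hζ hP

/-- the subfield group is maximal in `Ω` -/
theorem subfield_isMaximalIn (Q : QuadraticForm F (ι → F)) {f : (ι → F) → F} (hf : ⇑Q = f)
    (hsep : ∀ x, (∀ y, polar Q x y = 0) → x = 0) (hn : 13 ≤ Fintype.card ι) (F₀ : Subfield F) (r : ℕ)
    (hr : r.Prime) (hcard : Fintype.card F = Nat.card F₀ ^ r) (P : GL ι F) {ζ : F} (hζ : ζ ≠ 0)
    (hP : Cfsg.Geo.IsQuadFormRationalStructure (fun v => ζ * f v) F₀ P) :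
    Cfsg.Geo.IsMaximalIn (Cfsg.Geo.omegaGL f) (Cfsg.Geo.subfieldSubgroup F₀ P ⊓ Cfsg.Geo.omegaGL f) :=
  subfield_isMaximalIn' Q hf hsep F₀ r hr hcard (Or.inl hn) P hζ hP

end CfsgLib.MaxSub
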