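import Cfsg.Agent.Lib.MaxSub.OrthUnitary

/-!
Rational structures on quadratic spaces: overgroups of the subfield group in `Ω`.
-/

set_option autoImplicit false
set_option linter.unusedSectionVars false

namespace CfsgLib.MaxSub

open CfsgLib.Classical CfsgLib.Geom
open QuadraticMap (polar)

variable {F V V₀ : Type*} [Field F] {F₀ : Subfield F} [AddCommGroup V] [Module F V]
  [AddCommGroup V₀] [Module F₀ V₀]

/-- `inc` is a rational structure of `Q`, carrying `Q₀`. -/
structure RatOrth (Q : QuadraticForm F V) (Q₀ : QuadraticForm F₀ V₀) (inc : V₀ →+ V) : Prop where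
  inc_smul : ∀ (c : F₀) (x : V₀), inc (c • x) = (c : F) • inc x
  inj : Function.Injective inc
  span : Submodule.span F (Set.range inc) = ⊤
  quad : ∀ x, Q (inc x) = (Q₀ x : F)
  sep : ∀ x, (∀ y, polar Q x y = 0) → x = 0
  dim : Module.finrank F₀ V₀ = Module.finrank F V
  dim7 : 7 ≤ Module.finrank F V
  ring : ∀ L : Subring F, (∀ x ∈ F₀, x ∈ L) → ∀ c ∈ L, c ∉ F₀ → ∀ x, x ∈ L

/-- `g` maps the rational structure to a scalar multiple of itself. -/
def KRat {Q : QuadraticForm F V} (inc : V₀ →+ V) (g : quadIsoms Q) : Prop :=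
  ∃ c : F, c ≠ 0 ∧ ∀ x, ∃ y, c • g.1 (inc x) = inc y

/-- two orthogonal hyperbolic lines -/
structure Hyp4 (Q₀ : QuadraticForm F₀ V₀) (u y u' y' : V₀) : Prop where
  qu : Q₀ u = 0
  qy : Q₀ y = 0
  uy : polar Q₀ u y = 0
  uu' : polar Q₀ u u' = 1
  yy' : polar Q₀ y y' = 1
  uy' : polar Q₀ u y' = 0
  yu' : polar Q₀ y u' = 0

theorem siegel_move_smul {Q : QuadraticForm F V} {a b : V} (ha : Q a = 0) (hb : Q b = 0)
    (h : polar Q a b = 0) (k : F) : siegel Q a (k • b) = siegel Q b ((-k) • a) := by
  have hka : Q (k • a) = 0 := by rw [quad_smul, ha, mul_zero]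
  have h' : polar Q b (k • a) = 0 := by
    rw [QuadraticMap.polar_smul_right, QuadraticMap.polar_comm, h, smul_zero]
  rw [← siegel_smul Q ha h k, siegel_swap hb hka h', neg_smul]

theorem siegel_add_left {Q : QuadraticForm F V} {a b w : V} (ha : Q a = 0) (hb : Q b = 0) (hw : Q w = 0)
    (hab : polar Q a b = 0) (haw : polar Q a w = 0) (hbw : polar Q b w = 0) :
    siegel Q (a + b) w = siegel Q a w * siegel Q b w := by
  have hwa : polar Q w a = 0 := by rw [QuadraticMap.polar_comm]; exact haw
  have hwb : polar Q w b = 0 := by rw [QuadraticMap.polar_comm]; exact hbw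
  have hq : Q (a + b) = 0 := by
    rw [QuadraticMap.map_add (Q : QuadraticMap F V F) a b, ha, hb, hab]; simp
  rw [siegel_swap hw hq (by rw [QuadraticMap.polar_add_right, hwa, hwb, add_zero]),
    siegel_swap hw ha hwa, siegel_swap hw hb hwb, neg_add,
    siegel_add Q hw (by rw [QuadraticMap.polar_neg_right, hwa, neg_zero])
      (by rw [QuadraticMap.polar_neg_right, hwb, neg_zero])]

namespace RatOrth

variable {Q : QuadraticForm F V} {Q₀ : QuadraticForm F₀ V₀} {inc : V₀ →+ V} (A : RatOrth Q Q₀ inc)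
include A

theorem pol (x y : V₀) : polar Q (inc x) (inc y) = ((polar Q₀ x y : F₀) : F) := by
  simp only [QuadraticMap.polar, ← map_add, A.quad, AddSubgroupClass.coe_sub]

theorem pol_zero {x y : V₀} (h : polar Q₀ x y = 0) : polar Q (inc x) (inc y) = 0 := by
  rw [A.pol, h, ZeroMemClass.coe_zero]

theorem quad_zero {x : V₀} (h : Q₀ x = 0) : Q (inc x) = 0 := by rw [A.quad, h, ZeroMemClass.coe_zero]

theorem inc_ne {x : V₀} (h : x ≠ 0) : inc x ≠ 0 := fun e => h (A.inj (e.trans inc.map_zero.symm))

/-- a functional is determined by the rational vectors -/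
theorem eq_zero_of_perp {z : V} (h : ∀ x, polar Q z (inc x) = 0) : z = 0 := by
  refine A.sep z fun y => ?_
  have hy : y ∈ Submodule.span F (Set.range inc) := by rw [A.span]; trivial
  have hle : Submodule.span F (Set.range inc) ≤ LinearMap.ker (Q.polarBilin z) :=
    Submodule.span_le.2 (by rintro _ ⟨x, rfl⟩; exact h x)
  exact hle hy

theorem sep₀ : ∀ x, (∀ y, polar Q₀ x y = 0) → x = 0 := fun x hx => by
  by_contra h
  exact A.inc_ne h (A.eq_zero_of_perp fun y => A.pol_zero (hx y))

theorem siegel_inc {u w : V₀} (hu : Q₀ u = 0) (huw : polar Q₀ u w = 0) (x : V₀) :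
    (siegel Q (inc u) (inc w)).1 (inc x) = inc ((siegel Q₀ u w).1 x) := by
  rw [siegel_apply Q (A.quad_zero hu) (A.pol_zero huw), siegel_apply Q₀ hu huw, A.pol, A.pol, A.quad,
    map_sub, map_add, A.inc_smul, A.inc_smul]
  push_cast
  rfl

variable [Finite F] [FiniteDimensional F₀ V₀] [FiniteDimensional F V]

theorem dual_rat {z : V} (h : ∀ x, polar Q z (inc x) ∈ F₀) : ∃ z₀, inc z₀ = z := by
  let ψ : V₀ →ₗ[F₀] F₀ :=
    { toFun := fun x => ⟨polar Q z (inc x), h x⟩
      map_add' := fun x y => Subtype.ext (by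
        show polar Q z (inc (x + y)) = _
        rw [map_add, QuadraticMap.polar_add_right]; rfl)
      map_smul' := fun c x => Subtype.ext (by
        show polar Q z (inc (c • x)) = _
        rw [A.inc_smul, QuadraticMap.polar_smul_right]; rfl) }
  let Φ : V₀ →ₗ[F₀] Module.Dual F₀ V₀ := Q₀.polarBilin
  have hinj : Function.Injective Φ := by
    rw [← LinearMap.ker_eq_bot, Submodule.eq_bot_iff]
    exact fun x hx => A.sep₀ x fun y => LinearMap.congr_fun hx y
  obtain ⟨z₀, hz₀⟩ := (LinearMap.injective_iff_surjective_of_finrank_eq_finrank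
    (Subspace.dual_finrank_eq).symm).1 hinj ψ
  refine ⟨z₀, sub_eq_zero.1 (A.eq_zero_of_perp fun x => ?_)⟩
  have e : ((polar Q₀ z₀ x : F₀) : F) = polar Q z (inc x) := congrArg Subtype.val (LinearMap.congr_fun hz₀ x)
  rw [QuadraticMap.polar_sub_left, A.pol, e, sub_self]

theorem exists_out (S : Finset V₀) (hS : S.card ≤ 2) :
    ∃ z, Q₀ z = 0 ∧ (∀ s ∈ S, polar Q₀ z s = 0) ∧ z ∉ Submodule.span F₀ (S : Set V₀) := by
  by_contra hno
  push Not at hno
  have := A.dim
  have := A.dim7
  have h1 := Submodule.finrank_mono (qPerp_le_of_singular A.sep₀ S (by omega)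
    fun x hx hQx => hno x hQx fun s hs => hx s hs)
  have h2 := finrank_span_finset_le_card (R := F₀) S
  have h3 := finrank_le_finrank_qPerp_add (Q := Q₀) S
  simp only [Set.finrank] at h2
  omega

theorem exists_unit (S : Finset V₀) (hS : S.card ≤ 2) {b : V₀}
    (hb : b ∉ Submodule.span F₀ (S : Set V₀)) :
    ∃ z, Q₀ z = 0 ∧ (∀ s ∈ S, polar Q₀ z s = 0) ∧ polar Q₀ z b = 1 := by
  have := A.dim
  have := A.dim7
  obtain ⟨z, hz, hzS, hzb⟩ := exists_singular_pair A.sep₀ S (by omega) hb
  refine ⟨(polar Q₀ z b)⁻¹ • z, by rw [quad_smul, hz, mul_zero], fun s hs => ?_, ?_⟩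
  · rw [QuadraticMap.polar_smul_left, hzS s hs, smul_zero]
  · rw [QuadraticMap.polar_smul_left, smul_eq_mul, inv_mul_cancel₀ hzb]

theorem exists_dual {v : V₀} (hv : v ≠ 0) : ∃ v', polar Q₀ v v' = 1 := by
  obtain ⟨z, -, -, hz⟩ := A.exists_unit ∅ (by simp) (b := v) (by simpa using hv)
  exact ⟨z, by rw [QuadraticMap.polar_comm]; exact hz⟩

theorem exists_hyp (W : Submodule F₀ V₀) (hW : ∀ x ∈ W, (∀ y ∈ W, polar Q₀ x y = 0) → x = 0)
    (h5 : 5 ≤ Module.finrank F₀ W) :
    ∃ u y u' y', Hyp4 Q₀ u y u' y' ∧ u ∈ W ∧ y ∈ W ∧ u' ∈ W ∧ y' ∈ W := by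
  have hpar : ∀ x ∈ W, x ≠ 0 → ∃ x' ∈ W, polar Q₀ x x' = 1 := by
    intro x hx hx0
    obtain ⟨z, hz, hxz⟩ : ∃ z ∈ W, polar Q₀ x z ≠ 0 := by
      by_contra hno
      push Not at hno
      exact hx0 (hW x hx hno)
    exact ⟨(polar Q₀ x z)⁻¹ • z, W.smul_mem _ hz, by
      rw [QuadraticMap.polar_smul_right, smul_eq_mul, inv_mul_cancel₀ hxz]⟩
  obtain ⟨u, hu, hu0, hQu⟩ := exists_singular_in (Q := Q₀) (W := W) (by omega)
  obtain ⟨u', hu', huu'⟩ := hpar u hu hu0
  have h1 := finrank_le_inf_ker W ((QuadraticMap.polarBilin Q₀).flip u)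
  have h2 := finrank_le_inf_ker (W ⊓ LinearMap.ker ((QuadraticMap.polarBilin Q₀).flip u))
    ((QuadraticMap.polarBilin Q₀).flip u')
  obtain ⟨y, hy, hy0, hQy⟩ := exists_singular_in (Q := Q₀) (W := W ⊓
      LinearMap.ker ((QuadraticMap.polarBilin Q₀).flip u) ⊓
      LinearMap.ker ((QuadraticMap.polarBilin Q₀).flip u')) (by omega)
  have hyu : polar Q₀ y u = 0 := hy.1.2
  have hyu' : polar Q₀ y u' = 0 := hy.2
  obtain ⟨y₂, hy₂, hyy₂⟩ := hpar y hy.1.1 hy0
  refine ⟨u, y, u', y₂ - polar Q₀ u y₂ • u', ⟨hQu, hQy, ?_, huu', ?_, ?_, hyu'⟩, hu, hy.1.1, hu',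
    sub_mem hy₂ (W.smul_mem _ hu')⟩
  · rw [QuadraticMap.polar_comm]; exact hyu
  · rw [QuadraticMap.polar_sub_right, QuadraticMap.polar_smul_right, hyy₂, hyu', smul_zero, sub_zero]
  · rw [QuadraticMap.polar_sub_right, QuadraticMap.polar_smul_right, huu', smul_eq_mul, mul_one, sub_self]

end RatOrth

/-- a proper overgroup of the subfield group -/
structure RatCtx (Q : QuadraticForm F V) (Q₀ : QuadraticForm F₀ V₀) (inc : V₀ →+ V)
    (M : Subgroup (quadIsoms Q)) : Prop where
  base : RatOrth Q Q₀ inc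
  mem : ∀ u w, Q₀ u = 0 → polar Q₀ u w = 0 → siegel Q (inc u) (inc w) ∈ M
  le : M ≤ commutator (quadIsoms Q)
  proper : ¬ commutator (quadIsoms Q) ≤ M

namespace RatCtx

variable [Finite F] [FiniteDimensional F₀ V₀] [FiniteDimensional F V]
variable {Q : QuadraticForm F V} {Q₀ : QuadraticForm F₀ V₀} {inc : V₀ →+ V}
  {M : Subgroup (quadIsoms Q)} (C : RatCtx Q Q₀ inc M)
include C

/-- one scalar spreads over the orthogonal of the centre -/
theorem spread {v w : V₀} (hv : Q₀ v = 0) (hw : Q₀ w = 0) (hvw : polar Q₀ v w = 0)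
    (hind : w ∉ Submodule.span F₀ {v}) {l : F} (h : siegel Q (inc v) (l • inc w) ∈ M) :
    ∀ x, polar Q₀ v x = 0 → siegel Q (inc v) (l • inc x) ∈ M := by
  classical
  have A := C.base
  have hd := A.dim
  have hd7 := A.dim7
  have hp : ∀ x, polar Q₀ v x = 0 → polar Q (inc v) (l • inc x) = 0 := fun x hx => by
    rw [QuadraticMap.polar_smul_right, A.pol_zero hx, smul_zero]
  let P : Submodule F₀ V₀ :=
    { carrier := {x | polar Q₀ v x = 0 ∧ ∀ b : F₀, siegel Q (inc v) (l • inc (b • x)) ∈ M}
      add_mem' := fun {x y} hx hy => ⟨by rw [QuadraticMap.polar_add_right, hx.1, hy.1, add_zero], fun b => by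
        rw [smul_add, map_add, smul_add, siegel_add Q (A.quad_zero hv)
          (hp _ (by rw [QuadraticMap.polar_smul_right, hx.1, smul_zero]))
          (hp _ (by rw [QuadraticMap.polar_smul_right, hy.1, smul_zero]))]
        exact mul_mem (hx.2 b) (hy.2 b)⟩
      zero_mem' := ⟨QuadraticMap.polar_zero_right Q₀ v, fun b => by
        rw [smul_zero, map_zero, smul_zero, siegel_zero]; exact one_mem M⟩
      smul_mem' := fun c x hx => ⟨by rw [QuadraticMap.polar_smul_right, hx.1, smul_zero], fun b => by
        rw [smul_smul]; exact hx.2 _⟩ }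
  have step : ∀ w', Q₀ w' = 0 → polar Q₀ v w' = 0 → siegel Q (inc v) (l • inc w') ∈ M →
      ∀ y, Q₀ y = 0 → polar Q₀ v y = 0 → polar Q₀ w' y = 0 → w' ∉ Submodule.span F₀ {v, y} →
      siegel Q (inc v) (l • inc y) ∈ M := by
    intro w' hw' hvw' hM y hy hvy hwy hind'
    obtain ⟨u, hu, huS, huw⟩ := A.exists_unit {v, y} Finset.card_le_two
      (b := w') (by simpa using hind')
    have huy := huS y (by simp)
    have hT := C.mem u y hu huy
    have h1 := mul_mem (mul_mem hT hM) (inv_mem hT)
    rw [siegel_conj, map_smul, A.siegel_inc hu huy, A.siegel_inc hu huy, siegel_apply Q₀ hu huy,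
      siegel_apply Q₀ hu huy, huS v (by simp), QuadraticMap.polar_comm _ y v, hvy, huw, hy,
      QuadraticMap.polar_comm _ y w', hwy] at h1
    simp only [zero_smul, add_zero, zero_mul, sub_zero, one_smul] at h1
    rw [map_add, smul_add, siegel_add Q (A.quad_zero hv) (hp _ hvw') (hp _ hvy)] at h1
    exact (Subgroup.mul_mem_cancel_left M hM).1 h1
  obtain ⟨y₁, hy₁, hy₁S, hy₁out⟩ := A.exists_out {v, w} Finset.card_le_two
  have hvy₁ : polar Q₀ v y₁ = 0 := by rw [QuadraticMap.polar_comm]; exact hy₁S v (by simp)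
  have hwy₁ : polar Q₀ w y₁ = 0 := by rw [QuadraticMap.polar_comm]; exact hy₁S w (by simp)
  simp only [Finset.coe_insert, Finset.coe_singleton] at hy₁out
  have hall : ∀ w', Q₀ w' = 0 → polar Q₀ v w' = 0 → w' ∉ Submodule.span F₀ {v} →
      siegel Q (inc v) (l • inc w') ∈ M → ∀ y₂, Q₀ y₂ = 0 → polar Q₀ v y₂ = 0 → polar Q₀ w' y₂ = 0 →
      y₂ ∉ Submodule.span F₀ {v, w'} → qPerp Q₀ ({v, w'} : Set V₀) ≤ P := by
    intro w' hw' hvw' hind' hM y₂ hy₂ hvy₂ hwy₂ hout
    have hflip : ∀ y, y ∉ Submodule.span F₀ {v, w'} → w' ∉ Submodule.span F₀ {v, y} := by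
      intro y hy hm
      obtain ⟨p, q, hpq⟩ := Submodule.mem_span_pair.1 hm
      rcases eq_or_ne q 0 with rfl | hq
      · exact hind' (Submodule.mem_span_singleton.2 ⟨p, by simpa using hpq⟩)
      · refine hy ((Submodule.smul_mem_iff _ hq).1 ?_)
        rw [show q • y = (-p) • v + (1 : F₀) • w' by rw [← hpq]; module]
        exact Submodule.mem_span_pair.2 ⟨_, _, rfl⟩
    have one : ∀ y, Q₀ y = 0 → polar Q₀ v y = 0 → polar Q₀ w' y = 0 →
        siegel Q (inc v) (l • inc y) ∈ M := by
      intro y hy hvy hwy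
      by_cases hin : y ∈ Submodule.span F₀ {v, w'}
      · have hy12 : polar Q₀ y y₂ = 0 := by
          obtain ⟨p, q, rfl⟩ := Submodule.mem_span_pair.1 hin
          rw [QuadraticMap.polar_add_left, QuadraticMap.polar_smul_left, QuadraticMap.polar_smul_left,
            hvy₂, hwy₂, smul_zero, smul_zero, add_zero]
        have e1 : siegel Q (inc v) (l • inc (y + y₂)) ∈ M := step w' hw' hvw' hM _
          (by rw [QuadraticMap.map_add (Q₀ : QuadraticMap F₀ V₀ F₀) y y₂, hy, hy₂, hy12]; simp)
          (by rw [QuadraticMap.polar_add_right, hvy, hvy₂, add_zero])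
          (by rw [QuadraticMap.polar_add_right, hwy, hwy₂, add_zero])
          (hflip _ fun h => hout (by simpa using sub_mem h hin))
        rw [map_add, smul_add, siegel_add Q (A.quad_zero hv) (hp _ hvy) (hp _ hvy₂)] at e1
        exact (Subgroup.mul_mem_cancel_right M (step w' hw' hvw' hM _ hy₂ hvy₂ hwy₂ (hflip _ hout))).1 e1
      · exact step w' hw' hvw' hM _ hy hvy hwy (hflip _ hin)
    have := qPerp_le_of_singular A.sep₀ ({v, w'} : Finset V₀)
      (by have : ({v, w'} : Finset V₀).card ≤ 2 := Finset.card_le_two; omega) (P := P)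
      fun y hyS hy => by
        have e1 : polar Q₀ v y = 0 := by rw [QuadraticMap.polar_comm]; exact hyS v (by simp)
        have e2 : polar Q₀ w' y = 0 := by rw [QuadraticMap.polar_comm]; exact hyS w' (by simp)
        exact ⟨e1, fun b => one _ (by rw [quad_smul, hy, mul_zero])
          (by rw [QuadraticMap.polar_smul_right, e1, smul_zero])
          (by rw [QuadraticMap.polar_smul_right, e2, smul_zero])⟩
    exact fun x hx => this (by simpa using hx)
  have hP1 := hall w hw hvw hind h y₁ hy₁ hvy₁ hwy₁ hy₁out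
  have hy₁P : y₁ ∈ P := hP1 (show y₁ ∈ qPerp Q₀ ({v, w} : Set V₀) from by
    rintro s (rfl | rfl)
    · exact hy₁S _ (by simp)
    · exact hy₁S _ (by simp))
  have hy₁v : y₁ ∉ Submodule.span F₀ {v} := fun hm => hy₁out (Submodule.span_mono (by simp) hm)
  obtain ⟨y₂, hy₂, hy₂S, hy₂out⟩ := A.exists_out {v, y₁} Finset.card_le_two
  simp only [Finset.coe_insert, Finset.coe_singleton] at hy₂out
  have hP2 := hall y₁ hy₁ hvy₁ hy₁v (by simpa using hy₁P.2 1) y₂ hy₂
    (by rw [QuadraticMap.polar_comm]; exact hy₂S v (by simp))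
    (by rw [QuadraticMap.polar_comm]; exact hy₂S y₁ (by simp)) hy₂out
  obtain ⟨z, -, hzS, hzw⟩ := A.exists_unit {v, y₁} Finset.card_le_two (b := w) (by
    simp only [Finset.coe_insert, Finset.coe_singleton]
    intro hm
    obtain ⟨p, q, hpq⟩ := Submodule.mem_span_pair.1 hm
    rcases eq_or_ne q 0 with rfl | hq
    · exact hind (Submodule.mem_span_singleton.2 ⟨p, by simpa using hpq⟩)
    · refine hy₁out ((Submodule.smul_mem_iff _ hq).1 ?_)
      rw [show q • y₁ = (-p) • v + (1 : F₀) • w by rw [← hpq]; module]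
      exact Submodule.mem_span_pair.2 ⟨_, _, rfl⟩)
  intro x hx
  have hz : z ∈ P := hP2 (by
    rintro s (rfl | rfl)
    · exact hzS _ (by simp)
    · exact hzS _ (by simp))
  have hx' : x - polar Q₀ x w • z ∈ P := hP1 (by
    rintro s (rfl | rfl) <;> rw [QuadraticMap.polar_sub_left, QuadraticMap.polar_smul_left]
    · rw [QuadraticMap.polar_comm, hx, hzS _ (by simp), smul_zero, sub_zero]
    · rw [hzw, smul_eq_mul, mul_one, sub_self])
  have hxP : x ∈ P := by simpa using add_mem hx' (P.smul_mem (polar Q₀ x w) hz)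
  simpa using hxP.2 1

/-- a long root element on rational vectors has a rational scalar -/
theorem scalar_mem {v w : V₀} (hv : Q₀ v = 0) (hw : Q₀ w = 0) (hvw : polar Q₀ v w = 0)
    (hv0 : v ≠ 0) (hind : w ∉ Submodule.span F₀ {v}) {l : F}
    (h : siegel Q (inc v) (l • inc w) ∈ M) : l ∈ F₀ := by
  classical
  have A := C.base
  by_contra hl
  let In : F → Prop := fun l =>
    ∀ v x, Q₀ v = 0 → v ≠ 0 → polar Q₀ v x = 0 → siegel Q (inc v) (l • inc x) ∈ M
  have hp : ∀ {v x : V₀} (l : F), polar Q₀ v x = 0 → polar Q (inc v) (l • inc x) = 0 := fun l hx => by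
    rw [QuadraticMap.polar_smul_right, A.pol_zero hx, smul_zero]
  -- one centre gives all
  have trans : ∀ (l : F) (v : V₀), Q₀ v = 0 → v ≠ 0 →
      (∀ x, polar Q₀ v x = 0 → siegel Q (inc v) (l • inc x) ∈ M) → In l := by
    intro l v hv hv0 hall v' x hv' hv'0 hx
    obtain ⟨u, hu, huS, huout⟩ := A.exists_out {v, v'} Finset.card_le_two
    simp only [Finset.coe_insert, Finset.coe_singleton] at huout
    have hvu : polar Q₀ v u = 0 := by rw [QuadraticMap.polar_comm]; exact huS v (by simp)
    have huv' := huS v' (by simp)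
    have hu0 : u ∉ Submodule.span F₀ {v} := fun hm => huout (Submodule.span_mono (by simp) hm)
    have hu0' : u ∉ Submodule.span F₀ {v'} := fun hm => huout (Submodule.span_mono (by simp) hm)
    have h1 := hall u hvu
    rw [siegel_move_smul (A.quad_zero hv) (A.quad_zero hu) (A.pol_zero hvu), neg_smul, ← smul_neg,
      ← map_neg] at h1
    have flip : ∀ {a b : V₀}, a ≠ 0 → b ∉ Submodule.span F₀ {a} → a ∉ Submodule.span F₀ {b} := by
      intro a b ha hb h
      obtain ⟨s, rfl⟩ := Submodule.mem_span_singleton.1 h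
      have hs : s ≠ 0 := fun e => ha (by rw [e, zero_smul])
      exact hb (Submodule.mem_span_singleton.2 ⟨s⁻¹, by rw [smul_smul, inv_mul_cancel₀ hs, one_smul]⟩)
    have hIu := C.spread hu (w := -v) (by rw [QuadraticMap.map_neg, hv])
      (by rw [QuadraticMap.polar_neg_right, QuadraticMap.polar_comm, hvu, neg_zero])
      (fun hm => flip hv0 hu0 (neg_mem_iff.1 hm)) h1
    have h2 := hIu v' huv'
    rw [siegel_move_smul (A.quad_zero hu) (A.quad_zero hv') (A.pol_zero huv'), neg_smul, ← smul_neg,
      ← map_neg] at h2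
    exact C.spread hv' (w := -u) (by rw [QuadraticMap.map_neg, hu])
      (by rw [QuadraticMap.polar_neg_right, QuadraticMap.polar_comm, huv', neg_zero])
      (fun hm => hu0' (neg_mem_iff.1 hm)) h2 x hx
  have hIn : In l := trans l v hv hv0 (C.spread hv hw hvw hind h)
  let L : Subring F :=
    { carrier := {l | In l}
      mul_mem' := fun {a b} ha hb => by
        obtain ⟨w', hw', -, hw'v⟩ := A.exists_out {v} (by simp)
        obtain ⟨w₁, hw₁, hw₁S, hw₁out⟩ := A.exists_out {v} (by simp)
        simp only [Finset.coe_singleton] at hw₁out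
        have hvw₁ : polar Q₀ v w₁ = 0 := by rw [QuadraticMap.polar_comm]; exact hw₁S v (by simp)
        obtain ⟨p, hp', hpS, hpw⟩ := A.exists_unit {v} (by simp) (b := w₁) (by simpa using hw₁out)
        obtain ⟨v₂, hv₂⟩ := A.exists_dual hv0
        obtain ⟨q, hqS, hq0, hq⟩ := exists_singular_in (Q := Q₀)
          (W := qPerp Q₀ (({v, p, w₁, v₂} : Finset V₀) : Set V₀)) (by
            have h1 := finrank_le_finrank_qPerp_add (Q := Q₀) ({v, p, w₁, v₂} : Finset V₀)
            have h3 : ({v, p, w₁, v₂} : Finset V₀).card ≤ 4 := Finset.card_le_four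
            have h4 := A.dim
            have h6 := A.dim7
            omega)
        have hqv : q ∉ Submodule.span F₀ {v} := fun hm => by
          obtain ⟨k, rfl⟩ := Submodule.mem_span_singleton.1 hm
          have h := hqS v₂ (by simp)
          rw [QuadraticMap.polar_smul_left, hv₂, smul_eq_mul, mul_one] at h
          exact hq0 (by rw [h, zero_smul])
        have hqp : polar Q₀ p q = 0 := by rw [QuadraticMap.polar_comm]; exact hqS p (by simp)
        have hvq : polar Q₀ v q = 0 := by rw [QuadraticMap.polar_comm]; exact hqS v (by simp)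
        have hp0 : p ≠ 0 := fun e => by rw [e, QuadraticMap.polar_zero_left] at hpw; exact zero_ne_one hpw
        have hT := hb p q hp' hp0 hqp
        have hS := ha v w₁ hv hv0 hvw₁
        have h1 := mul_mem (mul_mem hT hS) (inv_mem hT)
        have hQb : Q (b • inc q) = 0 := by rw [quad_smul, A.quad_zero hq, mul_zero]
        rw [siegel_conj, map_smul, siegel_apply Q (A.quad_zero hp') (hp b hqp),
          siegel_apply Q (A.quad_zero hp') (hp b hqp), A.pol_zero (hpS v (by simp)),
          QuadraticMap.polar_smul_left, A.pol_zero (hqS v (by simp)), hQb, A.pol, hpw,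
          QuadraticMap.polar_smul_left, A.pol_zero (hqS w₁ (by simp))] at h1
        simp only [zero_smul, add_zero, smul_zero, zero_mul, sub_zero, OneMemClass.coe_one, one_smul] at h1
        rw [smul_add, smul_smul, siegel_add Q (A.quad_zero hv) (hp a hvw₁) (hp _ hvq)] at h1
        exact trans (a * b) v hv hv0 (C.spread hv hq hvq
          hqv ((Subgroup.mul_mem_cancel_left M hS).1 h1))
      one_mem' := fun v x hv _ hx => by rw [one_smul]; exact C.mem v x hv hx
      add_mem' := fun {a b} ha hb v x hv hv0 hx => by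
        rw [add_smul, siegel_add Q (A.quad_zero hv) (hp a hx) (hp b hx)]
        exact mul_mem (ha v x hv hv0 hx) (hb v x hv hv0 hx)
      zero_mem' := fun v x hv _ hx => by rw [zero_smul, siegel_zero]; exact one_mem M
      neg_mem' := fun {a} ha v x hv hv0 hx => by
        rw [neg_smul, ← siegel_neg Q (A.quad_zero hv) (hp a hx)]
        exact inv_mem (ha v x hv hv0 hx) }
  have hall := A.ring L (fun c hc v x hv _ hx => by
    rw [show c • inc x = inc ((⟨c, hc⟩ : F₀) • x) by rw [A.inc_smul]]
    exact C.mem v _ hv (by rw [QuadraticMap.polar_smul_right, hx, smul_zero])) l hIn hl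
  have hfull : ∀ v, Q₀ v = 0 → v ≠ 0 → OrthSub.Full M (inc v) := by
    intro v hv hv0 z hz
    obtain ⟨v', hvv'⟩ := A.exists_dual hv0
    let T : V →ₗ[F] V := LinearMap.id - (QuadraticMap.polarBilin Q (inc v)).smulRight (inc v')
    have hle : Submodule.span F (Set.range inc) ≤ (rootSpace M (A.quad_zero hv)).comap T := by
      refine Submodule.span_le.2 ?_
      rintro _ ⟨x, rfl⟩
      have hx : polar Q₀ v (x - polar Q₀ v x • v') = 0 := by
        rw [QuadraticMap.polar_sub_right, QuadraticMap.polar_smul_right, hvv', smul_eq_mul, mul_one, sub_self]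
      have he : T (inc x) = inc (x - polar Q₀ v x • v') := by
        simp [T, map_sub, A.inc_smul, A.pol]
      show T (inc x) ∈ rootSpace M (A.quad_zero hv)
      rw [he]
      exact ⟨A.pol_zero hx, fun r => hall r v _ hv hv0 hx⟩
    have := hle (show z ∈ Submodule.span F (Set.range inc) by rw [A.span]; trivial)
    have hTz : T z = z := by simp [T, hz]
    rw [Submodule.mem_comap, hTz] at this
    simpa using this.2 1
  obtain ⟨v', hv', -, hv'v⟩ := A.exists_unit ∅ (by simp) (b := v) (by simpa using hv0)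
  have hv'0 : v' ≠ 0 := fun e => by rw [e, QuadraticMap.polar_zero_left] at hv'v; exact zero_ne_one hv'v
  exact C.proper (OrthSub.commutator_le_of_pair A.sep (by have := A.dim7; omega)
    (hfull v' hv' hv'0) (hfull v hv hv0) (A.quad_zero hv') (A.quad_zero hv)
    (by rw [A.pol, hv'v]; simp))

/-- the root space at a rational point is rational modulo the point -/
theorem centre_rat {v : V₀} (hv : Q₀ v = 0) (hv0 : v ≠ 0) {x : V} (hx : polar Q (inc v) x = 0)
    (h : siegel Q (inc v) x ∈ M) : ∃ (x₀ : V₀) (α : F), x = inc x₀ + α • inc v := by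
  classical
  have A := C.base
  let P : Submodule F₀ V₀ :=
    { carrier := {z | polar Q (inc z) x ∈ F₀}
      add_mem' := fun {a b} ha hb => by
        show polar Q (inc (a + b)) x ∈ F₀
        rw [map_add, QuadraticMap.polar_add_left]; exact add_mem ha hb
      zero_mem' := by
        show polar Q (inc 0) x ∈ F₀
        rw [map_zero, QuadraticMap.polar_zero_left]; exact zero_mem _
      smul_mem' := fun c a ha => by
        show polar Q (inc (c • a)) x ∈ F₀
        rw [A.inc_smul, QuadraticMap.polar_smul_left]; exact mul_mem c.2 ha }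
  have hP : qPerp Q₀ (({v} : Finset V₀) : Set V₀) ≤ P := by
    refine qPerp_le_of_singular A.sep₀ {v}
      (by have := A.dim; have := A.dim7; rw [Finset.card_singleton]; omega) fun y hyS hy => ?_
    have hyv : polar Q₀ y v = 0 := hyS v (by simp)
    by_cases hin : y ∈ Submodule.span F₀ {v}
    · obtain ⟨r, rfl⟩ := Submodule.mem_span_singleton.1 hin
      show polar Q (inc (r • v)) x ∈ F₀
      rw [A.inc_smul, QuadraticMap.polar_smul_left, hx, smul_zero]; exact zero_mem _
    obtain ⟨u, hu, huS, huout⟩ := A.exists_out {v, y} Finset.card_le_two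
    have huy := huS y (by simp)
    have huv := huS v (by simp)
    obtain ⟨u', hu', hu'S, hu'u⟩ := A.exists_unit {v, y} Finset.card_le_two
      (b := u) huout
    have hvy : polar Q₀ v y = 0 := by rw [QuadraticMap.polar_comm]; exact hyv
    set δ := polar Q (inc u) x • inc y - polar Q (inc y) x • inc u with hδ
    have hvδ : polar Q (inc v) δ = 0 := by
      rw [hδ, QuadraticMap.polar_sub_right, QuadraticMap.polar_smul_right, QuadraticMap.polar_smul_right,
        QuadraticMap.polar_comm _ (inc v) (inc y), QuadraticMap.polar_comm _ (inc v) (inc u),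
        A.pol_zero hyv, A.pol_zero huv, smul_zero, smul_zero, sub_zero]
    have hT := C.mem u y hu huy
    have h1 := mul_mem (mul_mem hT h) (inv_mem hT)
    rw [siegel_conj, siegel_apply Q (A.quad_zero hu) (A.pol_zero huy),
      siegel_apply Q (A.quad_zero hu) (A.pol_zero huy), A.pol_zero huv, A.pol_zero hyv, A.quad_zero hy] at h1
    simp only [zero_smul, add_zero, zero_mul, sub_zero] at h1
    rw [show x + polar Q (inc u) x • inc y - polar Q (inc y) x • inc u = x + δ by rw [hδ]; abel,
      siegel_add Q (A.quad_zero hv) hx hvδ] at h1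
    have hδM : siegel Q (inc v) δ ∈ M := (Subgroup.mul_mem_cancel_left M h).1 h1
    have hu'y := hu'S y (by simp)
    have hT' := C.mem u' y hu' hu'y
    have h2 := mul_mem (mul_mem hT' hδM) (inv_mem hT')
    rw [siegel_conj, siegel_apply Q (A.quad_zero hu') (A.pol_zero hu'y),
      siegel_apply Q (A.quad_zero hu') (A.pol_zero hu'y), A.pol_zero (hu'S v (by simp)),
      A.pol_zero hyv, A.quad_zero hy] at h2
    rw [show polar Q (inc u') δ = -polar Q (inc y) x by
        rw [hδ, QuadraticMap.polar_sub_right, QuadraticMap.polar_smul_right, QuadraticMap.polar_smul_right,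
          A.pol_zero hu'y, A.pol, hu'u]
        simp,
      show polar Q (inc y) δ = 0 by
        rw [hδ, QuadraticMap.polar_sub_right, QuadraticMap.polar_smul_right, QuadraticMap.polar_smul_right,
          polar_self_of_singular Q (A.quad_zero hy), QuadraticMap.polar_comm _ (inc y) (inc u), A.pol_zero huy]
        simp] at h2
    simp only [zero_smul, add_zero, zero_mul, sub_zero] at h2
    rw [siegel_add Q (A.quad_zero hv) hvδ
      (by rw [QuadraticMap.polar_smul_right, A.pol_zero hvy, smul_zero])] at h2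
    have h3 := C.scalar_mem hv hy hvy hv0 hin ((Subgroup.mul_mem_cancel_left M hδM).1 h2)
    show polar Q (inc y) x ∈ F₀
    simpa using neg_mem h3
  obtain ⟨v', hvv'⟩ := A.exists_dual hv0
  obtain ⟨x₀, hx₀⟩ := A.dual_rat (z := x - polar Q (inc v') x • inc v) fun z => by
    have hz : z - polar Q₀ v z • v' ∈ P := hP (by
      intro s hs
      simp only [Finset.coe_singleton, Set.mem_singleton_iff] at hs
      rw [hs, QuadraticMap.polar_sub_left, QuadraticMap.polar_smul_left, QuadraticMap.polar_comm _ v' v, hvv',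
        QuadraticMap.polar_comm _ z v, smul_eq_mul, mul_one, sub_self])
    have hz' : polar Q (inc (z - polar Q₀ v z • v')) x ∈ F₀ := hz
    rw [map_sub, A.inc_smul, QuadraticMap.polar_sub_left, QuadraticMap.polar_smul_left, smul_eq_mul] at hz'
    rw [QuadraticMap.polar_sub_left, QuadraticMap.polar_smul_left, A.pol, smul_eq_mul,
      QuadraticMap.polar_comm _ x (inc z), mul_comm]
    exact hz'
  exact ⟨x₀, polar Q (inc v') x, by rw [hx₀, sub_add_cancel]⟩

/-- an element mapping a rational point to a rational point is rational -/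
theorem point_rat {g : quadIsoms Q} (hg : g ∈ M) {v v' : V₀} (hv : Q₀ v = 0) (hv0 : v ≠ 0) {μ : F}
    (hμ : μ ≠ 0) (hgv : g.1 (inc v) = μ • inc v') : KRat inc g := by
  classical
  have A := C.base
  have aux : ∀ {v v' : V₀} {μ : F}, Q₀ v = 0 → v ≠ 0 → μ ≠ 0 → g.1 (inc v) = μ • inc v' →
      μ * μ ∈ F₀ ∧ ∀ x, polar Q₀ v x = 0 → ∃ r, μ • g.1 (inc x) = inc r := by
    intro v v' μ hv hv0 hμ hgv
    have hQv' : Q₀ v' = 0 := by
      have h := g.2 (inc v)
      rw [hgv, quad_smul, A.quad_zero hv, A.quad] at h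
      exact Subtype.ext ((mul_eq_zero.1 h).resolve_left (mul_ne_zero hμ hμ))
    have hv'0 : v' ≠ 0 := fun e => hv0 (A.inj (g.1.injective (by
      rw [hgv, e, map_zero, smul_zero, map_zero])))
    have split : ∀ x, polar Q₀ v x = 0 → ∃ (r : V₀) (α : F), μ • g.1 (inc x) = inc r + α • inc v' ∧ polar Q₀ v' r = 0 := by
      intro x hx
      have hpg : polar Q (g.1 (inc v)) (g.1 (inc x)) = 0 :=
        (polar_quadIsom g.2 _ _).trans (A.pol_zero hx)
      have hp : polar Q (inc v') (μ • g.1 (inc x)) = 0 := by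
        rw [hgv, QuadraticMap.polar_smul_left] at hpg
        rw [QuadraticMap.polar_smul_right]; exact hpg
      have h := mul_mem (mul_mem hg (C.mem v x hv hx)) (inv_mem hg)
      rw [siegel_conj, hgv, siegel_smul Q (A.quad_zero hQv') (by
        rw [hgv, QuadraticMap.polar_smul_left, smul_eq_mul, mul_eq_zero] at hpg
        exact hpg.resolve_left hμ)] at h
      obtain ⟨r, α, hr⟩ := C.centre_rat hQv' hv'0 hp h
      refine ⟨r, α, hr, ?_⟩
      rw [hr, QuadraticMap.polar_add_right, QuadraticMap.polar_smul_right,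
        polar_self_of_singular Q (A.quad_zero hQv'), smul_zero, add_zero, A.pol] at hp
      exact Subtype.ext hp
    have hμ2 : μ * μ ∈ F₀ := by
      obtain ⟨x, hx, hxS, hxout⟩ := A.exists_out {v} (by simp)
      obtain ⟨y, hy, hyS, hyx⟩ := A.exists_unit {v} (by simp) (b := x) hxout
      obtain ⟨r, α, hr, hr'⟩ := split x (by rw [QuadraticMap.polar_comm]; exact hxS v (by simp))
      obtain ⟨s, β, hs, hs'⟩ := split y (by rw [QuadraticMap.polar_comm]; exact hyS v (by simp))
      have h : polar Q (μ • g.1 (inc y)) (μ • g.1 (inc x)) = μ * μ := by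
        rw [QuadraticMap.polar_smul_left, QuadraticMap.polar_smul_right, OrthSub.polar_map, A.pol, hyx]
        simp
      rw [hr, hs, QuadraticMap.polar_add_left, QuadraticMap.polar_add_right, QuadraticMap.polar_add_right,
        QuadraticMap.polar_smul_left, QuadraticMap.polar_smul_right, QuadraticMap.polar_smul_right,
        QuadraticMap.polar_smul_left, QuadraticMap.polar_comm _ (inc s) (inc v'), A.pol_zero hr',
        A.pol_zero hs', polar_self_of_singular Q (A.quad_zero hQv'), A.pol] at h
      simp only [smul_zero, add_zero] at h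
      rw [← h]; exact (polar Q₀ s r).2
    refine ⟨hμ2, ?_⟩
    have sing : ∀ x, Q₀ x = 0 → polar Q₀ v x = 0 → ∃ r, μ • g.1 (inc x) = inc r := by
      intro x hx hvx
      by_cases hxv : x ∈ Submodule.span F₀ {v}
      · obtain ⟨k, rfl⟩ := Submodule.mem_span_singleton.1 hxv
        refine ⟨(k * ⟨_, hμ2⟩) • v', ?_⟩
        rw [A.inc_smul, A.inc_smul, map_smul, hgv, smul_smul, smul_smul]
        congr 1
        push_cast
        ring
      obtain ⟨y, hy, hyS, hyout⟩ := A.exists_out {v, x} Finset.card_le_two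
      simp only [Finset.coe_insert, Finset.coe_singleton] at hyout
      have hvy : polar Q₀ v y = 0 := by rw [QuadraticMap.polar_comm]; exact hyS v (by simp)
      have hxy : polar Q₀ x y = 0 := by rw [QuadraticMap.polar_comm]; exact hyS x (by simp)
      obtain ⟨r, α, hr, hr'⟩ := split x hvx
      obtain ⟨s, β, hs, hs'⟩ := split y hvy
      have hQg : ∀ z, Q₀ z = 0 → Q (μ • g.1 (inc z)) = 0 := fun z hz => by
        rw [quad_smul, mem_quadIsoms.1 g.2, A.quad_zero hz, mul_zero]
      have hQr : Q (inc r) = 0 := by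
        have h := hQg x hx
        rw [hr, quad_map_add_smul, A.quad_zero hQv', QuadraticMap.polar_comm _ (inc r), A.pol_zero hr'] at h
        simpa using h
      have hQs : Q (inc s) = 0 := by
        have h := hQg y hy
        rw [hs, quad_map_add_smul, A.quad_zero hQv', QuadraticMap.polar_comm _ (inc s), A.pol_zero hs'] at h
        simpa using h
      have hrs : polar Q (inc r) (inc s) = 0 := by
        have h : polar Q (μ • g.1 (inc x)) (μ • g.1 (inc y)) = 0 := by
          rw [QuadraticMap.polar_smul_left, QuadraticMap.polar_smul_right, OrthSub.polar_map, A.pol_zero hxy]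
          simp
        rw [hr, hs, QuadraticMap.polar_add_left, QuadraticMap.polar_add_right, QuadraticMap.polar_add_right,
          QuadraticMap.polar_smul_left, QuadraticMap.polar_smul_right, QuadraticMap.polar_smul_right,
          QuadraticMap.polar_smul_left, QuadraticMap.polar_comm _ (inc r) (inc v'), A.pol_zero hr',
          A.pol_zero hs', polar_self_of_singular Q (A.quad_zero hQv')] at h
        simpa using h
      have hQv := A.quad_zero hQv'
      have hrv : polar Q (inc r) (inc v') = 0 := by rw [QuadraticMap.polar_comm]; exact A.pol_zero hr'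
      have hvs : polar Q (inc v') (inc s) = 0 := A.pol_zero hs'
      have hvv := polar_self_of_singular Q hQv
      set d : F := (μ * μ)⁻¹ with hd
      have hd0 : d ≠ 0 := inv_ne_zero (mul_ne_zero hμ hμ)
      have hdm : d ∈ F₀ := inv_mem hμ2
      -- the image root element
      have h0 := mul_mem (mul_mem hg (C.mem x y hx hxy)) (inv_mem hg)
      rw [siegel_conj] at h0
      have e1 : siegel Q (g.1 (inc x)) (g.1 (inc y)) =
          siegel Q (inc r + α • inc v') (d • inc s + (d * β) • inc v') := by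
        have hperp : polar Q (g.1 (inc x)) (μ⁻¹ • g.1 (inc y)) = 0 := by
          rw [QuadraticMap.polar_smul_right, OrthSub.polar_map, A.pol_zero hxy, smul_zero]
        rw [← hr, mul_smul, ← smul_add, ← hs, smul_smul,
          show d * μ = μ⁻¹ by rw [hd]; field_simp,
          siegel_smul Q ((mem_quadIsoms.1 g.2 _).trans (A.quad_zero hx)) hperp μ, smul_smul,
          mul_inv_cancel₀ hμ, one_smul]
      have hw1 : polar Q (inc r) (d • inc s) = 0 := by rw [QuadraticMap.polar_smul_right, hrs, smul_zero]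
      have hw2 : polar Q (inc r) ((d * β) • inc v') = 0 := by
        rw [QuadraticMap.polar_smul_right, hrv, smul_zero]
      have hw3 : polar Q (α • inc v') (d • inc s + (d * β) • inc v') = 0 := by
        simp [QuadraticMap.polar_smul_left, QuadraticMap.polar_smul_right, QuadraticMap.polar_add_right,
          hvs, hvv]
      have hw4 : polar Q (inc v') ((α * d) • inc s) = 0 := by
        rw [QuadraticMap.polar_smul_right, hvs, smul_zero]
      have hw5 : polar Q (inc v') ((-(d * β)) • inc r) = 0 := by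
        rw [QuadraticMap.polar_smul_right, A.pol_zero hr', smul_zero]
      have hw6 : polar Q (inc v') ((α * (d * β)) • inc v') = 0 := by
        rw [QuadraticMap.polar_smul_right, hvv, smul_zero]
      rw [e1, siegel_add_left hQr (by rw [quad_smul, hQv, mul_zero]) (by
          rw [quad_map_add_smul, quad_smul, hQs, hQv, QuadraticMap.polar_smul_left,
            QuadraticMap.polar_comm _ (inc s), hvs]
          simp)
        (by rw [QuadraticMap.polar_smul_right, hrv, smul_zero])
        (by rw [QuadraticMap.polar_add_right, hw1, hw2, add_zero]) hw3,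
        siegel_add Q hQr hw1 hw2, siegel_move_smul hQr hQv hrv (d * β),
        siegel_smul Q hQv (by rw [QuadraticMap.polar_add_right, QuadraticMap.polar_smul_right,
          QuadraticMap.polar_smul_right, hvs, hvv]; simp) α,
        smul_add, smul_smul, smul_smul, siegel_add Q hQv hw4 hw6, siegel_self_smul hQv, mul_one, mul_assoc,
        ← siegel_add Q hQv hw5 hw4] at h0
      have hds : siegel Q (inc r) (d • inc s) ∈ M := by
        rw [show d • inc s = inc ((⟨d, hdm⟩ : F₀) • s) by rw [A.inc_smul]]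
        exact C.mem r _ (Subtype.ext (by rw [← A.quad]; exact hQr))
          (Subtype.ext (by rw [← A.pol, A.inc_smul]; exact hw1))
      obtain ⟨z, γ, hz⟩ := C.centre_rat hQv' hv'0
        (by rw [QuadraticMap.polar_add_right, hw5, hw4, add_zero])
        ((Subgroup.mul_mem_cancel_left M hds).1 h0)
      obtain ⟨z₀, hz₀S, hz₀s⟩ := exists_perp_pair (σ := RingHom.id F₀) (QuadraticMap.polarBilin Q₀) A.sep₀
        (Submodule.span F₀ {r, v'}) (x₀ := s) (fun hm => by
          obtain ⟨p, q, hpq⟩ := Submodule.mem_span_pair.1 hm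
          have e : μ • g.1 (inc (y - p • x)) = (β - (p : F) * α + (q : F)) • inc v' := by
            rw [map_sub, map_sub, smul_sub, hs, A.inc_smul, map_smul, smul_comm, hr, ← hpq, map_add,
              A.inc_smul, A.inc_smul]
            module
          have hk : inc (y - p • x) = ((β - (p : F) * α + (q : F)) / (μ * μ)) • inc v := g.1.injective (by
            rw [map_smul, hgv, smul_smul]
            refine smul_right_injective V hμ ?_
            simp only
            rw [e, smul_smul]
            congr 1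
            field_simp)
          obtain ⟨v₁, hv₁⟩ := A.exists_dual hv0
          have hkm : (β - (p : F) * α + (q : F)) / (μ * μ) = ((polar Q₀ (y - p • x) v₁ : F₀) : F) := by
            rw [← A.pol, hk, QuadraticMap.polar_smul_left, A.pol, hv₁]; simp
          rw [hkm, ← A.inc_smul] at hk
          refine hyout (Submodule.mem_span_pair.2 ⟨polar Q₀ (y - p • x) v₁, p, ?_⟩)
          rw [← A.inj hk, sub_add_cancel])
      simp only [QuadraticMap.polarBilin_apply_apply] at hz₀S hz₀s
      have hαd : α * d = ((polar Q₀ z z₀ : F₀) : F) := by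
        have h := congrArg (fun w => polar Q w (inc z₀)) hz
        simp only [QuadraticMap.polar_add_left, QuadraticMap.polar_smul_left, A.pol,
          hz₀S r (Submodule.subset_span (by simp)), hz₀S v' (Submodule.subset_span (by simp)), hz₀s,
          smul_eq_mul, ZeroMemClass.coe_zero, mul_zero, zero_add, add_zero, OneMemClass.coe_one, mul_one] at h
        exact h
      have hα : α ∈ F₀ := by
        have : α = ((polar Q₀ z z₀ : F₀) : F) * (μ * μ) := by
          rw [← hαd, hd]; field_simp
        rw [this]; exact mul_mem (polar Q₀ z z₀).2 hμ2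
      exact ⟨r + (⟨α, hα⟩ : F₀) • v', by rw [hr, map_add, A.inc_smul]⟩
    intro x hx
    let P : Submodule F₀ V₀ :=
      { carrier := {z | ∃ r, μ • g.1 (inc z) = inc r}
        add_mem' := by
          rintro a b ⟨r, hr⟩ ⟨s, hs⟩
          exact ⟨r + s, by rw [map_add, map_add, smul_add, hr, hs, map_add]⟩
        zero_mem' := ⟨0, by simp⟩
        smul_mem' := by
          rintro k a ⟨r, hr⟩
          exact ⟨k • r, by rw [A.inc_smul, map_smul, smul_comm, hr, A.inc_smul]⟩ }
    have hle := qPerp_le_of_singular A.sep₀ ({v} : Finset V₀)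
      (by have := A.dim; have := A.dim7; rw [Finset.card_singleton]; omega) (P := P)
      fun z hzS hz => sing z hz (by rw [QuadraticMap.polar_comm]; exact hzS v (by simp))
    exact hle (by
      intro s hs
      simp only [Finset.coe_singleton, Set.mem_singleton_iff] at hs
      rw [hs, QuadraticMap.polar_comm]; exact hx)
  obtain ⟨hμ2, h1⟩ := aux hv hv0 hμ hgv
  obtain ⟨x, hx, hxS, hxout⟩ := A.exists_out {v} (by simp)
  have hx0 : x ≠ 0 := fun e => hxout (e ▸ Submodule.zero_mem _)
  obtain ⟨r, hr⟩ := h1 x (by rw [QuadraticMap.polar_comm]; exact hxS v (by simp))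
  obtain ⟨-, h2⟩ := aux hx hx0 (inv_ne_zero hμ) (v' := r)
    (by rw [← hr, smul_smul, inv_mul_cancel₀ hμ, one_smul])
  obtain ⟨w, -, hwS, hwx⟩ := A.exists_unit {v} (by simp) (b := x) hxout
  refine ⟨μ, hμ, fun z => ?_⟩
  obtain ⟨a, ha⟩ := h1 (polar Q₀ z x • w)
    (by rw [QuadraticMap.polar_smul_right, QuadraticMap.polar_comm Q₀ v w, hwS v (by simp), smul_zero])
  obtain ⟨b, hb⟩ := h2 (z - polar Q₀ z x • w) (by
    rw [QuadraticMap.polar_sub_right, QuadraticMap.polar_smul_right, QuadraticMap.polar_comm _ x z,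
      QuadraticMap.polar_comm _ x w, hwx, smul_eq_mul, mul_one, sub_self])
  refine ⟨a + (⟨_, hμ2⟩ : F₀) • b, ?_⟩
  rw [map_add, A.inc_smul, ← ha, ← hb, smul_smul, mul_assoc, mul_inv_cancel₀ hμ, mul_one, ← smul_add,
    ← map_add, ← map_add, add_sub_cancel]

end RatCtx

end CfsgLib.MaxSub
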