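import Cfsg.Agent.Lib.MaxSub.RatOrth

/-!
Image points orthogonal to a rational totally singular line pair, for overgroups of subfield groups in `Ω`.
-/

set_option autoImplicit false
set_option linter.unusedSectionVars false

namespace CfsgLib.MaxSub

open CfsgLib.Classical CfsgLib.Geom
open QuadraticMap (polar)

variable {F V V₀ : Type*} [Field F] [Finite F] {F₀ : Subfield F} [AddCommGroup V] [Module F V]
  [AddCommGroup V₀] [Module F₀ V₀] [FiniteDimensional F₀ V₀] [FiniteDimensional F V]
variable {Q : QuadraticForm F V} {Q₀ : QuadraticForm F₀ V₀} {inc : V₀ →+ V}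

namespace RatCtx

variable {M : Subgroup (quadIsoms Q)} (C : RatCtx Q Q₀ inc M)
include C

/-- the two functionals cut out by an image point and a totally singular rational line pair -/
theorem pair_scalar {g : quadIsoms Q} (hg : g ∈ M) {v : V₀} (hv : Q₀ v = 0) {u y : V₀}
    (hu : Q₀ u = 0) (hy : Q₀ y = 0) (huy : polar Q₀ u y = 0) (hy0 : y ≠ 0) (hi : u ∉ Submodule.span F₀ {y})
    (hau : polar Q (g.1 (inc v)) (inc u) = 0) (hay : polar Q (g.1 (inc v)) (inc y) = 0)
    {x : V₀} (hx : polar Q₀ v x = 0) {w : V₀} (huw : polar Q₀ u w = 0) (hyw : polar Q₀ y w = 0) :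
    polar Q (inc w) (g.1 (inc v)) * polar Q (inc y) (g.1 (inc x)) ∈ F₀ := by
  have A := C.base
  set a := g.1 (inc v) with ha
  have hQa : Q a = 0 := (mem_quadIsoms.1 g.2 _).trans (A.quad_zero hv)
  have hQu := A.quad_zero hu
  have hQy := A.quad_zero hy
  have hpuy := A.pol_zero huy
  have hyu : polar Q (inc y) (inc u) = 0 := by rw [QuadraticMap.polar_comm]; exact hpuy
  have hyy := polar_self_of_singular Q hQy
  set b := g.1 (inc x)
  set β := polar Q (inc u) b
  set γ := polar Q (inc y) b
  have hab : polar Q a b = 0 := (OrthSub.polar_map g _ _).trans (A.pol_zero hx)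
  have hSab : siegel Q a b ∈ M := by
    have h := mul_mem (mul_mem hg (C.mem v x hv hx)) (inv_mem hg)
    rwa [siegel_conj] at h
  set δ := β • inc y - γ • inc u with hδ
  have hQδ : Q δ = 0 := by
    rw [hδ, sub_eq_add_neg, ← neg_smul γ (inc u), quad_map_add_smul, quad_smul, hQy, hQu,
      QuadraticMap.polar_smul_left, hyu]
    simp
  have haδ : polar Q a δ = 0 := by
    rw [hδ, QuadraticMap.polar_sub_right, QuadraticMap.polar_smul_right, QuadraticMap.polar_smul_right,
      hau, hay, smul_zero, smul_zero, sub_zero]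
  have hyδ : polar Q (inc y) δ = 0 := by
    rw [hδ, QuadraticMap.polar_sub_right, QuadraticMap.polar_smul_right, QuadraticMap.polar_smul_right,
      hyu, hyy, smul_zero, smul_zero, sub_zero]
  have hδM : siegel Q a δ ∈ M := by
    have hT := C.mem u y hu huy
    have h := mul_mem (mul_mem hT hSab) (inv_mem hT)
    rw [siegel_conj, siegel_apply Q hQu hpuy, siegel_apply Q hQu hpuy, QuadraticMap.polar_comm _ (inc u) a,
      hau, QuadraticMap.polar_comm _ (inc y) a, hay, hQy] at h
    simp only [zero_smul, add_zero, zero_mul, sub_zero] at h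
    rw [show b + polar Q (inc u) b • inc y - polar Q (inc y) b • inc u = b + δ by rw [hδ]; abel,
      siegel_add Q hQa hab haδ] at h
    exact (Subgroup.mul_mem_cancel_left M hSab).1 h
  have hyw' := A.pol_zero hyw
  have hT := C.mem y w hy hyw
  set κ := polar Q (inc w) a with hκ
  have hTa : (siegel Q (inc y) (inc w)).1 a = a + (-κ) • inc y := by
    rw [siegel_apply Q hQy hyw', QuadraticMap.polar_comm _ (inc y) a, hay]
    simp only [zero_smul, add_zero, mul_zero, neg_smul]
    rw [hκ]; abel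
  have hTu : (siegel Q (inc y) (inc w)).1 (inc u) = inc u := by
    rw [siegel_apply Q hQy hyw', hyu, QuadraticMap.polar_comm _ (inc w) (inc u), A.pol_zero huw]
    simp
  have hTy : (siegel Q (inc y) (inc w)).1 (inc y) = inc y := by
    rw [siegel_apply Q hQy hyw', hyy, QuadraticMap.polar_comm _ (inc w) (inc y), hyw']
    simp
  have h := mul_mem (mul_mem hT hδM) (inv_mem hT)
  rw [siegel_conj, hTa, show (siegel Q (inc y) (inc w)).1 δ = δ by
      rw [hδ, map_sub, map_smul, map_smul, hTy, hTu],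
    siegel_add_left hQa (by rw [quad_smul, hQy, mul_zero]) hQδ
      (by rw [QuadraticMap.polar_smul_right, hay, smul_zero]) haδ
      (by rw [QuadraticMap.polar_smul_left, hyδ, smul_zero]),
    Subgroup.mul_mem_cancel_left M hδM, siegel_smul Q hQy hyδ, hδ, sub_eq_add_neg, ← neg_smul γ (inc u),
    smul_add, smul_smul, smul_smul,
    siegel_add Q hQy (by rw [QuadraticMap.polar_smul_right, hyy, smul_zero])
      (by rw [QuadraticMap.polar_smul_right, hyu, smul_zero]),
    siegel_self_smul hQy, one_mul, neg_mul_neg] at h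
  exact C.scalar_mem hy hu (by rw [QuadraticMap.polar_comm]; exact huy) hy0 hi h

/-- either some image pairs with a rational vector, or that vector spans the image point -/
theorem exists_pairing {g : quadIsoms Q} (hg : g ∈ M) {v : V₀} (hv : Q₀ v = 0) (hv0 : v ≠ 0) {y : V₀}
    (hy0 : y ≠ 0) (hK : ¬ KRat inc g) :
    ∃ x, polar Q₀ v x = 0 ∧ polar Q (inc y) (g.1 (inc x)) ≠ 0 := by
  have A := C.base
  by_contra hno
  push Not at hno
  obtain ⟨v₁, hv₁⟩ := A.exists_dual hv0
  set w := (g⁻¹).1 (inc y) with hw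
  have hgw : g.1 w = inc y := OrthSub.apply_inv g (inc y)
  have h0 : w - polar Q w (inc v₁) • inc v = 0 := A.eq_zero_of_perp fun z => by
    have h : polar Q w (inc (z - polar Q₀ v z • v₁)) = 0 := by
      rw [← OrthSub.polar_map g, hgw]
      exact hno _ (by rw [QuadraticMap.polar_sub_right, QuadraticMap.polar_smul_right, hv₁, smul_eq_mul,
        mul_one, sub_self])
    rw [map_sub, A.inc_smul, QuadraticMap.polar_sub_right, QuadraticMap.polar_smul_right, smul_eq_mul,
      ← A.pol] at h
    rw [QuadraticMap.polar_sub_left, QuadraticMap.polar_smul_left, smul_eq_mul]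
    linear_combination h
  have hya : inc y = polar Q w (inc v₁) • g.1 (inc v) := by
    conv_lhs => rw [← hgw, sub_eq_zero.1 h0, map_smul]
  have hc : polar Q w (inc v₁) ≠ 0 := fun e => A.inc_ne hy0 (by rw [hya, e, zero_smul])
  exact hK (C.point_rat hg hv hv0 (inv_ne_zero hc) (v' := y) (by
    rw [hya, smul_smul, inv_mul_cancel₀ hc, one_smul]))

/-- an image point in the span of three rational totally singular vectors is rational -/
theorem triple_rat {g : quadIsoms Q} (hg : g ∈ M) {v : V₀} (hv : Q₀ v = 0) (hv0 : v ≠ 0) {r u y : V₀}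
    (hr : Q₀ r = 0) (hu : Q₀ u = 0) (hy : Q₀ y = 0) (hru : polar Q₀ r u = 0) (hry : polar Q₀ r y = 0)
    (huy : polar Q₀ u y = 0)
    (hli : ∀ i j k : F₀, i • r + j • u + k • y = 0 → i = 0 ∧ j = 0 ∧ k = 0) {l α β : F}
    (ha : g.1 (inc v) = l • inc r + α • inc u + β • inc y) : KRat inc g := by
  classical
  have A := C.base
  by_contra hK
  have aux : ∀ (p q s : V₀) (k k' k'' : F), Q₀ p = 0 → Q₀ q = 0 → polar Q₀ p q = 0 → polar Q₀ p s = 0 →
      polar Q₀ q s = 0 → (∀ i j m : F₀, i • p + j • q + m • s = 0 → i = 0 ∧ j = 0 ∧ m = 0) →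
      g.1 (inc v) = k'' • inc p + k' • inc q + k • inc s →
      ∀ x, polar Q₀ v x = 0 → k * polar Q (inc q) (g.1 (inc x)) ∈ F₀ := by
    intro p q s k k' k'' hp hq hpq hps hqs hl he x hx
    have hq0 : q ≠ 0 := fun e => one_ne_zero (hl 0 1 0 (by rw [e]; simp)).2.1
    have hpi : p ∉ Submodule.span F₀ {q} := fun hm => by
      obtain ⟨c, hc⟩ := Submodule.mem_span_singleton.1 hm
      exact one_ne_zero (hl 1 (-c) 0 (by rw [← hc]; module)).1
    obtain ⟨w, -, hwS, hws⟩ := A.exists_unit {p, q} Finset.card_le_two (b := s) (fun hm => by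
      simp only [Finset.coe_insert, Finset.coe_singleton] at hm
      obtain ⟨i, j, hij⟩ := Submodule.mem_span_pair.1 hm
      exact one_ne_zero (hl (-i) (-j) 1 (by rw [← hij]; module)).2.2)
    have hwa : polar Q (inc w) (g.1 (inc v)) = k := by
      rw [he]
      simp [QuadraticMap.polar_add_right, QuadraticMap.polar_smul_right, A.pol, hwS p (by simp),
        hwS q (by simp), hws]
    rw [← hwa]
    refine C.pair_scalar hg hv hp hq hpq hq0 hpi ?_ ?_ hx
      (by rw [QuadraticMap.polar_comm]; exact hwS p (by simp))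
      (by rw [QuadraticMap.polar_comm]; exact hwS q (by simp))
    · rw [he]
      simp [QuadraticMap.polar_add_left, QuadraticMap.polar_smul_left, A.pol,
        polar_self_of_singular Q₀ hp, QuadraticMap.polar_comm Q₀ q p, hpq, QuadraticMap.polar_comm Q₀ s p, hps]
    · rw [he]
      simp [QuadraticMap.polar_add_left, QuadraticMap.polar_smul_left, A.pol,
        polar_self_of_singular Q₀ hq, hpq, QuadraticMap.polar_comm Q₀ s q, hqs]
  have hur : polar Q₀ u r = 0 := by rw [QuadraticMap.polar_comm]; exact hru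
  have hyr : polar Q₀ y r = 0 := by rw [QuadraticMap.polar_comm]; exact hry
  have hyu : polar Q₀ y u = 0 := by rw [QuadraticMap.polar_comm]; exact huy
  have hne : r ≠ 0 ∧ u ≠ 0 ∧ y ≠ 0 :=
    ⟨fun e => one_ne_zero (hli 1 0 0 (by rw [e]; simp)).1, fun e => one_ne_zero (hli 0 1 0 (by rw [e]; simp)).2.1,
      fun e => one_ne_zero (hli 0 0 1 (by rw [e]; simp)).2.2⟩
  have ratio : ∀ {k k' c : F}, k * c ∈ F₀ → k' * c ∈ F₀ → c ≠ 0 → k' ≠ 0 → k / k' ∈ F₀ := by
    intro k k' c h1 h3 hc _
    rw [← mul_div_mul_right k k' hc]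
    exact div_mem h1 h3
  obtain ⟨xr, hxr, hcr⟩ := C.exists_pairing hg hv hv0 hne.1 hK
  obtain ⟨xu, hxu, hcu⟩ := C.exists_pairing hg hv hv0 hne.2.1 hK
  obtain ⟨xy, hxy, hcy⟩ := C.exists_pairing hg hv hv0 hne.2.2 hK
  have u_y := aux r u y β α l hr hu hru hry huy hli ha xu hxu
  have u_r := aux y u r l α β hy hu hyu hyr hur
    (fun i j m e => by
      obtain ⟨a, b, c⟩ := hli m j i (by rw [← e]; module)
      exact ⟨c, b, a⟩) (by rw [ha]; abel) xu hxu
  have y_u := aux r y u α β l hr hy hry hru hyu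
    (fun i j m e => by
      obtain ⟨a, b, c⟩ := hli i m j (by rw [← e]; module)
      exact ⟨a, c, b⟩) (by rw [ha]; abel) xy hxy
  have y_r := aux u y r l β α hu hy huy hur hyr
    (fun i j m e => by
      obtain ⟨a, b, c⟩ := hli m i j (by rw [← e]; module)
      exact ⟨b, c, a⟩) (by rw [ha]; abel) xy hxy
  have r_y := aux u r y β l α hu hr hur huy hry
    (fun i j m e => by
      obtain ⟨a, b, c⟩ := hli j i m (by rw [← e]; module)
      exact ⟨b, a, c⟩) (by rw [ha]; abel) xr hxr
  have r_u := aux y r u α l β hy hr hyr hyu hru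
    (fun i j m e => by
      obtain ⟨a, b, c⟩ := hli j m i (by rw [← e]; module)
      exact ⟨c, a, b⟩) (by rw [ha]; abel) xr hxr
  rcases ne_or_eq l 0 with hl | rfl
  · refine hK (C.point_rat hg hv hv0 hl
      (v' := r + (⟨α / l, ratio y_u y_r hcy hl⟩ : F₀) • u + (⟨β / l, ratio u_y u_r hcu hl⟩ : F₀) • y) ?_)
    rw [ha, map_add, map_add, A.inc_smul, A.inc_smul, smul_add, smul_add, smul_smul, smul_smul,
      mul_div_cancel₀ _ hl, mul_div_cancel₀ _ hl]
  rw [zero_smul, zero_add] at ha
  rcases ne_or_eq α 0 with hα | rfl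
  · refine hK (C.point_rat hg hv hv0 hα (v' := u + (⟨β / α, ratio r_y r_u hcr hα⟩ : F₀) • y) ?_)
    rw [ha, map_add, A.inc_smul, smul_add, smul_smul, mul_div_cancel₀ _ hα]
  rw [zero_smul, zero_add] at ha
  rcases ne_or_eq β 0 with hβ | rfl
  · exact hK (C.point_rat hg hv hv0 hβ ha)
  · exact A.inc_ne hv0 (g.1.injective (by rw [ha, zero_smul, map_zero]))

/-- an image point orthogonal to a rational totally singular line pair is rational -/
theorem pair_rat {g : quadIsoms Q} (hg : g ∈ M) {v : V₀} (hv : Q₀ v = 0) (hv0 : v ≠ 0) {u y : V₀}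
    (hu : Q₀ u = 0) (hy : Q₀ y = 0) (huy : polar Q₀ u y = 0) (hu0 : u ≠ 0)
    (hi : y ∉ Submodule.span F₀ {u})
    (hau : polar Q (g.1 (inc v)) (inc u) = 0) (hay : polar Q (g.1 (inc v)) (inc y) = 0) : KRat inc g := by
  classical
  have A := C.base
  by_contra hK
  have hy0 : y ≠ 0 := fun e => hi (e ▸ Submodule.zero_mem _)
  have hui : u ∉ Submodule.span F₀ {y} := fun hm => by
    obtain ⟨c, hc⟩ := Submodule.mem_span_singleton.1 hm
    have hc0 : c ≠ 0 := fun e => hu0 (by rw [← hc, e, zero_smul])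
    exact hi (Submodule.mem_span_singleton.2 ⟨c⁻¹, by rw [← hc, smul_smul, inv_mul_cancel₀ hc0, one_smul]⟩)
  obtain ⟨x, hx, hγ⟩ := C.exists_pairing hg hv hv0 hy0 hK
  obtain ⟨u', -, hu'S, hu'u⟩ := A.exists_unit {y} (by simp) (b := u) (by simpa using hui)
  obtain ⟨y', -, hy'S, hy'y⟩ := A.exists_unit {u} (by simp) (b := y) (by simpa using hi)
  set a := g.1 (inc v) with ha
  set γ := polar Q (inc y) (g.1 (inc x))
  set α := polar Q (inc u') a
  set β := polar Q (inc y') a
  obtain ⟨r, hr⟩ := A.dual_rat (z := γ • (a - α • inc u - β • inc y)) fun z => by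
    have huu' : polar Q₀ u u' = 1 := by rw [QuadraticMap.polar_comm]; exact hu'u
    have hyu' : polar Q₀ y u' = 0 := by rw [QuadraticMap.polar_comm]; exact hu'S y (by simp)
    have huy' : polar Q₀ u y' = 0 := by rw [QuadraticMap.polar_comm]; exact hy'S u (by simp)
    have hyy' : polar Q₀ y y' = 1 := by rw [QuadraticMap.polar_comm]; exact hy'y
    have h := C.pair_scalar hg hv hu hy huy hy0 hui hau hay hx
      (w := z - polar Q₀ u z • u' - polar Q₀ y z • y')
      (by simp [QuadraticMap.polar_sub_right, QuadraticMap.polar_smul_right, huu', huy'])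
      (by simp [QuadraticMap.polar_sub_right, QuadraticMap.polar_smul_right, hyu', hyy'])
    rw [map_sub, map_sub, A.inc_smul, A.inc_smul, QuadraticMap.polar_sub_left, QuadraticMap.polar_sub_left,
      QuadraticMap.polar_smul_left, QuadraticMap.polar_smul_left, QuadraticMap.polar_comm _ (inc z) a] at h
    rw [QuadraticMap.polar_smul_left, QuadraticMap.polar_sub_left, QuadraticMap.polar_sub_left,
      QuadraticMap.polar_smul_left, QuadraticMap.polar_smul_left, A.pol, A.pol]
    simp only [smul_eq_mul] at h ⊢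
    convert h using 1; ring
  have hu2 := polar_self_of_singular Q (A.quad_zero hu)
  have hy2 := polar_self_of_singular Q (A.quad_zero hy)
  have hyu2 : polar Q (inc y) (inc u) = 0 := by rw [QuadraticMap.polar_comm]; exact A.pol_zero huy
  have hru : polar Q₀ r u = 0 := Subtype.ext (by
    rw [← A.pol, hr]
    simp [QuadraticMap.polar_smul_left, QuadraticMap.polar_sub_left, hau, hu2, hyu2])
  have hry : polar Q₀ r y = 0 := Subtype.ext (by
    rw [← A.pol, hr]
    simp [QuadraticMap.polar_smul_left, QuadraticMap.polar_sub_left, hay, hy2, A.pol_zero huy])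
  have hQr : Q₀ r = 0 := Subtype.ext (by
    rw [← A.quad, hr, quad_smul, sub_eq_add_neg, sub_eq_add_neg, ← neg_smul, ← neg_smul,
      quad_map_add_smul, quad_map_add_smul, (mem_quadIsoms.1 g.2 _).trans (A.quad_zero hv), A.quad_zero hu,
      A.quad_zero hy, QuadraticMap.polar_add_left, QuadraticMap.polar_smul_left, hau, hay, A.pol_zero huy]
    simp)
  have hae : a = γ⁻¹ • inc r + α • inc u + β • inc y := by
    rw [hr, smul_smul, inv_mul_cancel₀ hγ, one_smul]; abel
  by_cases hin : r ∈ Submodule.span F₀ {u, y}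
  · obtain ⟨s, t, rfl⟩ := Submodule.mem_span_pair.1 hin
    obtain ⟨m, hm, hmS, hmout⟩ := A.exists_out {u, y} Finset.card_le_two
    simp only [Finset.coe_insert, Finset.coe_singleton] at hmout
    refine hK (C.triple_rat hg hv hv0 hm hu hy (hmS u (by simp)) (hmS y (by simp)) huy (fun i j k e => ?_)
      (l := 0) (α := γ⁻¹ * s + α) (β := γ⁻¹ * t + β) ?_)
    · have hi0 : i = 0 := by
        by_contra hne
        refine hmout ((Submodule.smul_mem_iff _ hne).1 (Submodule.mem_span_pair.2 ⟨-j, -k, ?_⟩))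
        rw [← sub_eq_zero, ← neg_eq_zero]; rw [← e]; module
      rw [hi0, zero_smul, zero_add] at e
      have hk0 : k = 0 := by
        by_contra hne
        refine hi ((Submodule.smul_mem_iff _ hne).1 (Submodule.mem_span_singleton.2 ⟨-j, ?_⟩))
        rw [← sub_eq_zero, ← neg_eq_zero]; rw [← e]; module
      rw [hk0, zero_smul, add_zero] at e
      exact ⟨hi0, (smul_eq_zero.1 e).resolve_right hu0, hk0⟩
    · rw [zero_smul, zero_add, ← ha, hae, map_add, A.inc_smul, A.inc_smul]
      module
  · refine hK (C.triple_rat hg hv hv0 hQr hu hy hru hry huy (fun i j k e => ?_) hae)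
    have hi0 : i = 0 := by
      by_contra hne
      refine hin ((Submodule.smul_mem_iff _ hne).1 (Submodule.mem_span_pair.2 ⟨-j, -k, ?_⟩))
      rw [← sub_eq_zero, ← neg_eq_zero]; rw [← e]; module
    rw [hi0, zero_smul, zero_add] at e
    have hk0 : k = 0 := by
      by_contra hne
      refine hi ((Submodule.smul_mem_iff _ hne).1 (Submodule.mem_span_singleton.2 ⟨-j, ?_⟩))
      rw [← sub_eq_zero, ← neg_eq_zero]; rw [← e]; module
    rw [hk0, zero_smul, add_zero] at e
    exact ⟨hi0, (smul_eq_zero.1 e).resolve_right hu0, hk0⟩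

/-- an image point orthogonal to two rational hyperbolic lines is rational -/
theorem hull_rat {g : quadIsoms Q} (hg : g ∈ M) {v : V₀} (hv : Q₀ v = 0) (hv0 : v ≠ 0)
    {u y u' y' : V₀} (H : Hyp4 Q₀ u y u' y')
    (hperp : ∀ x ∈ ({u, y, u', y'} : Set V₀), polar Q (g.1 (inc v)) (inc x) = 0) : KRat inc g := by
  refine C.pair_rat hg hv hv0 H.qu H.qy H.uy (fun e => ?_) (fun hm => ?_) (hperp u (by simp))
    (hperp y (by simp))
  · have h := H.uu'
    rw [e, QuadraticMap.polar_zero_left] at h
    exact zero_ne_one h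
  · obtain ⟨k, hk⟩ := Submodule.mem_span_singleton.1 hm
    have h := H.yy'
    rw [← hk, QuadraticMap.polar_smul_left, H.uy', smul_zero] at h
    exact zero_ne_one h

end RatCtx

end CfsgLib.MaxSub
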