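import Cfsg.Agent.Lib.MaxSub.RatSevenTools

/-!
Maximality of subfield groups in seven-dimensional orthogonal groups, odd characteristic.
-/

set_option autoImplicit false
set_option linter.unusedSectionVars false

namespace CfsgLib.MaxSub

open CfsgLib.Classical CfsgLib.Geom
open QuadraticMap (polar)

variable {F V V₀ : Type*} [Field F] [Finite F] {F₀ : Subfield F} [AddCommGroup V] [Module F V]
  [AddCommGroup V₀] [Module F₀ V₀] [FiniteDimensional F₀ V₀] [FiniteDimensional F V]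
variable {Q : QuadraticForm F V} {Q₀ : QuadraticForm F₀ V₀} {inc : V₀ →+ V}

theorem conj_invol {g t : quadIsoms Q} (ht : t * t = 1) : g * t * g⁻¹ * (g * t * g⁻¹) = 1 := by
  rw [show g * t * g⁻¹ * (g * t * g⁻¹) = g * (t * t) * g⁻¹ by group, ht, mul_one, mul_inv_cancel]

theorem conj_apply (g t : quadIsoms Q) (y : V) : (g * t * g⁻¹).1 (g.1 y) = g.1 (t.1 y) := by
  show g.1 (t.1 ((g⁻¹).1 (g.1 y))) = _
  rw [show (g⁻¹).1 (g.1 y) = y from g.1.symm_apply_apply y]

namespace RatCtx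

variable {M : Subgroup (quadIsoms Q)} (C : RatCtx Q Q₀ inc M) (h2 : (2 : F) ≠ 0)
  (hd7 : Module.finrank F₀ V₀ = 7)
include C h2 hd7

theorem invol_ratMap {x : quadIsoms Q} (hx : x * x = 1) (hK : KRat inc x) :
    ∃ J : V₀ →ₗ[F₀] V₀, RatMap inc x J := by
  obtain ⟨c, hc, h⟩ := hK
  exact C.base.ratMap_of_scalar (C.base.scalar_mem_of_dim h2 hx hc h (by omega)) hc h

/-- preserving a rational plane -/
theorem seven_plane {g : quadIsoms Q} (hg : g ∈ M) {P : Submodule F₀ V₀} (hP : Nondeg Q₀ P)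
    (h2P : Module.finrank F₀ P = 2) (hgP : Pres inc g P) : KRat inc g := by
  classical
  have A := C.base
  have h20 := A.two₀ h2
  have hW := nondeg_oPerp A.sep₀ hP
  have hW5 : Module.finrank F₀ (oPerp Q₀ P) = 5 := by have := finrank_oPerp hP; omega
  by_cases hsing : ∃ v ∈ P, Q₀ v = 0 ∧ v ≠ 0
  · obtain ⟨v, hv, hQv, hv0⟩ := hsing
    exact C.pres_in hg hgP hv hQv hv0 (exists_pair_five A.sep₀ hW (by omega))
  have haP : ∀ v ∈ P, Q₀ v = 0 → v = 0 := fun v hv hQ => by_contra fun h => hsing ⟨v, hv, hQ, h⟩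
  obtain ⟨s₀, hs₀, hss₀, Rs, hRs, hRsd, hRspair, hsn, hsf⟩ :=
    exists_neg_four A.sep₀ (by omega) h20 hW (by omega)
  obtain ⟨t₀, ht₀, htt₀, Rt, hRt, hRtd, htn, htf⟩ := exists_neg A.sep₀ h20 1 (oPerp Q₀ P) hW (by omega)
  obtain ⟨s, hs, hsJ⟩ := C.exists_lift hs₀
  obtain ⟨t, ht, htJ⟩ := C.exists_lift ht₀
  obtain ⟨hs2, hRsN, hsE, hsE1, hsd⟩ := A.eig_of_negated h2 hsJ hss₀ hsn hsf
  obtain ⟨ht2, hRtN, htE, htE1, htd⟩ := A.eig_of_negated h2 htJ htt₀ htn htf
  -- `s` has rational centraliser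
  have hCs : ∀ x ∈ M, Commute s x → KRat inc x := fun x hx hsx => by
    have hpres := A.pres_eig h2 hsJ hs2 hsx (e := -1) (by ring)
    rw [hsE] at hpres
    obtain ⟨v, hv, hv0, hQv⟩ := exists_singular_in (Q := Q₀) (W := oPerp Q₀ Rs) (by
      have := finrank_oPerp hRsN; omega)
    exact C.pres_out hx hpres hv hQv hv0 hRspair
  let G : Subgroup (quadIsoms Q) :=
    { carrier := {x | ∀ v ∈ P, x.1 (inc v) = inc v}
      mul_mem' := fun {a b} ha hb v hv => by
        show a.1 (b.1 (inc v)) = _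
        rw [hb v hv, ha v hv]
      one_mem' := fun v _ => rfl
      inv_mem' := fun {a} ha v hv => a.1.injective (by rw [OrthSub.apply_inv, ha v hv]) }
  have hfixP : ∀ {x₀ : quadIsoms Q₀} {R : Submodule F₀ V₀}, R ≤ oPerp Q₀ P →
      (∀ z ∈ oPerp Q₀ R, x₀.1 z = z) → ∀ v ∈ P, x₀.1 v = v := fun hR hf v hv =>
    hf v fun w hw => by rw [QuadraticMap.polar_comm]; exact hR hw v hv
  have hsG : s ∈ G := fun v hv => by rw [hsJ]; exact congrArg inc (hfixP hRs hsf v hv)
  have htG : t ∈ G := fun v hv => by rw [htJ]; exact congrArg inc (hfixP hRt htf v hv)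
  set t' := g * t * g⁻¹ with ht'def
  have ht'M : t' ∈ M := mul_mem (mul_mem hg ht) (inv_mem hg)
  have ht'2 : t' * t' = 1 := conj_invol ht2
  have ht'G : t' ∈ G := by
    intro v hv
    obtain ⟨y, hy, hgy⟩ := hgP.surj (Submodule.subset_span ⟨v, hv, rfl⟩ : inc v ∈ rSpan (F := F) inc P)
    have hty : t.1 y = y := by
      refine LinearMap.eqOn_span' (f := t.1.toLinearMap) (g := LinearMap.id) ?_ hy
      rintro _ ⟨w, hw, rfl⟩
      exact htG w hw
    rw [← hgy, ht'def, conj_apply, hty]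
  have ht'd : Module.finrank F (qEig t' (-1)) = 2 := by
    rw [← finrank_qEig_conj ht'def.symm, htd, hRtd]
  have finish : KRat inc t' → KRat inc g := by
    intro hK
    obtain ⟨J, hJ⟩ := C.invol_ratMap h2 hd7 ht'2 hK
    obtain ⟨hR', hle, hsum⟩ := A.eig_perp h2 hJ ht'2 (e := -1) (by ring)
    have hR'd : Module.finrank F₀ (eig J (-1)) = 2 := by rw [← (A.finrank_qEig h2 hJ ht'2).2, ht'd]
    have hPJ : P ≤ eig J 1 := fun v hv => by
      rw [mem_eig, one_smul]; exact A.inj (by rw [← hJ, ht'G v hv])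
    have hPR' : eig J (-1) ≤ oPerp Q₀ P := fun x hx v hv => by
      rw [QuadraticMap.polar_comm]
      exact hle (by rw [neg_neg]; exact hPJ hv) x hx
    have happ : ∀ (e : F₀) (v : V₀), t₀.1 v = e • v → t'.1 (g.1 (inc v)) = (e : F) • g.1 (inc v) :=
      fun e v hv => by
        rw [ht'def, conj_apply, htJ, show (t₀.1 : V₀ →ₗ[F₀] V₀) v = e • v from hv, A.inc_smul, map_smul]
    by_cases hsing' : ∃ v ∈ eig J (-1), Q₀ v = 0 ∧ v ≠ 0
    · obtain ⟨v, hv, hQv, hv0⟩ := hsing'
      -- `g⁻¹` maps `v` into the plane negated by `t`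
      have hRtP : HasPair Q₀ (oPerp Q₀ Rt) := exists_pair_five A.sep₀ (nondeg_oPerp A.sep₀ hRtN) (by
        have := finrank_oPerp hRtN; omega)
      have hmem : (g⁻¹).1 (inc v) ∈ rSpan (F := F) inc Rt := by
        have h := A.qEig_le_span h2 htJ ht2 (e := -1) (by ring) (show (g⁻¹).1 (inc v) ∈ qEig t ((-1 : F₀) : F) by
          rw [mem_eig]
          show t.1 ((g⁻¹).1 (inc v)) = _
          refine g.1.injective ?_
          rw [← conj_apply g t, OrthSub.apply_inv, ← ht'def, hJ, mem_eig.1 hv, A.inc_smul, map_smul,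
            OrthSub.apply_inv])
        rwa [htE] at h
      have hK := C.pair_rat' (inv_mem hg) hQv hv0 hRtP fun w hw => A.perp_span hw hmem
      have := A.krat_inv hK
      rwa [inv_inv] at this
    · have haX : ∀ v ∈ eig J (-1), Q₀ v = 0 → v = 0 := fun v hv hQ => by_contra fun h => hsing' ⟨v, hv, hQ, h⟩
      have hpair := hasPair_of_aniso h20 hP hR' (by omega) (by omega) hPR' haP haX
      obtain ⟨v, hv, hv0, hQv⟩ := exists_singular_in (Q := Q₀) (W := oPerp Q₀ (P ⊔ Rt)) (by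
        obtain ⟨hN, hd⟩ := nondeg_sup hP hRtN hRt
        have := finrank_oPerp hN; omega)
      refine C.pair_rat' hg hQv hv0 hpair fun w hw => ?_
      obtain ⟨a, ha, b, hb, rfl⟩ := Submodule.mem_sup.1 hw
      rw [map_add, QuadraticMap.polar_add_right]
      have e1 : polar Q (g.1 (inc v)) (inc a) = 0 := by
        obtain ⟨y, hy, e⟩ := hgP.surj (Submodule.subset_span ⟨a, ha, rfl⟩ : inc a ∈ rSpan (F := F) inc P)
        rw [← e, OrthSub.polar_map, QuadraticMap.polar_comm]
        exact A.perp_span (fun p hp => hv p (Submodule.mem_sup_left hp)) hy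
      have e2 : polar Q (g.1 (inc v)) (inc b) = 0 := by
        refine A.perp_span (P := eig J 1) (fun p hp => ?_) (A.qEig_le_span h2 hJ ht'2 (e := 1) (one_mul 1) ?_)
        · rw [QuadraticMap.polar_comm]
          exact hle (by rw [neg_neg]; exact hp) b hb
        · rw [mem_eig]
          exact happ 1 v (by rw [one_smul]; exact htf v fun p hp => hv p (Submodule.mem_sup_right hp))
      rw [e1, e2, add_zero]
  apply finish
  haveI : Finite V := Module.finite_of_finite F
  haveI : Finite (V ≃ₗ[F] V) := Finite.of_injective _ DFunLike.coe_injective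
  haveI : Finite (quadIsoms Q) := inferInstance
  have hst : ¬ IsConj s t' := fun h => by
    obtain ⟨h', hh'⟩ := isConj_iff.1 h
    have := finrank_qEig_conj hh' (-1 : F)
    omega
  obtain ⟨j, hjz, hj1, hj2, hjs, hjt, -⟩ := exists_commuting_involution s t' hs2 ht'2 hst
  have hjM : j ∈ M := (Subgroup.zpowers_le.2 (mul_mem hs ht'M)) hjz
  have hjG : j ∈ G := (Subgroup.zpowers_le.2 (mul_mem hsG ht'G)) hjz
  obtain ⟨J, hJ⟩ := C.invol_ratMap h2 hd7 hj2 (hCs j hjM hjs.symm)
  obtain ⟨hX, hle, hsum⟩ := A.eig_perp h2 hJ hj2 (e := -1) (by ring)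
  obtain ⟨hY, hle1, -⟩ := A.eig_perp h2 hJ hj2 (e := 1) (one_mul 1)
  obtain ⟨m, hm⟩ := C.even_neg h2 hjM hj2
  rw [(A.finrank_qEig h2 hJ hj2).2] at hm
  rw [neg_neg] at hsum hle
  have hPJ : P ≤ eig J 1 := fun v hv => by
    rw [mem_eig, one_smul]; exact A.inj (by rw [← hJ, hjG v hv])
  have hPd := Submodule.finrank_mono hPJ
  have hX0 : Module.finrank F₀ (eig J (-1)) ≠ 0 := fun h => by
    refine hj1 (A.isom_ext fun z => ?_)
    have hz : z ∈ eig J 1 := by rw [Submodule.eq_top_of_finrank_eq (S := eig J 1) (by omega)]; trivial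
    rw [mem_eig, one_smul] at hz
    rw [hJ, hz]; rfl
  have hXP : eig J (-1) ≤ oPerp Q₀ P := fun x hx v hv => by
    rw [QuadraticMap.polar_comm]
    exact hle (hPJ hv) x hx
  have hX' := A.pres_eig h2 hJ hj2 hjt (e := -1) (by ring)
  have hY' := A.pres_eig h2 hJ hj2 hjt (e := 1) (one_mul 1)
  have ht'P : Pres inc t' P := fun v hv => by rw [ht'G v hv]; exact Submodule.subset_span ⟨v, hv, rfl⟩
  by_cases hX2 : Module.finrank F₀ (eig J (-1)) = 2
  · by_cases hsing' : ∃ v ∈ eig J (-1), Q₀ v = 0 ∧ v ≠ 0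
    · obtain ⟨v, hv, hQv, hv0⟩ := hsing'
      exact C.pres_in ht'M hX' hv hQv hv0 (exists_pair_five A.sep₀ (nondeg_oPerp A.sep₀ hX) (by
        have := finrank_oPerp hX; omega))
    · have haX : ∀ v ∈ eig J (-1), Q₀ v = 0 → v = 0 := fun v hv hQ => by_contra fun h => hsing' ⟨v, hv, hQ, h⟩
      have hpair := hasPair_of_aniso h20 hP hX (by omega) (by omega) hXP haP haX
      obtain ⟨v, hv, hv0, hQv⟩ := exists_singular_in (Q := Q₀) (W := eig J 1 ⊓ oPerp Q₀ P) (by
        have hYP := A.pres_diff hP hPJ hY' ht'P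
        obtain ⟨hN, hd⟩ := nondeg_sup hP hX hXP
        have h3 := finrank_oPerp hN
        have : oPerp Q₀ (P ⊔ eig J (-1)) ≤ eig J 1 ⊓ oPerp Q₀ P := fun z hz =>
          ⟨by
            obtain ⟨a, ha, b, hb, rfl⟩ := Submodule.mem_sup.1 (show z ∈ eig J (-1) ⊔ eig J 1 by
              rw [show eig J (-1) ⊔ eig J 1 = ⊤ from by
                refine eq_top_iff.2 ?_
                rw [← sup_oPerp hX]
                refine sup_le le_sup_left (le_trans ?_ le_sup_right)
                refine (Submodule.eq_of_le_of_finrank_le hle ?_).ge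
                have := finrank_oPerp hX; omega]
              trivial)
            have ha0 : a = 0 := hX a ha fun y hy => by
              have := hz y (Submodule.mem_sup_right hy)
              rwa [QuadraticMap.polar_add_left, hle hb y hy, add_zero] at this
            rw [ha0, zero_add]; exact hb,
          fun p hp => hz p (Submodule.mem_sup_left hp)⟩
        have := Submodule.finrank_mono this
        omega)
      refine C.pair_rat' ht'M hQv hv0 hpair fun w hw => ?_
      obtain ⟨a, ha, b, hb, rfl⟩ := Submodule.mem_sup.1 hw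
      rw [map_add, QuadraticMap.polar_add_right, ← ht'G a ha, OrthSub.polar_map, A.pol_zero (hv.2 a ha), zero_add]
      exact A.perp_span (fun p hp => by rw [QuadraticMap.polar_comm]; exact hle hp b hb) (hY' v hv.1)
  · -- the fixed space is the plane and one more line
    obtain ⟨v, hv, hv0, hQv⟩ := exists_singular_in (Q := Q₀) (W := eig J 1) (by omega)
    obtain ⟨p, hp, c, hc, rfl⟩ := Submodule.mem_sup.1 (show v ∈ P ⊔ oPerp Q₀ P by rw [sup_oPerp hP]; trivial)
    have hcY : c ∈ eig J 1 := by simpa using sub_mem hv (hPJ hp)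
    have hc0 : c ≠ 0 := fun e => hv0 (by rw [e, add_zero] at hQv ⊢; exact haP p hp hQv)
    have hline : eig J 1 ⊓ oPerp Q₀ P = F₀ ∙ c := by
      refine (Submodule.eq_of_le_of_finrank_le ((Submodule.span_singleton_le_iff_mem _ _).2 (⟨hcY, hc⟩ : c ∈ eig J 1 ⊓ oPerp Q₀ P)) ?_).symm
      have h1 := Submodule.finrank_sup_add_finrank_inf_eq P (eig J 1 ⊓ oPerp Q₀ P)
      have h3 : P ⊓ (eig J 1 ⊓ oPerp Q₀ P) = ⊥ :=
        (Submodule.eq_bot_iff _).2 fun x hx => hP x hx.1 hx.2.2
      have h4 := Submodule.finrank_mono (show P ⊔ (eig J 1 ⊓ oPerp Q₀ P) ≤ eig J 1 from sup_le hPJ inf_le_left)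
      rw [h3, finrank_bot] at h1
      rw [finrank_span_singleton hc0]
      omega
    have hk := (A.pres_diff hP hPJ hY' ht'P) c (⟨hcY, hc⟩ : c ∈ eig J 1 ⊓ oPerp Q₀ P)
    rw [hline] at hk
    obtain ⟨k, hk⟩ : ∃ k : F, k • inc c = t'.1 (inc c) := by
      have hle' : rSpan (F := F) inc (F₀ ∙ c) ≤ F ∙ inc c := Submodule.span_le.2 (by
        rintro _ ⟨w, hw, rfl⟩
        obtain ⟨a, rfl⟩ := Submodule.mem_span_singleton.1 hw
        rw [A.inc_smul]; exact Submodule.smul_mem _ _ (Submodule.mem_span_singleton_self _))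
      exact Submodule.mem_span_singleton.1 (hle' hk)
    have hkk : k * k = 1 := by
      have e : t'.1 (t'.1 (inc c)) = inc c := congrArg (fun m : quadIsoms Q => m.1 (inc c)) ht'2
      rw [← hk, map_smul, ← hk, smul_smul] at e
      exact smul_left_injective F (A.inc_ne hc0) (e.trans (one_smul F _).symm)
    rcases mul_self_eq_one_iff.1 hkk with rfl | rfl
    · exact C.point_rat ht'M hQv hv0 one_ne_zero (v' := p + c) (by
        rw [one_smul, map_add, map_add, ht'G p hp, ← hk, one_smul])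
    · exact C.point_rat ht'M hQv hv0 one_ne_zero (v' := p - c) (by
        rw [one_smul, map_add, map_add, ht'G p hp, ← hk, neg_one_smul, map_sub]; abel)

/-- preserving a rational line -/
theorem seven_line {g : quadIsoms Q} (hg : g ∈ M) {e : V₀} (he : Q₀ e ≠ 0)
    (hgP : Pres inc g (F₀ ∙ e)) : KRat inc g := by
  classical
  have A := C.base
  have h20 := A.two₀ h2
  have he0 : e ≠ 0 := fun h => he (by rw [h, map_zero])
  have hP : Nondeg Q₀ (F₀ ∙ e) := fun x hx h => by
    obtain ⟨a, rfl⟩ := Submodule.mem_span_singleton.1 hx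
    have h' := h e (Submodule.mem_span_singleton_self e)
    rw [QuadraticMap.polar_smul_left, polar_self_two, smul_eq_mul] at h'
    rw [(mul_eq_zero.1 h').resolve_right (mul_ne_zero h20 he), zero_smul]
  have h1P : Module.finrank F₀ (F₀ ∙ e) = 1 := finrank_span_singleton he0
  have hU := nondeg_oPerp A.sep₀ hP
  have hU6 : Module.finrank F₀ (oPerp Q₀ (F₀ ∙ e)) = 6 := by have := finrank_oPerp hP; omega
  obtain ⟨⟨f, hfU⟩, hQf⟩ := exists_value (Q₀.comp (oPerp Q₀ (F₀ ∙ e)).subtype) h20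
    (fun x hx => Subtype.ext (hU x x.2 fun y hy => hx ⟨y, hy⟩)) (by omega) (Q₀ e) he
  change Q₀ f = Q₀ e at hQf
  have hef : polar Q₀ e f = 0 := by
    rw [QuadraticMap.polar_comm]; exact hfU e (Submodule.mem_span_singleton_self e)
  obtain ⟨s₀, hs₀, hss₀, Rs, hRs, hRsd, hsn, hsf⟩ := exists_neg A.sep₀ h20 1 _ hU (by omega)
  obtain ⟨t₀, ht₀, htt₀, hRtd, htn, htf⟩ := exists_neg_plane A.sep₀ (by omega) h20 he hQf hef
  obtain ⟨s, hs, hsJ⟩ := C.exists_lift hs₀
  obtain ⟨t, ht, htJ⟩ := C.exists_lift ht₀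
  obtain ⟨hs2, hRsN, hsE, hsE1, hsd⟩ := A.eig_of_negated h2 hsJ hss₀ hsn hsf
  obtain ⟨ht2, hRtN, htE, htE1, htd⟩ := A.eig_of_negated h2 htJ htt₀ htn htf
  have hC : ∀ {x : quadIsoms Q} {x₀ : quadIsoms Q₀} {R : Submodule F₀ V₀},
      RatMap inc x (x₀.1 : V₀ →ₗ[F₀] V₀) → x * x = 1 → eig (x₀.1 : V₀ →ₗ[F₀] V₀) (-1) = R → Nondeg Q₀ R →
      Module.finrank F₀ R = 2 → ∀ y ∈ M, Commute x y → KRat inc y :=
    fun hJ hx hE hN hd y hy hxy => C.seven_plane h2 hd7 hy hN hd (hE ▸ A.pres_eig h2 hJ hx hxy (by ring))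
  set t' := g * t * g⁻¹ with ht'def
  have ht'M : t' ∈ M := mul_mem (mul_mem hg ht) (inv_mem hg)
  have ht'2 : t' * t' = 1 := conj_invol ht2
  have ht'd : Module.finrank F (qEig t' (-1)) = 2 := by rw [← finrank_qEig_conj ht'def.symm, htd, hRtd]
  have ht'e : t'.1 (inc e) = -inc e := by
    obtain ⟨y, hy, hgy⟩ := hgP.surj
      (Submodule.subset_span ⟨e, Submodule.mem_span_singleton_self e, rfl⟩ : inc e ∈ rSpan (F := F) inc (F₀ ∙ e))
    have hty : t.1 y = -y := by
      refine LinearMap.eqOn_span' (f := t.1.toLinearMap) (g := -LinearMap.id) ?_ hy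
      rintro _ ⟨w, hw, rfl⟩
      obtain ⟨a, rfl⟩ := Submodule.mem_span_singleton.1 hw
      show t.1 (inc (a • e)) = -inc (a • e)
      rw [htJ, ← map_neg]
      exact congrArg inc (htn _ (Submodule.smul_mem _ a (Submodule.subset_span (by simp))))
    rw [← hgy, ht'def, conj_apply, hty, map_neg]
  have hse : s.1 (inc e) = inc e := by
    rw [hsJ]
    exact congrArg inc (hsf e fun w hw => by
      rw [QuadraticMap.polar_comm]; exact hRs hw e (Submodule.mem_span_singleton_self e))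
  suffices hK : KRat inc t' by
    obtain ⟨J, hJ⟩ := C.invol_ratMap h2 hd7 ht'2 hK
    have h := (A.finrank_qEig h2 hJ ht'2).2
    have h' := finrank_eig_add h20 (A.ratMap_sq hJ ht'2)
    exact C.rat_of_centraliser h2 hg ht2 (hC htJ ht2 htE hRtN (by omega)) hJ (e := 1) (one_mul 1) (by omega)
  -- the dihedral group inside the stabiliser of `e`
  let G : Subgroup (quadIsoms Q) :=
    { carrier := {x | x.1 (inc e) = inc e ∨ x.1 (inc e) = -inc e}
      mul_mem' := fun {a b} ha hb => by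
        show a.1 (b.1 (inc e)) = _ ∨ a.1 (b.1 (inc e)) = _
        rcases hb with hb | hb <;> rw [hb] <;> rcases ha with ha | ha <;> simp [ha]
      one_mem' := Or.inl rfl
      inv_mem' := fun {a} ha => by
        rcases ha with ha | ha
        · exact Or.inl (a.1.injective (by rw [OrthSub.apply_inv, ha]))
        · exact Or.inr (a.1.injective (by rw [OrthSub.apply_inv, map_neg, ha, neg_neg])) }
  haveI : Finite V := Module.finite_of_finite F
  haveI : Finite (V ≃ₗ[F] V) := Finite.of_injective _ DFunLike.coe_injective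
  haveI : Finite (quadIsoms Q) := inferInstance
  have hne2 : inc e ≠ -inc e := fun h => by
    have h' : (2 : F) • inc e = 0 := by rw [two_smul]; nth_rw 1 [h]; exact neg_add_cancel _
    exact A.inc_ne he0 ((smul_eq_zero.1 h').resolve_left h2)
  have hst : ¬ IsConj (⟨s, Or.inl hse⟩ : G) ⟨t', Or.inr ht'e⟩ := fun h => by
    obtain ⟨⟨k, hk⟩, hh⟩ := isConj_iff.1 h
    have hh' : k * s * k⁻¹ = t' := congrArg Subtype.val hh
    have e1 : t'.1 (k.1 (inc e)) = k.1 (inc e) := by rw [← hh', conj_apply, hse]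
    rcases hk with hk | hk <;> rw [hk] at e1
    · exact hne2 (e1.symm.trans ht'e)
    · rw [map_neg, ht'e, neg_neg] at e1; exact hne2 e1
  obtain ⟨⟨j, hjG⟩, hjz, hj1, hj2, hjs, hjt, hjc⟩ := exists_commuting_involution (⟨s, Or.inl hse⟩ : G)
    ⟨t', Or.inr ht'e⟩ (Subtype.ext hs2) (Subtype.ext ht'2) hst
  have hjM : j ∈ M := by
    obtain ⟨n, hn⟩ := Subgroup.mem_zpowers_iff.1 hjz
    have e1 : (s * t') ^ n = j := by
      simpa using congrArg Subtype.val hn
    exact e1 ▸ Subgroup.zpow_mem M (mul_mem hs ht'M) n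
  replace hj1 : j ≠ 1 := fun h => hj1 (Subtype.ext h)
  replace hj2 : j * j = 1 := congrArg Subtype.val hj2
  replace hjs : Commute j s := congrArg Subtype.val hjs.eq
  replace hjt : Commute j t' := congrArg Subtype.val hjt.eq
  replace hjc : Module.finrank F (qEig (s * j) (-1)) = 2 := by
    rcases hjc with h | h <;> obtain ⟨k, hk⟩ := isConj_iff.1 h
    · have := finrank_qEig_conj (show k.1 * s * k.1⁻¹ = s * j from congrArg Subtype.val hk) (-1 : F)
      omega
    · have := finrank_qEig_conj (show k.1 * t' * k.1⁻¹ = s * j from congrArg Subtype.val hk) (-1 : F)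
      omega
  obtain ⟨J, hJ⟩ := C.invol_ratMap h2 hd7 hj2 (hC hsJ hs2 hsE hRsN (by omega) j hjM hjs.symm)
  obtain ⟨hX, hle, hsum⟩ := A.eig_perp h2 hJ hj2 (e := -1) (by ring)
  obtain ⟨hY, hle1, -⟩ := A.eig_perp h2 hJ hj2 (e := 1) (one_mul 1)
  obtain ⟨m, hm⟩ := C.even_neg h2 hjM hj2
  rw [(A.finrank_qEig h2 hJ hj2).2] at hm
  rw [neg_neg] at hsum hle
  have hX' := A.pres_eig h2 hJ hj2 hjt (e := -1) (by ring)
  have hY' := A.pres_eig h2 hJ hj2 hjt (e := 1) (one_mul 1)
  have hJe : J e = e ∨ J e = -e := by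
    rcases hjG with h | h <;> rw [hJ] at h
    · exact Or.inl (A.inj h)
    · exact Or.inr (A.inj (h.trans (map_neg inc e).symm))
  have hle' : ∀ a ∈ F₀ ∙ e, t'.1 (inc a) = -inc a := fun a ha => by
    obtain ⟨k, rfl⟩ := Submodule.mem_span_singleton.1 ha
    rw [A.inc_smul, map_smul, ht'e, smul_neg]
  have ht'P : Pres inc t' (F₀ ∙ e) := fun v hv => by
    rw [hle' v hv]; exact Submodule.neg_mem _ (Submodule.subset_span ⟨v, hv, rfl⟩)
  have hX0 : Module.finrank F₀ (eig J (-1)) ≠ 0 := fun h => by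
    refine hj1 (A.isom_ext fun z => ?_)
    have hz : z ∈ eig J 1 := by rw [Submodule.eq_top_of_finrank_eq (S := eig J 1) (by omega)]; trivial
    rw [mem_eig, one_smul] at hz
    rw [hJ, hz]; rfl
  have hsing : ∀ {v : V₀}, Q₀ v = 0 → v ≠ 0 → t'.1 (inc v) = inc v → KRat inc t' := fun hQ h0 h =>
    C.point_rat ht'M hQ h0 one_ne_zero (by rw [one_smul]; exact h)
  rcases (show Module.finrank F₀ (eig J (-1)) = 2 ∨ Module.finrank F₀ (eig J (-1)) = 4 ∨
      Module.finrank F₀ (eig J (-1)) = 6 by omega) with hk | hk | hk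
  · exact C.seven_plane h2 hd7 ht'M hX hk hX'
  · rcases hJe with hJe | hJe
    · -- the fixed space contains `e`
      have hPY : F₀ ∙ e ≤ eig J 1 :=
        (Submodule.span_singleton_le_iff_mem _ _).2 (by rw [mem_eig, one_smul]; exact hJe)
      have hN : Nondeg Q₀ (eig J 1 ⊓ oPerp Q₀ (F₀ ∙ e)) := fun x hx h => hY x hx.1 fun y hy => by
        obtain ⟨a, ha, b, hb, rfl⟩ := Submodule.mem_sup.1 (show y ∈ (F₀ ∙ e) ⊔ oPerp Q₀ (F₀ ∙ e) by
          rw [sup_oPerp hP]; trivial)
        have hbY : b ∈ eig J 1 := by simpa using sub_mem hy (hPY ha)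
        rw [QuadraticMap.polar_add_right, hx.2 a ha, zero_add]
        exact h b ⟨hbY, hb⟩
      refine C.seven_plane h2 hd7 ht'M hN ?_ (A.pres_diff hP hPY hY' ht'P)
      have h1 := Submodule.finrank_sup_add_finrank_inf_eq (F₀ ∙ e) (eig J 1 ⊓ oPerp Q₀ (F₀ ∙ e))
      have h3 : (F₀ ∙ e) ⊓ (eig J 1 ⊓ oPerp Q₀ (F₀ ∙ e)) = ⊥ :=
        (Submodule.eq_bot_iff _).2 fun x hx => hP x hx.1 hx.2.2
      have h4 : (F₀ ∙ e) ⊔ (eig J 1 ⊓ oPerp Q₀ (F₀ ∙ e)) = eig J 1 := by
        refine le_antisymm (sup_le hPY inf_le_left) fun y hy => ?_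
        obtain ⟨a, ha, b, hb, rfl⟩ := Submodule.mem_sup.1 (show y ∈ (F₀ ∙ e) ⊔ oPerp Q₀ (F₀ ∙ e) by
          rw [sup_oPerp hP]; trivial)
        have hbY : b ∈ eig J 1 := by simpa using sub_mem hy (hPY ha)
        exact add_mem (Submodule.mem_sup_left ha) (Submodule.mem_sup_right ⟨hbY, hb⟩)
      rw [h3, finrank_bot, h4] at h1
      omega
    · -- one of the three-spaces is fixed pointwise
      have hPX : F₀ ∙ e ≤ eig J (-1) :=
        (Submodule.span_singleton_le_iff_mem _ _).2 (by rw [mem_eig, neg_one_smul]; exact hJe)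
      have hX'' := A.pres_diff hP hPX hX' ht'P
      have hlt : Module.finrank F (qEig t' (-1) ⊓ LinearMap.ker (Q.polarBilin.flip (inc e)) : Submodule F V) <
          Module.finrank F (qEig t' (-1)) := by
        refine Submodule.finrank_lt_finrank_of_lt (lt_of_le_of_ne inf_le_left fun h => ?_)
        have hmem : inc e ∈ qEig t' (-1) ⊓ LinearMap.ker (Q.polarBilin.flip (inc e)) := by
          rw [h, mem_eig, neg_one_smul]; exact ht'e
        have h0 : polar Q (inc e) (inc e) = 0 := hmem.2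
        rw [A.pol, polar_self_two] at h0
        exact mul_ne_zero h20 he (Subtype.ext h0)
      have hker : ∀ {R : Submodule F₀ V₀}, (∀ r ∈ R, polar Q₀ r e = 0) →
          rSpan (F := F) inc R ≤ LinearMap.ker (Q.polarBilin.flip (inc e)) := fun hR =>
        Submodule.span_le.2 (by rintro _ ⟨r, hr, rfl⟩; exact A.pol_zero (hR r hr))
      rcases A.eig_or h2 ht'2 (ε := -1) (by ring) hY (P := eig J 1) (R := eig J (-1) ⊓ oPerp Q₀ (F₀ ∙ e))
        (inf_le_left.trans (by simpa using hle1)) hY' hX'' _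
        (hker fun r hr => hle hr e (hPX (Submodule.mem_span_singleton_self e)))
        (hker fun r hr => hr.2 e (Submodule.mem_span_singleton_self e)) (by omega) with h | h
      · obtain ⟨v, hv, hv0, hQv⟩ := exists_singular_in (Q := Q₀) (W := eig J 1) (by omega)
        exact hsing hQv hv0 (by rw [h v hv, neg_neg, one_smul])
      · obtain ⟨v, hv, hv0, hQv⟩ :=
          exists_singular_in (Q := Q₀) (W := eig J (-1) ⊓ oPerp Q₀ (F₀ ∙ e)) (by
            have h1 := Submodule.finrank_sup_add_finrank_inf_eq (F₀ ∙ e) (eig J (-1) ⊓ oPerp Q₀ (F₀ ∙ e))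
            have h4 := Submodule.finrank_mono (show eig J (-1) ≤ (F₀ ∙ e) ⊔ (eig J (-1) ⊓ oPerp Q₀ (F₀ ∙ e)) from
              fun y hy => by
                obtain ⟨a, ha, b, hb, rfl⟩ := Submodule.mem_sup.1 (show y ∈ (F₀ ∙ e) ⊔ oPerp Q₀ (F₀ ∙ e) by
                  rw [sup_oPerp hP]; trivial)
                have hbX : b ∈ eig J (-1) := by simpa using sub_mem hy (hPX ha)
                exact add_mem (Submodule.mem_sup_left ha) (Submodule.mem_sup_right ⟨hbX, hb⟩))
            omega)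
        exact hsing hQv hv0 (by rw [h v hv, neg_neg, one_smul])
  · obtain ⟨y, hy, hy0⟩ := Submodule.exists_mem_ne_zero_of_ne_bot (p := eig J 1)
      (fun h => by rw [h, finrank_bot] at hsum; omega)
    have hYd : Module.finrank F₀ (eig J 1) = 1 := by omega
    rcases hJe with hJe | hJe
    · -- `j` negates the orthogonal of `e`: impossible
      exfalso
      have hYe : eig J 1 = F₀ ∙ e := (Submodule.eq_of_le_of_finrank_le
        ((Submodule.span_singleton_le_iff_mem _ _).2 (by rw [mem_eig, one_smul]; exact hJe)) (by omega)).symm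
      have hXU : oPerp Q₀ (F₀ ∙ e) ≤ eig J (-1) := by
        refine (Submodule.eq_of_le_of_finrank_le ?_ (by omega)).ge
        intro x hx
        rw [← hYe]
        simpa using hle1 (show x ∈ eig J (-1) from hx)
      have hsj2 : (s * j) * (s * j) = 1 := by
        rw [show (s * j) * (s * j) = s * (j * s) * j by group, hjs.eq,
          show s * (s * j) * j = (s * s) * (j * j) by group, hs2, hj2, mul_one]
      have hsjJ : RatMap inc (s * j) ((s₀.1 : V₀ →ₗ[F₀] V₀) ∘ₗ J) := fun z => by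
        show s.1 (j.1 (inc z)) = _
        rw [hJ, hsJ]; rfl
      have h1 := Submodule.finrank_mono (show oPerp Q₀ ((F₀ ∙ e) ⊔ Rs) ≤
          eig ((s₀.1 : V₀ →ₗ[F₀] V₀) ∘ₗ J) (-1) from fun w hw => by
        have hwJ := hXU (fun q hq => hw q (Submodule.mem_sup_left hq) : w ∈ oPerp Q₀ (F₀ ∙ e))
        rw [mem_eig, neg_one_smul] at hwJ ⊢
        show s₀.1 (J w) = -w
        rw [hwJ, map_neg, hsf w fun q hq => hw q (Submodule.mem_sup_right hq)])
      rw [← (A.finrank_qEig h2 hsjJ hsj2).2] at h1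
      obtain ⟨hN, hd⟩ := nondeg_sup hP hRsN hRs
      have := finrank_oPerp hN
      omega
    · have hPX : F₀ ∙ e ≤ eig J (-1) :=
        (Submodule.span_singleton_le_iff_mem _ _).2 (by rw [mem_eig, neg_one_smul]; exact hJe)
      have hperp : eig J 1 ≤ oPerp Q₀ (F₀ ∙ e) := fun z hz a ha => hle hz a (hPX ha)
      obtain ⟨hN, hd⟩ := nondeg_sup hP hY hperp
      refine C.seven_plane h2 hd7 ht'M hN (by omega) fun v hv => ?_
      obtain ⟨a, ha, b, hb, rfl⟩ := Submodule.mem_sup.1 hv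
      rw [map_add, map_add]
      exact add_mem (Submodule.span_mono (Set.image_mono (le_sup_left : F₀ ∙ e ≤ (F₀ ∙ e) ⊔ eig J 1)) (ht'P a ha))
        (Submodule.span_mono (Set.image_mono (le_sup_right : eig J 1 ≤ (F₀ ∙ e) ⊔ eig J 1)) (hY' b hb))

/-- every element of an overgroup is rational -/
theorem odd_dichotomy_seven {g : quadIsoms Q} (hg : g ∈ M) : KRat inc g := by
  classical
  have A := C.base
  have h20 := A.two₀ h2
  have htop : Nondeg Q₀ ⊤ := fun x _ h => A.sep₀ x fun y => h y trivial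
  obtain ⟨s₀, hs₀, hss₀, Rs, -, hRsd, hsn, hsf⟩ := exists_neg A.sep₀ h20 1 ⊤ htop (by rw [finrank_top]; omega)
  obtain ⟨t₀, ht₀, htt₀, Rt, -, hRtd, htn, htf⟩ := exists_neg A.sep₀ h20 3 ⊤ htop (by rw [finrank_top]; omega)
  obtain ⟨s, hs, hsJ⟩ := C.exists_lift hs₀
  obtain ⟨t, ht, htJ⟩ := C.exists_lift ht₀
  obtain ⟨hs2, hRsN, hsE, hsE1, hsd⟩ := A.eig_of_negated h2 hsJ hss₀ hsn hsf
  obtain ⟨ht2, hRtN, htE, htE1, htd⟩ := A.eig_of_negated h2 htJ htt₀ htn htf
  -- an element preserving a non-degenerate line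
  have hline : ∀ x ∈ M, ∀ R : Submodule F₀ V₀, Nondeg Q₀ R → Module.finrank F₀ R = 1 → Pres inc x R →
      KRat inc x := by
    intro x hx R hR hd hxR
    obtain ⟨e, he, he0⟩ := Submodule.exists_mem_ne_zero_of_ne_bot (p := R) (fun h => by rw [h, finrank_bot] at hd; omega)
    have hRe : F₀ ∙ e = R := Submodule.eq_of_le_of_finrank_le ((Submodule.span_singleton_le_iff_mem _ _).2 he)
      (by rw [finrank_span_singleton he0, hd])
    refine C.seven_line h2 hd7 hx (e := e) (fun hQ => he0 (hR e he fun y hy => ?_)) (hRe ▸ hxR)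
    rw [← hRe] at hy
    obtain ⟨k, rfl⟩ := Submodule.mem_span_singleton.1 hy
    rw [QuadraticMap.polar_smul_right, polar_self_two, hQ, mul_zero, smul_zero]
  set t' := g * t * g⁻¹ with ht'def
  have ht'M : t' ∈ M := mul_mem (mul_mem hg ht) (inv_mem hg)
  have ht'2 : t' * t' = 1 := conj_invol ht2
  have ht'd : Module.finrank F (qEig t' (-1)) = 6 := by rw [← finrank_qEig_conj ht'def.symm, htd, hRtd]
  suffices hK : KRat inc t' by
    obtain ⟨J, hJ⟩ := C.invol_ratMap h2 hd7 ht'2 hK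
    have h := (A.finrank_qEig h2 hJ ht'2).2
    refine C.rat_of_centraliser h2 hg ht2 (fun x hx htx => ?_) hJ (e := -1) (by ring) (by omega)
    refine hline x hx _ (nondeg_oPerp A.sep₀ hRtN) ?_ (htE1 ▸ A.pres_eig h2 htJ ht2 htx (one_mul 1))
    have := finrank_oPerp hRtN; omega
  haveI : Finite V := Module.finite_of_finite F
  haveI : Finite (V ≃ₗ[F] V) := Finite.of_injective _ DFunLike.coe_injective
  haveI : Finite (quadIsoms Q) := inferInstance
  have hst : ¬ IsConj s t' := fun h => by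
    obtain ⟨h', hh'⟩ := isConj_iff.1 h
    have := finrank_qEig_conj hh' (-1 : F)
    omega
  obtain ⟨j, hjz, hj1, hj2, hjs, hjt, -⟩ := exists_commuting_involution s t' hs2 ht'2 hst
  have hjM : j ∈ M := (Subgroup.zpowers_le.2 (mul_mem hs ht'M)) hjz
  obtain ⟨J, hJ⟩ := C.invol_ratMap h2 hd7 hj2 (C.seven_plane h2 hd7 hjM hRsN (by omega)
    (hsE ▸ A.pres_eig h2 hsJ hs2 hjs.symm (by ring)))
  obtain ⟨hX, hle, hsum⟩ := A.eig_perp h2 hJ hj2 (e := -1) (by ring)
  obtain ⟨hY, hle1, -⟩ := A.eig_perp h2 hJ hj2 (e := 1) (one_mul 1)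
  obtain ⟨m, hm⟩ := C.even_neg h2 hjM hj2
  rw [(A.finrank_qEig h2 hJ hj2).2] at hm
  rw [neg_neg] at hsum
  have hX' := A.pres_eig h2 hJ hj2 hjt (e := -1) (by ring)
  have hY' := A.pres_eig h2 hJ hj2 hjt (e := 1) (one_mul 1)
  have hX0 : Module.finrank F₀ (eig J (-1)) ≠ 0 := fun h => by
    refine hj1 (A.isom_ext fun z => ?_)
    have hz : z ∈ eig J 1 := by rw [Submodule.eq_top_of_finrank_eq (S := eig J 1) (by omega)]; trivial
    rw [mem_eig, one_smul] at hz
    rw [hJ, hz]; rfl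
  rcases (show Module.finrank F₀ (eig J (-1)) = 2 ∨ Module.finrank F₀ (eig J (-1)) = 4 ∨
      Module.finrank F₀ (eig J (-1)) = 6 by omega) with hk | hk | hk
  · exact C.seven_plane h2 hd7 ht'M hX hk hX'
  · have hfix : Module.finrank F (qEig t' 1) + Module.finrank F (qEig t' (-1)) = Module.finrank F V :=
      finrank_eig_add h2 (f := (t'.1 : V →ₗ[F] V)) fun w => congrArg (fun k : quadIsoms Q => k.1 w) ht'2
    have hdV := A.dim
    rcases A.eig_or h2 ht'2 (ε := 1) (one_mul 1) hY (P := eig J 1) (R := eig J (-1))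
      (by simpa using hle1) hY' hX' ⊤ le_top le_top (by rw [inf_top_eq]; omega) with h | h
    · obtain ⟨v, hv, hv0, hQv⟩ := exists_singular_in (Q := Q₀) (W := eig J 1) (by omega)
      exact C.point_rat ht'M hQv hv0 (neg_ne_zero.2 one_ne_zero) (h v hv)
    · obtain ⟨v, hv, hv0, hQv⟩ := exists_singular_in (Q := Q₀) (W := eig J (-1)) (by omega)
      exact C.point_rat ht'M hQv hv0 (neg_ne_zero.2 one_ne_zero) (h v hv)
  · exact hline t' ht'M _ hY (by omega) hY'

end RatCtx

end CfsgLib.MaxSub
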