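import Cfsg.Agent.Lib.MaxSub.RatEightTools

/-!
Overgroups of subfield groups in seven-dimensional orthogonal geometry, odd characteristic: tools.
-/

set_option autoImplicit false
set_option linter.unusedSectionVars false

namespace CfsgLib.MaxSub

open CfsgLib.Classical CfsgLib.Geom
open QuadraticMap (polar)

section
variable {K W : Type*} [Field K] [Finite K] [AddCommGroup W] [Module K W] [FiniteDimensional K W]
variable {B : QuadraticForm K W}

/-- an involution of the commutator subgroup negating a plane spanned by orthogonal vectors of equal value -/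
theorem exists_neg_plane (hsep : ∀ x, (∀ y, polar B x y = 0) → x = 0) (h5 : 5 ≤ Module.finrank K W)
    (h2 : (2 : K) ≠ 0) {a c : W} (ha : B a ≠ 0) (hc : B c = B a) (hac : polar B a c = 0) :
    ∃ g ∈ commutator (quadIsoms B), (∀ x, g.1 (g.1 x) = x) ∧
      Module.finrank K (Submodule.span K ({a, c} : Set W)) = 2 ∧
      (∀ x ∈ Submodule.span K ({a, c} : Set W), g.1 x = -x) ∧
      ∀ x ∈ oPerp B (Submodule.span K ({a, c} : Set W)), g.1 x = x := by
  have hc0 : B c ≠ 0 := hc ▸ ha
  have hca : polar B c a = 0 := by rw [QuadraticMap.polar_comm]; exact hac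
  let ra : quadIsoms B := ⟨reflEquiv B a ha, reflEquiv_mem B a ha⟩
  let rc : quadIsoms B := ⟨reflEquiv B c hc0, reflEquiv_mem B c hc0⟩
  have ea : (ra * rc).1 a = -a := by
    show reflEquiv B a ha (reflEquiv B c hc0 a) = _
    rw [reflEquiv_fix B c hc0 hca, reflEquiv_self]
  have ec : (ra * rc).1 c = -c := by
    show reflEquiv B a ha (reflEquiv B c hc0 c) = _
    rw [reflEquiv_self, map_neg, reflEquiv_fix B a ha hac]
  refine ⟨ra * rc, refl_pair_mem_commutator hsep h5 ha hc, fun x => ?_, ?_, fun x hx => ?_, fun x hx => ?_⟩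
  · show reflEquiv B a ha (reflEquiv B c hc0 (reflEquiv B a ha (reflEquiv B c hc0 x))) = x
    simp only [reflEquiv_apply, QuadraticMap.polar_sub_right, QuadraticMap.polar_smul_right, polar_self_two,
      hac, hca, hc, smul_eq_mul, mul_zero, sub_zero]
    match_scalars <;> field_simp <;> ring
  · have hli : LinearIndependent K ![a, c] := by
      refine (LinearIndependent.pair_iff' fun e => ha (by rw [e, map_zero])).2 fun k hk => ?_
      have e := congrArg (fun x => polar B x c) hk
      simp only [QuadraticMap.polar_smul_left, hac, smul_zero, polar_self_two] at e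
      exact mul_ne_zero h2 hc0 e.symm
    have h := finrank_span_eq_card hli
    rwa [Matrix.range_cons_cons_empty, Fintype.card_fin] at h
  · obtain ⟨p, q, rfl⟩ := Submodule.mem_span_pair.1 hx
    rw [map_add, map_smul, map_smul, ea, ec]
    module
  · show reflEquiv B a ha (reflEquiv B c hc0 x) = x
    rw [reflEquiv_fix B c hc0 (by rw [QuadraticMap.polar_comm]; exact hx c (Submodule.subset_span (by simp))),
      reflEquiv_fix B a ha (by rw [QuadraticMap.polar_comm]; exact hx a (Submodule.subset_span (by simp)))]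

/-- four orthogonal vectors of value one span a space with a singular pair -/
theorem exists_neg_four (hsep : ∀ x, (∀ y, polar B x y = 0) → x = 0) (h5 : 5 ≤ Module.finrank K W)
    (h2 : (2 : K) ≠ 0) {P : Submodule K W} (hP : Nondeg B P) (hd : 5 ≤ Module.finrank K P) :
    ∃ g ∈ commutator (quadIsoms B), (∀ x, g.1 (g.1 x) = x) ∧ ∃ R : Submodule K W, R ≤ P ∧
      Module.finrank K R = 4 ∧ HasPair B R ∧ (∀ x ∈ R, g.1 x = -x) ∧ ∀ x ∈ oPerp B R, g.1 x = x := by
  obtain ⟨z₁, m₁, q₁⟩ := exists_one h2 hP (by omega)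
  have d₁ := finrank_le_inf_ker P (B.polarBilin.flip z₁)
  have P₁ := nondeg_inf_perp hP h2 m₁ q₁
  obtain ⟨z₂, m₂, q₂⟩ := exists_one h2 P₁ (by omega)
  have d₂ := finrank_le_inf_ker (P ⊓ LinearMap.ker (B.polarBilin.flip z₁)) (B.polarBilin.flip z₂)
  have P₂ := nondeg_inf_perp P₁ h2 m₂ q₂
  obtain ⟨z₃, m₃, q₃⟩ := exists_one h2 P₂ (by omega)
  have d₃ := finrank_le_inf_ker (P ⊓ LinearMap.ker (B.polarBilin.flip z₁) ⊓
    LinearMap.ker (B.polarBilin.flip z₂)) (B.polarBilin.flip z₃)
  have P₃ := nondeg_inf_perp P₂ h2 m₃ q₃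
  obtain ⟨z₄, m₄, q₄⟩ := exists_one h2 P₃ (by omega)
  have p21 : polar B z₂ z₁ = 0 := m₂.2
  have p31 : polar B z₃ z₁ = 0 := m₃.1.2
  have p32 : polar B z₃ z₂ = 0 := m₃.2
  have p41 : polar B z₄ z₁ = 0 := m₄.1.1.2
  have p42 : polar B z₄ z₂ = 0 := m₄.1.2
  have p43 : polar B z₄ z₃ = 0 := m₄.2
  have p12 : polar B z₁ z₂ = 0 := by rw [QuadraticMap.polar_comm]; exact p21
  have p34 : polar B z₃ z₄ = 0 := by rw [QuadraticMap.polar_comm]; exact p43
  have p13 : polar B z₁ z₃ = 0 := by rw [QuadraticMap.polar_comm]; exact p31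
  have p14 : polar B z₁ z₄ = 0 := by rw [QuadraticMap.polar_comm]; exact p41
  have p23 : polar B z₂ z₃ = 0 := by rw [QuadraticMap.polar_comm]; exact p32
  have p24 : polar B z₂ z₄ = 0 := by rw [QuadraticMap.polar_comm]; exact p42
  obtain ⟨g, hg, hgg, hR, hgn, hgf⟩ := exists_neg_plane hsep h5 h2 (q₁ ▸ one_ne_zero) (q₂.trans q₁.symm) p12
  obtain ⟨k, hk, hkk, hR', hkn, hkf⟩ := exists_neg_plane hsep h5 h2 (q₃ ▸ one_ne_zero) (q₄.trans q₃.symm) p34
  set R := Submodule.span K ({z₁, z₂} : Set W)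
  set R' := Submodule.span K ({z₃, z₄} : Set W)
  have hperp : R' ≤ oPerp B R := Submodule.span_le.2 (by
    rintro x (rfl | rfl) y hy <;> obtain ⟨p, q, rfl⟩ := Submodule.mem_span_pair.1 hy <;>
      simp [QuadraticMap.polar_add_right, QuadraticMap.polar_smul_right, p31, p32, p41, p42])
  have hperp' : ∀ x ∈ R, x ∈ oPerp B R' := fun x hx y hy => by
    rw [QuadraticMap.polar_comm]; exact hperp hy x hx
  have hnR := nondeg_of_negated h2 hsep hgn hgf
  have hnR' := nondeg_of_negated h2 hsep hkn hkf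
  obtain ⟨-, hdim⟩ := nondeg_sup hnR hnR' hperp
  have hneg : ∀ x ∈ R ⊔ R', (g * k).1 x = -x := fun x hx => by
    obtain ⟨a, ha, b, hb, rfl⟩ := Submodule.mem_sup.1 hx
    show g.1 (k.1 (a + b)) = _
    rw [map_add, map_add, hkf a (hperp' a ha), hgn a ha, hkn b hb, map_neg, hgf b (hperp hb)]
    abel
  have hfix : ∀ x ∈ oPerp B (R ⊔ R'), (g * k).1 x = x := fun x hx => by
    show g.1 (k.1 x) = x
    rw [hkf x fun y hy => hx y (Submodule.mem_sup_right hy), hgf x fun y hy => hx y (Submodule.mem_sup_left hy)]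
  have hleP : R ⊔ R' ≤ P := sup_le
    (Submodule.span_le.2 (by rintro x (rfl | rfl); exacts [m₁, m₂.1]))
    (Submodule.span_le.2 (by rintro x (rfl | rfl); exacts [m₃.1.1, m₄.1.1.1]))
  refine ⟨g * k, mul_mem hg hk, fun x => ?_, R ⊔ R', hleP, by rw [hdim, hR, hR'], ?_, hneg, hfix⟩
  · obtain ⟨a, ha, b, hb, rfl⟩ := Submodule.mem_sup.1 (show x ∈ (R ⊔ R') ⊔ oPerp B (R ⊔ R') by
      rw [sup_oPerp (nondeg_sup hnR hnR' hperp).1]; trivial)
    rw [map_add, hneg a ha, hfix b hb, map_add, map_neg, hneg a ha, hfix b hb, neg_neg]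
  · obtain ⟨a, b, hab⟩ := exists_binary_eq h2 (one_ne_zero (α := K)) one_ne_zero (-1 : K)
    refine ⟨a • z₁ + b • z₂ + z₃, ?_, (-b) • z₁ + a • z₂ + z₄, ?_, ?_, ?_, ?_, fun e => ?_, fun hm => ?_⟩
    · exact add_mem (Submodule.mem_sup_left (Submodule.mem_span_pair.2 ⟨a, b, rfl⟩))
        (Submodule.mem_sup_right (Submodule.subset_span (by simp)))
    · exact add_mem (Submodule.mem_sup_left (Submodule.mem_span_pair.2 ⟨-b, a, rfl⟩))
        (Submodule.mem_sup_right (Submodule.subset_span (by simp)))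
    · rw [QuadraticMap.map_add (B : QuadraticMap K W K) (a • z₁ + b • z₂) z₃, quad_map_add_smul, quad_smul,
        QuadraticMap.polar_add_left, QuadraticMap.polar_smul_left, QuadraticMap.polar_smul_left,
        QuadraticMap.polar_smul_left, q₁, q₂, q₃, p12, p13, p23]
      simp only [smul_eq_mul, mul_zero, add_zero]
      linear_combination hab
    · rw [QuadraticMap.map_add (B : QuadraticMap K W K) ((-b) • z₁ + a • z₂) z₄, quad_map_add_smul, quad_smul,
        QuadraticMap.polar_add_left, QuadraticMap.polar_smul_left, QuadraticMap.polar_smul_left,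
        QuadraticMap.polar_smul_left, q₁, q₂, q₄, p12, p14, p24]
      simp only [smul_eq_mul, mul_zero, add_zero]
      linear_combination hab
    · simp only [QuadraticMap.polar_add_left, QuadraticMap.polar_add_right, QuadraticMap.polar_smul_left,
        QuadraticMap.polar_smul_right, polar_self_two, q₁, q₂, p12, p21, p14, p24, p31, p32, p34, smul_eq_mul]
      ring
    · have e' := congrArg (fun x => polar B x z₃) e
      simp only [QuadraticMap.polar_add_left, QuadraticMap.polar_smul_left, p13, p23, polar_self_two, q₃,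
        QuadraticMap.polar_zero_left, smul_zero, zero_add, mul_one] at e'
      exact h2 e'
    · obtain ⟨c, hc⟩ := Submodule.mem_span_singleton.1 hm
      have e' := congrArg (fun x => polar B x z₄) hc
      simp only [QuadraticMap.polar_add_left, QuadraticMap.polar_smul_left, p14, p24, p34, polar_self_two, q₄,
        smul_zero, zero_add, mul_one, smul_eq_mul, mul_zero] at e'
      exact h2 e'.symm

/-- two orthogonal anisotropic planes have a singular pair -/
theorem hasPair_of_aniso (h2 : (2 : K) ≠ 0) {P X : Submodule K W} (hP : Nondeg B P) (hX : Nondeg B X)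
    (hdP : 2 ≤ Module.finrank K P) (hdX : 2 ≤ Module.finrank K X) (hperp : X ≤ oPerp B P)
    (haP : ∀ v ∈ P, B v = 0 → v = 0) (haX : ∀ v ∈ X, B v = 0 → v = 0) : HasPair B (P ⊔ X) := by
  classical
  obtain ⟨p, hp, hQp⟩ := exists_one h2 hP hdP
  obtain ⟨r, hQr⟩ := exists_value (B.comp X.subtype) h2
    (fun x hx => Subtype.ext (hX x x.2 fun y hy => hx ⟨y, hy⟩)) hdX (-1 : K) (neg_ne_zero.2 one_ne_zero)
  obtain ⟨r, hrX⟩ := r
  change B r = -1 at hQr
  have hp0 : p ≠ 0 := fun e => by rw [e, map_zero] at hQp; exact zero_ne_one hQp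
  have hr0 : r ≠ 0 := fun e => by rw [e, map_zero] at hQr; exact one_ne_zero (neg_eq_zero.1 hQr.symm)
  obtain ⟨p', hp', hp'0⟩ := (P ⊓ LinearMap.ker (B.polarBilin.flip p)).exists_mem_ne_zero_of_ne_bot fun e => by
    have := finrank_le_inf_ker P (B.polarBilin.flip p)
    rw [e, finrank_bot] at this; omega
  obtain ⟨r', hr', hr'0⟩ := (X ⊓ LinearMap.ker (B.polarBilin.flip r)).exists_mem_ne_zero_of_ne_bot fun e => by
    have := finrank_le_inf_ker X (B.polarBilin.flip r)
    rw [e, finrank_bot] at this; omega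
  have hpp : polar B p' p = 0 := hp'.2
  have hrr : polar B r' r = 0 := hr'.2
  -- the two binary forms are anisotropic
  have nsP : ¬ IsSquare (-B p') := by
    rintro ⟨d, hd⟩
    have h0 := haP (d • p + p') (add_mem (P.smul_mem d hp) hp'.1) (by
      rw [QuadraticMap.map_add (B : QuadraticMap K W K) (d • p) p', quad_smul, hQp,
        QuadraticMap.polar_smul_left, QuadraticMap.polar_comm B p p', hpp, smul_zero]
      linear_combination -hd)
    have e := congrArg (fun x => polar B x p') h0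
    simp only [QuadraticMap.polar_add_left, QuadraticMap.polar_smul_left, QuadraticMap.polar_comm B p p',
      hpp, polar_self_two, QuadraticMap.polar_zero_left, smul_zero, zero_add] at e
    exact hp'0 (haP p' hp'.1 ((mul_eq_zero.1 e).resolve_left h2))
  have nsX : ¬ IsSquare (B r') := by
    rintro ⟨d, hd⟩
    have h0 := haX (d • r + r') (add_mem (X.smul_mem d hrX) hr'.1) (by
      rw [QuadraticMap.map_add (B : QuadraticMap K W K) (d • r) r', quad_smul, hQr,
        QuadraticMap.polar_smul_left, QuadraticMap.polar_comm B r r', hrr, smul_zero]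
      linear_combination hd)
    have e := congrArg (fun x => polar B x r') h0
    simp only [QuadraticMap.polar_add_left, QuadraticMap.polar_smul_left, QuadraticMap.polar_comm B r r',
      hrr, polar_self_two, QuadraticMap.polar_zero_left, smul_zero, zero_add] at e
    exact hr'0 (haX r' hr'.1 ((mul_eq_zero.1 e).resolve_left h2))
  obtain ⟨δ, hδ⟩ := isSquare_mul_of_not _ _ nsP nsX
  have hQr'0 : B r' ≠ 0 := fun e => hr'0 (haX r' hr'.1 e)
  obtain ⟨lam, hlam⟩ : ∃ l, l = δ / B r' := ⟨_, rfl⟩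
  have hQy : B p' + lam * lam * B r' = 0 := by
    rw [hlam]; field_simp; linear_combination -hδ
  have x1 : ∀ {a b : W}, a ∈ P → b ∈ X → polar B a b = 0 := fun ha hb => by
    rw [QuadraticMap.polar_comm]; exact hperp hb _ ha
  have x2 : ∀ {a b : W}, a ∈ P → b ∈ X → polar B b a = 0 := fun ha hb => hperp hb _ ha
  refine ⟨p + r, add_mem (Submodule.mem_sup_left hp) (Submodule.mem_sup_right hrX), p' + lam • r',
    add_mem (Submodule.mem_sup_left hp'.1) (Submodule.mem_sup_right (X.smul_mem _ hr'.1)), ?_, ?_, ?_,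
    fun e => ?_, fun hm => ?_⟩
  · rw [QuadraticMap.map_add (B : QuadraticMap K W K) p r, hQp, hQr, x1 hp hrX]; ring
  · rw [quad_map_add_smul, x1 hp'.1 hr'.1]; linear_combination hQy
  · rw [QuadraticMap.polar_add_left, QuadraticMap.polar_add_right, QuadraticMap.polar_add_right,
      QuadraticMap.polar_smul_right, QuadraticMap.polar_smul_right, QuadraticMap.polar_comm B p p', hpp,
      QuadraticMap.polar_comm B r r', hrr, x1 hp hr'.1, x2 hp'.1 hrX]
    simp
  · have e' := congrArg (fun x => polar B x p) e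
    simp only [QuadraticMap.polar_add_left, x2 hp hrX, polar_self_two, hQp, QuadraticMap.polar_zero_left,
      add_zero, mul_one] at e'
    exact h2 e'
  · obtain ⟨c, hc⟩ := Submodule.mem_span_singleton.1 hm
    have e' := congrArg (fun x => polar B x p') hc
    simp only [QuadraticMap.polar_smul_left, QuadraticMap.polar_add_left, QuadraticMap.polar_comm B p p', hpp,
      x2 hp'.1 hrX, x2 hp'.1 hr'.1, polar_self_two, smul_zero, add_zero] at e'
    exact hp'0 (haP p' hp'.1 ((mul_eq_zero.1 e'.symm).resolve_left h2))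

end

variable {F V V₀ : Type*} [Field F] [Finite F] {F₀ : Subfield F} [AddCommGroup V] [Module F V]
  [AddCommGroup V₀] [Module F₀ V₀] [FiniteDimensional F₀ V₀] [FiniteDimensional F V]
variable {Q : QuadraticForm F V} {Q₀ : QuadraticForm F₀ V₀} {inc : V₀ →+ V}

namespace RatOrth

variable (A : RatOrth Q Q₀ inc)
include A

/-- spans of orthogonal rational subspaces meet trivially -/
theorem span_disjoint {P R : Submodule F₀ V₀} (hP : Nondeg Q₀ P) (hR : R ≤ oPerp Q₀ P) {z : V}
    (hz : z ∈ rSpan (F := F) inc P) (hz' : z ∈ rSpan (F := F) inc R) : z = 0 := by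
  refine A.eq_zero_of_perp fun x => ?_
  obtain ⟨a, ha, b, hb, rfl⟩ := Submodule.mem_sup.1 (show x ∈ P ⊔ oPerp Q₀ P by rw [sup_oPerp hP]; trivial)
  rw [map_add, QuadraticMap.polar_add_right, A.perp_span hb hz, add_zero]
  exact A.perp_span (fun y hy => by rw [QuadraticMap.polar_comm]; exact hR hy a ha) hz'

/-- an element preserving two nested rational subspaces preserves the difference -/
theorem pres_diff {g : quadIsoms Q} {P Y : Submodule F₀ V₀} (hP : Nondeg Q₀ P) (hPY : P ≤ Y)
    (hgY : Pres inc g Y) (hgP : Pres inc g P) : Pres inc g (Y ⊓ oPerp Q₀ P) := by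
  intro v hv
  have hsup : rSpan (F := F) inc Y ≤ rSpan (F := F) inc P ⊔ rSpan (F := F) inc (Y ⊓ oPerp Q₀ P) := by
    refine Submodule.span_le.2 ?_
    rintro _ ⟨w, hw, rfl⟩
    obtain ⟨a, ha, b, hb, rfl⟩ := Submodule.mem_sup.1 (show w ∈ P ⊔ oPerp Q₀ P by rw [sup_oPerp hP]; trivial)
    have hbY : b ∈ Y := by simpa using sub_mem hw (hPY ha)
    rw [map_add]
    exact add_mem (Submodule.mem_sup_left (Submodule.subset_span ⟨a, ha, rfl⟩))
      (Submodule.mem_sup_right (Submodule.subset_span ⟨b, ⟨hbY, hb⟩, rfl⟩))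
  obtain ⟨a, ha, b, hb, he⟩ := Submodule.mem_sup.1 (hsup (hgY v hv.1))
  suffices a = 0 by rw [← he, this, zero_add]; exact hb
  refine A.eq_zero_of_perp fun x => ?_
  obtain ⟨p, hp, q, hq, rfl⟩ := Submodule.mem_sup.1 (show x ∈ P ⊔ oPerp Q₀ P by rw [sup_oPerp hP]; trivial)
  rw [map_add, QuadraticMap.polar_add_right, A.perp_span hq ha, add_zero]
  obtain ⟨y, hy, hgy⟩ := hgP.surj (Submodule.subset_span ⟨p, hp, rfl⟩ : inc p ∈ rSpan (F := F) inc P)
  have h1 : polar Q (g.1 (inc v)) (inc p) = 0 := by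
    rw [← hgy, OrthSub.polar_map, QuadraticMap.polar_comm]; exact A.perp_span hv.2 hy
  have h3 : polar Q b (inc p) = 0 :=
    A.perp_span (fun w hw => by rw [QuadraticMap.polar_comm]; exact hw.2 p hp) hb
  rw [← he, QuadraticMap.polar_add_left, h3, add_zero] at h1
  exact h1

/-- the eigenspaces of a lifted involution -/
theorem eig_of_negated (h2 : (2 : F) ≠ 0) {x : quadIsoms Q} {x₀ : quadIsoms Q₀}
    (hJ : RatMap inc x (x₀.1 : V₀ →ₗ[F₀] V₀)) (hxx : ∀ z, x₀.1 (x₀.1 z) = z) {R : Submodule F₀ V₀}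
    (hn : ∀ z ∈ R, x₀.1 z = -z) (hf : ∀ z ∈ oPerp Q₀ R, x₀.1 z = z) :
    x * x = 1 ∧ Nondeg Q₀ R ∧ eig (x₀.1 : V₀ →ₗ[F₀] V₀) (-1) = R ∧
      eig (x₀.1 : V₀ →ₗ[F₀] V₀) 1 = oPerp Q₀ R ∧ Module.finrank F (qEig x (-1)) = Module.finrank F₀ R := by
  have h20 := A.two₀ h2
  have hx2 : x * x = 1 := A.isom_ext fun z => by
    show x.1 (x.1 (inc z)) = inc z
    rw [hJ, hJ]; exact congrArg inc (hxx z)
  have hR := nondeg_of_negated h20 A.sep₀ hn hf
  have l1 : R ≤ eig (x₀.1 : V₀ →ₗ[F₀] V₀) (-1) := fun z hz => by rw [mem_eig, neg_one_smul]; exact hn z hz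
  have l2 : oPerp Q₀ R ≤ eig (x₀.1 : V₀ →ₗ[F₀] V₀) 1 := fun z hz => by rw [mem_eig, one_smul]; exact hf z hz
  have h1 := Submodule.finrank_mono l1
  have h3 := Submodule.finrank_mono l2
  have h4 := finrank_eig_add h20 (A.ratMap_sq hJ hx2)
  have h5 := finrank_oPerp hR
  have e1 := (Submodule.eq_of_le_of_finrank_le l1 (by omega)).symm
  exact ⟨hx2, hR, e1, (Submodule.eq_of_le_of_finrank_le l2 (by omega)).symm,
    by rw [(A.finrank_qEig h2 hJ hx2).2, e1]⟩

/-- an eigenspace of an involution meeting two orthogonal spans in a line at most -/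
theorem eig_or (h2 : (2 : F) ≠ 0) {t : quadIsoms Q} (ht : t * t = 1) {ε : F} (hε : ε * ε = 1)
    {P R : Submodule F₀ V₀} (hP : Nondeg Q₀ P) (hR : R ≤ oPerp Q₀ P) (htP : Pres inc t P)
    (htR : Pres inc t R) (K : Submodule F V) (hPK : rSpan (F := F) inc P ≤ K)
    (hRK : rSpan (F := F) inc R ≤ K) (hd : Module.finrank F (qEig t ε ⊓ K : Submodule F V) ≤ 1) :
    (∀ v ∈ P, t.1 (inc v) = -ε • inc v) ∨ ∀ v ∈ R, t.1 (inc v) = -ε • inc v := by
  by_contra hno
  push Not at hno
  obtain ⟨⟨v, hv, hv'⟩, w, hw, hw'⟩ := hno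
  have hmem : ∀ {S : Submodule F₀ V₀}, Pres inc t S → rSpan (F := F) inc S ≤ K → ∀ v ∈ S,
      inc v + ε • t.1 (inc v) ∈ rSpan (F := F) inc S ⊓ (qEig t ε ⊓ K) := by
    intro S hS hSK v hv
    have h1 : inc v + ε • t.1 (inc v) ∈ rSpan (F := F) inc S :=
      add_mem (Submodule.subset_span ⟨v, hv, rfl⟩) (Submodule.smul_mem _ _ (hS v hv))
    refine ⟨h1, ?_, hSK h1⟩
    show _ ∈ qEig t ε
    rw [mem_eig]
    show t.1 (inc v + ε • t.1 (inc v)) = _
    rw [map_add, map_smul, show t.1 (t.1 (inc v)) = inc v from congrArg (fun m : quadIsoms Q => m.1 (inc v)) ht,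
      smul_add, smul_smul, hε, one_smul, add_comm]
  have hne : ∀ {v : V₀}, t.1 (inc v) ≠ -ε • inc v → inc v + ε • t.1 (inc v) ≠ 0 := fun h e => h (by
    have e' := congrArg (ε • ·) e
    simp only [smul_add, smul_smul, hε, one_smul, smul_zero] at e'
    rw [neg_smul]
    exact eq_neg_of_add_eq_zero_right e')
  have a := hmem htP hPK v hv
  have b := hmem htR hRK w hw
  have hli : LinearIndependent F ![inc v + ε • t.1 (inc v), inc w + ε • t.1 (inc w)] := by
    refine (LinearIndependent.pair_iff' (hne hv')).2 fun k hk => hne hw' ?_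
    exact A.span_disjoint hP hR (hk ▸ Submodule.smul_mem _ k a.1) b.1
  have h2' := finrank_span_eq_card hli
  rw [Matrix.range_cons_cons_empty, Fintype.card_fin] at h2'
  have hle := Submodule.finrank_mono (Submodule.span_le.2 (by
    rintro x (rfl | rfl)
    exacts [a.2, b.2]) : Submodule.span F {inc v + ε • t.1 (inc v), inc w + ε • t.1 (inc w)} ≤ qEig t ε ⊓ K)
  omega

/-- the inverse of a rational element -/
theorem krat_inv {g : quadIsoms Q} (h : KRat inc g) : KRat inc g⁻¹ := by
  obtain ⟨c, hc, h⟩ := h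
  choose f hf using h
  haveI : Finite V₀ := Module.finite_of_finite F₀
  have hinj : Function.Injective f := fun a b e => A.inj (g.1.injective (smul_right_injective V hc
    (by show c • g.1 (inc a) = c • g.1 (inc b); rw [hf, hf, e])))
  refine ⟨c⁻¹, inv_ne_zero hc, fun x => ?_⟩
  obtain ⟨y, rfl⟩ := Finite.injective_iff_surjective.1 hinj x
  refine ⟨y, g.1.injective ?_⟩
  rw [map_smul, OrthSub.apply_inv, ← hf, smul_smul, inv_mul_cancel₀ hc, one_smul]

end RatOrth

namespace RatCtx

variable {M : Subgroup (quadIsoms Q)} (C : RatCtx Q Q₀ inc M) (h2 : (2 : F) ≠ 0)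
include C h2

/-- the number of negated directions is even -/
theorem even_neg {x : quadIsoms Q} (hxM : x ∈ M) (hx : x * x = 1) : Even (Module.finrank F (qEig x (-1))) := by
  have hd := det_of_invol h2 (f := (x.1 : V →ₗ[F] V))
    fun w => congrArg (fun k : quadIsoms Q => k.1 w) hx
  rw [det_of_mem_commutator (C.le hxM)] at hd
  exact (neg_one_pow_eq_one_iff_even (fun h => h2 (by linear_combination -h))).1 hd.symm

/-- a conjugate Siegel transformation that is rational -/
theorem conj_rat {g : quadIsoms Q} (hg : g ∈ M) {u y : V₀} (hu : Q₀ u = 0) (hy : Q₀ y = 0)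
    (huy : polar Q₀ u y = 0) (hu0 : u ≠ 0) (hi : y ∉ Submodule.span F₀ {u})
    (hT : KRat inc (g⁻¹ * siegel Q (inc u) (inc y) * g)) : KRat inc g := by
  classical
  have A := C.base
  obtain ⟨a, ha⟩ : ∃ a, a = (g⁻¹).1 (inc u) := ⟨_, rfl⟩
  obtain ⟨b, hb⟩ : ∃ b, b = (g⁻¹).1 (inc y) := ⟨_, rfl⟩
  have hga : g.1 a = inc u := by rw [ha, OrthSub.apply_inv]
  have hgb : g.1 b = inc y := by rw [hb, OrthSub.apply_inv]
  have hQa : Q a = 0 := by rw [← g.2 a, hga, A.quad_zero hu]
  have hQb : Q b = 0 := by rw [← g.2 b, hgb, A.quad_zero hy]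
  have hab : polar Q a b = 0 := by rw [← OrthSub.polar_map g, hga, hgb, A.pol_zero huy]
  rw [show g⁻¹ * siegel Q (inc u) (inc y) * g = siegel Q a b by
    rw [ha, hb, show g⁻¹ * siegel Q (inc u) (inc y) * g = g⁻¹ * siegel Q (inc u) (inc y) * (g⁻¹)⁻¹ by
      rw [inv_inv], siegel_conj]] at hT
  obtain ⟨c, hc, h⟩ := hT
  choose J hJ using h
  have hX : ∀ z, (siegel Q a b).1 z = z + polar Q a z • b - polar Q b z • a := fun z => by
    rw [siegel_apply Q hQa hab, hQb, zero_mul, add_zero]
  have hnil : ∀ z, (siegel Q a b).1 (polar Q a z • b - polar Q b z • a) = polar Q a z • b - polar Q b z • a :=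
    fun z => by
      rw [hX]
      simp [QuadraticMap.polar_sub_right, QuadraticMap.polar_smul_right, hab, polar_self_of_singular Q hQa,
        polar_self_of_singular Q hQb, QuadraticMap.polar_comm _ b a]
  have hne : ∃ z, J z ∉ Submodule.span F₀ {z} := by
    by_contra hall
    push Not at hall
    have hone : ∀ z, (siegel Q a b).1 (inc z) = inc z := by
      intro z
      obtain ⟨k, hk⟩ := Submodule.mem_span_singleton.1 (hall z)
      have e := hJ z
      rw [← hk, A.inc_smul] at e
      rcases eq_or_ne z 0 with rfl | hz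
      · simp
      have e2 : (siegel Q a b).1 (inc z) = (c⁻¹ * (k : F)) • inc z := by
        rw [← smul_smul, ← e, smul_smul, inv_mul_cancel₀ hc, one_smul]
      obtain ⟨d, hd⟩ : ∃ d, d = polar Q a (inc z) • b - polar Q b (inc z) • a := ⟨_, rfl⟩
      have hdd := hnil (inc z)
      rw [← hd] at hdd
      have e3 : d = (c⁻¹ * (k : F) - 1) • inc z := by
        rw [sub_smul, one_smul, ← e2, hX, hd]; abel
      rw [e3, map_smul, e2, smul_smul] at hdd
      have h0 : (c⁻¹ * (k : F) - 1) * (c⁻¹ * (k : F)) = c⁻¹ * (k : F) - 1 :=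
        smul_left_injective F (A.inc_ne hz) hdd
      have h1 : c⁻¹ * (k : F) = 1 := by
        have : (c⁻¹ * (k : F) - 1) * (c⁻¹ * (k : F) - 1) = 0 := by linear_combination h0
        exact sub_eq_zero.1 (mul_self_eq_zero.1 this)
      rw [e2, h1, one_smul]
    obtain ⟨w, -, hwy, hwu⟩ := A.exists_unit {y} (by simp) (b := u) (fun hm => by
      simp only [Finset.coe_singleton] at hm
      obtain ⟨k, hk⟩ := Submodule.mem_span_singleton.1 hm
      have hk0 : k ≠ 0 := fun e => hu0 (by rw [← hk, e, zero_smul])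
      exact hi (Submodule.mem_span_singleton.2 ⟨k⁻¹, by rw [← hk, smul_smul, inv_mul_cancel₀ hk0, one_smul]⟩))
    have hall' : siegel Q a b = 1 := A.isom_ext fun z => hone z
    have h1 : siegel Q (inc u) (inc y) = 1 := by
      rw [← hga, ← hgb, ← siegel_conj, hall', mul_one, mul_inv_cancel]
    have e := congrArg (fun m : quadIsoms Q => m.1 (inc w)) h1
    simp only [siegel_apply Q (A.quad_zero hu) (A.pol_zero huy), A.pol,
      QuadraticMap.polar_comm Q₀ u w, hwu, QuadraticMap.polar_comm Q₀ y w, hwy y (by simp), A.quad_zero hy] at e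
    have hy0 : y ≠ 0 := fun e' => hi (e' ▸ Submodule.zero_mem _)
    exact A.inc_ne hy0 (by simpa using e)
  obtain ⟨z, hz⟩ := hne
  obtain ⟨d, hd⟩ : ∃ d, d = polar Q a (inc z) • b - polar Q b (inc z) • a := ⟨_, rfl⟩
  have e1 : inc (J z) = c • inc z + c • d := by
    rw [← hJ, hX, ← smul_add, hd]; congr 1; abel
  have e2 : inc (J (J z)) = (c * c) • inc z + (2 * c * c) • d := by
    have hdd := hnil (inc z)
    rw [← hd] at hdd
    rw [← hJ, e1, map_add, map_smul, map_smul, hdd,
      show (siegel Q a b).1 (inc z) = inc z + d by rw [hX, hd]; abel]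
    module
  have hz0 : z ∉ Submodule.span F₀ ({} : Set V₀) := fun h => hz (by
    rw [Submodule.span_empty, Submodule.mem_bot] at h
    subst h
    have hJ0 : J 0 = 0 := A.inj (by rw [← hJ, map_zero, map_zero, smul_zero])
    rw [hJ0]; exact Submodule.zero_mem _)
  obtain ⟨w, -, hwz, hwJ⟩ := A.exists_unit {z} (by simp) (b := J z) (by simpa using hz)
  have hcm : c ∈ F₀ := by
    have f1 := congrArg (fun x => polar Q x (inc w)) e1
    have f2 := congrArg (fun x => polar Q x (inc w)) e2
    simp only [QuadraticMap.polar_add_left, QuadraticMap.polar_smul_left, A.pol,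
      QuadraticMap.polar_comm Q₀ z w, hwz z (by simp), QuadraticMap.polar_comm Q₀ (J z) w, hwJ,
      ZeroMemClass.coe_zero, OneMemClass.coe_one, smul_eq_mul, mul_zero, zero_add] at f1 f2
    have e3 : (2 : F) * c = ((polar Q₀ (J (J z)) w : F₀) : F) := by linear_combination (2 * c) * f1 - f2
    have e4 : c = ((polar Q₀ (J (J z)) w : F₀) : F) / 2 := by rw [eq_div_iff h2]; linear_combination e3
    rw [e4]
    exact div_mem (SetLike.coe_mem _) (natCast_mem _ 2)
  obtain ⟨r, hr⟩ : ∃ r, r = J z - (⟨c, hcm⟩ : F₀) • z := ⟨_, rfl⟩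
  have hr0 : r ≠ 0 := fun e => hz (by
    rw [sub_eq_zero.1 (hr.symm.trans e)]
    exact Submodule.smul_mem _ _ (Submodule.mem_span_singleton_self z))
  have hir : inc r = c • d := by rw [hr, map_sub, A.inc_smul, e1]; abel
  have hQr : Q₀ r = 0 := Subtype.ext (by
    rw [← A.quad, hir, quad_smul, hd, sub_eq_add_neg, ← neg_smul, quad_map_add_smul, quad_smul, hQa, hQb,
      QuadraticMap.polar_smul_left, QuadraticMap.polar_comm _ b a, hab]
    simp)
  refine C.pair_rat hg hQr hr0 hu hy huy hu0 hi ?_ ?_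
  · rw [hir, map_smul, hd, map_sub, map_smul, map_smul, hga, hgb]
    simp [QuadraticMap.polar_smul_left, QuadraticMap.polar_sub_left,
      A.pol_zero (show polar Q₀ y u = 0 by rw [QuadraticMap.polar_comm]; exact huy),
      polar_self_of_singular Q (A.quad_zero hu)]
  · rw [hir, map_smul, hd, map_sub, map_smul, map_smul, hga, hgb]
    simp [QuadraticMap.polar_smul_left, QuadraticMap.polar_sub_left, A.pol_zero huy,
      polar_self_of_singular Q (A.quad_zero hy)]

/-- a rational conjugate of an involution with rational centraliser -/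
theorem rat_of_centraliser {g t : quadIsoms Q} (hg : g ∈ M) (ht : t * t = 1)
    (hC : ∀ x ∈ M, Commute t x → KRat inc x) {J : V₀ →ₗ[F₀] V₀} (hJ : RatMap inc (g * t * g⁻¹) J)
    {e : F₀} (he : e * e = 1) (h5 : 5 ≤ Module.finrank F₀ (eig J e)) : KRat inc g := by
  have A := C.base
  have ht' : g * t * g⁻¹ * (g * t * g⁻¹) = 1 := by
    rw [show g * t * g⁻¹ * (g * t * g⁻¹) = g * (t * t) * g⁻¹ by group, ht, mul_one, mul_inv_cancel]
  obtain ⟨u, hu, y, hy, hQu, hQy, huy, hu0, hyu⟩ := exists_pair_five A.sep₀ (A.eig_perp h2 hJ ht' he).1 h5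
  rw [mem_eig] at hu hy
  refine C.conj_rat h2 hg hQu hQy huy hu0 hyu (hC _ (mul_mem (mul_mem (inv_mem hg) (C.mem u y hQu huy)) hg) ?_)
  have hS : Commute (g * t * g⁻¹) (siegel Q (inc u) (inc y)) := by
    have hse : siegel Q ((e : F) • inc u) ((e : F) • inc y) = siegel Q (inc u) (inc y) := by
      refine quadIsoms_ext Q fun z => ?_
      have he' : (e : F) * e = 1 := congrArg Subtype.val he
      rw [siegel_apply Q (by rw [quad_smul, A.quad_zero hQu, mul_zero])
          (by rw [QuadraticMap.polar_smul_left, QuadraticMap.polar_smul_right, A.pol_zero huy, smul_zero, smul_zero]),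
        siegel_apply Q (A.quad_zero hQu) (A.pol_zero huy), QuadraticMap.polar_smul_left,
        QuadraticMap.polar_smul_left, quad_smul, A.quad_zero hQy]
      simp only [smul_eq_mul, mul_zero, zero_mul, add_zero, smul_smul]
      rw [show (e : F) * polar Q (inc u) z * e = polar Q (inc u) z by linear_combination (polar Q (inc u) z) * he',
        show (e : F) * polar Q (inc y) z * e = polar Q (inc y) z by linear_combination (polar Q (inc y) z) * he']
    have h := siegel_conj (Q := Q) (g := g * t * g⁻¹) (inc u) (inc y)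
    rw [hJ, hJ, hu, hy, A.inc_smul, A.inc_smul, hse] at h
    exact mul_inv_eq_iff_eq_mul.1 h
  calc t * (g⁻¹ * siegel Q (inc u) (inc y) * g)
      = g⁻¹ * ((g * t * g⁻¹) * siegel Q (inc u) (inc y)) * g := by group
    _ = g⁻¹ * (siegel Q (inc u) (inc y) * (g * t * g⁻¹)) * g := by rw [hS.eq]
    _ = g⁻¹ * siegel Q (inc u) (inc y) * g * t := by group

end RatCtx

end CfsgLib.MaxSub
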