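import Mathlib

/-!
In a finite field with an involution, every quadratic with fixed coefficients has a root.
-/

set_option autoImplicit false
set_option linter.style.haveILetI false

namespace CfsgLib.MaxSub.TForm

open Polynomial

theorem exists_root_real {F : Type*} [Field F] [Finite F] {σ : F →+* F} (hσ : ∀ a, σ (σ a) = a)
    (hne : σ ≠ RingHom.id F) {s m : F} (hs : σ s = s) (hm : σ m = m) :
    ∃ x : F, x ^ 2 + s * x + m = 0 := by
  classical
  haveI := Fintype.ofFinite F
  let K : Subfield F := σ.eqLocusField (RingHom.id F)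
  have hK : ∀ a : F, a ∈ K ↔ σ a = a := fun a => Iff.rfl
  obtain ⟨θ, hθ⟩ : ∃ θ, σ θ ≠ θ := by
    by_contra h
    simp only [not_exists, not_not] at h
    exact hne (RingHom.ext h)
  have hd : θ - σ θ ≠ 0 := sub_ne_zero.2 hθ.symm
  have hcard : Fintype.card F = Fintype.card K * Fintype.card K := by
    rw [← Fintype.card_prod]
    refine (Fintype.card_of_bijective (f := fun p : K × K => (p.1 : F) + p.2 * θ) ⟨?_, ?_⟩).symm
    · rintro ⟨a, b⟩ ⟨a', b'⟩ h
      have h' : (a : F) + b * θ = a' + b' * θ := h
      have h2 := congrArg σ h'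
      simp only [map_add, map_mul, (hK _).1 a.2, (hK _).1 b.2, (hK _).1 a'.2, (hK _).1 b'.2] at h2
      have hb : (b : F) = b' := mul_right_cancel₀ hd (by linear_combination h' - h2)
      exact Prod.ext (Subtype.ext (by linear_combination h' - θ * hb)) (Subtype.ext hb)
    · intro x
      obtain ⟨b, hb⟩ : ∃ b, b = (x - σ x) / (θ - σ θ) := ⟨_, rfl⟩
      have hbm : σ b = b := by
        rw [hb, map_div₀, map_sub, map_sub, hσ, hσ, ← neg_sub x, ← neg_sub θ, neg_div_neg_eq]
      have hb' : b * (θ - σ θ) = x - σ x := by rw [hb, div_mul_cancel₀ _ hd]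
      refine ⟨(⟨x - b * θ, (hK _).2 ?_⟩, ⟨b, (hK _).2 hbm⟩), by simp⟩
      rw [map_sub, map_mul, hbm]
      linear_combination hb'
  obtain ⟨f, hf⟩ : ∃ f : Polynomial K, f = X ^ 2 + C ⟨s, hs⟩ * X + C ⟨m, hm⟩ := ⟨_, rfl⟩
  have hdeg : f.natDegree = 2 := by rw [hf]; compute_degree!
  have key : ∀ x : F, (f.map (algebraMap K F)).IsRoot x → x ^ 2 + s * x + m = 0 := fun x hx => by
    have h := hx
    simp [hf] at h
    exact h
  by_cases hr : ∃ t : K, f.IsRoot t
  · obtain ⟨t, ht⟩ := hr
    exact ⟨t, key _ (ht.map (f := algebraMap K F))⟩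
  simp only [not_exists] at hr
  have hirr : Irreducible f := irreducible_of_degree_le_three_of_not_isRoot (by simp [hdeg]) hr
  haveI := Fact.mk hirr
  let pb := AdjoinRoot.powerBasis hirr.ne_zero
  haveI : Module.Finite K (AdjoinRoot f) := pb.finite
  haveI : Finite (AdjoinRoot f) := Module.finite_of_finite K
  let _ : Fintype (AdjoinRoot f) := Fintype.ofFinite _
  have hc2 : Fintype.card (AdjoinRoot f) = Fintype.card F := by
    rw [hcard, ← sq, Module.card_eq_pow_finrank (K := K), pb.finrank]
    simp [pb, hdeg]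
  have hdvd : f ∣ X ^ Fintype.card F - X := by
    rw [← AdjoinRoot.mk_eq_zero, map_sub, map_pow, AdjoinRoot.mk_X, ← hc2, FiniteField.pow_card, sub_self]
  have hne0 : (X ^ Fintype.card F - X : Polynomial F) ≠ 0 :=
    FiniteField.X_pow_card_sub_X_ne_zero F Fintype.one_lt_card
  have hm' : f.map (algebraMap K F) ∣ X ^ Fintype.card F - X := by
    have := Polynomial.map_dvd (algebraMap K F) hdvd
    simpa using this
  obtain ⟨g, hg⟩ := hm'
  by_contra hno
  simp only [not_exists] at hno
  have hgr : ∀ x : F, g.IsRoot x := fun x => by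
    have h : ((f.map (algebraMap K F)) * g).eval x = 0 := by rw [← hg]; simp [FiniteField.pow_card]
    rw [eval_mul] at h
    exact (mul_eq_zero.1 h).resolve_left fun h' => hno x (key x h')
  have hg0 : g ≠ 0 := fun h => hne0 (by rw [hg, h, mul_zero])
  have h1 : Fintype.card F ≤ g.natDegree := by
    calc Fintype.card F = (Finset.univ : Finset F).card := rfl
      _ ≤ g.roots.toFinset.card := Finset.card_le_card fun x _ => by
          rw [Multiset.mem_toFinset, mem_roots hg0]; exact hgr x
      _ ≤ g.natDegree := (Multiset.toFinset_card_le _).trans (card_roots' g)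
  have hfn : f.map (algebraMap K F) ≠ 0 := fun h => hne0 (by rw [hg, h, zero_mul])
  have h2 := congrArg natDegree hg
  rw [FiniteField.X_pow_card_sub_X_natDegree_eq F Fintype.one_lt_card, natDegree_mul hfn hg0,
    natDegree_map, hdeg] at h2
  omega

end CfsgLib.MaxSub.TForm
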