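import Cfsg.Agent.Lib.MaxSub.SemiCriterion
import Cfsg.Prelude.Def_GeometricClasses

/-!
Spanning pieces for an element of prime order modulo scalars, and decompositions from spanning families.
-/

set_option autoImplicit false

namespace CfsgLib.MaxSub.SemiPieces

open CfsgLib.MaxSub.SemiDims

universe u v

variable {F : Type u} [Field F]

theorem finrank_biSup_le {V : Type v} [AddCommGroup V] [Module F V] [FiniteDimensional F V] {α : Type*}
    (D : α → Submodule F V) (s : Finset α) :
    Module.finrank F ↥(⨆ i ∈ s, D i) ≤ ∑ i ∈ s, Module.finrank F ↥(D i) := by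
  classical
  induction s using Finset.induction_on with
  | empty => simp
  | insert b s hb ih =>
    rw [Finset.iSup_insert, Finset.sum_insert hb]
    exact (Submodule.finrank_add_le_finrank_add_finrank _ _).trans (by omega)

/-- A spanning family of small members is a decomposition. -/
theorem isMDecomposition_of_span {n a t : ℕ} (ht : 2 ≤ t) (ha : 1 ≤ a) (hat : n = a * t)
    {D : Fin t → Submodule F (Fin n → F)} (hdim : ∀ j, Module.finrank F ↥(D j) ≤ a) (hsup : iSup D = ⊤) :
    Cfsg.Geo.IsMDecomposition a D := by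
  classical
  have hle : n ≤ ∑ j, Module.finrank F ↥(D j) := by
    have h := finrank_biSup_le D Finset.univ
    rw [show (⨆ i ∈ (Finset.univ : Finset (Fin t)), D i) = iSup D from
      iSup_congr fun i => iSup_pos (Finset.mem_univ i)] at h
    rwa [hsup, finrank_top, Module.finrank_fin_fun] at h
  have hsum : ∑ j, Module.finrank F ↥(D j) ≤ n := by
    refine (Finset.sum_le_sum fun j _ => hdim j).trans ?_
    rw [Finset.sum_const, Finset.card_univ, Fintype.card_fin, smul_eq_mul, hat, mul_comm]
  have heq : ∀ j, Module.finrank F ↥(D j) = a := fun j => by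
    refine le_antisymm (hdim j) ?_
    by_contra hlt
    have : ∑ l, Module.finrank F ↥(D l) < ∑ _l : Fin t, a :=
      Finset.sum_lt_sum (fun l _ => hdim l) ⟨j, Finset.mem_univ j, not_le.1 hlt⟩
    rw [Finset.sum_const, Finset.card_univ, Fintype.card_fin, smul_eq_mul, mul_comm t a, ← hat] at this
    omega
  refine ⟨ht, ha, heq, fun j => ?_, hsup⟩
  rw [disjoint_iff, ← Submodule.finrank_eq_zero (R := F)]
  have h1 := Submodule.finrank_sup_add_finrank_inf_eq (D j) (⨆ l ≠ j, D l)
  have h2 : D j ⊔ (⨆ l ≠ j, D l) = ⊤ := by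
    rw [eq_top_iff, ← hsup]
    refine iSup_le fun l => ?_
    by_cases hl : l = j
    · subst hl; exact le_sup_left
    · exact le_sup_of_le_right (le_iSup₂_of_le l hl le_rfl)
  have h3 : Module.finrank F ↥(⨆ l ≠ j, D l) ≤ ∑ l ∈ Finset.univ.erase j, Module.finrank F ↥(D l) := by
    have h := finrank_biSup_le D (Finset.univ.erase j)
    rwa [show (⨆ i ∈ Finset.univ.erase j, D i) = ⨆ l ≠ j, D l from
      iSup_congr fun l => iSup_congr_Prop (by simp) fun _ => rfl] at h
  rw [h2, finrank_top, Module.finrank_fin_fun] at h1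
  have h4 := Finset.add_sum_erase Finset.univ (fun l => Module.finrank F ↥(D l)) (Finset.mem_univ j)
  omega

variable [Fintype F] {V : Type v} [AddCommGroup V] [Module F V] [FiniteDimensional F V]

/-- Minimal pieces of an element of order `r`. -/
theorem exists_pieces {T : Module.End F V} {r c : ℕ} [Fact r.Prime] (hrF : (r : F) ≠ 0)
    (hc : orderOf (Fintype.card F : ZMod r) = c) (hc0 : 0 < c) (hT : T ^ r = 1) :
    ∃ (e B : ℕ) (u : Fin e → V) (X : Fin B → Submodule F V), e + c * B = Module.finrank F V ∧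
      e = Module.finrank F ↥(LinearMap.ker (T - 1)) ∧
      (∀ i, T (u i) = u i) ∧ (∀ b, (X b).map T ≤ X b) ∧ (∀ b, X b ≠ ⊥) ∧ (∀ b, Module.finrank F ↥(X b) ≤ c) ∧
      (∀ b, ∀ Z : Submodule F V, Z.map T ≤ Z → Z ≤ X b → Z ≠ ⊥ → Z = X b) ∧
      Submodule.span F (Set.range u) ⊔ iSup X = ⊤ := by
  classical
  set E := LinearMap.ker (T - 1) with hE
  set R := LinearMap.range (T - 1) with hR
  have hdR : Module.finrank F R + Module.finrank F E = Module.finrank F V := (T - 1).finrank_range_add_finrank_ker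
  have hRinv : R.map T ≤ R := by
    rintro _ ⟨_, ⟨v, rfl⟩, rfl⟩
    exact ⟨T v, by simp⟩
  have hdis : ∀ w, w ∈ E → w ∈ R → w = 0 := by
    rintro w hw ⟨v, rfl⟩
    have hw' : T ((T - 1) v) = (T - 1) v := by
      have : (T - 1) ((T - 1) v) = 0 := hw
      rwa [LinearMap.sub_apply (T) 1, Module.End.one_apply, sub_eq_zero] at this
    have hj : ∀ j : ℕ, (T ^ j) v = v + (j : F) • (T - 1) v := by
      intro j
      induction j with
      | zero => simp
      | succ j ih =>
        rw [pow_succ', Module.End.mul_apply, ih, map_add, map_smul, hw', Nat.cast_succ, add_smul, one_smul,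
          LinearMap.sub_apply, Module.End.one_apply]
        abel
    have h := hj r
    rw [hT, Module.End.one_apply, left_eq_add, smul_eq_zero] at h
    exact h.resolve_left hrF
  have hmod : ∀ X : Submodule F V, X.map T ≤ X → X ≤ R → c ∣ Module.finrank F X := fun X hX hXR => by
    have h := finrank_modEq hrF hT hX
    have h0 : X ⊓ LinearMap.ker (T - 1) = ⊥ := by
      rw [Submodule.eq_bot_iff]
      rintro w ⟨hw, hw'⟩
      exact hdis w hw' (hXR hw)
    rw [hc, h0, finrank_bot] at h
    exact Nat.modEq_zero_iff_dvd.1 h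
  have hdvd : r ∣ Fintype.card F ^ c - 1 := hc ▸ CfsgLib.MaxSub.SemiCriterion.dvd_pow_order
  have hk : ∀ (Q : Type v) [AddCommGroup Q] [Module F Q] [Nontrivial Q] [FiniteDimensional F Q] (S : Module.End F Q),
      S ^ r = (1 : F) • (1 : Module.End F Q) → (∀ R : Submodule F Q, R.map S ≤ R → R = ⊥ ∨ R = ⊤) →
      Module.finrank F Q ≤ c :=
    fun Q _ _ _ _ S hS hs => simple_le_ord hc0 hdvd (by rw [hS, one_smul]) hs
  have hT1 : T ^ r = (1 : F) • (1 : Module.End F V) := by rw [hT, one_smul]
  have chainX : ∀ B, c * B ≤ Module.finrank F R → ∃ X : Fin B → Submodule F V,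
      (∀ b, (X b).map T ≤ X b ∧ X b ≤ R ∧ Module.finrank F ↥(X b) = c) ∧ Module.finrank F ↥(iSup X) = c * B := by
    intro B
    induction B with
    | zero => intro _; exact ⟨Fin.elim0, fun b => b.elim0, by simp⟩
    | succ B ih =>
      intro hB
      rw [Nat.mul_succ] at hB
      obtain ⟨X, hX, hXd⟩ := ih (by omega)
      have hUi : (iSup X).map T ≤ iSup X := by rw [Submodule.map_iSup]; exact iSup_mono fun b => (hX b).1
      have hUR : iSup X ≤ R := iSup_le fun b => (hX b).2.1
      obtain ⟨W, hW, hWi⟩ := exists_compl hrF one_ne_zero hT1 hUi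
      have hWR : (W ⊓ R).map T ≤ W ⊓ R := (Submodule.map_inf_le _).trans (inf_le_inf hWi hRinv)
      have hne : ⊥ < W ⊓ R := by
        rw [bot_lt_iff_ne_bot]
        intro h0
        have h1 : R ≤ iSup X := by
          have : (iSup X ⊔ W) ⊓ R = iSup X ⊔ W ⊓ R := sup_inf_assoc_of_le W hUR
          rw [hW.sup_eq_top, top_inf_eq, h0, sup_bot_eq] at this
          exact this.le
        have := Submodule.finrank_mono h1
        omega
      obtain ⟨Y, hY, hY0, hYW, hYd⟩ := step hT1 hk (U := ⊥) (by simp) hWR hne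
      rw [finrank_bot, zero_add] at hYd
      have hYc : Module.finrank F ↥Y = c := by
        refine le_antisymm hYd (Nat.le_of_dvd ?_ (hmod Y hY (hYW.trans inf_le_right)))
        have := Submodule.finrank_lt_finrank_of_lt hY0
        rwa [finrank_bot] at this
      refine ⟨Fin.cons Y X, fun b => ?_, ?_⟩
      · refine Fin.cases ?_ ?_ b
        · rw [Fin.cons_zero]; exact ⟨hY, hYW.trans inf_le_right, hYc⟩
        · intro b; rw [Fin.cons_succ]; exact hX b
      · have hs : iSup (Fin.cons Y X) = Y ⊔ iSup X := by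
          refine le_antisymm (iSup_le fun b => ?_) (sup_le ?_ (iSup_le fun b => ?_))
          · refine Fin.cases ?_ ?_ b
            · rw [Fin.cons_zero]; exact le_sup_left
            · intro b; rw [Fin.cons_succ]; exact le_sup_of_le_right (le_iSup X b)
          · exact le_iSup_of_le 0 (by rw [Fin.cons_zero])
          · exact le_iSup_of_le b.succ (by rw [Fin.cons_succ])
        have h1 := Submodule.finrank_sup_add_finrank_inf_eq Y (iSup X)
        have h2 : Y ⊓ iSup X = ⊥ :=
          le_bot_iff.1 ((inf_le_inf_right _ (hYW.trans inf_le_left)).trans (hW.symm.inf_eq_bot).le)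
        rw [h2, finrank_bot, hYc, hXd] at h1
        rw [hs, Nat.mul_succ]
        omega
  obtain ⟨B, hB⟩ := hmod R hRinv le_rfl
  obtain ⟨X, hX, hXd⟩ := chainX B hB.ge
  let bE := Module.finBasis F E
  refine ⟨_, B, fun i => (bE i : V), X, by omega, rfl, fun i => ?_, fun b => (hX b).1,
    fun b h => by have := (hX b).2.2; rw [h, finrank_bot] at this; omega, fun b => (hX b).2.2.le,
    fun b Z hZ hZX hZ0 => ?_, ?_⟩
  · have : (T - 1) (bE i : V) = 0 := (bE i).2
    rwa [LinearMap.sub_apply, Module.End.one_apply, sub_eq_zero] at this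
  · refine Submodule.eq_of_le_of_finrank_le hZX ?_
    rw [(hX b).2.2]
    exact Nat.le_of_dvd (Nat.pos_of_ne_zero fun h => hZ0 (Submodule.finrank_eq_zero.1 h))
      (hmod Z hZ (hZX.trans (hX b).2.1))
  · have hspan : Submodule.span F (Set.range fun i => (bE i : V)) = E := by
      rw [show (fun i => (bE i : V)) = E.subtype ∘ bE from rfl, Set.range_comp, Submodule.span_image, bE.span_eq,
        Submodule.map_subtype_top]
    rw [hspan]
    have hXR : iSup X = R := Submodule.eq_of_le_of_finrank_le (iSup_le fun b => (hX b).2.1) (by omega)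
    rw [hXR]
    refine Submodule.eq_top_of_finrank_eq ?_
    have h1 := Submodule.finrank_sup_add_finrank_inf_eq E R
    have h2 : E ⊓ R = ⊥ := by
      rw [Submodule.eq_bot_iff]; rintro w ⟨hw, hw'⟩; exact hdis w hw hw'
    rw [h2, finrank_bot] at h1
    omega

omit [Fintype F] in
/-- The span of `T ^ j v`, `j < r`. -/
theorem cyc_inv {T : Module.End F V} {r : ℕ} (hr : 0 < r) {c : F} (hT : T ^ r = c • (1 : Module.End F V)) (v : V) :
    (Submodule.span F (Set.range fun j : Fin r => (T ^ (j : ℕ)) v)).map T ≤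
      Submodule.span F (Set.range fun j : Fin r => (T ^ (j : ℕ)) v) := by
  rw [Submodule.map_span, Submodule.span_le]
  rintro _ ⟨_, ⟨j, rfl⟩, rfl⟩
  show T ((T ^ (j : ℕ)) v) ∈ Submodule.span F (Set.range fun j : Fin r => (T ^ (j : ℕ)) v)
  rw [← Module.End.mul_apply, ← pow_succ']
  by_cases hj : (j : ℕ) + 1 < r
  · exact Submodule.subset_span ⟨⟨_, hj⟩, rfl⟩
  · rw [show (j : ℕ) + 1 = r by omega, pow_smul_one hT]
    exact Submodule.smul_mem _ _ (Submodule.subset_span ⟨⟨0, hr⟩, by simp⟩)

omit [Fintype F] in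
/-- Cyclic pieces when the scalar is no `r`-th power. -/
theorem exists_cyclic {T : Module.End F V} {r : ℕ} (hr : r.Prime) {c : F} (hT : T ^ r = c • (1 : Module.End F V))
    (hc : ∀ d : F, d ^ r ≠ c) {k : ℕ} (hk : r * k = Module.finrank F V) :
    ∃ v : Fin k → V, (⨆ b, Submodule.span F (Set.range fun j : Fin r => (T ^ (j : ℕ)) (v b))) = ⊤ := by
  classical
  let cyc : V → Submodule F V := fun v => Submodule.span F (Set.range fun j : Fin r => (T ^ (j : ℕ)) v)
  suffices h : ∀ k', r * k' ≤ Module.finrank F V →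
      ∃ v : Fin k' → V, Module.finrank F ↥(⨆ b, cyc (v b)) = r * k' by
    obtain ⟨v, hv⟩ := h k hk.le
    exact ⟨v, Submodule.eq_top_of_finrank_eq (hv.trans hk)⟩
  intro k'
  induction k' with
  | zero => intro _; exact ⟨Fin.elim0, by simp⟩
  | succ k' ih =>
    intro hk'
    rw [Nat.mul_succ] at hk'
    obtain ⟨v, hv⟩ := ih (by omega)
    have hUi : (⨆ b, cyc (v b)).map T ≤ ⨆ b, cyc (v b) := by
      rw [Submodule.map_iSup]; exact iSup_mono fun b => cyc_inv hr.pos hT _
    have hne : (⨆ b, cyc (v b)) ≠ ⊤ := fun h => by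
      have := hr.pos
      rw [h, finrank_top] at hv; omega
    obtain ⟨w, -, hw⟩ := SetLike.exists_of_lt (lt_top_iff_ne_top.2 hne)
    have hwc : w ∈ cyc w := Submodule.subset_span ⟨⟨0, hr.pos⟩, by simp⟩
    refine ⟨Fin.cons w v, ?_⟩
    have hs : (⨆ b, cyc ((Fin.cons w v : Fin (k' + 1) → V) b)) = cyc w ⊔ ⨆ b, cyc (v b) := by
      refine le_antisymm (iSup_le fun b => ?_) (sup_le ?_ (iSup_le fun b => ?_))
      · refine Fin.cases ?_ ?_ b
        · rw [Fin.cons_zero]; exact le_sup_left
        · intro b; rw [Fin.cons_succ]; exact le_sup_of_le_right (le_iSup (fun b => cyc (v b)) b)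
      · exact le_iSup_of_le 0 (by rw [Fin.cons_zero])
      · exact le_iSup_of_le b.succ (by rw [Fin.cons_succ])
    have hci := cyc_inv hr.pos hT w
    have hmeet : ((cyc w) ⊓ ⨆ b, cyc (v b)).map T ≤ cyc w ⊓ ⨆ b, cyc (v b) :=
      (Submodule.map_inf_le _).trans (inf_le_inf hci hUi)
    have hlt : cyc w ⊓ (⨆ b, cyc (v b)) < cyc w := lt_of_le_of_ne inf_le_left fun h =>
      hw (inf_eq_left.1 h hwc)
    have h1 := Submodule.finrank_lt_finrank_of_lt hlt
    have h2 : Module.finrank F ↥(cyc w) ≤ r := by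
      have := finrank_range_le_card (R := F) (fun j : Fin r => (T ^ (j : ℕ)) w)
      rwa [Set.finrank, Fintype.card_fin] at this
    have h3 := dvd_finrank_of_not_pow hr hT hc hmeet
    have h4 : Module.finrank F ↥(cyc w ⊓ ⨆ b, cyc (v b)) = 0 := by
      by_contra h
      have := Nat.le_of_dvd (Nat.pos_of_ne_zero h) h3
      omega
    have h5 : r ≤ Module.finrank F ↥(cyc w) := Nat.le_of_dvd (by omega) (dvd_finrank_of_not_pow hr hT hc hci)
    have h6 := Submodule.finrank_sup_add_finrank_inf_eq (cyc w) (⨆ b, cyc (v b))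
    rw [hs, Nat.mul_succ]
    omega

end CfsgLib.MaxSub.SemiPieces
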