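import Cfsg.Agent.Lib.MaxSub.SemiDims
import Cfsg.Agent.Lib.KnownC.MatrixPrimary
import Mathlib.FieldTheory.Finite.Extension
import Mathlib.FieldTheory.KummerPolynomial

/-!
Elements of prime order modulo scalars of `SL_n(q)` with few invariant subspaces, and the arithmetic of scalars
which are no `r`-th powers.
-/

set_option autoImplicit false

namespace CfsgLib.MaxSub.SemiWitness

universe u

variable {F : Type u} [Field F]

/-- The determinant of a matrix with `r`-th power a scalar which is no `r`-th power. -/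
theorem det_eq {n : ℕ} {A : Matrix (Fin n) (Fin n) F} {r : ℕ} (hr : r.Prime) {c : F} (hA : A ^ r = c • 1)
    (hc : ∀ d : F, d ^ r ≠ c) : ∃ k, n = r * k ∧ A.det = (-1) ^ n * (-c) ^ k := by
  have hirr := X_pow_sub_C_irreducible_of_prime hr hc
  have hm : (Polynomial.X ^ r - Polynomial.C c : Polynomial F).Monic := Polynomial.monic_X_pow_sub_C c hr.ne_zero
  obtain ⟨k, hk⟩ := CfsgLib.KnownC.charpoly_eq_pow_of_aeval_pow_eq_zero A hirr hm (m := 1) (by
    rw [pow_one, map_sub, map_pow, Polynomial.aeval_X, Polynomial.aeval_C, hA, Algebra.algebraMap_eq_smul_one, sub_self])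
  refine ⟨k, ?_, ?_⟩
  · have := congrArg Polynomial.natDegree hk
    rw [Matrix.charpoly_natDegree_eq_dim, Fintype.card_fin, Polynomial.natDegree_pow, Polynomial.natDegree_X_pow_sub_C] at this
    rw [this, mul_comm]
  · rw [Matrix.det_eq_sign_charpoly_coeff, hk, Fintype.card_fin, Polynomial.coeff_zero_eq_eval_zero,
      Polynomial.eval_pow, Polynomial.eval_sub, Polynomial.eval_pow, Polynomial.eval_X, Polynomial.eval_C,
      zero_pow hr.ne_zero, zero_sub]

/-- An element with scalar `r`-th power, no `r`-th power scalar. -/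
theorem exists_not_pow {r k : ℕ} (hr : r.Prime) {c : F} (hc : ∀ d : F, d ^ r ≠ c) :
    ∃ A : Matrix (Fin (r * k)) (Fin (r * k)) F, A ^ r = c • 1 := by
  have hirr : Irreducible (Polynomial.X ^ r - Polynomial.C c : Polynomial F) := X_pow_sub_C_irreducible_of_prime hr hc
  haveI := Fact.mk hirr
  let L := AdjoinRoot (Polynomial.X ^ r - Polynomial.C c : Polynomial F)
  have hne : (Polynomial.X ^ r - Polynomial.C c : Polynomial F) ≠ 0 := hirr.ne_zero
  haveI : FiniteDimensional F L := (AdjoinRoot.powerBasis hne).finite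
  have hL : Module.finrank F L = r := by
    rw [(AdjoinRoot.powerBasis hne).finrank, AdjoinRoot.powerBasis_dim, Polynomial.natDegree_X_pow_sub_C]
  let α : L := AdjoinRoot.root _
  have hα : α ^ r = algebraMap F L c := by
    have h := AdjoinRoot.eval₂_root (Polynomial.X ^ r - Polynomial.C c : Polynomial F)
    rw [Polynomial.eval₂_sub, Polynomial.eval₂_pow, Polynomial.eval₂_X, Polynomial.eval₂_C, sub_eq_zero] at h
    exact h
  obtain ⟨e⟩ : Nonempty ((Fin (r * k) → F) ≃ₗ[F] (Fin k → L)) := ⟨LinearEquiv.ofFinrankEq _ _ (by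
    rw [Module.finrank_fin_fun, Module.finrank_pi_fintype, Finset.sum_const, Finset.card_univ, Fintype.card_fin, hL,
      smul_eq_mul, mul_comm])⟩
  let g : Module.End F (Fin k → L) := LinearMap.lsmul L (Fin k → L) α |>.restrictScalars F
  refine ⟨LinearMap.toMatrixAlgEquiv' (e.symm.conjAlgEquiv F g), ?_⟩
  have hg : g ^ r = c • (1 : Module.End F (Fin k → L)) := by
    have key : ∀ (j : ℕ) (v : Fin k → L), (g ^ j) v = α ^ j • v := by
      intro j
      induction j with
      | zero => intro v; simp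
      | succ j ih => intro v; rw [pow_succ', Module.End.mul_apply, ih, pow_succ', mul_smul]; rfl
    exact LinearMap.ext fun v => by rw [key, hα, algebraMap_smul]; rfl
  rw [← map_pow, ← map_pow, hg, map_smul, map_one, map_smul, map_one]

/-- An element of order `r` with fixed space of dimension `e`. -/
theorem exists_fixed [Fintype F] {p : ℕ} [Fact p.Prime] [CharP F p] {r i e B : ℕ} [Fact r.Prime] (hi : 0 < i)
    (hdvd : r ∣ Fintype.card F ^ i - 1) :
    ∃ A : Matrix (Fin (e + i * B)) (Fin (e + i * B)) F, A ^ r = 1 ∧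
      Module.finrank F ↥(LinearMap.ker (Matrix.toLinAlgEquiv' A - 1)) = e := by
  classical
  haveI : NeZero i := ⟨by omega⟩
  let K := FiniteField.Extension F p i
  haveI : Fintype K := Fintype.ofFinite K
  have hK : Module.finrank F K = i := FiniteField.finrank_extension F p i
  have hcard : r ∣ Fintype.card Kˣ := by
    rwa [Fintype.card_units, Module.card_eq_pow_finrank (K := F) (V := K), hK]
  obtain ⟨w, hw⟩ := exists_prime_orderOf_dvd_card r hcard
  have hw1 : (w : K) ≠ 1 := fun h => (Fact.out : r.Prime).ne_one (by rw [← hw, Units.val_eq_one.1 h, orderOf_one])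
  have hwr : (w : K) ^ r = 1 := by rw [← Units.val_pow_eq_pow_val, ← hw, pow_orderOf_eq_one, Units.val_one]
  obtain ⟨φ⟩ : Nonempty ((Fin (e + i * B) → F) ≃ₗ[F] ((Fin e → F) × (Fin B → K))) := ⟨LinearEquiv.ofFinrankEq _ _ (by
    rw [Module.finrank_fin_fun, Module.finrank_prod, Module.finrank_fin_fun, Module.finrank_pi_fintype,
      Finset.sum_const, Finset.card_univ, Fintype.card_fin, hK, smul_eq_mul, mul_comm B])⟩
  let g : Module.End F ((Fin e → F) × (Fin B → K)) :=
    LinearMap.prodMap LinearMap.id ((LinearMap.lsmul K (Fin B → K) (w : K)).restrictScalars F)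
  have key : ∀ (j : ℕ) (v : (Fin e → F) × (Fin B → K)), (g ^ j) v = (v.1, (w : K) ^ j • v.2) := by
    intro j
    induction j with
    | zero => intro v; simp
    | succ j ih => intro v; rw [pow_succ', Module.End.mul_apply, ih, pow_succ', mul_smul]; rfl
  refine ⟨LinearMap.toMatrixAlgEquiv' (φ.symm.conjAlgEquiv F g), ?_, ?_⟩
  · rw [← map_pow, ← map_pow, show g ^ r = 1 from LinearMap.ext fun v => by rw [key, hwr, one_smul]; rfl,
      map_one, map_one]
  · rw [show Matrix.toLinAlgEquiv' (LinearMap.toMatrixAlgEquiv' (φ.symm.conjAlgEquiv F g)) =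
      φ.symm.conjAlgEquiv F g from Matrix.toLinAlgEquiv'_toMatrixAlgEquiv' _]
    refine le_antisymm (le_trans (Submodule.finrank_mono (t := (LinearMap.range (LinearMap.inl F (Fin e → F) (Fin B → K))).map
      (φ.symm : _ →ₗ[F] _)) fun v hv => ?_) ?_) ?_
    · have h : φ.symm (g (φ v)) = v := sub_eq_zero.1 hv
      have h' : g (φ v) = φ v := by
        have := congrArg φ h; rwa [φ.apply_symm_apply] at this
      have h2 : ((w : K) - 1) • (φ v).2 = 0 := by
        rw [sub_smul, one_smul, sub_eq_zero]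
        exact congrArg Prod.snd h'
      refine ⟨φ v, ⟨(φ v).1, Prod.ext rfl ?_⟩, φ.symm_apply_apply v⟩
      exact ((smul_eq_zero.1 h2).resolve_left (sub_ne_zero.2 hw1)).symm
    · refine (Submodule.finrank_map_le _ _).trans ((LinearMap.finrank_range_le _).trans ?_)
      rw [Module.finrank_fin_fun]
    · let f : (Fin e → F) →ₗ[F] (Fin (e + i * B) → F) := φ.symm.toLinearMap ∘ₗ LinearMap.inl F (Fin e → F) (Fin B → K)
      have hf : ∀ a, f a ∈ LinearMap.ker (φ.symm.conjAlgEquiv F g - 1) := fun a => by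
        show φ.symm (g (φ (φ.symm (a, 0)))) - φ.symm (a, 0) = 0
        rw [φ.apply_symm_apply, show g (a, 0) = (a, 0) from Prod.ext rfl (show (w : K) • (0 : Fin B → K) = 0 from smul_zero _), sub_self]
      have h := LinearMap.finrank_le_finrank_of_injective (f := f.codRestrict _ hf) fun x y hxy =>
        LinearMap.inl_injective (φ.symm.injective (congrArg Subtype.val hxy))
      rwa [Module.finrank_fin_fun] at h

variable [Fintype F]

/-- Solutions of `μ ^ k = 1` are `r`-th powers if the `r`-part of `k` is below that of `q - 1`. -/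
theorem exists_pow_of_pow_eq_one {r k : ℕ} (hr : r.Prime) (hrq : r ∣ Fintype.card F - 1)
    (hv : padicValNat r k < padicValNat r (Fintype.card F - 1)) (hk : 0 < k) {μ : F} (hμ : μ ^ k = 1) :
    ∃ d : F, d ^ r = μ := by
  classical
  haveI := Fact.mk hr
  have hμ0 : μ ≠ 0 := fun e => by rw [e, zero_pow hk.ne'] at hμ; exact zero_ne_one hμ
  have hok : orderOf (Units.mk0 μ hμ0) ∣ k := orderOf_dvd_of_pow_eq_one (Units.ext (by simpa using hμ))
  have hoq : orderOf (Units.mk0 μ hμ0) ∣ Fintype.card F - 1 := by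
    rw [← Fintype.card_units]; exact orderOf_dvd_card
  obtain ⟨g, hg⟩ := IsCyclic.exists_generator (α := Fˣ)
  have hgo : orderOf g = Fintype.card F - 1 := by
    rw [orderOf_eq_card_of_forall_mem_zpowers hg, Nat.card_eq_fintype_card, Fintype.card_units]
  obtain ⟨a, ha⟩ := (mem_powers_iff_mem_zpowers).2 (hg (Units.mk0 μ hμ0))
  simp only at ha
  obtain ⟨t, ht⟩ := hoq
  have hq1 : Fintype.card F - 1 ≠ 0 := by have := Fintype.one_lt_card (α := F); omega
  have hrt : r ∣ t := by
    by_contra hrt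
    have h1 : padicValNat r (Fintype.card F - 1) = padicValNat r (orderOf (Units.mk0 μ hμ0)) := by
      rw [ht, padicValNat.mul (fun e => hq1 (by rw [ht, e, zero_mul])) (fun e => hq1 (by rw [ht, e, mul_zero])),
        padicValNat.eq_zero_of_not_dvd hrt, add_zero]
    have h2 : padicValNat r (orderOf (Units.mk0 μ hμ0)) ≤ padicValNat r k := by
      obtain ⟨s, hs⟩ := hok
      rw [hs, padicValNat.mul (fun e => hk.ne' (by rw [hs, e, zero_mul])) (fun e => hk.ne' (by rw [hs, e, mul_zero]))]
      omega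
    omega
  obtain ⟨t', ht'⟩ := hrt
  have hq' : Fintype.card F - 1 = orderOf (Units.mk0 μ hμ0) * t' * r := by rw [ht, ht']; ring
  have : orderOf g ∣ a * orderOf (Units.mk0 μ hμ0) := by
    refine orderOf_dvd_of_pow_eq_one ?_
    rw [pow_mul, ha, pow_orderOf_eq_one]
  rw [hgo, hq'] at this
  obtain ⟨s, hs⟩ := this
  have hra : a = r * (t' * s) := by
    refine Nat.eq_of_mul_eq_mul_right (orderOf_pos (Units.mk0 μ hμ0)) ?_
    rw [hs]; ring
  refine ⟨((g ^ (t' * s) : Fˣ) : F), ?_⟩
  rw [← Units.val_pow_eq_pow_val, ← pow_mul, mul_comm, ← hra, ha, Units.val_mk0]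

theorem exists_not_pow_scalar {r k : ℕ} (hr : r.Prime) (hrq : r ∣ Fintype.card F - 1)
    (hv : padicValNat r (Fintype.card F - 1) ≤ padicValNat r k) :
    ∃ μ : F, μ ^ k = 1 ∧ ∀ d : F, d ^ r ≠ μ := by
  classical
  haveI := Fact.mk hr
  obtain ⟨g, hg⟩ := IsCyclic.exists_generator (α := Fˣ)
  have hgo : orderOf g = Fintype.card F - 1 := by
    rw [orderOf_eq_card_of_forall_mem_zpowers hg, Nat.card_eq_fintype_card, Fintype.card_units]
  have hq1 : Fintype.card F - 1 ≠ 0 := by have := Fintype.one_lt_card (α := F); omega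
  set v := padicValNat r (Fintype.card F - 1) with hvdef
  obtain ⟨M, hM⟩ : r ^ v ∣ Fintype.card F - 1 := pow_padicValNat_dvd
  have hrM : ¬ r ∣ M := fun ⟨t, ht⟩ => by
    have : r ^ (v + 1) ∣ Fintype.card F - 1 := ⟨t, by rw [hM, ht]; ring⟩
    rw [padicValNat_dvd_iff_le hq1] at this
    omega
  have hv1 : 1 ≤ v := one_le_padicValNat_of_dvd hq1 hrq
  have hgu : g ^ (r ^ v * M) = 1 := by rw [← hM, ← hgo, pow_orderOf_eq_one]
  refine ⟨((g ^ M : Fˣ) : F), ?_, fun d hd => ?_⟩
  · rw [← Units.val_pow_eq_pow_val, ← pow_mul, Units.val_eq_one, ← orderOf_dvd_iff_pow_eq_one, hgo, hM, mul_comm]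
    rcases Nat.eq_zero_or_pos k with h | h
    · subst h; simp
    · exact Nat.mul_dvd_mul_left M ((pow_dvd_pow r hv).trans pow_padicValNat_dvd)
  · have hd0 : d ≠ 0 := fun e => by rw [e, zero_pow hr.ne_zero] at hd; exact Units.ne_zero _ hd.symm
    obtain ⟨a, ha⟩ := (mem_powers_iff_mem_zpowers).2 (hg (Units.mk0 d hd0))
    simp only at ha
    have h1 : g ^ (a * r) = g ^ M := by
      rw [pow_mul, ha]; exact Units.ext (by simpa using hd)
    rw [pow_eq_pow_iff_modEq, hgo] at h1
    exact hrM ((Nat.ModEq.dvd_iff (h1.of_dvd hrq) dvd_rfl).1 (dvd_mul_left r a))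

end CfsgLib.MaxSub.SemiWitness
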