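import Cfsg.Agent.Lib.MaxSub.KronFix
import Mathlib.RingTheory.RootsOfUnity.PrimitiveRoots
import Mathlib.Data.ZMod.Basic

/-!
Semisimple elements conjugate to similitudes of a sesquilinear form: the multiplicity pairing, and the small
exceptional cases `n = r ∈ {3, 5}`.
-/

set_option autoImplicit false

namespace CfsgLib.MaxSub.SimFix

open Matrix

universe u

variable {F : Type u} [Field F] {n : ℕ}

local notation "𝕄" => Matrix (Fin n) (Fin n) F

/-- A similitude of the sesquilinear form with Gram matrix `G`. -/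
def Sim (σ : F →+* F) (G M : 𝕄) : Prop := ∃ μ : F, μ ≠ 0 ∧ Mᵀ * G * M.map σ = μ • G

/-- The multiplicity of `s` among the entries of `d`. -/
def cnt {m : ℕ} (d : Fin m → F) (s : F) [DecidableEq F] : ℕ := ∑ u, if d u = s then 1 else 0

theorem rank_diag [DecidableEq F] (d : Fin n → F) (s : F) :
    (Matrix.diagonal d - s • (1 : 𝕄)).rank + cnt d s = n := by
  have h : Matrix.diagonal d - s • (1 : 𝕄) = Matrix.diagonal fun u => d u - s := by
    ext k l; rcases eq_or_ne k l with rfl | h <;> simp [*]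
  rw [h, Matrix.rank_diagonal, cnt, Finset.sum_boole, Nat.cast_id,
    Fintype.card_congr (Equiv.subtypeEquivRight fun u => (sub_ne_zero : d u - s ≠ 0 ↔ d u ≠ s))]
  rw [Fintype.card_subtype, add_comm, Finset.card_filter_add_card_filter_not, Finset.card_univ, Fintype.card_fin]

theorem sim_congr {σ : F →+* F} {G G₀ D : 𝕄} {P : GL (Fin n) F} {a : F} (ha : a ≠ 0)
    (hP : (P : 𝕄)ᵀ * G * (P : 𝕄).map σ = a • G₀) (h : Sim σ G₀ D) :
    Sim σ G ((P : 𝕄) * D * ((P⁻¹ : GL (Fin n) F) : 𝕄)) := by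
  obtain ⟨μ, hμ, h⟩ := h
  refine ⟨μ, hμ, ?_⟩
  have hi : ((P⁻¹ : GL (Fin n) F) : 𝕄)ᵀ * (P : 𝕄)ᵀ = 1 := by
    rw [← Matrix.transpose_mul, ← Units.val_mul, mul_inv_cancel, Units.val_one, Matrix.transpose_one]
  have hi' : (P : 𝕄).map σ * ((P⁻¹ : GL (Fin n) F) : 𝕄).map σ = 1 := by
    rw [← Matrix.map_mul, ← Units.val_mul, mul_inv_cancel, Units.val_one, Matrix.map_one _ (map_zero σ) (map_one σ)]
  calc _ = ((P⁻¹ : GL (Fin n) F) : 𝕄)ᵀ * (Dᵀ * ((P : 𝕄)ᵀ * G * (P : 𝕄).map σ) * D.map σ) *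
        ((P⁻¹ : GL (Fin n) F) : 𝕄).map σ := by
        rw [Matrix.map_mul, Matrix.map_mul, Matrix.transpose_mul, Matrix.transpose_mul]; noncomm_ring
    _ = μ • (((P⁻¹ : GL (Fin n) F) : 𝕄)ᵀ * ((P : 𝕄)ᵀ * G * (P : 𝕄).map σ) *
        ((P⁻¹ : GL (Fin n) F) : 𝕄).map σ) := by
        rw [hP, Matrix.mul_smul, Matrix.smul_mul, h, smul_smul, mul_comm, ← smul_smul, Matrix.mul_smul, Matrix.smul_mul]
    _ = μ • G := by
        congr 1
        rw [← Matrix.mul_assoc, ← Matrix.mul_assoc, hi, Matrix.one_mul, Matrix.mul_assoc, hi', Matrix.mul_one]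

/-- From a normal form to a conjugating element of determinant one. -/
theorem finish {σ : F →+* F} {G G₀ : 𝕄} {P : GL (Fin n) F} {a : F} (ha : a ≠ 0)
    (hP : (P : 𝕄)ᵀ * G * (P : 𝕄).map σ = a • G₀) {x h D : GL (Fin n) F}
    (hx : (x : 𝕄) * h = h * (D : 𝕄)) (hD : Sim σ G₀ (D : 𝕄))
    (hk : ∀ c : F, c ≠ 0 → ∃ k : 𝕄, k.det = c ∧ k * (D : 𝕄) = (D : 𝕄) * k) :
    ∃ g : GL (Fin n) F, (g : 𝕄).det = 1 ∧ Sim σ G ((g⁻¹ * x * g : GL (Fin n) F) : 𝕄) := by
  obtain ⟨y, hy⟩ : ∃ y, y = P * D * P⁻¹ := ⟨_, rfl⟩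
  have h1 : (x : 𝕄) * ((h * P⁻¹ : GL (Fin n) F) : 𝕄) = ((h * P⁻¹ : GL (Fin n) F) : 𝕄) * (y : 𝕄) := by
    rw [← Units.val_mul, ← Units.val_mul, hy, show h * P⁻¹ * (P * D * P⁻¹) = h * D * P⁻¹ by group,
      show x * (h * P⁻¹) = x * h * P⁻¹ by group]
    exact congrArg Units.val (congrArg (· * P⁻¹) (Units.ext hx))
  have h2 : ∀ c : F, c ≠ 0 → ∃ k : 𝕄, k.det = c ∧ k * (y : 𝕄) = (y : 𝕄) * k := by
    intro c hc
    obtain ⟨k, hkc, hkD⟩ := hk c hc
    refine ⟨(P : 𝕄) * k * ((P⁻¹ : GL (Fin n) F) : 𝕄), by rw [Matrix.det_units_conj, hkc], ?_⟩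
    have e : ((P⁻¹ : GL (Fin n) F) : 𝕄) * (P : 𝕄) = 1 := by rw [← Units.val_mul, inv_mul_cancel, Units.val_one]
    rw [hy, Units.val_mul, Units.val_mul]
    calc _ = (P : 𝕄) * (k * (((P⁻¹ : GL (Fin n) F) : 𝕄) * (P : 𝕄)) * (D : 𝕄)) * ((P⁻¹ : GL (Fin n) F) : 𝕄) := by
          noncomm_ring
      _ = (P : 𝕄) * ((D : 𝕄) * (((P⁻¹ : GL (Fin n) F) : 𝕄) * (P : 𝕄)) * k) * ((P⁻¹ : GL (Fin n) F) : 𝕄) := by
          rw [e, Matrix.mul_one, Matrix.mul_one, hkD]
      _ = _ := by noncomm_ring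
  obtain ⟨g, hg, he⟩ := KronFix.exists_sl_conj h1 h2
  refine ⟨g, hg, ?_⟩
  rw [he, hy, Units.val_mul, Units.val_mul]
  exact sim_congr ha hP hD

/-- The multiplicities of a conjugate of a similitude pair up. -/
theorem cnt_pair [DecidableEq F] {σ : F →+* F} {G : 𝕄} (hG : IsUnit G) {d : Fin n → F} (hd : ∀ u, d u ≠ 0)
    {x h : GL (Fin n) F} (hx : (x : 𝕄) = Matrix.diagonal d) (hs : Sim σ G ((h⁻¹ * x * h : GL (Fin n) F) : 𝕄)) :
    ∃ μ : F, μ ≠ 0 ∧ ∀ s : F, s ≠ 0 → cnt d s = cnt d (μ / σ s) := by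
  obtain ⟨μ, hμ, hs⟩ := hs
  refine ⟨μ, hμ, fun s hs0 => ?_⟩
  obtain ⟨K, hK⟩ : ∃ K : 𝕄, K = ((h⁻¹ : GL (Fin n) F) : 𝕄)ᵀ * G * ((h⁻¹ : GL (Fin n) F) : 𝕄).map σ := ⟨_, rfl⟩
  have hKu : IsUnit K.det := by
    rw [hK, Matrix.det_mul, Matrix.det_mul, Matrix.det_transpose]
    refine ((Matrix.isUnits_det_units h⁻¹).mul ((Matrix.isUnit_iff_isUnit_det G).1 hG)).mul ?_
    rw [← RingHom.mapMatrix_apply, ← RingHom.map_det]
    exact (Matrix.isUnits_det_units h⁻¹).map σ
  have hrel : Matrix.diagonal d * K * (Matrix.diagonal fun u => σ (d u)) = μ • K := by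
    have hdd : (Matrix.diagonal fun u => σ (d u)) = (x : 𝕄).map σ := by
      rw [hx, Matrix.diagonal_map (map_zero σ)]
    have e1 : ((h⁻¹ : GL (Fin n) F) : 𝕄)ᵀ * ((h : 𝕄)ᵀ) = 1 := by
      rw [← Matrix.transpose_mul, ← Units.val_mul, mul_inv_cancel, Units.val_one, Matrix.transpose_one]
    have e2 : (h : 𝕄).map σ * ((h⁻¹ : GL (Fin n) F) : 𝕄).map σ = 1 := by
      rw [← Matrix.map_mul, ← Units.val_mul, mul_inv_cancel, Units.val_one, Matrix.map_one _ (map_zero σ) (map_one σ)]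
    rw [hdd, hK, ← Matrix.diagonal_transpose d, ← hx]
    calc _ = (((h⁻¹ : GL (Fin n) F) : 𝕄)ᵀ * (h : 𝕄)ᵀ) * (x : 𝕄)ᵀ * ((h⁻¹ : GL (Fin n) F) : 𝕄)ᵀ * G *
          ((h⁻¹ : GL (Fin n) F) : 𝕄).map σ * (x : 𝕄).map σ * ((h : 𝕄).map σ * ((h⁻¹ : GL (Fin n) F) : 𝕄).map σ) := by
          rw [e1, e2, Matrix.one_mul, Matrix.mul_one]; noncomm_ring
      _ = ((h⁻¹ : GL (Fin n) F) : 𝕄)ᵀ * (((h⁻¹ * x * h : GL (Fin n) F) : 𝕄)ᵀ * G *
          ((h⁻¹ * x * h : GL (Fin n) F) : 𝕄).map σ) * ((h⁻¹ : GL (Fin n) F) : 𝕄).map σ := by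
          rw [Units.val_mul, Units.val_mul, Matrix.map_mul, Matrix.map_mul, Matrix.transpose_mul, Matrix.transpose_mul]
          noncomm_ring
      _ = _ := by rw [hs, Matrix.mul_smul, Matrix.smul_mul]
  have hent : ∀ j k, d j * K j k * σ (d k) = μ * K j k := fun j k => by
    simpa [Matrix.mul_diagonal, Matrix.diagonal_mul] using congrFun (congrFun hrel j) k
  have hkey : K * (Matrix.diagonal (fun u => σ (d u)) - σ s • (1 : 𝕄)) =
      (Matrix.diagonal (fun u => μ / d u) - σ s • (1 : 𝕄)) * K := by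
    ext j k
    rw [Matrix.mul_sub, Matrix.sub_mul, Matrix.sub_apply, Matrix.sub_apply, Matrix.mul_diagonal, Matrix.diagonal_mul,
      Matrix.mul_smul, Matrix.smul_mul, Matrix.mul_one, Matrix.one_mul, sub_left_inj, div_mul_eq_mul_div,
      eq_div_iff (hd j)]
    linear_combination hent j k
  have h1 := congrArg Matrix.rank hkey
  rw [Matrix.rank_mul_eq_right_of_isUnit_det _ _ hKu, Matrix.rank_mul_eq_left_of_isUnit_det _ _ hKu] at h1
  have hl := rank_diag (fun u => σ (d u)) (σ s)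
  have hr := rank_diag (fun u => μ / d u) (σ s)
  rw [h1] at hl
  have ha : cnt (fun u => σ (d u)) (σ s) = cnt d s :=
    Finset.sum_congr rfl fun u _ => by simp only [σ.injective.eq_iff]
  have hσs : σ s ≠ 0 := (map_ne_zero σ).2 hs0
  have hb : cnt (fun u => μ / d u) (σ s) = cnt d (μ / σ s) :=
    Finset.sum_congr rfl fun u _ => by
      refine if_congr ?_ rfl rfl
      show μ / d u = σ s ↔ d u = μ / σ s
      rw [div_eq_iff (hd u), eq_div_iff hσs]
      constructor <;> intro e <;> linear_combination -e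
  omega

section forward

variable {σ : F →+* F} {r : ℕ}

/-- The multiplicity pairing rules out all but `n = r ∈ {3, 5}`. -/
theorem forward_shape {G : 𝕄} (hn : 3 ≤ n) (hG : IsUnit G) (hr : r.Prime) (hr2 : r ≠ 2) (hgap : ¬ (n = 6 ∧ r = 3)) {ω : F}
    (hω : IsPrimitiveRoot ω r) (hσω : σ ω = ω)
    (hall : ∀ x : GL (Fin n) F, (x : 𝕄).det = 1 → (∃ z : F, (x : 𝕄) ^ r = z • 1) → (∀ z : F, (x : 𝕄) ≠ z • 1) →
      ∃ h : GL (Fin n) F, Sim σ G ((h⁻¹ * x * h : GL (Fin n) F) : 𝕄)) :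
    (r = 3 ∨ r = 5) ∧ n = r := by
  classical
  obtain ⟨m, rfl⟩ : ∃ m, n = m + 3 := ⟨n - 3, by omega⟩
  have hr3 : 3 ≤ r := by have := hr.two_le; omega
  have hdvd : ∀ k : ℕ, ω ^ k = 1 → r ∣ k := fun k h => hω.dvd_of_pow_eq_one k h
  have hω0 : ω ≠ 0 := hω.ne_zero hr.ne_zero
  have hω1 : ω ≠ 1 := hω.ne_one hr.one_lt
  obtain ⟨w, hw⟩ : ∃ w, w = (ω ^ 2)⁻¹ := ⟨_, rfl⟩
  have hw0 : w ≠ 0 := by rw [hw]; exact inv_ne_zero (pow_ne_zero 2 hω0)
  have hw1 : w ≠ 1 := fun h => by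
    rw [hw, inv_eq_one] at h
    have := Nat.le_of_dvd two_pos (hdvd 2 h)
    omega
  have hσw : σ w = w := by rw [hw, map_inv₀, map_pow, hσω]
  by_cases h0 : r = 3 ∧ m = 0
  · obtain ⟨rfl, rfl⟩ := h0; exact ⟨Or.inl rfl, rfl⟩
  obtain ⟨d, hd⟩ : ∃ d : Fin (m + 3) → F, d = Fin.cons ω (Fin.cons ω (Fin.cons w fun _ => 1)) := ⟨_, rfl⟩
  have hd0 : ∀ u, d u ≠ 0 := fun u => by
    rw [hd]
    induction u using Fin.cases with
    | zero => simpa using hω0
    | succ u => induction u using Fin.cases with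
      | zero => simpa using hω0
      | succ u => induction u using Fin.cases with
        | zero => rw [Fin.cons_succ, Fin.cons_succ, Fin.cons_zero]; exact hw0
        | succ u => simp
  have hdr : ∀ u, d u ^ r = 1 := fun u => by
    rw [hd]
    induction u using Fin.cases with
    | zero => simpa using hω.pow_eq_one
    | succ u => induction u using Fin.cases with
      | zero => simpa using hω.pow_eq_one
      | succ u => induction u using Fin.cases with
        | zero => rw [Fin.cons_succ, Fin.cons_succ, Fin.cons_zero, hw, inv_pow, ← pow_mul, mul_comm, pow_mul,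
            hω.pow_eq_one, one_pow, inv_one]
        | succ u => simp
  have hcnt : ∀ s : F, cnt d s = (if ω = s then 1 else 0) + ((if ω = s then 1 else 0) +
      ((if w = s then 1 else 0) + (if (1 : F) = s then m else 0))) := fun s => by
    rw [cnt, hd, Fin.sum_univ_succ, Fin.sum_univ_succ, Fin.sum_univ_succ]
    simp only [Fin.cons_zero, Fin.cons_succ]
    split_ifs <;> simp
  have hdet : (Matrix.diagonal d).det = 1 := by
    rw [Matrix.det_diagonal, hd, Fin.prod_univ_succ, Fin.prod_univ_succ, Fin.prod_univ_succ]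
    simp only [Fin.cons_zero, Fin.cons_succ, Finset.prod_const_one, mul_one, hw]
    field_simp
  obtain ⟨h, hh⟩ := hall (Matrix.GeneralLinearGroup.mkOfDetNeZero (Matrix.diagonal d) (by rw [hdet]; exact one_ne_zero))
    hdet ⟨1, by
      show Matrix.diagonal d ^ r = _
      rw [Matrix.diagonal_pow, one_smul, ← Matrix.diagonal_one]; exact congrArg _ (funext hdr)⟩
    fun z hz => by
      have e := fun u => congrFun (congrFun (show Matrix.diagonal d = z • (1 : Matrix (Fin (m + 3)) (Fin (m + 3)) F)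
        from hz) u) u
      simp only [Matrix.diagonal_apply_eq, Matrix.smul_apply, Matrix.one_apply_eq, smul_eq_mul, mul_one] at e
      have e0 := e 0
      have e2 := e (Fin.succ (Fin.succ 0))
      rw [hd] at e0 e2
      simp only [Fin.cons_zero, Fin.cons_succ] at e0 e2
      rcases Nat.eq_zero_or_pos m with rfl | hm
      · have hwω : w = ω := e2.trans e0.symm
        have h3 : ω ^ 3 = 1 := by
          rw [pow_succ]; nth_rewrite 2 [← hwω]; rw [hw, mul_inv_cancel₀ (pow_ne_zero 2 hω0)]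
        have := Nat.le_of_dvd (by omega) (hdvd 3 h3)
        exact h0 ⟨by omega, rfl⟩
      · have e3 := e (Fin.succ (Fin.succ (Fin.succ ⟨0, hm⟩)))
        rw [hd] at e3
        simp only [Fin.cons_succ] at e3
        exact hω1 (e0.trans e3.symm)
  obtain ⟨μ, hμ, hp⟩ := cnt_pair hG hd0 rfl hh
  have pω := hp ω hω0
  have pw := hp w hw0
  have p1 := hp 1 one_ne_zero
  rw [hσω, hcnt, hcnt] at pω
  rw [hσw, hcnt, hcnt] at pw
  rw [map_one, div_one, hcnt, hcnt, if_neg hω1, if_neg hw1, if_pos rfl] at p1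
  rw [if_pos rfl, if_neg (Ne.symm hω1)] at pω
  rw [if_pos rfl, if_neg (Ne.symm hw1)] at pw
  have hpowr : ∀ {k : ℕ}, 0 < k → ω ^ k = 1 → r ≤ k := fun hk h => Nat.le_of_dvd hk (hdvd _ h)
  by_cases hwω : w = ω
  · have h3 : ω ^ 3 = 1 := by
      rw [pow_succ]; nth_rewrite 2 [← hwω]; rw [hw, mul_inv_cancel₀ (pow_ne_zero 2 hω0)]
    have hr3' : r = 3 := by have := hpowr (by omega) h3; omega
    subst hwω
    simp only [if_pos rfl] at pω p1
    have hm : 0 < m := Nat.pos_of_ne_zero fun h => h0 ⟨hr3', h⟩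
    by_cases hμω : w = μ
    · rw [if_pos hμω, if_neg (fun h => hω1 (hμω.trans h.symm))] at p1
      exact absurd ⟨by omega, hr3'⟩ hgap
    · rw [if_neg hμω] at p1
      have hμ1 : (1 : F) = μ := by
        by_contra h
        rw [if_neg h] at p1; omega
      have e1 : w ≠ μ / w := fun e => by
        rw [← hμ1, eq_div_iff hω0] at e
        have := hpowr two_pos (by rw [sq]; exact e); omega
      have e2 : (1 : F) ≠ μ / w := fun e => by
        rw [← hμ1, eq_div_iff hω0, one_mul] at e; exact hω1 e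
      rw [if_neg e1, if_neg e2] at pω
      omega
  · rw [if_neg hwω] at pω
    rw [if_neg (Ne.symm hwω)] at pw
    have hμ2 : μ / ω = ω → m = 0 ∨ μ = 1 ∨ μ = w := by
      intro e
      rw [div_eq_iff hω0] at e
      by_cases h1 : ω = μ
      · exact absurd (mul_eq_left₀ hω0 |>.1 (e ▸ h1).symm) hω1
      rw [if_neg h1] at p1
      by_cases h2 : w = μ
      · exact Or.inr (Or.inr h2.symm)
      rw [if_neg h2] at p1
      by_cases h3 : (1 : F) = μ
      · exact Or.inr (Or.inl h3.symm)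
      rw [if_neg h3] at p1
      exact Or.inl (by omega)
    have hwm : w * ω ^ 2 = 1 := by rw [hw, inv_mul_cancel₀ (pow_ne_zero 2 hω0)]
    by_cases c1 : μ / ω = ω
    · exfalso
      have e : μ = ω * ω := by rw [← div_eq_iff hω0, c1]
      rw [if_pos c1.symm] at pω
      rcases hμ2 c1 with rfl | rfl | rfl
      · -- `n = 3`
        by_cases c2 : w = μ / w
        · have h6 : ω ^ 6 = 1 := by
            have e' : w * w = ω * ω := by rw [← e]; exact ((eq_div_iff hw0).1 c2)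
            linear_combination (w * ω ^ 2 + 1) * hwm - ω ^ 4 * e'
          have := hdvd 6 h6
          have h23 : r ∣ 2 ∨ r ∣ 3 := (Nat.Prime.dvd_mul hr).1 (show r ∣ 2 * 3 by omega)
          rcases h23 with h | h
          · have := Nat.le_of_dvd two_pos h; omega
          · have := Nat.le_of_dvd (by omega) h
            obtain rfl : r = 3 := by omega
            exact h0 ⟨rfl, rfl⟩
        · rw [if_neg c2] at pw
          split_ifs at pw <;> omega
      · have := hpowr two_pos (show ω ^ 2 = 1 by rw [sq, ← e]); omega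
      · have h4 : ω ^ 4 = 1 := by linear_combination hwm - ω ^ 2 * e
        have := hpowr (by omega) h4
        obtain rfl : r = 3 := by
          rcases Nat.lt_or_ge r 4 with h | h
          · omega
          · have : r = 4 := by omega
            exact absurd (this ▸ hr) (by decide)
        have := Nat.le_of_dvd (by omega) (hdvd 4 h4)
        exact absurd (hdvd 4 h4) (by decide)
    · rw [if_neg (Ne.symm c1)] at pω
      by_cases c2 : w = μ / ω
      · rw [if_pos c2, if_neg (fun h => hw1 (c2.trans h.symm))] at pω; omega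
      rw [if_neg c2] at pω
      by_cases c3 : (1 : F) = μ / ω
      · have e : μ = ω := by rw [eq_div_iff hω0, one_mul] at c3; exact c3.symm
        rw [if_pos c3] at pω
        have hm2 : m = 2 := by omega
        rw [e] at pw
        have h5 : ω / w = ω ^ 3 := by rw [div_eq_iff hw0]; linear_combination -ω * hwm
        rw [h5] at pw
        have n1 : ω ≠ ω ^ 3 := fun h => by
          have := hpowr two_pos (mul_left_cancel₀ hω0 (show ω * ω ^ 2 = ω * 1 by rw [mul_one]; linear_combination -h))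
          omega
        have n2 : (1 : F) ≠ ω ^ 3 := fun h => by
          have := hpowr (by omega) h.symm
          obtain rfl : r = 3 := by omega
          exact hwω (mul_right_cancel₀ (pow_ne_zero 2 hω0) (by rw [hwm, h]; ring))
        rw [if_neg n1, if_neg n2] at pw
        by_cases c4 : w = ω ^ 3
        · have h5' : ω ^ 5 = 1 := by linear_combination hwm - ω ^ 2 * c4
          have := hpowr (by omega) h5'
          rcases Nat.lt_or_ge r 4 with h | h
          · obtain rfl : r = 3 := by omega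
            exact absurd (hdvd 5 h5') (by decide)
          · have h5r : r ≠ 4 := fun h => absurd (h ▸ hr) (by decide)
            exact ⟨Or.inr (by omega), by omega⟩
        · rw [if_neg c4] at pw; omega
      · rw [if_neg c3] at pω; omega

/-- An element of order `r ^ 2` gives a counterexample in dimension `r`. -/
theorem forward_sq {G : 𝕄} (hG : IsUnit G) (hr : r.Prime) (hr2 : r ≠ 2) (hn : n = r) {c : F}
    (hc : IsPrimitiveRoot c (r ^ 2)) (hσc : σ c = c)
    (hall : ∀ x : GL (Fin n) F, (x : 𝕄).det = 1 → (∃ z : F, (x : 𝕄) ^ r = z • 1) → (∀ z : F, (x : 𝕄) ≠ z • 1) →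
      ∃ h : GL (Fin n) F, Sim σ G ((h⁻¹ * x * h : GL (Fin n) F) : 𝕄)) : False := by
  classical
  subst hn
  have hr3 : 3 ≤ n := by have := hr.two_le; omega
  obtain ⟨m, rfl⟩ : ∃ m, n = m + 1 := ⟨n - 1, by omega⟩
  have hc0 : c ≠ 0 := hc.ne_zero (pow_ne_zero 2 hr.ne_zero)
  obtain ⟨ω, hωdef⟩ : ∃ ω, ω = c ^ (m + 1) := ⟨_, rfl⟩
  have hω : IsPrimitiveRoot ω (m + 1) := hωdef ▸ hc.pow (pow_pos hr.pos 2) (sq _)
  have hω0 : ω ≠ 0 := hω.ne_zero hr.ne_zero
  have hω1 : ω ≠ 1 := hω.ne_one hr.one_lt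
  have hσω : σ ω = ω := by rw [hωdef, map_pow, hσc]
  obtain ⟨d, hd⟩ : ∃ d : Fin (m + 1) → F, d = Fin.cons (c * ω⁻¹) fun _ => c := ⟨_, rfl⟩
  have hd0 : ∀ u, d u ≠ 0 := fun u => by
    rw [hd]; induction u using Fin.cases <;> simp [hc0, hω0]
  have hdet : (Matrix.diagonal d).det = 1 := by
    rw [Matrix.det_diagonal, hd, Fin.prod_univ_succ]
    simp only [Fin.cons_zero, Fin.cons_succ, Finset.prod_const, Finset.card_univ, Fintype.card_fin]
    rw [mul_comm c, mul_assoc, ← pow_succ', ← hωdef, inv_mul_cancel₀ hω0]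
  have hdr : ∀ u, d u ^ (m + 1) = ω := fun u => by
    rw [hd]; induction u using Fin.cases with
    | zero => rw [Fin.cons_zero, mul_pow, inv_pow, hω.pow_eq_one, inv_one, mul_one, hωdef]
    | succ u => simp [hωdef]
  have hne : c * ω⁻¹ ≠ c := fun h => hω1 (inv_eq_one.1 ((mul_eq_left₀ hc0).1 h))
  obtain ⟨h, hh⟩ := hall (Matrix.GeneralLinearGroup.mkOfDetNeZero (Matrix.diagonal d) (by rw [hdet]; exact one_ne_zero))
    hdet ⟨ω, by
      show Matrix.diagonal d ^ (m + 1) = _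
      rw [Matrix.diagonal_pow, ← Matrix.diagonal_one, ← Matrix.diagonal_smul]
      congr 1; funext u; simp [hdr]⟩
    fun z hz => by
      have e := fun u => congrFun (congrFun (show Matrix.diagonal d = z • (1 : Matrix (Fin (m + 1)) (Fin (m + 1)) F)
        from hz) u) u
      simp only [Matrix.diagonal_apply_eq, Matrix.smul_apply, Matrix.one_apply_eq, smul_eq_mul, mul_one] at e
      have e0 := e 0
      have e1 := e (Fin.succ ⟨0, by omega⟩)
      rw [hd] at e0 e1
      simp only [Fin.cons_zero, Fin.cons_succ] at e0 e1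
      exact hne (e0.trans e1.symm)
  obtain ⟨μ, hμ, hp⟩ := cnt_pair hG hd0 rfl hh
  have hcnt : ∀ s : F, cnt d s = (if c * ω⁻¹ = s then 1 else 0) + if c = s then m else 0 := fun s => by
    rw [cnt, hd, Fin.sum_univ_succ]
    simp only [Fin.cons_zero, Fin.cons_succ]
    split_ifs <;> simp
  have p0 := hp c hc0
  rw [hσc, hcnt, hcnt, if_neg hne, if_pos rfl] at p0
  have e : c = μ / c := by
    by_contra he
    rw [if_neg he] at p0
    split_ifs at p0 <;> omega
  have pω := hp (c * ω⁻¹) (mul_ne_zero hc0 (inv_ne_zero hω0))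
  rw [map_mul, map_inv₀, hσc, hσω, hcnt, hcnt, if_pos rfl, if_neg hne.symm] at pω
  rw [eq_div_iff hc0] at e
  have e' : μ / (c * ω⁻¹) = c * ω := by rw [← e]; field_simp
  rw [e', if_neg (fun h : c = c * ω => hω1 ((mul_eq_left₀ hc0).1 h.symm))] at pω
  have h2 : c * ω⁻¹ = c * ω := by
    by_contra he
    rw [if_neg he] at pω; omega
  have h3 : ω ^ 2 = 1 := by
    have := mul_left_cancel₀ hc0 h2
    rw [inv_eq_iff_eq_inv, ← mul_eq_one_iff_eq_inv₀ hω0, ← sq] at this
    exact this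
  have := Nat.le_of_dvd two_pos (hω.dvd_of_pow_eq_one 2 h3)
  omega

end forward

end CfsgLib.MaxSub.SimFix
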