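import Cfsg.Agent.Lib.MaxSub.SimFix
import Cfsg.Agent.Lib.MaxSub.IsoPieces
import Mathlib.FieldTheory.KummerPolynomial
import Mathlib.LinearAlgebra.Matrix.Charpoly.Coeff

/-!
Normal forms of semisimple elements and involutions compatible with a sesquilinear form, and the moving space of a
similitude of odd prime order.
-/

set_option autoImplicit false

namespace CfsgLib.MaxSub.SimFix

open Matrix CfsgLib.Classical

variable {F : Type*} [Field F] {n : ℕ}

local notation "𝕄" => Matrix (Fin n) (Fin n) F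

/-- The matrix of a permutation. -/
def pm (π : Fin n → Fin n) : Matrix (Fin n) (Fin n) F := Matrix.of fun j k => if π j = k then 1 else 0

theorem pm_mulVec (π : Fin n → Fin n) (v : Fin n → F) : (pm π : 𝕄) *ᵥ v = v ∘ π := by
  ext j; simp [pm, Matrix.mulVec, dotProduct]

theorem pm_transpose {π : Fin n → Fin n} (hπ : ∀ j, π (π j) = j) : (pm π : 𝕄)ᵀ = pm π := by
  ext j k
  simp only [pm, Matrix.transpose_apply, Matrix.of_apply]
  exact if_congr ⟨fun h => by rw [← h, hπ], fun h => by rw [← h, hπ]⟩ rfl rfl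

theorem pm_mul_self {π : Fin n → Fin n} (hπ : ∀ j, π (π j) = j) : (pm π : 𝕄) * pm π = 1 := by
  refine Matrix.ext_of_mulVec_single fun k => ?_
  rw [← Matrix.mulVec_mulVec, pm_mulVec, pm_mulVec, Matrix.one_mulVec]
  funext j
  simp [hπ]

theorem pm_map (π : Fin n → Fin n) (σ : F →+* F) : (pm π : 𝕄).map σ = pm π := by
  ext j k; simp [pm, apply_ite σ]

theorem pm_isUnit {π : Fin n → Fin n} (hπ : ∀ j, π (π j) = j) : IsUnit (pm π : 𝕄) :=
  ⟨⟨pm π, pm π, pm_mul_self hπ, pm_mul_self hπ⟩, rfl⟩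

theorem diag_comm_pm {π : Fin n → Fin n} {c : Fin n → F} (hc : ∀ j, c (π j) = c j) :
    Matrix.diagonal c * pm π = (pm π : 𝕄) * Matrix.diagonal c := by
  ext j k
  rw [Matrix.diagonal_mul, Matrix.mul_diagonal]
  by_cases h : π j = k
  · subst h; simp [pm, hc]
  · simp [pm, h]

theorem diag_det (j₀ : Fin n) (c : F) : (Matrix.diagonal fun j : Fin n => if j = j₀ then c else 1).det = c := by
  rw [Matrix.det_diagonal, Finset.prod_ite_eq', if_pos (Finset.mem_univ _)]

theorem pow_root (hr : Nat.Prime n) {r : ℕ} (h : r = n) {ω : F} (hω : ω ^ r = 1) (a b : ZMod r) :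
    ω ^ a.val * ω ^ b.val = ω ^ (a + b).val := by
  haveI : NeZero r := ⟨h ▸ hr.ne_zero⟩
  rw [← pow_add, ZMod.val_add, pow_eq_pow_mod _ hω]

/-- A matrix with `x ^ r = 1` is diagonalisable over a field with a primitive `r`-th root of unity. -/
theorem exists_diag {r : ℕ} (hr : 0 < r) (hrF : (r : F) ≠ 0) {ω : F} (hω : IsPrimitiveRoot ω r) {x : 𝕄}
    (hx : x ^ r = 1) : ∃ (h : GL (Fin n) F) (k : Fin n → ℕ), x * (h : 𝕄) = (h : 𝕄) * Matrix.diagonal fun u => ω ^ k u := by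
  classical
  obtain ⟨S, hS⟩ : ∃ S : Set (Fin n → F), S = {v | ∃ k : ℕ, x *ᵥ v = ω ^ k • v} := ⟨_, rfl⟩
  have hω0 : ω ≠ 0 := hω.ne_zero hr.ne'
  have hspan : Submodule.span F S = ⊤ := eq_top_iff.2 fun v _ => by
    have hdec : v = (r : F)⁻¹ • ∑ k ∈ Finset.range r, ∑ j ∈ Finset.range r, ((ω ^ k)⁻¹) ^ j • (x ^ j *ᵥ v) := by
      rw [Finset.sum_comm, Finset.sum_eq_single 0]
      · simp [← Nat.cast_smul_eq_nsmul F, smul_smul, inv_mul_cancel₀ hrF]
      · intro j hj hj0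
        rw [← Finset.sum_smul]
        have hne : (ω⁻¹) ^ j ≠ 1 := fun h => by
          have := Nat.le_of_dvd (Nat.pos_of_ne_zero hj0) (hω.inv.dvd_of_pow_eq_one j h)
          have := Finset.mem_range.1 hj
          omega
        rw [Finset.sum_congr rfl (g := fun k => ((ω⁻¹) ^ j) ^ k) (fun k _ => by rw [inv_pow, inv_pow, inv_pow, ← pow_mul, ← pow_mul, mul_comm]),
          geom_sum_eq hne, ← pow_mul, mul_comm, pow_mul, hω.inv.pow_eq_one, one_pow, sub_self, zero_div, zero_smul]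
      · exact fun h => absurd (Finset.mem_range.2 hr) h
    rw [hdec]
    refine Submodule.smul_mem _ _ (Submodule.sum_mem _ fun k _ => Submodule.subset_span ?_)
    rw [hS]
    refine ⟨k, ?_⟩
    obtain ⟨c, hc⟩ : ∃ c, c = (ω ^ k)⁻¹ := ⟨_, rfl⟩
    have hcr : c ^ r = 1 := by rw [hc, inv_pow, ← pow_mul, mul_comm, pow_mul, hω.pow_eq_one, one_pow, inv_one]
    have hc' : ω ^ k * c = 1 := by rw [hc, mul_inv_cancel₀ (pow_ne_zero _ hω0)]
    rw [← hc, Matrix.mulVec_sum, Finset.smul_sum]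
    obtain ⟨f, hf⟩ : ∃ f : ℕ → Fin n → F, f = fun j => ω ^ k • c ^ j • (x ^ j *ᵥ v) := ⟨_, rfl⟩
    have h1 : ∀ j, x *ᵥ (c ^ j • (x ^ j *ᵥ v)) = f (j + 1) := fun j => by
      rw [hf]; dsimp only
      rw [Matrix.mulVec_smul, Matrix.mulVec_mulVec, ← pow_succ', smul_smul (ω ^ k), pow_succ' c, ← mul_assoc, hc',
        one_mul]
    have h2 : f r = f 0 := by rw [hf]; simp [hcr, hx]
    rw [Finset.sum_congr rfl fun j _ => h1 j]
    calc ∑ j ∈ Finset.range r, f (j + 1) = ∑ j ∈ Finset.range r, f j := by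
          have e1 := Finset.sum_range_succ' f r
          have e2 := Finset.sum_range_succ f r
          rw [e2, h2] at e1
          exact (add_right_cancel e1).symm
      _ = _ := by rw [hf]
  obtain ⟨b, hbS, hb, hli⟩ := exists_linearIndependent F S
  rw [hspan] at hb
  let β₀ : Module.Basis b F (Fin n → F) := Module.Basis.mk hli (by rw [Subtype.range_coe]; exact hb.ge)
  haveI : Fintype b := FiniteDimensional.fintypeBasisIndex β₀
  obtain ⟨β, hβ⟩ : ∃ β : Module.Basis (Fin n) F (Fin n → F), ∀ u, β u ∈ S := by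
    have hc : Fintype.card b = n := by rw [← Module.finrank_eq_card_basis β₀, Module.finrank_fin_fun]
    refine ⟨β₀.reindex (Fintype.equivFinOfCardEq hc), fun u => ?_⟩
    rw [Module.Basis.reindex_apply, Module.Basis.mk_apply]
    exact hbS (Subtype.prop _)
  choose k hk using fun u => (hS ▸ hβ u : β u ∈ {v | ∃ k : ℕ, x *ᵥ v = ω ^ k • v})
  obtain ⟨h, hh⟩ := KronFix.exists_gl_of_basis β
  refine ⟨h, k, Matrix.ext_of_mulVec_single fun u => ?_⟩
  rw [← Matrix.mulVec_mulVec, hh, hk, ← Matrix.mulVec_mulVec, Matrix.diagonal_mulVec_single, mul_one, ← hh,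
    ← Matrix.mulVec_smul]
  congr 1
  ext j
  simp [Pi.single_apply]

theorem table_five : ∀ a b c d : ZMod 5, ∃ i : Fin 15, ∀ j : Fin 5,
    ![a, b, c, d, -(a + b + c + d)] ((![![0, 2, 1, 4, 3], ![0, 3, 4, 1, 2], ![0, 4, 3, 2, 1], ![2, 1, 0, 4, 3],
      ![3, 1, 4, 0, 2], ![4, 1, 3, 2, 0], ![1, 0, 2, 4, 3], ![3, 4, 2, 0, 1], ![4, 3, 2, 1, 0], ![1, 0, 4, 3, 2],
      ![2, 4, 0, 3, 1], ![4, 2, 1, 3, 0], ![1, 0, 3, 2, 4], ![2, 3, 0, 1, 4], ![3, 2, 1, 0, 4]] :
        Fin 15 → Fin 5 → Fin 5) i j) + ![a, b, c, d, -(a + b + c + d)] j =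
      2 * ![a, b, c, d, -(a + b + c + d)] ((![0, 0, 0, 1, 1, 1, 2, 2, 2, 3, 3, 3, 4, 4, 4] : Fin 15 → Fin 5) i) := by
  decide +kernel

theorem invol_five : ∀ (i : Fin 15) (j : Fin 5), let P := (![![0, 2, 1, 4, 3], ![0, 3, 4, 1, 2], ![0, 4, 3, 2, 1],
    ![2, 1, 0, 4, 3], ![3, 1, 4, 0, 2], ![4, 1, 3, 2, 0], ![1, 0, 2, 4, 3], ![3, 4, 2, 0, 1], ![4, 3, 2, 1, 0],
    ![1, 0, 4, 3, 2], ![2, 4, 0, 3, 1], ![4, 2, 1, 3, 0], ![1, 0, 3, 2, 4], ![2, 3, 0, 1, 4], ![3, 2, 1, 0, 4]] :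
      Fin 15 → Fin 5 → Fin 5); P i (P i j) = j := by
  decide

/-- Multisets of size `r ≤ 5` and sum `0` modulo `r` are symmetric about some residue. -/
theorem exists_pairing {r : ℕ} (hr : r = 3 ∨ r = 5) (e : Fin r → ZMod r) (he : ∑ u, e u = 0) :
    ∃ (π : Fin r → Fin r) (t : ZMod r), (∀ j, π (π j) = j) ∧ ∀ j, e (π j) + e j = t := by
  rcases hr with rfl | rfl
  · refine ⟨![0, 2, 1], e 0 + e 0, by decide, fun j => ?_⟩
    rw [Fin.sum_univ_three] at he
    have h3 : (3 : ZMod 3) = 0 := rfl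
    fin_cases j
    · rfl
    · show e 2 + e 1 = _
      linear_combination he - e 0 * h3
    · show e 1 + e 2 = _
      linear_combination he - e 0 * h3
  · obtain ⟨i, hi⟩ := table_five (e 0) (e 1) (e 2) (e 3)
    have hE : ![e 0, e 1, e 2, e 3, -(e 0 + e 1 + e 2 + e 3)] = e := by
      rw [Fin.sum_univ_five] at he
      funext j
      fin_cases j <;> try rfl
      show -(e 0 + e 1 + e 2 + e 3) = e 4
      linear_combination -he
    rw [hE] at hi
    exact ⟨_, _, fun j => invol_five i j, hi⟩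

/-- In dimension `r ∈ {3, 5}` every element of order `r` is conjugate to a similitude. -/
theorem exists_small [Fintype F] {r : ℕ} (hr : r = 3 ∨ r = 5) (hn : n = r) (hrF : (r : F) ≠ 0) {ω : F}
    (hω : IsPrimitiveRoot ω r) (σ : F →+* F) (hσω : σ ω = ω) (hsq : ¬ r ^ 2 ∣ Fintype.card F - 1)
    {x : GL (Fin n) F} (hx : (x : 𝕄).det = 1) {z : F} (hxr : (x : 𝕄) ^ r = z • 1) :
    ∃ (h D : GL (Fin n) F) (π : Fin n → Fin n), (∀ j, π (π j) = j) ∧ (x : 𝕄) * (h : 𝕄) = (h : 𝕄) * (D : 𝕄) ∧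
      Sim σ (pm π) (D : 𝕄) ∧ ∀ c : F, c ≠ 0 → ∃ k : 𝕄, k.det = c ∧ k * (D : 𝕄) = (D : 𝕄) * k := by
  classical
  subst hn
  have hp : n.Prime := by rcases hr with rfl | rfl <;> decide
  have hodd : Odd n := by rcases hr with rfl | rfl <;> decide
  haveI : NeZero n := ⟨hp.ne_zero⟩
  have hzr : z ^ n = 1 := by
    have := congrArg Matrix.det hxr
    rwa [Matrix.det_pow, hx, one_pow, Matrix.det_smul, Matrix.det_one, mul_one, Fintype.card_fin, eq_comm] at this
  have hz : z = 1 := by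
    by_contra hz1
    have hz0 : z ≠ 0 := fun h => by rw [h, zero_pow hp.ne_zero] at hzr; exact zero_ne_one hzr
    have hirr : Irreducible ((Polynomial.X ^ n - Polynomial.C z : Polynomial F)) :=
      X_pow_sub_C_irreducible_of_prime hp fun c hc => by
        have h2 : orderOf c = n ^ 2 := by
          haveI := Fact.mk hp
          exact orderOf_eq_prime_pow (n := 1) (by rwa [pow_one, hc]) (by rw [pow_succ, pow_one, pow_mul, hc, hzr])
        have hc0 : c ≠ 0 := fun h => hz0 (by rw [← hc, h, zero_pow hp.ne_zero])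
        exact hsq (h2 ▸ orderOf_dvd_of_pow_eq_one (FiniteField.pow_card_sub_one_eq_one c hc0))
    have hm := minpoly.eq_of_irreducible_of_monic hirr (x := (x : Matrix (Fin n) (Fin n) F))
      (by simp [hxr, Algebra.algebraMap_eq_smul_one]) (Polynomial.monic_X_pow_sub_C z hp.ne_zero)
    have hc := Polynomial.eq_of_monic_of_dvd_of_natDegree_le (Polynomial.monic_X_pow_sub_C z hp.ne_zero)
      (Matrix.charpoly_monic (x : Matrix (Fin n) (Fin n) F)) (hm ▸ Matrix.minpoly_dvd_charpoly _)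
      (by rw [Polynomial.natDegree_X_pow_sub_C, Matrix.charpoly_natDegree_eq_dim, Fintype.card_fin])
    rw [Matrix.det_eq_sign_charpoly_coeff, hc, Fintype.card_fin, hodd.neg_one_pow, Polynomial.coeff_sub,
      Polynomial.coeff_X_pow, if_neg hp.ne_zero.symm, Polynomial.coeff_C_zero] at hx
    exact hz1 (by linear_combination hx)
  rw [hz, one_smul] at hxr
  obtain ⟨h, k, hk⟩ := exists_diag hp.pos hrF hω hxr
  obtain ⟨e, he⟩ : ∃ e : Fin n → ZMod n, e = fun u => (k u : ZMod n) := ⟨_, rfl⟩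
  have hpow : ∀ u, ω ^ k u = ω ^ (e u).val := fun u => by
    rw [he, ZMod.val_natCast, ← pow_eq_pow_mod _ hω.pow_eq_one]
  have hsum : ∑ u, e u = 0 := by
    have h1 : (Matrix.diagonal fun u => ω ^ k u).det = 1 := by
      have := congrArg Matrix.det hk
      rw [Matrix.det_mul, Matrix.det_mul, hx, one_mul] at this
      exact ((mul_eq_left₀ (Matrix.isUnits_det_units h).ne_zero).1 this.symm)
    rw [Matrix.det_diagonal, Finset.prod_pow_eq_pow_sum] at h1
    rw [he, ← Nat.cast_sum, ZMod.natCast_eq_zero_iff]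
    exact hω.dvd_of_pow_eq_one _ h1
  obtain ⟨π, t, hπ, ht⟩ := exists_pairing hr e hsum
  have hω0 : ω ≠ 0 := hω.ne_zero hp.ne_zero
  have hdet : (Matrix.diagonal fun u => ω ^ k u).det ≠ 0 := by
    rw [Matrix.det_diagonal]; exact Finset.prod_ne_zero_iff.2 fun u _ => pow_ne_zero _ hω0
  refine ⟨h, Matrix.GeneralLinearGroup.mkOfDetNeZero _ hdet, π, hπ, hk, ⟨ω ^ t.val, pow_ne_zero _ hω0, ?_⟩,
    fun c hc => ⟨_, diag_det (0 : Fin n) c, ?_⟩⟩
  · show (Matrix.diagonal fun u => ω ^ k u)ᵀ * pm π * (Matrix.diagonal fun u => ω ^ k u).map σ = _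
    rw [Matrix.diagonal_transpose, Matrix.diagonal_map (map_zero σ)]
    ext j l
    rw [Matrix.mul_diagonal, Matrix.diagonal_mul, Matrix.smul_apply, smul_eq_mul]
    by_cases hjl : π j = l
    · subst hjl
      simp only [pm, Matrix.of_apply, if_true, Function.comp_apply, mul_one, map_pow, hσω]
      rw [hpow, hpow, pow_root hp rfl hω.pow_eq_one, add_comm, ht]
    · simp [pm, hjl]
  · show _ * Matrix.diagonal _ = Matrix.diagonal _ * _
    rw [Matrix.diagonal_mul_diagonal, Matrix.diagonal_mul_diagonal]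
    exact congrArg _ (funext fun u => mul_comm _ _)

/-- An involution in characteristic two is conjugate to a permutation matrix. -/
theorem exists_swap (h2 : (2 : F) = 0) {x : 𝕄} (hx : x * x = 1) :
    ∃ (h : GL (Fin n) F) (π : Fin n → Fin n), (∀ j, π (π j) = j) ∧ x * (h : 𝕄) = (h : 𝕄) * pm π := by
  classical
  obtain ⟨N, hN⟩ : ∃ N : Module.End F (Fin n → F), N = Matrix.toLinAlgEquiv' x - 1 := ⟨_, rfl⟩
  have hadd : ∀ v : Fin n → F, v + v = 0 := fun v => by rw [← two_smul F, h2, zero_smul]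
  have hxv : ∀ v, x *ᵥ v = v + N v := fun v => by
    rw [hN, LinearMap.sub_apply, Module.End.one_apply, Matrix.toLinAlgEquiv'_apply, add_sub_cancel]
  have hNN : ∀ v, N (N v) = 0 := fun v => by
    have := congrArg (· *ᵥ v) hx
    simp only [← Matrix.mulVec_mulVec, Matrix.one_mulVec, hxv, map_add] at this
    have h' : (N v + N v) + N (N v) = 0 := by linear_combination (norm := module) this
    rwa [hadd, zero_add] at h'
  obtain ⟨C, hC⟩ := Submodule.exists_isCompl (LinearMap.ker N)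
  obtain ⟨s, hs⟩ : ∃ s, Module.finrank F C = s := ⟨_, rfl⟩
  let u := Module.finBasisOfFinrankEq F C hs
  have hNi : ∀ v ∈ C, N v = 0 → v = 0 := fun v hv h => by
    have h' : v ∈ LinearMap.ker N ⊓ C := ⟨h, hv⟩
    rwa [hC.inf_eq_bot, Submodule.mem_bot] at h'
  have hRK : LinearMap.range N ≤ LinearMap.ker N := by rintro _ ⟨v, rfl⟩; exact hNN v
  obtain ⟨W₀, hW₀⟩ := Submodule.exists_isCompl (LinearMap.range N)
  obtain ⟨W, hW⟩ : ∃ W, W = LinearMap.ker N ⊓ W₀ := ⟨_, rfl⟩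
  obtain ⟨l, hl⟩ : ∃ l, Module.finrank F W = l := ⟨_, rfl⟩
  let w := Module.finBasisOfFinrankEq F W hl
  let f : Fin s ⊕ Fin s ⊕ Fin l → Fin n → F :=
    Sum.elim (fun a => (u a : Fin n → F)) (Sum.elim (fun a => x *ᵥ (u a : Fin n → F)) fun c => (w c : Fin n → F))
  have hcard : Fintype.card (Fin s ⊕ Fin s ⊕ Fin l) = n := by
    have h1 := Submodule.finrank_add_eq_of_isCompl hC
    have h2 := N.finrank_range_add_finrank_ker
    have h3 : LinearMap.range N ⊔ W = LinearMap.ker N := by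
      rw [hW, inf_comm, ← sup_inf_assoc_of_le _ hRK, hW₀.sup_eq_top, top_inf_eq]
    have h4 : LinearMap.range N ⊓ W = ⊥ := eq_bot_iff.2 fun v hv =>
      hW₀.inf_eq_bot ▸ ⟨hv.1, (hW ▸ hv.2 : v ∈ LinearMap.ker N ⊓ W₀).2⟩
    have h5 := Submodule.finrank_sup_add_finrank_inf_eq (LinearMap.range N) W
    rw [h3, h4, finrank_bot] at h5
    rw [Module.finrank_fin_fun] at h1 h2
    simp only [Fintype.card_sum, Fintype.card_fin]
    omega
  have hli : LinearIndependent F f := Fintype.linearIndependent_iff.2 fun g hg => by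
    simp only [Fintype.sum_sum_type, f, Sum.elim_inl, Sum.elim_inr, hxv, smul_add, Finset.sum_add_distrib] at hg
    obtain ⟨A, hA⟩ : ∃ A : C, A = ∑ a, g (Sum.inl a) • u a := ⟨_, rfl⟩
    obtain ⟨B, hB⟩ : ∃ B : C, B = ∑ a, g (Sum.inr (Sum.inl a)) • u a := ⟨_, rfl⟩
    obtain ⟨E, hE⟩ : ∃ E : W, E = ∑ c, g (Sum.inr (Sum.inr c)) • w c := ⟨_, rfl⟩
    have hg' : (A : Fin n → F) + ((B : Fin n → F) + N B + (E : Fin n → F)) = 0 := by
      rw [hA, hB, hE]
      simpa [Submodule.coe_sum, map_sum, map_smul] using hg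
    have hE0 : N (E : Fin n → F) = 0 := (hW ▸ E.2 : (E : Fin n → F) ∈ LinearMap.ker N ⊓ W₀).1
    have hAB : ((A + B : C) : Fin n → F) = 0 := hNi _ (A + B).2 (by
      have := congrArg N hg'
      simpa [map_add, hNN, hE0] using this)
    have h1 : N B + (E : Fin n → F) = 0 := by
      rw [Submodule.coe_add] at hAB
      linear_combination (norm := module) hg' - hAB
    have hNB : N B = 0 := by
      have hmem : N B ∈ LinearMap.range N ⊓ W₀ := ⟨⟨_, rfl⟩, by
        rw [eq_neg_of_add_eq_zero_left h1]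
        exact W₀.neg_mem (hW ▸ E.2 : (E : Fin n → F) ∈ LinearMap.ker N ⊓ W₀).2⟩
      rwa [hW₀.inf_eq_bot, Submodule.mem_bot] at hmem
    have hB0 : B = 0 := Subtype.ext (hNi _ B.2 hNB)
    have hA0 : A = 0 := by rw [hB0, add_zero] at hAB; exact Subtype.ext hAB
    have hE1 : E = 0 := Subtype.ext (by rw [hNB, zero_add] at h1; exact h1)
    rintro (a | a | c)
    · exact Fintype.linearIndependent_iff.1 u.linearIndependent _ (hA.symm.trans hA0) a
    · exact Fintype.linearIndependent_iff.1 u.linearIndependent _ (hB.symm.trans hB0) a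
    · exact Fintype.linearIndependent_iff.1 w.linearIndependent _ (hE.symm.trans hE1) c
  let θ : Fin s ⊕ Fin s ⊕ Fin l → Fin s ⊕ Fin s ⊕ Fin l :=
    Sum.elim (fun a => Sum.inr (Sum.inl a)) (Sum.elim (fun a => Sum.inl a) fun c => Sum.inr (Sum.inr c))
  have hθ : ∀ a, x *ᵥ f a = f (θ a) := by
    rintro (a | a | c)
    · rfl
    · show x *ᵥ (x *ᵥ (u a : Fin n → F)) = (u a : Fin n → F)
      rw [Matrix.mulVec_mulVec, hx, Matrix.one_mulVec]
    · show x *ᵥ (w c : Fin n → F) = (w c : Fin n → F)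
      rw [hxv, (hW ▸ (w c).2 : (w c : Fin n → F) ∈ LinearMap.ker N ⊓ W₀).1, add_zero]
  let ε := Fintype.equivFinOfCardEq hcard
  have hli' : LinearIndependent F (f ∘ ε.symm) := hli.comp _ ε.symm.injective
  have hspan : ⊤ ≤ Submodule.span F (Set.range (f ∘ ε.symm)) := by
    refine (Submodule.eq_top_of_finrank_eq ?_).ge
    rw [finrank_span_eq_card hli', Fintype.card_fin, Module.finrank_fin_fun]
  obtain ⟨h, hh⟩ := KronFix.exists_gl_of_basis (Module.Basis.mk hli' hspan)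
  have hθθ : ∀ a, θ (θ a) = a := by rintro (a | a | c) <;> rfl
  have hπ : ∀ j : Fin n, ε (θ (ε.symm (ε (θ (ε.symm j))))) = j := fun j => by
    rw [Equiv.symm_apply_apply, hθθ, Equiv.apply_symm_apply]
  refine ⟨h, fun j => ε (θ (ε.symm j)), hπ, Matrix.ext_of_mulVec_single fun k => ?_⟩
  rw [← Matrix.mulVec_mulVec, hh, ← Matrix.mulVec_mulVec, pm_mulVec, Module.Basis.mk_apply]
  rw [show (Pi.single k (1 : F) : Fin n → F) ∘ (fun j => ε (θ (ε.symm j))) = Pi.single (ε (θ (ε.symm k))) 1 from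
    funext fun j => by
      simp only [Function.comp_apply, Pi.single_apply]
      exact if_congr ⟨fun e => by rw [← e]; exact (hπ j).symm, fun e => by rw [e]; exact hπ k⟩ rfl rfl]
  rw [hh, Module.Basis.mk_apply]
  show x *ᵥ f (ε.symm k) = f (ε.symm (ε (θ (ε.symm k))))
  rw [Equiv.symm_apply_apply, hθ]

section order

theorem pow_sim {σ : F →+* F} {G M : 𝕄} {μ : F} (h : Mᵀ * G * M.map σ = μ • G) :
    ∀ k : ℕ, (M ^ k)ᵀ * G * (M ^ k).map σ = μ ^ k • G := by
  intro k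
  induction k with
  | zero => simp [Matrix.map_one _ (map_zero σ) (map_one σ)]
  | succ k ih =>
    rw [pow_succ, Matrix.transpose_mul, Matrix.map_mul,
      show Mᵀ * (M ^ k)ᵀ * G * ((M ^ k).map σ * M.map σ) = Mᵀ * ((M ^ k)ᵀ * G * (M ^ k).map σ) * M.map σ by
        noncomm_ring, ih, Matrix.mul_smul, Matrix.smul_mul, h, smul_smul, pow_succ]

/-- A similitude of odd prime order moves at least `2 i` dimensions when the dual of a factor differs from it. -/
theorem le_rank_sim [Fintype F] {p e : ℕ} [Fact p.Prime] [CharP F p] {r : ℕ} (hr : r.Prime) (hr2 : r ≠ 2)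
    (hrp : r ≠ p) (hq : ¬ r ∣ Fintype.card F - 1) {σ : F →+* F} (hσσ : ∀ a, σ (σ a) = a)
    (hσp : ∀ a, σ a = a ^ p ^ e) (hsd : ¬ IsoSemi.SelfDual (Fintype.card F) (p ^ e) r) {G M : 𝕄}
    (hG : IsUnit G) (hGt : (G.map σ)ᵀ = G) (hM : Sim σ G M) (hMr : M ^ r = 1) (hM1 : M ≠ 1) :
    2 * orderOf (Fintype.card F : ZMod r) ≤ (M - 1).rank := by
  classical
  haveI := Fact.mk hr
  obtain ⟨μ, hμ0, hM⟩ := hM
  have hne : Nonempty (Fin n) := by
    by_contra h
    haveI := not_nonempty_iff.1 h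
    exact hM1 (Matrix.ext fun j => isEmptyElim j)
  have hμ : μ = 1 := by
    have h := pow_sim hM r
    rw [hMr, Matrix.transpose_one, Matrix.map_one _ (map_zero σ) (map_one σ), Matrix.one_mul, Matrix.mul_one] at h
    have h1 : μ ^ r = 1 := smul_left_injective F hG.ne_zero (by simpa using h.symm)
    have h2 := pow_gcd_eq_one.2 ⟨h1, FiniteField.pow_card_sub_one_eq_one μ hμ0⟩
    rwa [((Nat.Prime.coprime_iff_not_dvd hr).2 hq).gcd_eq_one, pow_one] at h2
  rw [hμ, one_smul] at hM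
  have hrF : (r : F) ≠ 0 := fun h => hrp ((Nat.prime_dvd_prime_iff_eq Fact.out hr).1
    ((CharP.cast_eq_zero_iff F p r).1 h)).symm
  let B : (Fin n → F) →ₛₗ[σ] (Fin n → F) →ₗ[F] F :=
    LinearMap.mk₂'ₛₗ σ (RingHom.id F) (fun u v => v ⬝ᵥ (G *ᵥ (σ ∘ u)))
      (fun u u' v => by
        show v ⬝ᵥ (G *ᵥ (σ ∘ (u + u'))) = _
        rw [show σ ∘ (u + u') = σ ∘ u + σ ∘ u' from funext fun i => map_add σ _ _, Matrix.mulVec_add, dotProduct_add])
      (fun c u v => by
        show v ⬝ᵥ (G *ᵥ (σ ∘ (c • u))) = _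
        rw [show σ ∘ (c • u) = σ c • (σ ∘ u) from funext fun i => map_mul σ _ _, Matrix.mulVec_smul, dotProduct_smul])
      (fun u v v' => add_dotProduct _ _ _) (fun c u v => smul_dotProduct _ _ _)
  have hB : ∀ u v, B u v = v ⬝ᵥ (G *ᵥ (σ ∘ u)) := fun u v => rfl
  have hflip : ∀ u v, B v u = σ (B u v) := fun u v => by
    rw [hB, hB, RingHom.map_dotProduct, show σ ∘ (G *ᵥ (σ ∘ u)) = G.map σ *ᵥ u from funext fun i => by
      rw [Function.comp_apply, RingHom.map_mulVec]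
      exact congrArg (fun w => (G.map σ *ᵥ w) i) (funext fun j => hσσ _)]
    rw [Matrix.dotProduct_mulVec (σ ∘ v), ← Matrix.mulVec_transpose, hGt, dotProduct_comm]
  obtain ⟨T, hT⟩ : ∃ T, T = Matrix.toLinAlgEquiv' M := ⟨_, rfl⟩
  have hTv : ∀ v, T v = M *ᵥ v := fun v => by rw [hT, Matrix.toLinAlgEquiv'_apply]
  have hC : IsoSemi.Ctx B T r :=
    { sep := fun x hx => by
        have h0 : G *ᵥ (σ ∘ x) = 0 := funext fun k => by
          have := hx (Pi.single k 1)
          rw [hB, single_one_dotProduct] at this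
          simpa using this
        have h1 := Matrix.mulVec_injective_iff_isUnit.2 hG (h0.trans (Matrix.mulVec_zero G).symm)
        exact funext fun k => (map_eq_zero_iff σ σ.injective).1 (congrFun h1 k)
      refl := fun u v h => by rw [hflip, h, map_zero]
      invol := hσσ
      flip := ⟨1, by simp, fun u v => by rw [hflip, one_mul]⟩
      iso := fun u v => by
        rw [hB, hB, hTv, hTv, show σ ∘ (M *ᵥ u) = M.map σ *ᵥ (σ ∘ u) from funext fun i => RingHom.map_mulVec σ M u i,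
          ← Matrix.vecMul_transpose, ← Matrix.dotProduct_mulVec, Matrix.mulVec_mulVec, Matrix.mulVec_mulVec, hM]
      pow := by rw [hT, ← map_pow, hMr, map_one]
      prime := hr
      rne := hrF
      rne2 := hr2 }
  have hR : Module.finrank F ↥(LinearMap.range (T - 1)) = (M - 1).rank := by
    rw [hT, ← map_one (Matrix.toLinAlgEquiv' (R := F) (n := Fin n)), ← map_sub]; rfl
  have hpos : 0 < (M - 1).rank := Nat.pos_of_ne_zero fun h => hM1 (Matrix.ext_of_mulVec_single fun k => by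
    rw [← hR, Submodule.finrank_eq_zero] at h
    have : (T - 1) (Pi.single k 1) ∈ LinearMap.range (T - 1) := ⟨_, rfl⟩
    rw [h, Submodule.mem_bot, LinearMap.sub_apply, Module.End.one_apply, sub_eq_zero, hTv] at this
    rw [this, Matrix.one_mulVec])
  obtain ⟨k, hk⟩ := IsoSemi.dvd_finrank hC (IsoSemi.inv_mov T) le_rfl
  rw [hR] at hk
  have hk0 : 0 < k := Nat.pos_of_ne_zero fun h => by rw [h, mul_zero] at hk; omega
  obtain ⟨X, hXR, hXi, hXd⟩ := IsoSemi.exists_sub hC (IsoSemi.inv_mov T) le_rfl 1 (by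
    rw [hR, hk]; exact Nat.mul_le_mul_left _ hk0)
  rw [mul_one] at hXd
  have hti := IsoSemi.ti_of_not_sd hC (p := p) (c := e) hσp hsd hXi hXR hXd
  have := IsoSemi.two_mul_ti_le hC.toGeom (IsoSemi.nd_mov hC) hXR hti
  rw [hXd, hR] at this
  exact this

end order

end CfsgLib.MaxSub.SimFix
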