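import Cfsg.Agent.Lib.MaxSub.SkewRat
import Cfsg.Agent.Lib.MaxSub.RatEven
import Cfsg.Agent.Lib.MaxSub.RatOdd

/-!
Dichotomy for overgroups of subfield groups of skew-Hermitian forms, through involutions.
-/

set_option autoImplicit false
set_option linter.unusedSectionVars false

namespace CfsgLib.MaxSub

section
variable {K W : Type*} [Field K] [AddCommGroup W] [Module K W] [FiniteDimensional K W]

theorem det_of_invol (h2 : (2 : K) ≠ 0) {f : W →ₗ[K] W} (hf : ∀ w, f (f w) = w) :
    LinearMap.det f = (-1 : K) ^ Module.finrank K (eig f (-1)) := by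
  have hmem : eig f 1 ≤ (eig f 1).comap f := fun w hw => by
    rw [Submodule.mem_comap, mem_eig, one_smul, hf]
    rw [mem_eig, one_smul] at hw
    exact hw.symm
  rw [LinearMap.det_eq_det_mul_det (eig f 1) f hmem]
  have h1 : f.restrict hmem = LinearMap.id := LinearMap.ext fun w => Subtype.ext (by
    have := mem_eig.1 w.2
    rwa [one_smul] at this)
  have h3 : (eig f 1).mapQ (eig f 1) f hmem = (-1 : K) • (LinearMap.id : (W ⧸ eig f 1) →ₗ[K] W ⧸ eig f 1) := by
    refine Submodule.linearMap_qext _ (LinearMap.ext fun w => ?_)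
    show Submodule.Quotient.mk (p := eig f 1) (f w) = (-1 : K) • Submodule.Quotient.mk w
    rw [← Submodule.Quotient.mk_smul, Submodule.Quotient.eq, neg_one_smul, sub_neg_eq_add, mem_eig,
      one_smul, map_add, hf, add_comm]
  have h4 := Submodule.finrank_quotient_add_finrank (eig f 1)
  have h5 := finrank_eig_add h2 hf
  rw [h1, h3, LinearMap.det_id, one_mul, LinearMap.det_smul, LinearMap.det_id, mul_one]
  congr 1
  omega

end

variable {F V V₀ : Type*} [Field F] [Finite F] {σ : F →+* F} {F₀ : Subfield F} [AddCommGroup V] [Module F V]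
  [AddCommGroup V₀] [Module F₀ V₀] [FiniteDimensional F₀ V₀] [FiniteDimensional F V]
variable {B : V →ₛₗ[σ] V →ₗ[F] F} {inc : V₀ →+ V}

/-- `x` acts on the rational vectors as `J`. -/
def SMap (inc : V₀ →+ V) (x : sIsoms B) (J : V₀ →ₗ[F₀] V₀) : Prop :=
  ∀ z, x.1 (inc z) = inc (J z)

theorem sIsoms_sq_apply {x : sIsoms B} (hx : x * x = 1) (w : V) : x.1 (x.1 w) = w :=
  congrArg (fun k : sIsoms B => k.1 w) hx

theorem sIsoms_commute_apply {x y : sIsoms B} (h : Commute x y) (w : V) : x.1 (y.1 w) = y.1 (x.1 w) :=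
  congrArg (fun k : sIsoms B => k.1 w) h.eq

theorem finrank_sEig_le_of_conj {a b h : sIsoms B} (hab : h * a * h⁻¹ = b) (e : F) :
    Module.finrank F (eig a.1.toLinearMap e) ≤ Module.finrank F (eig b.1.toLinearMap e) := by
  have hmap : ∀ v ∈ eig a.1.toLinearMap e, h.1.toLinearMap v ∈ eig b.1.toLinearMap e := fun v hv => by
    rw [mem_eig] at hv ⊢
    show b.1 (h.1 v) = _
    rw [← hab]
    show h.1 (a.1 ((h⁻¹).1 (h.1 v))) = _
    rw [show (h⁻¹).1 (h.1 v) = v from h.1.symm_apply_apply v, show a.1 v = e • v from hv, map_smul]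
    rfl
  exact LinearMap.finrank_le_finrank_of_injective (f := h.1.toLinearMap.restrict hmap)
    fun u v huv => Subtype.ext (h.1.injective (congrArg Subtype.val huv))

theorem finrank_sEig_conj {a b h : sIsoms B} (hab : h * a * h⁻¹ = b) (e : F) :
    Module.finrank F (eig a.1.toLinearMap e) = Module.finrank F (eig b.1.toLinearMap e) :=
  le_antisymm (finrank_sEig_le_of_conj hab e) (finrank_sEig_le_of_conj (h := h⁻¹) (by rw [← hab]; group) e)

/-- the rotation of a hyperbolic pair -/
noncomputable def sRot (B : V →ₛₗ[σ] V →ₗ[F] F) (a b : V) : sIsoms B := sTv B a 1 * sTv B b 1 * sTv B a 1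

/-- the determinant of an isometry -/
noncomputable def sDet (B : V →ₛₗ[σ] V →ₗ[F] F) : sIsoms B →* F where
  toFun x := LinearMap.det x.1.toLinearMap
  map_one' := LinearMap.det_id
  map_mul' x y := LinearMap.det_comp x.1.toLinearMap y.1.toLinearMap

theorem sDet_apply (x : sIsoms B) : sDet B x = LinearMap.det x.1.toLinearMap := rfl

namespace SkewRat

variable (A : SkewRat (F₀ := F₀) B inc)
include A

theorem sisom_ext {x y : sIsoms B} (h : ∀ z, x.1 (inc z) = y.1 (inc z)) : x = y := by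
  refine sIsoms_ext fun w => ?_
  exact LinearMap.congr_fun (f := x.1.toLinearMap) (g := y.1.toLinearMap) (LinearMap.ext_on A.span
    (fun _ hw => by obtain ⟨z, rfl⟩ := hw; exact h z)) w

theorem scalar_sq {x : sIsoms B} (hx : x * x = 1) {c : F} {J : V₀ → V₀}
    (h : ∀ z, c • x.1 (inc z) = inc (J z)) : c * c ∈ F₀ := by
  obtain ⟨v, -, -, hvout⟩ := A.exists_out ∅ (by simp)
  obtain ⟨p, -, -, hpv⟩ := A.exists_unit ∅ (by simp) (b := v) hvout
  have e : inc (J (J v)) = (c * c) • inc v := by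
    rw [← h, ← h, map_smul, sIsoms_sq_apply hx, smul_smul]
  have h2 := A.rat p (J (J v))
  rwa [e, bilin_smul_right, hpv, mul_one] at h2

theorem sMap_of_scalar {x : sIsoms B} {c : F} (hc : c ∈ F₀) (hc0 : c ≠ 0)
    (h : ∀ z, ∃ y, c • x.1 (inc z) = inc y) : ∃ J : V₀ →ₗ[F₀] V₀, SMap inc x J := by
  choose f hf using h
  let k : F₀ := ⟨c⁻¹, inv_mem hc⟩
  have key : ∀ z, x.1 (inc z) = inc (k • f z) := fun z => by
    rw [A.inc_smul, ← hf, smul_smul, show ((k : F₀) : F) = c⁻¹ from rfl, inv_mul_cancel₀ hc0, one_smul]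
  exact ⟨{ toFun := fun z => k • f z
           map_add' := fun a b => A.inj (by rw [← key, map_add, map_add, map_add, key, key])
           map_smul' := fun r a => A.inj (by
             rw [← key, A.inc_smul, map_smul, key, RingHom.id_apply, A.inc_smul r]) }, key⟩

theorem sMap_sq {x : sIsoms B} {J : V₀ →ₗ[F₀] V₀} (h : SMap inc x J) (hx : x * x = 1) (z : V₀) :
    J (J z) = z :=
  A.inj (by rw [← h, ← h, sIsoms_sq_apply hx])

/-- the commutator space of an involution is totally isotropic in characteristic two -/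
theorem range_iso (h2 : (2 : F) = 0) {x : sIsoms B} (hx : x * x = 1) (p q : V) :
    B (x.1 p - p) (x.1 q - q) = 0 := by
  have e : B p (x.1 q) = B (x.1 p) q := by
    conv_lhs => rw [← sIsoms_map x, sIsoms_sq_apply hx]
  simp only [map_sub, LinearMap.sub_apply, sIsoms_map, e]
  linear_combination (B p q - B (x.1 p) q) * h2

/-- eigenvectors for opposite signs are orthogonal -/
theorem eigen_perp (h2 : (2 : F) ≠ 0) {x : sIsoms B} {a b : V} (ha : x.1 a = a) (hb : x.1 b = -b) :
    B a b = 0 := by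
  have h := sIsoms_map x b a
  rw [ha, hb, map_neg] at h
  exact (mul_eq_zero.1 (show (2 : F) * B a b = 0 by linear_combination -h)).resolve_left h2

theorem sEig_le_span (h2 : (2 : F) ≠ 0) {x : sIsoms B} {J : V₀ →ₗ[F₀] V₀} (hJ : SMap inc x J)
    (hx : x * x = 1) {e : F₀} (he : e * e = 1) :
    eig x.1.toLinearMap (e : F) ≤ Submodule.span F (inc '' (eig J e : Set V₀)) := by
  intro a ha
  rw [mem_eig] at ha
  have hle : Submodule.span F (Set.range inc) ≤
      (Submodule.span F (inc '' (eig J e : Set V₀))).comap (LinearMap.id + (e : F) • x.1.toLinearMap) := by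
    refine Submodule.span_le.2 ?_
    rintro _ ⟨q, rfl⟩
    refine Submodule.subset_span ⟨q + e • J q, ?_, ?_⟩
    · show q + e • J q ∈ eig J e
      rw [mem_eig, map_add, map_smul, A.sMap_sq hJ hx, smul_add, smul_smul, he, one_smul, add_comm]
    · show inc (q + e • J q) = inc q + (e : F) • x.1 (inc q)
      rw [map_add, A.inc_smul, hJ]
  have h := hle (show a ∈ Submodule.span F (Set.range inc) by rw [A.span]; trivial)
  rw [Submodule.mem_comap] at h
  have e' : (LinearMap.id + (e : F) • x.1.toLinearMap : V →ₗ[F] V) a = (2 : F) • a := by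
    show a + (e : F) • x.1 a = _
    rw [show x.1 a = (e : F) • a from ha, smul_smul,
      show (e : F) * e = 1 from congrArg Subtype.val he, one_smul, two_smul]
  rw [e', Submodule.smul_mem_iff _ h2] at h
  exact h

theorem finrank_span_inc_le (P : Submodule F₀ V₀) :
    Module.finrank F (Submodule.span F (inc '' (P : Set V₀))) ≤ Module.finrank F₀ P := by
  let b := Module.finBasis F₀ P
  have hle : Submodule.span F (inc '' (P : Set V₀)) ≤ Submodule.span F (Set.range fun i => inc (b i : V₀)) := by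
    refine Submodule.span_le.2 ?_
    rintro _ ⟨q, hq, rfl⟩
    have e := congrArg Subtype.val (b.sum_repr ⟨q, hq⟩)
    simp only [Submodule.coe_sum, Submodule.coe_smul] at e
    rw [← e, map_sum]
    exact Submodule.sum_mem _ fun i _ => by
      rw [A.inc_smul]; exact Submodule.smul_mem _ _ (Submodule.subset_span ⟨i, rfl⟩)
  exact (Submodule.finrank_mono hle).trans ((finrank_range_le_card _).trans (by simp))

theorem two₀ (h2 : (2 : F) ≠ 0) : (2 : F₀) ≠ 0 := fun h => h2 (show ((2 : F₀) : F) = 0 by rw [h]; rfl)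

theorem finrank_sEig (h2 : (2 : F) ≠ 0) {x : sIsoms B} {J : V₀ →ₗ[F₀] V₀} (hJ : SMap inc x J)
    (hx : x * x = 1) :
    Module.finrank F (eig x.1.toLinearMap 1) = Module.finrank F₀ (eig J 1) ∧
      Module.finrank F (eig x.1.toLinearMap (-1)) = Module.finrank F₀ (eig J (-1)) := by
  have h1 := (Submodule.finrank_mono (A.sEig_le_span h2 hJ hx (e := 1) (one_mul 1))).trans
    (A.finrank_span_inc_le _)
  have h3 := (Submodule.finrank_mono (A.sEig_le_span h2 hJ hx (e := -1) (by ring))).trans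
    (A.finrank_span_inc_le _)
  have h5 : Module.finrank F (eig x.1.toLinearMap 1) + Module.finrank F (eig x.1.toLinearMap (-1)) =
      Module.finrank F V := finrank_eig_add h2 (f := x.1.toLinearMap) fun w => sIsoms_sq_apply hx w
  have h6 := finrank_eig_add (A.two₀ h2) (A.sMap_sq hJ hx)
  have := A.dim
  rw [show ((1 : F₀) : F) = 1 from rfl] at h1
  rw [show ((-1 : F₀) : F) = -1 from by rw [NegMemClass.coe_neg]; rfl] at h3
  omega

theorem scalar_mem_of_dim {x : sIsoms B} (hx : x * x = 1) {c : F} (hc : c ≠ 0)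
    (h : ∀ z, ∃ y, c • x.1 (inc z) = inc y)
    (hdim : 2 * Module.finrank F (eig x.1.toLinearMap (-1)) ≠ Module.finrank F₀ V₀) : c ∈ F₀ := by
  classical
  by_contra hcm
  choose J hJ using h
  have hd := A.scalar_sq hx hJ
  set d : F₀ := ⟨c * c, hd⟩
  have hxx : ∀ w, x.1 (x.1 w) = w := sIsoms_sq_apply hx
  let L : Subring F :=
    { carrier := {w | ∃ a b : F₀, w = (a : F) + (b : F) * c}
      mul_mem' := by
        rintro _ _ ⟨a, b, rfl⟩ ⟨a', b', rfl⟩
        exact ⟨a * a' + b * b' * d, a * b' + b * a', by simp only [d]; push_cast; ring⟩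
      one_mem' := ⟨1, 0, by simp⟩
      add_mem' := by
        rintro _ _ ⟨a, b, rfl⟩ ⟨a', b', rfl⟩
        exact ⟨a + a', b + b', by push_cast; ring⟩
      zero_mem' := ⟨0, 0, by simp⟩
      neg_mem' := by
        rintro _ ⟨a, b, rfl⟩
        exact ⟨-a, -b, by push_cast; ring⟩ }
  have hall := A.ring L (fun w hw => ⟨⟨w, hw⟩, 0, by simp⟩) c ⟨0, 1, by simp⟩ hcm
  have huniq : ∀ a b : F₀, (a : F) + (b : F) * c = 0 → a = 0 ∧ b = 0 := by
    intro a b h
    rcases eq_or_ne b 0 with rfl | hb
    · exact ⟨Subtype.ext (by simpa using h), rfl⟩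
    · exfalso
      refine hcm ?_
      have hb' : (b : F) ≠ 0 := fun e => hb (Subtype.ext e)
      rw [show c = -(a : F) / b by rw [eq_div_iff hb']; linear_combination h]
      exact div_mem (neg_mem a.2) b.2
  have hF : Nat.card F = Nat.card F₀ ^ 2 := by
    rw [sq, ← Nat.card_prod]
    refine (Nat.card_eq_of_bijective (fun p : F₀ × F₀ => (p.1 : F) + (p.2 : F) * c) ⟨?_, ?_⟩).symm
    · rintro ⟨a, b⟩ ⟨a', b'⟩ h
      obtain ⟨e1, e2⟩ := huniq (a - a') (b - b') (by push_cast; linear_combination h)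
      exact Prod.ext (sub_eq_zero.1 e1) (sub_eq_zero.1 e2)
    · intro w
      obtain ⟨a, b, hab⟩ := hall w
      exact ⟨(a, b), hab.symm⟩
  have vsplit : ∀ w : V, ∃ a b, w = inc a + c • inc b := by
    let S : Submodule F V :=
      { carrier := {w | ∃ a b, w = inc a + c • inc b}
        add_mem' := by
          rintro _ _ ⟨a, b, rfl⟩ ⟨a', b', rfl⟩
          exact ⟨a + a', b + b', by rw [map_add, map_add]; module⟩
        zero_mem' := ⟨0, 0, by simp⟩
        smul_mem' := by
          rintro k _ ⟨a, b, rfl⟩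
          obtain ⟨s, t, rfl⟩ := hall k
          refine ⟨s • a + (t * d) • b, t • a + s • b, ?_⟩
          simp only [map_add, A.inc_smul, d]
          push_cast
          module }
    intro w
    have hle : Submodule.span F (Set.range inc) ≤ S := Submodule.span_le.2 (by
      rintro _ ⟨q, rfl⟩; exact ⟨q, 0, by simp⟩)
    exact hle (show w ∈ Submodule.span F (Set.range inc) by rw [A.span]; trivial)
  have vuniq : ∀ a b, inc a + c • inc b = 0 → a = 0 ∧ b = 0 := by
    intro a b h
    have hp : ∀ p, B (inc p) (inc a) = 0 ∧ B (inc p) (inc b) = 0 := fun p => by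
      have e := congrArg (B (inc p)) h
      rw [map_add, bilin_smul_right, map_zero] at e
      obtain ⟨e1, e2⟩ := huniq ⟨_, A.rat p a⟩ ⟨_, A.rat p b⟩ (by rw [mul_comm] at e; exact e)
      exact ⟨congrArg Subtype.val e1, congrArg Subtype.val e2⟩
    exact ⟨A.inj ((A.eq_zero_of_perp fun p => (hp p).1).trans inc.map_zero.symm),
      A.inj ((A.eq_zero_of_perp fun p => (hp p).2).trans inc.map_zero.symm)⟩
  have hin : ∀ b, inc (-J b) + c • inc b ∈ eig x.1.toLinearMap (-1) := fun b => by
    rw [mem_eig]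
    show x.1 _ = _
    rw [map_add, map_smul, hJ, map_neg, map_neg, ← hJ b, map_smul, hxx]
    module
  have hcard : Nat.card V₀ = Nat.card (eig x.1.toLinearMap (-1)) := by
    refine Nat.card_eq_of_bijective (fun b => ⟨_, hin b⟩) ⟨fun b b' h => ?_, ?_⟩
    · have h' := congrArg Subtype.val h
      exact sub_eq_zero.1 (vuniq (-J b + J b') (b - b') (by
        simp only [map_neg] at h'
        rw [map_add, map_neg, map_sub]
        linear_combination (norm := module) h')).2
    · rintro ⟨w, hw⟩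
      obtain ⟨a, b, rfl⟩ := vsplit w
      refine ⟨b, Subtype.ext ?_⟩
      rw [mem_eig] at hw
      have hx1 : x.1 (inc a) = c • inc (d⁻¹ • J a) := by
        rw [A.inc_smul, ← hJ, smul_smul, smul_smul,
          show c * ((d⁻¹ : F₀) : F) * c = 1 by
            rw [show ((d⁻¹ : F₀) : F) = (c * c)⁻¹ from rfl]; field_simp, one_smul]
      have hw' : x.1 (inc a) + inc (J b) = -(inc a + c • inc b) := by
        rw [← hJ b, ← map_smul, ← map_add, ← neg_one_smul F (inc a + c • inc b)]; exact hw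
      obtain ⟨e1, -⟩ := vuniq (a + J b) (b + d⁻¹ • J a) (by
        rw [hx1] at hw'
        rw [map_add, map_add]
        linear_combination (norm := module) hw')
      show inc (-J b) + c • inc b = inc a + c • inc b
      rw [← eq_neg_of_add_eq_zero_left e1]
  rw [Module.natCard_eq_pow_finrank (K := F₀) (V := V₀),
    Module.natCard_eq_pow_finrank (K := F) (V := eig x.1.toLinearMap (-1)), hF, ← pow_mul] at hcard
  exact hdim (Nat.pow_right_injective (Finite.one_lt_card (α := F₀)) hcard).symm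

/-- the scalar of a rational involution with a negated space of dimension two or four is rational -/
theorem scalar_mem_of_small {x : sIsoms B} (hx : x * x = 1) {c : F} (hc : c ≠ 0)
    (h : ∀ z, ∃ y, c • x.1 (inc z) = inc y)
    (hdim : Module.finrank F (eig x.1.toLinearMap (-1)) = 2 ∨ Module.finrank F (eig x.1.toLinearMap (-1)) = 4)
    (hbig : 9 ≤ Module.finrank F V ∨ Module.finrank F V = 6 ∨ ∀ c : F, c * c ∈ F₀ → c ∈ F₀) : c ∈ F₀ := by
  rcases hbig with h' | h' | h'
  · exact A.scalar_mem_of_dim hx hc h (by have := A.dim; omega)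
  · exact A.scalar_mem_of_dim hx hc h (by have := A.dim; omega)
  · choose J hJ using h
    exact h' c (A.scalar_sq hx hJ)

theorem rot_apply {e f : V₀} (he : B (inc e) (inc e) = 0) (hf : B (inc f) (inc f) = 0)
    (hfe : B (inc f) (inc e) = 1) (hef : B (inc e) (inc f) = -1) (y : V) :
    (sRot B (inc e) (inc f)).1 y = y + (B (inc e) y - B (inc f) y) • inc e +
      (B (inc f) y + B (inc e) y) • inc f := by
  simp only [sRot, Subgroup.coe_mul, LinearEquiv.mul_apply, A.base.tv_apply he (map_one σ),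
    A.base.tv_apply hf (map_one σ), map_add, bilin_smul_right, he, hf, hfe, hef]
  module

theorem det_tv {v : V} (hv : B v v = 0) : sDet B (sTv B v 1) = 1 := by
  haveI : Fintype F := Fintype.ofFinite F
  haveI := ringChar.charP F
  haveI : Fact (ringChar F).Prime := ⟨CharP.char_is_prime F _⟩
  have hpow : ∀ m : ℕ, sTv B v 1 ^ m = sTv B v (m : F) := by
    intro m
    induction m with
    | zero => rw [pow_zero, Nat.cast_zero, A.base.tv_zero hv]
    | succ m ih => rw [pow_succ, ih, Nat.cast_succ, A.base.tv_add hv (map_natCast σ m) (map_one σ)]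
  have h := congrArg (sDet B) (hpow (ringChar F))
  rw [map_pow, ringChar.Nat.cast_ringChar, A.base.tv_zero hv, map_one] at h
  have h' : (sDet B (sTv B v 1) - 1) ^ ringChar F = 0 := by rw [sub_pow_char, h, one_pow, sub_self]
  exact sub_eq_zero.1 (eq_zero_of_pow_eq_zero h')

theorem det_rot {e f : V₀} (he : B (inc e) (inc e) = 0) (hf : B (inc f) (inc f) = 0) :
    sDet B (sRot B (inc e) (inc f)) = 1 := by
  rw [sRot, map_mul, map_mul, A.det_tv he, A.det_tv hf, one_mul, one_mul]

theorem rot_sq_apply {e f : V₀} (he : B (inc e) (inc e) = 0) (hf : B (inc f) (inc f) = 0)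
    (hfe : B (inc f) (inc e) = 1) (hef : B (inc e) (inc f) = -1) (x : V) :
    (sRot B (inc e) (inc f) * sRot B (inc e) (inc f)).1 x =
      x - (2 * B (inc f) x) • inc e + (2 * B (inc e) x) • inc f := by
  simp only [Subgroup.coe_mul, LinearEquiv.mul_apply, A.rot_apply he hf hfe hef, map_add, bilin_smul_right,
    he, hf, hfe, hef]
  module

end SkewRat

namespace SkewCtx

variable {M : Subgroup (sIsoms B)} (C : SkewCtx (F₀ := F₀) B inc M)
include C

theorem even_dichotomy (h2 : (2 : F) = 0) {g : sIsoms B} (hg : g ∈ M) : SKRat inc g := by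
  classical
  have A := C.base
  have hB := A.base
  have sqrt_mem : ∀ {c : F}, c * c ∈ F₀ → c ∈ F₀ := fun {c} h => by
    obtain ⟨d, hd⟩ := CfsgLib.Geom.isSquare_of_two_eq_zero (F := F₀)
      (Subtype.ext (show ((2 : F₀) : F) = 0 from h2)) ⟨_, h⟩
    have hd' : c * c = (d : F) * d := congrArg Subtype.val hd
    have h3 : (c - d) * (c - d) = 0 := by
      linear_combination hd' + ((d : F) * d - c * d) * h2
    rw [sub_eq_zero.1 (mul_self_eq_zero.1 h3)]
    exact d.2
  -- the commutator space of a rational involution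
  have key : ∀ {x : sIsoms B}, x * x = 1 → ∀ {u : V₀} {P : V}, u ≠ 0 → x.1 P - P = inc u →
      ∀ {g : sIsoms B}, g ∈ M → ∀ {v : V₀} {p : V}, B (inc v) (inc v) = 0 → v ≠ 0 →
        x.1 p - p = g.1 (inc v) → SKRat inc g := by
    intro x hx u P hu0 hP g hg v p hv hv0 hp
    have hu : B (inc u) (inc u) = 0 := by rw [← hP]; exact A.range_iso h2 hx _ _
    refine C.move_rat hg hv hv0 hu hu0 ?_
    rw [← hP, ← hp]; exact A.range_iso h2 hx _ _
  have nontriv : ∀ {x : sIsoms B}, x ≠ 1 → x * x = 1 → SKRat inc x →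
      ∃ q u : V₀, u ≠ 0 ∧ B (inc u) (inc u) = 0 ∧ x.1 (inc q) - inc q = inc u := by
    intro x hx1 hx ⟨c, hc, h⟩
    choose f hf using h
    obtain ⟨J, hJ⟩ := A.sMap_of_scalar (sqrt_mem (A.scalar_sq hx hf)) hc fun z => ⟨_, hf z⟩
    obtain ⟨q, hq⟩ : ∃ q, J q - q ≠ 0 := by
      by_contra hall
      push Not at hall
      exact hx1 (A.sisom_ext fun w => by rw [hJ, sub_eq_zero.1 (hall w)]; rfl)
    have e : x.1 (inc q) - inc q = inc (J q - q) := by rw [hJ, map_sub]
    exact ⟨q, _, hq, by rw [← e]; exact A.range_iso h2 hx _ _, e⟩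
  obtain ⟨u, hu, -, huout⟩ := A.exists_out ∅ (by simp)
  have hu0 : u ≠ 0 := fun e => huout (e ▸ Submodule.zero_mem _)
  obtain ⟨pu, -, -, hpu⟩ := A.exists_unit ∅ (by simp) (b := u) huout
  obtain ⟨v, hv, -, hvout⟩ := A.exists_out ∅ (by simp)
  have hv0 : v ≠ 0 := fun e => hvout (e ▸ Submodule.zero_mem _)
  obtain ⟨w, hw, hwS, hwout⟩ := A.exists_out {v} (by simp)
  simp only [Finset.coe_singleton] at hwout
  have hvw : B (inc v) (inc w) = 0 := hwS v (by simp)
  set s := sTv B (inc u) 1 with hsdef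
  set t := sEv B (inc v) (inc w) with htdef
  have hs : s ∈ M := C.mem u hu
  have ht : t ∈ M := C.ev_mem hv hw hvw
  have hs2 : s * s = 1 := by
    rw [hsdef, ← hB.tv_add hu (map_one σ) (map_one σ), one_add_one_eq_two, h2, hB.tv_zero hu]
  have ht2 : t * t = 1 := by
    rw [htdef, ← hB.ev_add hv hw hw hvw hvw hw, ← two_smul F (inc w), h2, zero_smul, hB.ev_zero hv]
  set t' := g * t * g⁻¹ with ht'
  have ht'M : t' ∈ M := mul_mem (mul_mem hg ht) (inv_mem hg)
  have ht'2 : t' * t' = 1 := by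
    rw [ht', show g * t * g⁻¹ * (g * t * g⁻¹) = g * (t * t) * g⁻¹ by group, ht2, mul_one, mul_inv_cancel]
  have hst : ¬ IsConj s t' := by
    intro hc
    obtain ⟨h, hh⟩ := isConj_iff.1 hc
    set k := g⁻¹ * h
    have hk : sTv B (k.1 (inc u)) 1 = t := by
      rw [← hB.tv_conj k hu (map_one σ), ← hsdef,
        show k * s * k⁻¹ = g⁻¹ * (h * s * h⁻¹) * g by simp only [k]; group, hh, ht']
      group
    set a := k.1 (inc u)
    have ha : B a a = 0 := by rw [sIsoms_map, hu]
    obtain ⟨p, -, hpS, hpv⟩ := A.exists_unit ∅ (by simp) (b := v) (by simpa using hv0)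
    have hrange : ∀ x, B (inc w) x • inc v + B (inc v) x • inc w = B a x • a := fun x => by
      have e := congrArg (fun m : sIsoms B => m.1 x) hk
      simp only [htdef, hB.tv_apply ha (map_one σ), hB.ev_apply hv hw hvw, one_mul] at e
      rw [add_assoc] at e
      exact (add_left_cancel e).symm
    -- both vectors are multiples of `a`
    obtain ⟨q₁, hq₁, hq₁S, hq₁w⟩ := A.exists_unit {v} (by simp) (b := w) (by simpa using hwout)
    obtain ⟨q₂, hq₂, hq₂S, hq₂v⟩ := A.exists_unit {w} (by simp) (b := v) (by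
      simpa using not_mem_span_symm hv0 hwout)
    have e1 := hrange (inc q₁)
    rw [hq₁S v (by simp), hB.skew (inc q₁) (inc w), hq₁w, map_one, zero_smul, add_zero] at e1
    have e2 := hrange (inc q₂)
    rw [hq₂S w (by simp), hB.skew (inc q₂) (inc v), hq₂v, map_one, zero_smul, zero_add] at e2
    have hne : B a (inc q₁) ≠ 0 := fun e => by
      rw [e, zero_smul, neg_one_smul, neg_eq_zero] at e1
      exact A.inc_ne hv0 e1
    set α := B a (inc q₂) / B a (inc q₁)
    have hwv : inc w = α • inc v := by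
      have e2' : inc w = -(B a (inc q₂) • a) := by rw [← e2, neg_one_smul, neg_neg]
      have e1' : inc v = -(B a (inc q₁) • a) := by rw [← e1, neg_one_smul, neg_neg]
      rw [e2', e1', smul_neg, smul_smul, div_mul_cancel₀ _ hne]
    have hα := A.rat p w
    rw [hwv, bilin_smul_right, hpv, mul_one] at hα
    exact hwout (Submodule.mem_span_singleton.2 ⟨⟨α, hα⟩, A.inj (by rw [A.inc_smul, hwv])⟩)
  haveI : Finite V := Module.finite_of_finite F
  haveI : Finite (V ≃ₗ[F] V) := Finite.of_injective _ DFunLike.coe_injective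
  haveI : Finite (sIsoms B) := inferInstance
  obtain ⟨j, hjz, hj1, hj2, hjs, hjt, -⟩ := exists_commuting_involution s t' hs2 ht'2 hst
  have hjM : j ∈ M := (Subgroup.zpowers_le.2 (mul_mem hs ht'M)) hjz
  have hsp : s.1 (inc pu) - inc pu = inc u := by
    rw [hsdef, hB.tv_apply hu (map_one σ), hB.skew (inc pu) (inc u), hpu, map_one, one_mul,
      add_sub_cancel_left, neg_one_smul]
    rw [← sub_eq_zero, sub_eq_add_neg, ← neg_add, ← two_smul F, h2, zero_smul, neg_zero]
  have hKj : SKRat inc j := key hs2 hu0 hsp hjM hu hu0 (p := j.1 (inc pu)) (by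
    rw [← sIsoms_commute_apply hjs, ← map_sub, hsp])
  obtain ⟨q, u₁, hu₁0, hu₁, hq⟩ := nontriv hj1 hj2 hKj
  have hKt : SKRat inc t' := key hj2 hu₁0 hq ht'M hu₁ hu₁0 (p := t'.1 (inc q)) (by
    rw [sIsoms_commute_apply hjt, ← map_sub, hq])
  obtain ⟨pv, -, hpvS, hpv⟩ := A.exists_unit {v} (by simp) (b := w) (by simpa using hwout)
  have htp : t.1 (inc pv) - inc pv = inc v := by
    rw [htdef, hB.ev_apply hv hw hvw, hpvS v (by simp), hB.skew (inc pv) (inc w), hpv, map_one, zero_smul,
      add_zero, add_sub_cancel_left, neg_one_smul]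
    rw [← sub_eq_zero, sub_eq_add_neg, ← neg_add, ← two_smul F, h2, zero_smul, neg_zero]
  have ht'1 : t' ≠ 1 := fun e => by
    rw [ht', conj_eq_one_iff] at e
    rw [e] at htp
    exact A.inc_ne hv0 (by rw [← htp]; simp)
  obtain ⟨q', u₂, hu₂0, hu₂, hq'⟩ := nontriv ht'1 ht'2 hKt
  exact key ht'2 hu₂0 hq' hg hv hv0 (p := g.1 (inc pv)) (by
    rw [show t'.1 (g.1 (inc pv)) = g.1 (t.1 (inc pv)) by
      show g.1 (t.1 ((g⁻¹).1 (g.1 (inc pv)))) = _
      rw [show (g⁻¹).1 (g.1 (inc pv)) = inc pv from g.1.symm_apply_apply _], ← map_sub, htp])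

theorem rot_mem {a b : V₀} (ha : B (inc a) (inc a) = 0) (hb : B (inc b) (inc b) = 0) :
    sRot B (inc a) (inc b) ∈ M := mul_mem (mul_mem (C.mem a ha) (C.mem b hb)) (C.mem a ha)

/-- an element commuting up to a scalar with a rational map with two large eigenspaces is rational -/
theorem rat_of_eigen (h2 : (2 : F) ≠ 0) {x y : sIsoms B} (hx : x ∈ M) {J : V₀ →ₗ[F₀] V₀}
    (hy : SMap inc y J) {α : F₀} (hα : α ≠ 0) (h₁ : 2 ≤ Module.finrank F₀ (eig J α))
    (h₃ : 2 ≤ Module.finrank F₀ (eig J (-α))) {ε : F} (h : ∀ w, y.1 (x.1 w) = ε • x.1 (y.1 w)) :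
    SKRat inc x := by
  have A := C.base
  obtain ⟨v, hvm, hv0, hv⟩ := A.iso_in _ h₁
  obtain ⟨γ, hγ2, hγ⟩ : ∃ γ : F₀, 2 ≤ Module.finrank F₀ (eig J γ) ∧ σ (γ : F) * (ε * α) ≠ 1 := by
    by_cases h1 : σ (α : F) * (ε * α) = 1
    · refine ⟨-α, h₃, fun h' => h2 ?_⟩
      rw [NegMemClass.coe_neg, map_neg] at h'
      linear_combination -h1 - h'
    · exact ⟨α, h₁, h1⟩
  obtain ⟨u, hum, hu0, hu⟩ := A.iso_in _ hγ2
  refine C.move_rat hx hv hv0 hu hu0 ?_
  rw [mem_eig] at hvm hum
  have e := sIsoms_map y (x.1 (inc v)) (inc u)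
  rw [h, hy, hy, hvm, hum, A.inc_smul, A.inc_smul] at e
  simp only [map_smul, bilin_smul_left, bilin_smul_right, smul_eq_mul] at e
  by_contra hne
  exact hγ (mul_right_cancel₀ hne (by rw [one_mul]; linear_combination e))

theorem odd_invol (h2 : (2 : F) ≠ 0) {e f : V₀} (he : B (inc e) (inc e) = 0) (hf : B (inc f) (inc f) = 0)
    (hfe : B (inc f) (inc e) = 1) {k : sIsoms B} (hkM : k ∈ M) (hk2 : k * k = 1)
    (hk4 : Module.finrank F (eig k.1.toLinearMap (-1)) = 4)
    (hbig : (9 ≤ Module.finrank F V ∨ (Module.finrank F V = 8 ∧ ∀ c : F, c * c ∈ F₀ → c ∈ F₀)) ∨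
      ((∀ j ∈ Subgroup.zpowers
      (sRot B (inc e) (inc f) * sRot B (inc e) (inc f) * k), ¬ ∀ w, j.1 w = -w) ∧
        Module.finrank F V = 6)) :
    SKRat inc k := by
  classical
  have A := C.base
  have hB := A.base
  have hn := A.dim
  have he0 : e ≠ 0 := fun h => by rw [h, map_zero, map_zero] at hfe; exact zero_ne_one hfe
  have hef : B (inc e) (inc f) = -1 := by rw [hB.skew (inc f) (inc e), hfe, map_one]
  obtain ⟨e₂, he₂, he₂S, he₂out⟩ := A.exists_out {e, f} Finset.card_le_two
  have he₂0 : e₂ ≠ 0 := fun h => he₂out (h ▸ Submodule.zero_mem _)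
  have o1 := he₂S e (by simp)
  have o2 := he₂S f (by simp)
  set s := sRot B (inc e) (inc f) * sRot B (inc e) (inc f) with hsdef
  have hs : s ∈ M := mul_mem (C.rot_mem he hf) (C.rot_mem he hf)
  have hsx := A.rot_sq_apply he hf hfe hef
  have hs2 : s * s = 1 := sIsoms_ext fun x => by
    show s.1 (s.1 x) = x
    rw [hsx, hsx]
    simp only [map_add, map_sub, bilin_smul_right, he, hf, hfe, hef]
    module
  have hse : s.1 (inc e) = -inc e := by rw [hsx, hfe, he]; module
  have hse₂ : s.1 (inc e₂) = inc e₂ := by rw [hsx, o1, o2]; simp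
  have hsd : Module.finrank F (eig s.1.toLinearMap (-1)) = 2 := by
    have hli : LinearIndependent F ![inc e, inc f] := by
      refine LinearIndependent.pair_iff.2 fun a b hab => ?_
      have e1 := congrArg (B (inc f)) hab
      have e2 := congrArg (B (inc e)) hab
      simp only [map_add, bilin_smul_right, hfe, hef, he, hf, map_zero] at e1 e2
      exact ⟨by linear_combination e1, by linear_combination -e2⟩
    have heq : eig s.1.toLinearMap (-1) = Submodule.span F (Set.range ![inc e, inc f]) := by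
      refine le_antisymm (fun x hx => ?_) (Submodule.span_le.2 ?_)
      · rw [mem_eig] at hx
        have hx' : s.1 x = (-1 : F) • x := hx
        rw [hsx] at hx'
        have hx2 : (2 : F) • x = (2 : F) • (B (inc f) x • inc e - B (inc e) x • inc f) := by
          linear_combination (norm := module) hx'
        rw [Matrix.range_cons_cons_empty]
        refine Submodule.mem_span_pair.2 ⟨B (inc f) x, -B (inc e) x, ?_⟩
        rw [neg_smul, ← sub_eq_add_neg]
        exact (smul_right_injective V h2 hx2).symm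
      · rintro _ ⟨i, rfl⟩
        rw [SetLike.mem_coe, mem_eig]
        show s.1 _ = _
        fin_cases i
        · simpa using hse
        · simp only [Matrix.cons_val_one, Matrix.cons_val_fin_one, Fin.mk_one]
          rw [hsx, hef, hf]; module
    rw [heq, finrank_span_eq_card hli, Fintype.card_fin]
  have hst : ¬ IsConj s k := fun h => by
    obtain ⟨h', hh'⟩ := isConj_iff.1 h
    have := finrank_sEig_conj hh' (-1 : F)
    omega
  haveI : Finite V := Module.finite_of_finite F
  haveI : Finite (V ≃ₗ[F] V) := Finite.of_injective _ DFunLike.coe_injective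
  haveI : Finite (sIsoms B) := inferInstance
  obtain ⟨j, hjz, hj1, hj2, hjs, hjt, hjc⟩ := exists_commuting_involution s k hs2 hk2 hst
  have hjM : j ∈ M := (Subgroup.zpowers_le.2 (mul_mem hs hkM)) hjz
  -- `j` is rational
  have hKj : SKRat inc j := C.move_rat hjM he he0 he₂ he₂0 (A.eigen_perp h2 hse₂ (by
    rw [← sIsoms_commute_apply hjs, hse, map_neg]))
  obtain ⟨c, hc, hcj⟩ := hKj
  have hsj2 : (s * j) * (s * j) = 1 := by
    rw [show (s * j) * (s * j) = s * (j * s) * j by group, hjs.eq,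
      show s * (s * j) * j = (s * s) * (j * j) by group, hs2, hj2, mul_one]
  have hsjd : Module.finrank F (eig (s * j).1.toLinearMap (-1)) = 2 ∨
      Module.finrank F (eig (s * j).1.toLinearMap (-1)) = 4 := by
    rcases hjc with h | h <;> obtain ⟨h', hh'⟩ := isConj_iff.1 h <;>
      have := finrank_sEig_conj hh' (-1 : F) <;> omega
  let Js : V₀ →ₗ[F₀] V₀ := LinearMap.id - ((2 : F₀) • A.rb f).smulRight e + ((2 : F₀) • A.rb e).smulRight f
  have hsJ : SMap inc s Js := fun z => by
    rw [hsx, show Js z = z - ((2 : F₀) * A.rb f z) • e + ((2 : F₀) * A.rb e z) • f from rfl, map_add,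
      map_sub, A.inc_smul, A.inc_smul, MulMemClass.coe_mul, MulMemClass.coe_mul, A.rb_coe, A.rb_coe,
      show ((2 : F₀) : F) = 2 from map_ofNat F₀.subtype 2]
  have hcm : c ∈ F₀ := A.scalar_mem_of_small hsj2 hc (fun z => by
    obtain ⟨y, hy⟩ := hcj z
    exact ⟨Js y, by rw [← hsJ, ← hy, map_smul]; rfl⟩) hsjd (by
      rcases hbig with (h | ⟨-, h⟩) | ⟨-, h⟩
      exacts [Or.inl h, Or.inr (Or.inr h), Or.inr (Or.inl h)])
  obtain ⟨J, hJ⟩ := A.sMap_of_scalar hcm hc hcj
  have hJJ := A.sMap_sq hJ hj2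
  have hab := finrank_eig_add (A.two₀ h2) hJJ
  obtain ⟨hd1, hd3⟩ := A.finrank_sEig h2 hJ hj2
  have hne : 1 ≤ Module.finrank F₀ (eig J (-1)) := by
    rw [Nat.one_le_iff_ne_zero]
    intro h0
    have htop : eig J 1 = ⊤ := Submodule.eq_top_of_finrank_eq (by omega)
    refine hj1 (A.sisom_ext fun z => ?_)
    have hz : z ∈ eig J 1 := by rw [htop]; trivial
    rw [mem_eig, one_smul] at hz
    rw [hJ, hz]; rfl
  have hb : 2 ≤ Module.finrank F₀ (eig J (-1)) := by
    by_contra hb
    have e1 : (s * j).1.toLinearMap = s.1.toLinearMap ∘ₗ j.1.toLinearMap := rfl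
    have h := det_of_invol h2 (f := (s * j).1.toLinearMap) fun w => sIsoms_sq_apply hsj2 w
    rw [e1, LinearMap.det_comp, ← e1, det_of_invol h2 (f := s.1.toLinearMap) fun w => sIsoms_sq_apply hs2 w,
      det_of_invol h2 (f := j.1.toLinearMap) fun w => sIsoms_sq_apply hj2 w, hsd, hd3,
      show Module.finrank F₀ (eig J (-1)) = 1 by omega] at h
    rcases hsjd with h' | h' <;> rw [h'] at h <;> exact h2 (by linear_combination -h)
  have ha : 2 ≤ Module.finrank F₀ (eig J 1) := by
    by_contra ha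
    rcases hbig with hbig | ⟨hnm, hn6⟩
    · have hbig8 : 8 ≤ Module.finrank F V := by rcases hbig with h | ⟨h, -⟩ <;> omega
      have hs5 : Module.finrank F (eig s.1.toLinearMap 1) + Module.finrank F (eig s.1.toLinearMap (-1)) =
          Module.finrank F V := finrank_eig_add h2 (f := s.1.toLinearMap) fun w => sIsoms_sq_apply hs2 w
      have h4 := Submodule.finrank_sup_add_finrank_inf_eq (eig s.1.toLinearMap 1) (eig j.1.toLinearMap (-1))
      have h5 := Submodule.finrank_le (eig s.1.toLinearMap 1 ⊔ eig j.1.toLinearMap (-1))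
      have h6 := Submodule.finrank_mono (show eig s.1.toLinearMap 1 ⊓ eig j.1.toLinearMap (-1) ≤
          eig (s * j).1.toLinearMap (-1) from fun w hw => by
        obtain ⟨h1, h3⟩ := hw
        rw [SetLike.mem_coe, mem_eig] at h1 h3
        rw [mem_eig]
        show s.1 (j.1 w) = _
        rw [show j.1 w = (-1 : F) • w from h3, map_smul, show s.1 w = (1 : F) • w from h1, one_smul])
      omega
    rcases Nat.eq_zero_or_pos (Module.finrank F₀ (eig J 1)) with h0 | h0
    · have htop : eig J (-1) = ⊤ := Submodule.eq_top_of_finrank_eq (by omega)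
      refine hnm j hjz fun w => ?_
      have hle : Submodule.span F (Set.range inc) ≤ eig j.1.toLinearMap (-1) := Submodule.span_le.2 (by
        rintro _ ⟨z, rfl⟩
        have hz : z ∈ eig J (-1) := by rw [htop]; trivial
        rw [mem_eig] at hz
        rw [SetLike.mem_coe, mem_eig]
        show j.1 _ = _
        rw [hJ, hz, neg_one_smul, neg_one_smul, map_neg])
      have h := hle (show w ∈ Submodule.span F (Set.range inc) by rw [A.span]; trivial)
      rw [mem_eig, neg_one_smul] at h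
      exact h
    · have e1 : (s * j).1.toLinearMap = s.1.toLinearMap ∘ₗ j.1.toLinearMap := rfl
      have h := det_of_invol h2 (f := (s * j).1.toLinearMap) fun w => sIsoms_sq_apply hsj2 w
      rw [e1, LinearMap.det_comp, ← e1, det_of_invol h2 (f := s.1.toLinearMap) fun w => sIsoms_sq_apply hs2 w,
        det_of_invol h2 (f := j.1.toLinearMap) fun w => sIsoms_sq_apply hj2 w, hsd, hd3,
        show Module.finrank F₀ (eig J (-1)) = 5 by omega] at h
      rcases hsjd with h' | h' <;> rw [h'] at h <;> exact h2 (by linear_combination -h)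
  -- `k` is rational
  obtain ⟨v, hvm, hv0, hv⟩ := A.iso_in (eig J (-1)) hb
  obtain ⟨u, hum, hu0, hu⟩ := A.iso_in (eig J 1) ha
  rw [mem_eig, neg_one_smul] at hvm
  rw [mem_eig, one_smul] at hum
  exact C.move_rat hkM hv hv0 hu hu0 (A.eigen_perp h2 (x := j) (by rw [hJ, hum]) (by
    rw [sIsoms_commute_apply hjt, hJ, hvm, map_neg, map_neg]))

set_option maxHeartbeats 1000000 in
/-- in dimension six an involution in `M` with four-dimensional negated space is rational or has a
rational eigenvector -/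
theorem small_eigvec (h2 : (2 : F) ≠ 0) (hn6 : Module.finrank F V = 6)
    (hsqrt : ∀ c : F, c * c ∈ F₀ → c ∈ F₀) {ι : F₀} (hι : ι * ι = -1) {k : sIsoms B} (hkM : k ∈ M)
    (hk2 : k * k = 1) (hkdet : sDet B k = 1) :
    SKRat inc k ∨ ∃ p : V₀, p ≠ 0 ∧ (k.1 (inc p) = inc p ∨ k.1 (inc p) = -inc p) := by
  classical
  have A := C.base
  have hB := A.base
  have hn := A.dim
  have h20 := A.two₀ h2
  obtain ⟨e, he, -, heout⟩ := A.exists_out ∅ (by simp)
  obtain ⟨f, hf, -, hfe⟩ := A.exists_unit ∅ (by simp) (b := e) heout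
  have hef : B (inc e) (inc f) = -1 := by rw [hB.skew (inc f) (inc e), hfe, map_one]
  obtain ⟨e₂, he₂, he₂S, he₂out⟩ := A.exists_out {e, f} Finset.card_le_two
  obtain ⟨f₂, hf₂, hf₂S, hf₂e⟩ := A.exists_unit {e, f} Finset.card_le_two (b := e₂) he₂out
  have hef₂ : B (inc e₂) (inc f₂) = -1 := by rw [hB.skew (inc f₂) (inc e₂), hf₂e, map_one]
  have o1 := he₂S e (by simp)
  have o2 := he₂S f (by simp)
  have o3 := hf₂S e (by simp)
  have o4 := hf₂S f (by simp)
  -- the third hyperbolic pair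
  obtain ⟨e₃, he₃, he₃S, he₃out⟩ := A.exists_out' {e, f, e₂, f₂} ∅
    (by have := A.six_le; have := Finset.card_le_four (a := e) (b := f) (c := e₂) (d := f₂)
        simp only [Finset.card_empty]; omega) (by
      rintro x ⟨hx, hxS⟩
      simp only [Finset.coe_insert, Finset.coe_singleton, SetLike.mem_coe] at hx
      obtain ⟨a, y, hy, rfl⟩ := Submodule.mem_span_insert.1 hx
      obtain ⟨b, y', hy', rfl⟩ := Submodule.mem_span_insert.1 hy
      obtain ⟨c, d, rfl⟩ := Submodule.mem_span_pair.1 hy'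
      have t1 := hxS f (by simp)
      have t2 := hxS e (by simp)
      have t3 := hxS f₂ (by simp)
      have t4 := hxS e₂ (by simp)
      simp only [map_add, A.inc_smul, bilin_smul_right, he, hf, hfe, hef, he₂, hf₂, hf₂e, hef₂, o1, o2, o3, o4,
        A.inc_symm o1, A.inc_symm o2, A.inc_symm o3, A.inc_symm o4, mul_zero, add_zero, zero_add,
        mul_one, mul_neg, neg_eq_zero] at t1 t2 t3 t4
      rw [show a = 0 from Subtype.ext t1, show b = 0 from Subtype.ext t2, show c = 0 from Subtype.ext t3,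
        show d = 0 from Subtype.ext t4]
      simp)
  have hperp4 : ∀ s ∈ ({e, f, e₂, f₂} : Finset V₀), B (inc s) (inc e₃) = 0 := he₃S
  obtain ⟨f₃, hf₃, hf₃e, hf₃S⟩ : ∃ f₃, B (inc f₃) (inc f₃) = 0 ∧ B (inc f₃) (inc e₃) = 1 ∧
      ∀ s ∈ ({e, f, e₂, f₂} : Finset V₀), B (inc s) (inc f₃) = 0 := by
    have he₃out' : e₃ ∉ Submodule.span F₀ (({e, f, e₂, f₂} : Finset V₀) : Set V₀) := he₃out
    obtain ⟨z₀, hz₀S, hz₀⟩ := A.exists_pair he₃out'
    obtain ⟨t, ht⟩ := A.iso_shift z₀ e₃ he₃ hz₀
    set z := z₀ + t • e₃ with hz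
    have hzv : B (inc e₃) (inc z) = B (inc e₃) (inc z₀) := by
      rw [hz, map_add, map_add, A.inc_smul, bilin_smul_right, he₃, mul_zero, add_zero]
    have hne : B (inc z) (inc e₃) ≠ 0 := fun h0 => hz₀ (by rw [← hzv]; exact A.inc_symm h0)
    let kk : F₀ := ⟨σ (B (inc z) (inc e₃))⁻¹, A.sig _ (inv_mem (A.rat z e₃))⟩
    refine ⟨kk • z, A.iso_smul ht kk, ?_, fun s hs => ?_⟩
    · rw [A.inc_smul, bilin_smul_left, show σ (kk : F) = (B (inc z) (inc e₃))⁻¹ from hB.inv _,
        inv_mul_cancel₀ hne]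
    · rw [A.inc_smul, bilin_smul_right, hz, map_add, map_add, A.inc_smul, bilin_smul_right, hz₀S s hs,
        hperp4 s hs, mul_zero, add_zero, mul_zero]
  have hef₃ : B (inc e₃) (inc f₃) = -1 := by rw [hB.skew (inc f₃) (inc e₃), hf₃e, map_one]
  set W₁ := sRot B (inc e) (inc f)
  set W₂ := sRot B (inc e₂) (inc f₂)
  set W₃ := sRot B (inc e₃) (inc f₃)
  set i := W₁ * W₂ * W₃ with hidef
  have hiM : i ∈ M := mul_mem (mul_mem (C.rot_mem he hf) (C.rot_mem he₂ hf₂)) (C.rot_mem he₃ hf₃)
  have p1 := hperp4 e (by simp)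
  have p2 := hperp4 f (by simp)
  have p3 := hperp4 e₂ (by simp)
  have p4 := hperp4 f₂ (by simp)
  have q1 := hf₃S e (by simp)
  have q2 := hf₃S f (by simp)
  have q3 := hf₃S e₂ (by simp)
  have q4 := hf₃S f₂ (by simp)
  have hix : ∀ x, i.1 x = x + (B (inc e) x - B (inc f) x) • inc e + (B (inc f) x + B (inc e) x) • inc f +
      (B (inc e₂) x - B (inc f₂) x) • inc e₂ + (B (inc f₂) x + B (inc e₂) x) • inc f₂ +
      (B (inc e₃) x - B (inc f₃) x) • inc e₃ + (B (inc f₃) x + B (inc e₃) x) • inc f₃ := fun x => by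
    simp only [hidef, W₁, W₂, W₃, Subgroup.coe_mul, LinearEquiv.mul_apply, A.rot_apply he hf hfe hef,
      A.rot_apply he₂ hf₂ hf₂e hef₂, A.rot_apply he₃ hf₃ hf₃e hef₃, map_add, bilin_smul_right,
      o1, o2, o3, o4, p1, p2, p3, p4, q1, q2, q3, q4]
    module
  have hie : i.1 (inc e) = inc f := by
    rw [hix, he, hfe, A.inc_symm o1, A.inc_symm o3, A.inc_symm p1, A.inc_symm q1]; module
  have hif : i.1 (inc f) = -inc e := by
    rw [hix, hef, hf, A.inc_symm o2, A.inc_symm o4, A.inc_symm p2, A.inc_symm q2]; module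
  have hie₂ : i.1 (inc e₂) = inc f₂ := by
    rw [hix, o1, o2, he₂, hf₂e, A.inc_symm p3, A.inc_symm q3]; module
  have hif₂ : i.1 (inc f₂) = -inc e₂ := by
    rw [hix, o3, o4, hef₂, hf₂, A.inc_symm p4, A.inc_symm q4]; module
  have hie₃ : i.1 (inc e₃) = inc f₃ := by
    rw [hix, p1, p2, p3, p4, he₃, hf₃e]; module
  have hif₃ : i.1 (inc f₃) = -inc e₃ := by
    rw [hix, q1, q2, q3, q4, hef₃, hf₃]; module
  -- the six vectors span
  have hspan : ∀ w : V, w ∈ Submodule.span F (Set.range ![inc e, inc f, inc e₂, inc f₂, inc e₃, inc f₃]) := by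
    have hli : LinearIndependent F ![inc e, inc f, inc e₂, inc f₂, inc e₃, inc f₃] := by
      rw [Fintype.linearIndependent_iff]
      intro c hc
      simp only [Fin.sum_univ_six, Matrix.cons_val] at hc
      have e1 := congrArg (B (inc f)) hc
      have e2 := congrArg (B (inc e)) hc
      have e3 := congrArg (B (inc f₂)) hc
      have e4 := congrArg (B (inc e₂)) hc
      have e5 := congrArg (B (inc f₃)) hc
      have e6 := congrArg (B (inc e₃)) hc
      simp only [map_add, bilin_smul_right, he, hf, hfe, hef, he₂, hf₂, hf₂e, hef₂, he₃, hf₃, hf₃e, hef₃,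
        o1, o2, o3, o4, p1, p2, p3, p4, q1, q2, q3, q4, A.inc_symm o1, A.inc_symm o2, A.inc_symm o3,
        A.inc_symm o4, A.inc_symm p1, A.inc_symm p2, A.inc_symm p3, A.inc_symm p4, A.inc_symm q1,
        A.inc_symm q2, A.inc_symm q3, A.inc_symm q4, map_zero] at e1 e2 e3 e4 e5 e6
      intro n
      fin_cases n
      · show c 0 = 0; linear_combination e1
      · show c 1 = 0; linear_combination -e2
      · show c 2 = 0; linear_combination e3
      · show c 3 = 0; linear_combination -e4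
      · show c 4 = 0; linear_combination e5
      · show c 5 = 0; linear_combination -e6
    intro w
    rw [Submodule.eq_top_of_finrank_eq (show Module.finrank F (Submodule.span F (Set.range
      ![inc e, inc f, inc e₂, inc f₂, inc e₃, inc f₃])) = Module.finrank F V by
        rw [finrank_span_eq_card hli, Fintype.card_fin, hn6])]
    trivial
  have hi2 : ∀ w, i.1 (i.1 w) = -w := by
    have hle : Submodule.span F (Set.range ![inc e, inc f, inc e₂, inc f₂, inc e₃, inc f₃]) ≤
        eig (i.1.toLinearMap ∘ₗ i.1.toLinearMap) (-1) := Submodule.span_le.2 (by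
      rintro _ ⟨n, rfl⟩
      rw [SetLike.mem_coe, mem_eig, neg_one_smul]
      show i.1 (i.1 _) = _
      fin_cases n <;> simp [hie, hif, hie₂, hif₂, hie₃, hif₃])
    intro w
    have h := hle (hspan w)
    rw [mem_eig, neg_one_smul] at h
    exact h
  have hidet : sDet B i = 1 := by
    rw [hidef, map_mul, map_mul, A.det_rot he hf, A.det_rot he₂ hf₂, A.det_rot he₃ hf₃, one_mul, one_mul]
  -- the rational map of `i`
  obtain ⟨I, hI⟩ : ∃ I : V₀ →ₗ[F₀] V₀, SMap inc i I := by
    refine A.sMap_of_scalar (c := 1) (one_mem _) one_ne_zero fun z => ?_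
    refine ⟨z + (A.rb e z - A.rb f z) • e + (A.rb f z + A.rb e z) • f + (A.rb e₂ z - A.rb f₂ z) • e₂ +
      (A.rb f₂ z + A.rb e₂ z) • f₂ + (A.rb e₃ z - A.rb f₃ z) • e₃ + (A.rb f₃ z + A.rb e₃ z) • f₃, ?_⟩
    rw [one_smul, hix]
    simp only [map_add, A.inc_smul, AddSubgroupClass.coe_sub, AddMemClass.coe_add, A.rb_coe]
  have hι2 : (ι : F) * ι = -1 := by
    have := congrArg Subtype.val hι
    simpa using this
  have hι0 : ι ≠ 0 := fun h => by rw [h, zero_mul] at hι; exact one_ne_zero (neg_eq_zero.1 hι.symm)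
  have hI2 : ∀ z, I (I z) = (ι * ι) • z := fun z => A.inj (by
    rw [← hI, ← hI, hi2, hι, neg_one_smul, map_neg])
  have hIdim : 2 ≤ Module.finrank F₀ (eig I ι) ∧ 2 ≤ Module.finrank F₀ (eig I (-ι)) := by
    have hmem : ∀ (d : F₀), d * d = -1 → ∀ {a b : V₀}, i.1 (inc a) = inc b → i.1 (inc b) = -inc a →
        a - d • b ∈ eig I d := fun d hd {a b} hab hba => by
      rw [mem_eig]
      refine A.inj ?_
      rw [← hI, map_sub, A.inc_smul, map_sub, map_smul, hab, hba, A.inc_smul, map_sub, A.inc_smul, smul_sub,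
        smul_smul, show ((d : F) * d) = -1 by have := congrArg Subtype.val hd; simpa using this]
      module
    have hli : ∀ d : F₀, d * d = -1 → 2 ≤ Module.finrank F₀ (eig I d) := fun d hd => by
      have hl : LinearIndependent F₀ ![(⟨_, hmem d hd hie hif⟩ : eig I d), ⟨_, hmem d hd hie₂ hif₂⟩] := by
        refine LinearIndependent.pair_iff.2 fun a b hab => ?_
        have h := congrArg (fun v : eig I d => inc (v : V₀)) hab
        simp only [Submodule.coe_add, Submodule.coe_smul, ZeroMemClass.coe_zero, map_add, map_sub, A.inc_smul,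
          map_zero] at h
        have e1 := congrArg (B (inc f)) h
        have e2 := congrArg (B (inc f₂)) h
        simp only [map_add, map_sub, bilin_smul_right, hf, hfe, o2, o4, A.inc_symm o3, A.inc_symm o4,
          hf₂, hf₂e, map_zero, mul_zero, sub_zero, zero_add, add_zero, mul_one] at e1 e2
        exact ⟨Subtype.ext e1, Subtype.ext e2⟩
      simpa using hl.fintype_card_le_finrank
    exact ⟨hli ι hι, hli (-ι) (by rw [neg_mul_neg, hι])⟩
  -- the commuting element modulo signs
  let z : sIsoms B := ⟨LinearEquiv.neg F, fun x y => by simp⟩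
  have hzw : ∀ w, z.1 w = -w := fun w => rfl
  have hz2 : z * z = 1 := sIsoms_ext fun w => by
    show z.1 (z.1 w) = w
    rw [hzw, hzw, neg_neg]
  let N := Subgroup.zpowers z
  haveI hN : N.Normal := ⟨fun x hx y => by
    obtain ⟨m, rfl⟩ := Subgroup.mem_zpowers_iff.1 hx
    have hc : Commute y z := sIsoms_ext fun w => by
      show y.1 (z.1 w) = z.1 (y.1 w)
      rw [hzw, hzw, map_neg]
    rw [(hc.zpow_right m).eq, mul_inv_cancel_right]
    exact Subgroup.zpow_mem _ (Subgroup.mem_zpowers z) m⟩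
  have hmemN : ∀ {x}, x ∈ N → x = 1 ∨ x = z := fun {x} hx => by
    obtain ⟨m, rfl⟩ := Subgroup.mem_zpowers_iff.1 hx
    rcases Int.even_or_odd' m with ⟨l, rfl | rfl⟩
    · left; rw [zpow_mul, zpow_two, hz2, one_zpow]
    · right; rw [zpow_add, zpow_mul, zpow_two, hz2, one_zpow, one_mul, zpow_one]
  have hi2' : i * i = z := sIsoms_ext fun w => by
    show i.1 (i.1 w) = z.1 w
    rw [hi2, hzw]
  have hz1 : z ≠ 1 := fun h => by
    have h' := congrArg (fun y : sIsoms B => y.1 (inc e)) h
    have h'' : -inc e = inc e := by rw [← hzw]; exact h'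
    exact A.inc_ne (fun e0 : e = 0 => heout (by rw [e0]; exact Submodule.zero_mem _))
      ((smul_eq_zero.1 (show (2 : F) • inc e = 0 by rw [two_smul, ← eq_neg_iff_add_eq_zero]; exact h''.symm)).resolve_left h2)
  haveI : Finite V := Module.finite_of_finite F
  haveI : Finite (V ≃ₗ[F] V) := Finite.of_injective _ DFunLike.coe_injective
  haveI : Finite (sIsoms B) := inferInstance
  have hmk1 : ∀ {x}, x ∈ N → (QuotientGroup.mk x : sIsoms B ⧸ N) = 1 := fun hx =>
    (QuotientGroup.eq_one_iff _).2 hx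
  have hne : ¬ IsConj (QuotientGroup.mk i : sIsoms B ⧸ N) (QuotientGroup.mk k) := fun hc => by
    obtain ⟨h, hh⟩ := isConj_iff.1 hc
    obtain ⟨h', rfl⟩ := QuotientGroup.mk_surjective h
    rw [← QuotientGroup.mk_mul, ← QuotientGroup.mk_inv, ← QuotientGroup.mk_mul, QuotientGroup.eq] at hh
    have hkk : k = h' * i * h'⁻¹ * ((h' * i * h'⁻¹)⁻¹ * k) := by group
    have hk2' := hk2
    rcases hmemN hh with h0 | h0 <;> rw [hkk, h0] at hk2'
    · refine hz1 ?_
      rw [mul_one, show h' * i * h'⁻¹ * (h' * i * h'⁻¹) = h' * (i * i) * h'⁻¹ by group, hi2'] at hk2'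
      exact conj_eq_one_iff.1 hk2'
    · have hc : Commute z (h' * i * h'⁻¹) := sIsoms_ext fun w => by
        show z.1 ((h' * i * h'⁻¹).1 w) = (h' * i * h'⁻¹).1 (z.1 w)
        rw [hzw, hzw, map_neg]
      refine hz1 ?_
      rw [show h' * i * h'⁻¹ * z * (h' * i * h'⁻¹ * z) = h' * i * h'⁻¹ * (z * (h' * i * h'⁻¹)) * z by group,
        hc.eq, show h' * i * h'⁻¹ * (h' * i * h'⁻¹ * z) * z = h' * (i * i) * h'⁻¹ * (z * z) by group,
        hi2', hz2, mul_one] at hk2'
      exact conj_eq_one_iff.1 hk2'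
  obtain ⟨j', hj'z, hj'1, hj'2, hj'i, hj'k, -⟩ := exists_commuting_involution
    (QuotientGroup.mk i : sIsoms B ⧸ N) (QuotientGroup.mk k)
    (by rw [← QuotientGroup.mk_mul, hi2']; exact hmk1 (Subgroup.mem_zpowers z))
    (by rw [← QuotientGroup.mk_mul, hk2]; rfl) hne
  obtain ⟨m, rfl⟩ := Subgroup.mem_zpowers_iff.1 hj'z
  rw [← QuotientGroup.mk_mul, ← QuotientGroup.mk_zpow] at hj'1 hj'2 hj'i hj'k
  set j := (i * k) ^ m
  have hjM : j ∈ M := zpow_mem (mul_mem hiM hkM) m
  have hjdet : sDet B j = 1 := by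
    have hu : ∀ x : sIsoms B, sDet B x = 1 → x ∈ (sDet B).ker := fun x hx => hx
    exact zpow_mem (hu (i * k) (by rw [map_mul, hidet, hkdet, one_mul])) m
  have hcomm : ∀ x : sIsoms B, Commute (QuotientGroup.mk j : sIsoms B ⧸ N) (QuotientGroup.mk x) →
      ∃ ε : F, (ε = 1 ∨ ε = -1) ∧ (∀ w, j.1 (x.1 w) = ε • x.1 (j.1 w)) ∧
        ∀ w, x.1 (j.1 w) = ε • j.1 (x.1 w) := fun x hx => by
    have hx' : (QuotientGroup.mk (x * j) : sIsoms B ⧸ N) = QuotientGroup.mk (j * x) := hx.eq.symm
    rw [QuotientGroup.eq] at hx'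
    have e : j * x = x * j * ((x * j)⁻¹ * (j * x)) := by group
    rcases hmemN hx' with h0 | h0 <;> rw [h0] at e
    · have h1 : ∀ w, j.1 (x.1 w) = x.1 (j.1 w) := fun w =>
        congrArg (fun y : sIsoms B => y.1 w) (e.trans (mul_one _))
      exact ⟨1, Or.inl rfl, fun w => by rw [one_smul, h1], fun w => by rw [one_smul, h1]⟩
    · have h1 : ∀ w, j.1 (x.1 w) = -x.1 (j.1 w) := fun w => by
        rw [← map_neg, ← map_neg, ← hzw]; exact congrArg (fun y : sIsoms B => y.1 w) e
      exact ⟨-1, Or.inr rfl, fun w => by rw [neg_one_smul, h1],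
        fun w => by rw [neg_one_smul, h1, neg_neg]⟩
  obtain ⟨ε₁, -, -, hij⟩ := hcomm i hj'i
  obtain ⟨ε₂, hε₂, hjk, -⟩ := hcomm k hj'k
  -- `j` is rational
  obtain ⟨c, hc, hcj⟩ : SKRat inc j := C.rat_of_eigen h2 hjM hI hι0 hIdim.1 hIdim.2 hij
  obtain ⟨α, hαv, hj2⟩ : ∃ α : F₀, (α = 1 ∨ α = ι) ∧ ∀ w, j.1 (j.1 w) = ((α : F) * α) • w := by
    have h0 : j * j ∈ N := (QuotientGroup.eq_one_iff _).1 (by rw [QuotientGroup.mk_mul]; exact hj'2)
    rcases hmemN h0 with h0 | h0
    · exact ⟨1, Or.inl rfl, fun w => by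
        rw [OneMemClass.coe_one, one_mul, one_smul]; exact congrArg (fun y : sIsoms B => y.1 w) h0⟩
    · exact ⟨ι, Or.inr rfl, fun w => by
        rw [hι2, neg_one_smul, ← hzw]; exact congrArg (fun y : sIsoms B => y.1 w) h0⟩
  have hα0 : α ≠ 0 := by rcases hαv with rfl | rfl; exacts [one_ne_zero, hι0]
  have hα0' : (α : F) ≠ 0 := fun h => hα0 (Subtype.ext h)
  have hcm : c ∈ F₀ := hsqrt c (by
    choose J hJ using hcj
    obtain ⟨p, -, -, hpv⟩ := A.exists_unit ∅ (by simp) (b := e) heout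
    have h' : inc (J (J e)) = (c * c * ((α : F) * α)) • inc e := by
      rw [← hJ, ← hJ, map_smul, hj2, smul_smul, smul_smul]
    have h2' := A.rat p (J (J e))
    rw [h', bilin_smul_right, hpv, mul_one] at h2'
    have h3 := div_mem h2' (mul_mem α.2 α.2)
    rwa [mul_div_cancel_right₀ _ (mul_ne_zero hα0' hα0')] at h3)
  obtain ⟨J, hJ⟩ := A.sMap_of_scalar hcm hc hcj
  have hJ2 : ∀ w, J (J w) = (α * α) • w := fun w => A.inj (by
    rw [← hJ, ← hJ, hj2, A.inc_smul, MulMemClass.coe_mul])
  by_cases hboth : 2 ≤ Module.finrank F₀ (eig J α) ∧ 2 ≤ Module.finrank F₀ (eig J (-α))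
  · exact Or.inl (C.rat_of_eigen h2 hkM hJ hα0 hboth.1 hboth.2 hjk)
  refine Or.inr ?_
  obtain ⟨γ, hγv, hsmall⟩ : ∃ γ, (γ = α ∨ γ = -α) ∧ Module.finrank F₀ (eig J γ) ≤ 1 := by
    by_cases h' : 2 ≤ Module.finrank F₀ (eig J α)
    · exact ⟨-α, Or.inr rfl, by have := mt (And.intro h') hboth; omega⟩
    · exact ⟨α, Or.inl rfl, by omega⟩
  have hγ2 : γ * γ = α * α := by rcases hγv with rfl | rfl <;> ring
  have hγ0 : γ ≠ 0 := by rcases hγv with rfl | rfl; exacts [hα0, neg_ne_zero.2 hα0]
  have hsplit : ∀ w : V₀, ∃ a ∈ eig J γ, ∃ b ∈ eig J (-γ), w = a + b := fun w => by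
    refine ⟨(2 : F₀)⁻¹ • (w + γ⁻¹ • J w), Submodule.smul_mem _ _ ?_,
      (2 : F₀)⁻¹ • (w - γ⁻¹ • J w), Submodule.smul_mem _ _ ?_, ?_⟩
    · rw [mem_eig, map_add, map_smul, hJ2, ← hγ2, smul_add, smul_smul, smul_smul, mul_inv_cancel₀ hγ0,
        one_smul, show γ⁻¹ * (γ * γ) = γ by field_simp, add_comm]
    · rw [mem_eig, map_sub, map_smul, hJ2, ← hγ2, smul_sub, smul_smul, smul_smul, neg_mul,
        mul_inv_cancel₀ hγ0, show γ⁻¹ * (γ * γ) = γ by field_simp]
      module
    · rw [← smul_add, show w + γ⁻¹ • J w + (w - γ⁻¹ • J w) = (2 : F₀) • w by module, smul_smul,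
        inv_mul_cancel₀ h20, one_smul]
  have hmapeig : ∀ {d : F₀} {a : V₀}, a ∈ eig J d → j.1 (inc a) = (d : F) • inc a := fun {d a} ha => by
    rw [mem_eig] at ha
    rw [hJ, ha, A.inc_smul]
  by_cases hzero : Module.finrank F₀ (eig J γ) = 0
  · exfalso
    have hbot : eig J γ = ⊥ := Submodule.finrank_eq_zero.1 hzero
    have hall : ∀ w, j.1 w = ((-γ : F₀) : F) • w := by
      have hle : Submodule.span F (Set.range inc) ≤ eig j.1.toLinearMap ((-γ : F₀) : F) :=
        Submodule.span_le.2 (by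
          rintro _ ⟨w, rfl⟩
          obtain ⟨a, ha, b, hb, rfl⟩ := hsplit w
          rw [hbot, Submodule.mem_bot] at ha
          rw [SetLike.mem_coe, mem_eig, ha, zero_add]
          exact hmapeig hb)
      intro w
      have h' := hle (show w ∈ Submodule.span F (Set.range inc) by rw [A.span]; trivial)
      rw [mem_eig] at h'
      exact h'
    have hg1 : (γ : F) = 1 ∨ (γ : F) = -1 ∨ (γ : F) = ι ∨ (γ : F) = -(ι : F) := by
      rcases hγv with rfl | rfl <;> rcases hαv with rfl | rfl <;> simp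
    have hcases : (j = 1 ∨ j = z) ∨ (γ : F) * γ = -1 := by
      rcases hg1 with h' | h' | h' | h'
      · exact Or.inl (Or.inr (sIsoms_ext fun w => by
          rw [hall, hzw, NegMemClass.coe_neg, h', neg_one_smul]))
      · exact Or.inl (Or.inl (sIsoms_ext fun w => by
          rw [hall, NegMemClass.coe_neg, h', neg_neg, one_smul]; rfl))
      · exact Or.inr (by rw [h', hι2])
      · exact Or.inr (by rw [h', neg_mul_neg, hι2])
    rcases hcases with h' | h'
    · rcases h' with h' | h'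
      · exact hj'1 (by rw [h']; rfl)
      · exact hj'1 (hmk1 (h' ▸ Subgroup.mem_zpowers z))
    · have hd : j.1.toLinearMap = ((-γ : F₀) : F) • (LinearMap.id : V →ₗ[F] V) := LinearMap.ext hall
      rw [sDet_apply, hd, LinearMap.det_smul, LinearMap.det_id, mul_one, hn6, NegMemClass.coe_neg,
        Even.neg_pow (by decide), show ((γ : F)) ^ 6 = ((γ : F) * γ) ^ 3 by ring, h'] at hjdet
      exact h2 (by linear_combination -hjdet)
  obtain ⟨⟨p, hp⟩, hp0, hpspan⟩ := finrank_eq_one_iff'.1 (show Module.finrank F₀ (eig J γ) = 1 by omega)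
  have hp0' : p ≠ 0 := fun h => hp0 (Subtype.ext h)
  refine ⟨p, hp0', ?_⟩
  have hγF : ((-γ : F₀) : F) ≠ (γ : F) := fun h' => by
    rw [NegMemClass.coe_neg] at h'
    exact hγ0 (Subtype.ext ((mul_eq_zero.1 (show (2 : F) * (γ : F) = 0 by linear_combination -h')).resolve_left h2))
  have hline : ∀ v, j.1 v = (γ : F) • v → ∃ a : F, v = a • inc p := by
    have hle : Submodule.span F (Set.range inc) ≤
        Submodule.span F {inc p} ⊔ eig j.1.toLinearMap ((-γ : F₀) : F) := Submodule.span_le.2 (by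
      rintro _ ⟨w, rfl⟩
      obtain ⟨a, ha, b, hb, rfl⟩ := hsplit w
      obtain ⟨t, ht⟩ := hpspan ⟨a, ha⟩
      rw [SetLike.mem_coe, map_add]
      refine Submodule.add_mem_sup ?_ (mem_eig.2 (hmapeig hb))
      rw [show a = t • p from (congrArg Subtype.val ht).symm, A.inc_smul]
      exact Submodule.smul_mem _ _ (Submodule.mem_span_singleton_self _))
    intro v hv
    obtain ⟨y, hy, b, hb, rfl⟩ := Submodule.mem_sup.1
      (hle (show v ∈ Submodule.span F (Set.range inc) by rw [A.span]; trivial))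
    obtain ⟨a, rfl⟩ := Submodule.mem_span_singleton.1 hy
    rw [mem_eig] at hb
    have hb' : j.1 b = ((-γ : F₀) : F) • b := hb
    rw [map_add, map_smul, hmapeig hp, hb', smul_add, smul_comm, add_right_inj, ← sub_eq_zero, ← sub_smul,
      smul_eq_zero, sub_eq_zero] at hv
    exact ⟨a, by rw [hv.resolve_left hγF, add_zero]⟩
  rcases hε₂ with rfl | rfl
  · obtain ⟨l, hl⟩ := hline (k.1 (inc p)) (by rw [hjk, one_smul, hmapeig hp, map_smul])
    have h' := congrArg k.1 hl
    rw [sIsoms_sq_apply hk2, map_smul, hl, smul_smul] at h'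
    have hll : l * l = 1 := (smul_left_injective F (A.inc_ne hp0')
      (show (1 : F) • inc p = (l * l) • inc p by rw [one_smul]; exact h')).symm
    rcases mul_self_eq_one_iff.1 hll with rfl | rfl
    · exact Or.inl (by rw [hl, one_smul])
    · exact Or.inr (by rw [hl, neg_one_smul])
  · exfalso
    have hsum : Module.finrank F₀ V₀ ≤ Module.finrank F₀ (eig J γ) + Module.finrank F₀ (eig J (-γ)) := by
      refine le_trans (le_of_eq ?_) (Submodule.finrank_add_le_finrank_add_finrank _ _)
      rw [show eig J γ ⊔ eig J (-γ) = ⊤ from eq_top_iff.2 fun w _ => by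
        obtain ⟨a, ha, b, hb, rfl⟩ := hsplit w
        exact Submodule.add_mem_sup ha hb, finrank_top]
    have hmemQ : ∀ q ∈ eig J (-γ), ∃ a : F, inc q = a • k.1 (inc p) := fun q hq => by
      obtain ⟨a, ha⟩ := hline (k.1 (inc q)) (by
        rw [hjk, hmapeig hq, map_smul, smul_smul, neg_one_mul, NegMemClass.coe_neg, neg_neg])
      have h' := congrArg k.1 ha
      rw [sIsoms_sq_apply hk2, map_smul] at h'
      exact ⟨a, h'⟩
    obtain ⟨q₁, hq₁, hq₁0⟩ := Submodule.exists_mem_ne_zero_of_ne_bot (p := eig J (-γ)) fun h' => by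
      rw [h', finrank_bot] at hsum; omega
    obtain ⟨q₂, hq₂, hq₂out⟩ := Set.not_subset.1 (fun hle : (eig J (-γ) : Set V₀) ⊆
        (Submodule.span F₀ {q₁} : Submodule F₀ V₀) => by
      have := Submodule.finrank_mono (show eig J (-γ) ≤ Submodule.span F₀ {q₁} from hle)
      rw [finrank_span_singleton hq₁0] at this
      omega)
    obtain ⟨a₁, ha₁⟩ := hmemQ q₁ hq₁
    obtain ⟨a₂, ha₂⟩ := hmemQ q₂ hq₂
    have ha₁0 : a₁ ≠ 0 := fun h' => A.inc_ne hq₁0 (by rw [ha₁, h', zero_smul])
    have hratio : inc q₂ = (a₂ / a₁) • inc q₁ := by rw [ha₁, ha₂, smul_smul, div_mul_cancel₀ _ ha₁0]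
    obtain ⟨p', -, hp'⟩ := A.exists_pair (b := q₁) (S := ∅) (by simpa using hq₁0)
    have h'' := A.rat p' q₂
    rw [hratio, bilin_smul_right] at h''
    have hm : a₂ / a₁ ∈ F₀ := by
      have := div_mem h'' (A.rat p' q₁)
      rwa [mul_div_cancel_right₀ _ (fun h' => hp' (A.inc_symm h'))] at this
    exact hq₂out (Submodule.mem_span_singleton.2 ⟨⟨_, hm⟩, A.inj (by rw [A.inc_smul]; exact hratio.symm)⟩)

/-- for an alternating form the involution of a plane suffices -/
theorem alt_dichotomy (h2 : (2 : F) ≠ 0) (hσ : ∀ a : F, σ a = a) {g : sIsoms B} (hg : g ∈ M) :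
    SKRat inc g := by
  have A := C.base
  have hB := A.base
  have hn := A.dim
  have h6 := A.six_le
  obtain ⟨e, he, -, heout⟩ := A.exists_out ∅ (by simp)
  have he0 : e ≠ 0 := fun h => heout (h ▸ Submodule.zero_mem _)
  obtain ⟨f, hf, -, hfe⟩ := A.exists_unit ∅ (by simp) (b := e) heout
  have hef : B (inc e) (inc f) = -1 := by rw [hB.skew (inc f) (inc e), hfe, map_one]
  set t := sRot B (inc e) (inc f) * sRot B (inc e) (inc f) with htdef
  have ht : t ∈ M := mul_mem (C.rot_mem he hf) (C.rot_mem he hf)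
  have htx : ∀ x, t.1 x = x - (2 * B (inc f) x) • inc e + (2 * B (inc e) x) • inc f :=
    A.rot_sq_apply he hf hfe hef
  have ht2 : t * t = 1 := sIsoms_ext fun x => by
    show t.1 (t.1 x) = x
    rw [htx, htx]
    simp only [map_add, map_sub, bilin_smul_right, he, hf, hfe, hef]
    module
  have hte : t.1 (inc e) = -inc e := by rw [htx, hfe, he]; module
  have htd : Module.finrank F (eig t.1.toLinearMap (-1)) ≤ 2 := by
    refine le_trans (Submodule.finrank_mono (t := Submodule.span F (Set.range ![inc e, inc f]))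
      fun x hx => ?_) ((finrank_range_le_card _).trans (by simp))
    rw [mem_eig] at hx
    have hx' : t.1 x = (-1 : F) • x := hx
    rw [htx] at hx'
    have hx2 : (2 : F) • x = (2 : F) • (B (inc f) x • inc e - B (inc e) x • inc f) := by
      linear_combination (norm := module) hx'
    rw [smul_right_injective V h2 hx2]
    refine sub_mem (Submodule.smul_mem _ _ (Submodule.subset_span ⟨0, rfl⟩))
      (Submodule.smul_mem _ _ (Submodule.subset_span ⟨1, rfl⟩))
  set t' := g * t * g⁻¹ with ht'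
  have ht'M : t' ∈ M := mul_mem (mul_mem hg ht) (inv_mem hg)
  have ht'2 : t' * t' = 1 := by
    rw [ht', show g * t * g⁻¹ * (g * t * g⁻¹) = g * (t * t) * g⁻¹ by group, ht2, mul_one, mul_inv_cancel]
  have ht'd : Module.finrank F (eig t'.1.toLinearMap (-1)) ≤ 2 := by rwa [← finrank_sEig_conj ht'.symm]
  have hKt : SKRat inc t' := by
    -- for an alternating form an involution moves every vector into its own orthogonal
    refine C.move_rat ht'M he he0 he he0 ?_
    have h := sIsoms_map t' (t'.1 (inc e)) (inc e)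
    rw [sIsoms_sq_apply ht'2, hB.skew (t'.1 (inc e)) (inc e), hσ] at h
    have h' : (2 : F) * B (t'.1 (inc e)) (inc e) = 0 := by linear_combination h
    exact hB.perp_symm ((mul_eq_zero.1 h').resolve_left h2)
  obtain ⟨c', hc', hct⟩ := hKt
  obtain ⟨J', hJ'⟩ := A.sMap_of_scalar (A.scalar_mem_of_dim ht'2 hc' hct (by omega)) hc' hct
  have hab' := finrank_eig_add (A.two₀ h2) (A.sMap_sq hJ' ht'2)
  obtain ⟨-, hd⟩ := A.finrank_sEig h2 hJ' ht'2
  obtain ⟨u', hu'm, hu'0, hu'⟩ := A.iso_in (eig J' 1) (by omega)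
  rw [mem_eig, one_smul] at hu'm
  refine C.move_rat hg he he0 hu' hu'0 (A.eigen_perp h2 (x := t') (by rw [hJ', hu'm]) ?_)
  show g.1 (t.1 ((g⁻¹).1 (g.1 (inc e)))) = _
  rw [show (g⁻¹).1 (g.1 (inc e)) = inc e from g.1.symm_apply_apply _, hte, map_neg]

theorem odd_dichotomy (h2 : (2 : F) ≠ 0) {g : sIsoms B} (hg : g ∈ M) : SKRat inc g := by
  classical
  have A := C.base
  have hB := A.base
  by_cases hσ' : ∀ a : F, σ a = a
  · exact C.alt_dichotomy h2 hσ' hg
  have hn := A.dim
  obtain ⟨e, he, -, heout⟩ := A.exists_out ∅ (by simp)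
  have he0 : e ≠ 0 := fun h => heout (h ▸ Submodule.zero_mem _)
  obtain ⟨f, hf, -, hfe⟩ := A.exists_unit ∅ (by simp) (b := e) heout
  have hef : B (inc e) (inc f) = -1 := by rw [hB.skew (inc f) (inc e), hfe, map_one]
  obtain ⟨e₂, he₂, he₂S, he₂out⟩ := A.exists_out {e, f} Finset.card_le_two
  obtain ⟨f₂, hf₂, hf₂S, hf₂e⟩ := A.exists_unit {e, f} Finset.card_le_two
    (b := e₂) he₂out
  have he₂0 : e₂ ≠ 0 := fun h => he₂out (h ▸ Submodule.zero_mem _)
  have hef₂ : B (inc e₂) (inc f₂) = -1 := by rw [hB.skew (inc f₂) (inc e₂), hf₂e, map_one]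
  have o1 := he₂S e (by simp)
  have o2 := he₂S f (by simp)
  have o3 := hf₂S e (by simp)
  have o4 := hf₂S f (by simp)
  have ht0 : sRot B (inc e) (inc f) * sRot B (inc e) (inc f) *
      (sRot B (inc e₂) (inc f₂) * sRot B (inc e₂) (inc f₂)) ∈ M :=
    mul_mem (mul_mem (C.rot_mem he hf) (C.rot_mem he hf)) (mul_mem (C.rot_mem he₂ hf₂) (C.rot_mem he₂ hf₂))
  set t := sRot B (inc e) (inc f) * sRot B (inc e) (inc f) *
      (sRot B (inc e₂) (inc f₂) * sRot B (inc e₂) (inc f₂)) with htdef
  have ht : t ∈ M := ht0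
  have hsx := A.rot_sq_apply he hf hfe hef
  have htx : ∀ x, t.1 x = x - (2 * B (inc f) x) • inc e + (2 * B (inc e) x) • inc f
      - (2 * B (inc f₂) x) • inc e₂ + (2 * B (inc e₂) x) • inc f₂ := fun x => by
    rw [htdef, Subgroup.coe_mul, LinearEquiv.mul_apply, A.rot_sq_apply he₂ hf₂ hf₂e hef₂, hsx]
    simp only [map_add, map_sub, bilin_smul_right, o1, o2, o3, o4]
    module
  have ht2 : t * t = 1 := sIsoms_ext fun x => by
    show t.1 (t.1 x) = x
    rw [htx, htx]
    simp only [map_add, map_sub, bilin_smul_right, he, hf, hfe, hef, he₂, hf₂, hf₂e, hef₂, o1, o2, o3, o4,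
      A.inc_symm o1, A.inc_symm o2, A.inc_symm o3, A.inc_symm o4]
    module
  have hte : t.1 (inc e) = -inc e := by
    rw [htx, hfe, he, A.inc_symm o1, A.inc_symm o3]; module
  have htd : Module.finrank F (eig t.1.toLinearMap (-1)) = 4 := by
    have hli : LinearIndependent F ![inc e, inc f, inc e₂, inc f₂] := by
      rw [Fintype.linearIndependent_iff]
      intro c hc
      simp only [Fin.sum_univ_four, Matrix.cons_val] at hc
      have e1 := congrArg (B (inc f)) hc
      have e2 := congrArg (B (inc e)) hc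
      have e3 := congrArg (B (inc f₂)) hc
      have e4 := congrArg (B (inc e₂)) hc
      simp only [map_add, bilin_smul_right, he, hf, hfe, hef, he₂, hf₂, hf₂e, hef₂, o1, o2, o3, o4,
        A.inc_symm o1, A.inc_symm o2, A.inc_symm o3, A.inc_symm o4, map_zero] at e1 e2 e3 e4
      intro i
      fin_cases i
      · show c 0 = 0; linear_combination e1
      · show c 1 = 0; linear_combination -e2
      · show c 2 = 0; linear_combination e3
      · show c 3 = 0; linear_combination -e4
    have heq : eig t.1.toLinearMap (-1) = Submodule.span F (Set.range ![inc e, inc f, inc e₂, inc f₂]) := by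
      refine le_antisymm (fun x hx => ?_) (Submodule.span_le.2 ?_)
      · rw [mem_eig] at hx
        have hx' : t.1 x = (-1 : F) • x := hx
        rw [htx] at hx'
        have hx2 : (2 : F) • x = (2 : F) • (B (inc f) x • inc e - B (inc e) x • inc f
            + B (inc f₂) x • inc e₂ - B (inc e₂) x • inc f₂) := by
          linear_combination (norm := module) hx'
        rw [smul_right_injective V h2 hx2]
        refine sub_mem (add_mem (sub_mem ?_ ?_) ?_) ?_ <;> refine Submodule.smul_mem _ _ (Submodule.subset_span ?_)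
        · exact ⟨0, rfl⟩
        · exact ⟨1, rfl⟩
        · exact ⟨2, rfl⟩
        · exact ⟨3, rfl⟩
      · rintro _ ⟨i, rfl⟩
        rw [SetLike.mem_coe, mem_eig]
        show t.1 _ = _
        fin_cases i
        · simpa using hte
        · show t.1 (inc f) = (-1 : F) • inc f
          rw [htx, hef, hf, A.inc_symm o2, A.inc_symm o4]; module
        · show t.1 (inc e₂) = (-1 : F) • inc e₂
          rw [htx, o1, o2, hf₂e, he₂]; module
        · show t.1 (inc f₂) = (-1 : F) • inc f₂
          rw [htx, o3, o4, hef₂, hf₂]; module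
    rw [heq, finrank_span_eq_card hli, Fintype.card_fin]
  set t' := g * t * g⁻¹ with ht'
  have ht'M : t' ∈ M := mul_mem (mul_mem hg ht) (inv_mem hg)
  have ht'2 : t' * t' = 1 := by
    rw [ht', show g * t * g⁻¹ * (g * t * g⁻¹) = g * (t * t) * g⁻¹ by group, ht2, mul_one, mul_inv_cancel]
  have ht'4 : Module.finrank F (eig t'.1.toLinearMap (-1)) = 4 := by rw [← finrank_sEig_conj ht'.symm, htd]
  have hKt : SKRat inc t' := by
    rcases A.small with hbig | ⟨hn68, hsqrt⟩ | ⟨-, hσ⟩
    rotate_right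
    · exact absurd hσ hσ'
    · exact C.odd_invol h2 he hf hfe ht'M ht'2 ht'4 (Or.inl (Or.inl hbig))
    rcases hn68 with ⟨hn6, hι⟩ | hn8
    rotate_right
    · exact C.odd_invol h2 he hf hfe ht'M ht'2 ht'4 (Or.inl (Or.inr ⟨hn8, hsqrt⟩))
    obtain ⟨ι, hιm, hι⟩ := hι h2
    have hdet : sDet B t' = 1 := by
      rw [ht', map_mul, map_mul, mul_comm (sDet B g), mul_assoc, ← map_mul, mul_inv_cancel, map_one, mul_one,
        htdef]
      simp only [map_mul, A.det_rot he hf, A.det_rot he₂ hf₂, one_mul]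
    rcases C.small_eigvec h2 hn6 hsqrt (ι := ⟨ι, hιm⟩) (Subtype.ext hι) ht'M ht'2 hdet with
      h' | ⟨p, hp0, hpk⟩
    · exact h'
    -- a plane whose involution agrees with `t'` on `p`
    obtain ⟨a, b, ha, hb, hba, hsp⟩ : ∃ a b : V₀, B (inc a) (inc a) = 0 ∧ B (inc b) (inc b) = 0 ∧
        B (inc b) (inc a) = 1 ∧ (sRot B (inc a) (inc b) * sRot B (inc a) (inc b)).1 (inc p) = t'.1 (inc p) := by
      rcases hpk with hpk | hpk
      · obtain ⟨a, ha, haS, haout⟩ := A.exists_out {p} (by simp)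
        obtain ⟨b, hb, hbS, hba⟩ := A.exists_unit {p} (by simp) (b := a) haout
        refine ⟨a, b, ha, hb, hba, ?_⟩
        rw [A.rot_sq_apply ha hb hba (by rw [hB.skew (inc b) (inc a), hba, map_one]),
          A.inc_symm (haS p (by simp)), A.inc_symm (hbS p (by simp)), hpk]
        simp
      · obtain ⟨a, b, ha, hb, hba, r, r', hr⟩ : ∃ a b : V₀, B (inc a) (inc a) = 0 ∧ B (inc b) (inc b) = 0 ∧
            B (inc b) (inc a) = 1 ∧ ∃ r r' : F₀, p = r • a + r' • b := by
          by_cases hpp : B (inc p) (inc p) = 0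
          · obtain ⟨b, hb, -, hbp⟩ := A.exists_unit ∅ (by simp) (b := p) (by simpa using hp0)
            exact ⟨p, b, hpp, hb, hbp, 1, 0, by simp⟩
          obtain ⟨a, ha, -, hap⟩ := A.exists_unit ∅ (by simp) (b := p) (by simpa using hp0)
          have hap0 : B (inc a) (inc p) ≠ 0 := by rw [hap]; exact one_ne_zero
          obtain ⟨t, ht⟩ := A.iso_shift p a ha hap0
          have hba : B (inc (p + t • a)) (inc a) = -1 := by
            rw [map_add, map_add, LinearMap.add_apply, A.inc_smul, bilin_smul_left, ha, mul_zero, add_zero,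
              hB.skew (inc a) (inc p), hap, map_one]
          refine ⟨a, -(p + t • a), ha, by rw [map_neg, map_neg, map_neg, LinearMap.neg_apply, neg_neg]; exact ht,
            by rw [map_neg, map_neg, LinearMap.neg_apply, hba, neg_neg], -t, -1, by module⟩
        refine ⟨a, b, ha, hb, hba, ?_⟩
        rw [A.rot_sq_apply ha hb hba (by rw [hB.skew (inc b) (inc a), hba, map_one]), hpk, hr, map_add,
          A.inc_smul, A.inc_smul]
        simp only [map_add, bilin_smul_right, ha, hb, hba, show B (inc a) (inc b) = -1 by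
          rw [hB.skew (inc b) (inc a), hba, map_one]]
        module
    refine C.odd_invol h2 ha hb hba ht'M ht'2 ht'4 (Or.inr ⟨fun j hj hneg => ?_, hn6⟩)
    set r := sRot B (inc a) (inc b) * sRot B (inc a) (inc b) * t'
    have hrp : r.1 (inc p) = inc p := by
      show (sRot B (inc a) (inc b) * sRot B (inc a) (inc b)).1 (t'.1 (inc p)) = _
      rcases hpk with hpk | hpk
      · rw [hpk, hsp, hpk]
      · rw [hpk, map_neg, hsp, hpk, neg_neg]
    let S : Subgroup (sIsoms B) :=
      { carrier := {x | x.1 (inc p) = inc p}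
        one_mem' := rfl
        mul_mem' := fun {x y} hx hy => by
          show x.1 (y.1 (inc p)) = _
          rw [show y.1 (inc p) = inc p from hy]; exact hx
        inv_mem' := fun {x} hx => by
          show (x⁻¹).1 (inc p) = _
          conv_lhs => rw [← show x.1 (inc p) = inc p from hx]
          exact x.1.symm_apply_apply _ }
    have hjp : j.1 (inc p) = inc p := (Subgroup.zpowers_le.2 (show r ∈ S from hrp)) hj
    rw [hneg] at hjp
    exact A.inc_ne hp0 ((smul_eq_zero.1 (show (2 : F) • inc p = 0 by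
      rw [two_smul, ← neg_eq_iff_add_eq_zero]; exact hjp)).resolve_left h2)
  have hn8 : 6 ≤ Module.finrank F V := A.six_le
  obtain ⟨c', hc', hct⟩ := hKt
  obtain ⟨J', hJ'⟩ := A.sMap_of_scalar (A.scalar_mem_of_small ht'2 hc' hct (Or.inr ht'4) (by
    rcases A.small with h' | ⟨-, h'⟩ | ⟨-, hσ⟩
    exacts [Or.inl h', Or.inr (Or.inr h'), absurd hσ hσ'])) hc' hct
  have hab' := finrank_eig_add (A.two₀ h2) (A.sMap_sq hJ' ht'2)
  obtain ⟨-, hd4⟩ := A.finrank_sEig h2 hJ' ht'2
  obtain ⟨u', hu'm, hu'0, hu'⟩ := A.iso_in (eig J' 1) (by omega)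
  rw [mem_eig, one_smul] at hu'm
  refine C.move_rat hg he he0 hu' hu'0 (A.eigen_perp h2 (x := t') (by rw [hJ', hu'm]) ?_)
  show g.1 (t.1 ((g⁻¹).1 (g.1 (inc e)))) = _
  rw [show (g⁻¹).1 (g.1 (inc e)) = inc e from g.1.symm_apply_apply _, hte, map_neg]

/-- every element of a proper overgroup of the subfield group is rational -/
theorem dichotomy {g : sIsoms B} (hg : g ∈ M) : SKRat inc g := by
  by_cases h2 : (2 : F) = 0
  · exact C.even_dichotomy h2 hg
  · exact C.odd_dichotomy h2 hg

end SkewCtx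

end CfsgLib.MaxSub
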