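import Cfsg.Agent.Lib.MaxSub.Sub

/-!
Transvections and root elements of a skew-Hermitian (or alternating) form, as linear automorphisms.
-/

set_option autoImplicit false
set_option linter.unusedSectionVars false

namespace CfsgLib.MaxSub

variable {F V : Type*} [Field F] {σ : F →+* F} [AddCommGroup V] [Module F V]

/-- `B v x` is the value of the form at `(x, v)`: skew-Hermitian, `σ` involutive or trivial. -/
structure IsSkew (B : V →ₛₗ[σ] V →ₗ[F] F) : Prop where
  inv : ∀ a, σ (σ a) = a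
  skew : ∀ x y, B y x = -σ (B x y)
  sep : ∀ x, (∀ y, B y x = 0) → x = 0

/-- the isometries of the form -/
def sIsoms (B : V →ₛₗ[σ] V →ₗ[F] F) : Subgroup (V ≃ₗ[F] V) where
  carrier := {g | ∀ x y, B (g y) (g x) = B y x}
  mul_mem' {a b} ha hb x y := by simp [LinearEquiv.mul_apply, ha (b x) (b y), hb x y]
  one_mem' x y := by simp
  inv_mem' {a} ha x y := by
    have h := ha ((a⁻¹ : V ≃ₗ[F] V) x) ((a⁻¹ : V ≃ₗ[F] V) y)
    simp only [LinearEquiv.coe_inv, LinearEquiv.apply_symm_apply] at h ⊢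
    exact h.symm

variable {B : V →ₛₗ[σ] V →ₗ[F] F}

theorem sIsoms_map (g : sIsoms B) (x y : V) : B (g.1 y) (g.1 x) = B y x := g.2 x y

theorem sIsoms_ext {g h : sIsoms B} (H : ∀ x, g.1 x = h.1 x) : g = h :=
  Subtype.ext (LinearEquiv.ext H)

theorem sIsoms_apply_inv (g : sIsoms B) (x : V) : g.1 ((g⁻¹).1 x) = x :=
  congrArg (fun k : sIsoms B => k.1 x) (mul_inv_cancel g)

theorem IsSkew.perp_symm (hB : IsSkew B) {x y : V} (h : B x y = 0) : B y x = 0 := by
  rw [hB.skew, h, map_zero, neg_zero]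

theorem bilin_smul_left (B : V →ₛₗ[σ] V →ₗ[F] F) (k : F) (v x : V) : B (k • v) x = σ k * B v x := by
  rw [map_smulₛₗ, LinearMap.smul_apply, smul_eq_mul]

theorem bilin_smul_right (B : V →ₛₗ[σ] V →ₗ[F] F) (k : F) (v x : V) : B v (k • x) = k * B v x := by
  rw [map_smul, smul_eq_mul]

/-- the transvection as a linear map -/
def sTvLin (B : V →ₛₗ[σ] V →ₗ[F] F) (v : V) (c : F) : V →ₗ[F] V :=
  LinearMap.id + (c • B v).smulRight v

theorem sTvLin_apply (v : V) (c : F) (x : V) : sTvLin B v c x = x + (c * B v x) • v := by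
  simp [sTvLin]

theorem exists_sTv (B : V →ₛₗ[σ] V →ₗ[F] F) (v : V) (c : F) :
    ∃ g : sIsoms B, IsSkew B → B v v = 0 → σ c = c → ∀ x, g.1 x = x + (c * B v x) • v := by
  by_cases h : IsSkew B ∧ B v v = 0 ∧ σ c = c
  · obtain ⟨hB, hv, hc⟩ := h
    have hcomp : ∀ d x, sTvLin B v d (sTvLin B v (-d) x) = x := fun d x => by
      rw [sTvLin_apply, sTvLin_apply, map_add, bilin_smul_right, hv]
      module
    let e : V ≃ₗ[F] V := LinearEquiv.ofLinearMap (sTvLin B v c) (sTvLin B v (-c))
      (LinearMap.ext fun x => hcomp c x) (LinearMap.ext fun x => by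
        have := hcomp (-c) x
        rwa [neg_neg] at this)
    have he : ∀ x, e x = x + (c * B v x) • v := fun x => sTvLin_apply v c x
    refine ⟨⟨e, fun x y => ?_⟩, fun _ _ _ => he⟩
    rw [he, he, map_add B y, LinearMap.add_apply, map_add (B y), map_add (B ((c * B v y) • v)),
      bilin_smul_left, bilin_smul_left, bilin_smul_right, bilin_smul_right, hv, map_mul, hc, hB.skew v y]
    ring
  · exact ⟨1, fun a b c => absurd ⟨a, b, c⟩ h⟩

/-- the transvection `x ↦ x + c B(v)(x) v` -/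
noncomputable def sTv (B : V →ₛₗ[σ] V →ₗ[F] F) (v : V) (c : F) : sIsoms B := (exists_sTv B v c).choose

/-- the short root element `x ↦ x + B(z)(x) v + B(v)(x) z` -/
noncomputable def sEv (B : V →ₛₗ[σ] V →ₗ[F] F) (v z : V) : sIsoms B :=
  sTv B (v + z) 1 * sTv B v (-1) * sTv B z (-1)

namespace IsSkew

variable (hB : IsSkew B)
include hB

theorem tv_apply {v : V} (hv : B v v = 0) {c : F} (hc : σ c = c) (x : V) :
    (sTv B v c).1 x = x + (c * B v x) • v :=
  (exists_sTv B v c).choose_spec hB hv hc x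

theorem tv_add {v : V} (hv : B v v = 0) {c d : F} (hc : σ c = c) (hd : σ d = d) :
    sTv B v (c + d) = sTv B v c * sTv B v d := sIsoms_ext fun x => by
  rw [Subgroup.coe_mul, LinearEquiv.mul_apply, hB.tv_apply hv (by rw [map_add, hc, hd]), hB.tv_apply hv hc,
    hB.tv_apply hv hd, map_add, bilin_smul_right, hv]
  module

theorem tv_zero {v : V} (hv : B v v = 0) : sTv B v 0 = 1 := sIsoms_ext fun x => by
  rw [hB.tv_apply hv (map_zero σ)]; simp

theorem tv_neg {v : V} (hv : B v v = 0) {c : F} (hc : σ c = c) :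
    (sTv B v c)⁻¹ = sTv B v (-c) := by
  refine inv_eq_of_mul_eq_one_right ?_
  rw [← hB.tv_add hv hc (by rw [map_neg, hc]), add_neg_cancel, hB.tv_zero hv]

theorem tv_smul {v : V} (hv : B v v = 0) (k : F) {c : F} (hc : σ c = c) :
    sTv B (k • v) c = sTv B v (c * (k * σ k)) := sIsoms_ext fun x => by
  rw [hB.tv_apply (by rw [bilin_smul_left, bilin_smul_right, hv, mul_zero, mul_zero]) hc,
    hB.tv_apply hv (by rw [map_mul, map_mul, hB.inv, hc, mul_comm (σ k)]), bilin_smul_left, smul_smul]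
  congr 2
  ring

theorem tv_conj (g : sIsoms B) {v : V} (hv : B v v = 0) {c : F} (hc : σ c = c) :
    g * sTv B v c * g⁻¹ = sTv B (g.1 v) c := sIsoms_ext fun x => by
  obtain ⟨y, rfl⟩ := g.1.surjective x
  rw [hB.tv_apply (by rw [sIsoms_map, hv]) hc, sIsoms_map]
  show g.1 ((sTv B v c).1 (g.1.symm (g.1 y))) = _
  rw [LinearEquiv.symm_apply_apply, hB.tv_apply hv hc, map_add, map_smul]

theorem ev_apply {v z : V} (hv : B v v = 0) (hz : B z z = 0) (hvz : B v z = 0) (x : V) :
    (sEv B v z).1 x = x + B z x • v + B v x • z := by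
  have h1 : σ (-1 : F) = -1 := by rw [map_neg, map_one]
  have hzv := hB.perp_symm hvz
  have hs : B (v + z) (v + z) = 0 := by simp [map_add, hv, hz, hvz, hzv]
  simp only [sEv, Subgroup.coe_mul, LinearEquiv.mul_apply]
  rw [hB.tv_apply hz h1, hB.tv_apply hv h1, hB.tv_apply hs (map_one σ)]
  simp only [map_add, LinearMap.add_apply, bilin_smul_right, hv, hz, hvz, hzv]
  module

theorem tv_split {a b : V} (ha : B a a = 0) (hb : B b b = 0) :
    sTv B (a + b) 1 = sEv B a b * sTv B b 1 * sTv B a 1 := by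
  rw [sEv, ← hB.tv_neg ha (map_one σ), ← hB.tv_neg hb (map_one σ)]
  group

theorem ev_symm {v z : V} (hv : B v v = 0) (hz : B z z = 0) (hvz : B v z = 0) :
    sEv B v z = sEv B z v := sIsoms_ext fun x => by
  rw [hB.ev_apply hv hz hvz, hB.ev_apply hz hv (hB.perp_symm hvz)]
  module

theorem ev_zero {v : V} (hv : B v v = 0) : sEv B v 0 = 1 := sIsoms_ext fun x => by
  rw [hB.ev_apply hv (by simp) (by simp)]; simp

theorem ev_smul {v z : V} (hv : B v v = 0) (hz : B z z = 0) (hvz : B v z = 0) (k : F) :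
    sEv B (k • v) z = sEv B v (σ k • z) := sIsoms_ext fun x => by
  rw [hB.ev_apply (by rw [bilin_smul_left, bilin_smul_right, hv, mul_zero, mul_zero]) hz
      (by rw [bilin_smul_left, hvz, mul_zero]),
    hB.ev_apply hv (by rw [bilin_smul_left, bilin_smul_right, hz, mul_zero, mul_zero])
      (by rw [bilin_smul_right, hvz, mul_zero]),
    bilin_smul_left, bilin_smul_left, hB.inv]
  module

theorem ev_conj (g : sIsoms B) {v z : V} (hv : B v v = 0) (hz : B z z = 0) (hvz : B v z = 0) :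
    g * sEv B v z * g⁻¹ = sEv B (g.1 v) (g.1 z) := sIsoms_ext fun x => by
  obtain ⟨y, rfl⟩ := g.1.surjective x
  rw [hB.ev_apply (by rw [sIsoms_map, hv]) (by rw [sIsoms_map, hz]) (by rw [sIsoms_map, hvz]), sIsoms_map,
    sIsoms_map]
  show g.1 ((sEv B v z).1 (g.1.symm (g.1 y))) = _
  rw [LinearEquiv.symm_apply_apply, hB.ev_apply hv hz hvz, map_add, map_add, map_smul, map_smul]

theorem ev_add {v z z' : V} (hv : B v v = 0) (hz : B z z = 0) (hz' : B z' z' = 0) (hvz : B v z = 0)
    (hvz' : B v z' = 0) (hzz : B z z' = 0) : sEv B v (z + z') = sEv B v z * sEv B v z' :=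
  sIsoms_ext fun x => by
  have hzv := hB.perp_symm hvz
  have hzz' := hB.perp_symm hzz
  rw [Subgroup.coe_mul, LinearEquiv.mul_apply, hB.ev_apply hv hz hvz, hB.ev_apply hv hz' hvz',
    hB.ev_apply hv (by simp [map_add, hz, hz', hzz, hzz']) (by simp [map_add, hvz, hvz'])]
  simp only [map_add, LinearMap.add_apply, bilin_smul_right, hv, hzv, hzz, hvz']
  module

theorem ev_mul {v z z' : V} (hv : B v v = 0) (hz : B z z = 0) (hz' : B z' z' = 0) (hvz : B v z = 0)
    (hvz' : B v z' = 0) (hs : B (z + z') (z + z') = 0) :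
    sEv B v z * sEv B v z' = sEv B v (z + z') * sTv B v (B z z') := sIsoms_ext fun x => by
  have hzv := hB.perp_symm hvz
  have hzv' := hB.perp_symm hvz'
  have hk : σ (B z z') = B z z' := by
    have h := hs
    simp only [map_add, LinearMap.add_apply, hz, hz', zero_add, add_zero] at h
    rw [hB.skew z z'] at h
    linear_combination -h
  rw [Subgroup.coe_mul, Subgroup.coe_mul, LinearEquiv.mul_apply, LinearEquiv.mul_apply,
    hB.ev_apply hv hz hvz, hB.ev_apply hv hz' hvz', hB.tv_apply hv hk,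
    hB.ev_apply hv hs (by simp [map_add, hvz, hvz'])]
  simp only [map_add, LinearMap.add_apply, bilin_smul_right, hv, hzv, hzv', hvz']
  module

theorem tv_comm_ev {v z : V} (hv : B v v = 0) (hz : B z z = 0) (hvz : B v z = 0) {c : F} (hc : σ c = c) :
    sEv B v z * sTv B v c = sTv B v c * sEv B v z := by
  have h := hB.tv_conj (sEv B v z) hv hc
  rw [hB.ev_apply hv hz hvz, hv, hB.perp_symm hvz, zero_smul, zero_smul, add_zero, add_zero] at h
  conv_rhs => rw [← h]
  group

end IsSkew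

end CfsgLib.MaxSub
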