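import Cfsg.Agent.Lib.MaxSub.SkewIsom
import Cfsg.Agent.Lib.Geom.Perp

/-!
Rational structures for skew-Hermitian forms: overgroups of the subfield group.
-/

set_option autoImplicit false
set_option linter.unusedSectionVars false

namespace CfsgLib.MaxSub

variable {F V V₀ : Type*} [Field F] {σ : F →+* F} {F₀ : Subfield F} [AddCommGroup V] [Module F V]
  [AddCommGroup V₀] [Module F₀ V₀]

/-- `inc` is a rational structure for the form `B`. -/
structure SkewRat (B : V →ₛₗ[σ] V →ₗ[F] F) (inc : V₀ →+ V) : Prop where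
  base : IsSkew B
  inc_smul : ∀ (c : F₀) (x : V₀), inc (c • x) = (c : F) • inc x
  inj : Function.Injective inc
  span : Submodule.span F (Set.range inc) = ⊤
  rat : ∀ x y, B (inc x) (inc y) ∈ F₀
  sig : ∀ x ∈ F₀, σ x ∈ F₀
  dim : Module.finrank F₀ V₀ = Module.finrank F V
  small : 9 ≤ Module.finrank F V ∨ (((Module.finrank F V = 6 ∧ ((2 : F) ≠ 0 → ∃ ι ∈ F₀, ι * ι = -1)) ∨
    Module.finrank F V = 8) ∧ ∀ c : F, c * c ∈ F₀ → c ∈ F₀) ∨
    ((Module.finrank F V = 6 ∨ Module.finrank F V = 8) ∧ ∀ a : F, σ a = a)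
  ring : ∀ L : Subring F, (∀ x ∈ F₀, x ∈ L) → ∀ c ∈ L, c ∉ F₀ → ∀ x, x ∈ L
  iso_in : ∀ W : Submodule F₀ V₀, 2 ≤ Module.finrank F₀ W → ∃ v ∈ W, v ≠ 0 ∧ B (inc v) (inc v) = 0
  iso_shift : ∀ z e : V₀, B (inc e) (inc e) = 0 → B (inc e) (inc z) ≠ 0 →
    ∃ t : F₀, B (inc (z + t • e)) (inc (z + t • e)) = 0
  norms : ∀ S : AddSubgroup F, (∀ a, a * σ a ∈ S) → ∀ k, σ k = k → k ∈ S

/-- `g` maps the rational structure to a scalar multiple of itself. -/
def SKRat {B : V →ₛₗ[σ] V →ₗ[F] F} (inc : V₀ →+ V) (g : sIsoms B) : Prop :=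
  ∃ c : F, c ≠ 0 ∧ ∀ x, ∃ y, c • g.1 (inc x) = inc y

theorem not_mem_span_symm {K W : Type*} [Field K] [AddCommGroup W] [Module K W] {a b : W} (ha : a ≠ 0)
    (hb : b ∉ Submodule.span K {a}) : a ∉ Submodule.span K {b} := by
  intro h
  obtain ⟨s, rfl⟩ := Submodule.mem_span_singleton.1 h
  have hs : s ≠ 0 := fun e => ha (by rw [e, zero_smul])
  exact hb (Submodule.mem_span_singleton.2 ⟨s⁻¹, by rw [smul_smul, inv_mul_cancel₀ hs, one_smul]⟩)

namespace SkewRat

variable {B : V →ₛₗ[σ] V →ₗ[F] F} {inc : V₀ →+ V} (A : SkewRat (F₀ := F₀) B inc)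
include A

/-- the functional of a rational vector on the rational structure -/
def rb (s : V₀) : V₀ →ₗ[F₀] F₀ where
  toFun x := ⟨B (inc s) (inc x), A.rat s x⟩
  map_add' x y := Subtype.ext (by simp [map_add])
  map_smul' c x := Subtype.ext (by simp [A.inc_smul, bilin_smul_right])

theorem rb_coe (s x : V₀) : ((A.rb s x : F₀) : F) = B (inc s) (inc x) := rfl

theorem inc_ne {x : V₀} (h : x ≠ 0) : inc x ≠ 0 := fun e => h (A.inj (e.trans inc.map_zero.symm))

theorem eq_zero_of_perp {z : V} (h : ∀ x, B (inc x) z = 0) : z = 0 := by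
  refine A.base.sep z fun y => ?_
  let S : Submodule F V :=
    { carrier := {y | B y z = 0}
      add_mem' := fun {a b} ha hb => by
        show B (a + b) z = 0
        rw [map_add, LinearMap.add_apply, show B a z = 0 from ha, show B b z = 0 from hb, add_zero]
      zero_mem' := by show B 0 z = 0; rw [map_zero, LinearMap.zero_apply]
      smul_mem' := fun k a ha => by
        show B (k • a) z = 0
        rw [bilin_smul_left, show B a z = 0 from ha, mul_zero] }
  have hle : Submodule.span F (Set.range inc) ≤ S := Submodule.span_le.2 (by rintro _ ⟨x, rfl⟩; exact h x)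
  exact hle (show y ∈ Submodule.span F (Set.range inc) by rw [A.span]; trivial)

theorem inc_symm {x y : V₀} (h : B (inc x) (inc y) = 0) : B (inc y) (inc x) = 0 := A.base.perp_symm h

theorem iso_smul {z : V₀} (h : B (inc z) (inc z) = 0) (k : F₀) : B (inc (k • z)) (inc (k • z)) = 0 := by
  rw [A.inc_smul, bilin_smul_left, bilin_smul_right, h, mul_zero, mul_zero]

theorem iso_add {x y : V₀} (hx : B (inc x) (inc x) = 0) (hy : B (inc y) (inc y) = 0)
    (hxy : B (inc x) (inc y) = 0) : B (inc (x + y)) (inc (x + y)) = 0 := by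
  simp [map_add, hx, hy, hxy, A.inc_symm hxy]

/-- the orthogonal in the rational structure of a set -/
def perp (S : Set V₀) : Submodule F₀ V₀ where
  carrier := {x | ∀ s ∈ S, B (inc s) (inc x) = 0}
  add_mem' {x y} hx hy := fun s hs => by rw [map_add, map_add, hx s hs, hy s hs, add_zero]
  zero_mem' := fun s _ => by rw [map_zero, map_zero]
  smul_mem' c x hx := fun s hs => by rw [A.inc_smul, bilin_smul_right, hx s hs, mul_zero]

variable [Finite F] [FiniteDimensional F₀ V₀] [FiniteDimensional F V]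

theorem finrank_le_perp_add (S : Finset V₀) :
    Module.finrank F₀ V₀ ≤ Module.finrank F₀ (A.perp (S : Set V₀)) + S.card := by
  let L : V₀ →ₗ[F₀] (S → F₀) := LinearMap.pi fun s => A.rb (s : V₀)
  have h1 := L.finrank_range_add_finrank_ker
  have h2 := Submodule.finrank_le (LinearMap.range L)
  have h3 : LinearMap.ker L ≤ A.perp (S : Set V₀) := fun x hx s hs => by
    have := congrArg Subtype.val (congrFun hx ⟨s, hs⟩)
    simpa [L, A.rb_coe] using this
  have h4 := Submodule.finrank_mono h3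
  rw [Module.finrank_fintype_fun_eq_card, Fintype.card_coe] at h2
  omega

theorem eq_zero_of_basis {w : V} (hw : ∀ i, B (inc (Module.finBasis F₀ V₀ i)) w = 0) : w = 0 :=
  A.eq_zero_of_perp fun x => by
    rw [← (Module.finBasis F₀ V₀).sum_repr x, map_sum, map_sum, LinearMap.sum_apply]
    exact Finset.sum_eq_zero fun i _ => by rw [A.inc_smul, bilin_smul_left, hw i, mul_zero]

theorem exists_values (f : Fin (Module.finrank F₀ V₀) → F₀) :
    ∃ z, ∀ i, B (inc (Module.finBasis F₀ V₀ i)) (inc z) = f i := by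
  let L : V₀ →ₗ[F₀] (Fin (Module.finrank F₀ V₀) → F₀) :=
    LinearMap.pi fun i => A.rb (Module.finBasis F₀ V₀ i)
  have hinj : Function.Injective L := by
    rw [← LinearMap.ker_eq_bot, Submodule.eq_bot_iff]
    intro x hx
    by_contra h0
    refine A.inc_ne h0 (A.eq_zero_of_basis fun i => ?_)
    have := congrArg Subtype.val (congrFun hx i)
    simpa [L, A.rb_coe] using this
  obtain ⟨z, hz⟩ := (LinearMap.injective_iff_surjective_of_finrank_eq_finrank
    (by rw [Module.finrank_fin_fun])).1 hinj f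
  exact ⟨z, fun i => congrArg Subtype.val (congrFun hz i)⟩

theorem dual_rat {z : V} (h : ∀ x, B (inc x) z ∈ F₀) : ∃ z₀, inc z₀ = z := by
  obtain ⟨z₀, hz₀⟩ := A.exists_values fun i => ⟨B (inc (Module.finBasis F₀ V₀ i)) z, h _⟩
  exact ⟨z₀, sub_eq_zero.1 (A.eq_zero_of_basis fun i => by rw [map_sub, hz₀, sub_self])⟩

theorem exists_pair {b : V₀} {S : Set V₀} (hb : b ∉ Submodule.span F₀ S) :
    ∃ z ∈ A.perp S, B (inc b) (inc z) ≠ 0 := by
  obtain ⟨ψ, hψb, hψ⟩ := Submodule.exists_dual_map_eq_bot_of_notMem hb inferInstance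
  obtain ⟨z, hz⟩ := A.exists_values fun i =>
    ⟨σ ((ψ (Module.finBasis F₀ V₀ i) : F₀) : F), A.sig _ (ψ _).2⟩
  have hall : ∀ s, B (inc s) (inc z) = σ ((ψ s : F₀) : F) := fun s => by
    conv_lhs => rw [← (Module.finBasis F₀ V₀).sum_repr s]
    conv_rhs => rw [← (Module.finBasis F₀ V₀).sum_repr s]
    simp only [map_sum, LinearMap.sum_apply, AddSubmonoidClass.coe_finset_sum, A.inc_smul, bilin_smul_left,
      hz, map_smul, smul_eq_mul, MulMemClass.coe_mul, map_mul]
  refine ⟨z, fun s hs => ?_, ?_⟩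
  · rw [hall, show ψ s = 0 from (Submodule.mem_bot F₀).1
      (hψ ▸ Submodule.mem_map_of_mem (Submodule.subset_span hs)), ZeroMemClass.coe_zero, map_zero]
  · rw [hall]
    exact fun e => hψb (Subtype.ext ((map_eq_zero σ).1 e))

theorem six_le : 6 ≤ Module.finrank F V := by
  rcases A.small with h | ⟨⟨h, -⟩ | h, -⟩ | ⟨h, -⟩ <;> omega

/-- isotropic vectors span the orthogonal of a set with small radical -/
theorem perp_le_of_iso' (S T : Finset V₀) (hST : S.card + T.card + 2 ≤ Module.finrank F V)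
    (hrad : Submodule.span F₀ (S : Set V₀) ⊓ A.perp (S : Set V₀) ≤ Submodule.span F₀ (T : Set V₀))
    {P : Submodule F₀ V₀}
    (hP : ∀ x, B (inc x) (inc x) = 0 → x ∈ A.perp (S : Set V₀) → x ∈ P) :
    A.perp (S : Set V₀) ≤ P := by
  classical
  have hd := A.dim
  have hW := A.finrank_le_perp_add S
  obtain ⟨C, hC⟩ := Submodule.exists_isCompl
    ((Submodule.span F₀ (S : Set V₀)).comap (A.perp (S : Set V₀)).subtype)
  have h1 := Submodule.finrank_add_eq_of_isCompl hC
  have hR : Module.finrank F₀ ((Submodule.span F₀ (S : Set V₀)).comap (A.perp (S : Set V₀)).subtype)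
      ≤ T.card := by
    rw [← Submodule.finrank_map_subtype_eq]
    refine (Submodule.finrank_mono (t := Submodule.span F₀ (T : Set V₀)) ?_).trans
      (finrank_span_finset_le_card T)
    rintro _ ⟨⟨x, hx⟩, hxS, rfl⟩
    exact hrad ⟨hxS, hx⟩
  obtain ⟨s', hs, hs0, hQs⟩ := A.iso_in (C.map (A.perp (S : Set V₀)).subtype) (by
    rw [Submodule.finrank_map_subtype_eq]; omega)
  obtain ⟨⟨s, hsW⟩, hsC, rfl⟩ := hs
  simp only [Submodule.subtype_apply] at hs0 hQs
  have hout : s ∉ Submodule.span F₀ (S : Set V₀) := fun hm => hs0 (congrArg Subtype.val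
    ((Submodule.mem_bot F₀).1 (hC.disjoint.le_bot
      ⟨(show (⟨s, hsW⟩ : A.perp (S : Set V₀)) ∈
        (Submodule.span F₀ (S : Set V₀)).comap (A.perp (S : Set V₀)).subtype from hm), hsC⟩)))
  have key : ∀ z ∈ A.perp (S : Set V₀), B (inc s) (inc z) ≠ 0 → z ∈ P := fun z hz hzs => by
    obtain ⟨t, ht⟩ := A.iso_shift z s hQs hzs
    have h2 := hP _ ht (add_mem hz ((A.perp (S : Set V₀)).smul_mem t hsW))
    have h3 := sub_mem h2 (P.smul_mem t (hP s hQs hsW))
    rwa [add_sub_cancel_right] at h3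
  obtain ⟨z₀, hz₀, hz₀s⟩ := A.exists_pair hout
  intro z hz
  by_cases hzs : B (inc s) (inc z) = 0
  · have h1 := key (z + z₀) (add_mem hz hz₀) (by rw [map_add, map_add, hzs, zero_add]; exact hz₀s)
    simpa using sub_mem h1 (key z₀ hz₀ hz₀s)
  · exact key z hz hzs

/-- isotropic vectors span the orthogonal of a small set -/
theorem perp_le_of_iso (S : Finset V₀) (hS : S.card ≤ 2) {P : Submodule F₀ V₀}
    (hP : ∀ x, B (inc x) (inc x) = 0 → x ∈ A.perp (S : Set V₀) → x ∈ P) :
    A.perp (S : Set V₀) ≤ P :=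
  A.perp_le_of_iso' S S (by have := A.six_le; omega) inf_le_left hP

/-- an isotropic vector orthogonal to a set with small radical, outside its span -/
theorem exists_out' (S T : Finset V₀) (hST : S.card + T.card + 2 ≤ Module.finrank F V)
    (hrad : Submodule.span F₀ (S : Set V₀) ⊓ A.perp (S : Set V₀) ≤ Submodule.span F₀ (T : Set V₀)) :
    ∃ z, B (inc z) (inc z) = 0 ∧ (∀ s ∈ S, B (inc s) (inc z) = 0) ∧ z ∉ Submodule.span F₀ (S : Set V₀) := by
  by_contra hno
  push Not at hno
  have := A.dim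
  have hle := A.perp_le_of_iso' S T hST hrad fun x hx hxS => hno x hx fun s hs => hxS s hs
  have h1 := Submodule.finrank_mono (le_trans (le_inf hle le_rfl) hrad)
  have h2 := finrank_span_finset_le_card (R := F₀) T
  have h3 := A.finrank_le_perp_add S
  simp only [Set.finrank] at h2
  omega

/-- an isotropic vector orthogonal to a small set, outside its span -/
theorem exists_out (S : Finset V₀) (hS : S.card ≤ 2) :
    ∃ z, B (inc z) (inc z) = 0 ∧ (∀ s ∈ S, B (inc s) (inc z) = 0) ∧ z ∉ Submodule.span F₀ (S : Set V₀) :=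
  A.exists_out' S S (by have := A.six_le; omega) inf_le_left

/-- an isotropic vector orthogonal to a small set with value one at a further vector -/
theorem exists_unit (S : Finset V₀) (hS : S.card ≤ 2) {b : V₀} (hb : b ∉ Submodule.span F₀ (S : Set V₀)) :
    ∃ z, B (inc z) (inc z) = 0 ∧ (∀ s ∈ S, B (inc s) (inc z) = 0) ∧ B (inc z) (inc b) = 1 := by
  obtain ⟨z₀, hz₀, hz₀b⟩ := A.exists_pair hb
  obtain ⟨z, hz, hzS, hzb⟩ : ∃ z, B (inc z) (inc z) = 0 ∧ z ∈ A.perp (S : Set V₀) ∧
      B (inc b) (inc z) ≠ 0 := by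
    by_contra hno
    push Not at hno
    exact hz₀b (congrArg Subtype.val (LinearMap.mem_ker.1 (A.perp_le_of_iso S hS
      (P := LinearMap.ker (A.rb b))
      (fun x hx hxS => LinearMap.mem_ker.2 (Subtype.ext (hno x hx hxS))) hz₀)))
  have hne : B (inc z) (inc b) ≠ 0 := fun e => hzb (A.inc_symm e)
  let k : F₀ := ⟨σ (B (inc z) (inc b))⁻¹, A.sig _ (inv_mem (A.rat z b))⟩
  refine ⟨k • z, A.iso_smul hz k, fun s hs => ?_, ?_⟩
  · rw [A.inc_smul, bilin_smul_right, hzS s hs, mul_zero]
  · rw [A.inc_smul, bilin_smul_left, show σ (k : F) = (B (inc z) (inc b))⁻¹ from A.base.inv _,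
      inv_mul_cancel₀ hne]

end SkewRat

/-- a proper overgroup of the subfield group -/
structure SkewCtx (B : V →ₛₗ[σ] V →ₗ[F] F) (inc : V₀ →+ V) (M : Subgroup (sIsoms B)) : Prop where
  base : SkewRat (F₀ := F₀) B inc
  mem : ∀ u, B (inc u) (inc u) = 0 → sTv B (inc u) 1 ∈ M
  mem_neg : ∀ u, B (inc u) (inc u) = 0 → sTv B (inc u) (-1) ∈ M
  proper : ¬ ∀ x k, B x x = 0 → σ k = k → sTv B x k ∈ M

namespace SkewCtx

variable [Finite F] [FiniteDimensional F₀ V₀] [FiniteDimensional F V]
variable {B : V →ₛₗ[σ] V →ₗ[F] F} {inc : V₀ →+ V} {M : Subgroup (sIsoms B)} (C : SkewCtx (F₀ := F₀) B inc M)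
include C

theorem ev_mem {v z : V₀} (hv : B (inc v) (inc v) = 0) (hz : B (inc z) (inc z) = 0)
    (hvz : B (inc v) (inc z) = 0) : sEv B (inc v) (inc z) ∈ M := by
  rw [sEv, ← map_add]
  exact mul_mem (mul_mem (C.mem _ (C.base.iso_add hv hz hvz)) (C.mem_neg _ hv)) (C.mem_neg _ hz)

/-- one scalar spreads over the orthogonal of the centre -/
theorem spread {v w : V₀} (hv : B (inc v) (inc v) = 0) (hw : B (inc w) (inc w) = 0)
    (hvw : B (inc v) (inc w) = 0) (hind : w ∉ Submodule.span F₀ {v}) {l : F}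
    (h : sEv B (inc v) (l • inc w) ∈ M) :
    ∀ z, B (inc z) (inc z) = 0 → B (inc v) (inc z) = 0 → z ∉ Submodule.span F₀ {v} →
      sEv B (inc v) (l • inc z) ∈ M := by
  classical
  have A := C.base
  have hB := A.base
  have hiso : ∀ {z : V₀}, B (inc z) (inc z) = 0 → B (l • inc z) (l • inc z) = 0 := fun hz => by
    rw [bilin_smul_left, bilin_smul_right, hz, mul_zero, mul_zero]
  have hperp : ∀ {z : V₀}, B (inc v) (inc z) = 0 → B (inc v) (l • inc z) = 0 := fun hz => by
    rw [bilin_smul_right, hz, mul_zero]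
  have step : ∀ w', B (inc w') (inc w') = 0 → B (inc v) (inc w') = 0 → sEv B (inc v) (l • inc w') ∈ M →
      ∀ y, B (inc y) (inc y) = 0 → B (inc v) (inc y) = 0 → B (inc y) (inc w') = 0 →
      w' ∉ Submodule.span F₀ {v, y} → sEv B (inc v) (l • inc y) ∈ M := by
    intro w' hw' hvw' hM y hy hvy hyw hout
    obtain ⟨u, hu, huS, huw⟩ := A.exists_unit {v, y} Finset.card_le_two
      (b := w') (by simpa using hout)
    have huy : B (inc u) (inc y) = 0 := A.inc_symm (huS y (by simp))
    have hT := C.ev_mem hu hy huy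
    have h1 := mul_mem (mul_mem hT hM) (inv_mem hT)
    rw [hB.ev_conj _ hv (hiso hw') (hperp hvw'), map_smul, hB.ev_apply hu hy huy, hB.ev_apply hu hy huy,
      A.inc_symm (huS v (by simp)), A.inc_symm hvy, huw, hyw] at h1
    simp only [zero_smul, add_zero, one_smul] at h1
    rw [smul_add, hB.ev_add hv (hiso hw') (hiso hy) (hperp hvw') (hperp hvy)
      (by rw [bilin_smul_left, bilin_smul_right, A.inc_symm hyw, mul_zero, mul_zero])] at h1
    exact (Subgroup.mul_mem_cancel_left M hM).1 h1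
  intro z hz hvz hzv
  by_cases hdir : B (inc z) (inc w) = 0 ∧ w ∉ Submodule.span F₀ {v, z}
  · exact step w hw hvw h z hz hvz hdir.1 hdir.2
  have hrad : ∃ T : Finset V₀, T.card ≤ 2 ∧ ((T.card ≤ 1) ∨ w ∈ Submodule.span F₀ {v, z}) ∧
      Submodule.span F₀ (({v, w, z} : Finset V₀) : Set V₀) ⊓ A.perp (({v, w, z} : Finset V₀) : Set V₀) ≤
        Submodule.span F₀ (T : Set V₀) := by
    by_cases hzw : B (inc z) (inc w) = 0
    · push Not at hdir
      refine ⟨{v, z}, Finset.card_le_two, Or.inr (hdir hzw), inf_le_left.trans (Submodule.span_le.2 ?_)⟩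
      simp only [Finset.coe_insert, Finset.coe_singleton, Set.insert_subset_iff, Set.singleton_subset_iff]
      exact ⟨Submodule.subset_span (by simp), hdir hzw, Submodule.subset_span (by simp)⟩
    refine ⟨{v}, by simp, Or.inl (by simp), ?_⟩
    rintro x ⟨hx, hxS⟩
    simp only [Finset.coe_insert, Finset.coe_singleton, SetLike.mem_coe] at hx ⊢
    obtain ⟨a, y, hy, rfl⟩ := Submodule.mem_span_insert.1 hx
    obtain ⟨b, c, rfl⟩ := Submodule.mem_span_pair.1 hy
    have hwz : B (inc w) (inc z) ≠ 0 := fun e => hzw (A.inc_symm e)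
    have e1 := hxS w (by simp)
    have e2 := hxS z (by simp)
    simp only [map_add, A.inc_smul, bilin_smul_right, hw, hz, A.inc_symm hvw, A.inc_symm hvz, mul_zero,
      zero_add, add_zero, mul_eq_zero, hwz, hzw, or_false] at e1 e2
    rw [show c = 0 from Subtype.ext e1, show b = 0 from Subtype.ext e2, zero_smul, zero_smul, add_zero,
      add_zero]
    exact Submodule.smul_mem _ _ (Submodule.mem_span_singleton_self v)
  obtain ⟨T, hT2, hTd, hrad⟩ := hrad
  obtain ⟨S', hS'2, hS'eq⟩ : ∃ S' : Finset V₀, S'.card + T.card ≤ 4 ∧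
      (S' = {v, w, z} ∨ (S' = {v, z} ∧ w ∈ Submodule.span F₀ {v, z})) := by
    rcases hTd with h1 | h1
    · exact ⟨{v, w, z}, by have := Finset.card_le_three (a := v) (b := w) (c := z); omega, Or.inl rfl⟩
    · exact ⟨{v, z}, by have := Finset.card_le_two (a := v) (b := z); omega, Or.inr ⟨rfl, h1⟩⟩
  obtain ⟨y, hy, hyS, hyout⟩ : ∃ y, B (inc y) (inc y) = 0 ∧
      (∀ s ∈ ({v, w, z} : Finset V₀), B (inc s) (inc y) = 0) ∧
      y ∉ Submodule.span F₀ (({v, w, z} : Finset V₀) : Set V₀) := by
    have h6 := A.six_le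
    rcases hS'eq with rfl | ⟨rfl, hwm⟩
    · exact A.exists_out' _ T (by omega) hrad
    obtain ⟨y, hy, hyS, hyout⟩ := A.exists_out {v, z} Finset.card_le_two
    obtain ⟨a, b, hab⟩ := Submodule.mem_span_pair.1 hwm
    refine ⟨y, hy, fun s hs => ?_, fun hm => hyout (Submodule.span_le.2 ?_ hm)⟩
    · rcases Finset.mem_insert.1 hs with rfl | hs
      · exact hyS s (by simp)
      rcases Finset.mem_insert.1 hs with rfl | hs
      · rw [← hab, map_add, A.inc_smul, A.inc_smul, map_add, LinearMap.add_apply, bilin_smul_left,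
          bilin_smul_left, hyS v (by simp), hyS z (by simp), mul_zero, mul_zero, add_zero]
      · rw [Finset.mem_singleton.1 hs]; exact hyS z (by simp)
    · simp only [Finset.coe_insert, Finset.coe_singleton, Set.insert_subset_iff, Set.singleton_subset_iff]
      exact ⟨Submodule.subset_span (by simp), hwm, Submodule.subset_span (by simp)⟩
  have hvy : B (inc v) (inc y) = 0 := hyS v (by simp)
  have hout : ∀ {a b : V₀}, b ∉ Submodule.span F₀ {v} → a ∉ Submodule.span F₀ {v, b} →
      b ∉ Submodule.span F₀ {v, a} := by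
    intro a b hb ha hm
    obtain ⟨p, q, hpq⟩ := Submodule.mem_span_pair.1 hm
    rcases eq_or_ne q 0 with rfl | hq
    · exact hb (Submodule.mem_span_singleton.2 ⟨p, by simpa using hpq⟩)
    · refine ha ((Submodule.smul_mem_iff _ hq).1 ?_)
      rw [show q • a = (-p) • v + (1 : F₀) • b by rw [← hpq]; module]
      exact Submodule.mem_span_pair.2 ⟨_, _, rfl⟩
  simp only [Finset.coe_insert, Finset.coe_singleton] at hyout
  have hy1 := step w hw hvw h y hy hvy (A.inc_symm (hyS w (by simp)))
    (hout hind fun hm => hyout (Submodule.span_mono (by simp [Set.insert_subset_iff]) hm))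
  exact step y hy hvy hy1 z hz hvz (hyS z (by simp))
    (fun hm => hyout (Submodule.span_mono (by simp [Set.insert_subset_iff]) hm))

/-- a root element on rational vectors has a rational scalar -/
theorem scalar_mem {v w : V₀} (hv : B (inc v) (inc v) = 0) (hw : B (inc w) (inc w) = 0)
    (hvw : B (inc v) (inc w) = 0) (hv0 : v ≠ 0) (hind : w ∉ Submodule.span F₀ {v}) {l : F}
    (h : sEv B (inc v) (l • inc w) ∈ M) : l ∈ F₀ := by
  classical
  have A := C.base
  have hB := A.base
  by_contra hl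
  let In : F → Prop := fun l => ∀ v z, B (inc v) (inc v) = 0 → v ≠ 0 → B (inc z) (inc z) = 0 →
    B (inc v) (inc z) = 0 → z ∉ Submodule.span F₀ {v} → sEv B (inc v) (l • inc z) ∈ M
  have hiso : ∀ (k : F) {z : V₀}, B (inc z) (inc z) = 0 → B (k • inc z) (k • inc z) = 0 := fun k z hz => by
    rw [bilin_smul_left, bilin_smul_right, hz, mul_zero, mul_zero]
  have hperp : ∀ (k : F) {v z : V₀}, B (inc v) (inc z) = 0 → B (inc v) (k • inc z) = 0 := fun k v z hz => by
    rw [bilin_smul_right, hz, mul_zero]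
  have flip : ∀ {v z : V₀} (k : F), B (inc v) (inc v) = 0 → B (inc z) (inc z) = 0 →
      B (inc v) (inc z) = 0 → sEv B (inc v) (k • inc z) = sEv B (inc z) (σ k • inc v) := by
    intro v z k hv hz hvz
    rw [hB.ev_symm hv (hiso k hz) (hperp k hvz), hB.ev_smul hz hv (A.inc_symm hvz)]
  -- one centre gives all
  have trans : ∀ (l : F) (v : V₀), B (inc v) (inc v) = 0 → v ≠ 0 →
      (∀ z, B (inc z) (inc z) = 0 → B (inc v) (inc z) = 0 → z ∉ Submodule.span F₀ {v} →
        sEv B (inc v) (l • inc z) ∈ M) → In l := by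
    intro l v hv hv0 hall v' z hv' hv'0 hz hvz hzv
    obtain ⟨u, hu, huS, huout⟩ := A.exists_out {v, v'} Finset.card_le_two
    simp only [Finset.coe_insert, Finset.coe_singleton] at huout
    have hvu : B (inc v) (inc u) = 0 := huS v (by simp)
    have hv'u : B (inc v') (inc u) = 0 := huS v' (by simp)
    have hu0 : u ∉ Submodule.span F₀ {v} := fun hm => huout (Submodule.span_mono (by simp) hm)
    have hu0' : u ∉ Submodule.span F₀ {v'} := fun hm => huout (Submodule.span_mono (by simp) hm)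
    have h1 := hall u hu hvu hu0
    rw [flip l hv hu hvu] at h1
    have h2 := C.spread hu hv (A.inc_symm hvu) (not_mem_span_symm hv0 hu0) h1 v' hv' (A.inc_symm hv'u)
      (not_mem_span_symm hv'0 hu0')
    rw [flip (σ l) hu hv' (A.inc_symm hv'u), hB.inv] at h2
    exact C.spread hv' hu hv'u hu0' h2 z hz hvz hzv
  have hIn : In l := trans l v hv hv0 (C.spread hv hw hvw hind h)
  let L : Subring F :=
    { carrier := {l | In l}
      mul_mem' := fun {a b} ha hb => by
        obtain ⟨w₁, hw₁, hw₁S, hw₁out⟩ := A.exists_out {v} (by simp)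
        simp only [Finset.coe_singleton] at hw₁out
        have hvw₁ : B (inc v) (inc w₁) = 0 := hw₁S v (by simp)
        obtain ⟨p, hp, hpS, hpw⟩ := A.exists_unit {v} (by simp) (b := w₁) (by simpa using hw₁out)
        obtain ⟨q, hq, hqS, hqout⟩ := A.exists_out' {v, p, w₁} {v}
          (by have := A.six_le; have := Finset.card_le_three (a := v) (b := p) (c := w₁)
              simp only [Finset.card_singleton]; omega)
          (by
            rintro x ⟨hx, hxS⟩
            simp only [Finset.coe_insert, Finset.coe_singleton, SetLike.mem_coe] at hx ⊢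
            obtain ⟨a, y, hy, rfl⟩ := Submodule.mem_span_insert.1 hx
            obtain ⟨b, c, rfl⟩ := Submodule.mem_span_pair.1 hy
            have hwp : B (inc w₁) (inc p) ≠ 0 := fun e => by
              rw [A.inc_symm e] at hpw; exact zero_ne_one hpw
            have e1 := hxS p (by simp)
            have e2 := hxS w₁ (by simp)
            simp only [map_add, A.inc_smul, bilin_smul_right, hp, hw₁, hpw, A.inc_symm (hpS v (by simp)),
              A.inc_symm hvw₁, mul_zero, zero_add, add_zero, mul_one, mul_eq_zero, hwp, or_false] at e1 e2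
            rw [show c = 0 from Subtype.ext e1, show b = 0 from Subtype.ext e2, zero_smul, zero_smul,
              add_zero, add_zero]
            exact Submodule.smul_mem _ _ (Submodule.mem_span_singleton_self v))
        have hpq : B (inc p) (inc q) = 0 := hqS p (by simp)
        have hvq : B (inc v) (inc q) = 0 := hqS v (by simp)
        have hp0 : p ≠ 0 := fun e => by
          rw [e, map_zero, map_zero, LinearMap.zero_apply] at hpw; exact zero_ne_one hpw
        have hT := hb p q hp hp0 hq hpq fun hm => hqout (Submodule.span_mono (by simp) hm)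
        have hS := ha v w₁ hv hv0 hw₁ hvw₁ hw₁out
        have h1 := mul_mem (mul_mem hT hS) (inv_mem hT)
        rw [hB.ev_conj _ hv (hiso a hw₁) (hperp a hvw₁), map_smul,
          hB.ev_apply hp (hiso b hq) (hperp b hpq), hB.ev_apply hp (hiso b hq) (hperp b hpq),
          A.inc_symm (hpS v (by simp)), bilin_smul_left, A.inc_symm hvq, hpw, bilin_smul_left,
          A.inc_symm (hqS w₁ (by simp))] at h1
        simp only [zero_smul, add_zero, mul_zero, one_smul] at h1
        rw [smul_add, smul_smul, hB.ev_add hv (hiso a hw₁) (hiso _ hq) (hperp a hvw₁) (hperp _ hvq)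
          (by rw [bilin_smul_left, bilin_smul_right, hqS w₁ (by simp), mul_zero, mul_zero])] at h1
        exact trans (a * b) v hv hv0 (C.spread hv hq hvq
          (fun hm => hqout (Submodule.span_mono (by simp) hm)) ((Subgroup.mul_mem_cancel_left M hS).1 h1))
      one_mem' := fun v z hv _ hz hvz _ => by rw [one_smul]; exact C.ev_mem hv hz hvz
      add_mem' := fun {a b} ha hb v z hv hv0 hz hvz hzv => by
        rw [add_smul, hB.ev_add hv (hiso a hz) (hiso b hz) (hperp a hvz) (hperp b hvz)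
          (by rw [bilin_smul_left, bilin_smul_right, hz, mul_zero, mul_zero])]
        exact mul_mem (ha v z hv hv0 hz hvz hzv) (hb v z hv hv0 hz hvz hzv)
      zero_mem' := fun v z hv _ _ _ _ => by rw [zero_smul, hB.ev_zero hv]; exact one_mem M
      neg_mem' := fun {a} ha v z hv hv0 hz hvz hzv => by
        rw [neg_smul, ← smul_neg, ← map_neg]
        exact ha v (-z) hv hv0 (by simpa using hz) (by simpa using hvz) fun hm => hzv (by simpa using hm) }
  have hall := A.ring L (fun c hc v z hv _ hz hvz _ => by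
    rw [show c • inc z = inc ((⟨c, hc⟩ : F₀) • z) by rw [A.inc_smul]]
    exact C.ev_mem hv (A.iso_smul hz _) (by rw [A.inc_smul, bilin_smul_right, hvz, mul_zero])) l hIn hl
  have hfix : ∀ v, B (inc v) (inc v) = 0 → v ≠ 0 → ∀ k, σ k = k → sTv B (inc v) k ∈ M := by
    intro v hv hv0 k hk
    let S : AddSubgroup F :=
      { carrier := {k | σ k = k ∧ sTv B (inc v) k ∈ M}
        add_mem' := fun {a b} ha hb => ⟨by rw [map_add, ha.1, hb.1], by
          rw [hB.tv_add hv ha.1 hb.1]; exact mul_mem ha.2 hb.2⟩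
        zero_mem' := ⟨map_zero σ, by rw [hB.tv_zero hv]; exact one_mem M⟩
        neg_mem' := fun {a} ha => ⟨by rw [map_neg, ha.1], by
          rw [← hB.tv_neg hv ha.1]; exact inv_mem ha.2⟩ }
    refine (A.norms S (fun a => ⟨by rw [map_mul, hB.inv, mul_comm], ?_⟩) k hk).2
    obtain ⟨z, hz, hzS, hzout⟩ := A.exists_out {v} (by simp)
    simp only [Finset.coe_singleton] at hzout
    have hvz : B (inc v) (inc z) = 0 := hzS v (by simp)
    obtain ⟨u, hu, huS, huz⟩ := A.exists_unit {v} (by simp) (b := z) (by simpa using hzout)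
    have hvu : B (inc v) (inc u) = 0 := huS v (by simp)
    have huv : u ∉ Submodule.span F₀ {v} := fun hm => by
      obtain ⟨s, rfl⟩ := Submodule.mem_span_singleton.1 hm
      rw [A.inc_smul, bilin_smul_left, hvz, mul_zero] at huz
      exact zero_ne_one huz
    set μ := σ a
    have hT := hall μ v u hv hv0 hu hvu huv
    have hS := C.mem z hz
    have h1 := mul_mem (mul_mem hT hS) (inv_mem hT)
    rw [hB.tv_conj _ hz (map_one σ), hB.ev_apply hv (hiso μ hu) (hperp μ hvu), hvz, bilin_smul_left, huz,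
      zero_smul, add_zero, mul_one, hB.inv] at h1
    have hva : B (a • inc v) (a • inc v) = 0 := hiso a hv
    rw [hB.tv_split hz hva, hB.tv_smul hv a (map_one σ), one_mul] at h1
    have hzv : B (inc z) (inc v) = 0 := A.inc_symm hvz
    have hev := hall a z v hz (fun e => hzout (e ▸ Submodule.zero_mem _)) hv hzv (not_mem_span_symm hv0 hzout)
    exact (Subgroup.mul_mem_cancel_left M hev).1 ((Subgroup.mul_mem_cancel_right M hS).1 h1)
  refine C.proper fun x k hx hk => ?_
  rcases eq_or_ne x 0 with rfl | hx0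
  · rw [show sTv B (0 : V) k = 1 from sIsoms_ext fun y => by
      rw [hB.tv_apply (by simp) hk]; simp]
    exact one_mem M
  -- a rational isotropic point not orthogonal to `x`
  obtain ⟨e, he, hex⟩ : ∃ e, B (inc e) (inc e) = 0 ∧ B (inc e) x ≠ 0 := by
    by_contra hno
    push Not at hno
    let P : Submodule F₀ V₀ :=
      { carrier := {z | B (inc z) x = 0}
        add_mem' := fun {a b} ha hb => by
          show B (inc (a + b)) x = 0
          rw [map_add, map_add, LinearMap.add_apply, show B (inc a) x = 0 from ha,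
            show B (inc b) x = 0 from hb, add_zero]
        zero_mem' := by show B (inc 0) x = 0; rw [map_zero, map_zero, LinearMap.zero_apply]
        smul_mem' := fun c a ha => by
          show B (inc (c • a)) x = 0
          rw [A.inc_smul, bilin_smul_left, show B (inc a) x = 0 from ha, mul_zero] }
    exact hx0 (A.eq_zero_of_perp fun z => A.perp_le_of_iso ∅ (by simp) (P := P)
      (fun w hw _ => hno w hw) (show z ∈ A.perp ((∅ : Finset V₀) : Set V₀) from fun s hs => absurd hs (by simp)))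
  have he0 : e ≠ 0 := fun h => hex (by rw [h, map_zero, map_zero, LinearMap.zero_apply])
  let Full : V → Prop := fun y => B y y = 0 ∧ ∀ k, σ k = k → sTv B y k ∈ M
  have fconj : ∀ {g : sIsoms B}, g ∈ M → ∀ {y}, Full y → Full (g.1 y) := fun {g} hg {y} hy =>
    ⟨by rw [sIsoms_map, hy.1], fun k hk => by
      rw [← hB.tv_conj g hy.1 hk]; exact mul_mem (mul_mem hg (hy.2 k hk)) (inv_mem hg)⟩
  have fsmul : ∀ {y}, Full y → ∀ a : F, Full (a • y) := fun {y} hy a =>
    ⟨by rw [bilin_smul_left, bilin_smul_right, hy.1, mul_zero, mul_zero], fun k hk => by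
      rw [hB.tv_smul hy.1 a hk]; exact hy.2 _ (by rw [map_mul, map_mul, hB.inv, hk, mul_comm (σ a)])⟩
  obtain ⟨e', he', -, he'e⟩ := A.exists_unit ∅ (by simp) (b := e) (by simpa using he0)
  have hee' : B (inc e) (inc e') = -1 := by rw [hB.skew (inc e') (inc e), he'e, map_one]
  -- normalise
  let P₁ : V := (-1 : F) • inc e'
  have hP₁ : B (inc e) P₁ = 1 := by
    show B (inc e) ((-1 : F) • inc e') = 1
    rw [bilin_smul_right, hee']; ring
  have hP₁full : Full P₁ := fsmul ⟨he', hfix e' he' (fun h => by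
    rw [h, map_zero, map_zero, LinearMap.zero_apply] at he'e; exact zero_ne_one he'e)⟩ _
  set x' := (B (inc e) x)⁻¹ • x with hx'def
  have hx' : B (inc e) x' = 1 := by rw [bilin_smul_right, inv_mul_cancel₀ hex]
  have hx'iso : B x' x' = 0 := by rw [bilin_smul_left, bilin_smul_right, hx, mul_zero, mul_zero]
  -- translations orthogonal to `e` and `e'`
  let O : Submodule F V :=
    { carrier := {d | ∀ a : F, ∀ y, B (inc e) y = 1 → B (inc e') y = B (inc e') y → Full y →
        ∃ γ : F, B (inc e) (y + a • d + γ • inc e) = 1 ∧ Full (y + a • d + γ • inc e)}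
      add_mem' := fun {d d'} hd hd' a y hy _ hf => by
        obtain ⟨γ, h1, h2⟩ := hd a y hy rfl hf
        obtain ⟨γ', h1', h2'⟩ := hd' a _ h1 rfl h2
        refine ⟨γ + γ', ?_⟩
        rw [show y + a • (d + d') + (γ + γ') • inc e = y + a • d + γ • inc e + a • d' + γ' • inc e by module]
        exact ⟨h1', h2'⟩
      zero_mem' := fun a y hy _ hf => ⟨0, by simp [hy], by simpa using hf⟩
      smul_mem' := fun c d hd a y hy _ hf => by
        rw [smul_smul]; exact hd (a * c) y hy rfl hf }
  have hgen : ∀ z, B (inc z) (inc z) = 0 → B (inc e) (inc z) = 0 → B (inc e') (inc z) = 0 → inc z ∈ O := by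
    intro z hz hez he'z a y hy _ hf
    have hzv : z ∉ Submodule.span F₀ {e} ∨ inc z = 0 := by
      by_cases h : z ∈ Submodule.span F₀ {e}
      · right
        obtain ⟨s, rfl⟩ := Submodule.mem_span_singleton.1 h
        rw [A.inc_smul, bilin_smul_right, he'e, mul_one] at he'z
        rw [A.inc_smul, he'z, zero_smul]
      · exact Or.inl h
    rcases hzv with hzv | h0
    · have hT := hall a e z he he0 hz hez hzv
      refine ⟨B (a • inc z) y, ?_⟩
      have h' := fconj hT hf
      rw [hB.ev_apply he (hiso a hz) (hperp a hez), hy, one_smul,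
        show y + B (a • inc z) y • inc e + a • inc z = y + a • inc z + B (a • inc z) y • inc e by abel] at h'
      refine ⟨?_, h'⟩
      simp [map_add, bilin_smul_right, hy, hez, he]
    · exact ⟨0, by simp [h0, hy], by simpa [h0] using hf⟩
  have hrat : ∀ z, B (inc e) (inc z) = 0 → B (inc e') (inc z) = 0 → inc z ∈ O := by
    intro z h1 h2
    let P : Submodule F₀ V₀ :=
      { carrier := {z | inc z ∈ O}
        add_mem' := fun {a b} ha hb => by show inc (a + b) ∈ O; rw [map_add]; exact add_mem ha hb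
        zero_mem' := by show inc 0 ∈ O; rw [map_zero]; exact O.zero_mem
        smul_mem' := fun c a ha => by show inc (c • a) ∈ O; rw [A.inc_smul]; exact O.smul_mem _ ha }
    refine A.perp_le_of_iso {e, e'} Finset.card_le_two (P := P)
      (fun w hw hwS => hgen w hw (hwS e (by simp)) (hwS e' (by simp))) ?_
    intro s hs
    simp only [Finset.coe_insert, Finset.coe_singleton] at hs
    rcases hs with rfl | rfl <;> assumption
  have hd : x' - P₁ - B (inc e') (x' - P₁) • inc e ∈ O := by
    let T : V →ₗ[F] V := LinearMap.id + (B (inc e)).smulRight (inc e') - (B (inc e')).smulRight (inc e)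
    have hle : Submodule.span F (Set.range inc) ≤ O.comap T := by
      refine Submodule.span_le.2 ?_
      rintro _ ⟨w, rfl⟩
      show T (inc w) ∈ O
      rw [show T (inc w) = inc (w + (⟨_, A.rat e w⟩ : F₀) • e' - (⟨_, A.rat e' w⟩ : F₀) • e) by
        simp [T, map_sub, A.inc_smul]]
      refine hrat _ ?_ ?_ <;> simp [map_sub, map_add, A.inc_smul, bilin_smul_right, hee', he, he', he'e]
    have h := hle (show x' - P₁ ∈ Submodule.span F (Set.range inc) by rw [A.span]; trivial)
    have h0 : B (inc e) (x' - P₁) = 0 := by rw [map_sub, hx', hP₁, sub_self]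
    rw [Submodule.mem_comap, show T (x' - P₁) = x' - P₁ - B (inc e') (x' - P₁) • inc e by
      simp only [T, LinearMap.sub_apply, LinearMap.add_apply, LinearMap.id_apply, LinearMap.smulRight_apply,
        h0, zero_smul, add_zero]] at h
    exact h
  obtain ⟨γ, hγ1, hγ⟩ := hd 1 P₁ hP₁ rfl hP₁full
  set δ := γ - B (inc e') (x' - P₁)
  set y := P₁ + (1 : F) • (x' - P₁ - B (inc e') (x' - P₁) • inc e) + γ • inc e with hydef
  have hy : y = x' + δ • inc e := by rw [hydef]; module
  have hδ : σ δ = δ := by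
    have h := hγ.1
    rw [hy] at h
    simp only [map_add, LinearMap.add_apply, bilin_smul_right, bilin_smul_left, hx'iso, hx', he,
      hB.skew (inc e) x', map_one] at h
    linear_combination h
  have hf := fconj (g := sTv B (inc e) (-δ)) (hfix e he he0 _ (by rw [map_neg, hδ])) hγ
  rw [hB.tv_apply he (by rw [map_neg, hδ]), hγ1, mul_one, hy,
    show x' + δ • inc e + (-δ) • inc e = x' by module] at hf
  have hfin := fsmul hf (B (inc e) x)
  rw [hx'def, smul_smul, mul_inv_cancel₀ hex, one_smul] at hfin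
  exact hfin.2 k hk

/-- an isotropic point with its root element, orthogonal to a rational isotropic point, is rational -/
theorem rat_mod {x : V} (hxx : B x x = 0) (hx : sTv B x 1 ∈ M) {u : V₀} (hu : B (inc u) (inc u) = 0)
    (hu0 : u ≠ 0) (hux : B (inc u) x = 0) :
    (∃ k : F, x = k • inc u) ∨ ∃ (κ : F) (r : V₀) (γ : F), κ ≠ 0 ∧ κ • x = inc r + γ • inc u := by
  classical
  have A := C.base
  have hB := A.base
  have hxu := hB.perp_symm hux
  have key : ∀ w, B (inc w) (inc w) = 0 → B (inc u) (inc w) = 0 →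
      ∀ w₂, B (inc w₂) (inc w₂) = 0 → B (inc u) (inc w₂) = 0 → σ (B (inc w) x) * B (inc w₂) x ∈ F₀ := by
    intro w hw huw w₂ hw₂ huw₂
    by_cases hin : w₂ ∈ Submodule.span F₀ {u}
    · obtain ⟨s, rfl⟩ := Submodule.mem_span_singleton.1 hin
      rw [A.inc_smul, bilin_smul_left, hux, mul_zero, mul_zero]; exact zero_mem _
    set α := B (inc w) x
    set α₂ := B (inc w₂) x with hα₂
    -- first translation
    have hE1 := C.ev_mem hu hw huw
    have h1 := mul_mem (mul_mem hE1 hx) (inv_mem hE1)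
    rw [hB.tv_conj _ hxx (map_one σ), hB.ev_apply hu hw huw, hux, zero_smul, add_zero] at h1
    set b := α • inc u with hb
    have hbb : B b b = 0 := by rw [hb, bilin_smul_left, bilin_smul_right, hu, mul_zero, mul_zero]
    have hxb : B x b = 0 := by rw [hb, bilin_smul_right, hxu, mul_zero]
    rw [hB.tv_split hxx hbb] at h1
    have hP1 : sEv B x b * sTv B b 1 ∈ M := (Subgroup.mul_mem_cancel_right M hx).1 h1
    -- second translation
    obtain ⟨q, hq, hqS, hqout⟩ := A.exists_out {u, w₂} Finset.card_le_two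
    have huq : B (inc u) (inc q) = 0 := hqS u (by simp)
    have hqw : B (inc q) (inc w₂) = 0 := A.inc_symm (hqS w₂ (by simp))
    have hE2 := C.ev_mem hq hw₂ hqw
    set E2 := sEv B (inc q) (inc w₂)
    set δ := α₂ • inc q + B (inc q) x • inc w₂ with hδ
    have hEu : E2.1 (inc u) = inc u := by
      rw [hB.ev_apply hq hw₂ hqw, A.inc_symm huw₂, A.inc_symm huq, zero_smul, zero_smul, add_zero, add_zero]
    have hEb : E2.1 b = b := by rw [hb, map_smul, hEu]
    have hEx : E2.1 x = x + δ := by rw [hB.ev_apply hq hw₂ hqw, hδ, hα₂, add_assoc]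
    have h2 := mul_mem (mul_mem hE2 hP1) (inv_mem hE2)
    rw [show E2 * (sEv B x b * sTv B b 1) * E2⁻¹ = (E2 * sEv B x b * E2⁻¹) * (E2 * sTv B b 1 * E2⁻¹) by group,
      hB.ev_conj _ hxx hbb hxb, hB.tv_conj _ hbb (map_one σ), hEx, hEb] at h2
    have hx'x' : B (x + δ) (x + δ) = 0 := by rw [← hEx, sIsoms_map, hxx]
    have hδδ : B δ δ = 0 := by
      simp [hδ, map_add, bilin_smul_left, bilin_smul_right, hq, hw₂, hqw, A.inc_symm hqw]
    have hbδ : B b δ = 0 := by
      simp [hb, hδ, map_add, bilin_smul_left, bilin_smul_right, huq, huw₂]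
    have hbx : B b x = 0 := hB.perp_symm hxb
    have hbx' : B b (x + δ) = 0 := by rw [map_add, hbx, hbδ, add_zero]
    have hx'b : B (x + δ) b = 0 := hB.perp_symm hbx'
    have hQ : sEv B (x + δ) b * (sEv B x b)⁻¹ ∈ M := by
      have h3 := mul_mem h2 (inv_mem hP1)
      rwa [show sEv B (x + δ) b * sTv B b 1 * (sEv B x b * sTv B b 1)⁻¹ =
        sEv B (x + δ) b * (sEv B x b)⁻¹ by group] at h3
    rw [hB.ev_symm hx'x' hbb hx'b, hB.ev_symm hxx hbb hxb] at hQ
    have hsum : B (δ + x) (δ + x) = 0 := by rw [add_comm]; exact hx'x'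
    have hmul := hB.ev_mul hbb hδδ hxx hbδ hbx hsum
    rw [add_comm δ x] at hmul
    set kk := B δ x
    have hk : σ kk = kk := by
      have h := hx'x'
      simp only [map_add, LinearMap.add_apply, hxx, hδδ, zero_add, add_zero] at h
      rw [hB.skew δ x] at h
      linear_combination -h
    have hY : sEv B b δ * sTv B b (-kk) ∈ M := by
      have e : sEv B b (x + δ) * (sEv B b x)⁻¹ = sEv B b δ * sTv B b (-kk) := by
        rw [← hB.tv_neg hbb hk]
        have hc := hB.tv_comm_ev hbb hxx hbx hk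
        calc sEv B b (x + δ) * (sEv B b x)⁻¹
            = sEv B b δ * sEv B b x * (sTv B b kk)⁻¹ * (sEv B b x)⁻¹ := by rw [hmul]; group
          _ = sEv B b δ * ((sTv B b kk * sEv B b x) * (sTv B b kk * sEv B b x)⁻¹ * (sTv B b kk)⁻¹) *
              1 := by
            rw [mul_inv_cancel, one_mul, mul_one, mul_assoc, mul_assoc, mul_right_inj, ← mul_inv_rev, hc,
              mul_inv_rev, mul_inv_cancel_left]
          _ = sEv B b δ * (sTv B b kk)⁻¹ := by group
      rwa [e] at hQ
    -- third translation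
    obtain ⟨p₂, hp₂, hp₂S, hp₂q⟩ := A.exists_unit {u, w₂} Finset.card_le_two
      (b := q) hqout
    obtain ⟨p₁, hp₁, hp₁S, hp₁out⟩ : ∃ p₁, B (inc p₁) (inc p₁) = 0 ∧
        (∀ s ∈ ({u, q, w₂, p₂} : Finset V₀), B (inc s) (inc p₁) = 0) ∧
        p₁ ∉ Submodule.span F₀ ({u} : Set V₀) := by
      refine ⟨w₂, hw₂, fun s hs => ?_, hin⟩
      simp only [Finset.mem_insert, Finset.mem_singleton] at hs
      rcases hs with rfl | rfl | rfl | rfl
      · exact huw₂
      · exact hqw
      · exact hw₂
      · exact A.inc_symm (hp₂S w₂ (by simp))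
    have hup₁ : B (inc u) (inc p₁) = 0 := hp₁S u (by simp)
    have hp₁₂ : B (inc p₁) (inc p₂) = 0 := A.inc_symm (hp₁S p₂ (by simp))
    have hE3 := C.ev_mem hp₁ hp₂ hp₁₂
    set E3 := sEv B (inc p₁) (inc p₂)
    have hE3u : E3.1 (inc u) = inc u := by
      rw [hB.ev_apply hp₁ hp₂ hp₁₂, A.inc_symm (hp₂S u (by simp)), A.inc_symm hup₁]
      simp
    have hE3δ : E3.1 δ = δ + α₂ • inc p₁ := by
      rw [hB.ev_apply hp₁ hp₂ hp₁₂]
      simp [hδ, map_add, bilin_smul_right, hp₂q, A.inc_symm (hp₁S q (by simp)),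
        A.inc_symm (hp₁S w₂ (by simp)), A.inc_symm (hp₂S w₂ (by simp))]
    have hE3b : E3.1 b = b := by rw [hb, map_smul, hE3u]
    have h4 := mul_mem (mul_mem hE3 hY) (inv_mem hE3)
    rw [show E3 * (sEv B b δ * sTv B b (-kk)) * E3⁻¹ = (E3 * sEv B b δ * E3⁻¹) * (E3 * sTv B b (-kk) * E3⁻¹)
        by group,
      hB.ev_conj _ hbb hδδ hbδ, hB.tv_conj _ hbb (by rw [map_neg, hk]), hE3b, hE3δ] at h4
    have hp₁p₁ : B (α₂ • inc p₁) (α₂ • inc p₁) = 0 := by
      rw [bilin_smul_left, bilin_smul_right, hp₁, mul_zero, mul_zero]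
    have hbp₁ : B b (α₂ • inc p₁) = 0 := by
      simp [hb, bilin_smul_left, bilin_smul_right, hup₁]
    have hδp₁ : B δ (α₂ • inc p₁) = 0 := by
      simp [hδ, map_add, bilin_smul_left, bilin_smul_right, hp₁S q (by simp), hp₁S w₂ (by simp)]
    rw [hB.ev_add hbb hδδ hp₁p₁ hbδ hbp₁ hδp₁, mul_assoc] at h4
    have hp1M : sEv B b (α₂ • inc p₁) ∈ M := by
      have h5 := mul_mem (mul_mem (inv_mem hY) h4) (one_mem M)
      have hc := hB.tv_comm_ev hbb hp₁p₁ hbp₁ (c := -kk) (by rw [map_neg, hk])
      rw [hc, ← mul_assoc (sEv B b δ), inv_mul_cancel_left, mul_one] at h5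
      exact h5
    rw [hb, hB.ev_smul hu hp₁p₁ (by rw [bilin_smul_right, hup₁, mul_zero]), smul_smul] at hp1M
    exact C.scalar_mem hu hp₁ hup₁ hu0 hp₁out hp1M
  -- spread to all rational vectors orthogonal to `u`
  let P : F → Submodule F₀ V₀ := fun a =>
    { carrier := {z | a * B (inc z) x ∈ F₀}
      add_mem' := fun {p q} hp hq => by
        show a * B (inc (p + q)) x ∈ F₀
        rw [map_add, map_add, LinearMap.add_apply, mul_add]; exact add_mem hp hq
      zero_mem' := by
        show a * B (inc 0) x ∈ F₀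
        rw [map_zero, map_zero, LinearMap.zero_apply, mul_zero]; exact zero_mem _
      smul_mem' := fun c p hp => by
        show a * B (inc (c • p)) x ∈ F₀
        rw [A.inc_smul, bilin_smul_left, mul_left_comm]; exact mul_mem (A.sig _ c.2) hp }
  have key2 : ∀ w, B (inc w) (inc w) = 0 → B (inc u) (inc w) = 0 →
      A.perp (({u} : Finset V₀) : Set V₀) ≤ P (σ (B (inc w) x)) := fun w hw huw =>
    A.perp_le_of_iso {u} (by simp) fun z hz hzS => key w hw huw z hz (hzS u (by simp))
  obtain ⟨u', hu', -, hu'u⟩ := A.exists_unit ∅ (by simp) (b := u) (by simpa using hu0)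
  have huu' : B (inc u) (inc u') = -1 := by rw [hB.skew (inc u') (inc u), hu'u, map_one]
  by_cases hall : ∀ w, B (inc w) (inc w) = 0 → B (inc u) (inc w) = 0 → B (inc w) x = 0
  · left
    refine ⟨B (inc u') x, sub_eq_zero.1 (A.eq_zero_of_perp fun z => ?_)⟩
    have hz' : z + (⟨_, A.rat u z⟩ : F₀) • u' ∈ A.perp (({u} : Finset V₀) : Set V₀) := by
      intro s hs
      simp only [Finset.coe_singleton, Set.mem_singleton_iff] at hs
      rw [hs, map_add, map_add, A.inc_smul, bilin_smul_right, huu']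
      ring
    let K : Submodule F₀ V₀ :=
      { carrier := {w | B (inc w) x = 0}
        add_mem' := fun {a b} ha hb => by
          show B (inc (a + b)) x = 0
          rw [map_add, map_add, LinearMap.add_apply, show B (inc a) x = 0 from ha,
            show B (inc b) x = 0 from hb, add_zero]
        zero_mem' := by show B (inc 0) x = 0; rw [map_zero, map_zero, LinearMap.zero_apply]
        smul_mem' := fun c a ha => by
          show B (inc (c • a)) x = 0
          rw [A.inc_smul, bilin_smul_left, show B (inc a) x = 0 from ha, mul_zero] }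
    have h' : B (inc (z + (⟨_, A.rat u z⟩ : F₀) • u')) x = 0 :=
      A.perp_le_of_iso {u} (by simp) (P := K) (fun w hw hwS => hall w hw (hwS u (by simp))) hz'
    rw [map_add, map_add, LinearMap.add_apply, A.inc_smul, bilin_smul_left] at h'
    rw [map_sub, bilin_smul_right, hB.skew (inc u) (inc z)]
    linear_combination h'
  push Not at hall
  obtain ⟨w, hw, huw, hα⟩ := hall
  have hP := key2 w hw huw
  set κ := σ (B (inc w) x)
  have hκ : κ ≠ 0 := fun h => hα ((map_eq_zero σ).1 h)
  obtain ⟨r, hr⟩ := A.dual_rat (z := κ • x - (κ * B (inc u') x) • inc u) fun z => by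
    have hz' : z + (⟨_, A.rat u z⟩ : F₀) • u' ∈ A.perp (({u} : Finset V₀) : Set V₀) := by
      intro s hs
      simp only [Finset.coe_singleton, Set.mem_singleton_iff] at hs
      rw [hs, map_add, map_add, A.inc_smul, bilin_smul_right, huu']
      ring
    have h' : κ * B (inc (z + (⟨_, A.rat u z⟩ : F₀) • u')) x ∈ F₀ := hP hz'
    rw [map_add, map_add, LinearMap.add_apply, A.inc_smul, bilin_smul_left] at h'
    rw [map_sub, bilin_smul_right, bilin_smul_right, hB.skew (inc u) (inc z)]
    convert h' using 1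
    ring
  exact Or.inr ⟨κ, r, κ * B (inc u') x, hκ, by rw [hr, sub_add_cancel]⟩

/-- an isotropic point with its root element, orthogonal to a rational isotropic point, is rational -/
theorem point_of_perp {x : V} (hxx : B x x = 0) (hx0 : x ≠ 0) (hx : sTv B x 1 ∈ M) {u : V₀}
    (hu : B (inc u) (inc u) = 0) (hu0 : u ≠ 0) (hux : B (inc u) x = 0) :
    ∃ (k : F) (r : V₀), x = k • inc r := by
  classical
  have A := C.base
  have hB := A.base
  rcases C.rat_mod hxx hx hu hu0 hux with ⟨k, hk⟩ | ⟨κ, r, γ, hκ, hr⟩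
  · exact ⟨k, u, hk⟩
  by_cases hrin : r ∈ Submodule.span F₀ {u}
  · obtain ⟨s, rfl⟩ := Submodule.mem_span_singleton.1 hrin
    refine ⟨κ⁻¹ * ((s : F) + γ), u, ?_⟩
    rw [mul_smul, add_smul, ← A.inc_smul, ← hr, inv_smul_smul₀ hκ]
  obtain ⟨u₂, hu₂, hu₂S, hu₂out⟩ := A.exists_out {r, u} Finset.card_le_two
  simp only [Finset.coe_insert, Finset.coe_singleton] at hu₂out
  have hu₂r : B (inc u₂) (inc r) = 0 := A.inc_symm (hu₂S r (by simp))
  have hu₂u : B (inc u₂) (inc u) = 0 := A.inc_symm (hu₂S u (by simp))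
  have hu₂0 : u₂ ≠ 0 := fun h => hu₂out (h ▸ Submodule.zero_mem _)
  have hu₂x : B (inc u₂) x = 0 := by
    have h := congrArg (B (inc u₂)) hr
    rw [bilin_smul_right, map_add, bilin_smul_right, hu₂r, hu₂u, mul_zero, add_zero] at h
    exact (mul_eq_zero.1 h).resolve_left hκ
  rcases C.rat_mod hxx hx hu₂ hu₂0 hu₂x with ⟨k, hk⟩ | ⟨κ', r', γ', hκ', hr'⟩
  · exact ⟨k, u₂, hk⟩
  have hval : ∀ z, B (inc z) (inc u₂) = 0 → κ' / κ * (B (inc z) (inc r) + γ * B (inc z) (inc u)) ∈ F₀ := by
    intro z hz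
    have h1 := congrArg (B (inc z)) hr'
    rw [bilin_smul_right, map_add, bilin_smul_right, hz, mul_zero, add_zero] at h1
    have h2 := congrArg (B (inc z)) hr
    rw [bilin_smul_right, map_add, bilin_smul_right] at h2
    rw [← h2, ← mul_assoc, div_mul_cancel₀ _ hκ, h1]
    exact A.rat _ _
  have hu0' : u ≠ 0 := hu0
  have hrout : r ∉ Submodule.span F₀ {u, u₂} := fun hm => by
    obtain ⟨p, q, hpq⟩ := Submodule.mem_span_pair.1 hm
    rcases eq_or_ne q 0 with rfl | hq
    · exact hrin (Submodule.mem_span_singleton.2 ⟨p, by simpa using hpq⟩)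
    · refine hu₂out ((Submodule.smul_mem_iff _ hq).1 ?_)
      rw [show q • u₂ = (1 : F₀) • r + (-p) • u by rw [← hpq]; module]
      exact Submodule.mem_span_pair.2 ⟨_, _, rfl⟩
  have huout : u ∉ Submodule.span F₀ {r, u₂} := fun hm => by
    obtain ⟨p, q, hpq⟩ := Submodule.mem_span_pair.1 hm
    rcases eq_or_ne q 0 with rfl | hq
    · exact hrin (by
        have hp : p ≠ 0 := fun h => hu0' (by rw [← hpq, h]; simp)
        exact Submodule.mem_span_singleton.2 ⟨p⁻¹, by
          rw [← hpq]; simp [smul_smul, inv_mul_cancel₀ hp]⟩)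
    · refine hu₂out ((Submodule.smul_mem_iff _ hq).1 ?_)
      rw [show q • u₂ = (-p) • r + (1 : F₀) • u by rw [← hpq]; module]
      exact Submodule.mem_span_pair.2 ⟨_, _, rfl⟩
  obtain ⟨z₁, -, hz₁S, hz₁r⟩ := A.exists_unit {u, u₂} Finset.card_le_two
    (b := r) (by simpa using hrout)
  obtain ⟨z₂, -, hz₂S, hz₂u⟩ := A.exists_unit {r, u₂} Finset.card_le_two
    (b := u) (by simpa using huout)
  have h1 := hval z₁ (A.inc_symm (hz₁S u₂ (by simp)))
  rw [hz₁r, A.inc_symm (hz₁S u (by simp)), mul_zero, add_zero, mul_one] at h1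
  have h2 := hval z₂ (A.inc_symm (hz₂S u₂ (by simp)))
  rw [hz₂u, A.inc_symm (hz₂S r (by simp)), zero_add, mul_one] at h2
  have hγ : γ ∈ F₀ := by
    have := div_mem h2 h1
    rwa [mul_div_cancel_left₀ _ (div_ne_zero hκ' hκ)] at this
  refine ⟨κ⁻¹, r + (⟨γ, hγ⟩ : F₀) • u, ?_⟩
  rw [map_add, A.inc_smul, ← hr, inv_smul_smul₀ hκ]

/-- an element mapping a rational point to a rational point is rational -/
theorem point_rat {g : sIsoms B} (hg : g ∈ M) {v : V₀} (hv : B (inc v) (inc v) = 0) (hv0 : v ≠ 0)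
    {lam : F} {r : V₀} (hgv : g.1 (inc v) = lam • inc r) : SKRat inc g := by
  classical
  have A := C.base
  have hB := A.base
  let G : V₀ → Prop := fun p => ∃ (k : F) (r : V₀), g.1 (inc p) = k • inc r
  have nz : ∀ {p : V₀} {k : F} {r : V₀}, p ≠ 0 → g.1 (inc p) = k • inc r → k ≠ 0 ∧ r ≠ (0 : V₀) := by
    intro p k r hp h
    have hne : g.1 (inc p) ≠ 0 := fun e => A.inc_ne hp (g.1.injective (e.trans (map_zero g.1).symm))
    exact ⟨fun e => hne (by rw [h, e, zero_smul]), fun e => hne (by rw [h, e, map_zero, smul_zero])⟩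
  have step : ∀ v p, B (inc v) (inc v) = 0 → v ≠ 0 → G v → B (inc p) (inc p) = 0 → p ≠ 0 →
      B (inc v) (inc p) = 0 → G p := by
    rintro v p hv hv0 ⟨k, r, hr⟩ hp hp0 hvp
    obtain ⟨hk, hr0⟩ := nz hv0 hr
    have hrr : B (inc r) (inc r) = 0 := by
      have h := sIsoms_map g (inc v) (inc v)
      rw [hr, bilin_smul_left, bilin_smul_right, hv] at h
      exact ((mul_eq_zero.1 ((mul_eq_zero.1 h).resolve_left
        (fun e => hk ((map_eq_zero σ).1 e)))).resolve_left hk)
    refine C.point_of_perp (by rw [sIsoms_map, hp])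
      (fun e => A.inc_ne hp0 (g.1.injective (e.trans (map_zero g.1).symm))) ?_ hrr hr0 ?_
    · rw [← hB.tv_conj g hp (map_one σ)]
      exact mul_mem (mul_mem hg (C.mem p hp)) (inv_mem hg)
    · have h := sIsoms_map g (inc p) (inc v)
      rw [hr, bilin_smul_left, hvp] at h
      exact (mul_eq_zero.1 h).resolve_left fun e => hk ((map_eq_zero σ).1 e)
  have hG : ∀ p, B (inc p) (inc p) = 0 → p ≠ 0 → G p := by
    intro p hp hp0
    obtain ⟨q, hq, hqS, hqout⟩ := A.exists_out {v, p} Finset.card_le_two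
    have hq0 : q ≠ 0 := fun e => hqout (e ▸ Submodule.zero_mem _)
    exact step q p hq hq0 (step v q hv hv0 ⟨lam, r, hgv⟩ hq hq0 (hqS v (by simp))) hp hp0
      (A.inc_symm (hqS p (by simp)))
  obtain ⟨k, r', hr'⟩ := hG v hv hv0
  obtain ⟨hk, -⟩ := nz hv0 hr'
  set c := σ k
  refine ⟨c, fun e => hk ((map_eq_zero σ).1 e), ?_⟩
  let P : Submodule F₀ V₀ :=
    { carrier := {z | ∃ y, c • g.1 (inc z) = inc y}
      add_mem' := by
        rintro a b ⟨y, hy⟩ ⟨y', hy'⟩
        exact ⟨y + y', by rw [map_add, map_add, smul_add, hy, hy', map_add]⟩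
      zero_mem' := ⟨0, by simp⟩
      smul_mem' := by
        rintro s a ⟨y, hy⟩
        exact ⟨s • y, by rw [A.inc_smul, map_smul, smul_comm, hy, A.inc_smul]⟩ }
  have hnon : ∀ b, B (inc b) (inc b) = 0 → B (inc v) (inc b) ≠ 0 → b ∈ P := by
    intro b hb hvb
    have hb0 : b ≠ 0 := fun e => hvb (by rw [e, map_zero, map_zero])
    obtain ⟨k', s, hs⟩ := hG b hb hb0
    obtain ⟨hk', -⟩ := nz hb0 hs
    have h := sIsoms_map g (inc b) (inc v)
    rw [hr', hs, bilin_smul_left, bilin_smul_right] at h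
    have hne : B (inc r') (inc s) ≠ 0 := fun e => hvb (by rw [← h, e, mul_zero, mul_zero])
    have hm : c * k' ∈ F₀ := by
      rw [show c * k' = B (inc v) (inc b) / B (inc r') (inc s) by
        rw [eq_div_iff hne, ← h, mul_assoc]]
      exact div_mem (A.rat _ _) (A.rat _ _)
    exact ⟨(⟨_, hm⟩ : F₀) • s, by rw [hs, smul_smul, A.inc_smul]⟩
  have hperp : ∀ b, B (inc b) (inc b) = 0 → B (inc v) (inc b) = 0 → b ∉ Submodule.span F₀ {v} → b ∈ P := by
    intro b hb hvb hbout
    obtain ⟨a, ha, haS, hav⟩ := A.exists_unit {b} (by simp) (b := v) (by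
      simpa using not_mem_span_symm hv0 hbout)
    have hba : B (inc b) (inc a) = 0 := haS b (by simp)
    have hva : B (inc v) (inc a) = -1 := by rw [hB.skew (inc a) (inc v), hav, map_one]
    have h1 := hnon a ha (by rw [hva]; simp)
    have h2 := hnon (b + a) (A.iso_add hb ha hba) (by rw [map_add, map_add, hvb, hva, zero_add]; simp)
    simpa using sub_mem h2 h1
  have hiso : ∀ b, B (inc b) (inc b) = 0 → b ∈ P := by
    intro b hb
    by_cases hvb : B (inc v) (inc b) = 0
    swap
    · exact hnon b hb hvb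
    by_cases hbout : b ∈ Submodule.span F₀ {v}
    · obtain ⟨s, rfl⟩ := Submodule.mem_span_singleton.1 hbout
      refine P.smul_mem s ?_
      obtain ⟨q, hq, hqS, hqout⟩ := A.exists_out {v} (by simp)
      simp only [Finset.coe_singleton] at hqout
      have hvq : B (inc v) (inc q) = 0 := hqS v (by simp)
      have h1 := hperp q hq hvq hqout
      have h2 := hperp (v + q) (A.iso_add hv hq hvq) (by rw [map_add, map_add, hv, hvq, add_zero])
        fun hm => hqout (by simpa using sub_mem hm (Submodule.mem_span_singleton_self v))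
      simpa using sub_mem h2 h1
    · exact hperp b hb hvb hbout
  intro z
  exact A.perp_le_of_iso ∅ (by simp) (P := P) (fun b hb _ => hiso b hb)
    (show z ∈ A.perp ((∅ : Finset V₀) : Set V₀) from fun s hs => absurd hs (by simp))

/-- an element moving a rational isotropic point into the orthogonal of another is rational -/
theorem move_rat {g : sIsoms B} (hg : g ∈ M) {v u : V₀} (hv : B (inc v) (inc v) = 0) (hv0 : v ≠ 0)
    (hu : B (inc u) (inc u) = 0) (hu0 : u ≠ 0) (h : B (inc u) (g.1 (inc v)) = 0) : SKRat inc g := by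
  have A := C.base
  have hx : sTv B (g.1 (inc v)) 1 ∈ M := by
    rw [← A.base.tv_conj g hv (map_one σ)]
    exact mul_mem (mul_mem hg (C.mem v hv)) (inv_mem hg)
  obtain ⟨k, r, hr⟩ := C.point_of_perp (by rw [sIsoms_map, hv])
    (fun e => A.inc_ne hv0 (g.1.injective (e.trans (map_zero g.1).symm))) hx hu hu0 h
  exact C.point_rat hg hv hv0 hr

end SkewCtx

end CfsgLib.MaxSub
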