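import Cfsg.Agent.Lib.MaxSub.SkewInvol
import Cfsg.Agent.Lib.Geom.OrthMatrix

/-!
The stabiliser of a rational structure is maximal in a group generated by transvections.
-/

set_option autoImplicit false
set_option linter.unusedSectionVars false

namespace CfsgLib.MaxSub

open Matrix
open scoped MatrixGroups

variable {ι : Type} [Fintype ι] [DecidableEq ι] {F : Type*} [Field F]

/-- rational vectors in the basis given by the columns of `P` -/
noncomputable def incP (F₀ : Subfield F) (P : GL ι F) : (ι → F₀) →+ (ι → F) where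
  toFun u := (P : Matrix ι ι F) *ᵥ fun i => (u i : F)
  map_zero' := by rw [show (fun i : ι => (((0 : ι → F₀) i : F₀) : F)) = 0 from rfl, mulVec_zero]
  map_add' u v := by rw [← mulVec_add]; rfl

theorem incP_apply (F₀ : Subfield F) (P : GL ι F) (u : ι → F₀) :
    incP F₀ P u = (P : Matrix ι ι F) *ᵥ fun i => (u i : F) := rfl

theorem incP_smul (F₀ : Subfield F) (P : GL ι F) (c : F₀) (u : ι → F₀) :
    incP F₀ P (c • u) = (c : F) • incP F₀ P u := by
  rw [incP_apply, incP_apply, ← mulVec_smul]; rfl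

theorem mem_subfieldSubgroup_iff (F₀ : Subfield F) (P g : GL ι F) :
    g ∈ Cfsg.Geo.subfieldSubgroup F₀ P ↔ ∃ c : F, c ≠ 0 ∧ ∀ u, ∃ w,
      c • ((g : Matrix ι ι F) *ᵥ incP F₀ P u) = incP F₀ P w := by
  have e : g ∈ Cfsg.Geo.subfieldSubgroup F₀ P ↔ P⁻¹ * g * P ∈ Cfsg.Geo.subfieldSubgroup F₀ 1 := by
    rw [Cfsg.Geo.subfieldSubgroup, Cfsg.Geo.subfieldSubgroup, Subgroup.mem_map_equiv,
      MulAut.conj_symm_apply, map_one]
    exact ⟨fun h => ⟨_, h, rfl⟩, fun ⟨x, hx, hxe⟩ => hxe ▸ hx⟩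
  rw [e, mem_subfieldSubgroup_one]
  have key : ∀ v, ((P⁻¹ * g * P : GL ι F) : Matrix ι ι F) *ᵥ v =
      ((P⁻¹ : GL ι F) : Matrix ι ι F) *ᵥ ((g : Matrix ι ι F) *ᵥ ((P : Matrix ι ι F) *ᵥ v)) := fun v => by
    rw [Units.val_mul, Units.val_mul, ← mulVec_mulVec, ← mulVec_mulVec]
  constructor
  · rintro ⟨c, hc, hA⟩
    refine ⟨c, hc, fun u => ⟨fun i => ⟨_, hA.mulVec (x := fun i => (u i : F)) (fun i => (u i).2) i⟩, ?_⟩⟩
    show _ = (P : Matrix ι ι F) *ᵥ ((c • ((P⁻¹ * g * P : GL ι F) : Matrix ι ι F)) *ᵥ fun i => (u i : F))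
    rw [smul_mulVec, key, mulVec_smul, mulVec_mulVec_inv]
    rfl
  · rintro ⟨c, hc, h⟩
    refine ⟨c, hc, fun i k => ?_⟩
    obtain ⟨w, hw⟩ := h (Pi.single k 1)
    have hs : (fun i => (((Pi.single k (1 : F₀) : ι → F₀) i : F₀) : F)) = Pi.single k (1 : F) := funext fun j => by
      simp only [Pi.single_apply]; split <;> simp
    rw [incP_apply, incP_apply, hs] at hw
    have h1 := congrArg (fun v => ((P⁻¹ : GL ι F) : Matrix ι ι F) *ᵥ v) hw
    simp only [inv_mulVec_mulVec, mulVec_smul, ← key] at h1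
    have e := congrFun h1 i
    simp only [mulVec_single, MulOpposite.op_one, one_smul, Pi.smul_apply, Matrix.col_apply] at e
    rw [Matrix.smul_apply, e]
    exact (w i).2

/-- `M` contains the transvection `y ↦ y + k B(x)(y) x`. -/
def SkewTvIn {σ : F →+* F} (B : (ι → F) →ₛₗ[σ] (ι → F) →ₗ[F] F) (M : Subgroup (GL ι F)) (x : ι → F) (k : F) :
    Prop :=
  ∃ g ∈ M, ∀ y, (g : Matrix ι ι F) *ᵥ y = y + (k * B x y) • x

/-- the subfield group is maximal in a transvection-generated isometry group -/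
theorem skew_isMaximalIn [Fintype F] {σ : F →+* F} (B : (ι → F) →ₛₗ[σ] (ι → F) →ₗ[F] F) (hB : IsSkew B)
    (F₀ : Subfield F) (r : ℕ) (hr : r.Prime) (hcard : Fintype.card F = Nat.card F₀ ^ r)
    (hn : 9 ≤ Fintype.card ι ∨ (((Fintype.card ι = 6 ∧ ((2 : F) ≠ 0 → ∃ ι₀ ∈ F₀, ι₀ * ι₀ = -1)) ∨
      Fintype.card ι = 8) ∧ ∀ c : F, c * c ∈ F₀ → c ∈ F₀) ∨
      ((Fintype.card ι = 6 ∨ Fintype.card ι = 8) ∧ ∀ a : F, σ a = a)) (P : GL ι F)
    (hrat : ∀ u v, B (incP F₀ P u) (incP F₀ P v) ∈ F₀) (hsig : ∀ x ∈ F₀, σ x ∈ F₀)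
    (hiso : ∀ W : Submodule F₀ (ι → F₀), 2 ≤ Module.finrank F₀ W →
      ∃ v ∈ W, v ≠ 0 ∧ B (incP F₀ P v) (incP F₀ P v) = 0)
    (hshift : ∀ z e, B (incP F₀ P e) (incP F₀ P e) = 0 → B (incP F₀ P e) (incP F₀ P z) ≠ 0 →
      ∃ t : F₀, B (incP F₀ P (z + t • e)) (incP F₀ P (z + t • e)) = 0)
    (hnorms : ∀ S : AddSubgroup F, (∀ a, a * σ a ∈ S) → ∀ k, σ k = k → k ∈ S)
    (G : Subgroup (GL ι F))
    (hG : ∀ g ∈ G, ∀ x y, B ((g : Matrix ι ι F) *ᵥ y) ((g : Matrix ι ι F) *ᵥ x) = B y x)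
    (htv : ∀ x k, B x x = 0 → σ k = k → SkewTvIn B G x k)
    (hgen : ∀ M : Subgroup (GL ι F), (∀ x k, B x x = 0 → σ k = k → SkewTvIn B M x k) → G ≤ M) :
    Cfsg.Geo.IsMaximalIn G (Cfsg.Geo.subfieldSubgroup F₀ P ⊓ G) := by
  classical
  have hsingle : ∀ i, incP F₀ P (Pi.single i (1 : F₀)) = (P : Matrix ι ι F) *ᵥ Pi.single i (1 : F) := fun i => by
    rw [incP_apply]
    congr 1
    funext j
    simp only [Pi.single_apply]; split <;> simp
  have hdimF : Module.finrank F (ι → F) = Fintype.card ι := Module.finrank_fintype_fun_eq_card F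
  have A : SkewRat (F₀ := F₀) B (incP F₀ P) := by
    refine ⟨hB, incP_smul F₀ P, fun u v h => ?_, ?_, hrat, hsig,
      by rw [hdimF, Module.finrank_fintype_fun_eq_card], by rw [hdimF]; exact hn,
      fun L hL c hc hc0 => ?_, hiso, hshift, hnorms⟩
    · have h1 := congrArg (fun v => ((P⁻¹ : GL ι F) : Matrix ι ι F) *ᵥ v) h
      simp only [incP_apply, inv_mulVec_mulVec] at h1
      exact funext fun i => Subtype.ext (congrFun h1 i)
    · rw [eq_top_iff]
      intro x _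
      rw [← mulVec_mulVec_inv P x, pi_eq_sum_univ' (((P⁻¹ : GL ι F) : Matrix ι ι F) *ᵥ x), mulVec_sum]
      exact Submodule.sum_mem _ fun i _ => by
        rw [mulVec_smul]
        exact Submodule.smul_mem _ _ (Submodule.subset_span ⟨Pi.single i 1, hsingle i⟩)
    · have hfin : Module.finrank F₀ F = r := by
        have h1 := Module.natCard_eq_pow_finrank (K := F₀) (V := F)
        rw [Nat.card_eq_fintype_card (α := F), hcard] at h1
        exact (Nat.pow_right_injective (Finite.one_lt_card (α := F₀)) h1).symm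
      let S : Subalgebra F₀ F :=
        { toSubsemiring := L.toSubsemiring
          algebraMap_mem' := fun x => hL _ x.2 }
      haveI := Subalgebra.isSimpleOrder_of_finrank_prime F₀ F (hfin.symm ▸ hr)
      rcases IsSimpleOrder.eq_bot_or_eq_top S with h | h
      · exfalso
        have hmem : c ∈ S := hc
        rw [h, Algebra.mem_bot] at hmem
        obtain ⟨y, rfl⟩ := hmem
        exact hc0 y.2
      · intro x
        have : x ∈ S := by rw [h]; trivial
        exact this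
  let Φ : sIsoms B →* GL ι F := CfsgLib.Geom.glOfEquiv.comp (sIsoms B).subtype
  have hΦ : ∀ (g : sIsoms B) v, (Φ g : Matrix ι ι F) *ᵥ v = g.1 v := fun g v =>
    CfsgLib.Geom.glOfEquiv_mulVec g.1 v
  have hiff : ∀ g : sIsoms B, Φ g ∈ Cfsg.Geo.subfieldSubgroup F₀ P ↔ SKRat (incP F₀ P) g := fun g => by
    rw [mem_subfieldSubgroup_iff]
    simp only [hΦ, SKRat]
  have htvΦ : ∀ {M : Subgroup (GL ι F)} x k, B x x = 0 → σ k = k →
      (SkewTvIn B M x k ↔ Φ (sTv B x k) ∈ M) := fun {M} x k hx hk => by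
    constructor
    · rintro ⟨g, hg, hgv⟩
      convert hg using 1
      refine Units.ext (Matrix.ext_of_mulVec_single fun i => ?_)
      rw [hΦ, hB.tv_apply hx hk, hgv]
    · exact fun h => ⟨_, h, fun y => by rw [hΦ, hB.tv_apply hx hk]⟩
  refine ⟨lt_of_le_not_ge inf_le_right fun hle => ?_, fun M hHM hMG => ?_⟩
  · obtain ⟨θ, hθ⟩ : ∃ θ : F, θ ∉ F₀ := by
      by_contra hno
      push Not at hno
      have h1 : Nat.card F ≤ Nat.card F₀ :=
        Nat.card_le_card_of_injective (fun x : F => (⟨x, hno x⟩ : F₀)) fun a b h => congrArg Subtype.val h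
      rw [Nat.card_eq_fintype_card (α := F), hcard] at h1
      have h2 := Nat.pow_lt_pow_right (Finite.one_lt_card (α := F₀)) hr.one_lt
      rw [pow_one] at h2
      omega
    obtain ⟨v, hv, -, hvout⟩ := A.exists_out ∅ (by simp)
    obtain ⟨w, hw, hwS, hwout⟩ := A.exists_out {v} (by simp)
    simp only [Finset.coe_singleton] at hwout
    have hv0 : v ≠ 0 := fun e => hvout (e ▸ Submodule.zero_mem _)
    set a := incP F₀ P v
    set b := incP F₀ P w
    have hab : B a b = 0 := hwS v (by simp)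
    have hb' : B (θ • b) (θ • b) = 0 := by rw [bilin_smul_left, bilin_smul_right, hw, mul_zero, mul_zero]
    have hab' : B a (θ • b) = 0 := by rw [bilin_smul_right, hab, mul_zero]
    have hs : B (a + θ • b) (a + θ • b) = 0 := by
      simp only [map_add, LinearMap.add_apply, hv, hb', hab', hB.perp_symm hab', add_zero]
    have h1 : σ (-1 : F) = -1 := by rw [map_neg, map_one]
    have hmem : Φ (sEv B a (θ • b)) ∈ G := by
      rw [sEv, map_mul, map_mul]
      exact mul_mem (mul_mem ((htvΦ _ _ hs (map_one σ)).1 (htv _ _ hs (map_one σ)))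
        ((htvΦ _ _ hv h1).1 (htv _ _ hv h1))) ((htvΦ _ _ hb' h1).1 (htv _ _ hb' h1))
    obtain ⟨c, hc, h⟩ := (hiff _).1 (hle hmem).1
    obtain ⟨p, -, -, hpv⟩ := A.exists_unit ∅ (by simp) (b := v) (by simpa using hv0)
    obtain ⟨y, hy⟩ := h v
    rw [hB.ev_apply hv hb' hab', hv, hB.perp_symm hab'] at hy
    have hcm : c ∈ F₀ := by
      have e := congrArg (B (incP F₀ P p)) hy
      rw [zero_smul, zero_smul, add_zero, add_zero, bilin_smul_right, hpv, mul_one] at e
      rw [e]; exact A.rat _ _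
    obtain ⟨z, -, hzS, hzv⟩ := A.exists_unit {w} (by simp) (b := v) (by
      simpa using not_mem_span_symm hv0 hwout)
    obtain ⟨q, -, -, hqw⟩ := A.exists_unit ∅ (by simp) (b := w) (fun hm => hwout (Submodule.span_mono (by simp) hm))
    obtain ⟨y', hy'⟩ := h z
    rw [hB.ev_apply hv hb' hab', bilin_smul_left, hzS w (by simp), hB.skew (incP F₀ P z) a, hzv, map_one,
      mul_zero, zero_smul, add_zero, neg_one_smul] at hy'
    have e := congrArg (B (incP F₀ P q)) hy'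
    rw [bilin_smul_right, map_add, map_neg, bilin_smul_right, hqw, mul_one] at e
    refine hθ ?_
    rw [show θ = B (incP F₀ P q) (incP F₀ P z) - B (incP F₀ P q) (incP F₀ P y') / c by
      rw [← e]; field_simp; ring]
    exact sub_mem (A.rat _ _) (div_mem (A.rat _ _) hcm)
  by_cases hex : ∀ g ∈ M, g ∈ Cfsg.Geo.subfieldSubgroup F₀ P
  · exact Or.inl (le_antisymm (fun g hg => ⟨hex g hg, hMG hg⟩) hHM)
  refine Or.inr (le_antisymm hMG ?_)
  by_contra hle
  refine hex fun g hg => ?_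
  have C : SkewCtx (F₀ := F₀) B (incP F₀ P) (M.comap Φ) := by
    have mem : ∀ (k : F₀) u, σ (k : F) = k → B (incP F₀ P u) (incP F₀ P u) = 0 →
        sTv B (incP F₀ P u) (k : F) ∈ M.comap Φ := fun k u hk hu => by
      refine hHM ⟨(hiff _).2 ⟨1, one_ne_zero, fun z => ?_⟩, (htvΦ _ _ hu hk).1 (htv _ _ hu hk)⟩
      refine ⟨z + ((k : F₀) * A.rb u z) • u, ?_⟩
      rw [one_smul, hB.tv_apply hu hk, map_add, A.inc_smul]
      rfl
    refine ⟨A, fun u hu => mem 1 u (map_one σ) hu, fun u hu => ?_, fun hall => hle (hgen M fun x k hx hk =>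
      (htvΦ x k hx hk).2 (hall x k hx hk))⟩
    have := mem (-1) u (by rw [NegMemClass.coe_neg, OneMemClass.coe_one, map_neg, map_one]) hu
    rwa [NegMemClass.coe_neg, OneMemClass.coe_one] at this
  obtain ⟨e, rfl⟩ := (CfsgLib.Geom.glOfEquiv_bijective (F := F) (ι := ι)).2 g
  have he : e ∈ sIsoms B := fun x y => by
    have := hG _ (hMG hg) x y
    rwa [CfsgLib.Geom.glOfEquiv_mulVec, CfsgLib.Geom.glOfEquiv_mulVec] at this
  exact (hiff ⟨e, he⟩).2 (C.dichotomy (g := ⟨e, he⟩) hg)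

end CfsgLib.MaxSub
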