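import Cfsg.Agent.Lib.MaxSub.TensorTv
import Cfsg.Agent.Lib.Classical.Preserving

/-!
The stabiliser of a tensor decomposition with factors of different dimensions is maximal in `SL`.
-/

set_option autoImplicit false
set_option linter.unusedSectionVars false
set_option linter.unusedSimpArgs false

namespace CfsgLib.MaxSub.TensorMax

open Matrix
open scoped MatrixGroups Kronecker
open CfsgLib.Classical (glLin glLin_apply)

variable {F : Type*} [Field F] {ι : Type} [Fintype ι] [DecidableEq ι] {a b : ℕ}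

local notation "T⊗" => Matrix (Fin a) (Fin b) F

/-- matrices as coordinate vectors of the tensor product -/
def coordEquiv (e : ι ≃ Fin a × Fin b) (P : GL ι F) : T⊗ ≃ₗ[F] (ι → F) where
  toFun X := (P : Matrix ι ι F) *ᵥ fun i => X (e i).1 (e i).2
  map_add' X Y := by rw [← mulVec_add]; rfl
  map_smul' c X := by rw [RingHom.id_apply, ← mulVec_smul]; rfl
  invFun v := Matrix.of fun i j => (((P⁻¹ : GL ι F) : Matrix ι ι F) *ᵥ v) (e.symm (i, j))
  left_inv X := by
    ext i j
    simp only [Matrix.of_apply, inv_mulVec_mulVec, Equiv.apply_symm_apply]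
  right_inv v := by
    show (P : Matrix ι ι F) *ᵥ _ = v
    simp only [Matrix.of_apply, Prod.mk.eta, Equiv.symm_apply_apply]
    exact mulVec_mulVec_inv P v

/-- a matrix of `GL` as an automorphism of the tensor coordinates -/
noncomputable def toT (Φ : T⊗ ≃ₗ[F] (ι → F)) : GL ι F →* (T⊗ ≃ₗ[F] T⊗) where
  toFun g := (Φ.trans (glLin g)).trans Φ.symm
  map_one' := LinearEquiv.ext fun X => by simp
  map_mul' g h := LinearEquiv.ext fun X => by
    show Φ.symm (glLin (g * h) (Φ X)) = Φ.symm (glLin g (Φ (Φ.symm (glLin h (Φ X)))))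
    rw [map_mul, LinearEquiv.apply_symm_apply]
    rfl

theorem toT_apply (Φ : T⊗ ≃ₗ[F] (ι → F)) (g : GL ι F) (X : T⊗) :
    Φ (toT Φ g X) = (g : Matrix ι ι F) *ᵥ Φ X := by
  show Φ (Φ.symm (glLin g (Φ X))) = _
  rw [LinearEquiv.apply_symm_apply, glLin_apply]

/-- the Kronecker product of invertible matrices -/
def kronGL (u : GL (Fin a) F) (v : GL (Fin b) F) : GL (Fin a × Fin b) F where
  val := (u : Matrix (Fin a) (Fin a) F) ⊗ₖ (v : Matrix (Fin b) (Fin b) F)
  inv := ((u⁻¹ : GL (Fin a) F) : Matrix (Fin a) (Fin a) F) ⊗ₖ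
    ((v⁻¹ : GL (Fin b) F) : Matrix (Fin b) (Fin b) F)
  val_inv := by
    rw [← mul_kronecker_mul, ← Units.val_mul, ← Units.val_mul, mul_inv_cancel, mul_inv_cancel,
      Units.val_one, Units.val_one, one_kronecker_one]
  inv_val := by
    rw [← mul_kronecker_mul, ← Units.val_mul, ← Units.val_mul, inv_mul_cancel, inv_mul_cancel,
      Units.val_one, Units.val_one, one_kronecker_one]

/-- an element of the tensor subgroup -/
def tensGL (e : ι ≃ Fin a × Fin b) (P : GL ι F) (u : GL (Fin a) F) (v : GL (Fin b) F) : GL ι F :=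
  MulAut.conj P (Cfsg.Geo.glReindex e.symm (kronGL u v))

theorem tensGL_mem (e : ι ≃ Fin a × Fin b) (P : GL ι F) (u : GL (Fin a) F) (v : GL (Fin b) F) :
    tensGL e P u v ∈ Cfsg.Geo.tensorProductSubgroup a b e P :=
  ⟨_, ⟨kronGL u v, ⟨u, v, rfl⟩, rfl⟩, rfl⟩

theorem tensGL_val (e : ι ≃ Fin a × Fin b) (P : GL ι F) (u : GL (Fin a) F) (v : GL (Fin b) F) :
    (tensGL e P u v : Matrix ι ι F) = (P : Matrix ι ι F) *
      Matrix.reindex e.symm e.symm
        ((u : Matrix (Fin a) (Fin a) F) ⊗ₖ (v : Matrix (Fin b) (Fin b) F)) *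
      ((P⁻¹ : GL ι F) : Matrix ι ι F) := rfl

theorem toT_tensGL (e : ι ≃ Fin a × Fin b) (P : GL ι F) (u : GL (Fin a) F) (v : GL (Fin b) F)
    (X : T⊗) : toT (coordEquiv e P) (tensGL e P u v) X =
      (u : Matrix (Fin a) (Fin a) F) * X * (v : Matrix (Fin b) (Fin b) F)ᵀ := by
  refine (coordEquiv e P).injective ?_
  rw [toT_apply, tensGL_val]
  show _ *ᵥ ((P : Matrix ι ι F) *ᵥ _) = (P : Matrix ι ι F) *ᵥ _
  rw [mulVec_mulVec, Matrix.mul_assoc, ← Units.val_mul, inv_mul_cancel, Units.val_one, mul_one,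
    ← mulVec_mulVec]
  congr 1
  funext i
  simp only [mulVec, dotProduct, reindex_apply, submatrix_apply, Equiv.symm_symm, mul_apply,
    transpose_apply, Finset.sum_mul]
  rw [Equiv.sum_comp e (fun p : Fin a × Fin b =>
    ((u : Matrix (Fin a) (Fin a) F) ⊗ₖ (v : Matrix (Fin b) (Fin b) F)) (e i) p * X p.1 p.2),
    Fintype.sum_prod_type, Finset.sum_comm]
  exact Finset.sum_congr rfl fun p _ => Finset.sum_congr rfl fun q _ => by
    rw [kroneckerMap_apply]; ring

theorem tensGL_mem_SL (e : ι ≃ Fin a × Fin b) (P : GL ι F) (u : GL (Fin a) F) (v : GL (Fin b) F)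
    (hu : (u : Matrix (Fin a) (Fin a) F).det = 1) (hv : (v : Matrix (Fin b) (Fin b) F).det = 1) :
    tensGL e P u v ∈ Cfsg.Geo.specialLinear ι F := by
  show Matrix.GeneralLinearGroup.det (tensGL e P u v) = 1
  refine Units.ext ?_
  show (tensGL e P u v : Matrix ι ι F).det = 1
  rw [tensGL_val, det_units_conj, det_reindex_self, det_kronecker, hu, hv, one_pow, one_pow,
    mul_one]

/-- the stabiliser of a tensor decomposition is maximal in `SL` -/
theorem tensor_maximal [Fintype F] (ha : 2 ≤ a) (hab : a < b)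
    (hex : ¬ (a = 2 ∧ Fintype.card F = 2)) (e : ι ≃ Fin a × Fin b) (P : GL ι F) :
    Cfsg.Geo.IsMaximalIn (Cfsg.Geo.specialLinear ι F)
      (Cfsg.Geo.tensorProductSubgroup a b e P ⊓ Cfsg.Geo.specialLinear ι F) := by
  classical
  set Φ := coordEquiv e P with hΦ
  have hsm : (∃ k : F, k ≠ 0 ∧ k ≠ 1) ∨ 3 ≤ a := by
    by_contra hc
    simp only [not_or, not_exists, not_and, not_not, not_le] at hc
    refine hex ⟨by omega, ?_⟩
    rw [← Nat.card_eq_fintype_card, Nat.card_eq_two_iff]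
    refine ⟨0, 1, zero_ne_one, Set.eq_univ_of_forall fun x => ?_⟩
    rcases eq_or_ne x 0 with h | h
    · exact Or.inl h
    · exact Or.inr (hc.1 x h)
  have hdual : ∀ f : (ι → F) →ₗ[F] F, ∀ x, (fun i => f (Pi.single i 1)) ⬝ᵥ x = f x := fun f x => by
    conv_rhs => rw [pi_eq_sum_univ' x, map_sum]
    exact Finset.sum_congr rfl fun i _ => by rw [map_smul, smul_eq_mul, mul_comm]
  refine isMaximalIn_of_lt (lt_of_le_of_ne inf_le_right fun heq => ?_) ?_
  · -- strictness
    let i₀ : Fin a := ⟨0, by omega⟩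
    let i₁ : Fin a := ⟨1, by omega⟩
    let j₀ : Fin b := ⟨0, by omega⟩
    let j₁ : Fin b := ⟨1, by omega⟩
    have hi : i₀ ≠ i₁ := by simp [i₀, i₁, Fin.ext_iff]
    have hj : j₀ ≠ j₁ := by simp [j₀, j₁, Fin.ext_iff]
    let f : (ι → F) →ₗ[F] F :=
      fn (Pi.single i₁ 1) (Pi.single j₁ 1) ∘ₗ Φ.symm.toLinearMap
    set c := Φ (Matrix.single i₀ j₀ 1) with hc
    have h0 : (fun i => f (Pi.single i 1)) ⬝ᵥ c = 0 := by
      rw [hdual]
      show fn _ _ (Φ.symm (Φ _)) = 0
      rw [LinearEquiv.symm_apply_apply, fn_apply, mulVec_single_one, single_dotProduct, one_mul]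
      simp [hi]
    have hmem := tvGL_mem_specialLinear c _ h0
    rw [← heq] at hmem
    obtain ⟨u, v, huv⟩ := (show ∃ (u : GL (Fin a) F) (v : GL (Fin b) F),
        tvGL c (fun i => f (Pi.single i 1)) h0 = tensGL e P u v by
      obtain ⟨_, ⟨k, ⟨u, v, hk⟩, rfl⟩, hk'⟩ := hmem.1
      exact ⟨u, v, hk'.symm.trans (by
        rw [show k = kronGL u v from Units.ext hk]; rfl)⟩)
    have h1 := toT_tensGL e P u v (Matrix.single i₁ j₁ 1)
    rw [← huv] at h1
    have h2 : toT Φ (tvGL c (fun i => f (Pi.single i 1)) h0) (Matrix.single i₁ j₁ 1) =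
        Matrix.single i₁ j₁ 1 + Matrix.single i₀ j₀ 1 := Φ.injective (by
      rw [toT_apply, coe_tvGL, tvMat_mulVec, hdual, map_add, ← hc]
      show _ + fn _ _ (Φ.symm (Φ _)) • c = _
      rw [LinearEquiv.symm_apply_apply, fn_apply, mulVec_single_one, single_dotProduct, one_mul]
      simp)
    rw [h2] at h1
    have hent : ∀ i j, (Matrix.single i₁ j₁ (1 : F) + Matrix.single i₀ j₀ 1 : T⊗) i j =
        (u : Matrix (Fin a) (Fin a) F) i i₁ * (v : Matrix (Fin b) (Fin b) F) j j₁ := fun i j => by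
      rw [h1]
      simp [Matrix.mul_apply, Matrix.single_apply, ite_and]
    have h00 := hent i₀ j₀
    have h11 := hent i₁ j₁
    have h01 := hent i₀ j₁
    simp [Matrix.single_apply, hi, hi.symm, hj, hj.symm] at h00 h11 h01
    rcases h01 with h | h
    · rw [h, zero_mul] at h00; exact one_ne_zero h00
    · rw [h, mul_zero] at h11; exact one_ne_zero h11
  intro M hHM hMS g hgM hgH
  set M' := M.map (toT Φ) with hM'
  have hmemT : ∀ (u : GL (Fin a) F) (v : GL (Fin b) F),
      (u : Matrix (Fin a) (Fin a) F).det = 1 → (v : Matrix (Fin b) (Fin b) F).det = 1 →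
      InM M' fun X => (u : Matrix (Fin a) (Fin a) F) * X * (v : Matrix (Fin b) (Fin b) F)ᵀ :=
    fun u v hu hv => ⟨_, ⟨_, hHM ⟨tensGL_mem e P u v, tensGL_mem_SL e P u v hu hv⟩, rfl⟩,
      toT_tensGL e P u v⟩
  have C : Ctx M' := by
    refine ⟨fun x φ hφ => ?_, fun y ψ hψ => ?_, ha, hab⟩
    · obtain ⟨g', hg', hgx⟩ := hmemT (tvGL x φ hφ) 1 (det_tvMat x φ hφ) (by simp)
      refine ⟨g', hg', fun X => ?_⟩
      rw [hgx]
      dsimp only
      rw [Units.val_one, transpose_one, Matrix.mul_one, coe_tvGL, tvMat, Matrix.add_mul,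
        Matrix.one_mul, vecMulVec_mul]
    · obtain ⟨g', hg', hgx⟩ := hmemT 1 (tvGL y ψ hψ) (by simp) (det_tvMat y ψ hψ)
      refine ⟨g', hg', fun X => ?_⟩
      rw [hgx]
      dsimp only
      rw [Units.val_one, Matrix.one_mul, coe_tvGL, tvMat, transpose_add, transpose_one,
        Matrix.mul_add, Matrix.mul_one, transpose_vecMulVec, mul_vecMulVec]
  set h := toT Φ g with hh
  have hgh : h ∈ M' := ⟨g, hgM, rfl⟩
  have hbad : ∃ y : Fin b → F, y ≠ 0 ∧ ¬ IsFam (img h y) := by
    by_contra hc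
    simp only [not_exists, not_and, not_not] at hc
    refine hgH ⟨?_, hMS hgM⟩
    have hs : ∀ l : Fin b, (Pi.single l 1 : Fin b → F) ≠ 0 := fun l => by simp
    choose z hz hzl using fun l => hc _ (hs l)
    have hτ : ∀ l, ∃ τ : Fin b → F, τ ⬝ᵥ z l = 1 := fun l => by
      obtain ⟨τ, h1, -⟩ := exists_dot (p := ⊥) (u := z l) (by simpa using hz l)
      exact ⟨τ, h1⟩
    choose τ hτz using hτ
    let U : Fin b → ((Fin a → F) →ₗ[F] (Fin a → F)) :=
      fun l => evalAt (τ l) ∘ₗ h.toLinearMap ∘ₗ pur (Pi.single l 1)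
    have hU : ∀ l x, h (pur (Pi.single l 1) x) = pur (z l) (U l x) := by
      intro l x
      obtain ⟨x', hx'⟩ : h (pur (Pi.single l 1) x) ∈ fam (z l) := by
        rw [← hzl l]; exact ⟨_, pur_mem _ x, rfl⟩
      rw [← hx']
      congr 1
      show x' = h (pur (Pi.single l 1) x) *ᵥ τ l
      rw [← hx', pur_apply, pure_mulVec, dotProduct_comm, hτz, one_smul]
    have hUinj : ∀ l x, U l x = 0 → x = 0 := fun l x hx => pur_injective (hs l) (h.injective (by
      rw [hU, hx, map_zero, map_zero, map_zero]))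
    let l₀ : Fin b := ⟨0, by omega⟩
    let x₁ : Fin a → F := Pi.single ⟨0, by omega⟩ 1
    have hx₁ : x₁ ≠ 0 := by simp [x₁]
    have hcoef : ∀ l, ∃ c : F, ∀ x, U l x = c • U l₀ x := by
      intro l
      rcases eq_or_ne l l₀ with rfl | hl
      · exact ⟨1, fun x => (one_smul _ _).symm⟩
      have hn : ∀ l l', l ≠ l' → z l ∉ Submodule.span F {z l'} := by
        intro l l' hll hm
        obtain ⟨c, hc'⟩ := Submodule.mem_span_singleton.1 hm
        obtain ⟨w, hw⟩ : ∃ w, U l' w = c • U l x₁ :=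
          LinearMap.surjective_of_injective (LinearMap.ker_eq_bot.1
            (LinearMap.ker_eq_bot'.2 (hUinj l'))) _
        have h1 : pur (Pi.single l 1) x₁ = pur (Pi.single l' 1) w := h.injective (by
          rw [hU, hU, hw, ← hc', pur_apply, pur_apply, smul_vecMulVec, vecMulVec_smul])
        refine hx₁ (funext fun i => ?_)
        have h2 := congrFun (congrFun h1 i) l
        simpa [pur_apply, vecMulVec_apply, Pi.single_eq_of_ne hll] using h2
      obtain ⟨ρ, hρ1, hρ0⟩ := exists_dot (hn l l₀ hl)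
      obtain ⟨σ, hσ1, hσ0⟩ := exists_dot (hn l₀ l hl.symm)
      have hne : Pi.single l 1 + Pi.single l₀ 1 ≠ (0 : Fin b → F) := fun e => by
        have := congrFun e l
        simp [Pi.single_eq_of_ne hl] at this
      obtain ⟨w, hw, hwl⟩ := hc _ hne
      have key : ∀ x, ∃ s : Fin a → F, U l x = (w ⬝ᵥ ρ) • s ∧ U l₀ x = (w ⬝ᵥ σ) • s := by
        intro x
        obtain ⟨s, hs'⟩ : h (pur (Pi.single l 1 + Pi.single l₀ 1) x) ∈ fam w := by
          rw [← hwl]; exact ⟨_, pur_mem _ x, rfl⟩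
        rw [pur_apply (Pi.single l 1 + Pi.single l₀ 1), vecMulVec_add, map_add, ← pur_apply,
          ← pur_apply, hU, hU] at hs'
        refine ⟨s, ?_, ?_⟩
        · have := congrArg (fun X : T⊗ => X *ᵥ ρ) hs'
          simp only [pur_apply, add_mulVec, pure_mulVec, dotProduct_comm (z l) ρ, hρ1,
            dotProduct_comm (z l₀) ρ, hρ0 _ (Submodule.mem_span_singleton_self _), one_smul,
            zero_smul, add_zero] at this
          exact this.symm
        · have := congrArg (fun X : T⊗ => X *ᵥ σ) hs'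
          simp only [pur_apply, add_mulVec, pure_mulVec, dotProduct_comm (z l₀) σ, hσ1,
            dotProduct_comm (z l) σ, hσ0 _ (Submodule.mem_span_singleton_self _), one_smul,
            zero_smul, zero_add] at this
          exact this.symm
      refine ⟨(w ⬝ᵥ ρ) / (w ⬝ᵥ σ), fun x => ?_⟩
      obtain ⟨s, hs1, hs2⟩ := key x
      have hσne : w ⬝ᵥ σ ≠ 0 := fun e => by
        obtain ⟨s', -, hs'⟩ := key x₁
        rw [e, zero_smul] at hs'
        exact hx₁ (hUinj l₀ x₁ hs')
      rw [hs1, hs2, smul_smul, div_mul_cancel₀ _ hσne]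
    choose c hcU using hcoef
    let v : Matrix (Fin b) (Fin b) F := Matrix.of fun k l => c l * z l k
    let u : Matrix (Fin a) (Fin a) F := LinearMap.toMatrix' (U l₀)
    have hux : ∀ x, u *ᵥ x = U l₀ x := fun x => LinearMap.toMatrix'_mulVec _ _
    have hpure : ∀ y x, h (pur y x) = pur (v *ᵥ y) (u *ᵥ x) := by
      intro y x
      conv_lhs => rw [pur_apply, pi_eq_sum_univ' y]
      rw [show vecMulVec x (∑ l, y l • Pi.single l (1 : F)) =
          ∑ l, y l • pur (Pi.single l 1) x by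
        ext i k; simp [Matrix.sum_apply, pur_apply, vecMulVec_apply, Finset.mul_sum]
        exact Finset.sum_congr rfl fun l _ => by ring]
      rw [map_sum, hux]
      ext i k
      rw [Matrix.sum_apply, pur_apply, vecMulVec_apply]
      show _ = U l₀ x i * ∑ l, v k l * y l
      rw [Finset.mul_sum]
      refine Finset.sum_congr rfl fun l _ => ?_
      rw [map_smul, hU, hcU l x]
      simp [pur_apply, vecMulVec_apply, v]
      ring
    have hu : u.det ≠ 0 := fun hd => by
      obtain ⟨x, hx, hx0⟩ := Matrix.exists_mulVec_eq_zero_iff.2 hd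
      exact hx (hUinj l₀ x (by rw [← hux, hx0]))
    have hv : v.det ≠ 0 := fun hd => by
      obtain ⟨y, hy, hy0⟩ := Matrix.exists_mulVec_eq_zero_iff.2 hd
      refine hx₁ (pur_injective hy (h.injective ?_))
      rw [hpure, hy0, map_zero, map_zero]
      ext i k
      simp [pur_apply, vecMulVec_apply]
    have hgeq : g = tensGL e P (GeneralLinearGroup.mkOfDetNeZero u hu)
        (GeneralLinearGroup.mkOfDetNeZero v hv) := by
      refine Units.ext (Matrix.ext_of_mulVec_single fun i => ?_)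
      obtain ⟨X, hX⟩ := Φ.surjective (Pi.single i 1)
      rw [← hX, ← toT_apply, ← toT_apply]
      congr 1
      rw [← hh, toT_tensGL]
      conv_lhs => rw [show X = ∑ l, pur (Pi.single l 1) (fun i => X i l) by
        ext i k
        simp [Matrix.sum_apply, pur_apply, vecMulVec_apply, Pi.single_apply]]
      rw [map_sum]
      simp only [hpure]
      ext i k
      simp [Matrix.sum_apply, pur_apply, vecMulVec_apply, Matrix.mul_apply, mulVec, dotProduct,
        Finset.sum_mul, Pi.single_apply]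
    rw [hgeq]
    exact tensGL_mem e P _ _
  obtain ⟨g₁, hg₁, y, hy, hn, ψ, hψ0, hψ⟩ := C.exists_support ⟨h, hgh, hbad⟩
  obtain ⟨η, hη, hη0, y', hy'⟩ := C.exists_elem hg₁ hy hψ0 hψ hn
  refine specialLinear_le_of_forall_center fun c φ _ hφc => ?_
  let f : T⊗ →ₗ[F] F :=
    { toFun := fun X => φ ⬝ᵥ Φ X
      map_add' := fun X Y => by rw [map_add, dotProduct_add]
      map_smul' := fun r X => by rw [map_smul, dotProduct_smul, RingHom.id_apply] }
  obtain ⟨g', ⟨g₀, hg₀, rfl⟩, hgx⟩ := C.inT_all hsm hy ⟨hη0, hη⟩ hy' (Φ.symm c) f (by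
    show φ ⬝ᵥ Φ (Φ.symm c) = 0
    rw [LinearEquiv.apply_symm_apply, hφc])
  refine ⟨hφc, g₀, hg₀, Matrix.ext_of_mulVec_single fun i => ?_⟩
  obtain ⟨X, hX⟩ := Φ.surjective (Pi.single i 1)
  rw [← hX, ← toT_apply, hgx, tvMat_mulVec, map_add, map_smul, LinearEquiv.apply_symm_apply]
  rfl

end CfsgLib.MaxSub.TensorMax
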