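import Cfsg.Agent.Lib.MaxSub.Sub
import Cfsg.Agent.Lib.MaxSub.DecompTransport
import Cfsg.Agent.Lib.MaxSub.BlockCore
import Cfsg.Agent.Lib.MaxSub.MonoColumn
import Cfsg.Agent.Lib.MaxSub.QuadOver
import Cfsg.Agent.Lib.MaxSub.TensorMatrix
import Cfsg.Agent.S5639
import Cfsg.Agent.S5642
import Cfsg.Agent.S5643

/-!
Geometric maximal subgroups of `SL_n`, with small bounds on `n`.
-/

set_option autoImplicit false
open Cfsg

namespace CfsgLib.MaxSub.SlAll

section
open Matrix
open CfsgLib.MaxSub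

/-- For a finite field F and any n, the stabiliser in SL_n(F) of any proper non-zero subspace W of F^n is a maximal subgroup of SL_n(F). Here SL_n(F) is the kernel of the determinant inside GL_n(F) and the stabiliser is the set of elements of determinant one mapping W onto itself. -/
theorem subspace_maximal {F : Type*} [Field F] [Fintype F] (n : ℕ) (W : Submodule F (Fin n → F)) (hW0 : W ≠ ⊥) (hW1 : W ≠ ⊤) : Cfsg.Geo.IsMaximalIn (Cfsg.Geo.specialLinear (Fin n) F) (Cfsg.Geo.subspaceStabilizer W ⊓ Cfsg.Geo.specialLinear (Fin n) F) := by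
  open Matrix CfsgLib.MaxSub in
  -- `M` has all transvections with centre `a`
  let Full : Subgroup (Matrix.GeneralLinearGroup (Fin n) F) → (Fin n → F) → Prop :=
    fun M a => ∀ φ, φ ⬝ᵥ a = 0 → HasTv M a φ
  refine isMaximalIn_of_lt (lt_of_le_of_ne inf_le_right fun he => ?_) fun M hM hMS g hg hgH => ?_
  · obtain ⟨a, -, ha⟩ := SetLike.exists_of_lt (lt_top_iff_ne_top.2 hW1)
    obtain ⟨χ, hχa, hχ⟩ := exists_dotProduct_of_notMem ha
    obtain ⟨w, hw, hw0⟩ := W.exists_mem_ne_zero_of_ne_bot hW0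
    obtain ⟨i, hi⟩ : ∃ i, w i ≠ 0 := Function.ne_iff.1 hw0
    let φ : Fin n → F := Pi.single i 1 - a i • χ
    have hφa : φ ⬝ᵥ a = 0 := by simp [φ, sub_dotProduct, hχa]
    have hφw : φ ⬝ᵥ w = w i := by simp [φ, sub_dotProduct, hχ w hw]
    have hmem := tvGL_mem_specialLinear a φ hφa
    rw [← he] at hmem
    have := maps_of_mem_subspaceStabilizer hmem.1 hw
    rw [coe_tvGL, tvMat_mulVec, Submodule.add_mem_iff_right _ hw, hφw, W.smul_mem_iff hi] at this
    exact ha this
  · have hbase : ∀ a φ, φ ⬝ᵥ a = 0 → (a ∈ W ∨ ∀ x ∈ W, φ ⬝ᵥ x = 0) → HasTv M a φ :=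
      fun a φ h hor => (hasTv_iff h).2 (hM ⟨mem_subspaceStabilizer_of_maps fun x hx => by
        rw [coe_tvGL, tvMat_mulVec]
        rcases hor with ha | hφ
        · exact add_mem hx (W.smul_mem _ ha)
        · rw [hφ x hx, zero_smul, add_zero]; exact hx, tvGL_mem_specialLinear _ _ _⟩)
    have hconj : ∀ h ∈ M, ∀ a, Full M a → Full M ((h : Matrix (Fin n) (Fin n) F) *ᵥ a) := by
      intro h hh a ha φ hφ
      have := (ha (φ ᵥ* (h : Matrix (Fin n) (Fin n) F)) (by rw [← dotProduct_mulVec]; exact hφ)).conj hh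
      rwa [vecMul_vecMul, ← Units.val_mul, mul_inv_cancel, Units.val_one, vecMul_one] at this
    obtain ⟨w, hw, hgw⟩ : ∃ w ∈ W, (g : Matrix (Fin n) (Fin n) F) *ᵥ w ∉ W := by
      by_contra hno
      push Not at hno
      exact hgH ⟨mem_subspaceStabilizer_of_maps hno, hMS hg⟩
    have hb : Full M ((g : Matrix (Fin n) (Fin n) F) *ᵥ w) :=
      hconj g hg w fun φ hφ => hbase w φ hφ (.inl hw)
    set b := (g : Matrix (Fin n) (Fin n) F) *ᵥ w
    refine specialLinear_le_of_forall_center fun a φ ha0 hφ => ?_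
    revert φ
    change Full M a
    by_cases ha : a ∈ W
    · exact fun φ hφ => hbase a φ hφ (.inl ha)
    by_cases hab : b ∈ W ⊔ Submodule.span F {a - b}
    · -- `a` and `b` are congruent up to a scalar modulo `W`
      obtain ⟨w', hw', u, hu, hsum⟩ := Submodule.mem_sup.1 hab
      obtain ⟨s, rfl⟩ := Submodule.mem_span_singleton.1 hu
      have hs : s ≠ 0 := by rintro rfl; rw [zero_smul, add_zero] at hsum; exact hgw (hsum ▸ hw')
      obtain ⟨χ, hχb, hχ⟩ := exists_dotProduct_of_notMem hgw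
      have hstep : ∀ c : F, c ≠ 0 → Full M (c • b) := fun c hc φ hφ =>
        (hasTv_smul_iff hc).2 (hb _ (by
          rw [dotProduct_smul, smul_eq_mul] at hφ
          rw [smul_dotProduct, smul_eq_mul, hφ]))
      have hsa : s • a = (1 + s) • b - w' := by
        conv_rhs => arg 1; rw [add_smul, one_smul]
        conv_rhs => arg 1; arg 1; rw [← hsum]
        rw [smul_sub]; abel
      have hs1 : 1 + s ≠ 0 := by
        intro e
        rw [e, zero_smul, zero_sub] at hsa
        exact ha ((W.smul_mem_iff hs).1 (hsa ▸ W.neg_mem hw'))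
      have key : Full M ((s⁻¹ * (1 + s)) • b + (-(s⁻¹)) • w') := by
        have hT := hbase ((-(s⁻¹)) • w') ((s⁻¹ * (1 + s))⁻¹ • χ) (by
          rw [smul_dotProduct, hχ _ (W.smul_mem _ hw'), smul_zero]) (.inl (W.smul_mem _ hw'))
        have hc : s⁻¹ * (1 + s) ≠ 0 := mul_ne_zero (inv_ne_zero hs) hs1
        have := hconj _ ((hasTv_iff hT.1).1 hT) _ (hstep _ hc)
        rwa [coe_tvGL, tvMat_mulVec, smul_dotProduct, dotProduct_smul, hχb, smul_eq_mul,
          smul_eq_mul, mul_one, inv_mul_cancel₀ hc, one_smul] at this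
      have hae : (s⁻¹ * (1 + s)) • b + (-(s⁻¹)) • w' = a := by
        rw [neg_smul, ← sub_eq_add_neg, mul_smul, ← smul_sub, ← hsa, smul_smul, inv_mul_cancel₀ hs,
          one_smul]
      rwa [hae] at key
    · obtain ⟨ψ, hψb, hψ⟩ := exists_dotProduct_of_notMem hab
      have hT := hbase (a - b) ψ
        (hψ _ (Submodule.mem_sup_right (Submodule.mem_span_singleton_self _)))
        (.inr fun x hx => hψ x (Submodule.mem_sup_left hx))
      have := hconj _ ((hasTv_iff hT.1).1 hT) _ hb
      rwa [coe_tvGL, tvMat_mulVec, hψb, one_smul, add_sub_cancel] at this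

end

section
open Matrix
open CfsgLib.MaxSub CfsgLib.MaxSub.DecompMax

/-- For a finite field F with q elements and n ≥ 6, let D be a decomposition of F^n into t ≥ 2 independent subspaces of equal dimension m ≥ 1 spanning F^n. Unless m = 1 and q ≤ 4, or m = 2 and q = 2, the elements of SL_n(F) permuting the members of D form a maximal subgroup of SL_n(F). -/
theorem decomposition_maximal {F : Type*} [Field F] [Fintype F] (n : ℕ) (hn : 6 ≤ n) {t : ℕ} (m : ℕ) (D : Fin t → Submodule F (Fin n → F)) (hD : Cfsg.Geo.IsMDecomposition m D) (h1 : ¬ (m = 1 ∧ Fintype.card F ≤ 4)) (h2 : ¬ (m = 2 ∧ Fintype.card F = 2)) : Cfsg.Geo.IsMaximalIn (Cfsg.Geo.specialLinear (Fin n) F) (Cfsg.Geo.decompositionStabilizer D ⊓ Cfsg.Geo.specialLinear (Fin n) F) := by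
  classical
  obtain ⟨ψ, hψ⟩ := Decomp.exists_coord hD
  let E := coordGL (pairCoord ψ)
  have hntm : n = t * m := by
    have := ψ.finrank_eq
    simpa [Module.finrank_pi_fintype] using this
  suffices h : Cfsg.Geo.IsMaximalIn (Cfsg.Geo.specialLinear (Fin m × Fin t) F)
      ((Cfsg.Geo.decompositionStabilizer D ⊓ Cfsg.Geo.specialLinear (Fin n) F).map E.toMonoidHom) by
    have h' := isMaximalIn_map E.symm h
    rw [Subgroup.map_map, ← map_coordGL_sl (pairCoord ψ), Subgroup.map_map] at h'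
    simpa [E, ← MulEquiv.coe_monoidHom_trans, Subgroup.map_id] using h'
  have hH : ∀ y, y ∈ (Cfsg.Geo.decompositionStabilizer D ⊓ Cfsg.Geo.specialLinear (Fin n) F).map
      E.toMonoidHom ↔ IsBlockMono Prod.snd (y : Matrix (Fin m × Fin t) (Fin m × Fin t) F) ∧
        y ∈ Cfsg.Geo.specialLinear (Fin m × Fin t) F := by
    intro y
    obtain ⟨g, rfl⟩ := E.surjective y
    rw [coordGL_mem_sl, ← mem_decompositionStabilizer_iff hD ψ hψ]
    exact (Subgroup.mem_map_iff_mem E.injective).trans Subgroup.mem_inf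
  have h2t : 2 ≤ t := hD.two_le
  let P₀ : Fin m × Fin t := (⟨0, hD.pos⟩, ⟨0, by omega⟩)
  let P₁ : Fin m × Fin t := (⟨0, hD.pos⟩, ⟨1, by omega⟩)
  have hne : P₀ ≠ P₁ := fun e => by simpa [P₀, P₁] using congrArg (fun p => p.2.val) e
  refine isMaximalIn_of_lt (SetLike.lt_iff_le_and_exists.2 ⟨fun y hy => ((hH y).1 hy).2, ?_⟩) ?_
  · have h0 : Pi.single P₁ (1 : F) ⬝ᵥ Pi.single P₀ 1 = 0 := by simp [hne.symm]
    refine ⟨tvGL _ _ h0, tvGL_mem_specialLinear _ _ h0, fun hm => ?_⟩
    obtain ⟨b, hb⟩ := ((hH _).1 hm).1 P₁.2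
    by_cases e : P₀.2 = b
    · have := hb P₁ P₁ rfl (fun e' => absurd (e.trans e'.symm) (by simp [P₀, P₁]))
      simp [tvMat, Matrix.vecMulVec_apply, hne] at this
    · have := hb P₁ P₀ rfl e
      simp [tvMat, Matrix.vecMulVec_apply, hne] at this
  intro M hle hMle g hg hgH
  have hnm : ¬ IsBlockMono Prod.snd (g : Matrix (Fin m × Fin t) (Fin m × Fin t) F) := fun h =>
    hgH ((hH g).2 ⟨h, hMle hg⟩)
  rcases Nat.lt_or_ge m 2 with hm | hm
  · obtain rfl : m = 1 := by have := hD.pos; omega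
    have hinj : Function.Injective (Prod.snd : Fin 1 × Fin t → Fin t) := fun p q e =>
      Prod.ext (Subsingleton.elim _ _) e
    have hiff : ∀ y : Matrix (Fin 1 × Fin t) (Fin 1 × Fin t) F,
        IsBlockMono Prod.snd y ↔ IsBlockMono id y := by
      intro y
      constructor
      · intro h P
        obtain ⟨b, hb⟩ := h P.2
        exact ⟨(0, b), fun i j hi hj => hb i j (congrArg Prod.snd hi) fun e => hj (hinj e)⟩
      · intro h a
        obtain ⟨Q, hQ⟩ := h (0, a)
        exact ⟨Q.2, fun i j hi hj => hQ i j (hinj hi) fun e => hj (congrArg Prod.snd e)⟩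
    refine sl_le_monomial (fun y hy hym => hle ((hH y).2 ⟨(hiff _).2 hym, hy⟩)) hMle ?_ ?_ hg
      (fun h => hnm ((hiff _).2 h))
    · by_contra hq
      exact h1 ⟨rfl, by omega⟩
    · simp only [Fintype.card_prod, Fintype.card_fin]
      omega
  · refine sl_le_blocks (fun y hy hym => hle ((hH y).2 ⟨hym, hy⟩)) ?_ ?_ ?_ hg hnm
    · simpa using hm
    · simp only [Fintype.card_fin]
      rw [Nat.mul_comm, ← hntm]
      omega
    · simpa using h2

end

section
open Matrix
open CfsgLib.MaxSub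
open Cfsg.Agent.S5639

/-- For a finite field F, a subfield F₀ with |F| = |F₀| ^ r for a prime r, and n ≥ 6, the subfield group (the conjugate by any P of the product of GL_n(F₀) with the non-zero scalars of F, intersected with SL_n(F)) is a maximal subgroup of SL_n(F). -/
theorem subfield_maximal {F : Type*} [Field F] [Fintype F] (n : ℕ) (hn : 6 ≤ n) (F₀ : Subfield F) (r : ℕ) (hr : r.Prime) (hcard : Fintype.card F = Nat.card F₀ ^ r) (P : Matrix.GeneralLinearGroup (Fin n) F) : Cfsg.Geo.IsMaximalIn (Cfsg.Geo.specialLinear (Fin n) F) (Cfsg.Geo.subfieldSubgroup F₀ P ⊓ Cfsg.Geo.specialLinear (Fin n) F) := by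
  have h := isMaximalIn_map (MulAut.conj P) (base (F := F) (n := n) (by omega) F₀ r hr hcard)
  have hsl : (Cfsg.Geo.specialLinear (Fin n) F).map (MulAut.conj P).toMonoidHom =
      Cfsg.Geo.specialLinear (Fin n) F := by
    haveI : (Cfsg.Geo.specialLinear (Fin n) F).Normal := MonoidHom.normal_ker _
    exact le_antisymm (Subgroup.map_le_iff_le_comap.2 fun x hx => Subgroup.Normal.conj_mem inferInstance x hx P) fun x hx => ⟨P⁻¹ * x * P, by simpa using Subgroup.Normal.conj_mem (H := Cfsg.Geo.specialLinear (Fin n) F) inferInstance x hx P⁻¹, by simp [mul_assoc]⟩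
  have hsub : (Cfsg.Geo.subfieldSubgroup F₀ (1 : GL (Fin n) F)).map (MulAut.conj P).toMonoidHom =
      Cfsg.Geo.subfieldSubgroup F₀ P := by
    rw [Cfsg.Geo.subfieldSubgroup, Cfsg.Geo.subfieldSubgroup, map_one, Subgroup.map_map]
    rfl
  rwa [Subgroup.map_inf _ _ _ (MulAut.conj P).injective, hsl, hsub] at h

end

section
open Matrix
open CfsgLib.MaxSub
open Cfsg.Agent.S5642

/-- For a finite field F and n ≥ 3, let f be a non-degenerate symplectic form on F^n (so n is even). Then the elements of SL_n(F) that are similarities of f (f(gu, gv) = c f(u, v) for a non-zero scalar c depending on g) form a maximal subgroup of SL_n(F). -/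
theorem symplectic_maximal {F : Type*} [Field F] [Fintype F] (n : ℕ) (hn : 3 ≤ n) (f : (Fin n → F) → (Fin n → F) → F) (hf : Cfsg.Geo.IsSymplecticForm f) : Cfsg.Geo.IsMaximalIn (Cfsg.Geo.specialLinear (Fin n) F) (Cfsg.Geo.similarityGroup f ⊓ Cfsg.Geo.specialLinear (Fin n) F) := by
  set R := dual hf.bilinear with hR
  have hRi : Function.Injective R := dual_injective hf
  have hn0 : ∃ a : Fin n → F, a ≠ 0 :=
    ⟨Pi.single ⟨0, by omega⟩ 1, by simp⟩
  obtain ⟨a, ha⟩ := hn0
  -- a vector orthogonal to `a` outside its line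
  obtain ⟨w, hwa, hw⟩ : ∃ w, f a w = 0 ∧ w ∉ Submodule.span F {a} := by
    by_contra hno
    push Not at hno
    let L : (Fin n → F) →ₗ[F] F :=
      { toFun := fun y => f a y
        map_add' := fun u v => hf.bilinear.add_right a u v
        map_smul' := fun c v => hf.bilinear.smul_right c a v }
    have hle : LinearMap.ker L ≤ Submodule.span F {a} := fun y hy => hno y hy
    have h1 := LinearMap.finrank_range_add_finrank_ker L
    have h2 : Module.finrank F (LinearMap.range L) ≤ 1 :=
      (Submodule.finrank_le _).trans (le_of_eq (Module.finrank_self F))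
    have h3 : Module.finrank F (LinearMap.ker L) ≤ 1 :=
      (Submodule.finrank_mono hle).trans (le_of_eq (finrank_span_singleton ha))
    rw [Module.finrank_fin_fun] at h1
    omega
  have h0 : R w ⬝ᵥ a = 0 := by rw [hR, dual_dot, hwa]
  refine isMaximalIn_of_lt (lt_of_le_of_ne inf_le_right fun heq => ?_) fun M hM1 hM2 g hg hgH =>
    key hf hM1 g hg fun hgS => hgH ⟨hgS, hM2 hg⟩
  have hT := tvGL_mem_specialLinear a (R w) h0
  rw [← heq] at hT
  obtain ⟨⟨c, hc⟩, -⟩ := hT
  simp only [coe_tvGL, tvMat_mulVec, hR, dual_dot, hf.bilinear.add_left, hf.bilinear.add_right,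
    hf.bilinear.smul_left, hf.bilinear.smul_right, hf.alternating] at hc
  have hne : R a ≠ 0 := fun h => ha (hRi (h.trans (map_zero R).symm))
  have hnm : R w ∉ Submodule.span F {R a} := fun hmem => by
    obtain ⟨d, hd⟩ := Submodule.mem_span_singleton.1 hmem
    exact hw (Submodule.mem_span_singleton.2 ⟨d, hRi (by rw [map_smul, hd])⟩)
  obtain ⟨y, hy1, hy2⟩ := exists_dot_pair hne hnm 1 0
  rw [hR, dual_dot] at hy1 hy2
  obtain ⟨x, hx1, hx2⟩ := exists_dot_eq_zero_of_notMem hnm
  rw [hR, dual_dot] at hx1 hx2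
  have e1 := hc a y
  rw [hwa, hy2, hf.skew a y, hy1] at e1
  have e2 := hc x y
  rw [hx1, hx2, hy2, hf.skew a y, hy1] at e2
  have hc1 : (c : F) = 1 := by linear_combination e1
  rw [hc1] at e2
  exact one_ne_zero (α := F) (by linear_combination -e2)

end

section
open Matrix
open CfsgLib.MaxSub
open Cfsg.Agent.S5643

/-- For a finite field F and n ≥ 6, let σ be a field automorphism of F of order two and f a non-degenerate unitary form on F^n with respect to σ. Then the elements of SL_n(F) that are similarities of f form a maximal subgroup of SL_n(F). -/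
theorem unitary_maximal {F : Type*} [Field F] [Fintype F] (n : ℕ) (hn : 6 ≤ n) (σ : F ≃+* F) (f : (Fin n → F) → (Fin n → F) → F) (hf : Cfsg.Geo.IsUnitaryForm σ f) : Cfsg.Geo.IsMaximalIn (Cfsg.Geo.specialLinear (Fin n) F) (Cfsg.Geo.similarityGroup f ⊓ Cfsg.Geo.specialLinear (Fin n) F) := by
  refine isMaximalIn_of_lt (lt_of_le_of_ne inf_le_right fun heq => ?_) fun M hM1 hM2 g hg hgH =>
    key hf (by omega) hM1 hg fun hgS => hgH ⟨hgS, hM2 hg⟩
  obtain ⟨a, -, ha0, ha⟩ := exists_isotropic hf (U := (⊤ : Submodule F (Fin n → F)))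
    (by rw [finrank_top, Module.finrank_fin_fun]; omega)
  obtain ⟨s, hs⟩ := exists_trace_ne hf
  have h0 : (s • hDual f a) ⬝ᵥ a = 0 := by rw [smul_dotProduct, hDual_dot hf, ha, smul_zero]
  have hT := tvGL_mem_specialLinear a (s • hDual f a) h0
  rw [← heq] at hT
  obtain ⟨⟨c, hc⟩, -⟩ := hT
  simp only [coe_tvGL, tvMat_mulVec, smul_dotProduct, hDual_dot hf, hf.add_left,
    herm_add_right hf, hf.smul_left, herm_smul_right hf, ha, smul_eq_mul, mul_zero, add_zero,
    map_mul] at hc
  obtain ⟨y, hy⟩ := (hf.nondegenerate a ha0).1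
  have hya : f a y ≠ 0 := fun e => hy (herm_eq_zero_comm hf e)
  have hc1 : (c : F) = 1 := by
    have e1 := hc y a
    simp only [ha, map_zero, mul_zero, zero_mul, add_zero] at e1
    exact (mul_right_cancel₀ hy (by rw [one_mul]; exact e1)).symm
  have e2 := hc y y
  rw [← hf.herm a y, hc1, one_mul] at e2
  have h3 : (s + σ s) * (f y a * f a y) = 0 := by linear_combination e2
  exact hs ((mul_eq_zero.mp h3).resolve_right (mul_ne_zero hy hya))

end

section
open Matrix
open CfsgLib.MaxSub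

/-- For a finite field F of odd order and n ≥ 6, let Q be a non-degenerate quadratic form on F^n (its polar form is non-degenerate). Then the elements of SL_n(F) that are similarities of Q (Q(gv) = c Q(v) for a non-zero scalar c depending on g) form a maximal subgroup of SL_n(F). -/
theorem quadratic_maximal {F : Type*} [Field F] [Fintype F] (n : ℕ) (hn : 6 ≤ n) (hodd : Odd (Fintype.card F)) (Q : (Fin n → F) → F) (hQ : Cfsg.Geo.IsNondegenerateQuadraticForm Q) : Cfsg.Geo.IsMaximalIn (Cfsg.Geo.specialLinear (Fin n) F) (Cfsg.Geo.quadSimilarityGroup Q ⊓ Cfsg.Geo.specialLinear (Fin n) F) := by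
  have hn' : 6 ≤ Fintype.card (Fin n) := by rw [Fintype.card_fin]; omega
  have h2 : (2 : F) ≠ 0 := by
    intro h
    have hc : ringChar F = 2 := by
      have := CharP.charP_iff_prime_eq_zero Nat.prime_two |>.2 (by exact_mod_cast h : ((2 : ℕ) : F) = 0)
      exact ringChar.eq F 2
    exact (Nat.not_even_iff_odd.2 hodd) (Nat.even_iff.2 (FiniteField.even_card_of_char_two hc))
  open CfsgLib.MaxSub in
  refine isMaximalIn_of_lt (lt_of_le_of_ne inf_le_right fun he => ?_) fun M hH hM g hg hgH => ?_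
  · obtain ⟨u, -, hu0, hu⟩ := CfsgLib.MaxSub.exists_singular hQ h2 (W := (⊤ : Submodule F (Fin n → F))) (by
      rw [finrank_top, Module.finrank_fin_fun]; omega)
    have hd : CfsgLib.MaxSub.pDual Q u ⬝ᵥ u = 0 := by
      rw [CfsgLib.MaxSub.pDual_dot hQ, CfsgLib.MaxSub.polar_self' hQ, hu, mul_zero]
    have hT := CfsgLib.MaxSub.tvGL_mem_specialLinear u (CfsgLib.MaxSub.pDual Q u) hd
    rw [← he] at hT
    obtain ⟨c, hc⟩ := hT.1
    obtain ⟨x, hx⟩ := (hQ.nondegenerate u hu0).1
    -- `x` may be chosen singular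
    set y := x + (-Q x / QuadraticMap.polar Q x u) • u
    have hQy : Q y = 0 := by
      rw [CfsgLib.MaxSub.quad_add_smul hQ, hu, div_mul_cancel₀ _ hx]; ring
    have hyu : QuadraticMap.polar Q y u = QuadraticMap.polar Q x u := by
      rw [hQ.polar_bilinear.add_left, hQ.polar_bilinear.smul_left, CfsgLib.MaxSub.polar_self' hQ, hu]; ring
    have h1 := hc y
    rw [CfsgLib.MaxSub.coe_tvGL, CfsgLib.MaxSub.tvMat_mulVec, CfsgLib.MaxSub.pDual_dot hQ,
      CfsgLib.MaxSub.quad_add_smul hQ, hQy, hu, mul_zero, hyu] at h1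
    exact hx (mul_self_eq_zero.1 (by linear_combination h1))
  · have hsub := CfsgLib.MaxSub.hasSieg_of_le hQ h2 hn' hH
    rcases CfsgLib.MaxSub.specialLinear_le_or_similar hQ h2 hn' hsub hH hg with h | h
    · exact h
    · exact absurd ⟨h, hM hg⟩ hgH

end

end CfsgLib.MaxSub.SlAll
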