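import Cfsg.Agent.S5639
import Cfsg.Agent.S0801

/-!
Overgroups in `SL₄` of the subfield group: two transvections with an irrational invariant generate a
special linear group of degree two over a larger field.
-/

set_option autoImplicit false
set_option linter.unusedSectionVars false

namespace CfsgLib.MaxSub.SubFour

open Matrix CfsgLib.MaxSub Cfsg.Agent.S5639
open scoped MatrixGroups

variable {F : Type*} [Field F] [Fintype F] {n : ℕ} {F₀ : Subfield F} {r : ℕ}
  {M : Subgroup (GL (Fin n) F)} (C : Ctx F₀ r M)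
include C

/-- the invariant of a conjugate of a rational transvection against a rational transvection is rational -/
theorem pair_rat (hr2 : r ≠ 2) (h2 : (2 : F) ≠ 0) {a φ y χ : Fin n → F} (h : HasTv M a φ)
    (hy : RatVec F₀ y) (hχ : RatVec F₀ χ) (hχy : χ ⬝ᵥ y = 0) : (φ ⬝ᵥ y) * (χ ⬝ᵥ a) ∈ F₀ := by
  classical
  by_contra hl
  obtain ⟨μ, hμd⟩ : ∃ μ, μ = (φ ⬝ᵥ y) * (χ ⬝ᵥ a) := ⟨_, rfl⟩
  rw [← hμd] at hl
  have hμ0 : μ ≠ 0 := fun e => hl (by rw [e]; exact zero_mem _)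
  have hφy : φ ⬝ᵥ y ≠ 0 := fun e => hμ0 (by rw [hμd, e, zero_mul])
  have hχa : χ ⬝ᵥ a ≠ 0 := fun e => hμ0 (by rw [hμd, e, mul_zero])
  obtain ⟨A, hA⟩ : ∃ A, A = (χ ⬝ᵥ a)⁻¹ • a := ⟨_, rfl⟩
  have hχA : χ ⬝ᵥ A = 1 := by rw [hA, dotProduct_smul, smul_eq_mul, inv_mul_cancel₀ hχa]
  have hφA : φ ⬝ᵥ A = 0 := by rw [hA, dotProduct_smul, h.1, smul_zero]
  obtain ⟨L, hL⟩ : ∃ L, L = Subfield.closure ({μ} : Set F) := ⟨_, rfl⟩
  have hμL : μ ∈ L := hL ▸ Subfield.subset_closure rfl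
  obtain ⟨Rep, hRep⟩ : ∃ Rep : Matrix.SpecialLinearGroup (Fin 2) L → GL (Fin n) F → Prop, Rep = fun (X : Matrix.SpecialLinearGroup (Fin 2) L) (m : GL (Fin n) F) =>
      (m : Matrix (Fin n) (Fin n) F) *ᵥ A = ((X.1 0 0 : L) : F) • A + ((X.1 1 0 : L) : F) • y ∧
      (m : Matrix (Fin n) (Fin n) F) *ᵥ y = ((X.1 0 1 : L) : F) • A + ((X.1 1 1 : L) : F) • y ∧
      ∀ z, χ ⬝ᵥ z = 0 → φ ⬝ᵥ z = 0 → (m : Matrix (Fin n) (Fin n) F) *ᵥ z = z := ⟨_, rfl⟩
  let S : Submonoid SL(2, L) :=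
    { carrier := {X | ∃ m ∈ M, Rep X m}
      one_mem' := ⟨1, one_mem M, by rw [hRep]; simp⟩
      mul_mem' := by
        rintro X X' ⟨m, hm, h⟩ ⟨m', hm', h'⟩
        rw [hRep] at h h'
        obtain ⟨h1, h2', h3⟩ := h
        obtain ⟨h1', h2'', h3'⟩ := h'
        refine ⟨m * m', mul_mem hm hm', ?_⟩
        rw [hRep]
        refine ⟨?_, ?_, fun z hz1 hz2 => by
          rw [Units.val_mul, ← mulVec_mulVec, h3' z hz1 hz2, h3 z hz1 hz2]⟩
        · rw [Units.val_mul, ← mulVec_mulVec, h1', mulVec_add, mulVec_smul, mulVec_smul, h1, h2']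
          simp only [Matrix.SpecialLinearGroup.coe_mul, Matrix.mul_apply, Fin.sum_univ_two]
          push_cast
          module
        · rw [Units.val_mul, ← mulVec_mulVec, h2'', mulVec_add, mulVec_smul, mulVec_smul, h1, h2']
          simp only [Matrix.SpecialLinearGroup.coe_mul, Matrix.mul_apply, Fin.sum_univ_two]
          push_cast
          module }
  have hsub : {g : SL(2, L) | (g : Matrix (Fin 2) (Fin 2) L) = !![1, 0; 1, 1] ∨
      (g : Matrix (Fin 2) (Fin 2) L) = !![1, ⟨μ, hμL⟩; 0, 1]} ⊆ S := by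
    rintro X (hX | hX)
    · refine ⟨tvGL y χ hχy, (hasTv_iff hχy).1 (rat_tv C hy hχ hχy), ?_⟩
      rw [hRep]
      refine ⟨?_, ?_, fun z hz1 _ => by rw [coe_tvGL, tvMat_mulVec, hz1, zero_smul, add_zero]⟩
      · rw [coe_tvGL, tvMat_mulVec, hχA, hX]; simp
      · rw [coe_tvGL, tvMat_mulVec, hχy, hX]; simp
    · refine ⟨tvGL a φ h.1, (hasTv_iff h.1).1 h, ?_⟩
      rw [hRep]
      refine ⟨?_, ?_, fun z _ hz2 => by rw [coe_tvGL, tvMat_mulVec, hz2, zero_smul, add_zero]⟩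
      · rw [coe_tvGL, tvMat_mulVec, hφA, hX]; simp
      · rw [coe_tvGL, tvMat_mulVec, hX]
        simp only [Matrix.of_apply, Matrix.cons_val', Matrix.cons_val_zero, Matrix.cons_val_one,
          Matrix.empty_val', Matrix.cons_val_fin_one, OneMemClass.coe_one, one_smul]
        rw [hA, smul_smul, hμd, mul_assoc, mul_inv_cancel₀ hχa, mul_one, add_comm]
  have h2L : (2 : L) ≠ 0 := fun e => h2 (by simpa [map_ofNat] using congrArg L.subtype e)
  letI := Fintype.ofFinite L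
  have hgen : Subfield.closure ({(⟨μ, hμL⟩ : L)} : Set L) = ⊤ := by
    refine eq_top_iff.2 fun z _ => ?_
    have hle : L ≤ (Subfield.closure ({(⟨μ, hμL⟩ : L)} : Set L)).map L.subtype := by
      conv_lhs => rw [hL]
      rw [Subfield.closure_le, Set.singleton_subset_iff]
      exact ⟨⟨μ, hμL⟩, Subfield.subset_closure rfl, rfl⟩
    obtain ⟨w', hw', e⟩ := hle z.2
    rwa [← Subtype.ext e]
  rcases Cfsg.Agent.S0801.result (F := L) h2L ⟨μ, hμL⟩
    (fun e => hμ0 (congrArg Subtype.val e)) hgen with ⟨htop, -⟩ | ⟨-, hsq, -⟩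
  · have hmem : ∀ X : SL(2, L), X ∈ S := fun X => by
      have hX : X ∈ Subgroup.closure {g : SL(2, L) | (g : Matrix (Fin 2) (Fin 2) L) = !![1, 0; 1, 1] ∨
          (g : Matrix (Fin 2) (Fin 2) L) = !![1, ⟨μ, hμL⟩; 0, 1]} := by rw [htop]; exact Subgroup.mem_top X
      rw [← Subgroup.mem_toSubmonoid, Subgroup.closure_toSubmonoid_of_finite] at hX
      exact Submonoid.closure_le.2 hsub hX
    obtain ⟨X, hX⟩ : ∃ X : SL(2, L), X = ⟨!![1, 0; ⟨μ, hμL⟩, 1], by simp [Matrix.det_fin_two_of]⟩ := ⟨_, rfl⟩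
    obtain ⟨m, hm, hmr⟩ := hmem X
    rw [hRep, hX] at hmr
    obtain ⟨h1, h2', h3⟩ := hmr
    simp at h1 h2'
    have h0 : (μ • χ) ⬝ᵥ y = 0 := by rw [smul_dotProduct, hχy, smul_zero]
    have hmat : (m : Matrix (Fin n) (Fin n) F) = tvMat y (μ • χ) := by
      refine Matrix.ext_of_mulVec_single fun i => ?_
      generalize (Pi.single i 1 : Fin n → F) = v
      obtain ⟨z, hz⟩ : ∃ z, z = v - (χ ⬝ᵥ v) • A - ((φ ⬝ᵥ v) / (φ ⬝ᵥ y)) • y := ⟨_, rfl⟩
      have e : v = z + (χ ⬝ᵥ v) • A + ((φ ⬝ᵥ v) / (φ ⬝ᵥ y)) • y := by rw [hz]; abel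
      have hz1 : χ ⬝ᵥ z = 0 := by
        rw [hz, dotProduct_sub, dotProduct_sub, dotProduct_smul, dotProduct_smul, hχA, hχy]; simp
      have hz2 : φ ⬝ᵥ z = 0 := by
        rw [hz, dotProduct_sub, dotProduct_sub, dotProduct_smul, dotProduct_smul, hφA]
        simp [div_mul_cancel₀ _ hφy]
      conv_lhs => rw [e, mulVec_add, mulVec_add, mulVec_smul, mulVec_smul, h1, h2', h3 z hz1 hz2]
      rw [tvMat_mulVec, smul_dotProduct, smul_eq_mul]
      conv_rhs => arg 1; rw [e]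
      module
    have hy0 : y ≠ 0 := fun e => hφy (by rw [e, dotProduct_zero])
    have hT : HasTv M y (μ • χ) :=
      (hasTv_iff h0).2 (by rwa [show tvGL y (μ • χ) h0 = m from Units.ext (by rw [coe_tvGL, hmat])])
    obtain ⟨k, hk⟩ : ∃ k, χ k ≠ 0 := by
      by_contra hno
      push Not at hno
      exact hχa (by rw [show χ = 0 from funext hno, zero_dotProduct])
    have h5 := mul_mem (win C hy hy0 hT k) (inv_mem (hχ k))
    rw [Pi.smul_apply, smul_eq_mul, mul_assoc, mul_inv_cancel₀ hk, mul_one] at h5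
    exact hl h5
  · refine hl (sq_mem C (Or.inl hr2) ?_)
    have : μ * μ = -1 := by simpa [sq] using congrArg Subtype.val hsq
    rw [this]
    exact neg_mem (one_mem _)

theorem case_odd_four (hn : n = 4) (hr2 : r ≠ 2) (h2 : (2 : F) ≠ 0) {g : GL (Fin n) F} (hg : g ∈ M) :
    g ∈ Cfsg.Geo.subfieldSubgroup F₀ 1 := by
  subst hn
  refine mem_of_entries C fun k l hkl x b => ?_
  have h0 := (rat_tv C (ratVec_single (F₀ := F₀) k (one_mem _))
    (ratVec_single (F₀ := F₀) l (one_mem _)) (by simp [Ne.symm hkl])).conj hg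
  obtain ⟨a, ha⟩ : ∃ a, a = (g : Matrix (Fin 4) (Fin 4) F) *ᵥ Pi.single k 1 := ⟨_, rfl⟩
  obtain ⟨φ, hφ⟩ : ∃ φ, φ = (Pi.single l 1 : Fin 4 → F) ᵥ* ((g⁻¹ : GL (Fin 4) F) : Matrix (Fin 4) (Fin 4) F) :=
    ⟨_, rfl⟩
  rw [← ha, ← hφ] at h0
  have off : ∀ i j, i ≠ j → φ j * a i ∈ F₀ := fun i j hij => by
    simpa using pair_rat C hr2 h2 h0 (ratVec_single (F₀ := F₀) j (one_mem _))
      (ratVec_single (F₀ := F₀) i (one_mem _)) (by simp [hij, Ne.symm hij])
  have diff : ∀ i j, φ i * a i - φ j * a j ∈ F₀ := fun i j => by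
    rcases eq_or_ne i j with rfl | hij
    · rw [sub_self]; exact zero_mem _
    have := pair_rat C hr2 h2 h0 (y := Pi.single i 1 + Pi.single j 1) (χ := Pi.single i 1 - Pi.single j 1)
      (RatVec.add (ratVec_single _ (one_mem _)) (ratVec_single _ (one_mem _)))
      (RatVec.sub (ratVec_single _ (one_mem _)) (ratVec_single _ (one_mem _)))
      (by simp [sub_dotProduct, dotProduct_add, hij, Ne.symm hij])
    simp only [dotProduct_add, sub_dotProduct, dotProduct_single, single_dotProduct, mul_one, one_mul] at this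
    have h' := add_mem (sub_mem this (off i j hij)) (off j i (Ne.symm hij))
    convert h' using 1
    ring
  have diag : ∀ i, φ i * a i ∈ F₀ := fun i => by
    have h4 : (4 : F) ≠ 0 := by
      rw [show (4 : F) = 2 * 2 by norm_num]; exact mul_ne_zero h2 h2
    have h4' : (4 : F) ∈ F₀ := by simpa using natCast_mem F₀ 4
    have hs := h0.1
    simp only [dotProduct, Fin.sum_univ_four] at hs
    have := mul_mem (inv_mem h4') (add_mem (add_mem (diff i 0) (diff i 1)) (add_mem (diff i 2) (diff i 3)))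
    convert this using 1
    rw [eq_inv_mul_iff_mul_eq₀ h4]
    linear_combination hs
  have hgoal : φ b * a x ∈ F₀ := by
    rcases eq_or_ne x b with rfl | h
    · exact diag x
    · exact off x b h
  rw [mul_comm] at hgoal
  simpa [ha, hφ, Matrix.col_apply] using hgoal

theorem main (hn : n = 4) {g : GL (Fin n) F} (hg : g ∈ M) : g ∈ Cfsg.Geo.subfieldSubgroup F₀ 1 := by
  by_cases hr2 : r = 2
  · exact case_quadratic C hr2 hg
  · by_cases h2 : (2 : F) = 0
    · exact case_two C h2 hg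
    · exact case_odd_four C hn hr2 h2 hg

omit C in
theorem base_four (hn : n = 4) (F₀ : Subfield F) (r : ℕ) (hr : r.Prime)
    (hcard : Fintype.card F = Nat.card F₀ ^ r) :
    Cfsg.Geo.IsMaximalIn (Cfsg.Geo.specialLinear (Fin n) F)
      (Cfsg.Geo.subfieldSubgroup F₀ 1 ⊓ Cfsg.Geo.specialLinear (Fin n) F) := by
  obtain ⟨c, hc⟩ : ∃ c : F, c ∉ F₀ := by
    by_contra hno
    push Not at hno
    have h1 : Nat.card F₀ = Nat.card F :=
      Nat.card_congr (Equiv.subtypeUnivEquiv hno)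
    rw [Nat.card_eq_fintype_card (α := F), hcard] at h1
    have h2 : 2 ≤ r := hr.two_le
    have h3 : Nat.card F₀ ^ 1 = Nat.card F₀ ^ r := by rw [pow_one]; exact h1
    have := Nat.pow_right_injective (Finite.one_lt_card (α := F₀)) h3
    omega
  refine isMaximalIn_of_lt (lt_of_le_of_ne inf_le_right fun heq => ?_) fun M hM1 hM2 g hg hgH => ?_
  · let i : Fin n := ⟨0, by omega⟩
    let j : Fin n := ⟨1, by omega⟩
    let k : Fin n := ⟨2, by omega⟩
    have hij : (c • Pi.single j (1 : F) : Fin n → F) ⬝ᵥ Pi.single i 1 = 0 := by simp [i, j]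
    have hT := tvGL_mem_specialLinear _ _ hij
    rw [← heq] at hT
    obtain ⟨d, hd, hrat⟩ := (mem_subfieldSubgroup_one _).1 hT.1
    have h1 := hrat k k
    have h2 := hrat i j
    simp [tvMat, i, j, k, vecMulVec_apply, Fin.ext_iff] at h1 h2
    exact hc (by simpa [hd, ← mul_assoc] using mul_mem (inv_mem h1) h2)
  · by_contra hno
    exact hgH ⟨main ⟨by omega, hr, hcard, hM1, hM2, hno⟩ hn hg, hM2 hg⟩


end CfsgLib.MaxSub.SubFour
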