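import Cfsg.Agent.Lib.MaxSub.Herm
import Cfsg.Agent.S5643

/-!
Overgroups of the unitary similarities in `SL_n`, dimension at least four.
-/

set_option autoImplicit false
set_option linter.unusedSectionVars false

namespace CfsgLib.MaxSub.UnitFour

open Matrix CfsgLib.MaxSub
open Cfsg.Agent.S5643 (NonUnitary unitary_tv)

section forms

variable {n : ℕ} {F : Type*} [Field F] {σ : F ≃+* F} {f : (Fin n → F) → (Fin n → F) → F}
variable (hf : Cfsg.Geo.IsUnitaryForm σ f)
include hf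

/-- orthogonal subspaces -/
theorem finrank_add_le_of_orth {U W : Submodule F (Fin n → F)} (hti : ∀ x ∈ U, ∀ y ∈ W, f x y = 0) :
    Module.finrank F U + Module.finrank F W ≤ n := by
  let k := Module.finrank F W
  let b := Module.finBasis F W
  let L : (Fin n → F) →ₗ[F] (Fin k → F) :=
    { toFun := fun x i => f x (b i)
      map_add' := fun x y => funext fun i => hf.add_left _ _ _
      map_smul' := fun c x => funext fun i => hf.smul_left _ _ _ }
  have hker : U ≤ LinearMap.ker L := fun x hx =>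
    LinearMap.mem_ker.mpr (funext fun i => hti x hx (b i) (b i).2)
  have hsurj : LinearMap.range L = ⊤ := by
    by_contra hne
    obtain ⟨φ, hφ, hle⟩ := Submodule.exists_le_ker_of_lt_top _ (lt_top_iff_ne_top.mpr hne)
    apply hφ
    let y : W := ∑ i, σ (φ (Pi.single i 1)) • b i
    have hy : ∀ x, f x y = φ (L x) := by
      intro x
      let R : W → F := fun u => f x u
      have hadd : ∀ u v : W, R (u + v) = R u + R v := fun u v => herm_add_right hf _ _ _
      have hR : R y = ∑ i, R (σ (φ (Pi.single i 1)) • b i) :=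
        map_sum (AddMonoidHom.mk' R hadd) _ _
      show R y = _
      rw [hR, pi_eq_sum_univ' (L x), map_sum]
      refine Finset.sum_congr rfl fun i _ => ?_
      rw [map_smul, smul_eq_mul]
      show f x ((σ (φ (Pi.single i 1)) • b i : W) : Fin n → F) = _
      rw [Submodule.coe_smul, herm_smul_right hf, hf.involutive, mul_comm]
      rfl
    have hy0 : (y : Fin n → F) = 0 := by
      by_contra h0
      obtain ⟨x, hx⟩ := (hf.nondegenerate _ h0).1
      exact hx (by rw [hy]; exact LinearMap.mem_ker.mp (hle ⟨x, rfl⟩))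
    have hzero := Fintype.linearIndependent_iff.mp b.linearIndependent _
      (show ∑ i, σ (φ (Pi.single i 1)) • b i = 0 from Subtype.ext hy0)
    refine (Pi.basisFun F (Fin k)).ext fun i => ?_
    rw [Pi.basisFun_apply, LinearMap.zero_apply, ← σ.map_eq_zero_iff]
    exact hzero i
  have h1 := LinearMap.finrank_range_add_finrank_ker L
  rw [hsurj, finrank_top, Module.finrank_fin_fun, Module.finrank_fin_fun] at h1
  have h2 := Submodule.finrank_mono hker
  omega

/-- an isotropic vector of a large subspace avoiding two hyperplanes -/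
theorem exists_isotropic_avoid_four [Finite F] {U : Submodule F (Fin n → F)}
    (hU : n + 1 < 2 * Module.finrank F U) {χ₁ χ₂ : Fin n → F}
    (h₁ : ∃ y ∈ U, χ₁ ⬝ᵥ y ≠ 0) (h₂ : ∃ y ∈ U, χ₂ ⬝ᵥ y ≠ 0) :
    ∃ x ∈ U, f x x = 0 ∧ χ₁ ⬝ᵥ x ≠ 0 ∧ χ₂ ⬝ᵥ x ≠ 0 := by
  obtain ⟨x, hx, hx1, hx2⟩ : ∃ x ∈ U, χ₁ ⬝ᵥ x ≠ 0 ∧ χ₂ ⬝ᵥ x ≠ 0 := by
    obtain ⟨y, hy, hy1⟩ := h₁
    obtain ⟨z, hz, hz2⟩ := h₂
    by_cases hy2 : χ₂ ⬝ᵥ y = 0
    · by_cases hz1 : χ₁ ⬝ᵥ z = 0
      · exact ⟨y + z, add_mem hy hz, by simp [dotProduct_add, hz1, hy1],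
          by simp [dotProduct_add, hy2, hz2]⟩
      · exact ⟨z, hz, hz1, hz2⟩
    · exact ⟨y, hy, hy1, hy2⟩
  classical
  rcases eq_or_ne (f x x) 0 with hxx | hxx
  · exact ⟨x, hx, hxx, hx1, hx2⟩
  have h1 := finrank_le_inf_dotKer U (hDual f x)
  obtain ⟨z, hz, hzz⟩ : ∃ z ∈ U ⊓ dotKer (hDual f x), f z z ≠ 0 := by
    by_contra hall
    push Not at hall
    set W := U ⊓ dotKer (hDual f x) with hW
    have hti : ∀ u ∈ W, ∀ v ∈ W, f u v = 0 := by
      intro u hu v hv
      by_contra huv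
      obtain ⟨s, hs⟩ := exists_trace_ne hf
      have h := hall ((s / f u v) • u + v) (add_mem (W.smul_mem _ hu) hv)
      simp only [hf.add_left, hf.smul_left, herm_add_right hf, herm_smul_right hf,
        hall u hu, hall v hv, mul_zero, zero_add, add_zero] at h
      rw [div_mul_cancel₀ _ huv, hf.herm v u, ← map_mul, div_mul_cancel₀ _ huv] at h
      exact hs h
    have hperp : ∀ u ∈ U, ∀ v ∈ W, f u v = 0 := by
      intro u hu v hv
      have e0 : f v x = 0 := by rw [← hDual_dot hf]; exact hv.2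
      have hd : u - (f u x / f x x) • x ∈ W := by
        refine ⟨sub_mem hu (U.smul_mem _ hx), ?_⟩
        show hDual f x ⬝ᵥ _ = 0
        rw [dotProduct_sub, dotProduct_smul, hDual_dot hf, hDual_dot hf, smul_eq_mul,
          div_mul_cancel₀ _ hxx, sub_self]
      have := hti _ hd v hv
      rwa [sub_eq_add_neg, ← neg_smul, hf.add_left, hf.smul_left, herm_eq_zero_comm hf e0, mul_zero,
        add_zero] at this
    have := finrank_add_le_of_orth hf hperp
    omega
  obtain ⟨hzU, hzx'⟩ := hz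
  have hzx : f z x = 0 := by rw [← hDual_dot hf]; exact hzx'
  obtain ⟨t₀, ht₀⟩ := exists_norm_eq hf (e := -(f x x / f z z)) (by
    rw [map_neg, map_div₀, herm_self_fixed hf, herm_self_fixed hf])
  -- three solutions of the norm equation
  obtain ⟨y, hy⟩ : ∃ y, σ y ≠ y := by
    by_contra hall
    simp only [not_exists, not_not] at hall
    exact hf.ne_refl (RingEquiv.ext hall)
  have hy0 : y ≠ 0 := fun e => hy (by rw [e, map_zero])
  have hy1 : y + 1 ≠ 0 := fun e => hy (by rw [eq_neg_of_add_eq_zero_left e, map_neg, map_one])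
  have hsy : σ y ≠ 0 := fun e => hy0 (σ.map_eq_zero_iff.1 e)
  have hsy1 : σ y + 1 ≠ 0 := fun e => hy1 (σ.map_eq_zero_iff.1 (by rw [map_add, map_one]; exact e))
  have ht₀' : t₀ ≠ 0 := fun e => by
    rw [e, zero_mul, eq_comm, neg_eq_zero, div_eq_zero_iff] at ht₀
    exact ht₀.elim hxx hzz
  let S : Finset F := {t₀, t₀ * (y / σ y), t₀ * ((y + 1) / (σ y + 1))}
  have hn1 : y / σ y * σ (y / σ y) = 1 := by rw [map_div₀, hf.involutive]; field_simp
  have hn2 : (y + 1) / (σ y + 1) * σ ((y + 1) / (σ y + 1)) = 1 := by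
    rw [map_div₀, map_add, map_add, map_one, hf.involutive]; field_simp
  have hS : ∀ t ∈ S, t * σ t = -(f x x / f z z) := by
    intro t ht
    simp only [S, Finset.mem_insert, Finset.mem_singleton] at ht
    rcases ht with rfl | rfl | rfl
    · exact ht₀
    · rw [map_mul, mul_mul_mul_comm, hn1, mul_one, ht₀]
    · rw [map_mul, mul_mul_mul_comm, hn2, mul_one, ht₀]
  have hcard : S.card = 3 := by
    have e1 : (1 : F) ≠ y / σ y := fun e => hy ((div_eq_one_iff_eq hsy).1 e.symm).symm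
    have e2 : (1 : F) ≠ (y + 1) / (σ y + 1) := fun e =>
      hy (add_right_cancel ((div_eq_one_iff_eq hsy1).1 e.symm)).symm
    have e3 : y / σ y ≠ (y + 1) / (σ y + 1) := fun e => by
      rw [div_eq_div_iff hsy hsy1] at e
      exact hy (by linear_combination -e)
    refine Finset.card_eq_three.2 ⟨_, _, _, ?_, ?_, ?_, rfl⟩
    · exact fun e => e1 (mul_left_cancel₀ ht₀' (by rw [mul_one]; exact e))
    · exact fun e => e2 (mul_left_cancel₀ ht₀' (by rw [mul_one]; exact e))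
    · exact fun e => e3 (mul_left_cancel₀ ht₀' e)
  -- each functional excludes at most one of them
  have hbad : ∀ {χ : Fin n → F}, χ ⬝ᵥ x ≠ 0 →
      (S.filter fun t => χ ⬝ᵥ (x + t • z) = 0).card ≤ 1 := by
    intro χ hχ
    refine Finset.card_le_one.2 fun t ht t' ht' => ?_
    have e := (Finset.mem_filter.1 ht).2
    have e' := (Finset.mem_filter.1 ht').2
    rw [dotProduct_add, dotProduct_smul, smul_eq_mul] at e e'
    refine mul_right_cancel₀ (fun h0 : χ ⬝ᵥ z = 0 => hχ ?_) (add_left_cancel (e.trans e'.symm))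
    rw [h0, mul_zero, add_zero] at e
    exact e
  obtain ⟨t, ht, htn⟩ := Finset.exists_mem_notMem_of_card_lt_card
    (s := (S.filter fun t => χ₁ ⬝ᵥ (x + t • z) = 0) ∪ S.filter fun t => χ₂ ⬝ᵥ (x + t • z) = 0)
    (t := S) (lt_of_le_of_lt (Finset.card_union_le _ _) (by
      have := hbad hx1; have := hbad hx2; omega))
  simp only [Finset.mem_union, Finset.mem_filter, ht, true_and, not_or] at htn
  refine ⟨x + t • z, add_mem hx (U.smul_mem t hzU), ?_, htn.1, htn.2⟩
  rw [herm_add_smul_self hf t hzx, hS t ht, neg_mul, div_mul_cancel₀ _ hzz, add_neg_cancel]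

/-- isotropic vectors span large subspaces -/
theorem le_of_isotropic_mem_four [Finite F] {U P : Submodule F (Fin n → F)}
    (hU : n + 1 < 2 * Module.finrank F U) (h : ∀ x ∈ U, f x x = 0 → x ∈ P) : U ≤ P := by
  intro y hy
  by_contra hyP
  obtain ⟨χ, hχy, hχ⟩ := exists_dot_of_notMem hyP
  have hex : ∃ z ∈ U, χ ⬝ᵥ z ≠ 0 := ⟨y, hy, by rw [hχy]; exact one_ne_zero⟩
  obtain ⟨x, hx, hxx, hx1, -⟩ := exists_isotropic_avoid_four hf hU hex hex
  exact hx1 (hχ x (h x hx hxx))


end forms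

variable {F : Type*} [Field F] [Finite F] {n : ℕ} {σ : F ≃+* F}
  {f : (Fin n → F) → (Fin n → F) → F} {M : Subgroup (GL (Fin n) F)}

theorem half_space (hn : 4 ≤ n) (χ : Fin n → F) :
    n + 1 < 2 * Module.finrank F (dotKer χ) := by
  have := finrank_dotKer_ge χ
  omega

theorem whole_space (hn : 4 ≤ n) :
    n + 1 < 2 * Module.finrank F (⊤ : Submodule F (Fin n → F)) := by
  rw [finrank_top, Module.finrank_fin_fun]
  omega

theorem exists_nonUnitary (hf : Cfsg.Geo.IsUnitaryForm σ f) (hn : 4 ≤ n)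
    (hM : Cfsg.Geo.similarityGroup f ⊓ Cfsg.Geo.specialLinear (Fin n) F ≤ M)
    {g : GL (Fin n) F} (hg : g ∈ M) (hgS : g ∉ Cfsg.Geo.similarityGroup f) :
    ∃ b ψ, HasTv M b ψ ∧ NonUnitary σ f b ψ := by
  by_contra hno
  have hno' : ∀ b ψ, HasTv M b ψ → b ≠ 0 → ψ ≠ 0 →
      f b b = 0 ∧ ∃ c, c + σ c = 0 ∧ ψ = c • hDual f b := fun b ψ h h1 h2 => by
    by_contra hc; exact hno ⟨b, ψ, h, h1, h2, hc⟩
  obtain ⟨c₀, hc₀, hc₀'⟩ := exists_trace_zero hf
  have hginj : ∀ x, (g : Matrix (Fin n) (Fin n) F) *ᵥ x = 0 → x = 0 := fun x hx => by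
    have := congrArg (((g⁻¹ : GL (Fin n) F) : Matrix (Fin n) (Fin n) F) *ᵥ ·) hx
    simpa [inv_mulVec_mulVec] using this
  have hloc : ∀ a, f a a = 0 → a ≠ 0 → ∃ μ : F, ∀ x,
      f ((g : Matrix (Fin n) (Fin n) F) *ᵥ x) ((g : Matrix (Fin n) (Fin n) F) *ᵥ a) = μ * f x a := by
    intro a ha ha0
    have h1 := (unitary_tv hf hM ha hc₀').conj hg
    have hne : (c₀ • hDual f a) ᵥ* ((g⁻¹ : GL (Fin n) F) : Matrix (Fin n) (Fin n) F) ≠ 0 := by
      intro e
      refine smul_ne_zero hc₀ (hDual_ne_zero hf ha0) ?_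
      have := congrArg (fun z => z ᵥ* (g : Matrix (Fin n) (Fin n) F)) e
      simpa [vecMul_vecMul] using this
    obtain ⟨-, d, -, hd⟩ := hno' _ _ h1 (fun e => ha0 (hginj a e)) hne
    have hd0 : d ≠ 0 := fun e => hne (by rw [hd, e, zero_smul])
    refine ⟨c₀ / d, fun x => ?_⟩
    have := congrArg (· ⬝ᵥ ((g : Matrix (Fin n) (Fin n) F) *ᵥ x)) hd
    simp only [vecMul_inv_dotProduct, inv_mulVec_mulVec, smul_dotProduct, hDual_dot hf,
      smul_eq_mul] at this
    rw [div_mul_eq_mul_div, eq_div_iff hd0, this, mul_comm]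
  choose! μ hμ using hloc
  have hpair : ∀ a a', f a a = 0 → f a' a' = 0 → f a a' ≠ 0 → μ a' = σ (μ a) := by
    intro a a' ha ha' hne
    have ha0 : a ≠ 0 := fun e => hne (by rw [e, herm_zero_left hf])
    have ha'0 : a' ≠ 0 := fun e => hne (by rw [e, herm_zero_right hf])
    have h1 := hμ a' ha' ha'0 a
    rw [hf.herm, hμ a ha ha0 a', map_mul, ← hf.herm] at h1
    exact (mul_right_cancel₀ hne h1).symm
  have htop : ∀ χ : Fin n → F, χ ≠ 0 → ∃ y ∈ (⊤ : Submodule F (Fin n → F)), χ ⬝ᵥ y ≠ 0 :=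
    fun χ hχ => by
      obtain ⟨y, hy⟩ := exists_dot_ne hχ
      exact ⟨y, trivial, by rw [hy]; exact one_ne_zero⟩
  have hcommon : ∀ a a', f a a = 0 → f a' a' = 0 → a ≠ 0 → a' ≠ 0 →
      ∃ w, f w w = 0 ∧ f w a ≠ 0 ∧ f w a' ≠ 0 := by
    intro a a' _ _ ha0 ha'0
    obtain ⟨w, -, hw, h1, h2⟩ := exists_isotropic_avoid_four hf (whole_space hn)
      (htop _ (hDual_ne_zero hf ha0)) (htop _ (hDual_ne_zero hf ha'0))
    rw [hDual_dot hf] at h1 h2
    exact ⟨w, hw, h1, h2⟩
  have : Nontrivial (Fin n → F) := by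
    have : Nonempty (Fin n) := ⟨⟨0, by omega⟩⟩
    infer_instance
  obtain ⟨a₀, -, ha₀0, ha₀⟩ := exists_isotropic hf (U := (⊤ : Submodule F (Fin n → F)))
    (by rw [finrank_top, Module.finrank_fin_fun]; omega)
  have hconst : ∀ a, f a a = 0 → a ≠ 0 → μ a = μ a₀ := by
    intro a ha ha0
    obtain ⟨w, hw, h1, h2⟩ := hcommon a a₀ ha ha₀ ha0 ha₀0
    rw [hpair w a hw ha h1, hpair w a₀ hw ha₀ h2]
  let P : Submodule F (Fin n → F) :=
    { carrier := {y | ∀ x, f ((g : Matrix (Fin n) (Fin n) F) *ᵥ x)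
        ((g : Matrix (Fin n) (Fin n) F) *ᵥ y) = μ a₀ * f x y}
      add_mem' := fun {u v} hu hv x => by
        rw [mulVec_add, herm_add_right hf, herm_add_right hf, hu x, hv x, mul_add]
      zero_mem' := fun x => by rw [mulVec_zero, herm_zero_right hf, herm_zero_right hf, mul_zero]
      smul_mem' := fun c u hu x => by
        rw [mulVec_smul, herm_smul_right hf, herm_smul_right hf, hu x, mul_left_comm] }
  have hP : (⊤ : Submodule F (Fin n → F)) ≤ P := le_of_isotropic_mem_four hf (whole_space hn) fun a _ ha => by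
    rcases eq_or_ne a 0 with rfl | ha0
    · exact P.zero_mem
    · intro x
      rw [hμ a ha ha0 x, hconst a ha ha0]
  have hμ0 : μ a₀ ≠ 0 := by
    intro e
    obtain ⟨x, hx⟩ := (hf.nondegenerate _ (fun h => ha₀0 (hginj _ h))).1
    have := hP (Submodule.mem_top : a₀ ∈ ⊤) (((g⁻¹ : GL (Fin n) F) : Matrix (Fin n) (Fin n) F) *ᵥ x)
    rw [mulVec_mulVec_inv, e, zero_mul] at this
    exact hx this
  exact hgS ⟨Units.mk0 _ hμ0, fun u v => hP (Submodule.mem_top : v ∈ ⊤) u⟩

theorem exists_iso_noncol (hf : Cfsg.Geo.IsUnitaryForm σ f) (hn : 4 ≤ n)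
    (hM : Cfsg.Geo.similarityGroup f ⊓ Cfsg.Geo.specialLinear (Fin n) F ≤ M)
    {b ψ : Fin n → F} (h : HasTv M b ψ) (hnu : NonUnitary σ f b ψ) :
    ∃ b' ψ', f b' b' = 0 ∧ b' ≠ 0 ∧ HasTv M b' ψ' ∧ ψ' ∉ Submodule.span F {hDual f b'} := by
  obtain ⟨hb0, hψ, hnu⟩ := hnu
  obtain ⟨c₀, hc₀, hc₀'⟩ := exists_trace_zero hf
  have aniso : ∀ {b ψ : Fin n → F}, HasTv M b ψ → ψ ≠ 0 → f b b ≠ 0 →
      ∃ b' ψ', f b' b' = 0 ∧ b' ≠ 0 ∧ HasTv M b' ψ' ∧ ψ' ∉ Submodule.span F {hDual f b'} := by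
    intro b ψ h hψ hbb
    have hb0 : b ≠ 0 := fun e => hbb (by rw [e, herm_zero_left hf])
    have hex : ∃ y ∈ dotKer ψ, hDual f b ⬝ᵥ y ≠ 0 := ⟨b, h.1, by rw [hDual_dot hf]; exact hbb⟩
    obtain ⟨a, ha, haa, hab, -⟩ := exists_isotropic_avoid_four hf (half_space hn ψ) hex hex
    rw [hDual_dot hf] at hab
    have hba : f b a ≠ 0 := fun e => hab (herm_eq_zero_comm hf e)
    have ha0 : a ≠ 0 := fun e => hab (by rw [e, herm_zero_left hf])
    refine ⟨a, _, haa, ha0, h.comm (unitary_tv hf hM haa hc₀') ha, fun hmem => ?_⟩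
    rw [smul_dotProduct, hDual_dot hf, smul_eq_mul] at hmem
    have hmem' : ψ ∈ Submodule.span F {hDual f a} :=
      (Submodule.smul_mem_iff _ (mul_ne_zero hc₀ hba)).mp hmem
    obtain ⟨e, he⟩ := Submodule.mem_span_singleton.mp hmem'
    have h0 := h.1
    rw [← he, smul_dotProduct, hDual_dot hf, smul_eq_mul, mul_eq_zero, or_iff_left hba] at h0
    exact hψ (by rw [← he, h0, zero_smul])
  by_cases hbb : f b b = 0
  · by_cases hmem : ψ ∈ Submodule.span F {hDual f b}
    · obtain ⟨e, he⟩ := Submodule.mem_span_singleton.mp hmem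
      have hee : e + σ e ≠ 0 := fun h0 => hnu ⟨hbb, e, h0, he.symm⟩
      obtain ⟨y, hy⟩ := exists_dot_ne (hDual_ne_zero hf hb0)
      have hex : ∃ y ∈ (⊤ : Submodule F (Fin n → F)), hDual f b ⬝ᵥ y ≠ 0 :=
        ⟨y, trivial, by rw [hy]; exact one_ne_zero⟩
      obtain ⟨a, -, haa, hab, -⟩ := exists_isotropic_avoid_four hf (whole_space hn) hex hex
      rw [hDual_dot hf] at hab
      have h1 := (unitary_tv hf hM haa hc₀').conj_tv h
      rw [← he, smul_dotProduct, hDual_dot hf, smul_eq_mul] at h1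
      have hne : f (a + (e * f a b) • b) (a + (e * f a b) • b) ≠ 0 := by
        simp only [hf.add_left, hf.smul_left, herm_add_right hf, herm_smul_right hf, haa, hbb,
          mul_zero, add_zero, zero_add, map_mul]
        rw [hf.herm b a, show σ e * σ (f a b) * f a b + e * f a b * σ (f a b)
          = (e + σ e) * (σ (f a b) * f a b) by ring]
        exact mul_ne_zero hee (mul_ne_zero ((map_ne_zero σ).mpr hab) hab)
      refine aniso h1 ?_ hne
      intro e0
      have h2 := congrArg (· ⬝ᵥ b) e0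
      simp only [sub_dotProduct, smul_dotProduct, hDual_dot hf, hbb, smul_eq_mul, mul_zero,
        sub_zero, zero_dotProduct, mul_eq_zero, hc₀, false_or] at h2
      exact hab (herm_eq_zero_comm hf h2)
    · exact ⟨b, ψ, hbb, hb0, h, hmem⟩
  · exact aniso h hψ hbb

/-- a scalar of norm one outside the fixed field -/
theorem exists_twist (hf : Cfsg.Geo.IsUnitaryForm σ f) : ∃ y : F, y ≠ 0 ∧ σ (y / σ y) ≠ y / σ y := by
  obtain ⟨y, hy⟩ : ∃ y, σ y ≠ y := by
    by_contra hall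
    simp only [not_exists, not_not] at hall
    exact hf.ne_refl (RingEquiv.ext hall)
  have key : ∀ z : F, σ z ≠ z → σ z ≠ -z → z ≠ 0 ∧ σ (z / σ z) ≠ z / σ z := by
    intro z h1 h2
    have hz : z ≠ 0 := fun e => h1 (by rw [e, map_zero])
    refine ⟨hz, fun e => ?_⟩
    rw [map_div₀, hf.involutive, div_eq_div_iff hz ((map_ne_zero σ).2 hz)] at e
    rcases mul_self_eq_mul_self_iff.1 e with h | h
    · exact h1 h
    · exact h2 h
  by_cases h : σ y = -y
  · refine ⟨y + 1, key _ ?_ ?_⟩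
    · rw [map_add, map_one, ne_eq, add_left_inj]
      exact hy
    · intro e
      rw [map_add, map_one, h] at e
      have h2 : (2 : F) = 0 := by linear_combination e
      exact hy (by rw [h]; linear_combination (-y) * h2)
  · exact ⟨y, key _ hy h⟩

theorem exists_pair [Finite F] (hf : Cfsg.Geo.IsUnitaryForm σ f) {U : Submodule F (Fin n → F)}
    {b z : Fin n → F} (hb : b ∈ U) (hbb : f b b = 0) (hz : z ∈ U) (hzb : f z b ≠ 0) :
    ∃ w ∈ U, f w w = 0 ∧ f w b = 1 := by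
  obtain ⟨s, hs⟩ := exists_trace_ne hf
  obtain ⟨z₁, hz₁⟩ : ∃ z₁, z₁ = (f z b)⁻¹ • z := ⟨_, rfl⟩
  have h1 : f z₁ b = 1 := by rw [hz₁, hf.smul_left, inv_mul_cancel₀ hzb]
  have h1' : f b z₁ = 1 := by rw [hf.herm b z₁, h1, map_one]
  have hfix : σ (f z₁ z₁) = f z₁ z₁ := herm_self_fixed hf z₁
  refine ⟨z₁ + (-(f z₁ z₁) * s / (s + σ s)) • b, add_mem (hz₁ ▸ U.smul_mem _ hz) (U.smul_mem _ hb), ?_, ?_⟩
  · have hst : σ (-(f z₁ z₁) * s / (s + σ s)) = -(f z₁ z₁) * σ s / (s + σ s) := by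
      rw [map_div₀, map_mul, map_neg, hfix, map_add, hf.involutive, add_comm (σ s) s]
    simp only [hf.add_left, hf.smul_left, herm_add_right hf, herm_smul_right hf, hbb, h1, h1', hst]
    field_simp
    ring
  · rw [hf.add_left, hf.smul_left, hbb, mul_zero, add_zero, h1]

/-- the torus of a hyperbolic pair -/
theorem exists_torus [Finite F] (hf : Cfsg.Geo.IsUnitaryForm σ f) {b w : Fin n → F} (hbb : f b b = 0)
    (hww : f w w = 0) (hwb : f w b = 1) {μ : F} (hμ : μ ≠ 0) :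
    ∃ h : GL (Fin n) F, (∀ u v, f ((h : Matrix (Fin n) (Fin n) F) *ᵥ u) ((h : Matrix (Fin n) (Fin n) F) *ᵥ v) = f u v) ∧
      (h : Matrix (Fin n) (Fin n) F).det = μ / σ μ ∧
      (h : Matrix (Fin n) (Fin n) F) *ᵥ b = μ • b ∧
      (h : Matrix (Fin n) (Fin n) F) *ᵥ w = (σ μ)⁻¹ • w ∧
      ∀ x, f x b = 0 → f x w = 0 → (h : Matrix (Fin n) (Fin n) F) *ᵥ x = x := by
  have hbw : f b w = 1 := by rw [hf.herm b w, hwb, map_one]
  have hσ : σ μ ≠ 0 := (map_ne_zero σ).2 hμ
  set T : Matrix (Fin n) (Fin n) F := 1 + (Matrix.of fun i (j : Fin 2) =>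
      (![(μ - 1) • b, ((σ μ)⁻¹ - 1) • w] j) i) * (Matrix.of fun (j : Fin 2) i =>
      (![hDual f w, hDual f b] j) i) with hT
  have happ : ∀ x, T *ᵥ x = x + (f x w * (μ - 1)) • b + (f x b * ((σ μ)⁻¹ - 1)) • w := by
    intro x
    rw [hT, add_mulVec, one_mulVec, ← mulVec_mulVec, add_assoc]
    congr 1
    funext i
    simp only [mulVec, dotProduct, Fin.sum_univ_two, Matrix.of_apply, Matrix.cons_val_zero,
      Matrix.cons_val_one, Pi.add_apply, Pi.smul_apply, smul_eq_mul]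
    rw [show (∑ j, hDual f w j * x j) = f x w from hDual_dot hf x w,
      show (∑ j, hDual f b j * x j) = f x b from hDual_dot hf x b]
    ring
  have hdet : T.det = μ / σ μ := by
    rw [hT, det_one_add_mul_comm, det_fin_two]
    simp only [Matrix.add_apply, Matrix.mul_apply, Matrix.one_apply_eq, Matrix.one_apply_ne zero_ne_one,
      Matrix.one_apply_ne one_ne_zero, Matrix.of_apply, Matrix.cons_val_zero, Matrix.cons_val_one]
    rw [show (∑ i, hDual f w i * ((μ - 1) • b) i) = f ((μ - 1) • b) w from hDual_dot hf _ w,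
      show (∑ i, hDual f b i * ((μ - 1) • b) i) = f ((μ - 1) • b) b from hDual_dot hf _ b,
      show (∑ i, hDual f w i * (((σ μ)⁻¹ - 1) • w) i) = f (((σ μ)⁻¹ - 1) • w) w from hDual_dot hf _ w,
      show (∑ i, hDual f b i * (((σ μ)⁻¹ - 1) • w) i) = f (((σ μ)⁻¹ - 1) • w) b from hDual_dot hf _ b]
    simp only [hf.smul_left, hbw, hbb, hww, hwb]
    field_simp
    ring
  have hne : T.det ≠ 0 := by rw [hdet]; exact div_ne_zero hμ hσ
  refine ⟨Matrix.GeneralLinearGroup.mk'' T (isUnit_iff_ne_zero.2 hne), fun u v => ?_, hdet, ?_, ?_,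
    fun x h1 h2 => ?_⟩
  · show f (T *ᵥ u) (T *ᵥ v) = f u v
    have e : σ ((σ μ)⁻¹ - 1) = μ⁻¹ - 1 := by rw [map_sub, map_inv₀, hf.involutive, map_one]
    simp only [happ, hf.add_left, hf.smul_left, herm_add_right hf, herm_smul_right hf, hbb, hww, hbw,
      hwb, map_mul, e, map_sub, map_one, Units.val_one, one_mul]
    rw [← hf.herm b v, ← hf.herm w v]
    field_simp
    ring
  · show T *ᵥ b = μ • b
    rw [happ, hbw, hbb]; module
  · show T *ᵥ w = (σ μ)⁻¹ • w
    rw [happ, hww, hwb]; module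
  · show T *ᵥ x = x
    rw [happ, h1, h2]; simp

/-- the full line `F · H a` at centre `b`, with `a` isotropic and independent of `b` -/
theorem exists_line (hf : Cfsg.Geo.IsUnitaryForm σ f) (hn : 4 ≤ n)
    (hM : Cfsg.Geo.similarityGroup f ⊓ Cfsg.Geo.specialLinear (Fin n) F ≤ M)
    {b ψ : Fin n → F} (hbb : f b b = 0) (hb0 : b ≠ 0) (h : HasTv M b ψ)
    (hψ : ψ ∉ Submodule.span F {hDual f b}) :
    ∃ a, f a a = 0 ∧ f a b = 0 ∧ a ∉ Submodule.span F {b} ∧
      ∀ u : F, HasTv M b (u • hDual f a) := by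
  obtain ⟨c₀, hc₀, hc₀'⟩ := exists_trace_zero hf
  obtain ⟨y, hy1, hy2⟩ := exists_dot_eq_zero_of_notMem hψ
  have hex : ∃ z ∈ dotKer (hDual f b), ψ ⬝ᵥ z ≠ 0 := ⟨y, hy1, by rw [hy2]; exact one_ne_zero⟩
  obtain ⟨a, hab', haa, hψa, -⟩ :=
    exists_isotropic_avoid_four hf (half_space hn (hDual f b)) hex hex
  have hab : f a b = 0 := by rw [← hDual_dot hf]; exact hab'
  have hba : f b a = 0 := herm_eq_zero_comm hf hab
  have hspan : a ∉ Submodule.span F {b} := fun hmem => by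
    obtain ⟨e, he⟩ := Submodule.mem_span_singleton.mp hmem
    rw [← he, dotProduct_smul, h.1, smul_zero] at hψa
    exact hψa rfl
  refine ⟨a, haa, hab, hspan, ?_⟩
  let G : AddSubgroup F :=
    { carrier := {u | HasTv M b (u • hDual f a)}
      add_mem' := fun {u v} hu hv => by
        show HasTv M b ((u + v) • hDual f a); rw [add_smul]; exact HasTv.add hu hv
      zero_mem' := by show HasTv M b ((0 : F) • hDual f a); rw [zero_smul]; exact hasTv_zero b
      neg_mem' := fun {u} hu => by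
        show HasTv M b ((-u) • hDual f a); rw [neg_smul]; exact HasTv.neg hu }
  set k := (ψ ⬝ᵥ a) * c₀ with hk
  have hk0 : k ≠ 0 := mul_ne_zero hψa hc₀
  have hnorm : ∀ s : F, k * (s * σ s) ∈ G := by
    intro s
    have h0 : f (s • a) (s • a) = 0 := by rw [hf.smul_left, herm_smul_right hf, haa, mul_zero, mul_zero]
    have h0' : f b (s • a) = 0 := by rw [herm_smul_right hf, hba, mul_zero]
    have h1 := (unitary_tv hf hM h0 hc₀').comm h (by rw [smul_dotProduct, hDual_dot hf, h0', smul_zero])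
    rw [hDual_smul hf, smul_smul, smul_smul, dotProduct_smul, smul_eq_mul] at h1
    show HasTv M b _
    convert h1 using 2
    rw [hk]; ring
  -- hyperbolic partners
  obtain ⟨z, hz, hza⟩ : ∃ z, f z b ≠ 0 ∧ f z a = 0 := by
    obtain ⟨z, h1, h2⟩ := exists_dot_eq_zero_of_notMem (φ := hDual f a) (ψ := hDual f b) fun hmem => by
      refine hspan ?_
      obtain ⟨e, he⟩ := Submodule.mem_span_singleton.1 (mem_span_of_hDual hf hmem)
      have he0 : e ≠ 0 := fun e0 => hb0 (by rw [← he, e0, zero_smul])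
      exact Submodule.mem_span_singleton.2 ⟨e⁻¹, by rw [← he, smul_smul, inv_mul_cancel₀ he0, one_smul]⟩
    rw [hDual_dot hf] at h1 h2
    exact ⟨z, by rw [h2]; exact one_ne_zero, h1⟩
  obtain ⟨w, hw, hww, hwb⟩ := exists_pair hf (U := dotKer (hDual f a))
    (show hDual f a ⬝ᵥ b = 0 by rw [hDual_dot hf, hba]) hbb
    (show hDual f a ⬝ᵥ z = 0 by rw [hDual_dot hf, hza]) hz
  have hwa : f w a = 0 := by rw [← hDual_dot hf]; exact hw
  obtain ⟨z', hz'a, hz'b, hz'w⟩ : ∃ z', f z' a ≠ 0 ∧ f z' b = 0 ∧ f z' w = 0 := by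
    obtain ⟨x, hx⟩ := exists_dot_ne (hDual_ne_zero hf (v := a) fun e => hspan (by rw [e]; exact zero_mem _))
    rw [hDual_dot hf] at hx
    have hbw : f b w = 1 := by rw [hf.herm b w, hwb, map_one]
    refine ⟨x + (-f x b) • w + (-f x w) • b, ?_, ?_, ?_⟩
    · rw [hf.add_left, hf.add_left, hf.smul_left, hf.smul_left, hwa, hba, hx]; simp
    · rw [hf.add_left, hf.add_left, hf.smul_left, hf.smul_left, hwb, hbb]; ring
    · rw [hf.add_left, hf.add_left, hf.smul_left, hf.smul_left, hww, hbw]; ring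
  obtain ⟨c, hc, hcc, hca⟩ := exists_pair hf (U := dotKer (hDual f b) ⊓ dotKer (hDual f w))
    (show a ∈ _ from ⟨hab', show hDual f w ⬝ᵥ a = 0 by rw [hDual_dot hf, herm_eq_zero_comm hf hwa]⟩) haa
    (show z' ∈ _ from ⟨show hDual f b ⬝ᵥ z' = 0 by rw [hDual_dot hf, hz'b],
      show hDual f w ⬝ᵥ z' = 0 by rw [hDual_dot hf, hz'w]⟩) hz'a
  have hcb : f c b = 0 := by rw [← hDual_dot hf]; exact hc.1
  have hcw : f c w = 0 := by rw [← hDual_dot hf]; exact hc.2
  obtain ⟨y, hy0, hy⟩ := exists_twist hf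
  have hscale : ∀ u ∈ G, (y / σ y) * u ∈ G := by
    intro u hu
    obtain ⟨h₁, h₁s, h₁d, h₁b, -, h₁f⟩ := exists_torus hf hbb hww hwb hy0
    obtain ⟨h₂, h₂s, h₂d, h₂a, -, h₂f⟩ := exists_torus hf haa hcc hca (inv_ne_zero hy0)
    obtain ⟨k', hk'⟩ : ∃ k' : GL (Fin n) F, k' = h₁ * h₂ := ⟨_, rfl⟩
    have hiso : ∀ u v, f ((k' : Matrix (Fin n) (Fin n) F) *ᵥ u) ((k' : Matrix (Fin n) (Fin n) F) *ᵥ v)
        = f u v := fun u v => by
      rw [hk', Units.val_mul, ← mulVec_mulVec, ← mulVec_mulVec, h₁s, h₂s]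
    have hmem : k' ∈ M := by
      refine hM ⟨⟨1, fun u v => by rw [hiso, Units.val_one, one_mul]⟩, ?_⟩
      show Matrix.GeneralLinearGroup.det k' = 1
      rw [Units.ext_iff]
      show (k' : Matrix (Fin n) (Fin n) F).det = 1
      rw [hk', Units.val_mul, det_mul, h₁d, h₂d, map_inv₀]
      field_simp [(map_ne_zero σ).2 hy0]
    have hb' : (k' : Matrix (Fin n) (Fin n) F) *ᵥ b = y • b := by
      rw [hk', Units.val_mul, ← mulVec_mulVec, h₂f b hba (herm_eq_zero_comm hf hcb), h₁b]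
    have ha' : (k' : Matrix (Fin n) (Fin n) F) *ᵥ a = y⁻¹ • a := by
      rw [hk', Units.val_mul, ← mulVec_mulVec, h₂a, mulVec_smul, h₁f a hab (herm_eq_zero_comm hf hwa)]
    have hd : (u • hDual f a) ᵥ* ((k'⁻¹ : GL (Fin n) F) : Matrix (Fin n) (Fin n) F) =
        ((σ y)⁻¹ * u) • hDual f a := by
      refine dotProduct_eq _ _ fun x => ?_
      rw [← dotProduct_mulVec, smul_dotProduct, smul_dotProduct, hDual_dot hf, hDual_dot hf,
        ← hiso (_ *ᵥ x) a, mulVec_mulVec_inv, ha', herm_smul_right hf, map_inv₀, smul_eq_mul, smul_eq_mul]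
      ring
    have h1 := HasTv.conj (show HasTv M b (u • hDual f a) from hu) hmem
    rw [hb', hd, hasTv_smul_iff hy0, smul_smul] at h1
    show HasTv M b _
    convert h1 using 2
    ring
  intro u
  set ε := y / σ y with hε
  have hεε : ε - σ ε ≠ 0 := sub_ne_zero.2 (Ne.symm hy)
  set B := (u / k - σ (u / k)) / (ε - σ ε) with hB
  have hBfix : σ B = B := by
    rw [hB, map_div₀, map_sub, map_sub, hf.involutive, hf.involutive, ← neg_sub (u / k) (σ (u / k)),
      ← neg_sub ε (σ ε), neg_div_neg_eq]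
  set A := u / k - B * ε with hA
  have hAfix : σ A = A := by
    rw [hA, map_sub, map_mul, hBfix]
    have : B * (ε - σ ε) = u / k - σ (u / k) := by rw [hB, div_mul_cancel₀ _ hεε]
    linear_combination this
  obtain ⟨s₁, hs₁⟩ := exists_norm_eq hf hAfix
  obtain ⟨s₂, hs₂⟩ := exists_norm_eq hf hBfix
  have hu : u ∈ G := by
    have e : u = k * (s₁ * σ s₁) + ε * (k * (s₂ * σ s₂)) := by
      rw [hs₁, hs₂, hA]; field_simp; ring
    rw [e]
    exact add_mem (hnorm s₁) (hscale _ (hnorm s₂))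
  exact hu

/-- one line gives every transvection with the same centre -/
theorem closure_line (hf : Cfsg.Geo.IsUnitaryForm σ f) (hn : 4 ≤ n)
    (hM : Cfsg.Geo.similarityGroup f ⊓ Cfsg.Geo.specialLinear (Fin n) F ≤ M)
    {b a : Fin n → F} (hbb : f b b = 0) (haa : f a a = 0) (hab : f a b = 0)
    (hspan : a ∉ Submodule.span F {b}) (h : ∀ u : F, HasTv M b (u • hDual f a)) :
    ∀ φ, φ ⬝ᵥ b = 0 → HasTv M b φ := by
  obtain ⟨c₀, hc₀, hc₀'⟩ := exists_trace_zero hf
  let P : Submodule F (Fin n → F) :=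
    { carrier := {y | ∀ u : F, HasTv M b (u • hDual f y)}
      add_mem' := fun {x y} hx hy u => by
        rw [hDual_add hf, smul_add]; exact (hx u).add (hy u)
      zero_mem' := fun u => by rw [hDual_zero hf, smul_zero]; exact hasTv_zero b
      smul_mem' := fun c y hy u => by rw [hDual_smul hf, smul_smul]; exact hy _ }
  have near : ∀ a a', a ∈ P → f a' a' = 0 → f a' b = 0 → f a' a ≠ 0 → a' ∈ P := by
    intro a a' ha ha' ha'b hne u
    have h1 := (unitary_tv hf hM ha' hc₀').comm (ha (u / (f a' a * c₀)))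
      (by rw [smul_dotProduct, hDual_dot hf, herm_eq_zero_comm hf ha'b, smul_zero])
    rw [smul_dotProduct, hDual_dot hf, smul_smul, smul_eq_mul] at h1
    rwa [show u / (f a' a * c₀) * f a' a * c₀ = u by
      rw [mul_assoc, div_mul_cancel₀ _ (mul_ne_zero hne hc₀)]] at h1
  have hnz : ∀ z, z ∉ Submodule.span F {b} → ∃ y ∈ dotKer (hDual f b), hDual f z ⬝ᵥ y ≠ 0 := by
    intro z hz
    obtain ⟨y, hy1, hy2⟩ := exists_dot_eq_zero_of_notMem
      (φ := hDual f b) (ψ := hDual f z) fun hmem => hz (mem_span_of_hDual hf hmem)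
    exact ⟨y, hy1, by rw [hy2]; exact one_ne_zero⟩
  have hout : ∀ a', f a' a' = 0 → f a' b = 0 → a' ∉ Submodule.span F {b} → a' ∈ P := by
    intro a' ha' ha'b hsp
    obtain ⟨w, hwb, hww, hwa, hwa'⟩ :=
      exists_isotropic_avoid_four hf (half_space hn (hDual f b)) (hnz a hspan) (hnz a' hsp)
    rw [hDual_dot hf] at hwa hwa'
    have hwb' : f w b = 0 := by rw [← hDual_dot hf]; exact hwb
    have hwP : w ∈ P := near a w h hww hwb' hwa
    exact near w a' hwP ha' ha'b fun e => hwa' (herm_eq_zero_comm hf e)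
  have hle : dotKer (hDual f b) ≤ P := le_of_isotropic_mem_four hf (half_space hn _) fun x hx hxx => by
    have hxb : f x b = 0 := by rw [← hDual_dot hf]; exact hx
    by_cases hsp : x ∈ Submodule.span F {b}
    · have h2 : a + x ∈ P := by
        refine hout _ ?_ (by rw [hf.add_left, hab, hxb, add_zero]) fun hmem => hspan ?_
        · obtain ⟨e, rfl⟩ := Submodule.mem_span_singleton.mp hsp
          simp [hf.add_left, hf.smul_left, herm_add_right hf, herm_smul_right hf, haa, hbb, hab,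
            herm_eq_zero_comm hf hab]
        · simpa using sub_mem hmem hsp
      simpa using sub_mem h2 (h : a ∈ P)
    · exact hout x hxx hxb hsp
  intro φ hφ
  obtain ⟨y, rfl⟩ := hDual_surjective hf φ
  rw [hDual_dot hf] at hφ
  have hy : y ∈ dotKer (hDual f b) := by
    show hDual f b ⬝ᵥ y = 0
    rw [hDual_dot hf]; exact herm_eq_zero_comm hf hφ
  simpa using hle hy 1

/-- passing to a non-orthogonal isotropic centre -/
theorem transfer (hf : Cfsg.Geo.IsUnitaryForm σ f) (hn : 4 ≤ n)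
    (hM : Cfsg.Geo.similarityGroup f ⊓ Cfsg.Geo.specialLinear (Fin n) F ≤ M)
    {b a : Fin n → F} (hfull : ∀ φ, φ ⬝ᵥ b = 0 → HasTv M b φ)
    (haa : f a a = 0) (hba : f b a ≠ 0) : ∀ φ, φ ⬝ᵥ a = 0 → HasTv M a φ := by
  obtain ⟨c₀, hc₀, hc₀'⟩ := exists_trace_zero hf
  have ha0 : a ≠ 0 := fun e => hba (by rw [e, herm_zero_right hf])
  have hdim0 := finrank_dotKer_ge (hDual f b)
  have hdim := finrank_le_inf_dotKer (dotKer (hDual f b)) (hDual f a)
  obtain ⟨a₃, ⟨h3b, h3a⟩, h30, h33⟩ := exists_isotropic hf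
    (U := dotKer (hDual f b) ⊓ dotKer (hDual f a)) (by omega)
  have h3b' : f a₃ b = 0 := by rw [← hDual_dot hf]; exact h3b
  have h3a' : f a₃ a = 0 := by rw [← hDual_dot hf]; exact h3a
  refine closure_line hf hn hM haa h33 h3a' (fun hmem => ?_) fun u => ?_
  · obtain ⟨e, he⟩ := Submodule.mem_span_singleton.mp hmem
    have := h3b'
    rw [← he, hf.smul_left, mul_eq_zero] at this
    rcases this with e0 | e0
    · exact h30 (by rw [← he, e0, zero_smul])
    · exact hba (herm_eq_zero_comm hf e0)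
  · have h1 := (hfull ((u / (c₀ * f b a)) • hDual f a₃)
      (by rw [smul_dotProduct, hDual_dot hf, herm_eq_zero_comm hf h3b', smul_zero])).comm
        (unitary_tv hf hM haa hc₀')
        (by rw [smul_dotProduct, hDual_dot hf, herm_eq_zero_comm hf h3a', smul_zero])
    rw [smul_dotProduct, hDual_dot hf, smul_smul, smul_eq_mul,
      mul_div_cancel₀ _ (mul_ne_zero hc₀ hba)] at h1
    exact h1

theorem key (hf : Cfsg.Geo.IsUnitaryForm σ f) (hn : 4 ≤ n)
    (hM : Cfsg.Geo.similarityGroup f ⊓ Cfsg.Geo.specialLinear (Fin n) F ≤ M)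
    {g : GL (Fin n) F} (hg : g ∈ M) (hgS : g ∉ Cfsg.Geo.similarityGroup f) :
    Cfsg.Geo.specialLinear (Fin n) F ≤ M := by
  obtain ⟨b₁, ψ₁, h₁, hnu⟩ := exists_nonUnitary hf hn hM hg hgS
  obtain ⟨b, ψ, hbb, hb0, h, hψ⟩ := exists_iso_noncol hf hn hM h₁ hnu
  obtain ⟨a, haa, hab, hspan, hline⟩ := exists_line hf hn hM hbb hb0 h hψ
  have hfull := closure_line hf hn hM hbb haa hab hspan hline
  have hiso : ∀ x, x ≠ 0 → f x x = 0 → ∀ φ, φ ⬝ᵥ x = 0 → HasTv M x φ := by
    intro x hx0 hxx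
    have htop : ∀ z, z ≠ 0 → ∃ y ∈ (⊤ : Submodule F (Fin n → F)), hDual f z ⬝ᵥ y ≠ 0 := fun z hz => by
      obtain ⟨y, hy⟩ := exists_dot_ne (hDual_ne_zero hf hz)
      exact ⟨y, trivial, by rw [hy]; exact one_ne_zero⟩
    obtain ⟨w, -, hww, hwb, hwx⟩ :=
      exists_isotropic_avoid_four hf (whole_space hn) (htop b hb0) (htop x hx0)
    rw [hDual_dot hf] at hwb hwx
    exact transfer hf hn hM
      (transfer hf hn hM hfull hww fun e => hwb (herm_eq_zero_comm hf e)) hxx hwx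
  refine specialLinear_le_of_forall_center fun x φ _ hφ => ?_
  let P : Submodule F (Fin n → F) :=
    { carrier := {y | φ ⬝ᵥ y = 0 ∧ ∀ s : F, HasTv M (s • y) φ}
      add_mem' := fun {u v} hu hv => ⟨by rw [dotProduct_add, hu.1, hv.1, add_zero],
        fun s => by rw [smul_add]; exact (hu.2 s).add_left (hv.2 s)⟩
      zero_mem' := ⟨dotProduct_zero φ, fun s => by rw [smul_zero]; exact hasTv_zero_left φ⟩
      smul_mem' := fun c y hy => ⟨by rw [dotProduct_smul, hy.1, smul_zero],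
        fun s => by rw [smul_smul]; exact hy.2 _⟩ }
  have hle : dotKer φ ≤ P := le_of_isotropic_mem_four hf (half_space hn φ) fun y hy hyy => by
    refine ⟨hy, fun s => ?_⟩
    rcases eq_or_ne (s • y) 0 with e | e
    · rw [e]; exact hasTv_zero_left φ
    · refine hiso _ e (by rw [hf.smul_left, herm_smul_right hf, hyy, mul_zero, mul_zero]) φ ?_
      rw [dotProduct_smul, show φ ⬝ᵥ y = 0 from hy, smul_zero]
  simpa using (hle (show x ∈ dotKer φ from hφ)).2 1

end CfsgLib.MaxSub.UnitFour
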