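import Cfsg.Agent.Lib.MaxSub.BlockTwo
import Cfsg.Agent.Lib.MaxSub.MonoFour
import Cfsg.Agent.Lib.MaxSub.UnitFour
import Cfsg.Agent.Lib.MaxSub.SubFour
import Cfsg.Agent.Lib.MaxSub.DecompTransport
import Cfsg.Agent.Lib.MaxSub.SlAll

/-!
Geometric maximal subgroups of `SL₄`.
-/

set_option autoImplicit false
open Cfsg

namespace CfsgLib.MaxSub.SlFour

open Matrix CfsgLib.MaxSub CfsgLib.MaxSub.DecompMax

/-- Two complementary planes of `F⁴`, at least four scalars. -/
theorem two_planes_maximal {F : Type*} [Field F] [Fintype F] (h4 : 4 ≤ Fintype.card F) (D : Fin 2 → Submodule F (Fin 4 → F)) (hD : Cfsg.Geo.IsMDecomposition 2 D) : Cfsg.Geo.IsMaximalIn (Cfsg.Geo.specialLinear (Fin 4) F) (Cfsg.Geo.decompositionStabilizer D ⊓ Cfsg.Geo.specialLinear (Fin 4) F) := by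
  classical
  obtain ⟨ψ, hψ⟩ := Decomp.exists_coord hD
  let E := coordGL (pairCoord ψ)
  suffices h : Cfsg.Geo.IsMaximalIn (Cfsg.Geo.specialLinear (Fin 2 × Fin 2) F)
      ((Cfsg.Geo.decompositionStabilizer D ⊓ Cfsg.Geo.specialLinear (Fin 4) F).map E.toMonoidHom) by
    have h' := isMaximalIn_map E.symm h
    rw [Subgroup.map_map, ← map_coordGL_sl (pairCoord ψ), Subgroup.map_map] at h'
    simpa [E, ← MulEquiv.coe_monoidHom_trans, Subgroup.map_id] using h'
  have hH : ∀ y, y ∈ (Cfsg.Geo.decompositionStabilizer D ⊓ Cfsg.Geo.specialLinear (Fin 4) F).map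
      E.toMonoidHom ↔ IsBlockMono Prod.snd (y : Matrix (Fin 2 × Fin 2) (Fin 2 × Fin 2) F) ∧
        y ∈ Cfsg.Geo.specialLinear (Fin 2 × Fin 2) F := by
    intro y
    obtain ⟨g, rfl⟩ := E.surjective y
    rw [coordGL_mem_sl, ← mem_decompositionStabilizer_iff hD ψ hψ]
    exact (Subgroup.mem_map_iff_mem E.injective).trans Subgroup.mem_inf
  let P₀ : Fin 2 × Fin 2 := (⟨0, hD.pos⟩, ⟨0, by omega⟩)
  let P₁ : Fin 2 × Fin 2 := (⟨0, hD.pos⟩, ⟨1, by omega⟩)
  have hne : P₀ ≠ P₁ := fun e => by simpa [P₀, P₁] using congrArg (fun p => p.2.val) e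
  refine isMaximalIn_of_lt (SetLike.lt_iff_le_and_exists.2 ⟨fun y hy => ((hH y).1 hy).2, ?_⟩) ?_
  · have h0 : Pi.single P₁ (1 : F) ⬝ᵥ Pi.single P₀ 1 = 0 := by simp [hne.symm]
    refine ⟨tvGL _ _ h0, tvGL_mem_specialLinear _ _ h0, fun hm => ?_⟩
    obtain ⟨b, hb⟩ := ((hH _).1 hm).1 P₁.2
    by_cases e : P₀.2 = b
    · have := hb P₁ P₁ rfl (fun e' => absurd (e.trans e'.symm) (by simp [P₀, P₁]))
      simp [tvMat, Matrix.vecMulVec_apply, hne] at this
    · have := hb P₁ P₀ rfl e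
      simp [tvMat, Matrix.vecMulVec_apply, hne] at this
  intro M hle hMle g hg hgH
  have hnm : ¬ IsBlockMono Prod.snd (g : Matrix (Fin 2 × Fin 2) (Fin 2 × Fin 2) F) := fun h =>
    hgH ((hH g).2 ⟨h, hMle hg⟩)
  exact sl_le_two_planes (fun y hy hym => hle ((hH y).2 ⟨hym, hy⟩)) (Fintype.card_fin 2)
    (Fintype.card_fin 2) h4 hg hnm

/-- For a finite field F and n ≥ 4, let σ be a field automorphism of F of order two and f a non-degenerate unitary form on F^n with respect to σ. Then the elements of SL_n(F) that are similarities of f form a maximal subgroup of SL_n(F). -/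
theorem unitary_maximal_four {F : Type*} [Field F] [Fintype F] (n : ℕ) (hn : 4 ≤ n) (σ : F ≃+* F) (f : (Fin n → F) → (Fin n → F) → F) (hf : Cfsg.Geo.IsUnitaryForm σ f) : Cfsg.Geo.IsMaximalIn (Cfsg.Geo.specialLinear (Fin n) F) (Cfsg.Geo.similarityGroup f ⊓ Cfsg.Geo.specialLinear (Fin n) F) := by
  refine isMaximalIn_of_lt (lt_of_le_of_ne inf_le_right fun heq => ?_) fun M hM1 hM2 g hg hgH =>
    UnitFour.key hf hn hM1 hg fun hgS => hgH ⟨hgS, hM2 hg⟩
  obtain ⟨a, -, ha0, ha⟩ := exists_isotropic hf (U := (⊤ : Submodule F (Fin n → F)))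
    (by rw [finrank_top, Module.finrank_fin_fun]; omega)
  obtain ⟨s, hs⟩ := exists_trace_ne hf
  have h0 : (s • hDual f a) ⬝ᵥ a = 0 := by rw [smul_dotProduct, hDual_dot hf, ha, smul_zero]
  have hT := tvGL_mem_specialLinear a (s • hDual f a) h0
  rw [← heq] at hT
  obtain ⟨⟨c, hc⟩, -⟩ := hT
  simp only [coe_tvGL, tvMat_mulVec, smul_dotProduct, hDual_dot hf, hf.add_left,
    herm_add_right hf, hf.smul_left, herm_smul_right hf, ha, smul_eq_mul, mul_zero, add_zero,
    map_mul] at hc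
  obtain ⟨y, hy⟩ := (hf.nondegenerate a ha0).1
  have hya : f a y ≠ 0 := fun e => hy (herm_eq_zero_comm hf e)
  have hc1 : (c : F) = 1 := by
    have e1 := hc y a
    simp only [ha, map_zero, mul_zero, zero_mul, add_zero] at e1
    exact (mul_right_cancel₀ hy (by rw [one_mul]; exact e1)).symm
  have e2 := hc y y
  rw [← hf.herm a y, hc1, one_mul] at e2
  have h3 : (s + σ s) * (f y a * f a y) = 0 := by linear_combination e2
  exact hs ((mul_eq_zero.mp h3).resolve_right (mul_ne_zero hy hya))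

/-- For a finite field F, a subfield F₀ with |F| = |F₀| ^ r for a prime r, and n = 4, the subfield group (the conjugate by any P of the product of GL_n(F₀) with the non-zero scalars of F, intersected with SL_n(F)) is a maximal subgroup of SL_n(F). -/
theorem subfield_maximal_four {F : Type*} [Field F] [Fintype F] (F₀ : Subfield F) (r : ℕ) (hr : r.Prime) (hcard : Fintype.card F = Nat.card F₀ ^ r) (P : Matrix.GeneralLinearGroup (Fin 4) F) : Cfsg.Geo.IsMaximalIn (Cfsg.Geo.specialLinear (Fin 4) F) (Cfsg.Geo.subfieldSubgroup F₀ P ⊓ Cfsg.Geo.specialLinear (Fin 4) F) := by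
  have h := isMaximalIn_map (MulAut.conj P) (SubFour.base_four (F := F) (n := 4) rfl F₀ r hr hcard)
  have hsl : (Cfsg.Geo.specialLinear (Fin 4) F).map (MulAut.conj P).toMonoidHom =
      Cfsg.Geo.specialLinear (Fin 4) F := by
    haveI : (Cfsg.Geo.specialLinear (Fin 4) F).Normal := MonoidHom.normal_ker _
    exact le_antisymm (Subgroup.map_le_iff_le_comap.2 fun x hx => Subgroup.Normal.conj_mem inferInstance x hx P) fun x hx => ⟨P⁻¹ * x * P, by simpa using Subgroup.Normal.conj_mem (H := Cfsg.Geo.specialLinear (Fin 4) F) inferInstance x hx P⁻¹, by simp [mul_assoc]⟩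
  have hsub : (Cfsg.Geo.subfieldSubgroup F₀ (1 : GL (Fin 4) F)).map (MulAut.conj P).toMonoidHom =
      Cfsg.Geo.subfieldSubgroup F₀ P := by
    rw [Cfsg.Geo.subfieldSubgroup, Cfsg.Geo.subfieldSubgroup, map_one, Subgroup.map_map]
    rfl
  rwa [Subgroup.map_inf _ _ _ (MulAut.conj P).injective, hsl, hsub] at h

/-- Four independent lines of `F⁴`, at least seven scalars. -/
theorem frame_maximal_four {F : Type*} [Field F] [Fintype F] (h7 : 7 ≤ Fintype.card F) (D : Fin 4 → Submodule F (Fin 4 → F)) (hD : Cfsg.Geo.IsMDecomposition 1 D) : Cfsg.Geo.IsMaximalIn (Cfsg.Geo.specialLinear (Fin 4) F) (Cfsg.Geo.decompositionStabilizer D ⊓ Cfsg.Geo.specialLinear (Fin 4) F) := by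
  classical
  obtain ⟨ψ, hψ⟩ := Decomp.exists_coord hD
  let E := coordGL (pairCoord ψ)
  suffices h : Cfsg.Geo.IsMaximalIn (Cfsg.Geo.specialLinear (Fin 1 × Fin 4) F)
      ((Cfsg.Geo.decompositionStabilizer D ⊓ Cfsg.Geo.specialLinear (Fin 4) F).map E.toMonoidHom) by
    have h' := isMaximalIn_map E.symm h
    rw [Subgroup.map_map, ← map_coordGL_sl (pairCoord ψ), Subgroup.map_map] at h'
    simpa [E, ← MulEquiv.coe_monoidHom_trans, Subgroup.map_id] using h'
  have hH : ∀ y, y ∈ (Cfsg.Geo.decompositionStabilizer D ⊓ Cfsg.Geo.specialLinear (Fin 4) F).map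
      E.toMonoidHom ↔ IsBlockMono Prod.snd (y : Matrix (Fin 1 × Fin 4) (Fin 1 × Fin 4) F) ∧
        y ∈ Cfsg.Geo.specialLinear (Fin 1 × Fin 4) F := by
    intro y
    obtain ⟨g, rfl⟩ := E.surjective y
    rw [coordGL_mem_sl, ← mem_decompositionStabilizer_iff hD ψ hψ]
    exact (Subgroup.mem_map_iff_mem E.injective).trans Subgroup.mem_inf
  let P₀ : Fin 1 × Fin 4 := (0, 0)
  let P₁ : Fin 1 × Fin 4 := (0, 1)
  have hne : P₀ ≠ P₁ := by simp [P₀, P₁]
  refine isMaximalIn_of_lt (SetLike.lt_iff_le_and_exists.2 ⟨fun y hy => ((hH y).1 hy).2, ?_⟩) ?_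
  · have h0 : Pi.single P₁ (1 : F) ⬝ᵥ Pi.single P₀ 1 = 0 := by simp [hne.symm]
    refine ⟨tvGL _ _ h0, tvGL_mem_specialLinear _ _ h0, fun hm => ?_⟩
    obtain ⟨b, hb⟩ := ((hH _).1 hm).1 P₁.2
    by_cases e : P₀.2 = b
    · have := hb P₁ P₁ rfl (fun e' => absurd (e.trans e'.symm) (by simp [P₀, P₁]))
      simp [tvMat, Matrix.vecMulVec_apply, hne] at this
    · have := hb P₁ P₀ rfl e
      simp [tvMat, Matrix.vecMulVec_apply, hne] at this
  intro M hle hMle g hg hgH
  have hnm : ¬ IsBlockMono Prod.snd (g : Matrix (Fin 1 × Fin 4) (Fin 1 × Fin 4) F) := fun h =>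
    hgH ((hH g).2 ⟨h, hMle hg⟩)
  have hinj : Function.Injective (Prod.snd : Fin 1 × Fin 4 → Fin 4) := fun p q e =>
    Prod.ext (Subsingleton.elim _ _) e
  have hiff : ∀ y : Matrix (Fin 1 × Fin 4) (Fin 1 × Fin 4) F,
      IsBlockMono Prod.snd y ↔ IsBlockMono id y := by
    intro y
    constructor
    · intro h P
      obtain ⟨b, hb⟩ := h P.2
      exact ⟨(0, b), fun i j hi hj => hb i j (congrArg Prod.snd hi) fun e => hj (hinj e)⟩
    · intro h a
      obtain ⟨Q, hQ⟩ := h (0, a)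
      exact ⟨Q.2, fun i j hi hj => hQ i j (hinj hi) fun e => hj (congrArg Prod.snd e)⟩
  exact sl_le_monomial_four (fun y hy hym => hle ((hH y).2 ⟨(hiff _).2 hym, hy⟩)) hMle h7 (by simp) hg
    (fun h => hnm ((hiff _).2 h))

end CfsgLib.MaxSub.SlFour
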