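import Cfsg.Agent.Lib.MaxSub.SympTypeFourApply

/-!
Elements of prime order of `SL₄(p)`, `p ≡ 1 (mod 4)`, and the normaliser of a group of symplectic type.
-/

set_option autoImplicit false
set_option linter.unusedSectionVars false
set_option linter.style.haveILetI false
set_option maxHeartbeats 1000000

namespace CfsgLib.MaxSub.SymFour.Linear

open scoped MatrixGroups
open Cfsg.Geo Matrix CfsgLib.MaxSub.SymFour

variable {F : Type*} [Field F] [Fintype F] {p : ℕ} [Fact p.Prime] [CharP F p]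
  (hF : Fintype.card F = p) (hp4 : p % 4 = 1)
  {R : Subgroup (GL (Fin 4) F)} (hR : Pauli R)

local notation "M4" => Matrix (Fin 4) (Fin 4) F

/-- Every element of order `r` has a conjugate in the normaliser. -/
def AllFix (R : Subgroup (GL (Fin 4) F)) (r : ℕ) : Prop :=
  ∀ x ∈ specialLinear (Fin 4) F,
    (∃ z : F, ((x ^ r : GL (Fin 4) F) : Matrix (Fin 4) (Fin 4) F) = z • (1 : Matrix (Fin 4) (Fin 4) F)) →
      (∀ z : F, (x : Matrix (Fin 4) (Fin 4) F) ≠ z • (1 : Matrix (Fin 4) (Fin 4) F)) →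
      ∃ g ∈ specialLinear (Fin 4) F, g⁻¹ * x * g ∈ subgroupNormalizer R

omit [Fintype F] in
theorem mem_SL {x : GL (Fin 4) F} : x ∈ specialLinear (Fin 4) F ↔ (x : M4).det = 1 := by
  rw [specialLinear, MonoidHom.mem_ker, Units.ext_iff]; rfl

include hF hp4

omit [CharP F p] in
theorem five_le : 5 ≤ p := by
  have := (Fact.out : p.Prime).two_le
  omega

theorem cast_ne_zero {k : ℕ} (h0 : 0 < k) (h : k < p) : (k : F) ≠ 0 := fun e => by
  rw [CharP.cast_eq_zero_iff F p] at e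
  exact absurd (Nat.le_of_dvd h0 e) (by omega)

theorem two_ne : (2 : F) ≠ 0 := by
  have := five_le hF hp4
  exact_mod_cast cast_ne_zero hF hp4 (k := 2) (by norm_num) (by omega)

theorem three_ne : (3 : F) ≠ 0 := by
  have := five_le hF hp4
  exact_mod_cast cast_ne_zero hF hp4 (k := 3) (by norm_num) (by omega)

omit hp4 [CharP F p] in
theorem charpoly_pow (M : M4) : (M ^ p).charpoly = M.charpoly := by
  rw [← hF]; exact FiniteField.Matrix.charpoly_pow_card M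

omit hp4 [CharP F p] in
theorem three_facts (h3 : p % 3 = 2) {M : M4} (hM : M ^ 3 = 1) :
    (M ^ 2).charpoly = M.charpoly ∧ M.det = 1 := by
  refine ⟨?_, ?_⟩
  · rw [← charpoly_pow hF M, ← pow_mod_orderOf M p]
    congr 1
    rw [pow_mod_orderOf, pow_eq_pow_mod p hM, h3]
  · have hd : M.det ^ 3 = 1 := by rw [← Matrix.det_pow, hM, Matrix.det_one]
    have h0 : M.det ≠ 0 := fun h => by simp [h] at hd
    have hd' : M.det ^ (p - 1) = 1 := hF ▸ FiniteField.pow_card_sub_one_eq_one _ h0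
    rw [pow_eq_pow_mod (p - 1) hd, show (p - 1) % 3 = 1 by omega, pow_one] at hd'
    exact hd'

omit hp4 [CharP F p] in
theorem five_facts (h5 : p % 5 = 2 ∨ p % 5 = 3) {M : M4} (hM : M ^ 5 = 1) : (M ^ 2).charpoly = M.charpoly := by
  have key : ∀ k : ℕ, (M ^ k).charpoly = (M ^ (k * p % 5)).charpoly := fun k => by
    rw [← charpoly_pow hF (M ^ k), ← pow_mul, pow_eq_pow_mod (k * p) hM]
  rcases h5 with h | h
  · have := key 1
    rw [pow_one, one_mul, h] at this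
    exact this.symm
  · have e : ∀ k, k * p % 5 = k * 3 % 5 := fun k => by rw [Nat.mul_mod, h]; omega
    have h1 := key 1; have h2 := key 3; have h3 := key 4
    rw [pow_one, e] at h1; rw [e] at h2 h3
    norm_num at h1 h2 h3
    rw [h1, h2, h3]

theorem exists_iu (hz : Nat.card (Subgroup.center R) = 4) (hR : Pauli R) :
    ∃ iu ∈ R, iu * iu = -1 ∧ ∃ ci : F, ci * ci = -1 ∧ (iu : M4) = ci • (1 : M4) := hR.exists_iu hz

include hR

theorem not_fix_of_seven_le {r : ℕ} [Fact r.Prime] (h7 : 7 ≤ r)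
    (hdvd : r ∣ Nat.card (specialLinear (Fin 4) F)) : ¬ AllFix R r := by
  intro hfix
  obtain ⟨x, hx⟩ := exists_prime_orderOf_dvd_card' r hdvd
  have hxr : (x : GL (Fin 4) F) ^ r = 1 := by
    rw [← SubgroupClass.coe_pow, ← hx, pow_orderOf_eq_one, OneMemClass.coe_one]
  have hns : ∀ c : F, ((x : GL (Fin 4) F) : M4) ≠ c • (1 : M4) := by
    intro c hc
    have h4 : c ^ 4 = 1 := by
      have := mem_SL.1 x.2
      rwa [hc, Matrix.det_smul, Matrix.det_one, mul_one, Fintype.card_fin] at this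
    have hr' : c ^ r = 1 := by
      have := congrArg (fun u : GL (Fin 4) F => (u : M4) 0 0) hxr
      simp [Units.val_pow_eq_pow_val, hc, smul_pow] at this
      exact this
    have hr2 : r % 2 = 1 := (Nat.odd_iff.1 ((Fact.out : r.Prime).odd_of_ne_two (by omega)))
    have hc2 : orderOf c ∣ Nat.gcd 4 r :=
      Nat.dvd_gcd (orderOf_dvd_of_pow_eq_one h4) (orderOf_dvd_of_pow_eq_one hr')
    have hcop : Nat.Coprime 4 r := ((Nat.coprime_primes Nat.prime_two (Fact.out : r.Prime)).2 (by omega)).pow_left 2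
    rw [hcop.gcd_eq_one, Nat.dvd_one, orderOf_eq_one_iff] at hc2
    have hx1 : x = 1 := Subtype.ext (Units.ext (by rw [hc, hc2, one_smul]; rfl))
    rw [hx1, orderOf_one] at hx
    omega
  obtain ⟨g, -, hg⟩ := hfix x x.2 ⟨1, by rw [hxr, one_smul, Units.val_one]⟩ hns
  obtain ⟨y, hy, hyr, hyns, -⟩ := conj_data hg hns hxr
  obtain ⟨c, hc⟩ := hR.scalar_of_seven_le hy h7 hyr
  exact hyns c hc

theorem not_fix_three (h1 : p % 3 = 1) : ¬ AllFix R 3 := by
  intro hfix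
  haveI : Fact (Nat.Prime 3) := ⟨by norm_num⟩
  classical
  obtain ⟨w, hw⟩ := exists_prime_orderOf_dvd_card' (G := Fˣ) 3
    (by rw [Nat.card_eq_fintype_card, Fintype.card_units, hF]; omega)
  obtain ⟨ω, hω⟩ : ∃ ω : F, ω = (w : F) := ⟨_, rfl⟩
  have hw3 : ω ^ 3 = 1 := by
    rw [hω, ← Units.val_pow_eq_pow_val, ← hw, pow_orderOf_eq_one, Units.val_one]
  have hω1 : ω ≠ 1 := fun h => by
    rw [show w = 1 from Units.ext (hω ▸ h), orderOf_one] at hw; omega
  have hs : 1 + ω + ω ^ 2 = 0 :=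
    (mul_eq_zero.1 (show (ω - 1) * (1 + ω + ω ^ 2) = 0 by linear_combination hw3)).resolve_left (sub_ne_zero.2 hω1)
  obtain ⟨x, hx, hxi⟩ : ∃ x : GL (Fin 4) F, (x : M4) = Matrix.diagonal ![ω, ω, ω, 1] ∧
      ((x⁻¹ : GL (Fin 4) F) : M4) = Matrix.diagonal ![ω ^ 2, ω ^ 2, ω ^ 2, 1] := by
    refine ⟨⟨Matrix.diagonal ![ω, ω, ω, 1], Matrix.diagonal ![ω ^ 2, ω ^ 2, ω ^ 2, 1], ?_, ?_⟩, rfl, rfl⟩ <;>
      (rw [Matrix.diagonal_mul_diagonal, ← Matrix.diagonal_one]; congr 1; funext i; fin_cases i <;>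
        simp <;> linear_combination hw3)
  have hx3 : x ^ 3 = 1 := by
    refine Units.ext ?_
    rw [Units.val_pow_eq_pow_val, hx, Matrix.diagonal_pow, Units.val_one, ← Matrix.diagonal_one]
    congr 1; funext i; fin_cases i <;> simp [hw3]
  have hns : ∀ c : F, (x : M4) ≠ c • (1 : M4) := fun c hc => by
    rw [hx] at hc
    have a := congrFun (congrFun hc 0) 0
    have b := congrFun (congrFun hc 3) 3
    simp at a b
    exact hω1 (a.trans b.symm)
  obtain ⟨g, -, hg⟩ := hfix x (mem_SL.2 (by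
      rw [hx, Matrix.det_diagonal, Fin.prod_univ_four]; simp; linear_combination hw3))
    ⟨1, by rw [hx3, one_smul, Units.val_one]⟩ hns
  obtain ⟨y, hy, hyr, hyns, ht, hti⟩ := conj_data hg hns hx3
  have htr : (y : M4).trace * ((y⁻¹ : GL (Fin 4) F) : M4).trace = 7 := by
    rw [ht, hti, hx, hxi, Matrix.trace_diagonal, Matrix.trace_diagonal, Fin.sum_univ_four, Fin.sum_univ_four]
    simp
    linear_combination 9 * hw3 + 3 * hs
  rcases hR.trace_three hy hyns hyr with h | h <;> rw [htr] at h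
  · exact mul_ne_zero (two_ne hF hp4) (three_ne hF hp4) (by linear_combination h)
  · exact three_ne hF hp4 (by linear_combination h)

theorem not_fix_five (h5 : ¬ (p % 5 = 2 ∨ p % 5 = 3)) : ¬ AllFix R 5 := by
  intro hfix
  haveI : Fact (Nat.Prime 5) := ⟨by norm_num⟩
  rcases eq_or_ne p 5 with rfl | hp5
  · obtain ⟨N, hN⟩ : ∃ N : M4, N = Matrix.single 0 1 1 := ⟨_, rfl⟩
    have hN2 : N * N = 0 := by rw [hN, Matrix.single_mul_single_of_ne]; decide
    have hN0 : N ≠ 0 := fun h => by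
      have := congrFun (congrFun h 0) 1
      simp [hN] at this
    obtain ⟨x, hx⟩ : ∃ x : GL (Fin 4) F, (x : M4) = 1 + N :=
      ⟨⟨1 + N, 1 - N, by simp [mul_sub, add_mul, hN2], by simp [sub_mul, mul_add, hN2]⟩, rfl⟩
    have h50 : (5 : F) = 0 := by exact_mod_cast CharP.cast_eq_zero F 5
    have hx5 : ((x ^ 5 : GL (Fin 4) F) : M4) = (1 : F) • (1 : M4) := by
      rw [(pow_of_sq_zero hN2 hx 5).1]
      simp [h50]
    have hns : ∀ c : F, (x : M4) ≠ c • (1 : M4) := fun c hc => by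
      rw [hx, hN] at hc
      have := congrFun (congrFun hc 0) 1
      simp at this
    have hdet : (x : M4).det = 1 := by
      rw [hx, hN]; exact Matrix.det_transvection_of_ne 0 1 (by decide) 1
    obtain ⟨g, -, hg⟩ := hfix x (mem_SL.2 hdet) ⟨1, hx5⟩ hns
    obtain ⟨N', hN'⟩ : ∃ N', N' = ((g⁻¹ : GL (Fin 4) F) : M4) * N * (g : M4) := ⟨_, rfl⟩
    refine hR.false_of_unipotent_five hg h50 (N := N') ?_ ?_ ?_
    · rw [hN', show ((g⁻¹ : GL (Fin 4) F) : M4) * N * (g : M4) * (((g⁻¹ : GL (Fin 4) F) : M4) * N * (g : M4)) =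
        ((g⁻¹ : GL (Fin 4) F) : M4) * N * ((g : M4) * ((g⁻¹ : GL (Fin 4) F) : M4)) * (N * (g : M4)) by
          simp only [mul_assoc], Units.mul_inv, mul_one, mul_assoc, ← mul_assoc N, hN2]
      simp
    · intro h
      apply hN0
      calc N = (g : M4) * N' * ((g⁻¹ : GL (Fin 4) F) : M4) := by
            rw [hN', ← mul_assoc, ← mul_assoc, Units.mul_inv, one_mul, mul_assoc, Units.mul_inv, mul_one]
        _ = 0 := by rw [h, mul_zero, zero_mul]
    · rw [Units.val_mul, Units.val_mul, hx, mul_add, add_mul, mul_one, Units.inv_mul, ← hN']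
  · have hp2 : p ≠ 2 := by have := five_le hF hp4; omega
    have h5' : p % 5 ≠ 0 := fun h => hp5
      ((Nat.prime_dvd_prime_iff_eq (by norm_num) (Fact.out : p.Prime)).1 (Nat.dvd_of_mod_eq_zero h)).symm
    obtain ⟨q0, hq0⟩ := (isSquare_five_iff hp2).2 (show p % 5 = 0 ∨ p % 5 = 1 ∨ p % 5 = 4 by omega)
    obtain ⟨q, hq⟩ : ∃ q : F, q * q = 5 := ⟨ZMod.castHom dvd_rfl F q0, by
      rw [← map_mul, ← hq0, map_ofNat]⟩
    have h2 := two_ne hF hp4
    have h50 : (5 : F) ≠ 0 := fun h => h5' (Nat.dvd_iff_mod_eq_zero.1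
      ((Nat.prime_dvd_prime_iff_eq (Fact.out : p.Prime) (by norm_num : Nat.Prime 5)).1
        ((CharP.cast_eq_zero_iff F p 5).1 (by exact_mod_cast h)) ▸ dvd_refl _))
    obtain ⟨s, hsd⟩ : ∃ s : F, s = (q - 1) / 2 := ⟨_, rfl⟩
    have hs : s * s + s - 1 = 0 := by rw [hsd]; field_simp; linear_combination hq
    obtain ⟨B, hB⟩ : ∃ B : Matrix (Fin 2) (Fin 2) F, B = !![0, -1; 1, s] := ⟨_, rfl⟩
    have hBt : B.trace = s := by simp [hB, Matrix.trace_fin_two]
    have hBd : B.det = 1 := by simp [hB, Matrix.det_fin_two]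
    have hB5 := five_fin_two hs hBt hBd
    obtain ⟨B', hB'⟩ : ∃ B' : Matrix (Fin 2) (Fin 2) F, B' = !![s, 1; -1, 0] := ⟨_, rfl⟩
    have m1 : B * B' = 1 := by rw [hB, hB']; ext i j; fin_cases i <;> fin_cases j <;> simp
    have m2 := mul_eq_one_comm.1 m1
    obtain ⟨x, hx, hxi⟩ : ∃ x : GL (Fin 4) F, (x : M4) = bd B 1 ∧ ((x⁻¹ : GL (Fin 4) F) : M4) = bd B' 1 :=
      ⟨⟨bd B 1, bd B' 1, by rw [bd_mul, m1, one_mul, bd_one], by rw [bd_mul, m2, one_mul, bd_one]⟩, rfl, rfl⟩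
    have hx5 : x ^ 5 = 1 := Units.ext (by rw [Units.val_pow_eq_pow_val, hx, bd_pow, hB5, one_pow, bd_one, Units.val_one])
    have hns : ∀ c : F, (x : M4) ≠ c • (1 : M4) := fun c hc => by
      rw [hx, ← bd_one, bd_smul] at hc
      have := congrFun (congrFun (bd_inj hc).1 1) 0
      simp [hB] at this
    obtain ⟨g, -, hg⟩ := hfix x (mem_SL.2 (by rw [hx, bd_det, hBd, Matrix.det_one, one_mul]))
      ⟨1, by rw [hx5, one_smul, Units.val_one]⟩ hns
    obtain ⟨y, hy, hyr, hyns, ht, hti⟩ := conj_data hg hns hx5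
    have h1 := hR.trace_five hy hyns hyr
    rw [ht, hti, hx, hxi, bd_trace, bd_trace, hBt, show B'.trace = s by simp [hB', Matrix.trace_fin_two],
      Matrix.trace_one, Fintype.card_fin, Nat.cast_ofNat] at h1
    exact h50 (by linear_combination (-9 : F) * hs + (3 * s - 1) * h1 - (3 * s - 1) * hs)

theorem fix_two (hz : Nat.card (Subgroup.center R) = 4) : AllFix R 2 := by
  intro x hx hz2 hns
  haveI : Fact (Nat.Prime 2) := ⟨Nat.prime_two⟩
  obtain ⟨z, hzx⟩ := hz2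
  have h2 := two_ne hF hp4
  obtain ⟨iu, hiR, hi, ci, hci, hiu⟩ := hR.exists_iu hz
  have hdet := mem_SL.1 hx
  rw [Units.val_pow_eq_pow_val] at hzx
  have hz4 : z ^ 4 = 1 := by
    have := congrArg Matrix.det hzx
    rwa [Matrix.det_pow, hdet, one_pow, Matrix.det_smul, Matrix.det_one, mul_one, Fintype.card_fin, eq_comm] at this
  obtain ⟨w, hw⟩ : IsSquare z := by
    rcases sq_eq_one_iff.1 (show (z ^ 2) ^ 2 = 1 by rw [← pow_mul]; exact hz4) with h | h
    · rcases sq_eq_one_iff.1 h with h | h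
      · exact ⟨1, by rw [h, one_mul]⟩
      · exact ⟨ci, by rw [h, hci]⟩
    · exact isSquare_of_sq (Fintype.card_fin 4) h2 h hzx hdet
  have hw0 : w ≠ 0 := by rintro rfl; rw [hw, mul_zero] at hz4; norm_num at hz4
  obtain ⟨sw, hsw⟩ := exists_scalar_unit (ι := Fin 4) (inv_ne_zero hw0)
  obtain ⟨y, hyd⟩ : ∃ y, y = sw * x := ⟨_, rfl⟩
  have hy : (y : M4) = w⁻¹ • (x : M4) := by rw [hyd, Units.val_mul, hsw, smul_mul_assoc, one_mul]
  have hy2 : (y : M4) ^ 2 = 1 := by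
    rw [hy, smul_pow, hzx, smul_smul, hw, show w⁻¹ ^ 2 * (w * w) = 1 by field_simp, one_smul]
  have hyns : ∀ c : F, (y : M4) ≠ c • (1 : M4) := fun c hc => hns (w * c) (by
    rw [← smul_smul, ← hc, hy, smul_smul, mul_inv_cancel₀ hw0, one_smul])
  obtain ⟨hsh, huniq⟩ := involution_shape (Fintype.card_fin 4) h2 hy2 hyns
  obtain ⟨e, he⟩ := hR.exists_frame_of_i ⟨iu, hiR, hi, fun v => Units.ext (by simp [hiu])⟩
  have h20 : (2 : ℕ).Coprime p := (Nat.coprime_primes Nat.prime_two (Fact.out : p.Prime)).2 (by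
    have := five_le hF hp4; omega)
  obtain ⟨t, htN, ht2, htns, htt, T2, hT2, hTt⟩ : ∃ t ∈ subgroupNormalizer R, (t : M4) ^ 2 = 1 ∧
      (∀ c : F, (t : M4) ≠ c • (1 : M4)) ∧ (t : M4).trace = (y : M4).trace ∧
      ∃ T : Matrix (Fin 2) (Fin 2) F, T * T = 1 ∧ T.trace = (y : M4).trace := by
    rcases hsh with ⟨-, h0⟩ | ⟨-, h0⟩
    · refine ⟨e 0, hR.frame_mem_normalizer he (he.mem 0), by rw [pow_two, ← Units.val_mul, he.sq, Units.val_one],
        hR.frame_ne he 0, ?_, !![1, 0; 0, -1], ?_, ?_⟩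
      · rw [h0]; exact hR.trace_zero (he.mem 0) (hR.frame_ne he 0)
      · ext i j; fin_cases i <;> fin_cases j <;> simp
      · rw [h0]; simp [Matrix.trace_fin_two]
    · obtain ⟨t, ht, ht2, htt, htns, -⟩ := hR.cz_target he hiR hi hiu
      rcases h0 with h0 | h0
      · refine ⟨t, ht, ht2, htns, htt.trans h0.symm, 1, one_mul 1, ?_⟩
        rw [h0]; simp
      · refine ⟨-1 * t, (subgroupNormalizer R).mul_mem (scalar_mem_normalizer (c := -1) (by simp)) ht, ?_, ?_, ?_,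
          -1, by simp, ?_⟩
        · simp only [neg_one_mul, Units.val_neg, neg_sq, ht2]
        · intro c hc
          refine htns (-c) ?_
          simp only [neg_one_mul, Units.val_neg] at hc
          rw [neg_smul, ← hc, neg_neg]
        · rw [h0, neg_one_mul, Units.val_neg, Matrix.trace_neg, htt]
        · rw [h0]; simp
  have hyt := gl_conj_of_charpoly p h20 hy2 ht2 (huniq _ ht2 htns htt.symm)
  obtain ⟨D, hD⟩ : ∃ D : GL (Fin 4) F, (D : M4) = bd !![1, 0; 0, -1] T2 := by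
    have : bd !![1, 0; 0, -1] T2 * bd !![1, 0; 0, -1] T2 = (1 : M4) := by
      rw [bd_mul, hT2, show (!![1, 0; 0, -1] : Matrix (Fin 2) (Fin 2) F) * !![1, 0; 0, -1] = 1 by
        ext i j; fin_cases i <;> fin_cases j <;> simp, bd_one]
    exact ⟨⟨_, _, this, this⟩, rfl⟩
  have hD2 : (D : M4) ^ 2 = 1 := by
    rw [hD, pow_two, bd_mul, hT2, show (!![1, 0; 0, -1] : Matrix (Fin 2) (Fin 2) F) * !![1, 0; 0, -1] = 1 by
      ext i j; fin_cases i <;> fin_cases j <;> simp, bd_one]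
  have hDns : ∀ c : F, (D : M4) ≠ c • (1 : M4) := fun c hc => by
    rw [hD, ← bd_one, bd_smul] at hc
    have a := congrFun (congrFun (bd_inj hc).1 0) 0
    have b := congrFun (congrFun (bd_inj hc).1 1) 1
    simp at a b
    exact h2 (by linear_combination a - b)
  have hyD := gl_conj_of_charpoly p h20 hy2 hD2 (huniq _ hD2 hDns (by
    rw [hD, bd_trace, hTt]; simp [Matrix.trace_fin_two]))
  obtain ⟨ν, hν⟩ := FiniteField.exists_nonsquare (F := F) (fun h => h2 (by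
    haveI := ringChar.of_eq h; exact CharTwo.two_eq_zero))
  have hν0 : ν ≠ 0 := by rintro rfl; exact hν ⟨0, by simp⟩
  obtain ⟨u₀, hu₀⟩ : ∃ u : GL (Fin 4) F, (u : M4) = bd !![ν, 0; 0, 1] 1 :=
    ⟨⟨bd !![ν, 0; 0, 1] 1, bd !![ν⁻¹, 0; 0, 1] 1,
      by rw [bd_mul, one_mul, show (!![ν, 0; 0, 1] : Matrix (Fin 2) (Fin 2) F) * !![ν⁻¹, 0; 0, 1] = 1 by
        ext i j; fin_cases i <;> fin_cases j <;> simp [hν0], bd_one],
      by rw [bd_mul, one_mul, show (!![ν⁻¹, 0; 0, 1] : Matrix (Fin 2) (Fin 2) F) * !![ν, 0; 0, 1] = 1 by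
        ext i j; fin_cases i <;> fin_cases j <;> simp [hν0], bd_one]⟩, rfl⟩
  have hu₀D : u₀ * D = D * u₀ := by
    apply Units.ext
    rw [Units.val_mul, Units.val_mul, hu₀, hD, bd_mul, bd_mul, one_mul, mul_one]
    congr 1
    ext i j; fin_cases i <;> fin_cases j <;> simp
  obtain ⟨u, huy, hud⟩ := exists_centralizer hyD hu₀D
  have hnsq : ¬ IsSquare ((u : M4).det) := by
    rw [hud, hu₀, bd_det]; simpa [Matrix.det_fin_two] using hν
  obtain ⟨g, hg, hgt⟩ := exists_SL_conj hyt huy hnsq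
  refine ⟨g, hg, ?_⟩
  have e1 : g⁻¹ * x * g = sw⁻¹ * (g⁻¹ * y * g) := by
    have hc : sw * g⁻¹ = g⁻¹ * sw := Units.ext (by simp [hsw])
    rw [hyd, show g⁻¹ * (sw * x) * g = (g⁻¹ * sw) * (x * g) by group, ← hc]
    group
  rw [e1, hgt]
  exact (subgroupNormalizer R).mul_mem ((subgroupNormalizer R).inv_mem (scalar_mem_normalizer hsw)) htN

theorem fix_three (hz : Nat.card (Subgroup.center R) = 4) (h3 : p % 3 = 2) : AllFix R 3 := by
  intro x hx hz3 hns
  haveI : Fact (Nat.Prime 3) := ⟨by norm_num⟩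
  obtain ⟨z, hzx⟩ := hz3
  rw [Units.val_pow_eq_pow_val] at hzx
  have hdet := mem_SL.1 hx
  have hz4 : z ^ 4 = 1 := by
    have := congrArg Matrix.det hzx
    rwa [Matrix.det_pow, hdet, one_pow, Matrix.det_smul, Matrix.det_one, mul_one, Fintype.card_fin, eq_comm] at this
  have hz0 : z ≠ 0 := by rintro rfl; norm_num at hz4
  obtain ⟨sw, hsw⟩ := exists_scalar_unit (ι := Fin 4) hz0
  obtain ⟨y, hyd⟩ : ∃ y, y = sw * x := ⟨_, rfl⟩
  have hy : (y : M4) = z • (x : M4) := by rw [hyd, Units.val_mul, hsw, smul_mul_assoc, one_mul]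
  have hy3 : (y : M4) ^ 3 = 1 := by
    rw [hy, smul_pow, hzx, smul_smul, show z ^ 3 * z = 1 by rw [← pow_succ, hz4], one_smul]
  have hyns : ∀ c : F, (y : M4) ≠ c • (1 : M4) := fun c hc => hns (z⁻¹ * c) (by
    rw [← smul_smul, ← hc, hy, smul_smul, inv_mul_cancel₀ hz0, one_smul])
  have hy1 : (y : M4) ≠ 1 := fun h => hyns 1 (by rw [h, one_smul])
  have h30 : (3 : ℕ).Coprime p := (Nat.coprime_primes Nat.prime_three (Fact.out : p.Prime)).2 (by
    have := five_le hF hp4; omega)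
  have h4 : Fintype.card (Fin 4) = 4 := Fintype.card_fin 4
  obtain ⟨hcy, hdy⟩ := three_facts hF h3 hy3
  obtain ⟨hcase, huniq⟩ := three_unique (M' := (y : M4)) h4 (three_ne hF hp4) hy3 hy1 hdy hcy
  obtain ⟨iu, hiR, hi, ci, hci, hiu⟩ := hR.exists_iu hz
  obtain ⟨e, he⟩ := hR.exists_frame_of_i ⟨iu, hiR, hi, fun v => Units.ext (by simp [hiu])⟩
  obtain ⟨t, htN, t', ht'N, ⟨ht3, htt, htns⟩, ⟨ht'3, ht't, ht'ns⟩, -⟩ := hR.three_targets he hiR hi hiu
  obtain ⟨C, hC⟩ : ∃ C : Matrix (Fin 2) (Fin 2) F, C = !![0, -1; 1, -1] := ⟨_, rfl⟩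
  have hCt : C.trace = -1 := by simp [hC, Matrix.trace_fin_two]
  have hCd : C.det = 1 := by simp [hC, Matrix.det_fin_two]
  have hC3 := cube_fin_two hCt hCd
  have conj_to : ∀ t₁ : GL (Fin 4) F, (t₁ : M4) ^ 3 = 1 → (∀ c : F, (t₁ : M4) ≠ c • (1 : M4)) →
      (t₁ : M4).trace = (y : M4).trace → IsConj y t₁ := by
    intro t₁ h₁ hns₁ htr
    obtain ⟨hct, hdt⟩ := three_facts hF h3 h₁
    exact gl_conj_of_charpoly p h30 hy3 h₁ ((three_unique h4 (three_ne hF hp4) hy3 hy1 hdy hcy).2 h₁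
      (fun h => hns₁ 1 (by rw [h, one_smul])) hdt hct htr.symm)
  obtain ⟨T, hTN, hT, T2, hT2, hT2t⟩ : ∃ T ∈ subgroupNormalizer R, IsConj y T ∧
      ∃ T2 : Matrix (Fin 2) (Fin 2) F, T2 ^ 3 = 1 ∧ T2.trace - 1 = (y : M4).trace ∧ T2 * C = C * T2 := by
    rcases hcase with h | h
    · exact ⟨t', ht'N, conj_to t' ht'3 ht'ns (ht't.trans h.symm), 1, one_pow 3,
        by rw [h, Matrix.trace_one, Fintype.card_fin]; norm_num, by simp⟩
    · exact ⟨t, htN, conj_to t ht3 htns (htt.trans h.symm), C, hC3, by rw [h, hCt]; norm_num, rfl⟩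
  obtain ⟨hT2t, hT2C⟩ := hT2t
  obtain ⟨D, hD⟩ : ∃ D : GL (Fin 4) F, (D : M4) = bd C T2 :=
    ⟨⟨bd C T2, bd (C ^ 2) (T2 ^ 2), by rw [bd_mul, ← pow_succ', ← pow_succ', hC3, hT2, bd_one],
      by rw [bd_mul, ← pow_succ, ← pow_succ, hC3, hT2, bd_one]⟩, rfl⟩
  have hD3 : (D : M4) ^ 3 = 1 := by rw [hD, bd_pow, hC3, hT2, bd_one]
  have hDns : ∀ c : F, (D : M4) ≠ c • (1 : M4) := fun c hc => by
    rw [hD, ← bd_one, bd_smul] at hc
    have := congrFun (congrFun (bd_inj hc).1 1) 0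
    simp [hC] at this
  have hyD := conj_to D hD3 hDns (by rw [hD, bd_trace, hCt, ← hT2t]; ring)
  obtain ⟨ν, hν⟩ := FiniteField.exists_nonsquare (F := F) (fun h => two_ne hF hp4 (by
    haveI := ringChar.of_eq h; exact CharTwo.two_eq_zero))
  obtain ⟨a, b, hab⟩ := exists_quad (two_ne hF hp4) (three_ne hF hp4) ν
  have hud : (bd (a • (1 : Matrix (Fin 2) (Fin 2) F) + b • C) 1).det = ν := by
    rw [bd_det, det_lin, hCt, hCd, Matrix.det_one]; linear_combination hab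
  obtain ⟨u₀, hu₀⟩ : ∃ u : GL (Fin 4) F, (u : M4) = bd (a • (1 : Matrix (Fin 2) (Fin 2) F) + b • C) 1 :=
    ⟨ofDet _ (by rw [hud]; rintro rfl; exact hν ⟨0, by simp⟩), ofDet_coe _ _⟩
  have hu₀D : u₀ * D = D * u₀ := by
    apply Units.ext
    rw [Units.val_mul, Units.val_mul, hu₀, hD, bd_mul, bd_mul, one_mul, mul_one]
    congr 1
    simp [add_mul, mul_add]
  obtain ⟨u, huy, hud'⟩ := exists_centralizer hyD hu₀D
  obtain ⟨g, hg, hgt⟩ := exists_SL_conj hT huy (by rw [hud', hu₀, hud]; exact hν)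
  refine ⟨g, hg, ?_⟩
  have e1 : g⁻¹ * x * g = sw⁻¹ * (g⁻¹ * y * g) := by
    have hc : sw * g⁻¹ = g⁻¹ * sw := Units.ext (by simp [hsw])
    rw [hyd, show g⁻¹ * (sw * x) * g = (g⁻¹ * sw) * (x * g) by group, ← hc]
    group
  rw [e1, hgt]
  exact (subgroupNormalizer R).mul_mem ((subgroupNormalizer R).inv_mem (scalar_mem_normalizer hsw)) hTN

theorem fix_five (hz : Nat.card (Subgroup.center R) = 4) (h5 : p % 5 = 2 ∨ p % 5 = 3) : AllFix R 5 := by
  intro x hx hz5 hns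
  haveI : Fact (Nat.Prime 5) := ⟨by norm_num⟩
  obtain ⟨z, hzx⟩ := hz5
  rw [Units.val_pow_eq_pow_val] at hzx
  have hdet := mem_SL.1 hx
  have hz4 : z ^ 4 = 1 := by
    have := congrArg Matrix.det hzx
    rwa [Matrix.det_pow, hdet, one_pow, Matrix.det_smul, Matrix.det_one, mul_one, Fintype.card_fin, eq_comm] at this
  have hz0 : z ≠ 0 := by rintro rfl; norm_num at hz4
  obtain ⟨sw, hsw⟩ := exists_scalar_unit (ι := Fin 4) (inv_ne_zero hz0)
  obtain ⟨y, hyd⟩ : ∃ y, y = sw * x := ⟨_, rfl⟩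
  have hy : (y : M4) = z⁻¹ • (x : M4) := by rw [hyd, Units.val_mul, hsw, smul_mul_assoc, one_mul]
  have hy5 : (y : M4) ^ 5 = 1 := by
    rw [hy, smul_pow, hzx, smul_smul, show z⁻¹ ^ 5 * z = 1 by
      field_simp; linear_combination -hz4, one_smul]
  have hyns : ∀ c : F, (y : M4) ≠ c • (1 : M4) := fun c hc => hns (z * c) (by
    rw [← smul_smul, ← hc, hy, smul_smul, mul_inv_cancel₀ hz0, one_smul])
  have hy1 : (y : M4) ≠ 1 := fun h => hyns 1 (by rw [h, one_smul])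
  have hp5 : p ≠ 5 := by omega
  have h50 : (5 : ℕ).Coprime p := (Nat.coprime_primes (by norm_num) (Fact.out : p.Prime)).2 (Ne.symm hp5)
  have hf5 : (5 : F) ≠ 0 := fun h => hp5 ((Nat.prime_dvd_prime_iff_eq (Fact.out : p.Prime) (by norm_num)).1
    ((CharP.cast_eq_zero_iff F p 5).1 (by exact_mod_cast h)))
  have conj_to : ∀ t₁ : GL (Fin 4) F, (t₁ : M4) ^ 5 = 1 → (t₁ : M4) ≠ 1 → IsConj y t₁ := fun t₁ h₁ h₁' =>
    gl_conj_of_charpoly p h50 hy5 h₁
      (five_unique (Fintype.card_fin 4) hf5 hy5 hy1 (five_facts hF h5 hy5) h₁ h₁' (five_facts hF h5 h₁)).1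
  obtain ⟨iu, hiR, hi, ci, hci, hiu⟩ := hR.exists_iu hz
  obtain ⟨e, he⟩ := hR.exists_frame_of_i ⟨iu, hiR, hi, fun v => Units.ext (by simp [hiu])⟩
  obtain ⟨t, htN, ⟨c, hc⟩, htns, -⟩ := hR.five_target he
  have hc0 : c ≠ 0 := by
    rintro rfl
    rw [zero_smul] at hc
    have := congrArg Matrix.det hc
    rw [Matrix.det_pow, Matrix.det_zero] at this
    exact (t.isUnit.map Matrix.detMonoidHom).ne_zero (pow_eq_zero_iff (by norm_num : (5 : ℕ) ≠ 0) |>.1 this)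
  obtain ⟨l, hl⟩ : ∃ l : F, l ^ 5 = c := by
    classical
    obtain ⟨u, hu⟩ := (Nat.Coprime.pow_left_bijective (G := Fˣ) (n := 5) (by
      rw [Nat.card_eq_fintype_card, Fintype.card_units, hF]
      refine (((Nat.Prime.coprime_iff_not_dvd (by norm_num : Nat.Prime 5)).2 fun h => ?_)).symm
      omega)).2 (Units.mk0 c hc0)
    exact ⟨u, by simp only at hu; rw [← Units.val_pow_eq_pow_val, hu, Units.val_mk0]⟩
  have hl0 : l ≠ 0 := by rintro rfl; simp at hl; exact hc0 hl.symm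
  obtain ⟨sl, hsl⟩ := exists_scalar_unit (ι := Fin 4) (inv_ne_zero hl0)
  obtain ⟨T, hT⟩ : ∃ T, T = sl * t := ⟨_, rfl⟩
  have hT' : (T : M4) = l⁻¹ • (t : M4) := by rw [hT, Units.val_mul, hsl, smul_mul_assoc, one_mul]
  have hyT : IsConj y T := conj_to T (by rw [hT', smul_pow, hc, smul_smul, ← hl,
      show l⁻¹ ^ 5 * l ^ 5 = 1 by rw [← mul_pow, inv_mul_cancel₀ hl0, one_pow], one_smul])
    (fun h => htns l (by rw [← h, hT', smul_smul, mul_inv_cancel₀ hl0, one_smul]))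
  obtain ⟨A, hA⟩ : ∃ A : M4, A = !![0, 0, 0, -1; 1, 0, 0, -1; 0, 1, 0, -1; 0, 0, 1, -1] := ⟨_, rfl⟩
  have hA5 : A ^ 5 = 1 := by
    rw [hA]
    ext i j
    fin_cases i <;> fin_cases j <;> simp [pow_succ, Matrix.mul_apply, Fin.sum_univ_four]
  obtain ⟨D, hD⟩ : ∃ D : GL (Fin 4) F, (D : M4) = A :=
    ⟨⟨A, A ^ 4, by rw [← pow_succ', hA5], by rw [← pow_succ, hA5]⟩, rfl⟩
  have hyD := conj_to D (hD ▸ hA5) (fun h => by
    have := congrFun (congrFun (hD.symm.trans h) 1) 0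
    simp [hA] at this)
  have hud : ((1 : M4) - A).det = 5 := by
    rw [hA, Matrix.det_succ_row_zero]
    simp +decide [Fin.sum_univ_four, Matrix.det_fin_three, Fin.succAbove, Matrix.one_apply]
    norm_num
  obtain ⟨u₀, hu₀⟩ : ∃ u : GL (Fin 4) F, (u : M4) = 1 - A := ⟨ofDet _ (hud ▸ hf5), ofDet_coe _ _⟩
  have hu₀D : u₀ * D = D * u₀ := Units.ext (by rw [Units.val_mul, Units.val_mul, hu₀, hD]; noncomm_ring)
  obtain ⟨u, huy, hud'⟩ := exists_centralizer hyD hu₀D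
  have hnsq : ¬ IsSquare (5 : F) := by
    intro hsq
    have hp2 : p ≠ 2 := by have := five_le hF hp4; omega
    obtain ⟨f, hf⟩ : ∃ f : ZMod p ≃+* F, True :=
      ⟨RingEquiv.ofBijective (ZMod.castHom dvd_rfl F) ((Fintype.bijective_iff_injective_and_card _).2
        ⟨(ZMod.castHom dvd_rfl F).injective, by rw [ZMod.card, hF]⟩), trivial⟩
    have : IsSquare (5 : ZMod p) := by
      obtain ⟨q, hq⟩ := hsq
      exact ⟨f.symm q, by rw [← map_mul, ← hq, map_ofNat]⟩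
    have := (isSquare_five_iff hp2).1 this
    omega
  obtain ⟨g, hg, hgt⟩ := exists_SL_conj hyT huy (by rw [hud', hu₀, hud]; exact hnsq)
  refine ⟨g, hg, ?_⟩
  have e1 : g⁻¹ * x * g = sw⁻¹ * (g⁻¹ * y * g) := by
    have hc : sw * g⁻¹ = g⁻¹ * sw := Units.ext (by simp [hsw])
    rw [hyd, show g⁻¹ * (sw * x) * g = (g⁻¹ * sw) * (x * g) by group, ← hc]
    group
  rw [e1, hgt, hT]
  exact (subgroupNormalizer R).mul_mem ((subgroupNormalizer R).inv_mem (scalar_mem_normalizer hsw))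
    ((subgroupNormalizer R).mul_mem (scalar_mem_normalizer hsl) htN)

end CfsgLib.MaxSub.SymFour.Linear
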