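import Cfsg.Agent.Lib.MaxSub.OSixFrame
import Cfsg.Agent.Lib.MaxSub.SympTypeFourLinear
import Cfsg.Agent.Lib.Classical.ExcIsoSix

/-!
The normaliser of a group of symplectic type of order 64 is maximal in `SL_4(p)`, `p ≡ 1 (mod 4)`: it corresponds
to the stabiliser of an orthogonal frame of the six-space.
-/

set_option autoImplicit false
set_option linter.unusedSectionVars false

namespace CfsgLib.MaxSub.SlFour.Sympl

open scoped MatrixGroups
open Cfsg.Geo Matrix CfsgLib.Classical CfsgLib.Geom CfsgLib.MaxSub.SymFour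
open CfsgLib.MaxSub.OMono (sq Mono conjHom conjHom_commutator flipQ flipQ_mem_commutator flipQ_single flipQ_apply)
open CfsgLib.MaxSub.OSix (ev Diag)

variable {F : Type*} [Field F] [Fintype F]

local notation "M4" => Matrix (Fin 4) (Fin 4) F
local notation "G4" => GL (Fin 4) F

theorem mem_SL' {x : G4} : x ∈ specialLinear (Fin 4) F ↔ (x : M4).det = 1 := by
  rw [specialLinear, MonoidHom.mem_ker, Units.ext_iff]; rfl

/-- the special linear subgroup as the special linear group -/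
def slEq : specialLinear (Fin 4) F →* Matrix.SpecialLinearGroup (Fin 4) F where
  toFun g := ⟨((g : G4) : M4), mem_SL'.1 g.2⟩
  map_one' := Subtype.ext rfl
  map_mul' _ _ := Subtype.ext rfl

/-- `SL_4` on the six-space -/
noncomputable def phi : specialLinear (Fin 4) F →* quadIsoms (qfPlus 3 F) := slFour.comp slEq

theorem phi_ker {g : specialLinear (Fin 4) F} (h : phi g = 1) :
    ∃ r : F, r * r = 1 ∧ ((g : G4) : M4) = r • (1 : M4) := slFour_ker (slEq g) h

theorem phi_eq_one {g : specialLinear (Fin 4) F} (h : (g : G4) = 1 ∨ (g : G4) = -1) : phi g = 1 := by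
  refine quadIsoms_ext _ fun v => ?_
  show (slFour (slEq g)).1 v = v
  rw [← altCoord_mat ((slFour (slEq g)).1 v), slFour_apply]
  show altCoord (((g : G4) : M4) * altMat v * ((g : G4) : M4)ᵀ) = v
  rcases h with h | h <;> rw [h] <;> simp [altCoord_mat]

theorem eq_or_neg_of_phi {g h : specialLinear (Fin 4) F} (e : phi g = phi h) :
    (g : G4) = h ∨ (g : G4) = -h := by
  obtain ⟨r, hr, hm⟩ := phi_ker (g := g * h⁻¹) (by rw [map_mul, map_inv, e, mul_inv_cancel])
  rcases mul_self_eq_one_iff.1 hr with rfl | rfl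
  · left
    have : ((g * h⁻¹ : specialLinear (Fin 4) F) : G4) = 1 := Units.ext (by rw [hm, one_smul]; rfl)
    rwa [Subgroup.coe_mul, Subgroup.coe_inv, mul_inv_eq_one] at this
  · right
    have : ((g * h⁻¹ : specialLinear (Fin 4) F) : G4) = -1 := Units.ext (by rw [hm, neg_smul, one_smul]; rfl)
    rw [Subgroup.coe_mul, Subgroup.coe_inv, mul_inv_eq_iff_eq_mul, neg_one_mul] at this
    exact this

theorem phi_eq_of_neg {g h : specialLinear (Fin 4) F} (e : (g : G4) = -(h : G4)) : phi g = phi h := by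
  have h1 : phi (g * h⁻¹) = 1 := phi_eq_one (Or.inr (by rw [Subgroup.coe_mul, Subgroup.coe_inv, e, neg_mul, mul_inv_cancel]))
  rwa [map_mul, map_inv, mul_inv_eq_one] at h1

theorem phi_range (h2 : (2 : F) ≠ 0) : (phi (F := F)).range = commutator (quadIsoms (qfPlus 3 F)) := by
  have hsurj : Function.Surjective (slEq (F := F)) := fun x =>
    ⟨⟨Matrix.SpecialLinearGroup.toGL x, mem_SL'.2 x.2⟩, Subtype.ext rfl⟩
  rw [phi, MonoidHom.range_comp, MonoidHom.range_eq_top.2 hsurj, ← MonoidHom.range_eq_map]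
  have hle : (slFour (F := F)).range ≤ commutator _ :=
    commutator_eq_range_le _ (commutator_sl_eq_top (by simp))
  haveI := CfsgLib.MaxSub.OLines.finite_quadIsoms (Pi.basisFun F (Fin 3 ⊕ Fin 3)) (Q := qfPlus 3 F)
  refine Subgroup.eq_of_le_of_card_ge hle ?_
  obtain ⟨hk, -⟩ := card_le_of_scalar (slFour (F := F)).ker (fun g => (g : M4)) Subtype.val_injective
    (fun g hg => slFour_ker g hg)
  have hO : Nat.card (quadIsoms (qfPlus 3 F)) = 2 * Nat.card (Matrix.SpecialLinearGroup (Fin 4) F) := by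
    rw [card_qfPlus_isoms 2, card_sl_four, Finset.prod_range_succ, Finset.prod_range_one]
    ring
  have hidx := commutator_quadIsoms_index (qfPlus 3 F)
  rw [omega_index_odd _ (qfPlus_sep 3) h2 (by simp)] at hidx
  have hi := Subgroup.card_mul_index (commutator (quadIsoms (qfPlus 3 F)))
  rw [hidx, hO] at hi
  have hH : Nat.card (Matrix.SpecialLinearGroup (Fin 4) F) =
      Nat.card (slFour (F := F)).range * Nat.card (slFour (F := F)).ker := by
    rw [Subgroup.card_eq_card_quotient_mul_card_subgroup (slFour (F := F)).ker,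
      Nat.card_congr (QuotientGroup.quotientKerEquivRange (slFour (F := F))).toEquiv]
  have hmul : Nat.card (slFour (F := F)).range * Nat.card (slFour (F := F)).ker ≤
      Nat.card (slFour (F := F)).range * 2 := Nat.mul_le_mul_left _ hk
  omega

/-- maximality in `SL_4` from a dichotomy in the six-dimensional group -/
theorem isMaximalIn_of (h2 : (2 : F) ≠ 0) (H : Subgroup G4) (P : quadIsoms (qfPlus 3 F) → Prop)
    (hiff : ∀ g : specialLinear (Fin 4) F, (g : G4) ∈ H ↔ P (phi g))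
    (hmove : ∃ k ∈ commutator (quadIsoms (qfPlus 3 F)), ¬ P k)
    (hdich : ∀ M : Subgroup (quadIsoms (qfPlus 3 F)),
      (∀ k ∈ commutator (quadIsoms (qfPlus 3 F)), P k → k ∈ M) →
      ∀ k ∈ M, k ∈ commutator (quadIsoms (qfPlus 3 F)) → ¬ P k → commutator (quadIsoms (qfPlus 3 F)) ≤ M) :
    IsMaximalIn (specialLinear (Fin 4) F) (H ⊓ specialLinear (Fin 4) F) := by
  have hr := phi_range (F := F) h2
  refine ⟨lt_of_le_not_ge inf_le_right fun hle => ?_, fun M hHM hMK => ?_⟩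
  · obtain ⟨k, hk, hkP⟩ := hmove
    obtain ⟨g, rfl⟩ := hr.ge hk
    exact hkP ((hiff g).1 (hle g.2).1)
  by_cases hex : ∀ m ∈ M, m ∈ H
  · exact Or.inl (le_antisymm (fun m hm => ⟨hex m hm, hMK hm⟩) hHM)
  push Not at hex
  obtain ⟨m, hm, hmH⟩ := hex
  obtain ⟨M', hM'⟩ : ∃ M', M' = (M.subgroupOf (specialLinear (Fin 4) F)).map phi := ⟨_, rfl⟩
  have hle := hdich M'
    (fun k hk hkP => by
      obtain ⟨g, rfl⟩ := hr.ge hk
      rw [hM']
      exact Subgroup.mem_map_of_mem _ (Subgroup.mem_subgroupOf.2 (hHM ⟨(hiff g).2 hkP, g.2⟩)))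
    (phi ⟨m, hMK hm⟩) (by rw [hM']; exact Subgroup.mem_map_of_mem _ (Subgroup.mem_subgroupOf.2 hm))
    (hr.le ⟨_, rfl⟩) fun h => hmH ((hiff _).2 h)
  refine Or.inr (le_antisymm hMK fun x hx => ?_)
  have hx' := hle (hr.le ⟨⟨x, hx⟩, rfl⟩)
  rw [hM'] at hx'
  obtain ⟨y, hy, hyx⟩ := hx'
  obtain ⟨d, hd⟩ : ∃ d : specialLinear (Fin 4) F, d = ⟨x, hx⟩ * y⁻¹ := ⟨_, rfl⟩
  have hd1 : phi d = 1 := by rw [hd, map_mul, map_inv, hyx, mul_inv_cancel]
  have hdP : P (phi d) := by rw [hd1, ← map_one (phi (F := F))]; exact (hiff 1).1 (one_mem H)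
  have hdM : (d : G4) ∈ M := hHM ⟨(hiff d).2 hdP, d.2⟩
  have e : x = (d : G4) * (y : G4) := by rw [hd]; simp
  rw [e]
  exact mul_mem hdM (Subgroup.mem_subgroupOf.1 hy)

/-- the data give a group of order 64 -/
theorem pauli_of_data {R : Subgroup G4} (h2 : (2 : F) ≠ 0) (hR : IsLinearSymplecticTypeData 2 R) :
    Pauli R ∧ Nat.card (Subgroup.center R) = 4 ∧ Nat.card R = 64 := by
  classical
  obtain ⟨hs, hirr, hfield⟩ := hR
  obtain ⟨p', e, -, -, hcase⟩ := hfield
  have hz : Nat.card (Subgroup.center R) = 4 := by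
    rcases hcase with ⟨hodd, -⟩ | ⟨-, -, h, -⟩ | ⟨-, -, h, -⟩
    · exact absurd hodd (by decide)
    · exact h
    · simp at h
  have hexp : ∀ y : R, y ^ 4 = 1 := fun y => by
    have := Monoid.pow_exponent_eq_one y
    rw [hs.exponent_eq] at this
    simpa using this
  have hle := commutator_le_center hexp hs.cyclic_of_characteristic (Or.inl hz)
  have hRcomm : ∀ x ∈ R, ∀ y ∈ R, x * y * x⁻¹ * y⁻¹ ∈ scalars (Fin 4) F := by
    intro x hx y hy
    have hc : (⟨x, hx⟩ * ⟨y, hy⟩ * ⟨x, hx⟩⁻¹ * ⟨y, hy⟩⁻¹ : R) ∈ Subgroup.center R :=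
      hle (Subgroup.commutator_mem_commutator (Subgroup.mem_top _) (Subgroup.mem_top _))
    obtain ⟨c, hcm⟩ := hirr.2 ((x * y * x⁻¹ * y⁻¹ : G4) : M4) fun s hs' => by
      obtain ⟨w, hw, rfl⟩ := hs'
      exact (congrArg (fun u : R => ((u : G4) : M4)) (Subgroup.mem_center_iff.1 hc ⟨w, hw⟩)).symm
    have hc0 : c ≠ 0 := fun e => by
      rw [e, zero_smul] at hcm
      exact Units.ne_zero _ hcm
    exact (Cfsg.Geo.mem_scalars_iff _).2 ⟨Units.mk0 c hc0, hcm⟩
  haveI : Fintype (R ⧸ Subgroup.center R) := Fintype.ofFinite _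
  let B : Module.Basis (R ⧸ Subgroup.center R) F M4 :=
    Module.Basis.mk (CfsgLib.Aschbacher.linearIndependent_reps hRcomm)
      (CfsgLib.Aschbacher.span_reps (CfsgLib.Aschbacher.alg_top_of_absIrred hirr))
  have hidx : Nat.card (R ⧸ Subgroup.center R) = 16 := by
    rw [Nat.card_eq_fintype_card, ← Module.finrank_eq_card_basis B, Module.finrank_matrix, Module.finrank_self,
      Fintype.card_fin]
  have h64 : Nat.card R = 64 := by
    rw [Subgroup.card_eq_card_quotient_mul_card_subgroup (Subgroup.center R), hidx, hz]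
  exact ⟨Pauli.of_sympType (Fintype.card_fin 4) h2 hs hirr (Or.inl ⟨h64, hz⟩), hz, h64⟩

theorem le_SL {R : Subgroup G4} (hR : Pauli R) (hz : Nat.card (Subgroup.center R) = 4) :
    R ≤ specialLinear (Fin 4) F := by
  obtain ⟨iu, hiR, hi, ci, hci, him⟩ := hR.exists_iu hz
  have hinv : ∀ y ∈ R, y * y = 1 → (∀ c : F, (y : M4) ≠ c • (1 : M4)) → (y : M4).det = 1 := by
    intro y hy h1 hns
    have h := (involution_shape (Fintype.card_fin 4) hR.two
      (M := (y : M4)) (by rw [pow_two, ← Units.val_mul, h1, Units.val_one]) hns).1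
    have ht := hR.trace_zero hy hns
    rcases h with ⟨h, -⟩ | ⟨-, h | h⟩
    · exact h
    · exact absurd (h.symm.trans ht) hR.two
    · exact absurd (by linear_combination -(h.symm.trans ht) : (2 : F) = 0) hR.two
  intro y hy
  rw [mem_SL']
  by_cases hs : ∃ c : F, (y : M4) = c • (1 : M4)
  · obtain ⟨c, hc⟩ := hs
    rw [hc, Matrix.det_smul, Matrix.det_one, mul_one, Fintype.card_fin]
    have hcc : c * c = 1 ∨ c * c = -1 := by
      rcases hR.sq y hy with h | h <;> [left; right] <;>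
      · have h' := congrArg (fun u : G4 => (u : M4) 0 0) h
        simpa [hc] using h'
    rcases hcc with h | h
    · linear_combination (c * c + 1) * h
    · linear_combination (c * c - 1) * h
  push Not at hs
  rcases hR.sq y hy with h | h
  · exact hinv y hy h hs
  have hc0 : ci ≠ 0 := fun e => by simp [e] at hci
  have hcm : iu * y = y * iu := Units.ext (by simp [him])
  have h1 : (iu * y) * (iu * y) = 1 :=
    calc (iu * y) * (iu * y) = iu * iu * (y * y) := by rw [mul_assoc, ← mul_assoc y, ← hcm]; simp [mul_assoc]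
      _ = 1 := by rw [hi, h, neg_mul_neg, one_mul]
  have hns : ∀ c : F, ((iu * y : G4) : M4) ≠ c • (1 : M4) := fun c hc => hs (ci⁻¹ * c) (by
    rw [Units.val_mul, him, Matrix.smul_mul, Matrix.one_mul] at hc
    rw [← smul_smul, ← hc, inv_smul_smul₀ hc0])
  have hd := hinv _ (R.mul_mem hiR hy) h1 hns
  rw [Units.val_mul, him, Matrix.smul_mul, Matrix.one_mul, Matrix.det_smul, Fintype.card_fin] at hd
  linear_combination hd - (y : M4).det * (ci * ci - 1) * hci

theorem diag_conj {k x : quadIsoms (sq (Fin 6) F)} (h2 : (2 : F) ≠ 0) (hk : Mono k) (hx : Diag x) :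
    Diag (k * x * k⁻¹) := by
  intro j
  obtain ⟨i, c, e⟩ := OSix.mono_inv h2 hk j
  obtain ⟨d, hd⟩ := hx i
  refine ⟨d, ?_⟩
  have e' : (k⁻¹).1 (ev j) = c • ev i := e.trans (OSix.single_smul_ev i c)
  rw [OSix.mul_app, OSix.mul_app, e', map_smul, hd, smul_comm, map_smul, ← e', OSix.app_inv]

/-- The normaliser of a group of symplectic type is maximal in `SL_4(p)`, `p ≡ 1 (mod 4)`. -/
theorem sympType_maximal_four (p : ℕ) (R : Subgroup G4) (hp : p.Prime) (hF : Fintype.card F = p)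
    (hp4 : p % 4 = 1) (hR : IsLinearSymplecticTypeData 2 R) :
    IsMaximalIn (specialLinear (Fin 4) F) (subgroupNormalizer R ⊓ specialLinear (Fin 4) F) := by
  classical
  haveI : Fact p.Prime := ⟨hp⟩
  haveI : CharP F p := charP_of_card_eq_prime hF
  have h2 : (2 : F) ≠ 0 := CfsgLib.MaxSub.SymFour.Linear.two_ne hF hp4
  obtain ⟨hP, hz, h64⟩ := pauli_of_data h2 hR
  have hle := le_SL hP hz
  obtain ⟨f, hf⟩ : ∃ f : R →* quadIsoms (qfPlus 3 F), f = phi.comp (Subgroup.inclusion hle) := ⟨_, rfl⟩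
  have hfa : ∀ y : R, f y = phi ⟨y, hle y.2⟩ := fun y => by rw [hf]; rfl
  obtain ⟨A, hA⟩ : ∃ A, A = f.range := ⟨_, rfl⟩
  have hAle : A ≤ commutator (quadIsoms (qfPlus 3 F)) := by
    rintro a ha
    obtain ⟨y, rfl⟩ := hA.le ha
    rw [hfa]
    exact (phi_range h2).le ⟨_, rfl⟩
  have hsq : ∀ a ∈ A, a * a = 1 := fun a ha => by
    obtain ⟨y, rfl⟩ := hA.le ha
    rw [hfa, ← map_mul]
    exact phi_eq_one (hP.sq y y.2)
  have hab : ∀ a ∈ A, ∀ b ∈ A, a * b = b * a := fun a ha b hb => by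
    obtain ⟨x, rfl⟩ := hA.le ha
    obtain ⟨y, rfl⟩ := hA.le hb
    rw [hfa, hfa, ← map_mul, ← map_mul]
    rcases hP.comm x x.2 y y.2 with h | h
    · exact congrArg phi (Subtype.ext h)
    · exact phi_eq_of_neg h
  haveI := CfsgLib.MaxSub.OLines.finite_quadIsoms (Pi.basisFun F (Fin 3 ⊕ Fin 3)) (Q := qfPlus 3 F)
  have hcard : 32 ≤ Nat.card A := by
    obtain ⟨hk, -⟩ := card_le_of_scalar f.ker (fun y => ((y : G4) : M4))
      (fun a b e => Subtype.ext (Units.ext e)) fun y hy => phi_ker ((hfa y).symm.trans (MonoidHom.mem_ker.1 hy))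
    have hH : Nat.card R = Nat.card f.range * Nat.card f.ker := by
      rw [Subgroup.card_eq_card_quotient_mul_card_subgroup f.ker,
        Nat.card_congr (QuotientGroup.quotientKerEquivRange f).toEquiv]
    have := Nat.mul_le_mul_left (Nat.card f.range) hk
    rw [hA]
    omega
  obtain ⟨ψ, c, hc, hψ, hframe⟩ := OSix.exists_frame h2 (by simp) (qfPlus 3 F) (qfPlus_sep 3) A hAle hsq hab hcard
  obtain ⟨Φ, hΦ⟩ : ∃ Φ, Φ = conjHom (qfPlus 3 F) ψ hc hψ := ⟨_, rfl⟩
  rw [← hΦ] at hframe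
  have hcomm : ∀ g : quadIsoms (qfPlus 3 F), g ∈ commutator (quadIsoms (qfPlus 3 F)) ↔
      Φ g ∈ commutator (quadIsoms (sq (Fin 6) F)) := fun g => by
    rw [← conjHom_commutator (qfPlus 3 F) ψ hc hψ, hΦ]
    exact (Subgroup.mem_map_iff_mem (f := (conjHom (qfPlus 3 F) ψ hc hψ).toMonoidHom)
      (conjHom (qfPlus 3 F) ψ hc hψ).injective).symm
  have hback : ∀ g : specialLinear (Fin 4) F, Mono (Φ (phi g)) → ∀ y ∈ R, (g : G4) * y * (g : G4)⁻¹ ∈ R := by
    intro g hg y hy
    have hy' : phi ⟨y, hle hy⟩ ∈ A := hA ▸ ⟨⟨y, hy⟩, hfa _⟩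
    have hmem : phi g * phi ⟨y, hle hy⟩ * (phi g)⁻¹ ∈ A := by
      refine (hframe _ ?_).2 ?_
      · rw [← map_mul, ← map_inv, ← map_mul]
        exact (phi_range h2).le ⟨_, rfl⟩
      · rw [map_mul, map_mul, map_inv]
        exact diag_conj h2 hg ((hframe _ (hAle hy')).1 hy')
    obtain ⟨z, hz⟩ := hA.le hmem
    rw [hfa, ← map_mul, ← map_inv, ← map_mul] at hz
    rcases eq_or_neg_of_phi hz.symm with e | e
    · simp only [Subgroup.coe_mul, Subgroup.coe_inv] at e
      rw [e]; exact z.2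
    · simp only [Subgroup.coe_mul, Subgroup.coe_inv] at e
      rw [e, ← neg_one_mul]
      exact R.mul_mem hP.negMem z.2
  refine isMaximalIn_of h2 (subgroupNormalizer R) (fun k => Mono (Φ k)) (fun g => ⟨fun hg => ?_, fun hg => ?_⟩) ?_ ?_
  · intro i
    have hflip : ∀ m l : Fin 6, m ≠ l → ∃ d : F,
        (flipQ (F := F) {m, l}).1 ((Φ (phi g)).1 (ev i)) = d • (Φ (phi g)).1 (ev i) := by
      intro m l hml
      obtain ⟨a, ha⟩ := Φ.surjective (flipQ {m, l})
      have hac : a ∈ commutator (quadIsoms (qfPlus 3 F)) := (hcomm a).2 (ha ▸ flipQ_mem_commutator hml)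
      have haA : a ∈ A := (hframe a hac).2 (fun j => by
        rw [ha, flipQ_single]
        exact ⟨_, OSix.single_smul_ev j _⟩)
      obtain ⟨y, hy⟩ := hA.le haA
      have hy' : ((g : G4)⁻¹ * y * (g : G4)) ∈ R := by
        have := (Subgroup.mem_normalizer_iff.1 (inv_mem hg) (y : G4)).1 y.2
        rwa [inv_inv] at this
      have hmem : (phi g)⁻¹ * a * phi g ∈ A := by
        rw [hA]
        refine ⟨⟨_, hy'⟩, ?_⟩
        rw [hfa, ← hy, hfa, ← map_inv, ← map_mul, ← map_mul]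
        rfl
      obtain ⟨d, hd⟩ := (hframe _ (hAle hmem)).1 hmem i
      refine ⟨d, ?_⟩
      rw [map_mul, map_mul, map_inv, ha, OSix.mul_app, OSix.mul_app] at hd
      rw [← OSix.app_inv (Φ (phi g)) ((flipQ (F := F) {m, l}).1 _), hd, map_smul]
    obtain ⟨v, hv⟩ : ∃ v, v = (Φ (phi g)).1 (ev i) := ⟨_, rfl⟩
    have hv0 : v ≠ 0 := hv ▸ fun e => by
      simpa [ev] using congrFun ((LinearEquiv.map_eq_zero_iff _).1 e) i
    obtain ⟨m, hm⟩ := Function.ne_iff.1 hv0
    refine ⟨m, v m, hv.symm.trans (OSix.of_one fun n hnm => ?_)⟩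
    by_contra hn
    obtain ⟨l, hlm, hln⟩ := OSix.exists_third m n
    obtain ⟨d, hd⟩ := hflip m l (Ne.symm hlm)
    rw [← hv] at hd
    have e1 := congrFun hd m
    have e2 := congrFun hd n
    rw [flipQ_apply, Pi.smul_apply, smul_eq_mul] at e1 e2
    simp [hnm, Ne.symm hln] at e1 e2
    have hd1 : d = 1 := (mul_eq_right₀ hn).1 e2.symm
    subst hd1
    exact hm ((mul_eq_zero.1 (show (2 : F) * v m = 0 by linear_combination -e1)).resolve_left h2)
  · rw [subgroupNormalizer, Subgroup.mem_normalizer_iff]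
    refine fun y => ⟨hback g hg y, fun hy => ?_⟩
    have hg' : Mono (Φ (phi g⁻¹)) := by rw [map_inv, map_inv]; exact OSix.mono_inv h2 hg
    have := hback g⁻¹ hg' _ hy
    rw [Subgroup.coe_inv, inv_inv] at this
    rwa [show (g : G4)⁻¹ * ((g : G4) * y * (g : G4)⁻¹) * (g : G4) = y by group] at this
  · obtain ⟨k, hk, hkm⟩ := CfsgLib.MaxSub.OMono.exists_not_mono (ι := Fin 6) (F := F) h2 (by simp)
    obtain ⟨g, rfl⟩ := Φ.surjective k
    exact ⟨g, (hcomm g).2 hk, hkm⟩
  · intro M hM k hkM hkc hkP x hx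
    have hle' := OSix.commutator_le_of_not_mono (by rwa [Nat.card_eq_fintype_card, hF]) h2 (by simp)
      (M.map Φ.toMonoidHom) (fun z hz' hzm => ?_) (Subgroup.mem_map_of_mem _ hkM) ((hcomm k).1 hkc) hkP
    · obtain ⟨y, hy, hyx⟩ := hle' ((hcomm x).1 hx)
      rwa [← Φ.injective hyx]
    · obtain ⟨y, rfl⟩ := Φ.surjective z
      exact Subgroup.mem_map_of_mem _ (hM y ((hcomm y).2 hz') hzm)

end CfsgLib.MaxSub.SlFour.Sympl
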