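import Cfsg.Agent.Lib.MaxSub.Sub

/-!
Transvections moving one subspace and fixing another.
-/

set_option autoImplicit false
set_option linter.unusedSectionVars false

namespace CfsgLib.MaxSub

open Matrix
open scoped MatrixGroups

variable {n : ℕ} {F : Type*} [Field F]

/-- a transvection fixing `W` and moving `U` -/
theorem exists_sl_move {W U : Submodule F (Fin n → F)} {a u : Fin n → F}
    (hu : u ∉ W ⊔ Submodule.span F {a}) (huU : u ∈ U) (haU : a ∉ U) :
    ∃ g : GL (Fin n) F, g ∈ Cfsg.Geo.specialLinear (Fin n) F ∧ g ∈ Cfsg.Geo.subspaceStabilizer W ∧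
      g ∉ Cfsg.Geo.subspaceStabilizer U := by
  obtain ⟨χ, hχu, hχ⟩ := exists_dotProduct_of_notMem hu
  have hχa : χ ⬝ᵥ a = 0 := hχ a (Submodule.mem_sup_right (Submodule.mem_span_singleton_self a))
  refine ⟨tvGL a χ hχa, tvGL_mem_specialLinear _ _ _, mem_subspaceStabilizer_of_maps fun x hx => ?_, fun h => ?_⟩
  · rw [coe_tvGL, tvMat_mulVec, hχ x (Submodule.mem_sup_left hx), zero_smul, add_zero]; exact hx
  · have := maps_of_mem_subspaceStabilizer h huU
    rw [coe_tvGL, tvMat_mulVec, hχu, one_smul, Submodule.add_mem_iff_right _ huU] at this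
    exact haU this

/-- some element of `SL` moves a proper non-zero subspace -/
theorem exists_sl_move_any {W : Submodule F (Fin n → F)} (h0 : W ≠ ⊥) (h1 : W ≠ ⊤) :
    ∃ g : GL (Fin n) F, g ∈ Cfsg.Geo.specialLinear (Fin n) F ∧ g ∉ Cfsg.Geo.subspaceStabilizer W := by
  obtain ⟨a, -, ha⟩ := SetLike.exists_of_lt (lt_top_iff_ne_top.2 h1)
  obtain ⟨w, hw, hw0⟩ := W.exists_mem_ne_zero_of_ne_bot h0
  obtain ⟨g, h1, -, h2⟩ := exists_sl_move (W := (⊥ : Submodule F (Fin n → F))) (U := W) (a := a) (u := w) (by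
    rw [bot_sup_eq]
    intro hm
    obtain ⟨c, hc⟩ := Submodule.mem_span_singleton.1 hm
    rcases eq_or_ne c 0 with rfl | hc0
    · exact hw0 (by rw [← hc, zero_smul])
    · exact ha ((W.smul_mem_iff hc0).1 (hc ▸ hw))) hw ha
  exact ⟨g, h1, h2⟩

end CfsgLib.MaxSub
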