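import Cfsg.Agent.Lib.MaxSub.TFormSpSmall

/-!
Orthogonal ⊗ `Sp₂`: every element of the overgroup without transvections is pure, when the orthogonal factor
has dimension at least five.
-/

set_option autoImplicit false
set_option linter.unusedSectionVars false
set_option linter.unusedSimpArgs false
set_option linter.unusedVariables false
set_option linter.style.haveILetI false

namespace CfsgLib.MaxSub.TForm

open Module

variable {F A B V : Type*} [Field F] [AddCommGroup A] [Module F A] [AddCommGroup B] [Module F B]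
  [AddCommGroup V] [Module F V]

theorem Good.mono {T : Sys F A B V (RingHom.id F)} {H : Subgroup (V ≃ₗ[F] V)} {L L' : Submodule F A}
    (h : Good T H L') (hle : L ≤ L') : Good T H L := fun g hg hfix => h g hg (hfix.mono hle)

namespace SpData

variable {T : Sys F A B V (RingHom.id F)} {H : Subgroup (V ≃ₗ[F] V)}
variable [Finite F] [FiniteDimensional F A] [FiniteDimensional F B] [FiniteDimensional F V]

theorem finrank_pair (D : SpData T H) {d e : A} (hd : T.fA d d ≠ 0) (he : T.fA e e ≠ 0)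
    (hde : T.fA d e = 0) : finrank F (Submodule.span F ({d, e} : Set A)) = 2 := by
  refine le_antisymm finrank_pair_le ?_
  have hm : d ∈ Submodule.span F ({d, e} : Set A) := Submodule.subset_span (Set.mem_insert _ _)
  have h1 := D.finrank_cut_line hm hd
  have h2 : e ∈ Submodule.span F ({d, e} : Set A) ⊓ perpS T (Submodule.span F {d}) :=
    ⟨Submodule.subset_span (Set.mem_insert_of_mem _ rfl), mem_perpS_line.2 (D.good.A_flip_zero hde)⟩
  have h3 : 0 < finrank F (Submodule.span F ({d, e} : Set A) ⊓ perpS T (Submodule.span F {d}) :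
      Submodule F A) := by
    refine Nat.pos_of_ne_zero fun h => he ?_
    rw [Submodule.finrank_eq_zero] at h
    rw [h, Submodule.mem_bot] at h2
    simp [h2]
  omega

/-- a non-degenerate plane in a non-degenerate subspace -/
theorem exists_plane (D : SpData T H) {L : Submodule F A} (hL : NDeg T L) (h2 : 2 ≤ finrank F L) :
    ∃ L₂ ≤ L, NDeg T L₂ ∧ finrank F L₂ = 2 := by
  obtain ⟨d, hd, hdd⟩ := D.exists_aniso hL (by omega)
  obtain ⟨e, he, hee⟩ := D.exists_aniso (D.ndeg_cut hL hd hdd) (by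
    have := D.finrank_cut_line hd hdd; omega)
  have hed : T.fA e d = 0 := mem_perpS_line.1 he.2
  have hde : T.fA d e = 0 := D.good.A_flip_zero hed
  refine ⟨_, ?_, D.ndeg_pair hdd hee hde, D.finrank_pair hdd hee hde⟩
  rw [Submodule.span_le]
  rintro x (rfl | rfl)
  exacts [hd, he.1]

theorem goodPairs_two (D : SpData T H) (hno : NoTvSp T H) (hB : finrank F B = 2) (h5 : 5 ≤ finrank F A) :
    GoodPairs T H := by
  intro d e hd hde hee
  refine D.good_two hno hB h5 (D.ndeg_pair hd (hee ▸ hd) hde) (D.finrank_pair hd (hee ▸ hd) hde) ?_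
  by_cases hbig : ∃ s : F, s ≠ 0 ∧ s ≠ 1 ∧ s ≠ -1
  · exact Or.inl hbig
  refine Or.inr fun x hx hxx => ?_
  obtain ⟨r, s, rfl⟩ := Submodule.mem_span_pair.1 hx
  simp only [map_add, map_smul, LinearMap.add_apply, LinearMap.smul_apply, smul_eq_mul, hde,
    D.symA d e, hee, mul_zero, add_zero, zero_add] at hxx
  have h : r * r + s * s = 0 := mul_right_cancel₀ hd (by linear_combination hxx)
  have hsq : ∀ t : F, t ≠ 0 → t * t = 1 := fun t ht => by
    by_contra h0
    exact hbig ⟨t, ht, fun e0 => h0 (by rw [e0, one_mul]), fun e0 => h0 (by rw [e0, neg_one_mul, neg_neg])⟩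
  rcases eq_or_ne r 0 with rfl | hr
  · rw [zero_mul, zero_add] at h
    rw [mul_self_eq_zero.1 h, zero_smul, zero_smul, add_zero]
  rcases eq_or_ne s 0 with rfl | hs
  · rw [zero_mul, add_zero] at h
    exact absurd (mul_self_eq_zero.1 h) hr
  rw [hsq r hr, hsq s hs, one_add_one_eq_two] at h
  exact absurd h D.two

/-- the image of a plane inside `L ⊗ B` -/
theorem image_in (D : SpData T H) {L : Submodule F A} (hL : NDeg T L) {g : V ≃ₗ[F] V} (hg : g ∈ H)
    (hfix : FixOff T L g) {δ : A} (hδL : δ ∈ L) (hδ : T.fA δ δ ≠ 0) (hp : PlaneP T g δ) :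
    ∃ (δ' : A) (f : B ≃ₗ[F] B), (∀ b, g (T.tau δ b) = T.tau δ' (f b)) ∧ T.fA δ' δ' ≠ 0 ∧ δ' ∈ L := by
  obtain ⟨δ', f, hf, hne⟩ := D.exists_plane_map hg hδ hp
  exact ⟨δ', f, hf, hne, D.image_mem hf fun b w => D.fixOff_mem hL hg hfix hδL b w⟩

/-- gluing when the complement contains every norm -/
theorem glue_norm (D : SpData T H) (hP : GoodPairs T H) {L : Submodule F A} (hL : NDeg T L)
    (hperp : finrank F L + 2 ≤ finrank F A) {g : V ≃ₗ[F] V} (hg : g ∈ H) (hfix : FixOff T L g)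
    (hpl : ∀ δ ∈ L, T.fA δ δ ≠ 0 → PlaneP T g δ) : IsKron T g := by
  have h2 : 2 ≤ finrank F (perpS T L) := by have := D.finrank_perpS hL; omega
  obtain ⟨ε, hε, hεε⟩ := D.exists_norm (D.ndeg_perp hL) h2 one_ne_zero
  refine D.glue hP hL hg hfix hε (hεε.symm ▸ one_ne_zero) (P := {d | d ∈ L ∧ T.fA d d ≠ 0})
    (fun d hd => hd.1) (D.span_aniso hL) fun δ hδ => ⟨hδ.2, ?_⟩
  obtain ⟨δ', f, hf, hne, hmem⟩ := D.image_in hL hg hfix hδ.1 hδ.2 (hpl δ hδ.1 hδ.2)
  exact ⟨δ', f, hf, hne, hmem, Or.inl (D.exists_norm (D.ndeg_perp hL) h2 hne)⟩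

/-- three scalars: a hyperbolic plane is good -/
theorem good_hyp (D : SpData T H) (hno : NoTvSp T H) (hB : finrank F B = 2) (h5 : 5 ≤ finrank F A)
    {L : Submodule F A} (hL : NDeg T L) (d2 : finrank F L = 2)
    (hbig : ¬ ∃ s : F, s ≠ 0 ∧ s ≠ 1 ∧ s ≠ -1) {e₁ e₂ : A} (h1L : e₁ ∈ L) (h2L : e₂ ∈ L) {ν : F}
    (hν : ν ≠ 0) (h11 : T.fA e₁ e₁ = ν) (h22 : T.fA e₂ e₂ = -ν) (h12 : T.fA e₁ e₂ = 0) :
    Good T H L := by
  intro g hg hfix
  have hP := D.goodPairs_two hno hB h5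
  refine D.glue_norm hP hL (by omega) hg hfix fun δ hδL hδ => ?_
  have hPd : 3 ≤ finrank F (perpS T L) := by have := D.finrank_perpS hL; omega
  obtain ⟨e₃, h3, h33⟩ := D.exists_norm (D.ndeg_perp hL) (by omega) hν
  obtain ⟨e₄, h4, h44⟩ := D.exists_norm (D.ndeg_cut (D.ndeg_perp hL) h3 (h33.symm ▸ hν)) (by
    have := D.finrank_cut_line h3 (h33.symm ▸ hν : T.fA e₃ e₃ ≠ 0); omega) (neg_ne_zero.2 hν)
  have h21 : T.fA e₂ e₁ = 0 := D.good.A_flip_zero h12
  have h31 : T.fA e₃ e₁ = 0 := h3 e₁ h1L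
  have h32 : T.fA e₃ e₂ = 0 := h3 e₂ h2L
  have h41 : T.fA e₄ e₁ = 0 := h4.1 e₁ h1L
  have h42 : T.fA e₄ e₂ = 0 := h4.1 e₂ h2L
  have h43 : T.fA e₄ e₃ = 0 := mem_perpS_line.1 h4.2
  have h13 : T.fA e₁ e₃ = 0 := D.good.A_flip_zero h31
  have h23 : T.fA e₂ e₃ = 0 := D.good.A_flip_zero h32
  have h14 : T.fA e₁ e₄ = 0 := D.good.A_flip_zero h41
  have h24 : T.fA e₂ e₄ = 0 := D.good.A_flip_zero h42
  have h34 : T.fA e₃ e₄ = 0 := D.good.A_flip_zero h43
  set L' := Submodule.span F ({e₃, e₄} : Set A) with hL'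
  have h44' : T.fA e₄ e₄ ≠ 0 := h44.symm ▸ neg_ne_zero.2 hν
  have hL'n : NDeg T L' := D.ndeg_pair (h33.symm ▸ hν) h44' h34
  have hL'2 : finrank F L' = 2 := D.finrank_pair (h33.symm ▸ hν) h44' h34
  have hL'perp : L' ≤ perpS T L := by
    rw [hL', Submodule.span_le]
    rintro x (rfl | rfl)
    exacts [h3, h4.1]
  set L₀ := L ⊔ L' with hL₀def
  have hsplitL : ∀ x ∈ L, ∃ p q : F, x = p • e₁ + q • e₂ := by
    intro x hx
    have he : Submodule.span F ({e₁, e₂} : Set A) = L := by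
      refine Submodule.eq_of_le_of_finrank_le ?_ ?_
      · rw [Submodule.span_le]; rintro x (rfl | rfl); exacts [h1L, h2L]
      · rw [D.finrank_pair (h11.symm ▸ hν) (h22.symm ▸ neg_ne_zero.2 hν) h12, d2]
    rw [← he] at hx
    obtain ⟨p, q, h⟩ := Submodule.mem_span_pair.1 hx
    exact ⟨p, q, h.symm⟩
  have hmem₀ : ∀ x ∈ L₀, ∃ p q r s : F, x = p • e₁ + q • e₂ + r • e₃ + s • e₄ := by
    intro x hx
    obtain ⟨l, hl, l', hl', rfl⟩ := Submodule.mem_sup.1 hx
    obtain ⟨p, q, rfl⟩ := hsplitL l hl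
    obtain ⟨r, s, rfl⟩ := Submodule.mem_span_pair.1 hl'
    exact ⟨p, q, r, s, by abel⟩
  have hcoord : ∀ p q r s : F, T.fA (p • e₁ + q • e₂ + r • e₃ + s • e₄) e₁ = p * ν ∧
      T.fA (p • e₁ + q • e₂ + r • e₃ + s • e₄) e₂ = -(q * ν) ∧
      T.fA (p • e₁ + q • e₂ + r • e₃ + s • e₄) e₃ = r * ν ∧
      T.fA (p • e₁ + q • e₂ + r • e₃ + s • e₄) e₄ = -(s * ν) := fun p q r s => by
    simp [h11, h22, h33, h44, h12, h21, h13, h31, h14, h41, h23, h32, h24, h42, h34, h43]
  have hL₀n : NDeg T L₀ := by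
    intro x hx h
    obtain ⟨p, q, r, s, rfl⟩ := hmem₀ x hx
    obtain ⟨c1, c2, c3, c4⟩ := hcoord p q r s
    rw [h e₁ (Submodule.mem_sup_left h1L)] at c1
    rw [h e₂ (Submodule.mem_sup_left h2L)] at c2
    rw [h e₃ (Submodule.mem_sup_right (Submodule.subset_span (Set.mem_insert _ _)))] at c3
    rw [h e₄ (Submodule.mem_sup_right (Submodule.subset_span (Set.mem_insert_of_mem _ rfl)))] at c4
    simp [eq_comm, hν] at c1 c2 c3 c4
    simp [c1, c2, c3, c4]
  have hL₀4 : finrank F L₀ = 4 := by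
    have h := Submodule.finrank_sup_add_finrank_inf_eq L L'
    have e0 : L ⊓ L' = ⊥ := (Submodule.eq_bot_iff _).2 fun x hx =>
      hL x hx.1 fun y hy => hL'perp hx.2 y hy
    rw [e0, finrank_bot] at h
    rw [hL₀def]; omega
  set u := e₁ + e₂ + e₄ with hu
  set w := e₂ + e₃ - e₄ with hw
  have huu : T.fA u u = -ν := by
    simp [hu, h11, h22, h44, h12, h21, h14, h41, h24, h42]
  have hww : T.fA w w = -ν := by
    simp [hw, h22, h33, h44, h23, h32, h24, h42, h34, h43]
  have huw : T.fA u w = 0 := by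
    simp [hu, hw, h22, h44, h12, h13, h14, h23, h24, h42, h43]
  set L₂ := Submodule.span F ({u, w} : Set A) with hL₂
  have huu' : T.fA u u ≠ 0 := huu.symm ▸ neg_ne_zero.2 hν
  have hww' : T.fA w w ≠ 0 := hww.symm ▸ neg_ne_zero.2 hν
  have hsq : ∀ t : F, t ≠ 0 → t * t = 1 := fun t ht => by
    by_contra h0
    exact hbig ⟨t, ht, fun e0 => h0 (by rw [e0, one_mul]), fun e0 => h0 (by rw [e0, neg_one_mul, neg_neg])⟩
  have hrs : ∀ r s : F, r * r + s * s = 0 → r = 0 ∧ s = 0 := by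
    intro r s h
    rcases eq_or_ne r 0 with rfl | hr
    · rw [zero_mul, zero_add] at h
      exact ⟨rfl, mul_self_eq_zero.1 h⟩
    rcases eq_or_ne s 0 with rfl | hs
    · rw [zero_mul, add_zero] at h
      exact absurd (mul_self_eq_zero.1 h) hr
    rw [hsq r hr, hsq s hs, one_add_one_eq_two] at h
    exact absurd h D.two
  have h2n : NDeg T L₂ := D.ndeg_pair huu' hww' huw
  have h22' : finrank F L₂ = 2 := D.finrank_pair huu' hww' huw
  have hle : L₂ ≤ L₀ := by
    rw [hL₂, Submodule.span_le]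
    have m1 : e₁ ∈ L₀ := Submodule.mem_sup_left h1L
    have m2 : e₂ ∈ L₀ := Submodule.mem_sup_left h2L
    have m3 : e₃ ∈ L₀ := Submodule.mem_sup_right (Submodule.subset_span (Set.mem_insert _ _))
    have m4 : e₄ ∈ L₀ := Submodule.mem_sup_right (Submodule.subset_span (Set.mem_insert_of_mem _ rfl))
    rintro x (rfl | rfl)
    exacts [L₀.add_mem (L₀.add_mem m1 m2) m4, L₀.sub_mem (L₀.add_mem m2 m3) m4]
  have hperp₂ : ∀ p q r s : F, p • e₁ + q • e₂ + r • e₃ + s • e₄ ∈ perpS T L₂ →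
      p = q + s ∧ r = q - s := by
    intro p q r s h
    obtain ⟨c1, c2, c3, c4⟩ := hcoord p q r s
    have a1 := h u (Submodule.subset_span (Set.mem_insert _ _))
    have a2 := h w (Submodule.subset_span (Set.mem_insert_of_mem _ rfl))
    simp only [hu, hw, map_add, map_sub] at a1 a2
    simp only [map_add] at c1 c2 c3 c4
    rw [c1, c2, c4] at a1
    rw [c2, c3, c4] at a2
    constructor
    · exact mul_right_cancel₀ hν (by linear_combination a1)
    · exact mul_right_cancel₀ hν (by linear_combination a2)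
  have haniso' : ∀ x ∈ L₀ ⊓ perpS T L₂, T.fA x x = 0 → x = 0 := by
    rintro x ⟨hx0, hx2⟩ hxx
    obtain ⟨p, q, r, s, rfl⟩ := hmem₀ x hx0
    obtain ⟨c1, c2, c3, c4⟩ := hcoord p q r s
    obtain ⟨rfl, rfl⟩ := hperp₂ p q r s hx2
    rw [map_add (T.fA _), map_add (T.fA _), map_add (T.fA _), map_smul (T.fA _), map_smul (T.fA _),
      map_smul (T.fA _), map_smul (T.fA _), c1, c2, c3, c4] at hxx
    obtain ⟨rfl, rfl⟩ := hrs q s (mul_right_cancel₀ hν (by
      simp only [smul_eq_mul] at hxx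
      linear_combination hxx))
    simp
  have haniso2 : ∀ x ∈ L₂, T.fA x x = 0 → x = 0 := by
    intro x hx hxx
    obtain ⟨r, s, rfl⟩ := Submodule.mem_span_pair.1 hx
    simp only [map_add, map_smul, LinearMap.add_apply, LinearMap.smul_apply, smul_eq_mul, huw,
      D.symA u w, huu, hww, mul_zero, add_zero, zero_add] at hxx
    obtain ⟨rfl, rfl⟩ := hrs r s (mul_right_cancel₀ (neg_ne_zero.2 hν) (by linear_combination hxx))
    simp
  have hcutn : NDeg T (L₀ ⊓ perpS T L₂) := D.ndeg_cutS hL₀n h2n hle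
  have hcut2 : finrank F (L₀ ⊓ perpS T L₂ : Submodule F A) = 2 := by
    have := D.finrank_cutS h2n hle; omega
  obtain ⟨S, hS0, hSn, hS4, hSsplit, hSin⟩ := D.engine hP hB h5 hL₀n h2n hle h22'
    (D.good_two hno hB h5 h2n h22' (Or.inr haniso2))
    (D.good_two hno hB h5 hcutn hcut2 (Or.inr haniso')) (by omega) (fun h => absurd h (by omega))
    hg (hfix.mono le_sup_left) (Submodule.mem_sup_left hδL) hδ
  have hX : ∀ b c, T.C c (g (T.tau δ b)) ∈ S ⊓ L := fun b c =>
    ⟨hSin b c, D.fixOff_mem hL hg hfix hδL b c⟩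
  have hone : finrank F (S ⊓ L : Submodule F A) ≤ 1 := by
    by_contra hcon
    have hLS : L ≤ S := by
      have heq : S ⊓ L = L := Submodule.eq_of_le_of_finrank_le inf_le_right (by omega)
      exact fun x hx => (heq.symm ▸ hx : x ∈ S ⊓ L).1
    set P₁ := S ⊓ L₂ with hP₁
    set P₂ := S ⊓ perpS T L₂ with hP₂
    have hle12 : L ≤ P₁ ⊔ P₂ := fun x hx => by
      obtain ⟨p, hp, hpS, hqS, hq⟩ := hSsplit x (hLS hx)
      rw [← add_sub_cancel p x]
      exact Submodule.add_mem_sup ⟨hpS, hp⟩ ⟨hqS, hq⟩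
    have hdis : P₁ ⊓ P₂ = ⊥ := (Submodule.eq_bot_iff _).2 fun x hx =>
      h2n x hx.1.2 fun y hy => hx.2.2 y hy
    have hsum := Submodule.finrank_sup_add_finrank_inf_eq P₁ P₂
    rw [hdis, finrank_bot] at hsum
    have hS' : finrank F (P₁ ⊔ P₂ : Submodule F A) ≤ finrank F S :=
      Submodule.finrank_mono (sup_le inf_le_left inf_le_left)
    have hno1 : L ⊓ P₁ = ⊥ := (Submodule.eq_bot_iff _).2 fun x hx => by
      obtain ⟨p, q, rfl⟩ := hsplitL x hx.1
      obtain ⟨a, b, hab⟩ := Submodule.mem_span_pair.1 hx.2.2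
      have e3 := congrArg (fun z => T.fA z e₃) hab
      have e4 := congrArg (fun z => T.fA z e₄) hab
      simp [hu, hw, h33, h44, h13, h14, h23, h24, h34, h43, hν] at e3 e4
      rw [← hab, e3, zero_smul, add_zero]
      have ha : a = 0 := by simpa [e3, hν] using e4
      rw [ha, zero_smul]
    have hno2 : L ⊓ P₂ = ⊥ := (Submodule.eq_bot_iff _).2 fun x hx => by
      obtain ⟨p, q, rfl⟩ := hsplitL x hx.1
      obtain ⟨hp', hr'⟩ := hperp₂ p q 0 0 (by simpa using hx.2.2)
      have hq0 : q = 0 := by linear_combination -hr'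
      rw [hp', hq0]; simp
    have k1 := Submodule.finrank_sup_add_finrank_inf_eq L P₁
    have k2 := Submodule.finrank_sup_add_finrank_inf_eq L P₂
    rw [hno1, finrank_bot] at k1
    rw [hno2, finrank_bot] at k2
    have k1' : finrank F (L ⊔ P₁ : Submodule F A) ≤ finrank F (P₁ ⊔ P₂ : Submodule F A) :=
      Submodule.finrank_mono (sup_le hle12 le_sup_left)
    have k2' : finrank F (L ⊔ P₂ : Submodule F A) ≤ finrank F (P₁ ⊔ P₂ : Submodule F A) :=
      Submodule.finrank_mono (sup_le hle12 le_sup_right)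
    omega
  obtain ⟨v, hv⟩ : ∃ v : A, S ⊓ L ≤ Submodule.span F {v} := by
    rcases Nat.lt_or_ge 0 (finrank F (S ⊓ L : Submodule F A)) with h0 | h0
    · obtain ⟨v, hv, hv0⟩ : ∃ v ∈ S ⊓ L, v ≠ 0 := Submodule.exists_mem_ne_zero_of_ne_bot fun e => by
        rw [e, finrank_bot] at h0; exact absurd h0 (lt_irrefl 0)
      exact ⟨v, (Submodule.eq_of_le_of_finrank_le ((Submodule.span_singleton_le_iff_mem _ _).2 hv)
        (by rw [finrank_span_singleton hv0]; omega)).ge⟩
    · exact ⟨0, by rw [Submodule.finrank_eq_zero.1 (Nat.le_zero.1 h0)]; exact bot_le⟩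
  choose k hk using fun b c => Submodule.mem_span_singleton.1 (hv (hX b c))
  refine ⟨v, fun b => ?_⟩
  haveI := Module.nontrivial_of_finrank_pos (R := F) (M := B) (by omega)
  obtain ⟨y, hy⟩ := exists_ne (0 : B)
  obtain ⟨e, he, he'⟩ := D.good.exists_partner hy
  refine ⟨k b y • e - k b e • y, sub_eq_zero.1 (D.good.C_nondeg fun c => ?_)⟩
  obtain ⟨l, hl⟩ := D.eq_smul_of_B hB hy (show T.fB (c - T.fB c y • e) y = 0 by simp [he])
  rw [eq_sub_iff_add_eq] at hl
  generalize T.fB c y = j at hl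
  subst hl
  simp only [D.good.C_add, D.good.C_smul, RingHom.id_apply, LinearMap.add_apply, LinearMap.smul_apply,
    map_sub, map_smul, LinearMap.sub_apply, smul_eq_mul, D.good.C_tau, D.altB, he, he', ← hk b y,
    ← hk b e]
  module

/-- planes are good -/
theorem good_plane (D : SpData T H) (hno : NoTvSp T H) (hB : finrank F B = 2) (h5 : 5 ≤ finrank F A)
    {L : Submodule F A} (hL : NDeg T L) (d2 : finrank F L = 2) : Good T H L := by
  by_cases hbig : ∃ s : F, s ≠ 0 ∧ s ≠ 1 ∧ s ≠ -1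
  · exact D.good_two hno hB h5 hL d2 (Or.inl hbig)
  obtain ⟨d₁, d₂, h1L, h2L, h1, h2, h12, hsplit⟩ := D.basis_two hL d2
  by_cases hsame : T.fA d₂ d₂ = T.fA d₁ d₁
  · refine (D.goodPairs_two hno hB h5 d₁ d₂ h1 h12 hsame).mono fun x hx => ?_
    obtain ⟨r, s, rfl⟩ := hsplit x hx
    exact Submodule.mem_span_pair.2 ⟨r, s, rfl⟩
  refine D.good_hyp hno hB h5 hL d2 hbig h1L h2L h1 rfl ?_ h12
  by_contra hne
  refine hbig ⟨T.fA d₂ d₂ / T.fA d₁ d₁, div_ne_zero h2 h1, fun e => hsame ((div_eq_one_iff_eq h1).1 e),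
    fun e => hne ?_⟩
  rw [div_eq_iff h1] at e
  rw [e, neg_one_mul]

/-- a subspace of dimension three is good -/
theorem good_dim_three (D : SpData T H) (hno : NoTvSp T H) (hB : finrank F B = 2) (h5 : 5 ≤ finrank F A)
    {L : Submodule F A} (hL : NDeg T L) (d3 : finrank F L = 3)
    (hsmall : ∀ L' : Submodule F A, NDeg T L' → finrank F L' ≤ 2 → Good T H L') : Good T H L := by
  intro g hg hfix
  have hP := D.goodPairs_two hno hB h5
  refine D.glue_norm hP hL (by omega) hg hfix fun δ hδL hδ => ?_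
  -- a basis of norms `d, ν, ν` with `-d/ν` a non-square
  obtain ⟨f₁, f₂, f₃, m1, m2, m3, ν, hν, n2, n3, n1, o12, o13, o23, hnsq⟩ : ∃ (f₁ f₂ f₃ : A),
      f₁ ∈ L ∧ f₂ ∈ L ∧ f₃ ∈ L ∧ ∃ ν : F, ν ≠ 0 ∧ T.fA f₂ f₂ = ν ∧ T.fA f₃ f₃ = ν ∧ T.fA f₁ f₁ ≠ 0 ∧
        T.fA f₁ f₂ = 0 ∧ T.fA f₁ f₃ = 0 ∧ T.fA f₂ f₃ = 0 ∧
        ∀ r s : F, r * r * ν + s * s * T.fA f₁ f₁ = 0 → r = 0 ∧ s = 0 := by
    obtain ⟨a, ha, haa⟩ := D.exists_norm hL (by omega) one_ne_zero
    have ha' : T.fA a a ≠ 0 := haa.symm ▸ one_ne_zero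
    have c1 := D.finrank_cut_line ha ha'
    have hC := D.ndeg_cut hL ha ha'
    obtain ⟨b, hb, hbb⟩ := D.exists_norm hC (by omega) one_ne_zero
    have hb' : T.fA b b ≠ 0 := hbb.symm ▸ one_ne_zero
    obtain ⟨c, hc, hcc⟩ := D.exists_aniso (D.ndeg_cut hC hb hb') (by
      have := D.finrank_cut_line hb hb'; omega)
    have hba : T.fA b a = 0 := mem_perpS_line.1 hb.2
    have hca : T.fA c a = 0 := mem_perpS_line.1 hc.1.2
    have hcb : T.fA c b = 0 := mem_perpS_line.1 hc.2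
    by_cases hsq : IsSquare (-T.fA c c)
    · obtain ⟨t, ht⟩ := hsq
      cases nonempty_fintype F
      obtain ⟨μ, hμ⟩ := FiniteField.exists_nonsquare (F := F) (fun hc2 => D.two (by
        haveI := ringChar.of_eq hc2
        exact CharTwo.two_eq_zero))
      obtain ⟨x, z, hxz⟩ := exists_sq_add_sq D.two μ
      have hμ0 : μ ≠ 0 := fun e => hμ (e ▸ IsSquare.zero)
      have hab : T.fA a b = 0 := D.good.A_flip_zero hba
      refine ⟨c, x • a + z • b, -z • a + x • b, hc.1.1, L.add_mem (L.smul_mem _ ha) (L.smul_mem _ hb.1),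
        L.add_mem (L.smul_mem _ ha) (L.smul_mem _ hb.1), μ, hμ0, ?_, ?_, hcc, ?_, ?_, ?_, fun r s h => ?_⟩
      · simp [haa, hbb, hab, hba]; linear_combination hxz
      · simp [haa, hbb, hab, hba]; linear_combination hxz
      · simp [hca, hcb]
      · simp [hca, hcb]
      · simp [haa, hbb, hab, hba]; ring
      · rcases eq_or_ne r 0 with rfl | hr
        · simp [hcc] at h
          exact ⟨rfl, h⟩
        · refine absurd ?_ hμ
          refine ⟨s * t / r, ?_⟩
          field_simp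
          linear_combination h + s * s * ht
    · refine ⟨c, a, b, hc.1.1, ha, hb.1, 1, one_ne_zero, haa, hbb, hcc, hca, hcb,
        D.good.A_flip_zero hba, fun r s h => ?_⟩
      rcases eq_or_ne s 0 with rfl | hs
      · simp at h
        exact ⟨h, rfl⟩
      · refine absurd ⟨r / s, ?_⟩ hsq
        field_simp
        linear_combination -h
  have o21 : T.fA f₂ f₁ = 0 := D.good.A_flip_zero o12
  have o31 : T.fA f₃ f₁ = 0 := D.good.A_flip_zero o13
  have o32 : T.fA f₃ f₂ = 0 := D.good.A_flip_zero o23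
  have hspan : ∀ x ∈ L, ∃ p q r : F, x = p • f₁ + q • f₂ + r • f₃ := by
    intro x hx
    have n2' : T.fA f₂ f₂ ≠ 0 := n2.symm ▸ hν
    have n3' : T.fA f₃ f₃ ≠ 0 := n3.symm ▸ hν
    refine ⟨T.fA x f₁ / T.fA f₁ f₁, T.fA x f₂ / T.fA f₂ f₂, T.fA x f₃ / T.fA f₃ f₃, ?_⟩
    have hC1 := D.ndeg_cut hL m1 n1
    have m2' : f₂ ∈ L ⊓ perpS T (Submodule.span F {f₁}) := ⟨m2, mem_perpS_line.2 o21⟩
    have m3' : f₃ ∈ L ⊓ perpS T (Submodule.span F {f₁}) ⊓ perpS T (Submodule.span F {f₂}) :=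
      ⟨⟨m3, mem_perpS_line.2 o31⟩, mem_perpS_line.2 o32⟩
    have hC2 := D.ndeg_cut hC1 m2' n2'
    have c1 := D.finrank_cut_line m1 n1
    have c2 := D.finrank_cut_line m2' n2'
    have c3 := D.finrank_cut_line m3' n3'
    have hbot := Submodule.finrank_eq_zero.1 (show finrank F
      (L ⊓ perpS T (Submodule.span F {f₁}) ⊓ perpS T (Submodule.span F {f₂}) ⊓
        perpS T (Submodule.span F {f₃}) : Submodule F A) = 0 by omega)
    rw [← sub_eq_zero]
    refine (Submodule.eq_bot_iff _).1 hbot _ ⟨⟨⟨L.sub_mem hx (L.add_mem (L.add_mem (L.smul_mem _ m1)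
      (L.smul_mem _ m2)) (L.smul_mem _ m3)), ?_⟩, ?_⟩, ?_⟩ <;> refine mem_perpS_line.2 ?_
    · simp [o21, o31, n1]
    · simp [o12, o32, n2']
    · simp [o13, o23, n3']
  obtain ⟨ε, hε, hεn⟩ := D.exists_norm (D.ndeg_perp hL)
    (by have := D.finrank_perpS hL; omega) n1
  have e1 : T.fA ε f₁ = 0 := hε f₁ m1
  have e2 : T.fA ε f₂ = 0 := hε f₂ m2
  have e3 : T.fA ε f₃ = 0 := hε f₃ m3
  have e1' : T.fA f₁ ε = 0 := D.good.A_flip_zero e1
  have e2' : T.fA f₂ ε = 0 := D.good.A_flip_zero e2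
  have e3' : T.fA f₃ ε = 0 := D.good.A_flip_zero e3
  have hεε : T.fA ε ε ≠ 0 := hεn.symm ▸ n1
  set L₀ := L ⊔ Submodule.span F {ε} with hL₀def
  have hmem₀ : ∀ x ∈ L₀, ∃ p q r s : F, x = p • f₁ + q • f₂ + r • f₃ + s • ε := by
    intro x hx
    obtain ⟨l, hl, l', hl', rfl⟩ := Submodule.mem_sup.1 hx
    obtain ⟨p, q, r, rfl⟩ := hspan l hl
    obtain ⟨s, rfl⟩ := Submodule.mem_span_singleton.1 hl'
    exact ⟨p, q, r, s, rfl⟩
  have hεmem : ε ∈ L₀ := Submodule.mem_sup_right (Submodule.mem_span_singleton_self ε)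
  have hL₀n : NDeg T L₀ := by
    intro x hx h
    obtain ⟨l, hl, l', hl', rfl⟩ := Submodule.mem_sup.1 hx
    obtain ⟨s, rfl⟩ := Submodule.mem_span_singleton.1 hl'
    have hs : s = 0 := by
      have h' := h ε hεmem
      have hlε : T.fA l ε = 0 := D.good.A_flip_zero (hε l hl)
      simpa [hlε, hεε] using h'
    subst hs
    rw [zero_smul, add_zero] at h ⊢
    exact hL l hl fun y hy => h y (Submodule.mem_sup_left hy)
  have hL₀4 : finrank F L₀ = 4 := by
    have h := Submodule.finrank_sup_add_finrank_inf_eq L (Submodule.span F {ε})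
    have e0 : L ⊓ Submodule.span F {ε} = ⊥ := (Submodule.eq_bot_iff _).2 fun x hx => hL x hx.1 fun y hy =>
      (perpS T L).smul_mem 1 ((Submodule.span_singleton_le_iff_mem ε (perpS T L)).2 hε hx.2) y hy |>
        fun h' => by simpa using ((Submodule.span_singleton_le_iff_mem ε (perpS T L)).2 hε hx.2) y hy
    rw [e0, finrank_bot, finrank_span_singleton (fun e => hεε (by simp [e]))] at h
    rw [hL₀def]; omega
  set u := f₁ + ε with hu
  have huu : T.fA u u = 2 * T.fA f₁ f₁ := by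
    simp [hu, e1, e1', hεn]; ring
  have huu' : T.fA u u ≠ 0 := huu.symm ▸ mul_ne_zero D.two n1
  have h3u : T.fA f₃ u = 0 := by simp [hu, o31, e3']
  set L₂ := Submodule.span F ({f₃, u} : Set A) with hL₂
  have n3' : T.fA f₃ f₃ ≠ 0 := n3.symm ▸ hν
  have h2n : NDeg T L₂ := D.ndeg_pair n3' huu' h3u
  have h22' : finrank F L₂ = 2 := D.finrank_pair n3' huu' h3u
  have hle : L₂ ≤ L₀ := by
    rw [hL₂, Submodule.span_le]
    rintro x (rfl | rfl)
    exacts [Submodule.mem_sup_left m3, L₀.add_mem (Submodule.mem_sup_left m1) hεmem]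
  have hcutn : NDeg T (L₀ ⊓ perpS T L₂) := D.ndeg_cutS hL₀n h2n hle
  have hcut2 : finrank F (L₀ ⊓ perpS T L₂ : Submodule F A) = 2 := by
    have := D.finrank_cutS h2n hle; omega
  obtain ⟨S, hS0, hSn, hS4, hSsplit, hSin⟩ := D.engine hP hB h5 hL₀n h2n hle h22'
    (hsmall _ h2n h22'.le) (hsmall _ hcutn hcut2.le) (by omega) (fun h => absurd h (by omega))
    hg (hfix.mono le_sup_left) (Submodule.mem_sup_left hδL) hδ
  by_cases hS2 : finrank F S ≤ 2
  · exact D.plane_of_good hSn (hsmall _ hSn hS2) (by omega) hg hδ hSin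
  -- `S` is the orthogonal of a vector `γ` of one of the halves
  obtain ⟨γ, hγ, hγ0⟩ : ∃ γ ∈ L₀ ⊓ perpS T S, γ ≠ 0 := Submodule.exists_mem_ne_zero_of_ne_bot fun e => by
    have := D.finrank_cutS hSn hS0
    rw [e, finrank_bot] at this; omega
  obtain ⟨p, q, r, s, hγe⟩ := hmem₀ γ hγ.1
  have hcut : ∀ x ∈ L, T.fA x (p • f₁ + q • f₂ + r • f₃) = T.fA x γ := fun x hx => by
    rw [hγe, map_add (T.fA x) _ (s • ε), map_smul (T.fA x) s ε, D.symA ε x, hε x hx, smul_zero, add_zero]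
  -- `γ` lies in `L₂` or its complement
  have hlin : (p = s ∧ q = 0) ∨ (p = -s ∧ r = 0) := by
    have hc1 : ∀ x ∈ S, T.fA γ x = 0 := fun x hx => hγ.2 x hx
    have hSle : finrank F S = 3 := by omega
    -- the projection of `γ` to `L₂` is orthogonal to `S`
    obtain ⟨l, hl, hlp⟩ := D.split h2n γ
    have hlS : ∀ x ∈ S, T.fA l x = 0 := fun x hx => by
      obtain ⟨p', hp', hpS, hqS, hq⟩ := hSsplit x hx
      have a1 : T.fA (γ - l) p' = 0 := hlp p' hp'
      have a2 : T.fA (x - p') l = 0 := hq l hl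
      rw [map_sub, LinearMap.sub_apply, hc1 p' hpS, zero_sub, neg_eq_zero] at a1
      rw [← add_sub_cancel p' x, map_add, a1, D.symA (x - p') l, a2, add_zero]
    have hlmem : l ∈ L₀ ⊓ perpS T S := ⟨hle hl, hlS⟩
    have hone : finrank F (L₀ ⊓ perpS T S : Submodule F A) = 1 := by
      have := D.finrank_cutS hSn hS0; omega
    have hsp : Submodule.span F {γ} = L₀ ⊓ perpS T S :=
      Submodule.eq_of_le_of_finrank_le ((Submodule.span_singleton_le_iff_mem _ _).2 hγ)
        (by rw [finrank_span_singleton hγ0, hone])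
    rw [← hsp] at hlmem
    obtain ⟨k, hk⟩ := Submodule.mem_span_singleton.1 hlmem
    have hγ2 : γ ∈ L₂ ∨ γ ∈ perpS T L₂ := by
      rcases eq_or_ne k 0 with rfl | hk0
      · right; rw [← hk, zero_smul, sub_zero] at hlp; exact hlp
      · left
        have := L₂.smul_mem k⁻¹ hl
        rwa [← hk, smul_smul, inv_mul_cancel₀ hk0, one_smul] at this
    rcases hγ2 with h | h
    · left
      obtain ⟨a, b, hab⟩ := Submodule.mem_span_pair.1 h
      rw [hγe, hu] at hab
      have x1 := congrArg (fun z => T.fA z f₁) hab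
      have x2 := congrArg (fun z => T.fA z f₂) hab
      have x4 := congrArg (fun z => T.fA z ε) hab
      simp [o21, o31, o12, o32, e1, e2, e1', e2', e3', hεn, n1, n2, hν] at x1 x2 x4
      exact ⟨x1.symm.trans x4, x2⟩
    · right
      have x3 := h f₃ (Submodule.subset_span (Set.mem_insert _ _))
      have x4 := h u (Submodule.subset_span (Set.mem_insert_of_mem _ rfl))
      rw [hγe] at x3 x4
      simp [hu, o13, o23, e3, n3, hν] at x3
      simp [hu, o21, o31, e1, e1', e2', e3', hεn] at x4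
      refine ⟨eq_neg_of_add_eq_zero_left (mul_right_cancel₀ n1 ?_), x3⟩
      rw [zero_mul]; linear_combination x4
  set m := p • f₁ + q • f₂ + r • f₃ with hm
  have hmL : m ∈ L := L.add_mem (L.add_mem (L.smul_mem _ m1) (L.smul_mem _ m2)) (L.smul_mem _ m3)
  have hmm : T.fA m m ≠ 0 := by
    intro h0
    simp [hm, o12, o13, o21, o23, o31, o32, n2, n3] at h0
    obtain ⟨hp0, hqr⟩ : p = 0 ∧ q = 0 ∧ r = 0 := by
      rcases hlin with ⟨h1', h2'⟩ | ⟨h1', h2'⟩
      · subst h2'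
        obtain ⟨hr, hp⟩ := hnsq r p (by linear_combination h0)
        exact ⟨hp, rfl, hr⟩
      · subst h2'
        obtain ⟨hq, hp⟩ := hnsq q p (by linear_combination h0)
        exact ⟨hp, hq, rfl⟩
    refine hγ0 ?_
    have hs : s = 0 := by
      rcases hlin with ⟨h1', -⟩ | ⟨h1', -⟩
      · rw [← h1', hp0]
      · rw [← neg_neg s, ← h1', hp0, neg_zero]
    rw [hγe, hm, hp0, hqr.1, hqr.2, hs]; simp
  refine D.plane_of_good (D.ndeg_cut hL hmL hmm) (hsmall _ (D.ndeg_cut hL hmL hmm) (by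
    have := D.finrank_cut_line hmL hmm; omega)) (by
    have := D.finrank_cut_line hmL hmm; omega) hg hδ fun b w => ?_
  have hxL := D.fixOff_mem hL hg hfix hδL b w
  refine ⟨hxL, mem_perpS_line.2 ?_⟩
  rw [hcut _ hxL, D.symA γ _]
  exact hγ.2 _ (hSin b w)

/-- proper non-degenerate subspaces are good -/
theorem good_sub (D : SpData T H) (hno : NoTvSp T H) (hB : finrank F B = 2) (h5 : 5 ≤ finrank F A) :
    ∀ k (L : Submodule F A), NDeg T L → finrank F L = k → k < finrank F A → Good T H L := by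
  have hP := D.goodPairs_two hno hB h5
  intro k
  induction k using Nat.strong_induction_on with
  | _ k ih =>
    intro L hL hk hlt
    have hsmall : ∀ L' : Submodule F A, NDeg T L' → finrank F L' ≤ 2 → Good T H L' := by
      intro L' hL' h2
      rcases (show finrank F L' = 2 ∨ finrank F L' < 2 by omega) with h | h
      · exact D.good_plane hno hB h5 hL' h
      obtain ⟨e, he, hsub⟩ : ∃ e, T.fA e e ≠ 0 ∧ L' ≤ Submodule.span F {e} := by
        rcases Nat.eq_zero_or_pos (finrank F L') with h0 | h0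
        · obtain ⟨e, -, he⟩ := D.exists_aniso D.ndeg_top (by rw [finrank_top]; omega)
          exact ⟨e, he, by rw [Submodule.finrank_eq_zero.1 h0]; exact bot_le⟩
        · obtain ⟨e, heL, he⟩ := D.exists_aniso hL' (by omega)
          refine ⟨e, he, (Submodule.eq_of_le_of_finrank_le ((Submodule.span_singleton_le_iff_mem _ _).2 heL)
            ?_).ge⟩
          rw [finrank_span_singleton (fun h0' => he (by simp [h0']))]; omega
      obtain ⟨p, hp, hpp⟩ := D.exists_aniso (D.ndeg_perp (D.ndeg_line he)) (by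
        have := D.finrank_perpS (D.ndeg_line he)
        have := finrank_span_singleton (K := F) (fun h0' => he (by simp [h0']) : e ≠ 0)
        omega)
      have hep : T.fA e p = 0 := D.good.A_flip_zero (mem_perpS_line.1 hp)
      refine (D.good_plane hno hB h5 (D.ndeg_pair he hpp hep) (D.finrank_pair he hpp hep)).mono
        (hsub.trans (Submodule.span_mono ?_))
      intro x hx
      exact Or.inl hx
    by_cases h3 : k ≤ 3
    · rcases (show k ≤ 2 ∨ k = 3 by omega) with h | h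
      · exact hsmall L hL (by omega)
      · exact D.good_dim_three hno hB h5 hL (by omega) hsmall
    intro g hg hfix
    obtain ⟨L₂, hle, h2n, h22⟩ := D.exists_plane hL (by omega)
    have hcutn := D.ndeg_cutS hL h2n hle
    have hcutd := D.finrank_cutS h2n hle
    have hplane : ∀ g' : V ≃ₗ[F] V, g' ∈ H → FixOff T L g' → ∀ δ ∈ L, T.fA δ δ ≠ 0 → PlaneP T g' δ := by
      intro g' hg' hfix' δ hδL hδ
      obtain ⟨S, hS0, hSn, hSlt, -, hSin⟩ := D.engine hP hB h5 hL h2n hle h22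
        (hsmall _ h2n h22.le) (ih _ (by omega) _ hcutn rfl (by omega)) (by omega)
        (fun h => absurd h (by omega)) hg' hfix' hδL hδ
      exact D.plane_of_good hSn (ih _ (by omega) _ hSn rfl (by omega)) (by omega) hg' hδ hSin
    by_cases hroom : finrank F L + 2 ≤ finrank F A
    · exact D.glue_norm hP hL hroom hg hfix (hplane g hg hfix)
    obtain ⟨ε, hε, hεε⟩ := D.exists_aniso (D.ndeg_perp hL) (by
      have := D.finrank_perpS hL; omega)
    refine D.glue hP hL hg hfix hε hεε (P := {d | d ∈ L ∧ T.fA d d ≠ 0}) (fun d hd => hd.1)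
      (D.span_aniso hL) fun δ hδ => ⟨hδ.2, ?_⟩
    obtain ⟨δ', f, hf, hne, hmem⟩ := D.image_in hL hg hfix hδ.1 hδ.2 (hplane g hg hfix δ hδ.1 hδ.2)
    refine ⟨δ', f, hf, hne, hmem, Or.inr ?_⟩
    obtain ⟨γ', hγ', hγn⟩ := D.exists_norm (D.ndeg_cut hL hmem hne) (by
      have := D.finrank_cut_line hmem hne; omega) hεε
    have hγ'ne : T.fA γ' γ' ≠ 0 := hγn.symm ▸ hεε
    obtain ⟨γ, f', hf', hγne, hγL⟩ := D.image_in hL (inv_mem hg) (D.fixOff_inv hfix) hγ'.1 hγ'ne
      (hplane g⁻¹ (inv_mem hg) (D.fixOff_inv hfix) γ' hγ'.1 hγ'ne)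
    refine ⟨γ, ⟨hγL, hγne⟩, γ', f'.symm, fun b => ?_, hγ'.1, mem_perpS_line.1 hγ'.2, hγn⟩
    conv_lhs => rw [← f'.apply_symm_apply b, ← hf', ap_inv]

/-- every element is pure -/
theorem kron_all_two (D : SpData T H) (hno : NoTvSp T H) (hB : finrank F B = 2) (h5 : 5 ≤ finrank F A)
    {g : V ≃ₗ[F] V} (hg : g ∈ H) : IsKron T g := by
  have hP := D.goodPairs_two hno hB h5
  have hgood : ∀ L : Submodule F A, NDeg T L → finrank F L < finrank F A → Good T H L :=
    fun L hL h => D.good_sub hno hB h5 _ L hL rfl h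
  have hline : ∀ e, T.fA e e ≠ 0 → Good T H (perpS T (Submodule.span F {e})) := fun e he =>
    hgood _ (D.ndeg_perp (D.ndeg_line he)) (by
      have := D.finrank_perpS (D.ndeg_line he)
      have := finrank_span_singleton (K := F) (fun h0' => he (by simp [h0']) : e ≠ 0)
      omega)
  have htop := D.ndeg_top
  have hn : finrank F (⊤ : Submodule F A) = finrank F A := finrank_top F A
  obtain ⟨L₂, hle, h2n, h22⟩ := D.exists_plane htop (by omega)
  have hcutn := D.ndeg_cutS htop h2n hle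
  have hcutd := D.finrank_cutS h2n hle
  have hfix : FixOff T (⊤ : Submodule F A) g := fun a ha b => by
    have ha0 : a = 0 := D.good.nondegA a fun y => ha y Submodule.mem_top
    simp [ha0]
  refine D.glueTop hline hg (P := {d | d ∈ (⊤ : Submodule F A) ∧ T.fA d d ≠ 0})
    (eq_top_iff.2 (D.span_aniso htop)) fun δ hδ => ⟨hδ.2, ?_⟩
  obtain ⟨S, hS0, hSn, hSlt, -, hSin⟩ := D.engine hP hB h5 htop h2n hle h22
    (hgood _ h2n (by omega)) (hgood _ hcutn (by omega)) (by omega) (fun _ => hline)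
    hg hfix Submodule.mem_top hδ.2
  exact D.plane_of_good hSn (hgood _ hSn (by omega)) (by omega) hg hδ.2 hSin

end SpData

end CfsgLib.MaxSub.TForm
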