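import Cfsg.Agent.Lib.MaxSub.TFormSpThree

/-!
`O₃ ⊗ Sp₂`, at least five scalars: without transvections every element of the overgroup is pure.

Two involutions of different type sharing a fixed vector centralise a third one, which is pure; this carries
one anisotropic plane `a ⊗ B` to a pure plane, and then all of `a⊥` follows. The shared fixed vector comes
from counting the anisotropic points against the singular ones.
-/

set_option autoImplicit false
set_option linter.unusedSectionVars false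
set_option linter.unusedSimpArgs false
set_option linter.unusedVariables false
set_option linter.style.haveILetI false

namespace CfsgLib.MaxSub.TForm

open Module

variable {F A B V : Type*} [Field F] [AddCommGroup A] [Module F A] [AddCommGroup B] [Module F B]
  [AddCommGroup V] [Module F V]

namespace SpData

variable {T : Sys F A B V (RingHom.id F)} {H : Subgroup (V ≃ₗ[F] V)}
variable [Finite F] [FiniteDimensional F A] [FiniteDimensional F B] [FiniteDimensional F V]

/-- a vector whose contractions lie in one line is pure -/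
theorem rank_one (D : SpData T H) {c : A} (hc : c ≠ 0) {x : V}
    (h : ∀ w, T.C w x ∈ Submodule.span F {c}) : ∃ b, x = T.tau c b := by
  obtain ⟨y, hy⟩ : ∃ y, T.fA c y ≠ 0 := by
    by_contra h'
    simp only [not_exists, not_not] at h'
    exact hc (D.good.nondegA c h')
  refine ⟨(T.fA c y)⁻¹ • T.C' y x, sub_eq_zero.1 (D.good.C_nondeg fun w => ?_)⟩
  obtain ⟨k, hk⟩ := Submodule.mem_span_singleton.1 (h w)
  have e : T.fA (T.C w x) y = T.fB (T.C' y x) w := by rw [← D.good.form_C, D.good.form_C']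
  rw [← hk, map_smul, LinearMap.smul_apply, smul_eq_mul] at e
  rw [map_sub, D.good.C_tau, map_smul, LinearMap.smul_apply, smul_eq_mul, ← e, ← hk, mul_comm k,
    inv_mul_cancel_left₀ hy, sub_self]

/-- `f ⊗ B + g ⊗ B` does not map into one plane -/
theorem no_pair (D : SpData T H) {a f g : A} (ha : a ≠ 0) (hli : LinearIndependent F ![f, g])
    (k : V ≃ₗ[F] V) (hf : ∀ b, ∃ b', k (T.tau f b) = T.tau a b')
    (hg : ∀ b, ∃ b', k (T.tau g b) = T.tau a b') : False := by
  obtain ⟨y, hy⟩ : ∃ y, T.fA a y ≠ 0 := by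
    by_contra h'
    simp only [not_exists, not_not] at h'
    exact ha (D.good.nondegA a h')
  let Φ : B × B →ₗ[F] B := T.C' y ∘ₗ (k : V →ₗ[F] V) ∘ₗ (T.tau f).coprod (T.tau g)
  have hΦ : Function.Injective Φ := by
    refine (injective_iff_map_eq_zero Φ).2 fun p hp => ?_
    obtain ⟨b₁, h₁⟩ := hf p.1
    obtain ⟨b₂, h₂⟩ := hg p.2
    have hp' : T.C' y (k (T.tau f p.1 + T.tau g p.2)) = 0 := hp
    rw [map_add, h₁, h₂, ← map_add (T.tau a), D.good.C'_tau, smul_eq_zero, or_iff_right hy] at hp'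
    have h0 : T.tau f p.1 + T.tau g p.2 = 0 := k.injective (by
      rw [map_add, h₁, h₂, ← map_add (T.tau a), hp', map_zero, map_zero])
    have hw : ∀ w, T.fB p.1 w = 0 ∧ T.fB p.2 w = 0 := fun w => by
      have h' := congrArg (T.C w) h0
      rw [map_add, D.good.C_tau, D.good.C_tau, map_zero] at h'
      exact LinearIndependent.pair_iff.1 hli _ _ h'
    exact Prod.ext (D.good.nondegB _ fun w => (hw w).1) (D.good.nondegB _ fun w => (hw w).2)
  have h4 := LinearMap.finrank_le_finrank_of_injective hΦ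
  rw [Module.finrank_prod] at h4
  have := D.dimB
  omega

/-- `1 ⊗` a reflection, negated: it fixes exactly the plane of `δ` -/
theorem exists_negRefl (D : SpData T H) {δ : A} (hδ : T.fA δ δ ≠ 0) :
    ∃ r ∈ H, (∀ x, r (r x) = x) ∧ (∀ b, r (T.tau δ b) = T.tau δ b) ∧
      (∀ p, T.fA p δ = 0 → ∀ b, r (T.tau p b) = -T.tau p b) ∧ ∀ x, r x = x → ∃ b, x = T.tau δ b := by
  obtain ⟨l, hl, hla⟩ := D.exists_refl hδ
  obtain ⟨r, hr, hrab⟩ := D.pureA (l.trans (LinearEquiv.neg F)) (fun a a' => by simp [hl])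
  set k := 2 / T.fA δ δ with hk
  have hrx : ∀ x, r x = k • T.tau δ (T.C' δ x) - x := fun x => LinearMap.congr_fun
    (D.good.ext_tau (f := (r : V →ₗ[F] V)) (g := k • (T.tau δ ∘ₗ T.C' δ) - LinearMap.id) fun a b => by
      show r (T.tau a b) = k • T.tau δ (T.C' δ (T.tau a b)) - T.tau a b
      rw [hrab, LinearEquiv.trans_apply, hla, D.good.C'_tau]
      rw [LinearEquiv.neg_apply, neg_sub]
      simp only [map_sub, map_smul, LinearMap.sub_apply,
        LinearMap.smul_apply, smul_smul]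
      congr 2
      rw [hk]; ring) x
  have hkδ : k * T.fA δ δ = 2 := by rw [hk, div_mul_cancel₀ _ hδ]
  refine ⟨r, hr, fun x => ?_, fun b => ?_, fun p hp b => ?_, fun x hx => ?_⟩
  · rw [hrx, hrx x, map_sub (T.C' δ), map_smul (T.C' δ), D.good.C'_tau, map_sub (T.tau δ),
      map_smul (T.tau δ), map_smul (T.tau δ)]
    have e : k * (k * T.fA δ δ) = k + k := by rw [hkδ]; ring
    match_scalars
    · linear_combination e
    · ring
  · rw [hrx, D.good.C'_tau, map_smul, smul_smul, hkδ]; module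
  · rw [hrx, D.good.C'_tau, hp, zero_smul, map_zero, smul_zero, zero_sub]
  · refine ⟨(T.fA δ δ)⁻¹ • T.C' δ x, ?_⟩
    rw [hrx, sub_eq_iff_eq_add, ← two_smul F x] at hx
    rw [map_smul]
    apply smul_right_injective V D.two
    show (2 : F) • x = (2 : F) • (T.fA δ δ)⁻¹ • T.tau δ (T.C' δ x)
    rw [smul_smul, ← hx, hk, div_eq_mul_inv]

/-- an element preserving an anisotropic plane `δ ⊗ B` is pure -/
theorem pure_of_axis (D : SpData T H) (hgood : ∀ L, NDeg T L → finrank F L = 2 → Good T H L)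
    (hA : finrank F A = 3) {δ : A} (hδ : T.fA δ δ ≠ 0) {g : V ≃ₗ[F] V} (hg : g ∈ H)
    (hfix : ∀ b, ∃ b', g (T.tau δ b) = T.tau δ b') :
    ∃ (M : A →ₗ[F] A) (f : B ≃ₗ[F] B), (∀ a b, g (T.tau a b) = T.tau (M a) (f b)) ∧
      (∀ a a', T.fA (M a) (M a') = T.fA a a') ∧ (∀ b, g (T.tau δ b) = T.tau δ (f b)) ∧
      ∀ b b', T.fB (f b) (f b') = T.fB b b' := by
  have hδ0 : δ ≠ 0 := fun e => hδ (by simp [e])
  let f₀ : B →ₗ[F] B := (T.fA δ δ)⁻¹ • (T.C' δ ∘ₗ (g : V →ₗ[F] V) ∘ₗ T.tau δ)
  have hf₀ : ∀ b, g (T.tau δ b) = T.tau δ (f₀ b) := fun b => by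
    obtain ⟨b', hb'⟩ := hfix b
    rw [hb']
    congr 1
    show b' = (T.fA δ δ)⁻¹ • T.C' δ (g (T.tau δ b))
    rw [hb', D.good.C'_tau, inv_smul_smul₀ hδ]
  have hinj : Function.Injective f₀ := fun b b' e => D.good.tau_right_inj hδ0 (g.injective (by
    show g (T.tau δ b) = g (T.tau δ b')
    rw [hf₀, hf₀, e]))
  let f : B ≃ₗ[F] B := LinearEquiv.ofInjectiveEndo f₀ hinj
  have hf : ∀ b, g (T.tau δ b) = T.tau δ (f b) := hf₀
  have hfiso : ∀ b b', T.fB (f b) (f b') = T.fB b b' := fun b b' => by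
    have h := D.isom g hg (T.tau δ b) (T.tau δ b')
    rw [hf, hf, D.good.form_tau, D.good.form_tau] at h
    exact mul_left_cancel₀ hδ h
  obtain ⟨k, hk, hkab⟩ := D.pureB f.symm fun b b' => by
    rw [← hfiso, LinearEquiv.apply_symm_apply, LinearEquiv.apply_symm_apply]
  have hfd : ∀ b, (k * g) (T.tau δ b) = T.tau δ b := fun b => by
    show k (g (T.tau δ b)) = _
    rw [hf, hkab, LinearEquiv.symm_apply_apply]
  have hL := D.ndeg_perp (D.ndeg_line hδ)
  have hoff : FixOff T (perpS T (Submodule.span F {δ})) (k * g : V ≃ₗ[F] V) := by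
    intro a ha b
    have hmem : a ∈ Submodule.span F {δ} := D.perp_perp (D.ndeg_line hδ) fun p hp => ha p hp
    obtain ⟨c, rfl⟩ := Submodule.mem_span_singleton.1 hmem
    rw [map_smul, LinearMap.smul_apply, map_smul, hfd]
  obtain ⟨M, hM, hMiso⟩ := D.pure_form (mul_mem hk hg) (hgood _ hL (by
    have := D.finrank_perpS (D.ndeg_line hδ)
    rw [finrank_span_singleton hδ0] at this
    omega) _ (mul_mem hk hg) hoff) hδ0 hfd
  refine ⟨M, f, fun a b => k.injective ?_, hMiso, hf, hfiso⟩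
  rw [hkab, LinearEquiv.symm_apply_apply]
  exact hM a b

/-- an involution preserving an anisotropic plane is `M ⊗ 1` -/
theorem invol_pure (D : SpData T H) (hgood : ∀ L, NDeg T L → finrank F L = 2 → Good T H L)
    (hA : finrank F A = 3) (hB : finrank F B = 2) {δ : A} (hδ : T.fA δ δ ≠ 0) {κ : V ≃ₗ[F] V}
    (hκ : κ ∈ H) (h2 : ∀ x, κ (κ x) = x) (hfix : ∀ b, ∃ b', κ (T.tau δ b) = T.tau δ b') :
    ∃ M : A →ₗ[F] A, (∀ a b, κ (T.tau a b) = T.tau (M a) b) ∧
      (∀ a a', T.fA (M a) (M a') = T.fA a a') ∧ ∀ a, M (M a) = a := by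
  have hT := D.good
  obtain ⟨M, f, hM, hMiso, hf, hfiso⟩ := D.pure_of_axis hgood hA hδ hκ hfix
  have hδ0 : δ ≠ 0 := fun e => hδ (by simp [e])
  have hff : ∀ b, f (f b) = b := fun b => hT.tau_right_inj hδ0 (by
    show T.tau δ (f (f b)) = T.tau δ b
    rw [← hf, ← hf, h2])
  have hline : ∀ b, T.fB (f b) b = 0 := fun b => by
    have h := hfiso (f b) b
    rw [hff, D.swapB (f b) b] at h
    exact (mul_eq_zero.1 (show (2 : F) * T.fB (f b) b = 0 by linear_combination -h)).resolve_left D.two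
  obtain ⟨μ, hμ⟩ := LinearMap.exists_eq_smul_id_of_forall_notLinearIndependent
    (f := (f : B →ₗ[F] B)) fun b hli => by
      obtain ⟨l, hl⟩ := D.eq_smul_of_B hB (hli.ne_zero 0) (hline b)
      exact (LinearIndependent.pair_iff' (hli.ne_zero 0)).1 hli l hl
  have hμb : ∀ b, f b = μ • b := fun b => by simpa using LinearMap.congr_fun hμ b
  haveI := Module.nontrivial_of_finrank_pos (R := F) (M := B) (by omega)
  obtain ⟨b₀, hb₀⟩ := exists_ne (0 : B)
  have hμ2 : μ * μ = 1 := smul_left_injective F hb₀ (by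
    show (μ * μ) • b₀ = (1 : F) • b₀
    rw [one_smul, ← smul_smul, ← hμb, ← hμb, hff])
  have hN : ∀ a b, κ (T.tau a b) = T.tau ((μ • M) a) b := fun a b => by
    rw [hM, hμb, LinearMap.smul_apply]; simp
  refine ⟨μ • M, hN, fun a a' => ?_, fun a => hT.tau_left_inj hb₀ ?_⟩
  · simp only [LinearMap.smul_apply, map_smul, smul_eq_mul, hMiso]
    rw [← mul_assoc, hμ2, one_mul]
  · show T.tau ((μ • M) ((μ • M) a)) b₀ = T.tau a b₀
    rw [← hN, ← hN, h2]

/-- an involutive isometry of a three-space other than `±1` has an anisotropic axis -/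
theorem invol_axis (D : SpData T H) (hA : finrank F A = 3) {M : A →ₗ[F] A}
    (hiso : ∀ a a', T.fA (M a) (M a') = T.fA a a') (h2 : ∀ a, M (M a) = a)
    (hp : ∃ a, M a ≠ a) (hm : ∃ a, M a ≠ -a) :
    ∃ (c : A) (ε : F), T.fA c c ≠ 0 ∧ M c = ε • c ∧ ∀ x, M x = ε • x → x ∈ Submodule.span F {c} := by
  let E : F → Submodule F A := fun ε => LinearMap.ker (M - ε • LinearMap.id)
  have hE : ∀ ε x, x ∈ E ε ↔ M x = ε • x := fun ε x => by
    show (M - ε • (LinearMap.id : A →ₗ[F] A)) x = 0 ↔ _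
    simp [sub_eq_zero]
  have aux : ∀ ε : F, ε * ε = 1 → finrank F (E ε) = 1 →
      ∃ (c : A) (ε : F), T.fA c c ≠ 0 ∧ M c = ε • c ∧ ∀ x, M x = ε • x → x ∈ Submodule.span F {c} := by
    intro ε hε h1
    obtain ⟨c, hc, hc0⟩ := Submodule.exists_mem_ne_zero_of_ne_bot (p := E ε) fun e => by
      rw [e, finrank_bot] at h1; omega
    have heq : Submodule.span F {c} = E ε := Submodule.eq_of_le_of_finrank_le
      ((Submodule.span_singleton_le_iff_mem _ _).2 hc) (by rw [finrank_span_singleton hc0]; omega)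
    refine ⟨c, ε, fun hcc => hc0 (D.good.nondegA c fun y => ?_), (hE ε c).1 hc,
      fun x hx => heq.symm ▸ (hE ε x).2 hx⟩
    have hy : y + ε • M y ∈ E ε := (hE _ _).2 (by
      rw [map_add, map_smul, h2, smul_add, smul_smul, hε, one_smul, add_comm])
    rw [← heq] at hy
    obtain ⟨k, hk⟩ := Submodule.mem_span_singleton.1 hy
    have hcM : T.fA c (M y) = ε * T.fA c y := by
      have h := hiso c y
      rw [(hE ε c).1 hc, map_smul, LinearMap.smul_apply, smul_eq_mul] at h
      rw [← h, ← mul_assoc, hε, one_mul]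
    have h := congrArg (T.fA c) hk
    simp only [map_add, map_smul, smul_eq_mul, hcM, hcc, mul_zero] at h
    rw [← mul_assoc, hε, one_mul] at h
    exact (mul_eq_zero.1 (show (2 : F) * T.fA c y = 0 by linear_combination -h)).resolve_left D.two
  obtain ⟨a, ha⟩ := hp
  obtain ⟨a', ha'⟩ := hm
  have hn : 0 < finrank F (E (-1)) := Nat.pos_of_ne_zero fun h0 => ha (by
    have hmem : a - M a ∈ E (-1) := (hE _ _).2 (by rw [map_sub, h2, neg_one_smul, neg_sub])
    rw [Submodule.finrank_eq_zero.1 h0, Submodule.mem_bot, sub_eq_zero] at hmem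
    exact hmem.symm)
  have hp' : 0 < finrank F (E 1) := Nat.pos_of_ne_zero fun h0 => ha' (by
    have hmem : a' + M a' ∈ E 1 := (hE _ _).2 (by rw [map_add, h2, one_smul, add_comm])
    rw [Submodule.finrank_eq_zero.1 h0, Submodule.mem_bot] at hmem
    exact eq_neg_of_add_eq_zero_right hmem)
  have hdis : E 1 ⊓ E (-1) = ⊥ := (Submodule.eq_bot_iff _).2 fun x hx => by
    have e1 := (hE _ _).1 hx.1
    have e2 := (hE _ _).1 hx.2
    rw [e1] at e2
    have : (2 : F) • x = 0 := by linear_combination (norm := module) e2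
    exact (smul_eq_zero.1 this).resolve_left D.two
  have hs := Submodule.finrank_sup_add_finrank_inf_eq (E 1) (E (-1))
  rw [hdis, finrank_bot] at hs
  have hle := Submodule.finrank_le (E 1 ⊔ E (-1))
  by_cases h1 : finrank F (E 1) = 1
  · exact aux 1 (one_mul 1) h1
  · exact aux (-1) (by ring) (by omega)

/-- the conjugate of a negated reflection carries the plane to a pure plane as soon as it preserves one -/
theorem plane_of_axis (D : SpData T H) (hgood : ∀ L, NDeg T L → finrank F L = 2 → Good T H L)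
    (hA : finrank F A = 3) (hB : finrank F B = 2) {h : V ≃ₗ[F] V} (hh : h ∈ H) {a : A}
    (ha : a ≠ 0) {r : V ≃ₗ[F] V} (hr : r ∈ H) (hr2 : ∀ x, r (r x) = x)
    (hrfix : ∀ b, r (T.tau a b) = T.tau a b) (hrof : ∀ x, r x = x → ∃ b, x = T.tau a b)
    {c : A} (hc : T.fA c c ≠ 0) (hy : ∀ b, ∃ b', h (r (h⁻¹ (T.tau c b))) = T.tau c b') :
    PlaneP T h a := by
  have hT := D.good
  obtain ⟨M, hM, -, -⟩ := D.invol_pure hgood hA hB hc (κ := h * r * h⁻¹)
    (mul_mem (mul_mem hh hr) (inv_mem hh)) (fun x => by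
      show h (r (h⁻¹ (h (r (h⁻¹ x))))) = x
      rw [inv_ap', hr2, ap_inv]) hy
  replace hM : ∀ a' b, h (r (h⁻¹ (T.tau a' b))) = T.tau (M a') b := hM
  have hCM : ∀ w x, T.C w (h (r (h⁻¹ x))) = M (T.C w x) := fun w x => LinearMap.congr_fun
    (hT.ext_tau (f := T.C w ∘ₗ ((h * r * h⁻¹ : V ≃ₗ[F] V) : V →ₗ[F] V)) (g := M ∘ₗ T.C w)
      fun a' b => by
        show T.C w (h (r (h⁻¹ (T.tau a' b)))) = M (T.C w (T.tau a' b))
        rw [hM, hT.C_tau, hT.C_tau, map_smul]) x
  have hE : ∀ b w, M (T.C w (h (T.tau a b))) = T.C w (h (T.tau a b)) := fun b w => by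
    rw [← hCM, inv_ap', hrfix]
  have hback : ∀ x, M x = x → ∀ b, ∃ b', h⁻¹ (T.tau x b) = T.tau a b' := fun x hx b => hrof _ (by
    apply h.injective
    rw [ap_inv, hM, hx])
  haveI := Module.nontrivial_of_finrank_pos (R := F) (M := B) (by omega)
  obtain ⟨b₀, hb₀⟩ := exists_ne (0 : B)
  obtain ⟨w₀, hw₀⟩ : ∃ w, T.C w (h (T.tau a b₀)) ≠ 0 := by
    by_contra hn
    simp only [not_exists, not_not] at hn
    have h0 := hT.C_nondeg hn
    rw [LinearEquiv.map_eq_zero_iff, ← map_zero (T.tau a)] at h0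
    exact hb₀ (hT.tau_right_inj ha h0)
  refine ⟨T.C w₀ (h (T.tau a b₀)), fun b => D.rank_one hw₀ fun w => ?_⟩
  by_contra hns
  refine D.no_pair ha ((LinearIndependent.pair_iff' hw₀).2 fun k hk => hns
    (Submodule.mem_span_singleton.2 ⟨k, hk⟩)) h⁻¹ (hback _ (hE _ _)) (hback _ (hE _ _))

/-- a vector of the plane of `a` landing in some `e⊥ ⊗ B` makes the image plane pure -/
theorem plane_of_fixed (D : SpData T H) (hgood : ∀ L, NDeg T L → finrank F L = 2 → Good T H L)
    (hA : finrank F A = 3) (hB : finrank F B = 2) {h : V ≃ₗ[F] V} (hh : h ∈ H) {a : A}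
    (haa : T.fA a a ≠ 0) {e : A} (hee : T.fA e e ≠ 0) {b : B} (hb : b ≠ 0)
    (hω : T.C' e (h (T.tau a b)) = 0) : PlaneP T h a := by
  classical
  haveI : Finite V := Module.finite_of_finite F
  haveI : Finite (V ≃ₗ[F] V) := Finite.of_injective _ DFunLike.coe_injective
  have hT := D.good
  have ha : a ≠ 0 := fun h0 => haa (by simp [h0])
  have he : e ≠ 0 := fun h0 => hee (by simp [h0])
  obtain ⟨r, hr, hr2, hrfix, -, hrof⟩ := D.exists_negRefl haa
  obtain ⟨x, hx, hxab, hxx⟩ := D.exists_iRefl hee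
  set ω := h (T.tau a b) with hωdef
  have hω0 : ω ≠ 0 := fun h0 => by
    rw [hωdef, LinearEquiv.map_eq_zero_iff, ← map_zero (T.tau a)] at h0
    exact hb (hT.tau_right_inj ha h0)
  have hx2 : ∀ v, x (x v) = v := fun v => by
    rw [hxx (x v), hxx v, map_sub (T.C' e), map_smul (T.C' e), hT.C'_tau, smul_smul,
      div_mul_cancel₀ _ hee, map_sub (T.tau e), map_smul (T.tau e)]
    module
  set y := h * r * h⁻¹ with hydef
  have hy2 : ∀ v, y (y v) = v := fun v => by
    show h (r (h⁻¹ (h (r (h⁻¹ v))))) = v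
    rw [inv_ap', hr2, ap_inv]
  have hxω : x ω = ω := by rw [hxx, hω, map_zero, smul_zero, sub_zero]
  have hyω : y ω = ω := by
    show h (r (h⁻¹ ω)) = ω
    rw [hωdef, inv_ap', hrfix]
  have hcl : ∀ w ∈ Subgroup.closure ({x, y} : Set (V ≃ₗ[F] V)), w ∈ H ∧ w ω = ω := by
    intro w hw
    induction hw using Subgroup.closure_induction with
    | mem z hz =>
      rcases hz with rfl | rfl
      exacts [⟨hx, hxω⟩, ⟨mul_mem (mul_mem hh hr) (inv_mem hh), hyω⟩]
    | one => exact ⟨one_mem _, rfl⟩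
    | mul u v _ _ hu hv => exact ⟨mul_mem hu.1 hv.1, by rw [LinearEquiv.mul_apply, hv.2, hu.2]⟩
    | inv u _ hu => exact ⟨inv_mem hu.1, u.injective (by rw [ap_inv, hu.2])⟩
  -- `x` fixes four dimensions, `y` two
  obtain ⟨d₁, d₂, hd₁, hd₂, hd₁', hd₂', h12, -⟩ := D.basis_two (D.ndeg_perp (D.ndeg_line hee)) (by
    have := D.finrank_perpS (D.ndeg_line hee)
    rw [finrank_span_singleton he] at this
    omega)
  have hxfix : ∀ d, d ∈ perpS T (Submodule.span F {e}) → ∀ c, x (T.tau d c) = T.tau d c := fun d hd c => by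
    rw [hxx, hT.C'_tau, mem_perpS_line.1 hd, zero_smul, map_zero, smul_zero, sub_zero]
  have hnc : ∀ w ∈ Subgroup.closure ({x, y} : Set (V ≃ₗ[F] V)), w * x * w⁻¹ ≠ y := by
    intro w hw hwx
    have key : ∀ d, d ∈ perpS T (Submodule.span F {e}) → ∀ c, ∃ c', (h⁻¹ * w) (T.tau d c) = T.tau a c' :=
      fun d hd c => hrof _ (by
        show r (h⁻¹ (w (T.tau d c))) = h⁻¹ (w (T.tau d c))
        apply h.injective
        rw [ap_inv]
        show y (w (T.tau d c)) = _
        rw [← hwx, LinearEquiv.mul_apply, LinearEquiv.mul_apply, inv_ap', hxfix d hd])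
    refine D.no_pair ha ((LinearIndependent.pair_iff' fun h0 => hd₁' (by simp [h0])).2 fun k hk => ?_)
      (h⁻¹ * w) (key _ hd₁) (key _ hd₂)
    have := congrArg (T.fA d₁) hk
    rw [map_smul, h12, smul_eq_mul, mul_eq_zero, or_iff_left hd₁'] at this
    exact hd₂' (by simp [← hk, this])
  obtain ⟨κ, hκc, hκ1, hκ2, hκx, hκy⟩ := exists_central_involution (LinearEquiv.ext hx2)
    (LinearEquiv.ext hy2) hnc
  obtain ⟨hκ, hκω⟩ := hcl κ hκc
  obtain ⟨M, hM, hMiso, hM2⟩ := D.invol_pure hgood hA hB hee hκ (LinearEquiv.congr_fun hκ2) fun c => by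
    have h1 : x (κ (T.tau e c)) = -κ (T.tau e c) := by
      have h2 := LinearEquiv.congr_fun hκx.eq (T.tau e c)
      rw [LinearEquiv.mul_apply, LinearEquiv.mul_apply] at h2
      rw [← h2, ← map_neg κ, hxx, hT.C'_tau, map_smul, smul_smul, div_mul_cancel₀ _ hee]
      congr 1
      module
    refine ⟨(T.fA e e)⁻¹ • T.C' e (κ (T.tau e c)), ?_⟩
    rw [hxx] at h1
    apply smul_right_injective V D.two
    show (2 : F) • κ (T.tau e c) = (2 : F) • T.tau e _
    rw [map_smul, smul_smul, ← div_eq_mul_inv]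
    linear_combination (norm := module) h1
  have hκid : ∀ s : F, (∀ a', M a' = s • a') → ∀ v, κ v = s • v := fun s hs v =>
    LinearMap.congr_fun (hT.ext_tau (f := (κ : V →ₗ[F] V)) (g := s • LinearMap.id) fun a' c => by
      show κ (T.tau a' c) = s • T.tau a' c
      rw [hM, hs, map_smul, LinearMap.smul_apply]) v
  obtain ⟨c, ε, hcc, hMc, haxis⟩ := D.invol_axis hA hMiso hM2 (by
      by_contra hn
      simp only [not_exists, not_not] at hn
      exact hκ1 (LinearEquiv.ext fun v => by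
        rw [hκid 1 (fun a' => by rw [hn, one_smul]) v, one_smul]; rfl)) (by
      by_contra hn
      simp only [not_exists, not_not] at hn
      have h1 := hκid (-1) (fun a' => by rw [hn, neg_one_smul]) ω
      rw [hκω] at h1
      exact hω0 ((smul_eq_zero.1 (show (2 : F) • ω = 0 by
        linear_combination (norm := module) h1)).resolve_left D.two))
  have hCM : ∀ w v, T.C w (κ v) = M (T.C w v) := fun w v => LinearMap.congr_fun
    (hT.ext_tau (f := T.C w ∘ₗ (κ : V →ₗ[F] V)) (g := M ∘ₗ T.C w) fun a' c' => by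
      show T.C w (κ (T.tau a' c')) = M (T.C w (T.tau a' c'))
      rw [hM, hT.C_tau, hT.C_tau, map_smul]) v
  refine D.plane_of_axis hgood hA hB hh ha hr hr2 hrfix hrof hcc fun c' => ?_
  refine D.rank_one (fun h0 => hcc (by simp [h0])) fun w => haxis _ ?_
  show M (T.C w (y (T.tau c c'))) = ε • T.C w (y (T.tau c c'))
  have h1 : κ (y (T.tau c c')) = y (κ (T.tau c c')) := LinearEquiv.congr_fun hκy.eq _
  rw [← hCM, h1, hM, hMc, map_smul, LinearMap.smul_apply, map_smul, map_smul]

set_option maxHeartbeats 1000000 in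
/-- some anisotropic plane has a pure image: anisotropic points outnumber singular ones -/
theorem exists_planeP (D : SpData T H) (hgood : ∀ L, NDeg T L → finrank F L = 2 → Good T H L)
    (hA : finrank F A = 3) (hB : finrank F B = 2) (hq : 3 ≤ Nat.card F) {h : V ≃ₗ[F] V} (hh : h ∈ H) :
    ∃ a, T.fA a a ≠ 0 ∧ PlaneP T h a := by
  classical
  cases nonempty_fintype F
  by_contra hno
  simp only [not_exists, not_and] at hno
  have hT := D.good
  haveI := Module.nontrivial_of_finrank_pos (R := F) (M := B) (by omega)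
  obtain ⟨b, hb⟩ := exists_ne (0 : B)
  -- a pure vector of `h (A ⊗ b)` has a singular first factor
  have P1 : ∀ α u w, h (T.tau α b) = T.tau u w → w ≠ 0 → T.fA u u = 0 := by
    intro α u w hα hw
    by_contra huu
    obtain ⟨e, he, hee⟩ : ∃ e, T.fA α e = 0 ∧ T.fA e e ≠ 0 := by
      by_cases hαα : T.fA α α = 0
      · rcases eq_or_ne α 0 with rfl | hα0
        · obtain ⟨e, -, -, he, -⟩ := D.exists_orth_three
          exact ⟨e, by simp, he⟩
        obtain ⟨v, hv, hαv, hvα⟩ := D.partnerA hα0 hαα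
        obtain ⟨r₀, hr₀, hr₀0⟩ : ∃ r₀ ∈ perpA T ![α, v], r₀ ≠ 0 := by
          refine Submodule.exists_mem_ne_zero_of_ne_bot fun e => ?_
          have := le_finrank_perpA (T := T) ![α, v]
          rw [e, finrank_bot] at this
          omega
        obtain ⟨e, he, -, hee, -⟩ :=
          D.aniso_in_perp hαα hv hαv hvα (mem_perpA.1 hr₀ 0) (mem_perpA.1 hr₀ 1) hr₀0
        exact ⟨e, hT.A_flip_zero he, hee⟩
      · obtain ⟨e, he, hee⟩ := D.exists_aniso (D.ndeg_perp (D.ndeg_line hαα)) (by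
          have := D.finrank_perpS (D.ndeg_line hαα)
          rw [finrank_span_singleton (fun h0 => hαα (by simp [h0]))] at this
          omega)
        exact ⟨e, hT.A_flip_zero (mem_perpS_line.1 he), hee⟩
    have hω : T.C' e ((h⁻¹ : V ≃ₗ[F] V) (T.tau u w)) = 0 := by
      rw [← hα, inv_ap', hT.C'_tau, he, zero_smul]
    have hp := D.plane_of_fixed hgood hA hB (inv_mem hh) huu hee hw hω
    obtain ⟨δ', f, hf, hδ'⟩ := D.exists_plane_map (inv_mem hh) huu hp
    refine hno δ' hδ' ⟨u, fun c => ⟨f.symm c, ?_⟩⟩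
    conv_lhs => rw [← f.apply_symm_apply c, ← hf, ap_inv]
  have P2 : ∀ α e, T.fA e e ≠ 0 → T.C' e (h (T.tau α b)) = 0 → T.fA α α = 0 := fun α e he h0 => by
    by_contra hαα
    exact hno α hαα (D.plane_of_fixed hgood hA hB hh hαα he hb h0)
  have hne : ∀ α u w, α ≠ 0 → h (T.tau α b) = T.tau u w → u ≠ 0 ∧ w ≠ 0 := fun α u w hα0 hα => by
    have h1 : T.tau α b ≠ 0 := fun h0 => hb (hT.tau_right_inj hα0 (h0.trans (map_zero _).symm))
    constructor <;> rintro rfl <;> simp at hα <;> exact h1 hα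
  -- all these first factors are orthogonal to one singular vector
  obtain ⟨v₀, hv₀0, hv₀, U1⟩ : ∃ v₀, v₀ ≠ 0 ∧ T.fA v₀ v₀ = 0 ∧
      ∀ α u w, α ≠ 0 → h (T.tau α b) = T.tau u w → T.fA u v₀ = 0 := by
    by_cases hex : ∃ α u w, α ≠ 0 ∧ h (T.tau α b) = T.tau u w
    · obtain ⟨α₁, u₁, w₁, hα₁, h₁⟩ := hex
      obtain ⟨hu₁, hw₁⟩ := hne _ _ _ hα₁ h₁
      refine ⟨u₁, hu₁, P1 _ _ _ h₁ hw₁, fun α u w hα hu => ?_⟩
      obtain ⟨hu0, hw0⟩ := hne _ _ _ hα hu
      by_contra huu
      have hf := D.isom h hh (T.tau α b) (T.tau α₁ b)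
      rw [hu, h₁, hT.form_tau, hT.form_tau, D.altB, mul_zero, mul_eq_zero] at hf
      obtain ⟨l, hl⟩ := D.eq_smul_of_B hB hw₁ (hf.resolve_left huu)
      have hl0 : l ≠ 0 := fun h0 => hw0 (by rw [← hl, h0, zero_smul])
      have hs := P1 (α + α₁) (l • u + u₁) w₁ (by
        rw [map_add, LinearMap.add_apply, map_add, hu, h₁, ← hl, map_add, LinearMap.add_apply,
          map_smul, map_smul, LinearMap.smul_apply]) hw₁
      simp only [map_add, map_smul, LinearMap.add_apply, LinearMap.smul_apply, smul_eq_mul,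
        P1 _ _ _ hu hw0, P1 _ _ _ h₁ hw₁, D.symA u u₁, mul_zero, add_zero, zero_add] at hs
      exact huu ((mul_eq_zero.1 (show (2 * l) * T.fA u u₁ = 0 by linear_combination hs)).resolve_left
        (mul_ne_zero D.two hl0))
    · obtain ⟨v₀, h1, h2⟩ := D.exists_iso
      exact ⟨v₀, h1, h2, fun α u w h3 h4 => absurd ⟨α, u, w, h3, h4⟩ hex⟩
  obtain ⟨v₁, hv₁, h01, h10⟩ := D.partnerA hv₀0 hv₀
  obtain ⟨d, hd0, hd1, hdd⟩ : ∃ d, T.fA d v₀ = 0 ∧ T.fA d v₁ = 0 ∧ T.fA d d ≠ 0 := by
    obtain ⟨r₀, hr₀, hr₀0⟩ : ∃ r₀ ∈ perpA T ![v₀, v₁], r₀ ≠ 0 := by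
      refine Submodule.exists_mem_ne_zero_of_ne_bot fun e => ?_
      have := le_finrank_perpA (T := T) ![v₀, v₁]
      rw [e, finrank_bot] at this
      omega
    obtain ⟨d, h1, h2, h3, -⟩ :=
      D.aniso_in_perp hv₀ hv₁ h01 h10 (mem_perpA.1 hr₀ 0) (mem_perpA.1 hr₀ 1) hr₀0
    exact ⟨d, h1, h2, h3⟩
  have h0d : T.fA v₀ d = 0 := hT.A_flip_zero hd0
  have h1d : T.fA v₁ d = 0 := hT.A_flip_zero hd1
  -- coordinates
  have hnd : ∀ x, T.fA x v₀ = 0 → T.fA x d = 0 → T.fA x v₁ = 0 → x = 0 := by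
    intro x e0 ed e1
    refine D.ext_pair hv₀ hv₁ h01 h10 e0 e1 fun r hr0 hr1 => ?_
    by_contra hxr
    have hli : LinearIndependent F ![d, x] := (LinearIndependent.pair_iff' fun h0 => hdd (by simp [h0])).2
      fun k hk => by
        have h' := congrArg (fun z => T.fA z d) hk
        simp only [map_smul, LinearMap.smul_apply, smul_eq_mul, ed, mul_eq_zero, or_iff_left hdd] at h'
        rw [← hk, h', zero_smul, map_zero, LinearMap.zero_apply] at hxr
        exact hxr rfl
    have hK := le_finrank_perpA (T := T) ![v₀, v₁]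
    have hvv : LinearIndependent F ![v₀, v₁] := (LinearIndependent.pair_iff' hv₀0).2 fun k hk => by
      rw [← hk, map_smul, hv₀, smul_zero] at h01
      exact zero_ne_one h01
    have hdim : finrank F (perpA T ![v₀, v₁]) = 1 := by
      refine le_antisymm ?_ (by omega)
      have hdis : perpA T ![v₀, v₁] ⊓ Submodule.span F (Set.range ![v₀, v₁]) = ⊥ :=
        (Submodule.eq_bot_iff _).2 fun z hz => by
          obtain ⟨c, hc⟩ := (Submodule.mem_span_range_iff_exists_fun F).1 hz.2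
          simp only [Fin.sum_univ_two, Matrix.cons_val_zero, Matrix.cons_val_one] at hc
          have z0 : T.fA z v₀ = 0 := mem_perpA.1 hz.1 0
          have z1 : T.fA z v₁ = 0 := mem_perpA.1 hz.1 1
          rw [← hc] at z0 z1
          simp [hv₀, hv₁, h01, h10] at z0 z1
          rw [← hc, z0, z1]; simp
      have hs := Submodule.finrank_sup_add_finrank_inf_eq (perpA T ![v₀, v₁])
        (Submodule.span F (Set.range ![v₀, v₁]))
      rw [hdis, finrank_bot, finrank_span_eq_card hvv, Fintype.card_fin] at hs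
      have := Submodule.finrank_le (perpA T ![v₀, v₁] ⊔ Submodule.span F (Set.range ![v₀, v₁]))
      omega
    have hin : ∀ i, (![d, x] : Fin 2 → A) i ∈ perpA T ![v₀, v₁] := fun i => mem_perpA.2 fun j => by
      fin_cases i <;> fin_cases j <;> simp [hd0, hd1, e0, e1]
    have h2 : finrank F (Submodule.span F (Set.range ![d, x])) ≤ 1 := hdim ▸ Submodule.finrank_mono
      (Submodule.span_le.2 (Set.range_subset_iff.2 hin))
    rw [finrank_span_eq_card hli, Fintype.card_fin] at h2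
    omega
  have hco : ∀ x, x = T.fA x v₁ • v₀ + (T.fA x d / T.fA d d) • d + T.fA x v₀ • v₁ := fun x =>
    sub_eq_zero.1 (hnd _ (by simp [hv₀, hd0, h10]) (by simp [h0d, h1d, hdd]) (by simp [h01, hd1, hv₁]))
  have hQ : ∀ x, T.fA x x = 2 * T.fA x v₁ * T.fA x v₀ + T.fA x d * T.fA x d / T.fA d d := fun x => by
    conv_lhs => arg 2; rw [hco x]
    simp only [map_add, map_smul, smul_eq_mul]
    ring
  -- anisotropic points `t • v₀ + s • d + v₁`, indexed by their norm `r`
  let e : F × {r : F // r ≠ 0} → A := fun p =>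
    ((p.2.1 - T.fA d d * p.1 * p.1) / 2) • v₀ + p.1 • d + v₁
  have hee : ∀ p, T.fA (e p) (e p) = p.2.1 := fun p => by
    simp only [e, map_add, map_smul, LinearMap.add_apply, LinearMap.smul_apply, smul_eq_mul, hv₀, hv₁,
      h01, h10, hd0, hd1, h0d, h1d, mul_zero, add_zero, zero_add, mul_one]
    field_simp [D.two]
    ring
  have hexα : ∀ p, ∃ α : A, α ≠ 0 ∧ T.C' (e p) (h (T.tau α b)) = 0 := fun p => by
    obtain ⟨α, hα, hα0⟩ := Submodule.exists_mem_ne_zero_of_ne_bot
      (p := LinearMap.ker (T.C' (e p) ∘ₗ (h : V →ₗ[F] V) ∘ₗ T.tau.flip b)) fun h0 => by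
        have h1 := (T.C' (e p) ∘ₗ (h : V →ₗ[F] V) ∘ₗ T.tau.flip b).finrank_range_add_finrank_ker
        have h2 := Submodule.finrank_le (LinearMap.range (T.C' (e p) ∘ₗ (h : V →ₗ[F] V) ∘ₗ T.tau.flip b))
        rw [h0, finrank_bot] at h1
        omega
    exact ⟨α, hα0, LinearMap.mem_ker.1 hα⟩
  choose α hα0 hα using hexα
  have hsing : ∀ p, T.fA (α p) (α p) = 0 := fun p => P2 _ _ ((hee p).symm ▸ p.2.2) (hα p)
  -- the singular line of `α p`
  let code : F × {r : F // r ≠ 0} → Option F := fun p =>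
    if T.fA (α p) v₀ = 0 then none else some (T.fA (α p) d / T.fA (α p) v₀)
  have hcode : ∀ p p', code p = code p' → ∃ k : F, α p' = k • α p := by
    intro p p' hpp
    have s := hQ (α p)
    have s' := hQ (α p')
    rw [hsing] at s s'
    by_cases z : T.fA (α p) v₀ = 0 <;> by_cases z' : T.fA (α p') v₀ = 0 <;>
      simp only [code, z, z', if_true, if_false] at hpp
    · rw [z, mul_zero, zero_add, eq_comm, div_eq_zero_iff, or_iff_left hdd, mul_self_eq_zero] at s
      rw [z', mul_zero, zero_add, eq_comm, div_eq_zero_iff, or_iff_left hdd, mul_self_eq_zero] at s'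
      have e1 := hco (α p)
      have e2 := hco (α p')
      simp only [z, s, zero_div, zero_smul, add_zero] at e1
      simp only [z', s', zero_div, zero_smul, add_zero] at e2
      have hne : T.fA (α p) v₁ ≠ 0 := fun h0 => hα0 p (by rw [e1, h0, zero_smul])
      refine ⟨T.fA (α p') v₁ / T.fA (α p) v₁, ?_⟩
      generalize T.fA (α p') v₁ = A'' at e2 ⊢
      generalize T.fA (α p) v₁ = A' at e1 hne ⊢
      rw [e2, e1, smul_smul, div_mul_cancel₀ _ hne]
    · simp at hpp
    · simp at hpp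
    · have hd' := Option.some_injective _ hpp
      set k := T.fA (α p') v₀ / T.fA (α p) v₀ with hk
      have k0 : T.fA (α p') v₀ = k * T.fA (α p) v₀ := by rw [hk, div_mul_cancel₀ _ z]
      have kd : T.fA (α p') d = k * T.fA (α p) d := by
        rw [hk]; field_simp; rw [div_eq_div_iff z z'] at hd'; linear_combination -hd'
      have k1 : T.fA (α p') v₁ = k * T.fA (α p) v₁ := by
        have hkne : k ≠ 0 := div_ne_zero z' z
        rw [k0, kd] at s'
        apply mul_left_cancel₀ (mul_ne_zero (mul_ne_zero D.two hkne) z)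
        linear_combination -s' + k * k * s
      exact ⟨k, sub_eq_zero.1 (hnd _ (by simp [k0]) (by simp [kd]) (by simp [k1]))⟩
  have hinj : Function.Injective code := by
    intro p p' hpp
    by_contra hne'
    obtain ⟨k, hk⟩ := hcode p p' hpp
    have hk0 : k ≠ 0 := fun h0 => hα0 p' (by rw [hk, h0, zero_smul])
    have hω' : T.C' (e p') (h (T.tau (α p) b)) = 0 := by
      have h1 := hα p'
      rw [hk, map_smul, LinearMap.smul_apply, map_smul, map_smul, smul_eq_zero] at h1
      exact h1.resolve_left hk0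
    set ω := h (T.tau (α p) b) with hωd
    have hK : ∀ q, T.C' (e q) ω = 0 → ∀ w, T.fA (T.C w ω) (e q) = 0 := fun q hq w => by
      rw [← hT.form_C, hT.form_C', hq, map_zero, LinearMap.zero_apply]
    obtain ⟨w₀, hw₀⟩ : ∃ w, T.C w ω ≠ 0 := by
      by_contra hn
      simp only [not_exists, not_not] at hn
      have h0 := hT.C_nondeg hn
      rw [hωd, LinearEquiv.map_eq_zero_iff, ← map_zero (T.tau.flip b)] at h0
      exact hα0 p (hT.tau_left_inj hb h0)
    set x₀ := T.C w₀ ω with hx₀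
    set S := p.1 - p'.1 with hS
    set R := (p.2.1 - T.fA d d * p.1 * p.1) / 2 - (p'.2.1 - T.fA d d * p'.1 * p'.1) / 2 with hR
    have hRS : R ≠ 0 ∨ S ≠ 0 := by
      by_contra hn
      rw [not_or, not_not, not_not] at hn
      have e1 : p.1 = p'.1 := sub_eq_zero.1 hn.2
      refine hne' (Prod.ext e1 (Subtype.ext ?_))
      have e2 := hn.1
      rw [hR, e1, ← sub_div, div_eq_zero_iff, or_iff_left D.two] at e2
      linear_combination e2
    have heq : ∀ x, T.fA x (e p) = 0 → T.fA x (e p') = 0 → R * T.fA x v₀ + S * T.fA x d = 0 ∧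
        T.fA x v₁ = -((p.2.1 - T.fA d d * p.1 * p.1) / 2 * T.fA x v₀ + p.1 * T.fA x d) := by
      intro x h1 h2
      simp only [e, map_add, map_smul, smul_eq_mul] at h1 h2
      exact ⟨by rw [hR, hS]; linear_combination h1 - h2, by linear_combination h1⟩
    obtain ⟨q0, q1⟩ := heq x₀ (hK _ (hα p) w₀) (hK _ hω' w₀)
    have hx : T.fA x₀ v₀ ≠ 0 ∨ T.fA x₀ d ≠ 0 := by
      by_contra hn
      rw [not_or, not_not, not_not] at hn
      exact hw₀ (hnd _ hn.1 hn.2 (by rw [q1, hn.1, hn.2]; ring))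
    obtain ⟨w, hw⟩ := D.rank_one hw₀ (x := ω) fun w => by
      obtain ⟨r0, r1⟩ := heq (T.C w ω) (hK _ (hα p) w) (hK _ hω' w)
      obtain ⟨l, l0, l1⟩ : ∃ l, T.fA (T.C w ω) v₀ = l * T.fA x₀ v₀ ∧
          T.fA (T.C w ω) d = l * T.fA x₀ d := by
        rcases hRS with hne | hne
        · have hd' : T.fA x₀ d ≠ 0 := fun h0 => hx.elim (fun h' => h' (by
            rw [h0, mul_zero, add_zero] at q0
            exact (mul_eq_zero.1 q0).resolve_left hne)) (fun h' => h' h0)
          refine ⟨T.fA (T.C w ω) d / T.fA x₀ d, mul_left_cancel₀ (mul_ne_zero hne hd') ?_,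
            by rw [div_mul_cancel₀ _ hd']⟩
          have hl : T.fA (T.C w ω) d / T.fA x₀ d * T.fA x₀ d = T.fA (T.C w ω) d := div_mul_cancel₀ _ hd'
          generalize T.fA (T.C w ω) d / T.fA x₀ d = l at hl ⊢
          linear_combination T.fA x₀ d * r0 - T.fA (T.C w ω) d * q0 - R * T.fA x₀ v₀ * hl
        · have hd' : T.fA x₀ v₀ ≠ 0 := fun h0 => hx.elim (fun h' => h' h0) (fun h' => h' (by
            rw [h0, mul_zero, zero_add] at q0
            exact (mul_eq_zero.1 q0).resolve_left hne))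
          refine ⟨T.fA (T.C w ω) v₀ / T.fA x₀ v₀, by rw [div_mul_cancel₀ _ hd'],
            mul_left_cancel₀ (mul_ne_zero hne hd') ?_⟩
          have hl : T.fA (T.C w ω) v₀ / T.fA x₀ v₀ * T.fA x₀ v₀ = T.fA (T.C w ω) v₀ := div_mul_cancel₀ _ hd'
          generalize T.fA (T.C w ω) v₀ / T.fA x₀ v₀ = l at hl ⊢
          linear_combination T.fA x₀ v₀ * r0 - T.fA (T.C w ω) v₀ * q0 - S * T.fA x₀ d * hl
      refine Submodule.mem_span_singleton.2 ⟨l, sub_eq_zero.1 (hnd _ ?_ ?_ ?_)⟩
      · simp [l0]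
      · simp [l1]
      · simp only [map_sub, map_smul, LinearMap.sub_apply, LinearMap.smul_apply, smul_eq_mul, q1, r1, l0, l1]
        ring
    -- a singular vector orthogonal to `v₀` is a multiple of it
    have hu0 := U1 _ _ _ (hα0 p) hw
    have huu := P1 _ _ _ hw (hne _ _ _ (hα0 p) hw).2
    rw [hQ, hu0, mul_zero, zero_add, div_eq_zero_iff, or_iff_left hdd, mul_self_eq_zero] at huu
    exact hw₀ (hnd _ hu0 huu (by rw [q1, hu0, huu]; ring))
  have hcard := Fintype.card_le_of_injective code hinj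
  rw [Fintype.card_option, Fintype.card_prod, Fintype.card_subtype_compl, Fintype.card_subtype_eq] at hcard
  rw [Nat.card_eq_fintype_card] at hq
  have : 2 * Fintype.card F ≤ Fintype.card F * (Fintype.card F - 1) := by
    rw [mul_comm 2]; exact Nat.mul_le_mul_left _ (by omega)
  omega

/-- `O₃ ⊗ Sp₂`: every element is pure -/
theorem kron_all_three (D : SpData T H) (hno : NoTvSp T H) (hA : finrank F A = 3) (hB : finrank F B = 2)
    (hq : 5 ≤ Nat.card F) {g : V ≃ₗ[F] V} (hg : g ∈ H) : IsKron T g := by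
  classical
  cases nonempty_fintype F
  have hT := D.good
  rw [Nat.card_eq_fintype_card] at hq
  have hbig : ∃ s : F, s ≠ 0 ∧ s ≠ 1 ∧ s ≠ -1 := by
    by_contra hn
    have hsub : (Finset.univ : Finset F) ⊆ {0, 1, -1} := fun s _ => by
      by_contra hs
      simp only [Finset.mem_insert, Finset.mem_singleton, not_or] at hs
      exact hn ⟨s, hs⟩
    have h3 := (Finset.card_le_card hsub).trans Finset.card_le_three
    rw [Finset.card_univ] at h3
    omega
  have hgood : ∀ L, NDeg T L → finrank F L = 2 → Good T H L :=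
    fun L hL d2 => D.good_two_three hno hB (by omega) hbig hL d2
  obtain ⟨a, haa, hp⟩ := D.exists_planeP hgood hA hB (by rw [Nat.card_eq_fintype_card]; omega) hg
  obtain ⟨c, f, hf, hcc⟩ := D.exists_plane_map hg haa hp
  have ha0 : a ≠ 0 := fun e => haa (by simp [e])
  refine D.glueTop (fun e he => hgood _ (D.ndeg_perp (D.ndeg_line he)) (by
      have := D.finrank_perpS (D.ndeg_line he)
      rw [finrank_span_singleton (fun h0 => he (by simp [h0]) : e ≠ 0)] at this
      omega)) hg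
    (P := insert a {x | x ∈ perpS T (Submodule.span F {a}) ∧ T.fA x x ≠ 0}) ?_ ?_
  · refine eq_top_iff.2 fun x _ => ?_
    obtain ⟨l, hl, hlp⟩ := D.split (D.ndeg_line haa) x
    rw [← add_sub_cancel l x]
    refine add_mem (Submodule.span_mono (Set.singleton_subset_iff.2 (Set.mem_insert _ _)) hl)
      (Submodule.span_mono (Set.subset_insert _ _) (D.span_aniso (D.ndeg_perp (D.ndeg_line haa)) hlp))
  · rintro δ (rfl | ⟨hδp, hδ⟩)
    · exact ⟨haa, hp⟩
    refine ⟨hδ, ?_⟩
    obtain ⟨r, hr, hr2, hrfix, hrneg, hrof⟩ := D.exists_negRefl hδ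
    refine D.plane_of_axis hgood hA hB hg (fun e => hδ (by simp [e])) hr hr2 hrfix hrof hcc fun b' => ?_
    refine ⟨-b', ?_⟩
    have hi : g⁻¹ (T.tau c b') = T.tau a (f.symm b') := by
      apply g.injective
      rw [ap_inv, hf, LinearEquiv.apply_symm_apply]
    rw [hi, hrneg a (hT.A_flip_zero (mem_perpS_line.1 hδp)), map_neg, hf, LinearEquiv.apply_symm_apply,
      map_neg]

end SpData

end CfsgLib.MaxSub.TForm
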