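import Cfsg.Agent.Lib.MaxSub.TFormSpBasic

/-!
Orthogonal ⊗ symplectic in odd characteristic: one transvection at a pure vector singular in the orthogonal
factor spreads to all vectors.
-/

set_option autoImplicit false
set_option linter.unusedSectionVars false
set_option linter.unusedSimpArgs false
set_option linter.unusedVariables false

namespace CfsgLib.MaxSub.TForm

open Module

variable {F A B V : Type*} [Field F] [AddCommGroup A] [Module F A] [AddCommGroup B] [Module F B]
  [AddCommGroup V] [Module F V]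

/-- all transvections with centre `ν` are in `H` -/
def FullS (T : Sys F A B V (RingHom.id F)) (H : Subgroup (V ≃ₗ[F] V)) (ν : V) : Prop :=
  ∀ k : F, InH H fun x => x + (k * T.form x ν) • ν

/-- in a finite field of odd characteristic every element is a sum of two squares -/
theorem exists_sq_add_sq [Finite F] (h2 : (2 : F) ≠ 0) (e : F) : ∃ x y : F, x * x + y * y = e := by
  classical
  cases nonempty_fintype F
  open Polynomial in
  obtain ⟨x, y, hxy⟩ := FiniteField.exists_root_sum_quadratic
    (f := (X : F[X]) ^ 2) (g := X ^ 2 - C e) (degree_X_pow 2) (degree_X_pow_sub_C (by norm_num) e)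
    (FiniteField.odd_card_of_char_ne_two fun hc => h2 (by
      haveI := ringChar.of_eq hc
      exact CharTwo.two_eq_zero))
  refine ⟨x, y, ?_⟩
  simp only [Polynomial.eval_sub, Polynomial.eval_pow, Polynomial.eval_X, Polynomial.eval_C] at hxy
  linear_combination hxy

/-- three non-zero linear maps are simultaneously non-zero somewhere -/
theorem exists_three_ne {M W : Type*} [AddCommGroup M] [Module F M] [AddCommGroup W] [Module F W]
    (h2 : (2 : F) ≠ 0) (f g l : M →ₗ[F] W) (hf : f ≠ 0) (hg : g ≠ 0) (hl : l ≠ 0) :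
    ∃ x, f x ≠ 0 ∧ g x ≠ 0 ∧ l x ≠ 0 := by
  obtain ⟨a, haf, hag⟩ : ∃ a, f a ≠ 0 ∧ g a ≠ 0 := by
    obtain ⟨a, ha⟩ : ∃ a, f a ≠ 0 := by
      by_contra h
      simp only [not_exists, not_not] at h
      exact hf (LinearMap.ext h)
    obtain ⟨b, hb⟩ : ∃ b, g b ≠ 0 := by
      by_contra h
      simp only [not_exists, not_not] at h
      exact hg (LinearMap.ext h)
    by_cases h1 : g a = 0
    swap
    · exact ⟨a, ha, h1⟩
    by_cases h3 : f b = 0
    swap
    · exact ⟨b, h3, hb⟩
    exact ⟨a + b, by rw [map_add, h3, add_zero]; exact ha, by rw [map_add, h1, zero_add]; exact hb⟩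
  by_cases hal : l a = 0
  swap
  · exact ⟨a, haf, hag, hal⟩
  obtain ⟨b, hb⟩ : ∃ b, l b ≠ 0 := by
    by_contra h
    simp only [not_exists, not_not] at h
    exact hl (LinearMap.ext h)
  by_cases hfb : f b = 0
  · by_cases h : g (a + b) = 0
    · refine ⟨a - b, by rw [map_sub, hfb, sub_zero]; exact haf, fun e => ?_,
        by rw [map_sub, hal, zero_sub, neg_ne_zero]; exact hb⟩
      refine hag ((smul_eq_zero.1 (show (2 : F) • g a = 0 from ?_)).resolve_left h2)
      rw [map_add] at h
      rw [map_sub] at e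
      linear_combination (norm := module) h + e
    · exact ⟨a + b, by rw [map_add, hfb, add_zero]; exact haf, h,
        by rw [map_add, hal, zero_add]; exact hb⟩
  by_cases hgb : g b = 0
  · by_cases h : f (a + b) = 0
    · refine ⟨a - b, fun e => ?_, by rw [map_sub, hgb, sub_zero]; exact hag,
        by rw [map_sub, hal, zero_sub, neg_ne_zero]; exact hb⟩
      refine haf ((smul_eq_zero.1 (show (2 : F) • f a = 0 from ?_)).resolve_left h2)
      rw [map_add] at h
      rw [map_sub] at e
      linear_combination (norm := module) h + e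
    · exact ⟨a + b, h, by rw [map_add, hgb, add_zero]; exact hag,
        by rw [map_add, hal, zero_add]; exact hb⟩
  exact ⟨b, hfb, hgb, hb⟩

namespace SpData

variable {T : Sys F A B V (RingHom.id F)} {H : Subgroup (V ≃ₗ[F] V)}

theorem full_conj (D : SpData T H) {ν : V} (h : FullS T H ν) {g : V ≃ₗ[F] V} (hg : g ∈ H) :
    FullS T H (g ν) := by
  intro k
  obtain ⟨t, ht, htx⟩ := h k
  refine ⟨g * t * g⁻¹, mul_mem (mul_mem hg ht) (inv_mem hg), fun x => ?_⟩
  have hi : g (g⁻¹ x) = x := by rw [LinearEquiv.coe_inv, LinearEquiv.apply_symm_apply]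
  show g (t (g⁻¹ x)) = x + (k * T.form x (g ν)) • g ν
  rw [htx, map_add, map_smul, hi]
  congr 3
  rw [← D.isom g hg (g⁻¹ x) ν, hi]

theorem full_zero (D : SpData T H) : FullS T H 0 :=
  fun k => ⟨1, one_mem _, fun x => by simp⟩

theorem full_smul (D : SpData T H) {ν : V} (h : FullS T H ν) (l : F) : FullS T H (l • ν) := by
  intro k
  refine (h (k * (l * l))).congr fun x => ?_
  simp only [map_smul, smul_eq_mul, smul_smul]
  congr 2
  ring

theorem full_add (D : SpData T H) {x y : V} (hx : FullS T H x) (hy : FullS T H y)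
    (hne : T.form x y ≠ 0) : FullS T H (x + y) := by
  obtain ⟨t, ht, htx⟩ := hy (T.form x y)⁻¹
  have h1 := D.full_conj hx ht
  rwa [show t x = x + y by
    rw [show t x = x + ((T.form x y)⁻¹ * T.form x y) • y from htx x, inv_mul_cancel₀ hne, one_smul]] at h1

variable [Finite F] [FiniteDimensional F A] [FiniteDimensional F B]

/-- one transvection gives all of them at all pure tensors with singular first factor -/
theorem full_sing (D : SpData T H) (htv : ¬ NoTvSp T H) {v : A} (hv : T.fA v v = 0) (z : B) :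
    FullS T H (T.tau v z) := by
  have hT := D.good
  rcases eq_or_ne v 0 with rfl | hv0
  · rw [map_zero, LinearMap.zero_apply]; exact D.full_zero
  rcases eq_or_ne z 0 with rfl | hz0
  · rw [map_zero]; exact D.full_zero
  simp only [NoTvSp, not_forall, not_not] at htv
  obtain ⟨z₁, hz₁0, v₁, hv₁, hv₁0, k₁, hk₁0, hin⟩ := htv
  have hsq : ∀ μ : F, μ ≠ 0 → InH H fun x =>
      x + (k₁ * μ * μ * T.form x (T.tau v₁ z₁)) • T.tau v₁ z₁ := by
    intro μ hμ
    obtain ⟨g, hg, f, hgf, hfz⟩ := D.transB hz₁0 (smul_ne_zero hμ hz₁0)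
    obtain ⟨t, ht, htx⟩ := hin
    refine ⟨g * t * g⁻¹, mul_mem (mul_mem hg ht) (inv_mem hg), fun x => ?_⟩
    have hi : g (g⁻¹ x) = x := by rw [LinearEquiv.coe_inv, LinearEquiv.apply_symm_apply]
    show g (t (g⁻¹ x)) = _
    rw [htx, map_add, map_smul, hi, ← D.isom g hg (g⁻¹ x) (T.tau v₁ z₁), hi, hgf, hfz, map_smul,
      map_smul, smul_smul, smul_eq_mul]
    congr 2
    ring
  have hzero : InH H fun x : V => x + (0 * T.form x (T.tau v₁ z₁)) • T.tau v₁ z₁ :=
    ⟨1, one_mem _, fun x => by simp⟩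
  have hone : FullS T H (T.tau v₁ z₁) := by
    intro k
    obtain ⟨x, y, hxy⟩ := exists_sq_add_sq D.two (k / k₁)
    have hx : InH H fun u => u + (k₁ * x * x * T.form u (T.tau v₁ z₁)) • T.tau v₁ z₁ := by
      rcases eq_or_ne x 0 with rfl | h
      · simpa using hzero
      · exact hsq x h
    have hy : InH H fun u => u + (k₁ * y * y * T.form u (T.tau v₁ z₁)) • T.tau v₁ z₁ := by
      rcases eq_or_ne y 0 with rfl | h
      · simpa using hzero
      · exact hsq y h
    refine (hx.comp hy).congr fun u => ?_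
    simp only [map_add, map_smul, LinearMap.add_apply, LinearMap.smul_apply, smul_eq_mul, D.altV, mul_zero,
      add_zero]
    rw [eq_div_iff hk₁0] at hxy
    rw [← hxy]
    module
  have hBz : ∀ z, z ≠ 0 → FullS T H (T.tau v₁ z) := by
    intro z hz0
    obtain ⟨g, hg, f, hgf, hfz⟩ := D.transB hz₁0 hz0
    have := D.full_conj hone hg
    rwa [hgf, hfz] at this
  have hmove : ∀ a a', T.fA a a = 0 → T.fA a' a' = 0 → T.fA a a' ≠ 0 →
      FullS T H (T.tau a z) → FullS T H (T.tau a' z) := by
    intro a a' ha ha' hne hfull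
    have hee : T.fA (a - a') (a - a') ≠ 0 := by
      simp only [map_sub, LinearMap.sub_apply, ha, ha', D.symA a a', zero_sub, sub_zero]
      intro e
      exact hne ((mul_eq_zero.1 (show (2 : F) * T.fA a a' = 0 by linear_combination -e)).resolve_left D.two)
    obtain ⟨g, hg, hga⟩ := D.exists_refl hee
    obtain ⟨k, hk, hkab⟩ := D.pureA g hg
    have h4 := D.full_conj hfull hk
    rw [hkab, hga, show 2 * T.fA a (a - a') / T.fA (a - a') (a - a') = 1 by
      rw [div_eq_one_iff_eq hee]
      simp only [map_sub, LinearMap.sub_apply, ha, ha', D.symA a a']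
      ring] at h4
    simpa using h4
  -- a singular vector seeing both
  by_cases hvv : T.fA v₁ v = 0
  swap
  · exact hmove v₁ v hv₁ hv hvv (hBz z hz0)
  obtain ⟨w, hw1, hw2⟩ := exists_both (T.fA.flip v₁) (T.fA.flip v)
    (fun e => hv₁0 (hT.nondegA v₁ fun b => by rw [D.symA b v₁]; exact LinearMap.congr_fun e b))
    (fun e => hv0 (hT.nondegA v fun b => by rw [D.symA b v]; exact LinearMap.congr_fun e b))
  simp only [LinearMap.flip_apply] at hw1 hw2
  set w' := w - (T.fA w w / (2 * T.fA w v₁)) • v₁ with hw'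
  have h2w : (2 : F) * T.fA w v₁ ≠ 0 := mul_ne_zero D.two hw1
  have e1 : T.fA w' w' = 0 := by
    simp only [hw', map_sub, map_smul, LinearMap.sub_apply, LinearMap.smul_apply, smul_eq_mul, hv₁,
      D.symA w v₁]
    have h2 := D.two
    field_simp
    ring
  have e2 : T.fA w' v₁ = T.fA w v₁ := by simp [hw', hv₁]
  have e3 : T.fA w' v = T.fA w v := by simp [hw', hvv]
  exact hmove w' v e1 hv (e3 ▸ hw2)
    (hmove v₁ w' hv₁ e1 (by rw [D.symA w' v₁, e2]; exact hw1) (hBz z hz0))

/-- all pure tensors -/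
theorem full_pure (D : SpData T H) (htv : ¬ NoTvSp T H) (a : A) (b : B) : FullS T H (T.tau a b) := by
  have hT := D.good
  rcases eq_or_ne b 0 with rfl | hb0
  · rw [map_zero]; exact D.full_zero
  by_cases haa : T.fA a a = 0
  · exact D.full_sing htv haa b
  obtain ⟨v, hv, hva⟩ : ∃ v, T.fA v v = 0 ∧ T.fA v a ≠ 0 := by
    obtain ⟨v₁, hv₁0, hv₁⟩ := D.exists_iso
    by_cases h1 : T.fA v₁ a = 0
    swap
    · exact ⟨v₁, hv₁, h1⟩
    obtain ⟨u, hu, hvu, huv⟩ := D.partnerA hv₁0 hv₁
    by_cases h3 : T.fA u a = 0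
    swap
    · exact ⟨u, hu, h3⟩
    have h2 := D.two
    refine ⟨v₁ + a - (T.fA a a / 2) • u, ?_, by simp [h1, h3, haa]⟩
    simp only [map_add, map_sub, map_smul, LinearMap.add_apply, LinearMap.sub_apply,
      LinearMap.smul_apply, smul_eq_mul, hv₁, hu, hvu, huv, h1, h3, D.symA v₁ a, D.symA u a]
    field_simp
    ring
  set s := T.fA a a / (2 * T.fA v a) with hs
  have hsva : 2 * (s * T.fA v a) = T.fA a a := by
    rw [hs]; field_simp [D.two, hva]
  set a₁ := s • v with ha₁
  set a₂ := a - a₁ with ha₂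
  have f1 : T.fA a₁ a₁ = 0 := by simp [ha₁, hv]
  have f2 : T.fA a₂ a₂ = 0 := by
    simp only [ha₂, ha₁, map_sub, map_smul, LinearMap.sub_apply, LinearMap.smul_apply, smul_eq_mul, hv,
      D.symA v a]
    linear_combination -hsva
  have f12 : T.fA a₁ a₂ ≠ 0 := by
    intro e
    apply haa
    simp only [ha₂, ha₁, map_sub, map_smul, LinearMap.sub_apply, LinearMap.smul_apply, smul_eq_mul, hv] at e
    linear_combination 2 * e - hsva
  obtain ⟨p, hp, hp'⟩ := hT.exists_partner hb0
  have h1 : FullS T H (T.tau a₁ b + T.tau a₂ (b + p)) := by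
    refine D.full_add (D.full_sing htv f1 b) (D.full_sing htv f2 (b + p)) ?_
    rw [hT.form_tau, map_add, D.altB, hp', zero_add]
    simp [f12]
  have h2 : FullS T H (T.tau a₁ b + T.tau a₂ (b + p) + T.tau a₂ (-p)) := by
    refine D.full_add h1 (D.full_sing htv f2 (-p)) ?_
    simp only [map_add, LinearMap.add_apply, hT.form_tau, f2, zero_mul, add_zero, map_neg, hp']
    simp [f12]
  convert h2 using 1
  rw [show a = a₁ + a₂ by rw [ha₂, add_sub_cancel]]
  simp only [map_add, map_neg, LinearMap.add_apply]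
  abel

/-- all vectors -/
theorem full_all (D : SpData T H) (htv : ¬ NoTvSp T H) (x : V) : FullS T H x := by
  have hT := D.good
  refine hT.induction D.full_zero (fun x y hx hy => ?_) (D.full_pure htv) x
  by_cases hxy : T.form x y = 0
  swap
  · exact D.full_add hx hy hxy
  rcases eq_or_ne x 0 with rfl | hx0
  · rwa [zero_add]
  rcases eq_or_ne y 0 with rfl | hy0
  · rwa [add_zero]
  rcases eq_or_ne (x + y) 0 with hs | hs
  · rw [hs]; exact D.full_zero
  let L : V → B →ₗ[F] A := fun u =>
    { toFun := fun w => T.C w u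
      map_add' := fun w w' => by rw [hT.C_add]; rfl
      map_smul' := fun k w => by rw [hT.C_smul]; rfl }
  have hL : ∀ u, u ≠ 0 → L u ≠ 0 := fun u hu e => hu (hT.C_nondeg fun w => LinearMap.congr_fun e w)
  obtain ⟨b, hb1, hb2, hb3⟩ := exists_three_ne D.two (L x) (L y) (L (x + y)) (hL x hx0) (hL y hy0)
    (hL _ hs)
  have hA : ∀ c : A, c ≠ 0 → T.fA c ≠ 0 := fun c hc e => hc (hT.nondegA c fun d => by rw [e]; rfl)
  obtain ⟨a, ha1, ha2, ha3⟩ := exists_three_ne D.two (T.fA (L x b)) (T.fA (L y b)) (T.fA (L (x + y) b))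
    (hA _ hb1) (hA _ hb2) (hA _ hb3)
  have key : ∀ u, T.form u (T.tau a b) = T.fA (L u b) a := fun u => hT.form_C u a b
  have h1 := D.full_add hx (D.full_pure htv a b) (by rw [key]; exact ha1)
  have h2 : FullS T H (x + T.tau a b + y) := D.full_add h1 hy (by
    rw [map_add, LinearMap.add_apply, hxy, zero_add, D.swapV, neg_ne_zero, key]
    exact ha2)
  have h3 : FullS T H (x + T.tau a b + y + (-1 : F) • T.tau a b) := D.full_add h2
    (D.full_smul (D.full_pure htv a b) (-1)) (by
    rw [map_smul, smul_eq_mul, map_add, map_add, LinearMap.add_apply, LinearMap.add_apply, D.altV,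
      add_zero, ← LinearMap.add_apply, ← map_add, key, mul_ne_zero_iff]
    exact ⟨neg_ne_zero.2 one_ne_zero, ha3⟩)
  convert h3 using 1
  module

end SpData

end CfsgLib.MaxSub.TForm
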