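import Cfsg.Agent.Lib.MaxSub.TFormSp
import Cfsg.Agent.Lib.MaxSub.TFormSpBoot
import Cfsg.Agent.Lib.MaxSub.TFormSpTwoDim
import Cfsg.Agent.Lib.MaxSub.TensorFrame
import Cfsg.Agent.Lib.MaxSub.TensorMatrix
import Cfsg.Agent.Lib.MaxSub.SympFull
import Cfsg.Agent.Lib.Classical.HermOrder

/-!
The stabiliser of a tensor decomposition `Sp ⊗ GO` is maximal in `Sp`, odd characteristic.
-/

set_option autoImplicit false
set_option linter.unusedSectionVars false
set_option linter.unusedSimpArgs false
set_option maxHeartbeats 1000000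

namespace CfsgLib.MaxSub.TensorSp

open Matrix
open CfsgLib.MaxSub
open scoped MatrixGroups Kronecker
open CfsgLib.Classical (glLin glLin_apply)

variable {F : Type*} [Field F] [Fintype F] {m n₁ n₂ : ℕ}

/-- pure tensors span -/
theorem span_pure {ι : Type} [Fintype ι] [DecidableEq ι] (e : ι ≃ Fin n₁ × Fin n₂) (P : GL ι F) :
    Submodule.span F (Set.range fun p : (Fin n₁ → F) × (Fin n₂ → F) =>
      TensorFrame.pure e P p.1 p.2) = ⊤ := by
  classical
  refine eq_top_iff.2 fun x _ => ?_
  have hx : x = ∑ i, (((P⁻¹ : GL ι F) : Matrix ι ι F) *ᵥ x) i •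
      TensorFrame.pure e P (Pi.single (e i).1 1) (Pi.single (e i).2 1) := by
    have hp : ∀ i, TensorFrame.pure e P (Pi.single (e i).1 1) (Pi.single (e i).2 1) =
        (P : Matrix ι ι F) *ᵥ Pi.single i 1 := fun i => by
      rw [TensorFrame.pure_def]
      congr 1
      funext j
      by_cases h : j = i
      · subst h; simp
      · have hne : e j ≠ e i := fun h' => h (e.injective h')
        simp only [Function.comp_apply, Pi.single_apply, h, if_false, mul_ite, mul_one, mul_zero]
        split_ifs with h1 h2 <;> first | rfl | exact absurd (Prod.ext ‹_› ‹_›) hne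
    simp only [hp, ← mulVec_smul]
    rw [← Matrix.mulVec_sum]
    conv_lhs => rw [← mulVec_mulVec_inv P x]
    congr 1
    exact pi_eq_sum_univ' _
  rw [hx]
  exact Submodule.sum_mem _ fun i _ => Submodule.smul_mem _ _ (Submodule.subset_span ⟨(_, _), rfl⟩)

/-- a singular vector for a symmetric form of dimension at least three -/
theorem exists_sing {k : ℕ} {fA : (Fin k → F) →ₗ[F] (Fin k → F) →ₗ[F] F} (h2 : (2 : F) ≠ 0)
    (hsym : ∀ x y, fA y x = fA x y) (hnd : ∀ x, (∀ y, fA x y = 0) → x = 0)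
    (hk : 3 ≤ Module.finrank F (Fin k → F)) : ∃ a, a ≠ 0 ∧ fA a a = 0 := by
  have h3 : ∀ (φ ψ : Module.Dual F (Fin k → F)), ∃ x, φ x = 0 ∧ ψ x = 0 ∧ x ≠ 0 := fun φ ψ => by
    obtain ⟨x, hx, hx0⟩ : ∃ x ∈ LinearMap.ker (φ.prod ψ), x ≠ 0 := by
      refine Submodule.exists_mem_ne_zero_of_ne_bot fun h => ?_
      have h1 := (φ.prod ψ).finrank_range_add_finrank_ker
      have h4 := Submodule.finrank_le (LinearMap.range (φ.prod ψ))
      rw [h, finrank_bot] at h1
      simp only [Module.finrank_prod, Module.finrank_self] at h4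
      omega
    exact ⟨x, congrArg Prod.fst (LinearMap.mem_ker.1 hx), congrArg Prod.snd (LinearMap.mem_ker.1 hx), hx0⟩
  by_contra hno
  simp only [not_exists, not_and] at hno
  obtain ⟨e, he⟩ : ∃ e : Fin k → F, e ≠ 0 := by
    obtain ⟨e, -, -, he⟩ := h3 0 0
    exact ⟨e, he⟩
  obtain ⟨f, hf, -, hf0⟩ := h3 (fA.flip e) (fA.flip e)
  obtain ⟨g, hg, hg', hg0⟩ := h3 (fA.flip e) (fA.flip f)
  simp only [LinearMap.flip_apply] at hf hg hg'
  open Polynomial in
  obtain ⟨x, y, hxy⟩ := FiniteField.exists_root_sum_quadratic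
    (f := C (fA e e) * X ^ 2) (g := C (fA f f) * X ^ 2 + C (fA g g))
    (degree_C_mul_X_pow 2 (hno e he))
    (by rw [degree_add_C (by rw [degree_C_mul_X_pow 2 (hno f hf0)]; norm_num),
      degree_C_mul_X_pow 2 (hno f hf0)]; rfl)
    (FiniteField.odd_card_of_char_ne_two fun hc => h2 (by
      haveI := ringChar.of_eq hc
      exact CharTwo.two_eq_zero))
  simp only [Polynomial.eval_mul, Polynomial.eval_add, Polynomial.eval_C, Polynomial.eval_pow,
    Polynomial.eval_X] at hxy
  refine hno (x • e + y • f + g) (fun e0 => ?_) ?_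
  · have h1 := congrArg (fun a => fA a g) e0
    simp [hsym g e, hsym g f, hg, hg', hno g hg0] at h1
  · simp only [map_add, map_smul, LinearMap.add_apply, LinearMap.smul_apply, smul_eq_mul,
      hf, hg, hg', hsym f e, hsym g e, hsym g f]
    linear_combination hxy

/-- the stabiliser of `Sp_{n₁} ⊗ GO_{n₂}` is maximal in `Sp` when `n₁ ≥ 4`, or `n₁ = 2` and `n₂ ≥ 5` -/
theorem tensor_symp_orth_maximal (hodd : Odd (Fintype.card F)) (hn₁ : 4 ≤ n₁ ∨ n₁ = 2 ∧ 5 ≤ n₂) (hn₂ : 3 ≤ n₂)
    (hex : ¬ (Fintype.card F = 3 ∧ n₂ = 3)) (e : (Fin m ⊕ Fin m) ≃ Fin n₁ × Fin n₂)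
    (P : GL (Fin m ⊕ Fin m) F) (f₁ : (Fin n₁ → F) → (Fin n₁ → F) → F)
    (f₂ : (Fin n₂ → F) → (Fin n₂ → F) → F) (hf₁ : Cfsg.Geo.IsSymplecticForm f₁)
    (hf₂ : Cfsg.Geo.IsSymmetricForm f₂)
    (hT : Cfsg.Geo.IsTensorFormStructure id (Cfsg.sympForm m F) f₁ f₂ e P) :
    Cfsg.Geo.IsMaximalIn (Cfsg.spGL m F)
      (Cfsg.Geo.tensorProductSubgroup n₁ n₂ e P ⊓ Cfsg.spGL m F) := by
  classical
  have h2 : (2 : F) ≠ 0 := Ring.two_ne_zero fun h => by
    rw [FiniteField.even_card_iff_char_two] at h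
    obtain ⟨k, hk⟩ := hodd
    omega
  let B₁ : (Fin n₁ → F) →ₗ[F] (Fin n₁ → F) →ₗ[F] F := LinearMap.mk₂ F f₁ hf₁.bilinear.add_left
    hf₁.bilinear.smul_left hf₁.bilinear.add_right hf₁.bilinear.smul_right
  let B₂ : (Fin n₂ → F) →ₗ[F] (Fin n₂ → F) →ₗ[F] F := LinearMap.mk₂ F f₂ hf₂.bilinear.add_left
    hf₂.bilinear.smul_left hf₂.bilinear.add_right hf₂.bilinear.smul_right
  let BV : (Fin m ⊕ Fin m → F) →ₗ[F] (Fin m ⊕ Fin m → F) →ₗ[F] F := LinearMap.mk₂ F (Cfsg.sympForm m F)
    sympForm_add_left sympForm_smul_left (fun v x y => sympForm_add_right x y v)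
    (fun c v x => sympForm_smul_right c x v)
  have gram : ∀ {k : ℕ} {f : (Fin k → F) → (Fin k → F) → F}, Cfsg.Geo.IsBilinearForm f →
      ∀ x y, Cfsg.Geo.formOfGram id (Cfsg.Geo.gramMatrix f) x y = f x y :=
    fun {k f} h => TensorFrame.formOfGram_gram _ f h.add_left h.smul_left h.add_right h.smul_right
  obtain ⟨c, hc0, hpure⟩ := TensorFrame.form_pure (fun _ _ => rfl) hT (gram hf₁.bilinear)
    (gram hf₂.bilinear)
  let tau : (Fin n₂ → F) →ₗ[F] (Fin n₁ → F) →ₗ[F] (Fin m ⊕ Fin m → F) := (TensorFrame.pure e P).flip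
  let fA := B₂
  let fB : (Fin n₁ → F) →ₗ[F] (Fin n₁ → F) →ₗ[F] F := c • B₁
  choose C hC using fun w : Fin n₁ → F => TensorFrame.pure_contract' e P (fB.flip w)
  choose C' hC' using fun x : Fin n₂ → F => TensorFrame.pure_contract e P (fA.flip x)
  let T : TForm.Sys F (Fin n₂ → F) (Fin n₁ → F) (Fin m ⊕ Fin m → F) (RingHom.id F) :=
    { tau := tau, fA := fA, fB := fB, form := BV, C := C, C' := C' }
  have good : T.Good 1 :=
    { invol := fun _ => rfl
      eps := one_ne_zero
      hermA := fun x y => by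
        rw [one_mul, RingHom.id_apply]
        exact hf₂.symm y x
      skewB := fun x y => by
        show c * f₁ y x = -(c * f₁ x y)
        rw [hf₁.skew y x, mul_neg]
      nondegA := fun x hx => by
        by_contra hx0
        obtain ⟨y, hy⟩ := (hf₂.nondegenerate x hx0).2
        exact hy (hx y)
      nondegB := fun x hx => by
        by_contra hx0
        obtain ⟨y, hy⟩ := (hf₁.nondegenerate x hx0).2
        exact mul_ne_zero hc0 hy (hx y)
      form_tau := fun a b a' b' => by
        show Cfsg.sympForm m F (TensorFrame.pure e P b a) (TensorFrame.pure e P b' a') =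
          f₂ a a' * (c * f₁ b b')
        rw [hpure]; ring
      C_tau := fun w a b => hC w a b
      C'_tau := fun x a b => hC' x b a
      span := by
        refine eq_top_iff.2 (le_trans (eq_top_iff.1 (span_pure e P)) (Submodule.span_le.2 ?_))
        rintro _ ⟨⟨b, a⟩, rfl⟩
        exact Submodule.subset_span ⟨(a, b), rfl⟩ }
  -- elements of the stabiliser
  set K := Cfsg.spGL m F with hK
  set S := Cfsg.Geo.tensorProductSubgroup n₁ n₂ e P with hS
  have tens_apply : ∀ (u : GL (Fin n₁) F) (v : GL (Fin n₂) F) x y,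
      glLin (TensorMax.tensGL e P u v) (tau y x) =
        tau ((v : Matrix (Fin n₂) (Fin n₂) F) *ᵥ y) ((u : Matrix (Fin n₁) (Fin n₁) F) *ᵥ x) := by
    intro u v x y
    rw [glLin_apply, TensorMax.tensGL_val]
    show _ *ᵥ TensorFrame.pure e P x y = TensorFrame.pure e P _ _
    rw [TensorFrame.pure_def, TensorFrame.pure_def, mulVec_mulVec, Matrix.mul_assoc, ← Units.val_mul,
      inv_mul_cancel, Units.val_one, mul_one, ← mulVec_mulVec]
    congr 1
    funext i
    simp only [mulVec, dotProduct, reindex_apply, submatrix_apply, Equiv.symm_symm, Function.comp_apply]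
    rw [Equiv.sum_comp e (fun p : Fin n₁ × Fin n₂ =>
      ((u : Matrix (Fin n₁) (Fin n₁) F) ⊗ₖ (v : Matrix (Fin n₂) (Fin n₂) F)) (e i) p * (x p.1 * y p.2)),
      Fintype.sum_prod_type, Finset.sum_mul_sum]
    exact Finset.sum_congr rfl fun p _ => Finset.sum_congr rfl fun r _ => by
      rw [kroneckerMap_apply]; ring
  have isom_of_pure : ∀ g : GL (Fin m ⊕ Fin m) F,
      (∀ a b a' b', T.form (glLin g (tau a b)) (glLin g (tau a' b')) = T.form (tau a b) (tau a' b')) →
      g ∈ Cfsg.spGL m F := by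
    intro g hg x y
    show T.form (glLin g x) (glLin g y) = T.form x y
    refine good.induction (p := fun x => T.form (glLin g x) (glLin g y) = T.form x y) (by simp)
      (fun u u' hu hu' => by simp only [map_add, LinearMap.add_apply, hu, hu']) (fun a b => ?_) x
    exact good.induction (p := fun y => T.form (glLin g (tau a b)) (glLin g y) = T.form (tau a b) y)
      (by simp) (fun u u' hu hu' => by simp only [map_add, LinearMap.add_apply, hu, hu'])
      (fun a' b' => hg a b a' b') y
  refine ⟨lt_of_le_of_ne inf_le_right ?_, fun M hM1 hM2 => ?_⟩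
  swap
  · set H : Subgroup ((Fin m ⊕ Fin m → F) ≃ₗ[F] (Fin m ⊕ Fin m → F)) := M.map glLin.toMonoidHom
      with hHdef
    have D : TForm.SpData T H :=
      { good := good
        isom := by
          rintro _ ⟨g, hg, rfl⟩ x y
          exact hM2 hg x y
        two := h2
        pureA := fun g hg => by
          obtain ⟨v, hv⟩ := (glLin (F := F) (ι := Fin n₂)).surjective g
          have hv' : ∀ x, (v : Matrix (Fin n₂) (Fin n₂) F) *ᵥ x = g x := fun x => by
            rw [← hv, glLin_apply]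
          refine ⟨glLin (TensorMax.tensGL e P 1 v), ⟨_, hM1 ⟨TensorMax.tensGL_mem e P 1 v,
            isom_of_pure _ fun a b a' b' => ?_⟩, rfl⟩, fun a b => ?_⟩
          · rw [tens_apply, tens_apply, hv', hv', Units.val_one, one_mulVec, one_mulVec,
              good.form_tau, good.form_tau, hg]
          · show glLin _ (tau a b) = tau (g a) b
            rw [tens_apply, hv', Units.val_one, one_mulVec]
        pureB := fun g hg => by
          obtain ⟨v, hv⟩ := (glLin (F := F) (ι := Fin n₁)).surjective g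
          have hv' : ∀ x, (v : Matrix (Fin n₁) (Fin n₁) F) *ᵥ x = g x := fun x => by
            rw [← hv, glLin_apply]
          refine ⟨glLin (TensorMax.tensGL e P v 1), ⟨_, hM1 ⟨TensorMax.tensGL_mem e P v 1,
            isom_of_pure _ fun a b a' b' => ?_⟩, rfl⟩, fun a b => ?_⟩
          · rw [tens_apply, tens_apply, hv', hv', Units.val_one, one_mulVec, one_mulVec,
              good.form_tau, good.form_tau, hg]
          · show glLin _ (tau a b) = tau a (g b)
            rw [tens_apply, hv', Units.val_one, one_mulVec]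
        dimA := by rw [Module.finrank_fin_fun]; exact hn₂
        dimB := by rw [Module.finrank_fin_fun]; omega
        big := fun h => by
          rw [Module.finrank_fin_fun] at h
          by_contra hno
          simp only [not_exists, not_and, not_not] at hno
          refine hex ⟨?_, h⟩
          have hsub : (Finset.univ : Finset F) ⊆ {0, 1, -1} := by
            intro R _
            simp only [Finset.mem_insert, Finset.mem_singleton]
            rcases eq_or_ne R 0 with hR | hR
            · exact Or.inl hR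
            · exact Or.inr (mul_self_eq_one_iff.1 (hno R hR))
          have h3 := (Finset.card_le_card hsub).trans Finset.card_le_three
          rw [Finset.card_univ] at h3
          have h1 := Fintype.one_lt_card (α := F)
          obtain ⟨k, hk⟩ := hodd
          omega }
    by_cases hno : TForm.NoTvSp T H
    · left
      refine le_antisymm (fun g hg => ⟨?_, hM2 hg⟩) hM1
      obtain ⟨Mf, hf', hgab⟩ : TForm.IsKron T (glLin g) := by
        rcases hn₁ with h4 | ⟨h2', h5⟩
        · exact D.kron_all (by rw [Module.finrank_fin_fun]; omega) hno (h := glLin g) ⟨g, hg, rfl⟩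
        · exact D.kron_all_two hno (by rw [Module.finrank_fin_fun, h2']) (by rw [Module.finrank_fin_fun]; exact h5)
            (g := glLin g) ⟨g, hg, rfl⟩
      obtain ⟨a₀, ha₀⟩ : ∃ a : Fin n₂ → F, a ≠ 0 := ⟨Pi.single ⟨0, by omega⟩ 1, fun e0 => by
        simpa using congrFun e0 ⟨0, by omega⟩⟩
      obtain ⟨b₀, hb₀⟩ : ∃ b : Fin n₁ → F, b ≠ 0 := ⟨Pi.single ⟨0, by omega⟩ 1, fun e0 => by
        simpa using congrFun e0 ⟨0, by omega⟩⟩
      have hMinj : Function.Injective Mf := by
        refine (injective_iff_map_eq_zero Mf).2 fun a ha => ?_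
        have h0 : tau a b₀ = 0 := (glLin g).injective (by
          rw [map_zero]
          show glLin g (T.tau a b₀) = 0
          rw [hgab, ha, map_zero, LinearMap.zero_apply])
        by_contra ha0
        exact hb₀ (good.tau_right_inj ha0 (h0.trans (map_zero (tau a)).symm))
      have hhinj : Function.Injective hf' := by
        refine (injective_iff_map_eq_zero hf').2 fun b hb => ?_
        have h0 : tau a₀ b = 0 := (glLin g).injective (by
          rw [map_zero]
          show glLin g (T.tau a₀ b) = 0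
          rw [hgab, hb, map_zero])
        exact good.tau_right_inj ha₀ (h0.trans (map_zero (tau a₀)).symm)
      obtain ⟨v, hv⟩ := (glLin (F := F) (ι := Fin n₂)).surjective (LinearEquiv.ofInjectiveEndo Mf hMinj)
      obtain ⟨u, hu⟩ := (glLin (F := F) (ι := Fin n₁)).surjective (LinearEquiv.ofInjectiveEndo hf' hhinj)
      have hge : g = TensorMax.tensGL e P u v := glLin.injective (LinearEquiv.ext fun x =>
        LinearMap.congr_fun (good.ext_tau (f := (glLin g).toLinearMap)
          (g := (glLin (TensorMax.tensGL e P u v)).toLinearMap) fun a b => by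
          show glLin g (tau a b) = glLin _ (tau a b)
          rw [tens_apply, ← glLin_apply, ← glLin_apply, hu, hv]
          exact hgab a b) x)
      rw [hge]
      exact TensorMax.tensGL_mem e P u v
    · right
      refine le_antisymm hM2 (spGL_le_of_spFull fun v k => ?_)
      obtain ⟨_, ⟨g, hg, rfl⟩, hgx⟩ := D.full_all hno v k
      refine ⟨by rw [smul_dotProduct, spDual_dot, sympForm_self, smul_zero], g, hg,
        Matrix.ext_of_mulVec_single fun i => ?_⟩
      rw [spTv_mulVec, ← glLin_apply]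
      exact hgx _
  -- a transvection at a pure singular vector is not pure
  intro hEq
  obtain ⟨a, ha0, haa, u, hau⟩ : ∃ a : Fin n₂ → F, a ≠ 0 ∧ T.fA a a = 0 ∧ ∃ u, T.fA u a = 1 := by
    obtain ⟨a, ha0, haa⟩ := exists_sing (fA := fA) h2 (fun x y => hf₂.symm y x) good.nondegA
      (by rw [Module.finrank_fin_fun]; exact hn₂)
    obtain ⟨u, hu⟩ := (hf₂.nondegenerate a ha0).1
    exact ⟨a, ha0, haa, (f₂ u a)⁻¹ • u, by
      rw [map_smul, LinearMap.smul_apply, smul_eq_mul]; exact inv_mul_cancel₀ hu⟩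
  obtain ⟨z, hz0⟩ : ∃ b : Fin n₁ → F, b ≠ 0 := ⟨Pi.single ⟨0, by omega⟩ 1, fun e0 => by
    simpa using congrFun e0 ⟨0, by omega⟩⟩
  obtain ⟨b, hbz, hzb⟩ := good.exists_partner hz0
  have hbb : T.fB b b = 0 := by
    show c * f₁ b b = 0
    rw [hf₁.alternating, mul_zero]
  set ν := tau a z with hν
  have hgK := spTv_mem_spGL ν (1 : F)
  have hgH : tvGL ν ((1 : F) • (Matrix.J (Fin m) F *ᵥ ν)) (spDual_smul_dot 1 ν) ∈ S ⊓ K := by
    rw [hEq]; exact hgK
  obtain ⟨au, bv, hab⟩ := TensorFrame.tensor_mem hgH.1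
  have h := hab b u
  rw [coe_tvGL, spTv_mulVec, one_mul] at h
  change T.tau u b + T.form (T.tau u b) (T.tau a z) • T.tau a z = T.tau _ _ at h
  rw [good.form_tau, hau, hbz, one_mul, one_smul] at h
  set A' := (bv : Matrix (Fin n₂) (Fin n₂) F) *ᵥ u with hA'
  set B' := (au : Matrix (Fin n₁) (Fin n₁) F) *ᵥ b with hB'
  have hh1 := congrArg (T.C b) h
  rw [map_add, good.C_tau, good.C_tau, good.C_tau, hbb, hzb, zero_smul, zero_add] at hh1
  have hh2 := congrArg (T.C' a) h
  rw [map_add, good.C'_tau, good.C'_tau, good.C'_tau, haa, hau, zero_smul, add_zero, one_smul] at hh2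
  have hh3 : T.fA A' a * T.fB B' b = 0 := by
    have h3 := congrArg (fun y => T.fA y a) hh1
    simp only [map_smul, LinearMap.smul_apply, smul_eq_mul, haa, mul_zero] at h3
    linear_combination -h3
  rcases mul_eq_zero.1 hh3 with h4 | h4
  · rw [h4, zero_smul] at hh2
    rw [hh2, map_zero, LinearMap.zero_apply] at hbz
    exact zero_ne_one hbz
  · rw [h4, zero_smul] at hh1
    exact ha0 ((smul_eq_zero.1 hh1).resolve_left (neg_ne_zero.2 one_ne_zero))

/-- the stabiliser of `Sp_{n₁} ⊗ GO_{n₂}` is maximal in `Sp` when `n₁ ≥ 4` -/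
theorem tensor_symp_orth_maximal_four (hodd : Odd (Fintype.card F)) (hn₁ : 4 ≤ n₁) (hn₂ : 3 ≤ n₂)
    (hex : ¬ (Fintype.card F = 3 ∧ n₂ = 3)) (e : (Fin m ⊕ Fin m) ≃ Fin n₁ × Fin n₂)
    (P : GL (Fin m ⊕ Fin m) F) (f₁ : (Fin n₁ → F) → (Fin n₁ → F) → F)
    (f₂ : (Fin n₂ → F) → (Fin n₂ → F) → F) (hf₁ : Cfsg.Geo.IsSymplecticForm f₁)
    (hf₂ : Cfsg.Geo.IsSymmetricForm f₂)
    (hT : Cfsg.Geo.IsTensorFormStructure id (Cfsg.sympForm m F) f₁ f₂ e P) :
    Cfsg.Geo.IsMaximalIn (Cfsg.spGL m F)
      (Cfsg.Geo.tensorProductSubgroup n₁ n₂ e P ⊓ Cfsg.spGL m F) :=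
  tensor_symp_orth_maximal hodd (Or.inl hn₁) hn₂ hex e P f₁ f₂ hf₁ hf₂ hT

end CfsgLib.MaxSub.TensorSp
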