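import Cfsg.Agent.Lib.MaxSub.SpPolar
import Cfsg.Agent.Lib.MaxSub.Quad

/-!
The unitary subgroup of the symplectic group given by an anti-self-adjoint `j` with `j² = d` a
non-square: an overgroup of it not normalising `F[j]` contains all symplectic transvections.
-/

set_option autoImplicit false
set_option linter.unusedSectionVars false

namespace CfsgLib.MaxSub

open Matrix
open scoped MatrixGroups

variable {m : ℕ} {F : Type*} [Field F]

local notation "𝕍" => (Fin m ⊕ Fin m → F)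

/-- the symplectic transvection `x ↦ x + c f(x,v) v` -/
def spT (v : Fin m ⊕ Fin m → F) (c : F) : GL (Fin m ⊕ Fin m) F :=
  tvGL v (c • (Matrix.J (Fin m) F *ᵥ v)) (spDual_smul_dot c v)

theorem spT_mulVec (v : 𝕍) (c : F) (x : 𝕍) :
    (spT v c : Matrix (Fin m ⊕ Fin m) (Fin m ⊕ Fin m) F) *ᵥ x =
      x + (c * Cfsg.sympForm m F x v) • v := by rw [spT, coe_tvGL, spTv_mulVec]

theorem spT_mem_spGL (v : 𝕍) (c : F) : spT v c ∈ Cfsg.spGL m F := spTv_mem_spGL v c

theorem hasSpTv_iff_spT {M : Subgroup (GL (Fin m ⊕ Fin m) F)} (v : 𝕍) (c : F) :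
    HasSpTv M v c ↔ spT v c ∈ M := hasSpTv_iff v c

theorem spT_inv (v : 𝕍) (c : F) : (spT v c)⁻¹ = spT v (-c) := by
  refine inv_eq_of_mul_eq_one_right (GL_ext_mulVec fun x => ?_)
  rw [Units.val_mul, ← mulVec_mulVec, spT_mulVec, spT_mulVec, Units.val_one, one_mulVec,
    sympForm_add_left, sympForm_smul_left, sympForm_self]
  module

theorem spT_conj {g : GL (Fin m ⊕ Fin m) F} (hg : g ∈ Cfsg.spGL m F) (v : 𝕍) (c : F) :
    g * spT v c * g⁻¹ = spT ((g : Matrix (Fin m ⊕ Fin m) (Fin m ⊕ Fin m) F) *ᵥ v) c := by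
  refine GL_ext_mulVec fun x => ?_
  have e : Cfsg.sympForm m F
      (((g⁻¹ : GL (Fin m ⊕ Fin m) F) : Matrix (Fin m ⊕ Fin m) (Fin m ⊕ Fin m) F) *ᵥ x) v =
      Cfsg.sympForm m F x ((g : Matrix (Fin m ⊕ Fin m) (Fin m ⊕ Fin m) F) *ᵥ v) := by
    rw [← spGL_form hg, mulVec_mulVec_inv]
  rw [Units.val_mul, Units.val_mul, ← mulVec_mulVec, ← mulVec_mulVec, spT_mulVec, spT_mulVec,
    mulVec_add, mulVec_smul, mulVec_mulVec_inv, e]

variable (j : Matrix (Fin m ⊕ Fin m) (Fin m ⊕ Fin m) F) (d : F)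

/-- the unitary transvection attached to a vector with `f(v, jv) = 0` -/
def spU (v : Fin m ⊕ Fin m → F) (c : F) : GL (Fin m ⊕ Fin m) F :=
  spT v c * spT (j *ᵥ v) (-(c / d))

theorem spU_mem_spGL (v : 𝕍) (c : F) : spU j d v c ∈ Cfsg.spGL m F :=
  mul_mem (spT_mem_spGL _ _) (spT_mem_spGL _ _)

/-- `j` is anti-self-adjoint with `j² = d`, a non-square. -/
structure SpAnti : Prop where
  anti : ∀ u v, Cfsg.sympForm m F (j *ᵥ u) v = -Cfsg.sympForm m F u (j *ᵥ v)
  sq : ∀ v, j *ᵥ (j *ᵥ v) = d • v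
  nonsq : ∀ c : F, c * c ≠ d

variable {j d}

namespace SpAnti

variable (A : SpAnti (m := m) j d)
include A

theorem d_ne : d ≠ 0 := fun h => A.nonsq 0 (by rw [mul_zero, h])

theorem form_jj (u v : 𝕍) :
    Cfsg.sympForm m F (j *ᵥ u) (j *ᵥ v) = -(d * Cfsg.sympForm m F u v) := by
  rw [A.anti, A.sq, sympForm_smul_right]

theorem form_symm (u v : 𝕍) :
    Cfsg.sympForm m F u (j *ᵥ v) = Cfsg.sympForm m F v (j *ᵥ u) := by
  rw [sympForm_swap (j *ᵥ v) u, A.anti, neg_neg]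

theorem indep {v : 𝕍} (hv : v ≠ 0) {p q : F} (h : p • v + q • (j *ᵥ v) = 0) : p = 0 ∧ q = 0 := by
  by_cases hq : q = 0
  · refine ⟨?_, hq⟩
    rw [hq, zero_smul, add_zero] at h
    exact (smul_eq_zero.1 h).resolve_right hv
  · exfalso
    have h1 : j *ᵥ v = (-(p / q)) • v := by
      have := congrArg (q⁻¹ • ·) h
      simp only [smul_add, smul_smul, inv_mul_cancel₀ hq, one_smul, smul_zero] at this
      linear_combination (norm := module) this
    have h2 := A.sq v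
    rw [h1, mulVec_smul, h1, smul_smul] at h2
    have h3 : ((-(p / q)) * (-(p / q)) - d) • v = 0 := by rw [sub_smul, h2, sub_self]
    exact A.nonsq _ (sub_eq_zero.1 ((smul_eq_zero.1 h3).resolve_right hv))

/-- a combination in the `F[j]`-span of `v` which is killed forces `v = 0` -/
theorem norm_ne {r : F} : 1 - r * r * d ≠ 0 := by
  intro h
  rcases eq_or_ne r 0 with rfl | hr
  · simp at h
  · exact A.nonsq r⁻¹ (mul_left_cancel₀ (mul_ne_zero hr hr) (by field_simp; linear_combination h))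

theorem spU_mulVec {v : 𝕍} (hv : Cfsg.sympForm m F v (j *ᵥ v) = 0) (c : F) (x : 𝕍) :
    (spU j d v c : Matrix (Fin m ⊕ Fin m) (Fin m ⊕ Fin m) F) *ᵥ x =
      x + (c * Cfsg.sympForm m F x v) • v +
        (-(c / d) * Cfsg.sympForm m F x (j *ᵥ v)) • (j *ᵥ v) := by
  rw [spU, Units.val_mul, ← mulVec_mulVec, spT_mulVec, spT_mulVec, sympForm_add_left,
    sympForm_smul_left, sympForm_eq_zero_swap hv]
  module

theorem spU_comm {v : 𝕍} (hv : Cfsg.sympForm m F v (j *ᵥ v) = 0) (c : F) (x : 𝕍) :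
    (spU j d v c : Matrix (Fin m ⊕ Fin m) (Fin m ⊕ Fin m) F) *ᵥ (j *ᵥ x) =
      j *ᵥ ((spU j d v c : Matrix (Fin m ⊕ Fin m) (Fin m ⊕ Fin m) F) *ᵥ x) := by
  rw [A.spU_mulVec hv, A.spU_mulVec hv, mulVec_add, mulVec_add, mulVec_smul, mulVec_smul, A.sq,
    A.form_jj, A.anti]
  have hd := A.d_ne
  match_scalars <;> field_simp

/-- the quadratic form `v ↦ f(v, jv)` -/
theorem quadForm (h2 : (2 : F) ≠ 0) :
    Cfsg.Geo.IsNondegenerateQuadraticForm (fun v : 𝕍 => Cfsg.sympForm m F v (j *ᵥ v)) := by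
  have hpol : ∀ u v : 𝕍, QuadraticMap.polar (fun v : 𝕍 => Cfsg.sympForm m F v (j *ᵥ v)) u v =
      2 * Cfsg.sympForm m F u (j *ᵥ v) := fun u v => by
    simp only [QuadraticMap.polar, mulVec_add, sympForm_add_left, sympForm_add_right]
    rw [A.form_symm v u]; ring
  have hne : ∀ v : 𝕍, v ≠ 0 → j *ᵥ v ≠ 0 := fun v hv h =>
    hv (by
      have := A.sq v
      rw [h, mulVec_zero] at this
      exact (smul_eq_zero.1 this.symm).resolve_left A.d_ne)
  refine ⟨fun c v => ?_, ⟨fun u v w => ?_, fun c u v => ?_, fun u v w => ?_, fun c u v => ?_⟩,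
    fun v hv => ?_⟩
  · simp only [mulVec_smul, sympForm_smul_left, sympForm_smul_right]; ring
  · simp only [hpol, sympForm_add_left]; ring
  · simp only [hpol, sympForm_smul_left]; ring
  · simp only [hpol, mulVec_add, sympForm_add_right]; ring
  · simp only [hpol, mulVec_smul, sympForm_smul_right]; ring
  · obtain ⟨y, hy⟩ : ∃ y, Cfsg.sympForm m F y (j *ᵥ v) ≠ 0 := by
      by_contra hno
      push Not at hno
      refine hne v hv (CfsgLib.Geom.sympBilin_sep _ fun y => ?_)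
      rw [CfsgLib.Geom.sympBilin_apply, sympForm_swap, hno, neg_zero]
    exact ⟨⟨y, by rw [hpol]; exact mul_ne_zero h2 hy⟩,
      ⟨y, by rw [hpol, A.form_symm]; exact mul_ne_zero h2 hy⟩⟩

variable [Finite F] (h2 : (2 : F) ≠ 0) (hm : 5 ≤ m)
include h2 hm

/-- an isotropic vector orthogonal to a few vectors and not to `b` -/
theorem exists_iso [DecidableEq 𝕍] {S : Finset 𝕍} (hS : S.card ≤ 3) {b : 𝕍}
    (hb : b ∉ Submodule.span F (S : Set 𝕍)) :
    ∃ z, Cfsg.sympForm m F z (j *ᵥ z) = 0 ∧ (∀ s ∈ S, Cfsg.sympForm m F z s = 0) ∧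
      Cfsg.sympForm m F z b ≠ 0 := by
  have h1 := finrank_le_finrank_spPerp_add (Submodule.span F (S : Set 𝕍))
  have h3 := finrank_span_finset_le_card (R := F) S
  obtain ⟨y, hy, hby⟩ := exists_spPerp_of_notMem hb
  obtain ⟨z, hz, hQz, hzb⟩ := exists_singular_avoid (A.quadForm h2) h2
    (W := spPerp (Submodule.span F (S : Set 𝕍))) (P := LinearMap.ker (spLin b))
    (by
      rw [Fintype.card_sum, Fintype.card_fin]
      simp only [Set.finrank] at h3
      omega)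
    (fun hle => hby (sympForm_eq_zero_swap (hle hy)))
  exact ⟨z, hQz, fun s hs => hz s (Submodule.subset_span hs), hzb⟩

variable {M : Subgroup (GL (Fin m ⊕ Fin m) F)}
  (hU : ∀ v c, Cfsg.sympForm m F v (j *ᵥ v) = 0 → spU j d v c ∈ M)
include hU

/-- A product `T(a) T(b)` in `M` with `b` outside `F[j] a` gives a full transvection group at an
isotropic vector. -/
theorem exists_full {a b : 𝕍} {c e : F} (he : e ≠ 0) (hab : Cfsg.sympForm m F a b = 0)
    (hb : b ∉ Submodule.span F {a, j *ᵥ a}) (hE : spT a c * spT b e ∈ M) :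
    ∃ y : 𝕍, y ≠ 0 ∧ Cfsg.sympForm m F y (j *ᵥ y) = 0 ∧ SpFull M y := by
  classical
  have hd := A.d_ne
  -- removing `jb` from a span
  have hdrop : ∀ s : Set 𝕍, (∀ x ∈ s, j *ᵥ x ∈ Submodule.span F s) →
      b ∈ Submodule.span F (insert (j *ᵥ b) s) → b ∈ Submodule.span F s := by
    intro s hs h
    rw [Submodule.mem_span_insert] at h
    obtain ⟨r, t, ht, hbt⟩ := h
    have hjt : j *ᵥ t ∈ Submodule.span F s := by
      have hle : Submodule.span F s ≤ (Submodule.span F s).comap (Matrix.toLin' j) :=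
        Submodule.span_le.2 fun x hx => hs x hx
      exact hle ht
    have hjb : j *ᵥ b = r • (d • b) + j *ᵥ t := by
      conv_lhs => rw [hbt]
      rw [mulVec_add, mulVec_smul, A.sq]
    have : (1 - r * r * d) • b = t + r • (j *ᵥ t) := by
      linear_combination (norm := module) hbt + r • hjb
    exact (Submodule.smul_mem_iff _ A.norm_ne).1 (this ▸ add_mem ht (Submodule.smul_mem _ r hjt))
  have hj2 : ∀ x : 𝕍, ∀ s : Set 𝕍, x ∈ s → j *ᵥ (j *ᵥ x) ∈ Submodule.span F s := fun x s hx => by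
    rw [A.sq]; exact Submodule.smul_mem _ _ (Submodule.subset_span hx)
  -- first auxiliary vector
  obtain ⟨z₁, hz₁, hz₁S, hz₁b⟩ := A.exists_iso h2 hm (S := {j *ᵥ b, a, j *ᵥ a})
    (le_trans Finset.card_le_three (by norm_num)) (b := b) (fun h => hb (by
      simp only [Finset.coe_insert, Finset.coe_singleton] at h
      refine hdrop _ (fun x hx => ?_) h
      rcases hx with rfl | rfl
      · exact Submodule.subset_span (by simp)
      · exact hj2 a _ (by simp)))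
  have h1a : Cfsg.sympForm m F z₁ a = 0 := hz₁S _ (by simp)
  have h1ja : Cfsg.sympForm m F z₁ (j *ᵥ a) = 0 := hz₁S _ (by simp)
  have h1jb : Cfsg.sympForm m F z₁ (j *ᵥ b) = 0 := hz₁S _ (by simp)
  have hz₁0 : z₁ ≠ 0 := fun h => hz₁b (by rw [h]; exact zero_dotProduct _)
  have hn2 : ∀ p : 𝕍, p ∈ ({j *ᵥ b, a, j *ᵥ a, z₁, j *ᵥ z₁} : Finset 𝕍) →
      Cfsg.sympForm m F z₁ p = 0 := by
    simp only [Finset.mem_insert, Finset.mem_singleton]
    rintro p (rfl | rfl | rfl | rfl | rfl) <;> first | assumption | exact sympForm_self _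
  have hcard : ({j *ᵥ b, a, j *ᵥ a, z₁, j *ᵥ z₁} : Finset 𝕍).card ≤ 5 := Finset.card_le_five
  -- second auxiliary vector, independent of the first
  obtain ⟨z₂, hz₂, hz₂S, hz₂b, hz₂z⟩ : ∃ z, Cfsg.sympForm m F z (j *ᵥ z) = 0 ∧
      (∀ s ∈ ({j *ᵥ b, a, j *ᵥ a, z₁, j *ᵥ z₁} : Finset 𝕍), Cfsg.sympForm m F z s = 0) ∧
      Cfsg.sympForm m F z b ≠ 0 ∧ z ∉ Submodule.span F {z₁} := by
    have hs₁S : ∀ s ∈ ({j *ᵥ b, a, j *ᵥ a, z₁, j *ᵥ z₁} : Finset 𝕍),
        Cfsg.sympForm m F z₁ s = 0 := by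
      simp only [Finset.mem_insert, Finset.mem_singleton]
      rintro p (rfl | rfl | rfl | rfl | rfl) <;> first | assumption | exact sympForm_self _
    obtain ⟨s₂, hs₂, hQ₂, hs₂z⟩ : ∃ s ∈ spPerp (Submodule.span F
        (({j *ᵥ b, a, j *ᵥ a, z₁, j *ᵥ z₁} : Finset 𝕍) : Set 𝕍)),
        Cfsg.sympForm m F s (j *ᵥ s) = 0 ∧ s ∉ Submodule.span F {z₁} := by
      set W := spPerp (Submodule.span F (({j *ᵥ b, a, j *ᵥ a, z₁, j *ᵥ z₁} : Finset 𝕍) : Set 𝕍))
      have h1 := finrank_le_finrank_spPerp_add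
        (Submodule.span F (({j *ᵥ b, a, j *ᵥ a, z₁, j *ᵥ z₁} : Finset 𝕍) : Set 𝕍))
      have h3 := finrank_span_finset_le_card (R := F) ({j *ᵥ b, a, j *ᵥ a, z₁, j *ᵥ z₁} : Finset 𝕍)
      simp only [Set.finrank] at h3
      obtain ⟨C, hC⟩ := Submodule.exists_isCompl ((Submodule.span F {z₁}).comap W.subtype)
      have hd := Submodule.finrank_add_eq_of_isCompl hC
      have h5 := finrank_span_singleton (K := F) hz₁0
      have hle : Module.finrank F ((Submodule.span F {z₁}).comap W.subtype) ≤ 1 := by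
        rw [← Submodule.finrank_map_subtype_eq, ← h5]
        exact Submodule.finrank_mono (Submodule.map_comap_le _ _)
      obtain ⟨s, hs, hs0, hQs⟩ := exists_singular (A.quadForm h2) h2 (W := C.map W.subtype) (by
        rw [Submodule.finrank_map_subtype_eq]
        change 2 * m ≤ Module.finrank F W + _ at h1
        omega)
      obtain ⟨⟨s', hs'W⟩, hs'C, rfl⟩ := hs
      exact ⟨s', hs'W, hQs, fun hm' => hs0 (congrArg Subtype.val ((Submodule.mem_bot F).1
        (hC.disjoint.le_bot ⟨(show (⟨s', hs'W⟩ : W) ∈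
          (Submodule.span F {z₁}).comap W.subtype from hm'), hs'C⟩)))⟩
    have hsz : z₁ ∈ Submodule.span F {z₁} := Submodule.mem_span_singleton_self _
    have hs₂S : ∀ s ∈ ({j *ᵥ b, a, j *ᵥ a, z₁, j *ᵥ z₁} : Finset 𝕍),
        Cfsg.sympForm m F s₂ s = 0 := fun s hs => hs₂ s (Submodule.subset_span hs)
    by_cases hs₂b : Cfsg.sympForm m F s₂ b = 0
    · refine ⟨z₁ + s₂, ?_, fun s hs => by rw [sympForm_add_left, hs₁S s hs, hs₂S s hs, add_zero],
        by rw [sympForm_add_left, hs₂b, add_zero]; exact hz₁b,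
        fun h => hs₂z (by simpa using sub_mem h hsz)⟩
      rw [mulVec_add, sympForm_add_left, sympForm_add_right, sympForm_add_right, hz₁, hQ₂,
        A.form_symm z₁, hs₂S (j *ᵥ z₁) (by simp)]
      ring
    · exact ⟨s₂, hQ₂, hs₂S, hs₂b, hs₂z⟩
  set r₁ := Cfsg.sympForm m F b z₁ with hr₁
  set r₂ := Cfsg.sympForm m F b z₂ with hr₂
  have hr₁0 : r₁ ≠ 0 := fun h => hz₁b (sympForm_eq_zero_swap h)
  have hr₂0 : r₂ ≠ 0 := fun h => hz₂b (sympForm_eq_zero_swap h)
  have hjz : ∀ z : 𝕍, Cfsg.sympForm m F z (j *ᵥ b) = 0 → Cfsg.sympForm m F b (j *ᵥ z) = 0 :=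
    fun z h => by rw [A.form_symm]; exact h
  have hjz₁ := hjz z₁ h1jb
  have hjz₂ := hjz z₂ (hz₂S _ (by simp))
  set k := r₁ ^ 2 / r₂ ^ 2 with hk
  set y := r₁ • z₁ - (k * r₂) • z₂ with hy
  have hy0 : y ≠ 0 := fun h => hz₂z (Submodule.mem_span_singleton.2 ⟨(k * r₂)⁻¹ * r₁, by
    rw [mul_smul, show r₁ • z₁ = (k * r₂) • z₂ from sub_eq_zero.1 h,
      inv_smul_smul₀ (by rw [hk]; positivity)]⟩)
  have h12 : Cfsg.sympForm m F z₁ z₂ = 0 := sympForm_eq_zero_swap (hz₂S _ (by simp))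
  have h12j : Cfsg.sympForm m F z₁ (j *ᵥ z₂) = 0 := by rw [A.form_symm]; exact hz₂S _ (by simp)
  have h21j : Cfsg.sympForm m F z₂ (j *ᵥ z₁) = 0 := hz₂S _ (by simp)
  have hyy : Cfsg.sympForm m F y (j *ᵥ y) = 0 := by
    rw [hy, sub_eq_add_neg, ← neg_smul, mulVec_add, mulVec_smul, mulVec_smul]
    simp only [sympForm_add_left, sympForm_add_right, sympForm_smul_left, sympForm_smul_right,
      hz₁, hz₂, h12j, h21j]
    ring
  have hby : Cfsg.sympForm m F b y = 0 := by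
    rw [hy, sub_eq_add_neg, ← neg_smul, sympForm_add_right, sympForm_smul_right,
      sympForm_smul_right, ← hr₁, ← hr₂, hk]
    field_simp
    ring
  have hbjy : Cfsg.sympForm m F b (j *ᵥ y) = 0 := by
    rw [hy, sub_eq_add_neg, ← neg_smul, mulVec_add, mulVec_smul, mulVec_smul, sympForm_add_right,
      sympForm_smul_right, sympForm_smul_right, hjz₁, hjz₂]
    ring
  -- move `b` to `b + y`
  set h := spU j d z₁ 1 * spU j d z₂ (-k) with hh
  have hhM : h ∈ M := mul_mem (hU _ _ hz₁) (hU _ _ hz₂)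
  have hhS : h ∈ Cfsg.spGL m F := mul_mem (spU_mem_spGL _ _ _ _) (spU_mem_spGL _ _ _ _)
  have haz : ∀ z : 𝕍, Cfsg.sympForm m F z a = 0 → Cfsg.sympForm m F z (j *ᵥ a) = 0 →
      Cfsg.sympForm m F a z = 0 ∧ Cfsg.sympForm m F a (j *ᵥ z) = 0 := fun z e e' =>
    ⟨sympForm_eq_zero_swap e, by rw [A.form_symm]; exact e'⟩
  have hha : (h : Matrix (Fin m ⊕ Fin m) (Fin m ⊕ Fin m) F) *ᵥ a = a := by
    obtain ⟨e1, e1'⟩ := haz z₁ h1a h1ja
    obtain ⟨e2, e2'⟩ := haz z₂ (hz₂S _ (by simp)) (hz₂S _ (by simp))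
    rw [hh, Units.val_mul, ← mulVec_mulVec, A.spU_mulVec hz₂, e2, e2']
    simp only [mul_zero, zero_smul, add_zero]
    rw [A.spU_mulVec hz₁, e1, e1']
    simp
  have hhb : (h : Matrix (Fin m ⊕ Fin m) (Fin m ⊕ Fin m) F) *ᵥ b = b + y := by
    rw [hh, Units.val_mul, ← mulVec_mulVec, A.spU_mulVec hz₂, A.spU_mulVec hz₁]
    simp only [sympForm_add_left, sympForm_smul_left, hjz₁, hjz₂, ← hr₁, ← hr₂, h21j,
      sympForm_eq_zero_swap h12, mul_zero, zero_smul, add_zero, hy]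
    module
  have hR : spT b (-e) * spT (b + y) e ∈ M := by
    have h1 := mul_mem (inv_mem hE) (mul_mem (mul_mem hhM hE) (inv_mem hhM))
    convert h1 using 1
    rw [show h * (spT a c * spT b e) * h⁻¹ = (h * spT a c * h⁻¹) * (h * spT b e * h⁻¹) by group,
      spT_conj hhS, spT_conj hhS, hha, hhb, ← spT_inv]
    group
  -- second auxiliary transvection
  obtain ⟨w, hw, hwS, hwb⟩ := A.exists_iso h2 hm (S := {j *ᵥ b, y, j *ᵥ y})
    (le_trans Finset.card_le_three (by norm_num)) (b := b) (fun h => by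
      simp only [Finset.coe_insert, Finset.coe_singleton] at h
      have h' := hdrop _ (fun x hx => by
        rcases hx with rfl | rfl
        · exact Submodule.subset_span (by simp)
        · exact hj2 y _ (by simp)) h
      obtain ⟨p, q, hpq⟩ := Submodule.mem_span_pair.1 h'
      apply hr₁0
      rw [hr₁, ← hpq, sympForm_add_left, sympForm_smul_left, sympForm_smul_left, hy, sub_eq_add_neg,
        ← neg_smul, mulVec_add, mulVec_smul, mulVec_smul]
      simp only [sympForm_add_left, sympForm_smul_left, sympForm_self, sympForm_eq_zero_swap h12,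
        sympForm_eq_zero_swap hz₁, A.anti, h21j, hz₁]
      ring)
  have hwy : Cfsg.sympForm m F w y = 0 := hwS _ (by simp)
  have hwjy : Cfsg.sympForm m F w (j *ᵥ y) = 0 := hwS _ (by simp)
  have hyw : Cfsg.sympForm m F y w = 0 := sympForm_eq_zero_swap hwy
  have hyjw : Cfsg.sympForm m F y (j *ᵥ w) = 0 := by rw [A.form_symm]; exact hwjy
  have hbjw := hjz w (hwS _ (by simp))
  have hwy' : Cfsg.sympForm m F (w + y) (j *ᵥ (w + y)) = 0 := by
    rw [mulVec_add]; simp [sympForm_add_left, sympForm_add_right, hw, hyy, hwjy, hyjw]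
  set r := Cfsg.sympForm m F b w with hr
  have hr0 : r ≠ 0 := fun h => hwb (sympForm_eq_zero_swap h)
  refine ⟨y, hy0, hyy, fun C => (hasSpTv_iff_spT y C).2 ?_⟩
  -- the parameter giving the scalar `C`
  set γ := C / (2 * e * r) with hγ
  set s := γ * r with hs
  have hu : spU j d w γ ∈ M := hU _ _ hw
  have hu' : spU j d (w + y) γ ∈ M := hU _ _ hwy'
  have huy : (spU j d w γ : Matrix (Fin m ⊕ Fin m) (Fin m ⊕ Fin m) F) *ᵥ y = y := by
    rw [A.spU_mulVec hw, hyw, hyjw]; simp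
  have huy' : (spU j d (w + y) γ : Matrix (Fin m ⊕ Fin m) (Fin m ⊕ Fin m) F) *ᵥ y = y := by
    rw [A.spU_mulVec hwy', sympForm_add_right, hyw, sympForm_self, mulVec_add, sympForm_add_right,
      hyjw, hyy]
    simp
  have hub : (spU j d w γ : Matrix (Fin m ⊕ Fin m) (Fin m ⊕ Fin m) F) *ᵥ b = b + s • w := by
    rw [A.spU_mulVec hw, hbjw, ← hr]; simp [hs]
  have hub' : (spU j d (w + y) γ : Matrix (Fin m ⊕ Fin m) (Fin m ⊕ Fin m) F) *ᵥ b =
      b + s • (w + y) := by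
    rw [A.spU_mulVec hwy', sympForm_add_right, hby, mulVec_add, sympForm_add_right, hbjw, hbjy, ← hr]
    simp [hs]
  have hR₁ := mul_mem (mul_mem hu hR) (inv_mem hu)
  have hR₂ := mul_mem (mul_mem hu' hR) (inv_mem hu')
  have key : ∀ (u : GL (Fin m ⊕ Fin m) F) (hu : u ∈ Cfsg.spGL m F),
      u * (spT b (-e) * spT (b + y) e) * u⁻¹ =
        spT ((u : Matrix (Fin m ⊕ Fin m) (Fin m ⊕ Fin m) F) *ᵥ b) (-e) *
          spT ((u : Matrix (Fin m ⊕ Fin m) (Fin m ⊕ Fin m) F) *ᵥ b +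
            (u : Matrix (Fin m ⊕ Fin m) (Fin m ⊕ Fin m) F) *ᵥ y) e := fun u hu => by
    rw [← mulVec_add, ← spT_conj hu, ← spT_conj hu]; group
  rw [key _ (spU_mem_spGL _ _ _ _), hub, huy] at hR₁
  rw [key _ (spU_mem_spGL _ _ _ _), hub', huy'] at hR₂
  convert mul_mem (inv_mem hR₁) hR₂ using 1
  rw [eq_inv_mul_iff_mul_eq]
  refine GL_ext_mulVec fun x => ?_
  simp only [Units.val_mul, ← mulVec_mulVec, spT_mulVec, sympForm_add_left, sympForm_add_right,
    sympForm_smul_left, sympForm_smul_right, sympForm_self, hby, hyw, hwy,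
    sympForm_eq_zero_swap hby, ← hr, sympForm_swap b w]
  have hC : C = 2 * e * s := by rw [hs, hγ]; field_simp
  rw [hC]
  module

end SpAnti

end CfsgLib.MaxSub
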