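import Cfsg.Agent.Lib.MaxSub.SympFull
import Cfsg.Agent.S5647
import Cfsg.Agent.S5652

/-!
Geometric maximal subgroups of `Sp_2m`, without the bound `7 ≤ m`: subspace stabilisers,
orthogonal decompositions, orthogonal groups in characteristic two.
-/

set_option autoImplicit false
open Cfsg

namespace CfsgLib.MaxSub.SpAll

/-- For a finite field F and any m, in the symplectic group Sp_2m(F) of the standard alternating form on F^(2m) (as a subgroup of GL_2m(F)), the stabiliser of any non-zero subspace on which the form vanishes identically is a maximal subgroup. -/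
theorem ti_stabilizer_maximal {F : Type*} [Field F] [Fintype F] (m : ℕ) (W : Submodule F (Fin m ⊕ Fin m → F)) (hW0 : W ≠ ⊥) (hW : Cfsg.Geo.IsTotallySingularFor (Cfsg.sympForm m F) W) : Cfsg.Geo.IsMaximalIn (Cfsg.spGL m F) (Cfsg.Geo.subspaceStabilizer W ⊓ Cfsg.spGL m F) := by
  open Matrix CfsgLib.MaxSub in
  let P := spPerp W
  have hWP : W ≤ P := fun x hx w hw => hW x hx w hw
  obtain ⟨w₀, hw₀, hw₀0⟩ := W.exists_mem_ne_zero_of_ne_bot hW0
  have hzero : ∀ z, Cfsg.sympForm m F (0 : Fin m ⊕ Fin m → F) z = 0 := fun z => zero_dotProduct _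
  have hzero' : ∀ z, Cfsg.sympForm m F z (0 : Fin m ⊕ Fin m → F) = 0 := fun z => by
    rw [sympForm_swap, hzero, neg_zero]
  -- transvections centred in `W^⊥` stabilise `W`
  have hbase : ∀ M : Subgroup _, Cfsg.Geo.subspaceStabilizer W ⊓ Cfsg.spGL m F ≤ M →
      ∀ z ∈ P, SpFull M z := fun M hM z hz c =>
    (hasSpTv_iff z c).2 (hM ⟨mem_subspaceStabilizer_of_maps fun x hx => by
      rw [coe_tvGL, spTv_mulVec, spPerp_comm hz hx, mul_zero, zero_smul, add_zero]; exact hx,
      spTv_mem_spGL z c⟩)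
  refine isMaximalIn_of_lt (lt_of_le_of_ne inf_le_right fun he => ?_) fun M hM hMS g hg hgH => ?_
  · obtain ⟨y, hy⟩ : ∃ y, Cfsg.sympForm m F w₀ y ≠ 0 := by
      obtain ⟨y, -, hy⟩ := exists_spPerp_of_notMem
        (W := (⊥ : Submodule F (Fin m ⊕ Fin m → F))) (x := w₀) (fun h => hw₀0 h)
      exact ⟨y, hy⟩
    have hmem := spTv_mem_spGL y (1 : F)
    rw [← he] at hmem
    have := maps_of_mem_subspaceStabilizer hmem.1 hw₀
    rw [coe_tvGL, spTv_mulVec, one_mul, Submodule.add_mem_iff_right _ hw₀,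
      W.smul_mem_iff hy] at this
    exact hy (hW w₀ hw₀ y this)
  · obtain ⟨x₀, hx₀, hx₀P⟩ : ∃ x₀, SpFull M x₀ ∧ x₀ ∉ P := by
      by_contra hno
      push Not at hno
      have hmap : ∀ z ∈ P, (g : Matrix _ _ F) *ᵥ z ∈ P := fun z hz =>
        hno _ ((hbase M hM z hz).conj hg (hMS hg))
      have hgP := mem_subspaceStabilizer_of_maps hmap
      refine hgH ⟨mem_subspaceStabilizer_of_maps fun w hw => ?_, hMS hg⟩
      by_contra hgw
      obtain ⟨y, hy, hgy⟩ := exists_spPerp_of_notMem hgw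
      have hy' : ((g⁻¹ : Matrix.GeneralLinearGroup _ F) : Matrix _ _ F) *ᵥ y ∈ P :=
        maps_of_mem_subspaceStabilizer (inv_mem hgP) hy
      apply hgy
      have := hMS hg w (((g⁻¹ : Matrix.GeneralLinearGroup _ F) : Matrix _ _ F) *ᵥ y)
      simp only [Units.coeHom_apply, mulVec_mulVec_inv] at this
      rw [this]
      exact spPerp_comm hy' hw
    obtain ⟨w₁, hw₁, hw₁x⟩ : ∃ w ∈ W, Cfsg.sympForm m F x₀ w ≠ 0 := by
      simpa [P, mem_spPerp] using hx₀P
    have hadd : ∀ x, SpFull M x → (∃ w ∈ W, Cfsg.sympForm m F x w ≠ 0) →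
        ∀ z ∈ P, SpFull M (x + z) := by
      rintro x hx ⟨w, hw, hxw⟩ z hz
      by_cases hxz : Cfsg.sympForm m F x z = 0
      · have h1 := hx.add (hbase M hM w (hWP hw)) hxw
        have h2 := h1.add (hbase M hM (z - w) (sub_mem hz (hWP hw))) (by
          rw [sub_eq_add_neg, ← neg_one_smul F w, sympForm_add_left, sympForm_add_right,
            sympForm_add_right, sympForm_smul_right, sympForm_smul_right, hxz, sympForm_self,
            spPerp_comm hz hw]
          intro e; exact hxw (by linear_combination -e))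
        convert h2 using 1; abel
      · exact hx.add (hbase M hM z hz) hxz
    refine spGL_le_of_spFull fun x => ?_
    by_cases hxP : x ∈ P
    · exact hbase M hM x hxP
    obtain ⟨w₂, hw₂, hw₂x⟩ : ∃ w ∈ W, Cfsg.sympForm m F x w ≠ 0 := by
      simpa [P, mem_spPerp] using hxP
    obtain ⟨w, hw, ha, hb⟩ : ∃ w ∈ W, Cfsg.sympForm m F x₀ w ≠ 0 ∧ Cfsg.sympForm m F x w ≠ 0 := by
      by_cases h : Cfsg.sympForm m F x w₁ = 0
      · by_cases h' : Cfsg.sympForm m F x₀ w₂ = 0
        · exact ⟨w₁ + w₂, add_mem hw₁ hw₂, by rw [sympForm_add_right, h', add_zero]; exact hw₁x,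
            by rw [sympForm_add_right, h, zero_add]; exact hw₂x⟩
        · exact ⟨w₂, hw₂, h', hw₂x⟩
      · exact ⟨w₁, hw₁, hw₁x, h⟩
    set c := Cfsg.sympForm m F x w with hc
    set x₁ := (c / Cfsg.sympForm m F x₀ w) • x₀ with hx₁
    have hx₁w : Cfsg.sympForm m F x₁ w = c := by
      rw [hx₁, sympForm_smul_left, div_mul_cancel₀ _ ha]
    set y := (-c⁻¹) • (x - x₁) with hy
    have hwy : Cfsg.sympForm m F w y = 0 := by
      rw [hy, sympForm_smul_right, sub_eq_add_neg, ← neg_one_smul F x₁, sympForm_add_right,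
        sympForm_smul_right, sympForm_swap x w, sympForm_swap x₁ w, hx₁w, ← hc]
      ring
    have hS : spSieg w y hwy ∈ Cfsg.Geo.subspaceStabilizer W ⊓ Cfsg.spGL m F :=
      ⟨mem_subspaceStabilizer_of_maps fun u hu => by
        rw [spSieg_mulVec, hW w hw u hu, zero_smul, add_zero]
        exact add_mem hu (W.smul_mem _ hw), spSieg_mem_spGL _ _ _⟩
    have h1 := (hx₀.smul (c / Cfsg.sympForm m F x₀ w)).conj (hM hS) hS.2
    rw [← hx₁, spSieg_mulVec, sympForm_swap x₁ w, hx₁w, hy, smul_smul,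
      show -c * -c⁻¹ = 1 by rw [neg_mul_neg, mul_inv_cancel₀ hb], one_smul,
      show x₁ + Cfsg.sympForm m F ((-c⁻¹) • (x - x₁)) x₁ • w + (x - x₁) =
        x + Cfsg.sympForm m F ((-c⁻¹) • (x - x₁)) x₁ • w by abel] at h1
    set s := Cfsg.sympForm m F ((-c⁻¹) • (x - x₁)) x₁
    have h2 := hadd _ h1 ⟨w, hw, by
      rw [sympForm_add_left, sympForm_smul_left, sympForm_self, mul_zero, add_zero]; exact hb⟩
      ((-s) • w) (P.smul_mem _ (hWP hw))
    rwa [neg_smul, add_neg_cancel_right] at h2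

/-- For a finite field F and any m, in the symplectic group Sp_2m(F) of the standard alternating form on F^(2m), the stabiliser of any non-zero subspace W on which the form is non-degenerate and with dim W < m is a maximal subgroup. -/
theorem nd_stabilizer_maximal {F : Type*} [Field F] [Fintype F] (m : ℕ) (W : Submodule F (Fin m ⊕ Fin m → F)) (hW0 : W ≠ ⊥) (hW : Cfsg.Geo.IsNondegenerateOn (Cfsg.sympForm m F) W) (hdim : Module.finrank F W < m) : Cfsg.Geo.IsMaximalIn (Cfsg.spGL m F) (Cfsg.Geo.subspaceStabilizer W ⊓ Cfsg.spGL m F) := by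
  open Matrix CfsgLib.MaxSub in
  let P := spPerp W
  have hfr : 2 * m ≤ Module.finrank F P + Module.finrank F W := finrank_le_finrank_spPerp_add W
  have hbot : W ⊓ P = ⊥ := by
    refine (Submodule.eq_bot_iff _).2 fun x hx => ?_
    by_contra hx0
    obtain ⟨y, hy, hxy⟩ := (hW x hx.1 hx0).2
    exact hxy (hx.2 y hy)
  have htop : W ⊔ P = ⊤ := by
    refine Submodule.eq_top_of_finrank_eq (le_antisymm (Submodule.finrank_le _) ?_)
    have := Submodule.finrank_sup_add_finrank_inf_eq W P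
    rw [hbot, finrank_bot] at this
    rw [Module.finrank_pi, Fintype.card_sum, Fintype.card_fin]
    omega
  have hbase : ∀ M : Subgroup _, Cfsg.Geo.subspaceStabilizer W ⊓ Cfsg.spGL m F ≤ M →
      ∀ z, z ∈ W ∨ z ∈ P → SpFull M z := fun M hM z hz c =>
    (hasSpTv_iff z c).2 (hM ⟨mem_subspaceStabilizer_of_maps fun x hx => by
      rw [coe_tvGL, spTv_mulVec]
      rcases hz with hz | hz
      · exact add_mem hx (W.smul_mem _ hz)
      · rw [spPerp_comm hz hx, mul_zero, zero_smul, add_zero]; exact hx,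
      spTv_mem_spGL z c⟩)
  have hdec : ∀ x, ∃ a ∈ W, ∃ z ∈ P, a + z = x := fun x =>
    Submodule.mem_sup.1 (by rw [htop]; trivial)
  have hmid : ∀ a ∈ W, a ≠ 0 → ∀ b ∈ W, b ≠ 0 →
      ∃ c ∈ W, Cfsg.sympForm m F a c ≠ 0 ∧ Cfsg.sympForm m F c b ≠ 0 := by
    intro a ha ha0 b hb hb0
    obtain ⟨u, hu, hau⟩ := (hW a ha ha0).2
    obtain ⟨v, hv, hvb⟩ := (hW b hb hb0).1
    by_cases h : Cfsg.sympForm m F u b = 0
    · by_cases h' : Cfsg.sympForm m F a v = 0
      · exact ⟨u + v, add_mem hu hv, by rw [sympForm_add_right, h', add_zero]; exact hau,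
          by rw [sympForm_add_left, h, zero_add]; exact hvb⟩
      · exact ⟨v, hv, h', hvb⟩
    · exact ⟨u, hu, hau, h⟩
  refine isMaximalIn_of_lt (lt_of_le_of_ne inf_le_right fun he => ?_) fun M hM hMS g hg hgH => ?_
  · obtain ⟨w, hw, hw0⟩ := W.exists_mem_ne_zero_of_ne_bot hW0
    obtain ⟨a, ha, hwa⟩ := (hW w hw hw0).2
    obtain ⟨z, hz, hz0⟩ := P.exists_mem_ne_zero_of_ne_bot (by
      intro e; rw [e, finrank_bot] at hfr; omega)
    have hwz : Cfsg.sympForm m F w z = 0 := spPerp_comm hz hw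
    have hmem := spTv_mem_spGL (a + z) (1 : F)
    rw [← he] at hmem
    have := maps_of_mem_subspaceStabilizer hmem.1 hw
    rw [coe_tvGL, spTv_mulVec, one_mul, Submodule.add_mem_iff_right _ hw, sympForm_add_right, hwz,
      add_zero, W.smul_mem_iff hwa, Submodule.add_mem_iff_right _ ha] at this
    have h0 : z ∈ W ⊓ P := ⟨this, hz⟩
    rw [hbot] at h0
    exact hz0 h0
  · obtain ⟨v, hv, hvW, hvP⟩ : ∃ v ∈ P, (g : Matrix (Fin m ⊕ Fin m) (Fin m ⊕ Fin m) F) *ᵥ v ∉ W ∧
        (g : Matrix (Fin m ⊕ Fin m) (Fin m ⊕ Fin m) F) *ᵥ v ∉ P := by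
      by_contra hno
      push Not at hno
      have hor : ∀ x ∈ P.map (Matrix.toLin' (g : Matrix (Fin m ⊕ Fin m) (Fin m ⊕ Fin m) F)), x ∈ W ∨ x ∈ P := by
        rintro _ ⟨x, hx, rfl⟩
        rw [Matrix.toLin'_apply]
        exact or_iff_not_imp_left.2 (hno x hx)
      have hinj : Function.Injective (Matrix.toLin' (g : Matrix (Fin m ⊕ Fin m) (Fin m ⊕ Fin m) F)) := fun x y e => by
        have := congrArg (((g⁻¹ : Matrix.GeneralLinearGroup _ F) : Matrix (Fin m ⊕ Fin m) (Fin m ⊕ Fin m) F) *ᵥ ·) e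
        simpa [inv_mulVec_mulVec] using this
      have hfeq := (Submodule.equivMapOfInjective _ hinj P).finrank_eq
      rcases le_or_le_of_forall_mem hor with h | h
      · have := Submodule.finrank_mono h
        omega
      have hgP := mem_subspaceStabilizer_of_maps (g := g) (W := P) fun x hx => h ⟨x, hx, rfl⟩
      refine hgH ⟨mem_subspaceStabilizer_of_maps fun w hw => ?_, hMS hg⟩
      by_contra hgw
      obtain ⟨y, hy, hgy⟩ := exists_spPerp_of_notMem hgw
      have hy' : ((g⁻¹ : Matrix.GeneralLinearGroup _ F) : Matrix (Fin m ⊕ Fin m) (Fin m ⊕ Fin m) F) *ᵥ y ∈ P :=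
        maps_of_mem_subspaceStabilizer (inv_mem hgP) hy
      apply hgy
      have := hMS hg w (((g⁻¹ : Matrix.GeneralLinearGroup _ F) : Matrix (Fin m ⊕ Fin m) (Fin m ⊕ Fin m) F) *ᵥ y)
      simp only [Units.coeHom_apply, mulVec_mulVec_inv] at this
      rw [this]
      exact spPerp_comm hy' hw
    have hx₀ := (hbase M hM v (.inr hv)).conj hg (hMS hg)
    obtain ⟨a₀, ha₀, z₀, hz₀, hsum⟩ := hdec ((g : Matrix (Fin m ⊕ Fin m) (Fin m ⊕ Fin m) F) *ᵥ v)
    rw [← hsum] at hx₀
    have ha₀0 : a₀ ≠ 0 := by rintro rfl; exact hvP (by rw [← hsum, zero_add]; exact hz₀)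
    have hz₀0 : z₀ ≠ 0 := by rintro rfl; exact hvW (by rw [← hsum, add_zero]; exact ha₀)
    -- moving one component
    have stepW : ∀ a ∈ W, a ≠ 0 → ∀ z ∈ P, SpFull M (a + z) → ∀ b ∈ W,
        Cfsg.sympForm m F a b ≠ 0 → SpFull M (b + z) := by
      intro a ha _ z hz h b hb hab
      have := h.add (hbase M hM (b - a) (.inl (sub_mem hb ha))) (by
        rw [sub_eq_add_neg, ← neg_one_smul F a, sympForm_add_left, sympForm_add_right,
          sympForm_add_right, sympForm_smul_right, sympForm_smul_right, sympForm_self, hz b hb,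
          hz a ha]
        simpa using hab)
      convert this using 1; abel
    have stepP : ∀ a ∈ W, ∀ z ∈ P, SpFull M (a + z) → ∀ z' ∈ P,
        Cfsg.sympForm m F z z' ≠ 0 → SpFull M (a + z') := by
      intro a ha z hz h z' hz' hzz
      have := h.add (hbase M hM (z' - z) (.inr (sub_mem hz' hz))) (by
        rw [sub_eq_add_neg, ← neg_one_smul F z, sympForm_add_left, sympForm_add_right,
          sympForm_add_right, sympForm_smul_right, sympForm_smul_right, sympForm_self,
          spPerp_comm hz ha, spPerp_comm hz' ha]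
        simpa using hzz)
      convert this using 1; abel
    refine spGL_le_of_spFull fun x => ?_
    obtain ⟨a, ha, z, hz, rfl⟩ := hdec x
    rcases eq_or_ne a 0 with rfl | ha0
    · rw [zero_add]; exact hbase M hM z (.inr hz)
    rcases eq_or_ne z 0 with rfl | hz0
    · rw [add_zero]; exact hbase M hM a (.inl ha)
    have h1 : SpFull M (a + z₀) := by
      obtain ⟨c, hc, h1, h2⟩ := hmid a₀ ha₀ ha₀0 a ha ha0
      refine stepW c hc ?_ z₀ hz₀ (stepW a₀ ha₀ ha₀0 z₀ hz₀ hx₀ c hc h1) a ha h2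
      rintro rfl
      exact h2 (zero_dotProduct _)
    have hsep : ∀ u ∈ P, u ≠ 0 → ∃ v ∈ P, Cfsg.sympForm m F u v ≠ 0 := fun u hu hu0 => by
      obtain ⟨v, hv, huv⟩ := exists_spPerp_of_notMem (W := W) (x := u) fun huW => hu0 (by
        have h0 : u ∈ W ⊓ P := ⟨huW, hu⟩
        rwa [hbot] at h0)
      exact ⟨v, hv, huv⟩
    obtain ⟨u, hu, hzu⟩ := hsep z₀ hz₀ hz₀0
    obtain ⟨u', hu', hzu'⟩ := hsep z hz hz0
    obtain ⟨c, hc, h2, h3⟩ : ∃ c ∈ P, Cfsg.sympForm m F z₀ c ≠ 0 ∧ Cfsg.sympForm m F z c ≠ 0 := by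
      by_cases h : Cfsg.sympForm m F z u = 0
      · by_cases h' : Cfsg.sympForm m F z₀ u' = 0
        · exact ⟨u + u', add_mem hu hu', by rw [sympForm_add_right, h', add_zero]; exact hzu,
            by rw [sympForm_add_right, h, zero_add]; exact hzu'⟩
        · exact ⟨u', hu', h', hzu'⟩
      · exact ⟨u, hu, hzu, h⟩
    refine stepP a ha c hc (stepP a ha z₀ hz₀ h1 c hc h2) z hz ?_
    rw [sympForm_swap]
    exact neg_ne_zero.2 h3

open Matrix CfsgLib.MaxSub

section
open Cfsg.Agent.S5647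

/-- For a finite field F with q elements and any m, let D be a decomposition of F^(2m) into t ≥ 2 pairwise orthogonal subspaces of equal dimension k on each of which the standard alternating form is non-degenerate, spanning F^(2m). Unless k = 2 and q = 2, the elements of Sp_2m(F) permuting the members of D form a maximal subgroup of Sp_2m(F). -/
theorem decomposition_maximal {F : Type*} [Field F] [Fintype F] (m : ℕ) {t : ℕ} (k : ℕ) (D : Fin t → Submodule F (Fin m ⊕ Fin m → F)) (hD : Cfsg.Geo.IsNondegenerateMDecomposition (Cfsg.sympForm m F) k D) (hex : ¬ (k = 2 ∧ Fintype.card F = 2)) : Cfsg.Geo.IsMaximalIn (Cfsg.spGL m F) (Cfsg.Geo.decompositionStabilizer D ⊓ Cfsg.spGL m F) := by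
  classical
  refine isMaximalIn_of_lt (lt_of_le_of_ne inf_le_right fun he => ?_) fun M hN hM g hg hgN => ?_
  · have ht := hD.decomp.two_le
    let i : Fin t := ⟨0, by omega⟩
    let j : Fin t := ⟨1, by omega⟩
    have hij : i ≠ j := fun h => by simp [i, j] at h
    obtain ⟨a, ha, ha0⟩ := exists_nonzero hD i
    obtain ⟨b, hb, hb0⟩ := exists_nonzero hD j
    obtain ⟨x, hx, hax⟩ := exists_nondeg hD i ha ha0
    have hT := spTv_mem_spGL (F := F) (a + b) 1
    rw [← he] at hT
    obtain ⟨σ, hσ⟩ := hT.1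
    have hmem : tvMat (a + b) ((1 : F) • (Matrix.J (Fin m) F *ᵥ (a + b))) *ᵥ x ∈ D (σ i) := by
      rw [← hσ i]
      exact ⟨x, hx, by rw [Matrix.toLin'_apply]; rfl⟩
    have hxa : Cfsg.sympForm m F x (a + b) = -1 := by
      rw [sympForm_add_right, sympForm_swap a x, hax, hD.orthogonal i j hij x hx b hb, add_zero]
    rw [spTv_mulVec, hxa, one_mul, neg_one_smul] at hmem
    have h1 := comp_of_mem hD hmem i
    have h2 := comp_of_mem hD hmem j
    have hn : -(a + b) = (-1 : F) • (a + b) := by rw [neg_one_smul]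
    rw [hn, comp_add, comp_smul, comp_add, comp_of_mem hD hx, comp_of_mem hD ha,
      comp_of_mem hD hb] at h1 h2
    simp only [if_neg hij, if_neg hij.symm, if_pos, add_zero, zero_add, if_true] at h1 h2
    by_cases hσi : i = σ i
    · rw [if_neg (fun e => hij (hσi.trans e.symm))] at h2
      simp [hb0] at h2
    · rw [if_neg hσi, neg_one_smul, ← sub_eq_add_neg, sub_eq_zero] at h1
      rw [h1, sympForm_self] at hax
      exact zero_ne_one hax
  · have hgS : g ∈ Cfsg.spGL m F := hM hg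
    obtain ⟨i, v, hv, hc⟩ := exists_mixed hD fun h => hgN ⟨h, hgS⟩
    obtain ⟨w, hw, hw2⟩ := exists_pair hD hN hex _ ((good_block hD hN hv).map hg hgS) rfl hc
    exact spGL_le_of_hasSpTv fun u c _ => good_everything hD hN hw hw2 _ u rfl c

end

section
open Cfsg.Agent.S5652

/-- For a finite field F of characteristic two and m ≥ 2, let Q be a non-degenerate quadratic form on F^(2m) whose polar form is the standard alternating form. Then the elements of Sp_2m(F) that are similarities of Q (they are exactly the isometries of Q) form a maximal subgroup of Sp_2m(F). -/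
theorem quad_maximal {F : Type*} [Field F] [Fintype F] (m : ℕ) (hm : 2 ≤ m) (heven : ¬ Odd (Fintype.card F)) (Q : (Fin m ⊕ Fin m → F) → F) (hQ : Cfsg.Geo.IsNondegenerateQuadraticForm Q) (hpol : ∀ u v, QuadraticMap.polar Q u v = Cfsg.sympForm m F u v) : Cfsg.Geo.IsMaximalIn (Cfsg.spGL m F) (Cfsg.Geo.quadSimilarityGroup Q ⊓ Cfsg.spGL m F) := by
  have hchar : ringChar F = 2 := by
    by_contra h
    exact heven (Nat.odd_iff.2 (FiniteField.odd_card_of_char_ne_two h))
  have G : Good Q :=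
    { smul := hQ.smul
      add := fun u v => by rw [← hpol u v]; simp only [QuadraticMap.polar]; ring
      two := by
        haveI := ringChar.of_eq hchar
        exact CharTwo.two_eq_zero }
  refine isMaximalIn_of_lt (lt_of_le_of_ne inf_le_right fun heq => ?_) fun M hM1 hM2 g hg hgH =>
    key G hM1 hM2 (by omega) g hg fun hgQ => hgH ⟨hgQ, hM2 hg⟩
  obtain ⟨u, hu0, hu⟩ := exists_singular G (by omega)
  have hT := spTv_mem_spGL u (1 : F)
  rw [← heq] at hT
  obtain ⟨⟨c, hc⟩, -⟩ := hT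
  obtain ⟨x, hx⟩ := exists_dot_ne (spDual_ne_zero hu0)
  rw [spDual_dot] at hx
  obtain ⟨t, ht⟩ := adjust G hu (y := x) (by rw [hx]; exact one_ne_zero)
  have := hc (x + t • u)
  simp only [coe_tvGL, spTv_mulVec, sympForm_add_left, sympForm_smul_left, sympForm_self, mul_zero,
    add_zero, hx, one_mul] at this
  rw [one_smul, G.add, ht, hu, sympForm_add_left, sympForm_smul_left, hx, sympForm_self] at this
  simp at this

end

end CfsgLib.MaxSub.SpAll
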