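import Cfsg.Agent.Lib.MaxSub.SpFiveMap
import Cfsg.Agent.Lib.MaxSub.OMonoMain

/-!
The normaliser of an extraspecial group of order 32 of minus type is maximal in `Sp_4(p)`: it corresponds to the
stabiliser of an orthogonal frame of the five-space.
-/

set_option autoImplicit false
set_option linter.unusedSectionVars false

namespace CfsgLib.MaxSub.SpFive

open scoped MatrixGroups
open Cfsg.Geo Matrix CfsgLib.Classical CfsgLib.Geom CfsgLib.AschSp CfsgLib.MaxSub.SymFour
open CfsgLib.MaxSub.OMono (sq sq_apply Mono conjHom conjHom_commutator)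
open QuadraticMap (polar)

variable {F : Type*} [Field F]

local notation "ιS" => (Fin 2 ⊕ Fin 2)
local notation "MS" => Matrix (Fin 2 ⊕ Fin 2) (Fin 2 ⊕ Fin 2) F
local notation "G" => GL (Fin 2 ⊕ Fin 2) F
local notation "W5" => (Unit ⊕ (Fin 2 ⊕ Fin 2) → F)

/-- five pairwise anticommuting self-adjoint involutions of `R` and their vectors -/
theorem exists_five {R : Subgroup G} (hR : Pauli R) (hRf : R ≤ Cfsg.spGL 2 F)
    (hz : Nat.card (Subgroup.center R) = 2) (hm : IsOfMinusType 2 R) :
    ∃ (e : Fin 4 → G) (E : Fin 5 → G) (f : Fin 5 → W5), Frame R e ∧ (∀ i : Fin 4, E i.castSucc = e i) ∧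
      (∀ i, E i ∈ R) ∧ (∀ i, mat (f i) = (E i : MS)) ∧ (∀ i, qfOdd 2 F (f i) = 1) ∧
      ∀ i j, i ≠ j → polar (qfOdd 2 F) (f i) (f j) = 0 := by
  have h2 := hR.two
  obtain ⟨e, he⟩ := Symp.exists_frame hR hRf hz hm
  have a : ∀ i j, i ≠ j → e i * e j = -(e j * e i) := he.anti
  obtain ⟨P, hP⟩ : ∃ P, P = e 0 * e 1 * e 2 * e 3 := ⟨_, rfl⟩
  have hPa : ∀ i, P * e i = -(e i * P) := by
    intro i
    rw [hP]
    fin_cases i
    · exact comm_mul_anti (anti_mul_anti (comm_mul_anti rfl (a 1 0 (by decide))) (a 2 0 (by decide))) (a 3 0 (by decide))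
    · exact comm_mul_anti (anti_mul_anti (anti_mul_comm (a 0 1 (by decide)) rfl) (a 2 1 (by decide))) (a 3 1 (by decide))
    · exact comm_mul_anti (comm_mul (anti_mul_anti (a 0 2 (by decide)) (a 1 2 (by decide))) rfl) (a 3 2 (by decide))
    · exact anti_mul_comm (comm_mul_anti (anti_mul_anti (a 0 3 (by decide)) (a 1 3 (by decide))) (a 2 3 (by decide))) rfl
  have hP2 : P * P = 1 := by
    have h23 : (e 2 * e 3) * (e 2 * e 3) = -1 := by
      rw [mul_assoc, ← mul_assoc (e 3), a 3 2 (by decide), neg_mul, mul_assoc, he.sq, mul_one, mul_neg, he.sq]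
    have h1 : (e 2 * e 3) * e 1 = e 1 * (e 2 * e 3) := anti_mul_anti (a 2 1 (by decide)) (a 3 1 (by decide))
    have h123 : (e 1 * (e 2 * e 3)) * (e 1 * (e 2 * e 3)) = -1 := by
      rw [mul_assoc, ← mul_assoc (e 2 * e 3), h1, mul_assoc, h23, ← mul_assoc, he.sq, one_mul]
    have h0 : (e 1 * (e 2 * e 3)) * e 0 = -(e 0 * (e 1 * (e 2 * e 3))) :=
      anti_mul_comm (a 1 0 (by decide)) (anti_mul_anti (a 2 0 (by decide)) (a 3 0 (by decide)))
    rw [hP, show e 0 * e 1 * e 2 * e 3 = e 0 * (e 1 * (e 2 * e 3)) by simp [mul_assoc], mul_assoc,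
      ← mul_assoc (e 1 * (e 2 * e 3)), h0, neg_mul, mul_assoc (e 0), h123, mul_neg_one, neg_neg, he.sq]
  obtain ⟨E, hE⟩ : ∃ E : Fin 5 → G, E = ![e 0, e 1, e 2, e 3, P] := ⟨_, rfl⟩
  have hER : ∀ i, E i ∈ R := by
    intro i
    fin_cases i <;> rw [hE] <;> first
      | exact he.mem _
      | exact hP ▸ R.mul_mem (R.mul_mem (R.mul_mem (he.mem 0) (he.mem 1)) (he.mem 2)) (he.mem 3)
  have hEsq : ∀ i, E i * E i = 1 := by
    intro i
    fin_cases i <;> rw [hE] <;> first
      | exact he.sq _
      | exact hP2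
  have hEa : ∀ i j, i ≠ j → E i * E j = -(E j * E i) := by
    intro i j hij
    fin_cases i <;> fin_cases j <;> rw [hE] <;> first
      | exact absurd rfl hij
      | exact he.anti _ _ (by decide)
      | exact hPa _
      | exact anti_symm (hPa _)
  have hmat : ∀ i, mat (coord (E i : MS)) = (E i : MS) := fun i => by
    refine mat_coord h2 ((Symp.adj_rep hR hRf (hER i)).1 (hEsq i)) ?_
    obtain ⟨k, hk⟩ : ∃ k, k ≠ i := exists_ne i
    exact trace_of_anti h2 (w := E k) (by rw [← Units.val_mul, hEa k i hk]; simp)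
  refine ⟨e, E, fun i => coord (E i : MS), he, fun i => by fin_cases i <;> simp [hE], hER, hmat,
    fun i => ?_, fun i j hij => ?_⟩
  · have h := mat_sq (coord (E i : MS))
    rw [hmat, ← Units.val_mul, hEsq, Units.val_one] at h
    have := congrFun (congrFun h (.inl 0)) (.inl 0)
    simpa using this.symm
  · have h := mat_anti (coord (E i : MS)) (coord (E j : MS))
    rw [hmat, hmat, ← Units.val_mul, ← Units.val_mul, hEa i j hij, Units.val_neg, neg_add_cancel] at h
    have := congrFun (congrFun h (.inl 0)) (.inl 0)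
    simpa using this.symm

/-- the normaliser of the extraspecial group is maximal -/
theorem sympType_maximal [Fintype F] (hp : (Fintype.card F).Prime) (h2 : (2 : F) ≠ 0) {R : Subgroup G}
    (hR : Pauli R) (hRf : R ≤ Cfsg.spGL 2 F) (hz : Nat.card (Subgroup.center R) = 2) (hm : IsOfMinusType 2 R) :
    IsMaximalIn (Cfsg.spGL 2 F) (subgroupNormalizer R ⊓ Cfsg.spGL 2 F) := by
  classical
  obtain ⟨e, E, f, he, hEe, hER, hmat, hQf, horth⟩ := exists_five hR hRf hz hm
  obtain ⟨Q, hQ⟩ : ∃ Q, Q = qfOdd 2 F := ⟨_, rfl⟩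
  have hli : LinearIndependent F f := by
    rw [Fintype.linearIndependent_iff]
    intro g hg i
    have h : polar Q (f i) (∑ j, g j • f j) = 0 := by rw [hg, QuadraticMap.polar_zero_right]
    have e1 : polar Q (f i) (∑ j, g j • f j) = ∑ j, g j * polar Q (f i) (f j) := by
      show Q.polarBilin (f i) (∑ j, g j • f j) = _
      simp [map_sum]
    rw [e1, hQ, Finset.sum_eq_single i (fun j _ hj => by rw [horth i j (Ne.symm hj), mul_zero]) (by simp),
      polar_self_two, hQf, mul_one, mul_eq_zero] at h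
    exact h.resolve_right h2
  let b : Module.Basis (Fin 5) F W5 :=
    basisOfLinearIndependentOfCardEqFinrank hli (by simp [Module.finrank_fintype_fun_eq_card])
  have hb : ∀ i, b i = f i := fun i => by simp [b]
  obtain ⟨ψ, hψdef⟩ : ∃ ψ, ψ = b.equivFun := ⟨_, rfl⟩
  have hpol : ∀ i x, polar Q (f i) x = 2 * b.repr x i := by
    intro i x
    conv_lhs => rw [← b.sum_repr x]
    show Q.polarBilin (f i) (∑ j, b.repr x j • b j) = _
    rw [map_sum, Finset.sum_eq_single i (fun j _ hj => ?_) (by simp)]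
    · rw [map_smul, hb]
      show b.repr x i * polar Q (f i) (f i) = _
      rw [hQ, polar_self_two, hQf]; ring
    · rw [map_smul, hb]
      show b.repr x j * polar Q (f i) (f j) = _
      rw [hQ, horth i j (Ne.symm hj), mul_zero]
  have hψ : ∀ x, Q x = 1 * sq (Fin 5) F (ψ x) := by
    intro x
    apply mul_left_cancel₀ h2
    have e2 : polar Q x x = ∑ i, b.repr x i * polar Q (f i) x := by
      conv_lhs => arg 2; rw [← b.sum_repr x]
      show Q.polarBilin (∑ j, b.repr x j • b j) x = _
      rw [map_sum, LinearMap.sum_apply]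
      exact Finset.sum_congr rfl fun j _ => by rw [map_smul, LinearMap.smul_apply, hb]; rfl
    rw [← polar_self_two, e2, sq_apply, dotProduct, Finset.mul_sum, Finset.mul_sum]
    refine Finset.sum_congr rfl fun i _ => ?_
    rw [hpol, hψdef, Module.Basis.equivFun_apply]
    ring
  have hψe : ∀ i, ψ.symm (Pi.single i 1) = f i := fun i => by
    rw [hψdef, Module.Basis.equivFun_symm_apply, ← hb]
    simp [Pi.single_apply]
  subst hQ
  obtain ⟨Φ, hΦ⟩ : ∃ Φ, Φ = conjHom (qfOdd 2 F) ψ one_ne_zero hψ := ⟨_, rfl⟩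
  have hΦapp : ∀ (g : quadIsoms (qfOdd 2 F)) y, (Φ g).1 y = ψ (g.1 (ψ.symm y)) := fun g y => by rw [hΦ]; rfl
  have hmono : ∀ k : quadIsoms (qfOdd 2 F), Mono (Φ k) ↔ ∀ i, ∃ j, ∃ c : F, k.1 (f i) = c • f j := by
    intro k
    refine forall_congr' fun i => exists_congr fun j => exists_congr fun c => ?_
    rw [hΦapp, hψe]
    constructor
    · intro h
      apply ψ.injective
      rw [h, map_smul, ← hψe j, ψ.apply_symm_apply, ← Pi.single_smul, smul_eq_mul, mul_one]
    · intro h
      rw [h, map_smul, ← hψe j, ψ.apply_symm_apply, ← Pi.single_smul, smul_eq_mul, mul_one]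
  have hcomm : ∀ g : quadIsoms (qfOdd 2 F), g ∈ commutator (quadIsoms (qfOdd 2 F)) ↔
      Φ g ∈ commutator (quadIsoms (sq (Fin 5) F)) := fun g => by
    rw [← conjHom_commutator (qfOdd 2 F) ψ one_ne_zero hψ, hΦ]
    exact (Subgroup.mem_map_iff_mem (f := (conjHom (qfOdd 2 F) ψ one_ne_zero hψ).toMonoidHom)
      (conjHom (qfOdd 2 F) ψ one_ne_zero hψ).injective).symm
  -- a vector whose matrix lies in the group is a multiple of a frame vector
  have key : ∀ y ∈ R, ∀ v : W5, mat v = (y : MS) → ∃ j, ∃ c : F, v = c • f j := by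
    intro y hy v hv
    by_cases hv0 : ∀ j, polar (qfOdd 2 F) (f j) v = 0
    · refine ⟨0, 0, ?_⟩
      rw [zero_smul]
      refine b.repr.injective (Finsupp.ext fun j => ?_)
      have := hv0 j
      rw [hpol, mul_eq_zero] at this
      simpa using this.resolve_left h2
    push Not at hv0
    obtain ⟨j, hj⟩ := hv0
    have ha := mat_anti v (f j)
    rw [hv, hmat] at ha
    rcases hR.comm y hy (E j) (hER j) with h | h
    · have h' : (E j : MS) * (y : MS) = (y : MS) * (E j : MS) := by rw [← Units.val_mul, ← h, Units.val_mul]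
      rw [h'] at ha
      have hsq : (E j : MS) * (E j : MS) = 1 := by rw [← hmat, mat_sq, hQf, one_smul]
      refine ⟨j, polar (qfOdd 2 F) v (f j) / 2, mat_injective ?_⟩
      have h3 := congrArg (· * (E j : MS)) ha
      simp only [add_mul, Matrix.mul_assoc, hsq, mul_one, Matrix.smul_mul, one_mul] at h3
      rw [map_smul, hv, hmat, div_eq_inv_mul, ← smul_smul, ← h3, ← two_smul F (y : MS), smul_smul,
        inv_mul_cancel₀ h2, one_smul]
    · exfalso
      have h' : (y : MS) * (E j : MS) = -((E j : MS) * (y : MS)) := by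
        rw [← Units.val_mul, h, Units.val_neg, Units.val_mul]
      rw [h', neg_add_cancel] at ha
      have := congrFun (congrFun ha (.inl 0)) (.inl 0)
      exact hj (by rw [QuadraticMap.polar_comm]; simpa using this.symm)
  refine spGL_isMaximalIn_of h2 (subgroupNormalizer R) (fun k => Mono (Φ k)) (fun g => ?_) ?_ ?_
  · rw [hmono]
    constructor
    · intro hg i
      have hy : (g : G) * E i * (g : G)⁻¹ ∈ R := (Subgroup.mem_normalizer_iff.1 hg _).1 (hER i)
      exact key _ hy _ (by rw [mat_phi, hmat, Units.val_mul, Units.val_mul])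
    · intro h
      refine hR.mem_normalizer_of_frame he fun i => ?_
      obtain ⟨j, c, hc⟩ := h i.castSucc
      have h1 := congrArg mat hc
      rw [mat_phi, hmat, map_smul, hmat, hEe] at h1
      have hc2 : c * c = 1 := by
        have h' := congrArg (qfOdd 2 F) hc
        rw [(phi h2 g).2, QuadraticMap.map_smul, hQf, hQf, smul_eq_mul, mul_one] at h'
        exact h'.symm
      rcases mul_self_eq_one_iff.1 hc2 with rfl | rfl
      · rw [one_smul] at h1
        rw [show (g : G) * e i * (g : G)⁻¹ = E j from Units.ext (by simpa using h1)]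
        exact hER j
      · rw [neg_smul, one_smul] at h1
        rw [show (g : G) * e i * (g : G)⁻¹ = (-1) * E j from Units.ext (by simpa using h1)]
        exact R.mul_mem hR.negMem (hER j)
  · obtain ⟨k, hk, hkm⟩ := CfsgLib.MaxSub.OMono.exists_not_mono (ι := Fin 5) (F := F) h2 (by simp)
    obtain ⟨g, rfl⟩ := Φ.surjective k
    exact ⟨g, (hcomm g).2 hk, hkm⟩
  · intro M hM k hkM _ hkP x hx
    have hle := CfsgLib.MaxSub.OMono.commutator_le_of_not_mono (by rwa [Nat.card_eq_fintype_card]) h2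
      (by simp) (by simp; decide) (M.map Φ.toMonoidHom) (fun z hz' hzm => ?_) (Subgroup.mem_map_of_mem _ hkM) hkP
    · obtain ⟨y, hy, hyx⟩ := hle ((hcomm x).1 hx)
      rwa [← Φ.injective hyx]
    · obtain ⟨y, rfl⟩ := Φ.surjective z
      exact Subgroup.mem_map_of_mem _ (hM y ((hcomm y).2 hz') hzm)

end CfsgLib.MaxSub.SpFive
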