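import Cfsg.Agent.Lib.MaxSub.ExtBig

/-!
Overgroups of the semilinear symplectic group `Sp_K(V)` of a trace form inside `Sp_F(V)`,
`K/F` of prime degree, any dimension: either semilinear or containing symplectic transvections.

If an element moves a `K`-line off the lines, a pair (moved line, line) with largest intersection
meets in an `F`-hyperplane; so the stabiliser of a line induces all transvections on it, and
conjugating a root element of `Sp_K(V)` by these gives a transvection.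
-/

set_option autoImplicit false
set_option linter.unusedSectionVars false
set_option linter.style.haveILetI false
set_option linter.unusedSimpArgs false
set_option linter.unusedVariables false

namespace CfsgLib.MaxSub.SpExt

variable {F K V : Type*} [Field F] [Field K] [Algebra F K] [AddCommGroup V] [Module K V]
  [Module F V] [IsScalarTower F K V]

/-- `M` realises the map `h`. -/
def InM (M : Subgroup (V ≃ₗ[F] V)) (h : V → V) : Prop := ∃ g ∈ M, ∀ x, g x = h x

/-- The setting: `φ` a symplectic `K`-form, `M` preserves `τ ∘ φ` and contains `Sp(φ)`. -/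
structure Ctx (φ : V →ₗ[K] V →ₗ[K] K) (τ : K →ₗ[F] F) (M : Subgroup (V ≃ₗ[F] V)) : Prop where
  alt : ∀ v, φ v v = 0
  nondeg : ∀ v, (∀ w, φ v w = 0) → v = 0
  tau : τ ≠ 0
  iso : ∀ g ∈ M, ∀ u v, τ (φ (g u) (g v)) = τ (φ u v)
  mem : ∀ h : V ≃ₗ[K] V, (∀ u v, φ (h u) (h v) = φ u v) → h.restrictScalars F ∈ M
  prime : (Module.finrank F K).Prime
  two_le : 1 < Module.finrank K V

namespace Ctx

variable [Finite F] [Finite K] [Module.Finite K V] [Module.Finite F K]
  {φ : V →ₗ[K] V →ₗ[K] K} {τ : K →ₗ[F] F} {M : Subgroup (V ≃ₗ[F] V)}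

theorem swap (C : Ctx φ τ M) (u v : V) : φ v u = -φ u v := by
  have h := C.alt (u + v)
  simp only [map_add, LinearMap.add_apply, C.alt, zero_add, add_zero] at h
  exact eq_neg_of_add_eq_zero_left h

theorem eq_zero_swap (C : Ctx φ τ M) {u v : V} (h : φ u v = 0) : φ v u = 0 := by
  rw [C.swap, h, neg_zero]

theorem exists_tau (C : Ctx φ τ M) {b : K} (hb : b ≠ 0) : ∃ y, τ (b * y) ≠ 0 := by
  obtain ⟨z, hz⟩ : ∃ z, τ z ≠ 0 := by
    by_contra h
    simp only [not_exists, not_not] at h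
    exact C.tau (LinearMap.ext h)
  exact ⟨b⁻¹ * z, by rwa [mul_inv_cancel_left₀ hb]⟩

theorem tau_inj (C : Ctx φ τ M) {a b : K} (h : ∀ s, τ (s * a) = τ (s * b)) : a = b := by
  by_contra hne
  obtain ⟨y, hy⟩ := C.exists_tau (sub_ne_zero.2 hne)
  refine hy ?_
  rw [sub_mul, map_sub, mul_comm a, mul_comm b, h, sub_self]

/-- every functional on `K` is `τ (b * ·)` -/
theorem exists_rep (C : Ctx φ τ M) (χ : K →ₗ[F] F) : ∃ b, ∀ y, χ y = τ (b * y) := by
  let e : K →ₗ[F] (K →ₗ[F] F) :=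
    { toFun := fun μ => τ ∘ₗ LinearMap.mulLeft F μ
      map_add' := fun μ ν => by ext x; simp [add_mul]
      map_smul' := fun s μ => by ext x; simp }
  have hinj : Function.Injective e := fun a b h => C.tau_inj fun s => by
    have := LinearMap.congr_fun h s
    simpa [e, mul_comm] using this
  obtain ⟨b, hb⟩ := (LinearMap.injective_iff_surjective_of_finrank_eq_finrank
    (Subspace.dual_finrank_eq (K := F) (V := K)).symm).mp hinj χ
  exact ⟨b, fun y => by rw [← hb]; rfl⟩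

/-- every `K`-functional is `φ · w` -/
theorem exists_dual (C : Ctx φ τ M) (ψ : V →ₗ[K] K) : ∃ w, ∀ x, φ x w = ψ x := by
  have hinj : Function.Injective φ.flip := by
    rw [← LinearMap.ker_eq_bot, LinearMap.ker_eq_bot']
    intro w hw
    refine C.nondeg w fun x => C.eq_zero_swap ?_
    have := LinearMap.congr_fun hw x
    simpa using this
  obtain ⟨w, hw⟩ := (LinearMap.injective_iff_surjective_of_finrank_eq_finrank
    (Subspace.dual_finrank_eq (K := K) (V := V)).symm).mp hinj ψ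
  exact ⟨w, fun x => by rw [← hw]; rfl⟩

theorem exists_ne (C : Ctx φ τ M) {v : V} (hv : v ≠ 0) : ∃ z, φ v z ≠ 0 := by
  by_contra h
  simp only [not_exists, not_not] at h
  exact hv (C.nondeg v h)

/-- a vector not orthogonal to two given ones -/
theorem exists_ne₂ (C : Ctx φ τ M) {u v : V} (hu : u ≠ 0) (hv : v ≠ 0) :
    ∃ z, φ u z ≠ 0 ∧ φ v z ≠ 0 := by
  obtain ⟨a, ha⟩ := C.exists_ne hu
  obtain ⟨b, hb⟩ := C.exists_ne hv
  by_cases h1 : φ v a = 0
  · by_cases h2 : φ u b = 0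
    · exact ⟨a + b, by rwa [map_add, h2, add_zero], by rwa [map_add, h1, zero_add]⟩
    · exact ⟨b, h2, hb⟩
  · exact ⟨a, ha, h1⟩

/-- the transvections of the `K`-form -/
theorem exists_T (C : Ctx φ τ M) (v : V) (a : K) :
    ∃ h : V ≃ₗ[K] V, h.restrictScalars F ∈ M ∧ ∀ x, h x = x + (a * φ x v) • v := by
  have h0 : (a • φ.flip v) v = 0 := by simp [C.alt]
  refine ⟨LinearEquiv.transvection h0, C.mem _ fun x y => ?_, fun x => rfl⟩
  show φ (x + (a • φ.flip v) x • v) (y + (a • φ.flip v) y • v) = φ x y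
  simp only [map_add, map_smul, LinearMap.add_apply, LinearMap.smul_apply, LinearMap.flip_apply,
    C.alt, smul_eq_mul, C.swap y v]
  ring

theorem inM_T (C : Ctx φ τ M) (v : V) (a : K) : InM M fun x => x + (a * φ x v) • v := by
  obtain ⟨h, hh, hx⟩ := C.exists_T v a
  exact ⟨_, hh, hx⟩

/-- the Siegel elements of an orthogonal pair -/
theorem inM_S (C : Ctx φ τ M) {v w : V} (h : φ v w = 0) :
    InM M fun x => x + φ x v • w + φ x w • v := by
  have h' := C.eq_zero_swap h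
  obtain ⟨A, hA, hAx⟩ := C.exists_T (v + w) 1
  obtain ⟨B, hB, hBx⟩ := C.exists_T v (-1)
  obtain ⟨D, hD, hDx⟩ := C.exists_T w (-1)
  refine ⟨_, mul_mem hA (mul_mem hB hD), fun x => ?_⟩
  show A (B (D x)) = _
  rw [hDx, hBx, hAx]
  simp only [map_add, map_smul, LinearMap.add_apply, LinearMap.smul_apply, C.alt, h, h',
    smul_eq_mul]
  module

/-- a step moving a vector to one not orthogonal to it -/
theorem exists_step (C : Ctx φ τ M) {v v' : V} (h : φ v v' ≠ 0) :
    ∃ g : V ≃ₗ[K] V, g.restrictScalars F ∈ M ∧ g v = v' ∧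
      ∀ x, φ x v' = φ x v → g x = x := by
  obtain ⟨g, hg, hgx⟩ := C.exists_T (v' - v) (φ v v')⁻¹
  refine ⟨g, hg, ?_, fun x hx => ?_⟩
  · rw [hgx, map_sub, C.alt, sub_zero, inv_mul_cancel₀ h, one_smul, add_sub_cancel]
  · rw [hgx, map_sub, hx, sub_self, mul_zero, zero_smul, add_zero]

theorem exists_move (C : Ctx φ τ M) {v v' : V} (hv : v ≠ 0) (hv' : v' ≠ 0) :
    ∃ g : V ≃ₗ[K] V, g.restrictScalars F ∈ M ∧ g v = v' := by
  obtain ⟨z, hz, hz'⟩ := C.exists_ne₂ hv hv'
  obtain ⟨g, hg, hgv, -⟩ := C.exists_step hz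
  obtain ⟨g', hg', hgz, -⟩ := C.exists_step (v := z) (v' := v')
    (by rwa [C.swap, neg_ne_zero])
  exact ⟨g.trans g', mul_mem hg' hg, by rw [LinearEquiv.trans_apply, hgv, hgz]⟩

/-- A line of `V` whose stabiliser in `M` induces all transvections with one axis on it. -/
theorem exists_axis (C : Ctx φ τ M) (hg : ∃ g ∈ M, ¬ KSemi K g) :
    ∃ v₀ : V, v₀ ≠ 0 ∧ ∃ χ : K →ₗ[F] F, χ ≠ 0 ∧ ∀ i : K, χ i = 0 →
      ∃ m ∈ M, ∀ k : K, m (k • v₀) = (k + χ k • i) • v₀ := by
  classical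
  obtain ⟨g₀, hg₀, hns⟩ := hg
  haveI : Finite V := Module.finite_of_finite K
  haveI : Finite (V ≃ₗ[F] V) :=
    Finite.of_injective (fun g => (g : V → V)) DFunLike.coe_injective
  let I : (V ≃ₗ[F] V) × V → Set K := fun p => {k | ∃ c : K, p.1 (k • p.2) = c • p.1 p.2}
  obtain ⟨⟨g, v₀⟩, ⟨hgM, hgv⟩, hmax⟩ := Set.exists_max_image
    {p : (V ≃ₗ[F] V) × V | p.1 ∈ M ∧ ¬ LineTo K p.1 p.2} (fun p => (I p).ncard) (Set.toFinite _)
    (by
      by_contra hall
      refine hns (kSemi_of_lineTo C.two_le fun v => ?_)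
      by_contra hv
      exact hall ⟨(g₀, v), hg₀, hv⟩)
  have hv₀ : v₀ ≠ 0 := by rintro rfl; exact hgv fun k => ⟨0, by simp⟩
  set v := g v₀ with hv
  have hvne : v ≠ 0 := fun e => hv₀ (g.map_eq_zero_iff.mp e)
  set ρ : K →ₗ[F] V :=
    (g : V →ₗ[F] V) ∘ₗ (LinearMap.toSpanSingleton K V v₀).restrictScalars F with hρ
  have hρa : ∀ k, ρ k = g (k • v₀) := fun k => rfl
  have hρinj : Function.Injective ρ := fun a b h => smul_left_injective K hv₀ (g.injective h)
  set line : K →ₗ[F] V := (LinearMap.toSpanSingleton K V v).restrictScalars F with hline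
  have hlinea : ∀ c, line c = c • v := fun c => rfl
  set Wc : Submodule F K := (LinearMap.range ρ).comap line with hWc
  have hmemW : ∀ c, c ∈ Wc ↔ ∃ i, ρ i = c • v := fun c => Iff.rfl
  set J : Submodule F K := (LinearMap.range line).comap ρ with hJ
  have hIJ : I (g, v₀) = (J : Set K) := Set.ext fun k =>
    ⟨fun ⟨c, hc⟩ => ⟨c, hc.symm⟩, fun ⟨c, hc⟩ => ⟨c, hc.symm⟩⟩
  have hρ1 : ρ 1 = v := by rw [hρa, one_smul]
  have h1W : (1 : K) ∈ Wc := ⟨1, by rw [hρ1, hlinea, one_smul]⟩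
  have h1J : (1 : K) ∈ J := ⟨1, by rw [hlinea, one_smul, hρ1]⟩
  obtain ⟨k₀, hk₀⟩ : ∃ k₀, k₀ ∉ J := by
    by_contra hall
    simp only [not_exists, not_not] at hall
    refine hgv fun k => ?_
    obtain ⟨c, hc⟩ := hall k
    exact ⟨c, hc.symm⟩
  have hWne : ∃ c, c ∉ Wc := by
    by_contra hall
    simp only [not_exists, not_not] at hall
    choose i hi using fun c => (hmemW c).1 (hall c)
    have hiinj : Function.Injective i := fun a b h =>
      smul_left_injective K hvne (show a • v = b • v by rw [← hi, ← hi, h])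
    obtain ⟨c, hc⟩ := Finite.surjective_of_injective hiinj k₀
    exact hk₀ ⟨c, by rw [hlinea, ← hc, hi]⟩
  -- the family moving the image of the line along `v`
  obtain ⟨π, ⟨k₁, hk₁⟩, hπJ, hfam⟩ : ∃ π : K →ₗ[F] K, (∃ k, π k ≠ 0) ∧ (∀ k ∈ J, π k = 0) ∧
      ∀ a : K, ∃ h ∈ M, ∀ k, h (ρ k) = ρ k + (a * π k) • v := by
    by_cases hA : ∃ k, φ (ρ k) v ≠ 0
    · refine ⟨((φ.flip v).restrictScalars F) ∘ₗ ρ, hA, ?_, fun a => ?_⟩
      · rintro k ⟨c, hc⟩
        show φ (ρ k) v = 0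
        rw [← hc, hlinea, map_smul, LinearMap.smul_apply, C.alt, smul_zero]
      · obtain ⟨h, hh, hx⟩ := C.inM_T v a
        exact ⟨h, hh, fun k => hx _⟩
    simp only [not_exists, not_not] at hA
    have hnot : ρ k₀ ∉ Submodule.span K {v} := fun h => by
      obtain ⟨c, hc⟩ := Submodule.mem_span_singleton.mp h
      exact hk₀ ⟨c, hc⟩
    obtain ⟨ψ, hψ1, hψ⟩ := exists_dual_one hnot
    obtain ⟨w, hw⟩ := C.exists_dual ψ
    have hvw : φ v w = 0 := by rw [hw]; exact hψ v (Submodule.mem_span_singleton_self v)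
    refine ⟨((φ.flip w).restrictScalars F) ∘ₗ ρ, ⟨k₀, ?_⟩, ?_, fun a => ?_⟩
    · show φ (ρ k₀) w ≠ 0
      rw [hw, hψ1]; exact one_ne_zero
    · rintro k ⟨c, hc⟩
      show φ (ρ k) w = 0
      rw [← hc, hlinea, map_smul, LinearMap.smul_apply, hvw, smul_zero]
    · obtain ⟨h, hh, hx⟩ := C.inM_S (v := v) (w := a • w) (by rw [map_smul, hvw, smul_zero])
      refine ⟨h, hh, fun k => ?_⟩
      rw [hx]
      dsimp only
      rw [hA, zero_smul, add_zero, (φ (ρ k)).map_smul, smul_eq_mul]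
      rfl
  -- maximality
  have dich : ∀ a : K, (∀ k, a * π k ∈ Wc) ∨ ∀ k, a * π k ∈ Wc → k ∈ J := by
    intro a
    by_cases hall : ∀ k, a * π k ∈ Wc
    · exact Or.inl hall
    refine Or.inr fun k hk => ?_
    obtain ⟨h, hh, hhx⟩ := hfam a
    set g₂ := g⁻¹ * h * g with hg₂
    have hg₂M : g₂ ∈ M := mul_mem (mul_mem (inv_mem hgM) hh) hgM
    have hfix : g₂ v₀ = v₀ := by
      show g⁻¹ (h (g v₀)) = v₀
      rw [← hv, ← hρ1, hhx, hπJ 1 h1J, mul_zero, zero_smul, add_zero, hρ1, hv, inv_apply_apply]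
    have hI2 : ∀ j, j ∈ I (g₂, v₀) ↔ a * π j ∈ Wc := by
      intro j
      rw [hmemW]
      show (∃ c, g₂ (j • v₀) = c • g₂ v₀) ↔ _
      rw [hfix]
      constructor
      · rintro ⟨c, hc⟩
        refine ⟨c - j, ?_⟩
        have h2 : h (ρ j) = ρ c := by
          rw [hρa, hρa, ← hc]
          exact (apply_inv_apply g _).symm
        rw [map_sub, ← h2, hhx, add_sub_cancel_left]
      · rintro ⟨i, hi⟩
        refine ⟨j + i, ?_⟩
        show g⁻¹ (h (g (j • v₀))) = _
        rw [← hρa, hhx, ← hi, ← map_add, hρa, inv_apply_apply]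
    have hsub : I (g, v₀) ⊆ I (g₂, v₀) := fun j hj => by
      rw [hI2, hπJ j (by rwa [hIJ] at hj), mul_zero]; exact Wc.zero_mem
    have hnl : ¬ LineTo K g₂ v₀ := fun hl => hall fun j => (hI2 j).1 (by
      obtain ⟨c, hc⟩ := hl j
      exact ⟨c, hc⟩)
    have heq := Set.eq_of_subset_of_ncard_le hsub (hmax (g₂, v₀) ⟨hg₂M, hnl⟩) (Set.toFinite _)
    have hmem := (hI2 k).2 hk
    rwa [← heq, hIJ] at hmem
  have hker : ∀ k, π k = 0 → k ∈ J := by
    intro k hk
    obtain ⟨c, hc⟩ := hWne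
    rcases dich (c * (π k₁)⁻¹) with h | h
    · exact absurd (h k₁) (by rwa [inv_mul_cancel_right₀ hk₁])
    · exact h k (by rw [hk, mul_zero]; exact Wc.zero_mem)
  have hA : ∀ a k k', π k ≠ 0 → a * π k ∈ Wc → a * π k' ∈ Wc := fun a k k' hne h =>
    (dich a).elim (fun h' => h' k') fun h' => absurd (hπJ k (h' k h)) hne
  -- the range of `π` is a line
  let S : Subalgebra F K :=
    { carrier := {l | ∀ w ∈ Wc, l * w ∈ Wc}
      mul_mem' := fun {a b} ha hb w hw => by rw [mul_assoc]; exact ha _ (hb w hw)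
      add_mem' := fun {a b} ha hb w hw => by rw [add_mul]; exact add_mem (ha w hw) (hb w hw)
      algebraMap_mem' := fun c w hw => by rw [← Algebra.smul_def]; exact Wc.smul_mem c hw }
  have hSbot : S = ⊥ := by
    haveI := Subalgebra.isSimpleOrder_of_finrank_prime F K C.prime
    refine (eq_bot_or_eq_top S).resolve_right fun hS => ?_
    obtain ⟨c, hc⟩ := hWne
    have : c ∈ S := by rw [hS]; exact Algebra.mem_top
    exact hc (by simpa using this 1 h1W)
  set e₀ := π k₁ with he₀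
  have hline' : ∀ k, ∃ c : F, π k = c • e₀ := by
    intro k
    have hS : π k * e₀⁻¹ ∈ S := fun w hw => by
      have h := hA (w * e₀⁻¹) k₁ k hk₁ (by rwa [← he₀, inv_mul_cancel_right₀ hk₁])
      rwa [mul_comm (π k) e₀⁻¹, mul_assoc, mul_comm (π k) w, ← mul_assoc, mul_comm e₀⁻¹ w]
    rw [hSbot, Algebra.mem_bot] at hS
    obtain ⟨c, hc⟩ := hS
    exact ⟨c, by rw [Algebra.smul_def, hc, inv_mul_cancel_right₀ hk₁]⟩
  choose χ hχ using hline'
  have hinj : ∀ c c' : F, c • e₀ = c' • e₀ → c = c' := fun c c' h => smul_left_injective F hk₁ h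
  let χl : K →ₗ[F] F :=
    { toFun := χ
      map_add' := fun x y => hinj _ _ (by rw [← hχ, map_add, hχ, hχ, add_smul])
      map_smul' := fun c x => hinj _ _ (by rw [← hχ, map_smul, hχ, smul_smul]; rfl) }
  refine ⟨v₀, hv₀, χl, fun h => hk₁ ?_, fun i hi => ?_⟩
  · show π k₁ = 0
    rw [hχ k₁, show χ k₁ = χl k₁ from rfl, h, LinearMap.zero_apply, zero_smul]
  obtain ⟨c, hc⟩ : i ∈ J := hker i (by rw [hχ i, show χ i = 0 from hi, zero_smul])
  obtain ⟨h, hh, hhx⟩ := hfam (c * e₀⁻¹)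
  refine ⟨g⁻¹ * h * g, mul_mem (mul_mem (inv_mem hgM) hh) hgM, fun k => ?_⟩
  show g⁻¹ (h (g (k • v₀))) = (k + χ k • i) • v₀
  have he : c * e₀⁻¹ * π k = χ k • c := by
    rw [hχ k, Algebra.smul_def, Algebra.smul_def]
    field_simp
  have h2 : g (k • v₀) + (χ k • c) • v = ρ (k + χ k • i) := by
    rw [map_add ρ, ρ.map_smul, ← hc, hlinea, smul_assoc, hρa k]
  rw [← hρa, hhx, he, hρa, h2, hρa, inv_apply_apply]

/-- all transvections are induced on some line -/
theorem exists_line (C : Ctx φ τ M) (hg : ∃ g ∈ M, ¬ KSemi K g) :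
    ∃ v₀ : V, v₀ ≠ 0 ∧ ∀ b e : K, τ (b * e) = 0 →
      ∃ m ∈ M, ∀ k : K, m (k • v₀) = (k + τ (b * k) • e) • v₀ := by
  obtain ⟨v₀, hv₀, χ, hχ, hax⟩ := C.exists_axis hg
  refine ⟨v₀, hv₀, fun b e hbe => ?_⟩
  obtain ⟨b₀, hb₀⟩ := C.exists_rep χ
  have hb0 : b₀ ≠ 0 := by
    rintro rfl
    exact hχ (LinearMap.ext fun y => by rw [hb₀, zero_mul, map_zero, LinearMap.zero_apply])
  rcases eq_or_ne b 0 with rfl | hb
  · exact ⟨1, one_mem M, fun k => by simp⟩
  have hc : b₀ / b ≠ 0 := div_ne_zero hb0 hb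
  obtain ⟨h, hh, hhv⟩ := C.exists_move hv₀ (show (b₀ / b) • v₀ ≠ 0 from smul_ne_zero hc hv₀)
  obtain ⟨m, hm, hmx⟩ := hax (e / (b₀ / b)) (by
    rw [hb₀, show b₀ * (e / (b₀ / b)) = b * e by field_simp]
    exact hbe)
  refine ⟨h.restrictScalars F * m * (h.restrictScalars F)⁻¹,
    mul_mem (mul_mem hh hm) (inv_mem hh), fun k => ?_⟩
  show h (m (h.symm (k • v₀))) = _
  have hs : h.symm (k • v₀) = (k / (b₀ / b)) • v₀ := by
    rw [LinearEquiv.symm_apply_eq, map_smul, hhv, smul_smul, div_mul_cancel₀ _ hc]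
  rw [hs, hmx, map_smul, hhv, smul_smul, hb₀, show b₀ * (k / (b₀ / b)) = b * k by field_simp]
  congr 1
  rw [add_mul, div_mul_cancel₀ _ hc, Algebra.smul_def, Algebra.smul_def, mul_assoc,
    div_mul_cancel₀ _ hc]

/-- `D` gives an element of `M` in the Siegel group of the line of `v` -/
def InS (φ : V →ₗ[K] V →ₗ[K] K) (M : Subgroup (V ≃ₗ[F] V)) (v : V) (D : K → K) : Prop :=
  InM M fun x => x + D (φ x v) • v

theorem inS_mul (C : Ctx φ τ M) (v : V) (a : K) : InS φ M v fun y => a * y := C.inM_T v a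

theorem inS_sub (C : Ctx φ τ M) {v : V} {D D' E : K → K} (h : InS φ M v D) (h' : InS φ M v D')
    (hE : ∀ y, D y = D' y + E y) : InS φ M v E := by
  obtain ⟨g, hg, hgx⟩ := h
  obtain ⟨g', hg', hgx'⟩ := h'
  refine ⟨g'⁻¹ * g, mul_mem (inv_mem hg') hg, fun x => g'.injective ?_⟩
  show g' (g'⁻¹ (g x)) = g' (x + E (φ x v) • v)
  rw [apply_inv_apply, hgx, hgx']
  dsimp only
  rw [map_add, LinearMap.add_apply, φ.map_smul, LinearMap.smul_apply,
    C.alt, smul_zero, add_zero, hE, add_smul]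
  abel

theorem inS_congr {v : V} {D E : K → K} (h : InS φ M v D) (hE : ∀ y, D y = E y) :
    InS φ M v E := by
  rwa [show E = D from funext fun y => (hE y).symm]

theorem inS_conj (C : Ctx φ τ M) {v : V} {D θ θ' : K → K} (h : InS φ M v D) {m : V ≃ₗ[F] V}
    (hm : m ∈ M) (hmv : ∀ k : K, m (k • v) = θ k • v)
    (hadj : ∀ s y, τ (θ s * y) = τ (s * θ' y)) : InS φ M v fun y => θ (D (θ' y)) := by
  obtain ⟨g, hg, hgx⟩ := h
  refine ⟨m * g * m⁻¹, mul_mem (mul_mem hm hg) (inv_mem hm), fun x => ?_⟩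
  have e : φ (m⁻¹ x) v = θ' (φ x v) := C.tau_inj fun s => by
    have hi := C.iso m hm (m⁻¹ x) (s • v)
    rw [apply_inv_apply, hmv, (φ x).map_smul, (φ (m⁻¹ x)).map_smul, smul_eq_mul, smul_eq_mul,
      hadj] at hi
    exact hi.symm
  show m (g (m⁻¹ x)) = _
  rw [hgx]
  dsimp only
  rw [map_add, hmv, apply_inv_apply, e]

/-- a symplectic `F`-transvection of `M` -/
def HasT (φ : V →ₗ[K] V →ₗ[K] K) (τ : K →ₗ[F] F) (M : Subgroup (V ≃ₗ[F] V)) (v : V) (c : F) :
    Prop :=
  InM M fun x => x + (c * τ (φ x v)) • v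

theorem hasT_of_inS (C : Ctx φ τ M) {v : V} {e : K} {c : F}
    (h : InS φ M v fun y => (c * τ (e * y)) • e) : HasT φ τ M (e • v) c := by
  obtain ⟨g, hg, hgx⟩ := h
  refine ⟨g, hg, fun x => ?_⟩
  rw [hgx]
  dsimp only
  rw [(φ x).map_smul, smul_eq_mul, smul_assoc]

theorem exists_sq_ne (C : Ctx φ τ M) : ∃ b : K, τ (b * b) ≠ 0 := by
  by_contra h
  simp only [not_exists, not_not] at h
  refine C.tau (LinearMap.ext fun y => ?_)
  rw [LinearMap.zero_apply]
  by_cases h2 : ringChar K = 2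
  · obtain ⟨z, hz⟩ := FiniteField.isSquare_of_char_two h2 y
    rw [hz]; exact h z
  · have h2' := Ring.two_ne_zero h2
    rw [show y = (y + 1) / 2 * ((y + 1) / 2) - (y - 1) / 2 * ((y - 1) / 2) by field_simp; ring,
      map_sub, h, h, sub_zero]

/-- the symmetric tensor of `b` and `e` plus a square -/
theorem inS_delta (C : Ctx φ τ M) {v : V}
    (hline : ∀ b e : K, τ (b * e) = 0 →
      ∃ m ∈ M, ∀ k : K, m (k • v) = (k + τ (b * k) • e) • v)
    {b e : K} (hbe : τ (b * e) = 0) (a : F) :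
    InS φ M v fun y =>
      (a * τ (e * y)) • b + (a * τ (b * y)) • e + (a * τ (b * b) * τ (e * y)) • e := by
  obtain ⟨m, hm, hmv⟩ := hline b e hbe
  have h1 := C.inS_conj (θ' := fun y => y + τ (e * y) • b) (C.inS_mul v (algebraMap F K a)) hm
    hmv (fun s y => by
      rw [add_mul, mul_add, map_add, map_add, smul_mul_assoc, mul_smul_comm, map_smul, map_smul,
        smul_eq_mul, smul_eq_mul, mul_comm b s, mul_comm (τ (s * b))])
  refine C.inS_sub h1 (C.inS_mul v (algebraMap F K a)) fun y => ?_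
  simp only [← Algebra.smul_def]
  rw [mul_smul_comm, map_smul, smul_eq_mul, mul_add, mul_smul_comm, map_add, map_smul,
    smul_eq_mul, smul_add, smul_smul]
  module

/-- Apart from `|K| = 4`, `|F| = 2`, some transvection is in `M`. -/
theorem exists_hasT (C : Ctx φ τ M) {v : V} (hv : v ≠ 0)
    (hline : ∀ b e : K, τ (b * e) = 0 →
      ∃ m ∈ M, ∀ k : K, m (k • v) = (k + τ (b * k) • e) • v)
    (hsmall : Module.finrank F K = 2 → ∃ l : F, l ≠ 0 ∧ l ≠ 1) :
    ∃ w : V, w ≠ 0 ∧ ∃ c : F, c ≠ 0 ∧ HasT φ τ M w c := by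
  classical
  have hr := C.prime.two_le
  obtain ⟨b, hb⟩ := C.exists_sq_ne
  have hb0 : b ≠ 0 := by rintro rfl; simp at hb
  set L : K →ₗ[F] F := τ ∘ₗ LinearMap.mulLeft F b with hL
  obtain ⟨e, he, he0⟩ : ∃ e ∈ LinearMap.ker L, e ≠ 0 := by
    refine (LinearMap.ker L).ne_bot_iff.1 fun h => ?_
    have h1 := LinearMap.finrank_range_add_finrank_ker L
    have h2 := Submodule.finrank_le (LinearMap.range L)
    rw [h, finrank_bot, Module.finrank_self] at *
    omega
  have hbe : τ (b * e) = 0 := he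
  rcases Nat.lt_or_ge (Module.finrank F K) 3 with h3 | h3
  · obtain ⟨l, hl0, hl1⟩ := hsmall (by omega)
    have hlb : τ ((l • b) * e) = 0 := by rw [smul_mul_assoc, map_smul, hbe, smul_zero]
    refine ⟨e • v, smul_ne_zero he0 hv, (l * l - l) * τ (b * b), mul_ne_zero ?_ hb,
      C.hasT_of_inS (C.inS_sub (C.inS_delta hline hlb 1) (C.inS_delta hline hbe l) fun y => ?_)⟩
    · rw [← mul_sub_one]; exact mul_ne_zero hl0 (sub_ne_zero.2 hl1)
    · simp only [smul_mul_assoc, mul_smul_comm, map_smul, smul_eq_mul, smul_smul]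
      module
  · have heb : e ∉ Submodule.span F {b} := fun h => by
      obtain ⟨t, rfl⟩ := Submodule.mem_span_singleton.mp h
      rw [mul_smul_comm, map_smul, smul_eq_mul, mul_eq_zero] at hbe
      exact hbe.elim (fun ht => he0 (by rw [ht, zero_smul])) hb
    obtain ⟨z, hz⟩ : ∃ z, z ∉ Submodule.span F ({e, b} : Set K) := by
      refine exists_notMem_of_ne_top fun h => ?_
      have h1 := finrank_span_finset_le_card (R := F) ({e, b} : Finset K)
      rw [Set.finrank, Finset.coe_pair, h, finrank_top] at h1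
      have h2 := Finset.card_le_two (a := e) (b := b)
      omega
    have piece : ∀ x : K, b ∉ Submodule.span F ({e, x} : Set K) →
        InS φ M v fun y => τ (e * y) • x + τ (x * y) • e := by
      intro x hx
      obtain ⟨χ, hχb, hχ⟩ := exists_dual_one hx
      obtain ⟨β, hβ⟩ := C.exists_rep χ
      have hβe : τ (β * e) = 0 := by
        rw [← hβ]; exact hχ e (Submodule.subset_span (Set.mem_insert _ _))
      have hβx : τ (β * x) = 0 := by
        rw [← hβ]; exact hχ x (Submodule.subset_span (Set.mem_insert_of_mem _ rfl))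
      have hβb : τ (β * b) = 1 := by rw [← hβ, hχb]
      obtain ⟨m, hm, hmv⟩ := hline β x hβx
      refine C.inS_sub (C.inS_conj (θ' := fun y => y + τ (x * y) • β) (C.inS_delta hline hbe 1)
        hm hmv (fun s y => ?_)) (C.inS_delta hline hbe 1) fun y => ?_
      · rw [add_mul, mul_add, map_add, map_add, smul_mul_assoc, mul_smul_comm, map_smul, map_smul,
          smul_eq_mul, smul_eq_mul, mul_comm β s, mul_comm (τ (s * β))]
      · simp only [mul_add, map_add, add_mul, mul_smul_comm, smul_mul_assoc, map_smul, smul_eq_mul,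
          mul_comm e β, mul_comm b β, hβe, hβb, one_mul, mul_one, mul_zero, add_zero]
        module
    have hzb : b ∉ Submodule.span F ({e, z} : Set K) := fun h => hz (by
      obtain ⟨p, s, hps⟩ := Submodule.mem_span_pair.mp h
      have hs : s ≠ 0 := by
        rintro rfl
        rw [zero_smul, add_zero] at hps
        rcases eq_or_ne p 0 with rfl | hp
        · exact hb0 (by rw [← hps, zero_smul])
        · exact heb (Submodule.mem_span_singleton.mpr ⟨p⁻¹, by rw [← hps, inv_smul_smul₀ hp]⟩)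
      rw [Submodule.mem_span_pair]
      refine ⟨-(s⁻¹ * p), s⁻¹, ?_⟩
      rw [← hps, smul_add, smul_smul, smul_smul, inv_mul_cancel₀ hs, one_smul, neg_smul]
      abel)
    have hzb' : b ∉ Submodule.span F ({e, b - z} : Set K) := fun h => hz (by
      obtain ⟨p, s, hps⟩ := Submodule.mem_span_pair.mp h
      rcases eq_or_ne s 0 with rfl | hs
      · rw [zero_smul, add_zero] at hps
        rcases eq_or_ne p 0 with rfl | hp
        · exact absurd (by rw [← hps, zero_smul]) hb0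
        · exact absurd (Submodule.mem_span_singleton.mpr
            ⟨p⁻¹, by rw [← hps, inv_smul_smul₀ hp]⟩) heb
      · rw [Submodule.mem_span_pair]
        refine ⟨s⁻¹ * p, (1 - s⁻¹), ?_⟩
        have h2 : s⁻¹ • b = (s⁻¹ * p) • e + (b - z) := by
          conv_lhs => rw [← hps, smul_add, smul_smul, smul_smul, inv_mul_cancel₀ hs, one_smul]
        rw [sub_smul, one_smul, h2]
        abel)
    refine ⟨e • v, smul_ne_zero he0 hv, τ (b * b), hb, C.hasT_of_inS ?_⟩
    refine C.inS_sub (C.inS_sub (C.inS_delta hline hbe 1) (piece z hzb)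
      (E := fun y => τ (e * y) • (b - z) + τ ((b - z) * y) • e + (τ (b * b) * τ (e * y)) • e)
      fun y => ?_) (piece (b - z) hzb') fun y => rfl
    rw [sub_mul, map_sub]
    module

theorem hasT_add (C : Ctx φ τ M) {v : V} {c d : F} (h : HasT φ τ M v c) (h' : HasT φ τ M v d) :
    HasT φ τ M v (c + d) := by
  obtain ⟨g, hg, hgx⟩ := h
  obtain ⟨g', hg', hgx'⟩ := h'
  refine ⟨g * g', mul_mem hg hg', fun x => ?_⟩
  show g (g' x) = _
  rw [hgx', hgx]
  dsimp only
  rw [map_add, LinearMap.add_apply, ← algebraMap_smul K (d * τ (φ x v)) v, φ.map_smul,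
    LinearMap.smul_apply, C.alt, smul_zero, add_zero, algebraMap_smul]
  module

theorem hasT_neg (C : Ctx φ τ M) {v : V} {c : F} (h : HasT φ τ M v c) : HasT φ τ M v (-c) := by
  obtain ⟨g, hg, hgx⟩ := h
  refine ⟨g⁻¹, inv_mem hg, fun x => g.injective ?_⟩
  rw [apply_inv_apply, hgx]
  dsimp only
  rw [map_add, LinearMap.add_apply,
    ← algebraMap_smul K (-c * τ (φ x v)) v, φ.map_smul, LinearMap.smul_apply, C.alt, smul_zero,
    add_zero, algebraMap_smul]
  module

theorem hasT_move (C : Ctx φ τ M) {v : V} {c : F} (h : HasT φ τ M v c) {g : V ≃ₗ[F] V}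
    (hg : g ∈ M) : HasT φ τ M (g v) c := by
  obtain ⟨t, ht, htx⟩ := h
  refine ⟨g * t * g⁻¹, mul_mem (mul_mem hg ht) (inv_mem hg), fun x => ?_⟩
  show g (t (g⁻¹ x)) = _
  have hi := C.iso g hg (g⁻¹ x) v
  rw [apply_inv_apply] at hi
  rw [htx]
  dsimp only
  rw [map_add, map_smul, apply_inv_apply, hi]

/-- The transvections with every centre are in `M`, `(|K|, |F|) ≠ (4, 2)`. -/
theorem hasT_all (C : Ctx φ τ M) (hsmall : Module.finrank F K = 2 → ∃ l : F, l ≠ 0 ∧ l ≠ 1)
    (hg : ∃ g ∈ M, ¬ KSemi K g) (v : V) (c : F) : HasT φ τ M v c := by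
  obtain ⟨v₀, hv₀, hline⟩ := C.exists_line hg
  obtain ⟨w, hw, c₀, hc₀, hT⟩ := C.exists_hasT hv₀ hline hsmall
  rcases eq_or_ne v 0 with rfl | hv
  · exact ⟨1, one_mem M, fun x => by simp⟩
  have sq : ∀ l : F, HasT φ τ M v (c₀ * (l * l)) := by
    intro l
    rcases eq_or_ne l 0 with rfl | hl
    · exact ⟨1, one_mem M, fun x => by simp⟩
    obtain ⟨h, hh, hhw⟩ := C.exists_move hw (show l • v ≠ 0 from smul_ne_zero hl hv)
    obtain ⟨t, ht, htx⟩ := C.hasT_move hT hh
    refine ⟨t, ht, fun x => ?_⟩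
    have e : (h.restrictScalars F) w = l • v := hhw
    rw [htx]
    dsimp only
    rw [e, ← algebraMap_smul K l v, (φ x).map_smul, smul_eq_mul, ← Algebra.smul_def, map_smul,
      smul_eq_mul, algebraMap_smul, smul_smul]
    module
  by_cases h2 : ringChar F = 2
  · obtain ⟨z, hz⟩ := FiniteField.isSquare_of_char_two h2 (c / c₀)
    rw [show c = c₀ * (z * z) by rw [← hz, mul_div_cancel₀ _ hc₀]]
    exact sq z
  · have h2' := Ring.two_ne_zero h2
    rw [show c = c₀ * ((c / c₀ + 1) / 2 * ((c / c₀ + 1) / 2)) +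
        -(c₀ * ((c / c₀ - 1) / 2 * ((c / c₀ - 1) / 2))) by field_simp; ring]
    exact C.hasT_add (sq _) (C.hasT_neg (sq _))

end Ctx

end CfsgLib.MaxSub.SpExt
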