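import Cfsg.Agent.Lib.MaxSub.SpExtCore

/-!
The case `|F| = 2`, `|K| = 4`: an overgroup of the semilinear symplectic group moving some
`K`-line off the lines contains every product of two symplectic transvections.
-/

set_option autoImplicit false
set_option linter.unusedSectionVars false
set_option linter.style.haveILetI false

namespace CfsgLib.MaxSub.SpExt

variable {F K V : Type*} [Field F] [Field K] [Algebra F K] [AddCommGroup V] [Module K V]
  [Module F V] [IsScalarTower F K V]

/-- the symplectic transvection centred at `v` -/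
def tE (φ : V →ₗ[K] V →ₗ[K] K) (τ : K →ₗ[F] F) (v x : V) : V := x + τ (φ x v) • v

/-- the product of two transvections lies in `M` -/
def Pr (φ : V →ₗ[K] V →ₗ[K] K) (τ : K →ₗ[F] F) (M : Subgroup (V ≃ₗ[F] V)) (u v : V) : Prop :=
  InM M fun x => tE φ τ u (tE φ τ v x)

namespace Ctx

variable [Finite F] [Finite K] [Module.Finite K V] [Module.Finite F K]
  {φ : V →ₗ[K] V →ₗ[K] K} {τ : K →ₗ[F] F} {M : Subgroup (V ≃ₗ[F] V)}

theorem phi_iso (C : Ctx φ τ M) (h : V ≃ₗ[K] V) (hh : h.restrictScalars F ∈ M) (u v : V) :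
    φ (h u) (h v) = φ u v := by
  refine C.tau_inj fun s => ?_
  have hi := C.iso _ hh (s • u) v
  simp only [LinearEquiv.restrictScalars_apply, map_smul, LinearMap.smul_apply, smul_eq_mul] at hi
  exact hi

theorem tE_tE (C : Ctx φ τ M) (h2 : (2 : F) = 0) (v x : V) :
    tE φ τ v (tE φ τ v x) = x := by
  unfold tE
  rw [map_add, LinearMap.add_apply, ← algebraMap_smul K (τ (φ x v)) v, φ.map_smul,
    LinearMap.smul_apply, C.alt, smul_zero, add_zero, algebraMap_smul, add_assoc, ← two_smul F,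
    h2, zero_smul, add_zero]

theorem pr_refl (C : Ctx φ τ M) (h2 : (2 : F) = 0) (v : V) : Pr φ τ M v v :=
  ⟨1, one_mem M, fun x => (C.tE_tE h2 v x).symm⟩

theorem pr_symm (C : Ctx φ τ M) (h2 : (2 : F) = 0) {u v : V} (h : Pr φ τ M u v) :
    Pr φ τ M v u := by
  obtain ⟨g, hg, hgx⟩ := h
  refine ⟨g⁻¹, inv_mem hg, fun x => g.injective ?_⟩
  rw [apply_inv_apply, hgx]
  dsimp only
  rw [C.tE_tE h2, C.tE_tE h2]

theorem pr_trans (C : Ctx φ τ M) (h2 : (2 : F) = 0) {u v w : V} (h : Pr φ τ M u v)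
    (h' : Pr φ τ M v w) : Pr φ τ M u w := by
  obtain ⟨g, hg, hgx⟩ := h
  obtain ⟨g', hg', hgx'⟩ := h'
  refine ⟨g * g', mul_mem hg hg', fun x => ?_⟩
  show g (g' x) = _
  rw [hgx', hgx]
  dsimp only
  rw [C.tE_tE h2]

theorem pr_conj (C : Ctx φ τ M) {u v : V} (h : Pr φ τ M u v) {g : V ≃ₗ[F] V} (hg : g ∈ M) :
    Pr φ τ M (g u) (g v) := by
  have key : ∀ w x, g (tE φ τ w x) = tE φ τ (g w) (g x) := fun w x => by
    rw [tE, tE, map_add, map_smul, C.iso g hg]
  obtain ⟨t, ht, htx⟩ := h
  refine ⟨g * t * g⁻¹, mul_mem (mul_mem hg ht) (inv_mem hg), fun x => ?_⟩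
  show g (t (g⁻¹ x)) = _
  rw [htx]
  dsimp only
  rw [key, key, apply_inv_apply]

/-- collinear pairs -/
theorem pr_smul (C : Ctx φ τ M) (hF : Nat.card F = 2) (hr : Module.finrank F K = 2) (v : V)
    {c : K} (hc : c ≠ 0) : Pr φ τ M v (c • v) := by
  classical
  haveI : Fintype K := Fintype.ofFinite K
  haveI : Fintype F := Fintype.ofFinite F
  have h2 : (2 : F) = 0 := by
    have h := FiniteField.cast_card_eq_zero F
    rw [← Nat.card_eq_fintype_card, hF] at h
    exact_mod_cast h
  have h2K : (2 : K) = 0 := by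
    have h := congrArg (algebraMap F K) h2
    rwa [map_ofNat, map_zero] at h
  have hK4 : Fintype.card K = 4 := by
    rw [← Nat.card_eq_fintype_card, Module.natCard_eq_pow_finrank (K := F), hF, hr]; rfl
  have hF1 : ∀ x : F, x ≠ 0 → x = 1 := by
    intro x hx
    by_contra h1
    have h3 : ({0, 1, x} : Finset F).card = 3 := by
      rw [Finset.card_insert_of_notMem (by simp [Ne.symm hx]),
        Finset.card_insert_of_notMem (by simp [Ne.symm h1]), Finset.card_singleton]
    have h4 := Finset.card_le_univ ({0, 1, x} : Finset F)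
    rw [h3, ← Nat.card_eq_fintype_card, hF] at h4
    omega
  obtain ⟨ω, hω0, hω1⟩ : ∃ ω : K, ω ≠ 0 ∧ ω ≠ 1 := by
    by_contra h
    simp only [not_exists, not_and, not_not] at h
    have h4 : (Finset.univ : Finset K) ⊆ {0, 1} := fun x _ => by
      rcases eq_or_ne x 0 with rfl | hx
      · simp
      · simp [h x hx]
    have h5 := (Finset.card_le_card h4).trans Finset.card_le_two
    rw [Finset.card_univ, hK4] at h5
    omega
  have huniv : ∀ d : K, d = 0 ∨ d = 1 ∨ d = ω ∨ d = ω + 1 := by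
    have h4 : ({0, 1, ω, ω + 1} : Finset K) = Finset.univ := by
      refine Finset.eq_univ_of_card _ ?_
      have e1 : ω + 1 ≠ 0 := fun h => hω1 (by linear_combination h - h2K)
      have e2 : ω + 1 ≠ 1 := fun h => hω0 (by linear_combination h)
      have e3 : ω + 1 ≠ ω := fun h => one_ne_zero (α := K) (by linear_combination h)
      rw [hK4, Finset.card_insert_of_notMem (by simp [hω0.symm, e1.symm]),
        Finset.card_insert_of_notMem (by simp [Ne.symm hω1, e2.symm]),
        Finset.card_insert_of_notMem (by simp [e3.symm]), Finset.card_singleton]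
    intro d
    have h := Finset.mem_univ d
    rw [← h4] at h
    simpa using h
  have hsq : ω * ω = ω + 1 := by
    rcases huniv (ω * ω) with h | h | h | h
    · exact absurd (mul_self_eq_zero.mp h) hω0
    · refine absurd ?_ hω1
      have : (ω - 1) * (ω - 1) = 0 := by linear_combination h + (1 - ω) * h2K
      exact sub_eq_zero.mp (mul_self_eq_zero.mp this)
    · exact absurd (mul_left_cancel₀ hω0 (by rw [h, mul_one])) hω1
    · exact h
  obtain ⟨κ, hκ, hκ0⟩ : ∃ κ ∈ LinearMap.ker τ, κ ≠ 0 := by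
    refine (LinearMap.ker τ).ne_bot_iff.1 fun h => ?_
    have h1 := LinearMap.finrank_range_add_finrank_ker τ
    have h3 := Submodule.finrank_le (LinearMap.range τ)
    rw [h, finrank_bot, Module.finrank_self] at *
    omega
  rw [LinearMap.mem_ker] at hκ
  have hsum : τ (ω * κ) + τ (ω * ω * κ) = 0 := by
    rw [← map_add, show ω * κ + ω * ω * κ = κ by linear_combination κ * hsq + ω * κ * h2K, hκ]
  have hone : τ (ω * κ) = 1 := by
    refine hF1 _ fun h => C.tau (LinearMap.ext fun y => ?_)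
    rw [h, zero_add] at hsum
    rw [LinearMap.zero_apply]
    rcases huniv (y / κ) with h' | h' | h' | h' <;>
      rw [div_eq_iff hκ0] at h' <;> rw [h']
    · rw [zero_mul, map_zero]
    · rw [one_mul, hκ]
    · exact h
    · rw [← hsq, hsum]
  have htwo : τ (ω * ω * κ) = 1 := hF1 _ fun h => by
    rw [h, add_zero, hone] at hsum; exact one_ne_zero hsum
  have hid : ∀ y : K, κ⁻¹ * y = τ (ω * y) • ω + τ (ω * ω * y) • (ω * ω) := by
    intro y
    obtain ⟨z, rfl⟩ : ∃ z, y = z * κ := ⟨y / κ, (div_mul_cancel₀ y hκ0).symm⟩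
    rw [show κ⁻¹ * (z * κ) = z by field_simp]
    rcases huniv z with h | h | h | h <;> rw [h]
    · simp
    · rw [one_mul, hone, htwo, one_smul, one_smul]
      linear_combination -hsq - ω * h2K
    · rw [← mul_assoc ω ω κ, htwo,
        show ω * ω * (ω * κ) = κ by linear_combination κ * ((ω + 1) * hsq + ω * h2K),
        hκ, one_smul, zero_smul, add_zero]
    · rw [← hsq, show ω * (ω * ω * κ) = κ by linear_combination κ * ((ω + 1) * hsq + ω * h2K),
        show ω * ω * (ω * ω * κ) = ω * κ by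
          linear_combination κ * ω * ((ω + 1) * hsq + ω * h2K),
        hκ, hone, zero_smul, zero_add, one_smul]
  -- the basic pair
  have base : ∀ u : V, Pr φ τ M (ω • u) ((ω * ω) • u) := by
    intro u
    obtain ⟨g, hg, hgx⟩ := C.inM_T u κ⁻¹
    refine ⟨g, hg, fun x => ?_⟩
    rw [hgx]
    dsimp only [tE]
    rw [hid, ← algebraMap_smul K (τ (φ x ((ω * ω) • u))) ((ω * ω) • u), map_add φ, φ.map_smul,
      LinearMap.add_apply, LinearMap.smul_apply, (φ ((ω * ω) • u)).map_smul, φ.map_smul,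
      LinearMap.smul_apply, C.alt, smul_zero, smul_zero, smul_zero, add_zero, algebraMap_smul,
      (φ x).map_smul, (φ x).map_smul, smul_eq_mul, smul_eq_mul, add_smul, smul_assoc, smul_assoc]
    abel
  have hω3 : ω * ω * ω = 1 := by linear_combination (ω + 1) * hsq + ω * h2K
  have hω : Pr φ τ M v (ω • v) := by
    have h := base ((ω * ω) • v)
    rwa [smul_smul, smul_smul, show ω * (ω * ω) = 1 by rw [mul_comm]; exact hω3, one_smul,
      show ω * ω * (ω * ω) = ω by linear_combination ω * hω3] at h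
  rcases huniv c with rfl | rfl | rfl | rfl
  · exact absurd rfl hc
  · rw [one_smul]; exact C.pr_refl h2 v
  · exact hω
  · rw [← hsq]; exact C.pr_trans h2 hω (base v)

/-- all pairs -/
theorem pr_all (C : Ctx φ τ M) (hF : Nat.card F = 2) (hr : Module.finrank F K = 2)
    (hg : ∃ g ∈ M, ¬ KSemi K g) {u v : V} (hu : u ≠ 0) (hv : v ≠ 0) : Pr φ τ M u v := by
  classical
  haveI : Fintype F := Fintype.ofFinite F
  have h2 : (2 : F) = 0 := by
    have h := FiniteField.cast_card_eq_zero F
    rw [← Nat.card_eq_fintype_card, hF] at h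
    exact_mod_cast h
  have hcol := fun (w : V) (c : K) (hc : c ≠ 0) => C.pr_smul hF hr w (c := c) hc
  -- a pair off the lines
  obtain ⟨x, y, hxy, hP⟩ : ∃ x y : V, φ x y ≠ 0 ∧ Pr φ τ M x y := by
    obtain ⟨g, hg, hns⟩ := hg
    obtain ⟨v₀, hv₀⟩ : ∃ v₀, ¬ LineTo K g v₀ := by
      by_contra hall
      simp only [not_exists, not_not] at hall
      exact hns (kSemi_of_lineTo C.two_le hall)
    simp only [LineTo, not_forall, not_exists] at hv₀
    obtain ⟨k, hk⟩ := hv₀
    have hk0 : k ≠ 0 := by rintro rfl; exact hk 0 (by simp)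
    have hP := C.pr_conj (hcol v₀ k hk0) hg
    by_cases h : φ (g v₀) (g (k • v₀)) = 0
    swap
    · exact ⟨_, _, h, hP⟩
    have hnot : g (k • v₀) ∉ Submodule.span K {g v₀} := fun h' => by
      obtain ⟨c, hc⟩ := Submodule.mem_span_singleton.mp h'
      exact hk c hc.symm
    obtain ⟨ψ, hψ1, hψ⟩ := exists_dual_one hnot
    obtain ⟨w, hw⟩ := C.exists_dual ψ
    obtain ⟨T, hT, hTx⟩ := C.exists_T w 1
    have h1 := C.pr_conj hP hT
    simp only [LinearEquiv.restrictScalars_apply, hTx, hw,
      hψ _ (Submodule.mem_span_singleton_self (g v₀)), hψ1, mul_zero, zero_smul, add_zero, mul_one,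
      one_smul] at h1
    refine ⟨_, _, ?_, C.pr_trans h2 (C.pr_symm h2 hP) h1⟩
    rw [map_add, C.alt, zero_add, hw, hψ1]
    exact one_ne_zero
  have hx : x ≠ 0 := by rintro rfl; simp at hxy
  have hnp : ∀ x' z : V, φ x' z ≠ 0 → Pr φ τ M x' z := by
    intro x' z hz
    have hx' : x' ≠ 0 := by rintro rfl; simp at hz
    obtain ⟨h, hh, hhx⟩ := C.exists_move hx hx'
    have hP' : Pr φ τ M x' (h y) := by
      have h1 := C.pr_conj hP hh
      simpa only [LinearEquiv.restrictScalars_apply, hhx] using h1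
    set γ := φ x' (h y) with hγ
    have hγ0 : γ ≠ 0 := by rw [hγ, ← hhx, C.phi_iso h hh]; exact hxy
    set z₁ := (γ / φ x' z) • z with hz₁
    have hz₁γ : φ x' z₁ = γ := by rw [hz₁, map_smul, smul_eq_mul, div_mul_cancel₀ _ hz]
    have step : ∀ y₂, φ x' y₂ = γ → φ y₂ z₁ ≠ 0 → Pr φ τ M x' y₂ → Pr φ τ M x' z₁ := by
      intro y₂ hy₂ hne hP₂
      obtain ⟨s, hs, hsy, hfix⟩ := C.exists_step hne
      have h1 := C.pr_conj hP₂ hs
      simpa only [LinearEquiv.restrictScalars_apply, hsy, hfix x' (by rw [hz₁γ, hy₂])] using h1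
    have hfin : Pr φ τ M x' z₁ := by
      by_cases hne : φ (h y) z₁ = 0
      · obtain ⟨s, hs, hsy, hfix⟩ := C.exists_step (v := h y) (v' := h y + x') (by
          rw [map_add, C.alt, zero_add, C.swap, ← hγ, neg_ne_zero]; exact hγ0)
        have h1 := C.pr_conj hP' hs
        simp only [LinearEquiv.restrictScalars_apply, hsy,
          hfix x' (by rw [map_add, C.alt, add_zero])] at h1
        refine step _ (by rw [map_add, C.alt, add_zero]) ?_ h1
        rw [map_add, LinearMap.add_apply, hne, zero_add, hz₁γ]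
        exact hγ0
      · exact step _ rfl hne hP'
    refine C.pr_trans h2 hfin (C.pr_symm h2 ?_)
    rw [hz₁]
    exact hcol z _ (div_ne_zero hγ0 hz)
  obtain ⟨z, hz, hz'⟩ := C.exists_ne₂ hu hv
  exact C.pr_trans h2 (hnp u z hz) (C.pr_symm h2 (hnp v z hz'))

end Ctx

end CfsgLib.MaxSub.SpExt
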