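import Cfsg.Agent.Lib.MaxSub.ExtMain
import Cfsg.Agent.Lib.MaxSub.SpExtPairs
import Cfsg.Agent.Lib.MaxSub.Symp
import Cfsg.Agent.Lib.Classical.Preserving
import Cfsg.Agent.Lib.Classical.SpSimple
import Cfsg.Prelude.Def_GeometricClasses

/-!
Matrix form: the normaliser in the symplectic group of a self-adjoint subfield of the matrix
algebra is maximal.
-/

set_option autoImplicit false
set_option linter.unusedSectionVars false
set_option linter.style.haveILetI false

namespace CfsgLib.MaxSub.SpExt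

open Matrix
open scoped MatrixGroups
open CfsgLib.Classical (glLin glLin_apply)

variable {F : Type*} [Field F] [Fintype F] {m r : ℕ}

/-- A subgroup containing the products of any two transvections contains `Sp_2m(2)`, `m ≥ 3`. -/
theorem spGL_le_of_pairs (hm : 3 ≤ m) (hF : ∀ c : F, c ≠ 0 → c = 1)
    {M : Subgroup (GL (Fin m ⊕ Fin m) F)}
    (h : ∀ u v : Fin m ⊕ Fin m → F, u ≠ 0 → v ≠ 0 →
      tvGL u ((1 : F) • (Matrix.J (Fin m) F *ᵥ u)) (spDual_smul_dot 1 u) *
        tvGL v ((1 : F) • (Matrix.J (Fin m) F *ᵥ v)) (spDual_smul_dot 1 v) ∈ M) :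
    Cfsg.spGL m F ≤ M := by
  classical
  let toGL : Matrix.symplecticGroup (Fin m) F →* GL (Fin m ⊕ Fin m) F :=
    { toFun := fun A => ⟨A.1, ((A⁻¹ : Matrix.symplecticGroup (Fin m) F) : Matrix _ _ F),
        congrArg Subtype.val (mul_inv_cancel A), congrArg Subtype.val (inv_mul_cancel A)⟩
      map_one' := Units.ext rfl
      map_mul' := fun A B => Units.ext rfl }
  let T : Set (Matrix.symplecticGroup (Fin m) F) :=
    {A | ∃ w : Fin m ⊕ Fin m → F, w ≠ 0 ∧
      (A : Matrix (Fin m ⊕ Fin m) (Fin m ⊕ Fin m) F) = Cfsg.sympTransvection m w 1}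
  have hT : Subgroup.closure T = ⊤ := by
    rw [eq_top_iff, ← CfsgLib.Geom.closure_sympTransvection, Subgroup.closure_le]
    rintro A ⟨w, c, hA⟩
    by_cases h0 : w = 0 ∨ c = 0
    · have : A = 1 := Subtype.ext (by
        show A.1 = 1
        rcases h0 with rfl | rfl <;> simp [hA, Cfsg.sympTransvection, zero_vecMulVec])
      rw [this]; exact one_mem _
    · simp only [not_or] at h0
      exact Subgroup.subset_closure ⟨w, h0.1, by rw [hA, hF c h0.2]⟩
  have hmap : ∀ A ∈ T, ∃ w : Fin m ⊕ Fin m → F, w ≠ 0 ∧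
      toGL A = tvGL w ((1 : F) • (Matrix.J (Fin m) F *ᵥ w)) (spDual_smul_dot 1 w) := by
    rintro A ⟨w, hw, hA⟩
    refine ⟨w, hw, Units.ext ?_⟩
    show A.1 = tvMat _ _
    rw [hA, Cfsg.sympTransvection, tvMat, vecMulVec_smul]
  set N := M.comap toGL with hN
  have hTT : ∀ A ∈ T, ∀ B ∈ T, A * B ∈ N := by
    intro A hA B hB
    obtain ⟨u, hu, hAu⟩ := hmap A hA
    obtain ⟨v, hv, hBv⟩ := hmap B hB
    rw [hN, Subgroup.mem_comap, map_mul, hAu, hBv]
    exact h u v hu hv
  have hsq : ∀ A ∈ T, A * A = 1 := by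
    rintro A ⟨w, hw, hA⟩
    refine Subtype.ext (Matrix.ext_of_mulVec_single fun i => ?_)
    show (A.1 * A.1) *ᵥ _ = (1 : Matrix _ _ F) *ᵥ _
    have h2 : (1 : F) + 1 = 0 := by
      by_contra h2
      exact one_ne_zero (left_eq_add.mp (hF _ h2).symm)
    rw [← mulVec_mulVec, hA, CfsgLib.Geom.sympTransvection_mulVec,
      CfsgLib.Geom.sympTransvection_mulVec, one_mulVec, map_add, map_smul, LinearMap.add_apply,
      LinearMap.smul_apply, CfsgLib.Geom.sympBilin_self, smul_zero, add_zero, add_assoc, ← add_smul,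
      ← add_mul, h2, zero_mul, zero_smul, add_zero]
  let N' : Subgroup (Matrix.symplecticGroup (Fin m) F) :=
    Subgroup.closure {x | ∃ A ∈ T, ∃ B ∈ T, x = A * B}
  have hN'N : N' ≤ N := by
    rw [Subgroup.closure_le]
    rintro x ⟨A, hA, B, hB, rfl⟩
    exact hTT A hA B hB
  have hconj : ∀ t ∈ T, ∀ x ∈ N', t * x * t⁻¹ ∈ N' := by
    intro t ht x hx
    induction hx using Subgroup.closure_induction with
    | mem x hx =>
      obtain ⟨A, hA, B, hB, rfl⟩ := hx
      rw [show t⁻¹ = t from inv_eq_of_mul_eq_one_right (hsq t ht), ← mul_assoc t A B,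
        mul_assoc (t * A) B t]
      exact mul_mem (Subgroup.subset_closure ⟨t, ht, A, hA, rfl⟩)
        (Subgroup.subset_closure ⟨B, hB, t, ht, rfl⟩)
    | one => simp
    | mul a b _ _ ha hb =>
      rw [show t * (a * b) * t⁻¹ = t * a * t⁻¹ * (t * b * t⁻¹) by group]
      exact mul_mem ha hb
    | inv a _ ha =>
      rw [show t * a⁻¹ * t⁻¹ = (t * a * t⁻¹)⁻¹ by group]
      exact inv_mem ha
  have hnorm : Subgroup.normalizer (N' : Set (Matrix.symplecticGroup (Fin m) F)) = ⊤ := by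
    rw [eq_top_iff, ← hT, Subgroup.closure_le]
    intro t ht
    rw [SetLike.mem_coe, Subgroup.mem_normalizer_iff]
    refine fun x => ⟨hconj t ht x, fun hx => ?_⟩
    have := hconj t ht _ hx
    rwa [show t⁻¹ = t from inv_eq_of_mul_eq_one_right (hsq t ht),
      show t * (t * x * t) * t = (t * t) * x * (t * t) by group, hsq t ht, one_mul, mul_one] at this
  haveI hnormal : N'.Normal := Subgroup.normalizer_eq_top_iff.mp hnorm
  have hcomm : commutator (Matrix.symplecticGroup (Fin m) F) ≤ N' := by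
    have hne : (Pi.single (Sum.inl ⟨0, by omega⟩) (1 : F) : Fin m ⊕ Fin m → F) ≠ 0 := by simp
    obtain ⟨t₀, ht₀⟩ : ∃ t₀, t₀ ∈ T :=
      ⟨⟨_, CfsgLib.Geom.sympTransvection_mem
        (Pi.single (Sum.inl ⟨0, by omega⟩) (1 : F)) 1⟩, _, hne, rfl⟩
    have hle : ∀ x, ∃ j : ℤ, QuotientGroup.mk' N' t₀ ^ j = QuotientGroup.mk' N' x := by
      intro x
      have : (⊤ : Subgroup (Matrix.symplecticGroup (Fin m) F)) ≤
          (Subgroup.zpowers (QuotientGroup.mk' N' t₀)).comap (QuotientGroup.mk' N') := by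
        rw [← hT, Subgroup.closure_le]
        intro A hA
        rw [SetLike.mem_coe, Subgroup.mem_comap]
        refine ⟨1, ?_⟩
        show QuotientGroup.mk' N' t₀ ^ (1 : ℤ) = _
        rw [_root_.zpow_one, QuotientGroup.mk'_apply, QuotientGroup.mk'_apply, QuotientGroup.eq,
          show t₀⁻¹ = t₀ from inv_eq_of_mul_eq_one_right (hsq t₀ ht₀)]
        exact Subgroup.subset_closure ⟨t₀, ht₀, A, hA, rfl⟩
      exact this (Subgroup.mem_top x)
    rw [commutator_def, Subgroup.commutator_le]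
    intro a _ b _
    rw [← QuotientGroup.eq_one_iff, ← QuotientGroup.mk'_apply, map_commutatorElement,
      commutatorElement_eq_one_iff_mul_comm]
    obtain ⟨i, hi⟩ := hle a
    obtain ⟨j, hj⟩ := hle b
    rw [← hi, ← hj, ← _root_.zpow_add, ← _root_.zpow_add, add_comm]
  rw [CfsgLib.Classical.commutator_symplecticGroup m (Or.inl hm)] at hcomm
  intro g hg
  have hA : (g : Matrix _ _ F) ∈ Matrix.symplecticGroup (Fin m) F :=
    (CfsgLib.Geom.mem_symplecticGroup_iff_form _).2 fun u v => hg u v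
  have := hN'N (hcomm (Subgroup.mem_top (⟨_, hA⟩ : Matrix.symplecticGroup (Fin m) F)))
  rw [hN, Subgroup.mem_comap] at this
  convert this using 1
  exact Units.ext rfl

/-- the facts, with the field acting on the vectors -/
theorem extension_maximal_aux {L : Type*} [Field L] [Algebra F L] [Finite L]
    [Module L (Fin m ⊕ Fin m → F)] [IsScalarTower F L (Fin m ⊕ Fin m → F)] (hr : r.Prime)
    (hm0 : 0 < m) (hm : 3 ≤ m ∨ ∃ l : F, l ≠ 0 ∧ l ≠ 1)
    (K : Subalgebra F (Matrix (Fin m ⊕ Fin m) (Fin m ⊕ Fin m) F))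
    (ι : L → Matrix (Fin m ⊕ Fin m) (Fin m ⊕ Fin m) F)
    (hι : ∀ k, ι k ∈ K) (hιinj : Function.Injective ι) (hιsurj : ∀ a ∈ K, ∃ k, ι k = a)
    (hsmul : ∀ (k : L) (x : Fin m ⊕ Fin m → F), k • x = ι k *ᵥ x)
    (hfr : Module.finrank F L = r)
    (hsa : Cfsg.Geo.IsSelfAdjointFor (Cfsg.sympForm m F) K)
    (halt : ∀ k ∈ K, ∀ v, Cfsg.sympForm m F (k *ᵥ v) v = 0) :
    Cfsg.Geo.IsMaximalIn (Cfsg.spGL m F)
      (Cfsg.Geo.subalgebraNormalizer K ⊓ Cfsg.spGL m F) := by
  classical
  haveI : Module.Finite F L := Module.Finite.of_finite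
  haveI : Module.Finite L (Fin m ⊕ Fin m → F) := Module.Finite.of_finite
  -- semilinear maps are the normaliser
  have hiff : ∀ g : GL (Fin m ⊕ Fin m) F,
      g ∈ Cfsg.Geo.subalgebraNormalizer K ↔ KSemi L (glLin g) := by
    intro g
    constructor
    · intro hg k
      obtain ⟨k', hk'⟩ := hιsurj _ ((hg (ι k)).mp (hι k))
      refine ⟨k', fun x => ?_⟩
      rw [glLin_apply, glLin_apply, hsmul, hsmul, mulVec_mulVec, mulVec_mulVec]
      rw [hk', mul_assoc _ _ (g : Matrix (Fin m ⊕ Fin m) (Fin m ⊕ Fin m) F), ← Units.val_mul,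
        inv_mul_cancel, Units.val_one, mul_one]
    · intro hg
      have hmem : ∀ k : L, (g : Matrix (Fin m ⊕ Fin m) (Fin m ⊕ Fin m) F) * ι k *
          ((g⁻¹ : GL (Fin m ⊕ Fin m) F) : Matrix (Fin m ⊕ Fin m) (Fin m ⊕ Fin m) F) ∈ K := by
        intro k
        obtain ⟨k', hk'⟩ := hg k
        have : (g : Matrix (Fin m ⊕ Fin m) (Fin m ⊕ Fin m) F) * ι k = ι k' * g := by
          refine Matrix.ext_of_mulVec_single fun i => ?_
          have := hk' (Pi.single i 1)
          rw [glLin_apply, glLin_apply, hsmul, hsmul, mulVec_mulVec, mulVec_mulVec] at this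
          exact this
        rw [this, mul_assoc, ← Units.val_mul, mul_inv_cancel, Units.val_one, mul_one]
        exact hι k'
      choose f hf using fun k => hιsurj _ (hmem k)
      have hinj : Function.Injective f := by
        intro a b hab
        have := congrArg ι hab
        rw [hf, hf] at this
        apply hιinj
        have := congrArg (fun z => ((g⁻¹ : GL (Fin m ⊕ Fin m) F) : Matrix _ _ F) *
          z * (g : Matrix (Fin m ⊕ Fin m) (Fin m ⊕ Fin m) F)) this
        simpa [mul_assoc] using this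
      intro k
      refine ⟨fun hk => ?_, fun hk => ?_⟩
      · obtain ⟨k₀, rfl⟩ := hιsurj k hk
        exact hmem k₀
      · obtain ⟨k₁, hk₁⟩ := hιsurj _ hk
        obtain ⟨k₀, rfl⟩ := Finite.surjective_of_injective hinj k₁
        rw [hf] at hk₁
        have := congrArg (fun z => ((g⁻¹ : GL (Fin m ⊕ Fin m) F) : Matrix _ _ F) *
          z * (g : Matrix (Fin m ⊕ Fin m) (Fin m ⊕ Fin m) F)) hk₁
        simp [mul_assoc] at this
        exact this ▸ hι k₀
  -- the form over the field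
  obtain ⟨τ, hτ1, -⟩ := exists_dual_one (K := F) (V := L) (p := ⊥) (x := (1 : L)) (by simp)
  have hτ : τ ≠ 0 := fun e => by simp [e] at hτ1
  have hinjτ : ∀ a b : L, (∀ s, τ (s * a) = τ (s * b)) → a = b := by
    intro a b h
    by_contra hne
    refine hτ (LinearMap.ext fun x => ?_)
    have := h (x * (a - b)⁻¹)
    rw [← sub_eq_zero, ← map_sub, ← mul_sub, inv_mul_cancel_right₀ (sub_ne_zero.2 hne)] at this
    exact this
  have hsa' : ∀ (k : L) u v,
      Cfsg.sympForm m F (k • u) v = Cfsg.sympForm m F u (k • v) := fun k u v => by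
    rw [hsmul, hsmul]; exact hsa _ (hι k) u v
  choose ψ hψ using fun v : Fin m ⊕ Fin m → F =>
    exists_lift_functional (K := L) hτ ((CfsgLib.Geom.sympBilin m F).flip v)
  have hψ' : ∀ v (s : L) x, τ (s * ψ v x) = Cfsg.sympForm m F (s • x) v := fun v s x => by
    rw [hψ, LinearMap.flip_apply, CfsgLib.Geom.sympBilin_apply]
  let φ : (Fin m ⊕ Fin m → F) →ₗ[L] (Fin m ⊕ Fin m → F) →ₗ[L] L :=
    LinearMap.mk₂ L (fun x v => ψ v x) (fun x y v => map_add _ x y) (fun k x v => map_smul _ k x)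
      (fun x v w => hinjτ _ _ fun s => by
        rw [hψ', mul_add, map_add, hψ', hψ', sympForm_add_right])
      (fun k x v => hinjτ _ _ fun s => by
        rw [hψ', smul_eq_mul, ← mul_assoc, hψ', ← hsa', smul_smul, mul_comm])
  have hφ : ∀ x v, τ (φ x v) = Cfsg.sympForm m F x v := fun x v => by
    have := hψ' v 1 x
    rwa [one_mul, one_smul] at this
  have halt' : ∀ v, φ v v = 0 := fun v => hinjτ _ _ fun s => by
    rw [show φ v v = ψ v v from rfl, hψ', mul_zero, map_zero, hsmul]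
    exact halt _ (hι s) v
  have hnd : ∀ v, (∀ w, φ v w = 0) → v = 0 := fun v h =>
    CfsgLib.Geom.sympBilin_sep v fun y => by
      rw [CfsgLib.Geom.sympBilin_apply, ← hφ, h, map_zero]
  have hd : 1 < Module.finrank L (Fin m ⊕ Fin m → F) := by
    by_contra hle
    obtain ⟨v, hv⟩ := finrank_le_one_iff.mp (not_lt.mp hle)
    have hz : ∀ x : Fin m ⊕ Fin m → F, x = 0 := fun x => hnd x fun w => by
      obtain ⟨a, rfl⟩ := hv x
      obtain ⟨b, rfl⟩ := hv w
      rw [map_smul, map_smul, LinearMap.smul_apply, halt', smul_zero, smul_zero]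
    have := congrFun (hz (Pi.single (Sum.inl ⟨0, by omega⟩) 1)) (Sum.inl ⟨0, by omega⟩)
    simp at this
  refine ⟨lt_of_le_of_ne inf_le_right fun heq => ?_, fun M hHM hMS => ?_⟩
  · -- strictness
    obtain ⟨k, hk⟩ : ∃ k : L, k ∉ (⊥ : Subalgebra F L) := by
      by_contra hall
      simp only [not_exists, not_not] at hall
      have : (⊥ : Subalgebra F L) = ⊤ := eq_top_iff.mpr fun x _ => hall x
      rw [Subalgebra.bot_eq_top_iff_finrank_eq_one, hfr] at this
      exact hr.one_lt.ne' this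
    set v₀ : Fin m ⊕ Fin m → F := Pi.single (Sum.inl ⟨0, by omega⟩) 1 with hv₀
    have hv0 : v₀ ≠ 0 := by simp [hv₀]
    have hmem := spTv_mem_spGL v₀ (1 : F)
    rw [← heq] at hmem
    obtain ⟨k', hk'⟩ := (hiff _).mp hmem.1 k
    simp only [glLin_apply, coe_tvGL, spTv_mulVec, one_mul] at hk'
    have h1 := hk' v₀
    rw [sympForm_self, zero_smul, add_zero, hsmul k v₀, halt _ (hι k), zero_smul, add_zero,
      ← hsmul] at h1
    have hkk : k = k' := smul_left_injective L hv0 h1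
    subst hkk
    obtain ⟨x, hx⟩ : ∃ x, Cfsg.sympForm m F x v₀ ≠ 0 := by
      by_contra hall
      simp only [not_exists, not_not] at hall
      exact hv0 (CfsgLib.Geom.sympBilin_sep v₀ fun y => by
        rw [CfsgLib.Geom.sympBilin_apply, sympForm_swap, hall, neg_zero])
    have h2 := hk' x
    rw [smul_add, add_right_inj, smul_comm k (Cfsg.sympForm m F x v₀)] at h2
    refine hk ?_
    rw [Algebra.mem_bot]
    refine ⟨Cfsg.sympForm m F (k • x) v₀ / Cfsg.sympForm m F x v₀,
      smul_left_injective L hv0 ?_⟩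
    show algebraMap F L _ • v₀ = k • v₀
    rw [algebraMap_smul, div_eq_inv_mul, ← smul_smul, h2, inv_smul_smul₀ hx]
  · -- maximality
    by_cases hMN : M ≤ Cfsg.Geo.subalgebraNormalizer K
    · exact Or.inl (le_antisymm (le_inf hMN hMS) hHM)
    refine Or.inr (le_antisymm hMS ?_)
    obtain ⟨g, hgM, hgN⟩ := SetLike.not_le_iff_exists.mp hMN
    set M' := M.map (glLin (ι := Fin m ⊕ Fin m) (F := F)).toMonoidHom with hM'
    have C : Ctx φ τ M' := by
      refine ⟨halt', hnd, hτ, ?_, fun h hh => ?_, by rw [hfr]; exact hr, hd⟩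
      · rintro g' ⟨g₀, hg₀, rfl⟩ u v
        rw [hφ, hφ]
        exact hMS hg₀ u v
      · refine ⟨glLin.symm (h.restrictScalars F), hHM ⟨?_, ?_⟩, glLin.apply_symm_apply _⟩
        · show glLin.symm (h.restrictScalars F) ∈ Cfsg.Geo.subalgebraNormalizer K
          rw [hiff, MulEquiv.apply_symm_apply]
          exact fun k => ⟨k, fun x => h.map_smul k x⟩
        · intro u v
          show Cfsg.sympForm m F
            (((glLin.symm (h.restrictScalars F) : GL (Fin m ⊕ Fin m) F) : Matrix _ _ F) *ᵥ u)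
            (((glLin.symm (h.restrictScalars F) : GL (Fin m ⊕ Fin m) F) : Matrix _ _ F) *ᵥ v) = _
          rw [← glLin_apply, ← glLin_apply, MulEquiv.apply_symm_apply, ← hφ, ← hφ,
            LinearEquiv.restrictScalars_apply, LinearEquiv.restrictScalars_apply, hh]
    have hex : ∃ g' ∈ M', ¬ KSemi L g' :=
      ⟨glLin g, ⟨g, hgM, rfl⟩, fun h => hgN ((hiff g).mpr h)⟩
    by_cases hsmall : Module.finrank F L = 2 → ∃ l : F, l ≠ 0 ∧ l ≠ 1
    · refine spGL_le_of_hasSpTv fun v c _ => ?_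
      obtain ⟨g', ⟨g₀, hg₀, rfl⟩, hgx⟩ := C.hasT_all hsmall hex v c
      rw [hasSpTv_iff]
      convert (SetLike.mem_coe.mp hg₀) using 1
      refine Units.ext (Matrix.ext_of_mulVec_single fun i => ?_)
      rw [coe_tvGL, spTv_mulVec, ← glLin_apply]
      exact (by simpa [hφ] using (hgx (Pi.single i 1)).symm)
    · simp only [Classical.not_imp, not_exists, not_and, not_not] at hsmall
      obtain ⟨hr2, hF⟩ := hsmall
      have hF2 : Nat.card F = 2 := by
        rw [Nat.card_eq_two_iff]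
        refine ⟨0, 1, zero_ne_one, Set.eq_univ_of_forall fun x => ?_⟩
        rcases eq_or_ne x 0 with h | h
        · exact Or.inl h
        · exact Or.inr (hF x h)
      refine spGL_le_of_pairs (hm.resolve_right fun ⟨l, h0, h1⟩ => h1 (hF l h0)) hF
        fun u v hu hv => ?_
      obtain ⟨g', ⟨g₀, hg₀, rfl⟩, hgx⟩ := C.pr_all hF2 hr2 hex hu hv
      convert (SetLike.mem_coe.mp hg₀) using 1
      refine Units.ext (Matrix.ext_of_mulVec_single fun i => ?_)
      rw [Units.val_mul, ← mulVec_mulVec, coe_tvGL, coe_tvGL, spTv_mulVec, spTv_mulVec, one_mul,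
        one_mul, ← glLin_apply]
      refine Eq.trans ?_ (hgx (Pi.single i 1)).symm
      simp only [tE, hφ]

/-- the field structure on a field subalgebra lives on this copy -/
def MatFieldSp (K : Subalgebra F (Matrix (Fin m ⊕ Fin m) (Fin m ⊕ Fin m) F)) : Type _ := ↥K

/-- the normaliser of a self-adjoint subfield of prime degree is maximal in the symplectic group -/
theorem extension_maximal' (hm0 : 0 < m) (hm : 3 ≤ m ∨ ∃ l : F, l ≠ 0 ∧ l ≠ 1) (hr : r.Prime)
    (K : Subalgebra F (Matrix (Fin m ⊕ Fin m) (Fin m ⊕ Fin m) F))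
    (hK : Cfsg.Geo.IsFieldSubalgebra r K)
    (hsa : Cfsg.Geo.IsSelfAdjointFor (Cfsg.sympForm m F) K)
    (halt : ∀ k ∈ K, ∀ v, Cfsg.sympForm m F (k *ᵥ v) v = 0) :
    Cfsg.Geo.IsMaximalIn (Cfsg.spGL m F)
      (Cfsg.Geo.subalgebraNormalizer K ⊓ Cfsg.spGL m F) := by
  haveI : Nonempty (Fin m ⊕ Fin m) := ⟨Sum.inl ⟨0, by omega⟩⟩
  have hF : IsField K :=
    { exists_pair_ne := ⟨0, 1, zero_ne_one⟩
      mul_comm := fun x y => Subtype.ext (hK.comm x x.2 y y.2)
      mul_inv_cancel := fun {a} ha => by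
        obtain ⟨y, hy, hxy⟩ := hK.inv a a.2 fun e => ha (Subtype.ext e)
        exact ⟨⟨y, hy⟩, Subtype.ext hxy⟩ }
  letI : Field (MatFieldSp K) := hF.toField
  letI : Algebra F (MatFieldSp K) := (inferInstance : Algebra F ↥K)
  letI : Module (MatFieldSp K) (Fin m ⊕ Fin m → F) := Module.compHom (Fin m ⊕ Fin m → F)
    (((Matrix.toLinAlgEquiv' : Matrix (Fin m ⊕ Fin m) (Fin m ⊕ Fin m) F ≃ₐ[F]
        _).toRingEquiv.toRingHom.comp
      K.val.toRingHom : ↥K →+* Module.End F (Fin m ⊕ Fin m → F)) :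
      MatFieldSp K →+* Module.End F (Fin m ⊕ Fin m → F))
  have : Finite (MatFieldSp K) := (inferInstance : Finite ↥K)
  have : IsScalarTower F (MatFieldSp K) (Fin m ⊕ Fin m → F) := ⟨fun c k x => by
    show (c • (k : ↥K) : ↥K).1 *ᵥ x = c • ((k : ↥K).1 *ᵥ x)
    exact Matrix.smul_mulVec c (k : ↥K).1 x⟩
  exact extension_maximal_aux (L := MatFieldSp K) hr hm0 hm K (fun k => (k : ↥K).1)
    (fun k => (k : ↥K).2) (fun a b h => Subtype.ext h) (fun a ha => ⟨(⟨a, ha⟩ : ↥K), rfl⟩)
    (fun k x => rfl) hK.finrank_eq hsa halt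

/-- the normaliser of a self-adjoint subfield of prime degree is maximal in the symplectic group -/
theorem extension_maximal (hm : 3 ≤ m) (hr : r.Prime)
    (K : Subalgebra F (Matrix (Fin m ⊕ Fin m) (Fin m ⊕ Fin m) F))
    (hK : Cfsg.Geo.IsFieldSubalgebra r K)
    (hsa : Cfsg.Geo.IsSelfAdjointFor (Cfsg.sympForm m F) K)
    (halt : ∀ k ∈ K, ∀ v, Cfsg.sympForm m F (k *ᵥ v) v = 0) :
    Cfsg.Geo.IsMaximalIn (Cfsg.spGL m F)
      (Cfsg.Geo.subalgebraNormalizer K ⊓ Cfsg.spGL m F) :=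
  extension_maximal' (by omega) (Or.inl hm) hr K hK hsa halt

end CfsgLib.MaxSub.SpExt
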