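import Cfsg.Agent.Lib.MaxSub.SpFiveModel

/-!
The image of `Sp_4` in the five-dimensional orthogonal group, and transfer of maximality.
-/

set_option autoImplicit false
set_option linter.unusedSectionVars false

namespace CfsgLib.MaxSub.SpFive

open scoped MatrixGroups
open Matrix CfsgLib.Classical CfsgLib.Geom CfsgLib.AschSp
open QuadraticMap (polar)

variable {F : Type*} [Field F] [Fintype F]

local notation "ιS" => (Fin 2 ⊕ Fin 2)
local notation "MS" => Matrix (Fin 2 ⊕ Fin 2) (Fin 2 ⊕ Fin 2) F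

/-- the symplectic group as a subgroup of the general linear group -/
noncomputable def spGLEquiv : Matrix.symplecticGroup (Fin 2) F ≃* Cfsg.spGL 2 F where
  toFun A := ⟨⟨A.1, ((A⁻¹ : Matrix.symplecticGroup (Fin 2) F) : MS),
      congrArg Subtype.val (mul_inv_cancel A), congrArg Subtype.val (inv_mul_cancel A)⟩,
    fun u v => (mem_symplecticGroup_iff_form _).1 A.2 u v⟩
  invFun g := ⟨((g : GL ιS F) : MS), (mem_symplecticGroup_iff_form _).2 fun u v => g.2 u v⟩
  left_inv A := Subtype.ext rfl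
  right_inv g := Subtype.ext (Units.ext rfl)
  map_mul' A B := Subtype.ext (Units.ext rfl)

theorem phi_ker (h2 : (2 : F) ≠ 0) {g : Cfsg.spGL 2 F} (hg : phi h2 g = 1) :
    ∃ r : F, r * r = 1 ∧ ((g : GL ιS F) : MS) = r • (1 : MS) := by
  have hc : ∀ v, ((g : GL ιS F) : MS) * mat v = mat v * ((g : GL ιS F) : MS) := fun v => by
    have h := mat_phi h2 g v
    rw [hg] at h
    conv_rhs => rw [show mat v = mat ((1 : quadIsoms (qfOdd 2 F)).1 v) from rfl, h]
    rw [mul_assoc, ← Units.val_mul, inv_mul_cancel, Units.val_one, mul_one]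
  have h := scalar_of_commute h2 _ hc
  refine ⟨_, ?_, h⟩
  rw [← pow_two]
  exact SymFour.Symp.scalar_sq g.2 h

theorem phi_range (h2 : (2 : F) ≠ 0) :
    (phi (F := F) h2).range = commutator (quadIsoms (qfOdd 2 F)) := by
  have hodd : Odd (Fintype.card F) :=
    Nat.odd_iff.2 (FiniteField.odd_card_of_char_ne_two fun h =>
      h2 (by haveI := ringChar.of_eq h; exact CharTwo.two_eq_zero))
  have hperf : commutator (Cfsg.spGL 2 F) = ⊤ := by
    have h := commutator_symplecticGroup (F := F) 2 (Or.inr (Or.inl ⟨rfl, by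
      have := Fintype.one_lt_card (α := F)
      rw [Nat.odd_iff] at hodd
      omega⟩))
    rw [commutator_def, ← Subgroup.map_top_of_surjective (spGLEquiv (F := F)).toMonoidHom
      (spGLEquiv (F := F)).surjective, ← Subgroup.map_commutator, ← commutator_def, h]
  have hle := commutator_eq_range_le (phi (F := F) h2) hperf
  haveI : Finite ((Unit ⊕ (Fin 2 ⊕ Fin 2) → F) ≃ₗ[F] (Unit ⊕ (Fin 2 ⊕ Fin 2) → F)) :=
    Finite.of_injective (fun e => (e : _ → _)) DFunLike.coe_injective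
  haveI : Finite (quadIsoms (qfOdd 2 F)) := Subtype.finite
  obtain ⟨hk, -⟩ := card_le_of_scalar (phi (F := F) h2).ker (fun g => ((g : GL ιS F) : MS))
    (fun g h e => Subtype.ext (Units.ext e)) fun g hg => phi_ker h2 (MonoidHom.mem_ker.1 hg)
  refine Subgroup.eq_of_le_of_card_ge hle ?_
  have hsp : Nat.card (Cfsg.spGL 2 F) =
      Fintype.card F ^ 4 * ((Fintype.card F ^ 2 - 1) * (Fintype.card F ^ 4 - 1)) := by
    rw [← Nat.card_congr (spGLEquiv (F := F)).toEquiv, Cfsg.Agent.S0245.result rfl 2,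
      Finset.prod_range_succ, Finset.prod_range_one]
    norm_num
  have hH : Nat.card (Cfsg.spGL 2 F) = Nat.card (phi (F := F) h2).range * Nat.card (phi (F := F) h2).ker := by
    rw [Subgroup.card_eq_card_quotient_mul_card_subgroup (phi (F := F) h2).ker,
      Nat.card_congr (QuotientGroup.quotientKerEquivRange (phi (F := F) h2)).toEquiv]
  have hidx := commutator_quadIsoms_index (qfOdd 2 F)
  rw [omega_index_odd _ (qfOdd_sep h2 2) h2 (by simp)] at hidx
  have hi := Subgroup.card_mul_index (commutator (quadIsoms (qfOdd 2 F)))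
  rw [hidx, card_qfOdd_isoms h2, Finset.prod_range_succ, Finset.prod_range_one] at hi
  norm_num at hi
  have h5 : 2 * Nat.card (commutator (quadIsoms (qfOdd 2 F))) ≤
      2 * Nat.card (phi (F := F) h2).range := by
    calc _ = Nat.card (Cfsg.spGL 2 F) := by rw [hsp]; linarith
      _ = _ := hH
      _ ≤ Nat.card (phi (F := F) h2).range * 2 := Nat.mul_le_mul_left _ hk
      _ = _ := mul_comm _ _
  omega

/-- maximality in `Sp_4` from a dichotomy in the five-dimensional group -/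
theorem spGL_isMaximalIn_of (h2 : (2 : F) ≠ 0) (H : Subgroup (GL ιS F)) (P : quadIsoms (qfOdd 2 F) → Prop)
    (hiff : ∀ g : Cfsg.spGL 2 F, (g : GL ιS F) ∈ H ↔ P (phi h2 g))
    (hmove : ∃ k ∈ commutator (quadIsoms (qfOdd 2 F)), ¬ P k)
    (hdich : ∀ M : Subgroup (quadIsoms (qfOdd 2 F)),
      (∀ k ∈ commutator (quadIsoms (qfOdd 2 F)), P k → k ∈ M) →
      ∀ k ∈ M, k ∈ commutator (quadIsoms (qfOdd 2 F)) → ¬ P k → commutator (quadIsoms (qfOdd 2 F)) ≤ M) :
    Cfsg.Geo.IsMaximalIn (Cfsg.spGL 2 F) (H ⊓ Cfsg.spGL 2 F) := by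
  have hr := phi_range (F := F) h2
  refine ⟨lt_of_le_not_ge inf_le_right fun hle => ?_, fun M hHM hMK => ?_⟩
  · obtain ⟨k, hk, hkP⟩ := hmove
    obtain ⟨g, rfl⟩ := hr.ge hk
    exact hkP ((hiff g).1 (hle g.2).1)
  by_cases hex : ∀ m ∈ M, m ∈ H
  · exact Or.inl (le_antisymm (fun m hm => ⟨hex m hm, hMK hm⟩) hHM)
  push Not at hex
  obtain ⟨m, hm, hmH⟩ := hex
  obtain ⟨M', hM'⟩ : ∃ M', M' = (M.subgroupOf (Cfsg.spGL 2 F)).map (phi h2) := ⟨_, rfl⟩
  have hle := hdich M'
    (fun k hk hkP => by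
      obtain ⟨g, rfl⟩ := hr.ge hk
      rw [hM']
      exact Subgroup.mem_map_of_mem _ (Subgroup.mem_subgroupOf.2 (hHM ⟨(hiff g).2 hkP, g.2⟩)))
    (phi h2 ⟨m, hMK hm⟩) (by rw [hM']; exact Subgroup.mem_map_of_mem _ (Subgroup.mem_subgroupOf.2 hm))
    (hr.le ⟨_, rfl⟩) fun h => hmH ((hiff _).2 h)
  refine Or.inr (le_antisymm hMK fun x hx => ?_)
  have hx' := hle (hr.le ⟨⟨x, hx⟩, rfl⟩)
  rw [hM'] at hx'
  obtain ⟨y, hy, hyx⟩ := hx'
  obtain ⟨d, hd⟩ : ∃ d : Cfsg.spGL 2 F, d = ⟨x, hx⟩ * y⁻¹ := ⟨_, rfl⟩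
  have hd1 : phi h2 d = 1 := by rw [hd, map_mul, map_inv, hyx, mul_inv_cancel]
  have hdP : P (phi h2 d) := by rw [hd1, ← map_one (phi (F := F) h2)]; exact (hiff 1).1 (one_mem H)
  have hdM : (d : GL ιS F) ∈ M := hHM ⟨(hiff d).2 hdP, d.2⟩
  have e : x = (d : GL ιS F) * (y : GL ιS F) := by rw [hd]; simp
  rw [e]
  exact mul_mem hdM (Subgroup.mem_subgroupOf.1 hy)

end CfsgLib.MaxSub.SpFive
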