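import Cfsg.Agent.Lib.MaxSub.SympTypeFourSymp
import Cfsg.Agent.Lib.Classical.ExcIsoFive
import Cfsg.Agent.Lib.Geom.OmegaIndex

/-!
`Sp_4` acting by conjugation on the five-dimensional space of self-adjoint matrices of trace zero.
-/

set_option autoImplicit false
set_option linter.unusedSectionVars false

namespace CfsgLib.MaxSub.SpFive

open scoped MatrixGroups
open Matrix CfsgLib.Classical CfsgLib.Geom CfsgLib.AschSp
open QuadraticMap (polar)

variable {F : Type*} [Field F]

local notation "ιS" => (Fin 2 ⊕ Fin 2)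
local notation "MS" => Matrix (Fin 2 ⊕ Fin 2) (Fin 2 ⊕ Fin 2) F
local notation "W5" => (Unit ⊕ (Fin 2 ⊕ Fin 2) → F)

/-- the matrix of a vector of the five-space -/
def mat : W5 →ₗ[F] MS where
  toFun v := fromBlocks !![v (.inl ()), v (.inr (.inl 0)); v (.inr (.inr 0)), -v (.inl ())]
    !![0, v (.inr (.inl 1)); -v (.inr (.inl 1)), 0] !![0, -v (.inr (.inr 1)); v (.inr (.inr 1)), 0]
    !![v (.inl ()), v (.inr (.inr 0)); v (.inr (.inl 0)), -v (.inl ())]
  map_add' v w := by
    rw [fromBlocks_add]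
    congr 1 <;> ext i j <;> fin_cases i <;> fin_cases j <;> simp <;> ring
  map_smul' c v := by
    rw [fromBlocks_smul]
    congr 1 <;> ext i j <;> fin_cases i <;> fin_cases j <;> simp

/-- the coordinates of a matrix -/
def coord : MS →ₗ[F] W5 where
  toFun X := Sum.elim (fun _ => X (.inl 0) (.inl 0))
    (Sum.elim ![X (.inl 0) (.inl 1), X (.inl 0) (.inr 1)] ![X (.inl 1) (.inl 0), X (.inr 1) (.inl 0)])
  map_add' X Y := by ext (u | i | i) <;> first | rfl | (fin_cases i <;> rfl)
  map_smul' c X := by ext (u | i | i) <;> first | rfl | (fin_cases i <;> rfl)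

theorem coord_mat (v : W5) : coord (mat v) = v := by
  ext (u | i | i)
  · rfl
  · fin_cases i <;> rfl
  · fin_cases i <;> rfl

theorem mat_injective : Function.Injective (mat (F := F)) := Function.LeftInverse.injective coord_mat

theorem adj_mat (v : W5) : adj (mat v) = mat v := by
  show adj (fromBlocks _ _ _ _) = fromBlocks _ _ _ _
  rw [SymFour.Symp.adj_blocks]
  congr 1 <;> ext i j <;> fin_cases i <;> fin_cases j <;> simp

theorem trace_mat (v : W5) : (mat v).trace = 0 := by
  simp [mat, Matrix.trace, Fintype.sum_sum_type, Fin.sum_univ_two]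

/-- a self-adjoint matrix of trace zero comes from the five-space -/
theorem mat_coord (h2 : (2 : F) ≠ 0) {X : MS} (hX : adj X = X) (ht : X.trace = 0) : mat (coord X) = X := by
  obtain ⟨A, B, C, D, rfl⟩ : ∃ A B C D, X = fromBlocks A B C D :=
    ⟨_, _, _, _, (fromBlocks_toBlocks X).symm⟩
  rw [SymFour.Symp.adj_blocks] at hX
  obtain ⟨hA, hB, hC, hD⟩ := fromBlocks_inj.1 hX
  have eA := fun i j => congrFun (congrFun hA i) j
  have eB := fun i j => congrFun (congrFun hB i) j
  have eC := fun i j => congrFun (congrFun hC i) j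
  simp only [transpose_apply, Matrix.neg_apply] at eA eB eC
  simp [Matrix.trace, Fintype.sum_sum_type, Fin.sum_univ_two] at ht
  have d00 := eA 0 0
  have d11 := eA 1 1
  have h11 : A 1 1 = -A 0 0 := mul_left_cancel₀ h2 (by linear_combination ht - d00 - d11)
  have hB0 : ∀ i, B i i = 0 := fun i => (mul_eq_zero.1 (show 2 * B i i = 0 by
    linear_combination -(eB i i))).resolve_left h2
  have hC0 : ∀ i, C i i = 0 := fun i => (mul_eq_zero.1 (show 2 * C i i = 0 by
    linear_combination -(eC i i))).resolve_left h2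
  have hB1 : B 1 0 = -B 0 1 := (eB 1 0).symm
  have hC1 : C 0 1 = -C 1 0 := (eC 0 1).symm
  show fromBlocks _ _ _ _ = fromBlocks A B C D
  congr 1 <;> ext i j <;> fin_cases i <;> fin_cases j <;>
    simp [coord, h11, hB0, hC0, hB1, hC1, eA, d00, d11]

theorem mat_sq (v : W5) : mat v * mat v = qfOdd 2 F v • (1 : MS) := by
  show fromBlocks _ _ _ _ * fromBlocks _ _ _ _ = _
  rw [fromBlocks_multiply, ← fromBlocks_one, fromBlocks_smul]
  congr 1 <;> ext i j <;> fin_cases i <;> fin_cases j <;>
    simp [qfOdd_apply, Cfsg.quadFormOdd, Fin.sum_univ_two] <;> ring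

theorem mat_anti (v w : W5) : mat v * mat w + mat w * mat v = polar (qfOdd 2 F) v w • (1 : MS) := by
  have h := mat_sq (v + w)
  rw [map_add, add_mul, mul_add, mul_add, mat_sq, mat_sq] at h
  rw [QuadraticMap.polar, sub_smul, sub_smul, ← h]
  abel

/-! ### The action -/

theorem adj_inv {g : GL ιS F} (hg : g ∈ Cfsg.spGL 2 F) :
    adj (g : MS) = ((g⁻¹ : GL ιS F) : MS) ∧ adj ((g⁻¹ : GL ιS F) : MS) = g := by
  refine ⟨adj_eq_inv_of_mem hg, ?_⟩
  have h := adj_eq_inv_of_mem (inv_mem hg)
  rwa [inv_inv] at h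

/-- conjugation on the five-space -/
noncomputable def act (g : GL ιS F) : W5 →ₗ[F] W5 :=
  coord ∘ₗ LinearMap.mulLeft F (g : MS) ∘ₗ LinearMap.mulRight F ((g⁻¹ : GL ιS F) : MS) ∘ₗ mat

theorem mat_act (h2 : (2 : F) ≠ 0) {g : GL ιS F} (hg : g ∈ Cfsg.spGL 2 F) (v : W5) :
    mat (act g v) = (g : MS) * mat v * ((g⁻¹ : GL ιS F) : MS) := by
  simp only [act, LinearMap.comp_apply, LinearMap.mulLeft_apply, LinearMap.mulRight_apply, ← Matrix.mul_assoc]
  refine mat_coord h2 ?_ ?_
  · rw [adj_mul, adj_mul, (adj_inv hg).2, (adj_inv hg).1, adj_mat, mul_assoc]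
  · rw [Matrix.trace_mul_comm, ← Matrix.mul_assoc, ← Units.val_mul, inv_mul_cancel, Units.val_one,
      Matrix.one_mul, trace_mat]

/-- the five-dimensional representation -/
noncomputable def phi (h2 : (2 : F) ≠ 0) : Cfsg.spGL 2 F →* quadIsoms (qfOdd 2 F) :=
  quadHom (qfOdd 2 F) (fun g => act (g : GL ιS F))
    (fun v => by simp [act, coord_mat])
    (fun g h v => mat_injective (by
      rw [mat_act h2 (g * h).2, mat_act h2 g.2, mat_act h2 h.2]
      simp [mul_assoc]))
    (fun g v => by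
      have h := mat_sq (act (g : GL ιS F) v)
      rw [mat_act h2 g.2] at h
      have e : ((g : GL ιS F) : MS) * mat v * (((g : GL ιS F)⁻¹ : GL ιS F) : MS) *
          (((g : GL ιS F) : MS) * mat v * (((g : GL ιS F)⁻¹ : GL ιS F) : MS)) = qfOdd 2 F v • (1 : MS) := by
        calc _ = ((g : GL ιS F) : MS) * (mat v * mat v) * (((g : GL ιS F)⁻¹ : GL ιS F) : MS) := by
              simp only [Matrix.mul_assoc]
              rw [← Matrix.mul_assoc (((g : GL ιS F)⁻¹ : GL ιS F) : MS), ← Units.val_mul, inv_mul_cancel,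
                Units.val_one, Matrix.one_mul]
          _ = _ := by
              rw [mat_sq, Matrix.mul_smul, Matrix.mul_one, Matrix.smul_mul, ← Units.val_mul, mul_inv_cancel,
                Units.val_one]
      rw [e] at h
      have := congrFun (congrFun h (.inl 0)) (.inl 0)
      simpa using this.symm)

theorem mat_phi (h2 : (2 : F) ≠ 0) (g : Cfsg.spGL 2 F) (v : W5) :
    mat ((phi h2 g).1 v) = ((g : GL ιS F) : MS) * mat v * (((g : GL ιS F)⁻¹ : GL ιS F) : MS) := by
  rw [phi, quadHom_apply]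
  exact mat_act h2 g.2 v

/-- matrices commuting with the five-space are scalar -/
theorem scalar_of_commute (h2 : (2 : F) ≠ 0) (X : MS) (h : ∀ v, X * mat v = mat v * X) :
    X = X (.inl 0) (.inl 0) • (1 : MS) := by
  have e : ∀ (k : Unit ⊕ (Fin 2 ⊕ Fin 2)) a b,
      ∑ j, X a j * mat (Pi.single k (1 : F)) j b = ∑ j, mat (Pi.single k (1 : F)) a j * X j b :=
    fun k a b => by rw [← Matrix.mul_apply, ← Matrix.mul_apply, h]
  have z1 := e (.inl ()) (.inl 0) (.inl 1)
  have z2 := e (.inl ()) (.inl 0) (.inr 1)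
  have z3 := e (.inl ()) (.inl 1) (.inl 0)
  have z4 := e (.inl ()) (.inl 1) (.inr 0)
  have z5 := e (.inl ()) (.inr 0) (.inl 1)
  have z6 := e (.inl ()) (.inr 0) (.inr 1)
  have z7 := e (.inl ()) (.inr 1) (.inl 0)
  have z8 := e (.inl ()) (.inr 1) (.inr 0)
  have d1 := e (.inr (.inl 0)) (.inl 0) (.inl 1)
  have d2 := e (.inr (.inl 0)) (.inr 1) (.inr 0)
  have d3 := e (.inr (.inl 1)) (.inl 0) (.inr 1)
  have w1 := e (.inr (.inl 0)) (.inr 0) (.inl 1)
  have w2 := e (.inr (.inl 0)) (.inl 1) (.inr 0)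
  have w3 := e (.inr (.inr 0)) (.inr 1) (.inl 0)
  have w4 := e (.inr (.inr 0)) (.inl 0) (.inr 1)
  simp [mat, Fintype.sum_sum_type, Fin.sum_univ_two] at z1 z2 z3 z4 z5 z6 z7 z8 d1 d2 d3 w1 w2 w3 w4
  have hz : ∀ {x : F}, 2 * x = 0 → x = 0 := fun hx => (mul_eq_zero.1 hx).resolve_left h2
  have y1 : X (.inl 0) (.inl 1) = 0 := hz (by first | linear_combination z1 | linear_combination -z1)
  have y2 : X (.inl 0) (.inr 1) = 0 := hz (by first | linear_combination z2 | linear_combination -z2)
  have y3 : X (.inl 1) (.inl 0) = 0 := hz (by first | linear_combination z3 | linear_combination -z3)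
  have y4 : X (.inl 1) (.inr 0) = 0 := hz (by first | linear_combination z4 | linear_combination -z4)
  have y5 : X (.inr 0) (.inl 1) = 0 := hz (by first | linear_combination z5 | linear_combination -z5)
  have y6 : X (.inr 0) (.inr 1) = 0 := hz (by first | linear_combination z6 | linear_combination -z6)
  have y7 : X (.inr 1) (.inl 0) = 0 := hz (by first | linear_combination z7 | linear_combination -z7)
  have y8 : X (.inr 1) (.inr 0) = 0 := hz (by first | linear_combination z8 | linear_combination -z8)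
  ext (i | i) (j | j) <;> fin_cases i <;> fin_cases j <;>
    simp [y1, y2, y3, y4, y5, y6, y7, y8, w1, w2, w3, w4, d1, ← d2, ← d3]

end CfsgLib.MaxSub.SpFive
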