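import Cfsg.Agent.Lib.MaxSub.SympFull

/-!
Pairs of complementary maximal totally isotropic subspaces of the symplectic space: the elements
`x ↦ x + f(y,x) w + f(w,x) y`, the interchanging isometry, and transvections in overgroups of the
stabiliser of the pair.
-/

set_option autoImplicit false
set_option linter.unusedSectionVars false

namespace CfsgLib.MaxSub

open Matrix
open scoped MatrixGroups

variable {m : ℕ} {F : Type*} [Field F]

local notation "𝕍" => (Fin m ⊕ Fin m → F)

/-- the functional `x ↦ f(x,v)` -/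
def spLin (v : Fin m ⊕ Fin m → F) : (Fin m ⊕ Fin m → F) →ₗ[F] F where
  toFun x := Cfsg.sympForm m F x v
  map_add' x y := sympForm_add_left _ _ _
  map_smul' c x := sympForm_smul_left _ _ _

theorem mem_ker_spLin {v x : 𝕍} : x ∈ LinearMap.ker (spLin v) ↔ Cfsg.sympForm m F x v = 0 :=
  Iff.rfl

theorem sympForm_eq_zero_swap {u v : 𝕍} (h : Cfsg.sympForm m F u v = 0) :
    Cfsg.sympForm m F v u = 0 := by rw [sympForm_swap, h, neg_zero]

theorem spSieg_mul {u y y' : 𝕍} (h : Cfsg.sympForm m F u y = 0) (h' : Cfsg.sympForm m F u y' = 0)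
    (x : 𝕍) :
    ((spSieg u y h * spSieg u y' h' : GL (Fin m ⊕ Fin m) F) :
        Matrix (Fin m ⊕ Fin m) (Fin m ⊕ Fin m) F) *ᵥ x =
      x + Cfsg.sympForm m F (y + y') x • u + Cfsg.sympForm m F u x • (y + y') +
        (Cfsg.sympForm m F u x * Cfsg.sympForm m F y y') • u := by
  rw [Units.val_mul, ← mulVec_mulVec, spSieg_mulVec, spSieg_mulVec, sympForm_add_right,
    sympForm_add_right, sympForm_add_right, sympForm_add_right, sympForm_smul_right,
    sympForm_smul_right, sympForm_smul_right, sympForm_smul_right, sympForm_self, h', sympForm_add_left,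
    sympForm_eq_zero_swap h]
  module

theorem GL_ext_mulVec {g h : GL (Fin m ⊕ Fin m) F}
    (e : ∀ x, (g : Matrix (Fin m ⊕ Fin m) (Fin m ⊕ Fin m) F) *ᵥ x =
      (h : Matrix (Fin m ⊕ Fin m) (Fin m ⊕ Fin m) F) *ᵥ x) : g = h :=
  Units.ext (Matrix.ext_of_mulVec_single fun i => e _)

theorem spGL_form {g : GL (Fin m ⊕ Fin m) F} (hg : g ∈ Cfsg.spGL m F) (u y : 𝕍) :
    Cfsg.sympForm m F ((g : Matrix (Fin m ⊕ Fin m) (Fin m ⊕ Fin m) F) *ᵥ u)
      ((g : Matrix (Fin m ⊕ Fin m) (Fin m ⊕ Fin m) F) *ᵥ y) = Cfsg.sympForm m F u y := hg u y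

theorem spSieg_comm (u y : 𝕍) (h : Cfsg.sympForm m F u y = 0) :
    spSieg u y h = spSieg y u (sympForm_eq_zero_swap h) :=
  GL_ext_mulVec fun x => by rw [spSieg_mulVec, spSieg_mulVec]; abel

theorem spSieg_conj {g : GL (Fin m ⊕ Fin m) F} (hg : g ∈ Cfsg.spGL m F) (u y : 𝕍)
    (h : Cfsg.sympForm m F u y = 0) :
    g * spSieg u y h * g⁻¹ =
      spSieg ((g : Matrix (Fin m ⊕ Fin m) (Fin m ⊕ Fin m) F) *ᵥ u)
        ((g : Matrix (Fin m ⊕ Fin m) (Fin m ⊕ Fin m) F) *ᵥ y) ((spGL_form hg u y).trans h) := by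
  refine GL_ext_mulVec fun x => ?_
  have e : ∀ v, Cfsg.sympForm m F v
      (((g⁻¹ : GL (Fin m ⊕ Fin m) F) : Matrix (Fin m ⊕ Fin m) (Fin m ⊕ Fin m) F) *ᵥ x) =
      Cfsg.sympForm m F ((g : Matrix (Fin m ⊕ Fin m) (Fin m ⊕ Fin m) F) *ᵥ v) x := fun v => by
    have := hg v (((g⁻¹ : GL (Fin m ⊕ Fin m) F) : Matrix (Fin m ⊕ Fin m) (Fin m ⊕ Fin m) F) *ᵥ x)
    simp only [Units.coeHom_apply, mulVec_mulVec_inv] at this
    exact this.symm
  rw [Units.val_mul, Units.val_mul, ← mulVec_mulVec, ← mulVec_mulVec, spSieg_mulVec, spSieg_mulVec,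
    mulVec_add, mulVec_add, mulVec_smul, mulVec_smul, mulVec_mulVec_inv, e, e]

/-- `A`, `B` are complementary totally isotropic subspaces of dimension `m`. -/
structure SpPolar (A B : Submodule F (Fin m ⊕ Fin m → F)) : Prop where
  isoA : ∀ u ∈ A, ∀ v ∈ A, Cfsg.sympForm m F u v = 0
  isoB : ∀ u ∈ B, ∀ v ∈ B, Cfsg.sympForm m F u v = 0
  inf_eq : A ⊓ B = ⊥
  sup_eq : A ⊔ B = ⊤
  dimA : Module.finrank F A = m
  dimB : Module.finrank F B = m

namespace SpPolar

variable {A B : Submodule F (Fin m ⊕ Fin m → F)} (P : SpPolar A B)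
include P

theorem symm : SpPolar B A :=
  ⟨P.isoB, P.isoA, by rw [inf_comm, P.inf_eq], by rw [sup_comm, P.sup_eq], P.dimB, P.dimA⟩

theorem zero_of_mem {x : 𝕍} (ha : x ∈ A) (hb : x ∈ B) : x = 0 :=
  (Submodule.eq_bot_iff _).1 P.inf_eq x ⟨ha, hb⟩

theorem decomp (x : 𝕍) : ∃ a ∈ A, ∃ b ∈ B, a + b = x :=
  Submodule.mem_sup.1 (by rw [P.sup_eq]; trivial)

theorem zero_of_orth {x : 𝕍} (hA : ∀ a ∈ A, Cfsg.sympForm m F x a = 0)
    (hB : ∀ b ∈ B, Cfsg.sympForm m F x b = 0) : x = 0 := by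
  refine CfsgLib.Geom.sympBilin_sep x fun y => ?_
  obtain ⟨a, ha, b, hb, rfl⟩ := P.decomp y
  rw [CfsgLib.Geom.sympBilin_apply, sympForm_add_right, hA a ha, hB b hb, add_zero]

theorem mem_of_orth {x : 𝕍} (hB : ∀ b ∈ B, Cfsg.sympForm m F x b = 0) : x ∈ B := by
  obtain ⟨a, ha, b, hb, rfl⟩ := P.decomp x
  have : a = 0 := P.zero_of_orth (fun a' ha' => P.isoA a ha a' ha') fun b' hb' => by
    have := hB b' hb'
    rwa [sympForm_add_left, P.isoB b hb b' hb', add_zero] at this
  rwa [this, zero_add]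

/-- a vector of `B` separating a vector of `A` from two others -/
theorem exists_sep [Finite F] {x w u : 𝕍} (hx : x ∈ A) (hw : w ∈ A) (hu : u ∈ A)
    (h : x ∉ Submodule.span F {w, u}) :
    ∃ α ∈ B, Cfsg.sympForm m F α w = 0 ∧ Cfsg.sympForm m F α u = 0 ∧
      Cfsg.sympForm m F α x ≠ 0 := by
  obtain ⟨y, hy, hxy⟩ := exists_spPerp_of_notMem (W := B ⊔ Submodule.span F {w, u}) (x := x)
    (fun hm => by
      obtain ⟨b, hb, s, hs, rfl⟩ := Submodule.mem_sup.1 hm
      have hsA : s ∈ A := Submodule.span_le.2 (by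
        rintro _ (rfl | rfl)
        · exact hw
        · exact hu) hs
      have hb0 : b = 0 := P.zero_of_mem (by simpa using sub_mem hx hsA) hb
      rw [hb0, zero_add] at h
      exact h hs)
  refine ⟨y, P.mem_of_orth fun b hb => hy b (Submodule.mem_sup_left hb), ?_, ?_, ?_⟩
  · exact hy w (Submodule.mem_sup_right (Submodule.subset_span (by simp)))
  · exact hy u (Submodule.mem_sup_right (Submodule.subset_span (by simp)))
  · rw [sympForm_swap]; exact neg_ne_zero.2 hxy

/-- an isometry interchanging `A` and `B` -/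
theorem exists_swap : ∃ h ∈ Cfsg.spGL m F,
    (∀ x ∈ A, (h : Matrix (Fin m ⊕ Fin m) (Fin m ⊕ Fin m) F) *ᵥ x ∈ B) ∧
    (∀ x ∈ B, (h : Matrix (Fin m ⊕ Fin m) (Fin m ⊕ Fin m) F) *ᵥ x ∈ A) := by
  classical
  let e := (Module.finBasis F A).reindex (finCongr P.dimA)
  let L : B →ₗ[F] (Fin m → F) :=
    { toFun := fun y i => Cfsg.sympForm m F (e i) y
      map_add' := fun y z => funext fun i => sympForm_add_right _ _ _
      map_smul' := fun c y => funext fun i => sympForm_smul_right _ _ _ }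
  have hAzero : ∀ x : 𝕍, (∀ i, Cfsg.sympForm m F (e i) x = 0) →
      ∀ a ∈ A, Cfsg.sympForm m F a x = 0 := by
    intro x hx a ha
    let f : A →ₗ[F] F := (spLin x).comp A.subtype
    have hf : f = 0 := e.ext fun i => hx i
    exact LinearMap.congr_fun hf ⟨a, ha⟩
  have hLinj : Function.Injective L := by
    rw [← LinearMap.ker_eq_bot, Submodule.eq_bot_iff]
    intro y hy
    refine Subtype.ext (P.zero_of_orth (fun a ha => ?_) fun b hb => P.isoB y y.2 b hb)
    exact sympForm_eq_zero_swap (hAzero y (fun i => congrFun (LinearMap.mem_ker.mp hy) i) a ha)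
  have hLsurj : Function.Surjective L :=
    (LinearMap.injective_iff_surjective_of_finrank_eq_finrank (by
      rw [P.dimB, Module.finrank_fin_fun])).1 hLinj
  choose f hf using fun j => hLsurj (Pi.single j 1)
  have hef : ∀ i j, Cfsg.sympForm m F (e i) (f j) = if i = j then 1 else 0 := fun i j => by
    have := congrFun (hf j) i
    rw [Pi.single_apply] at this
    exact this
  let eL : Fin m → 𝕍 := fun i => (e i : 𝕍)
  let fL : Fin m → 𝕍 := fun i => (f i : 𝕍)
  have hee : ∀ i j, Cfsg.sympForm m F (eL i) (eL j) = 0 := fun i j => P.isoA _ (e i).2 _ (e j).2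
  have hff : ∀ i j, Cfsg.sympForm m F (fL i) (fL j) = 0 := fun i j => P.isoB _ (f i).2 _ (f j).2
  have hef' : ∀ i j, Cfsg.sympForm m F (eL i) (fL j) = if i = j then 1 else 0 := hef
  have hfe : ∀ i j, Cfsg.sympForm m F (fL i) (eL j) = if j = i then -1 else 0 := fun i j => by
    rw [sympForm_swap, hef']; split <;> simp
  have hsum : ∀ (c : Fin m → F) (v : Fin m → 𝕍) (y : 𝕍),
      Cfsg.sympForm m F (∑ i, c i • v i) y = ∑ i, c i * Cfsg.sympForm m F (v i) y := fun c v y => by
    show spLin y _ = _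
    simp [spLin, map_sum, sympForm_smul_left]
  have hsum' : ∀ (c : Fin m → F) (v : Fin m → 𝕍) (y : 𝕍),
      Cfsg.sympForm m F y (∑ i, c i • v i) = ∑ i, c i * Cfsg.sympForm m F y (v i) := fun c v y => by
    rw [sympForm_swap, hsum, ← Finset.sum_neg_distrib]
    exact Finset.sum_congr rfl fun i _ => by rw [sympForm_swap y (v i)]; ring
  have hexp : ∀ z : 𝕍, z = (∑ i, Cfsg.sympForm m F z (fL i) • eL i) +
      ∑ i, Cfsg.sympForm m F (eL i) z • fL i := by
    intro z
    set d := (∑ i, Cfsg.sympForm m F z (fL i) • eL i) + ∑ i, Cfsg.sympForm m F (eL i) z • fL i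
    have hde : ∀ j, Cfsg.sympForm m F (eL j) (z - d) = 0 := fun j => by
      rw [sub_eq_add_neg, ← neg_one_smul F d, sympForm_add_right, sympForm_smul_right,
        sympForm_add_right, hsum', hsum']
      simp [hee, hef']
    have hdf : ∀ j, Cfsg.sympForm m F (z - d) (fL j) = 0 := fun j => by
      rw [sub_eq_add_neg, ← neg_one_smul F d, sympForm_add_left, sympForm_smul_left,
        sympForm_add_left, hsum, hsum]
      simp [hff, hef']
    refine sub_eq_zero.1 (P.zero_of_orth (fun a ha => sympForm_eq_zero_swap (hAzero _ hde a ha))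
      fun b hb => ?_)
    -- `f` spans `B`
    have hb' : (⟨b, hb⟩ : B) = ∑ j, L ⟨b, hb⟩ j • f j := hLinj (by
      rw [map_sum]
      simp_rw [map_smul, hf]
      exact pi_eq_sum_univ' _)
    rw [show b = ∑ j, L ⟨b, hb⟩ j • fL j by simpa [fL] using congrArg Subtype.val hb', hsum']
    exact Finset.sum_eq_zero fun j _ => by rw [hdf, mul_zero]
  let H : 𝕍 →ₗ[F] 𝕍 := (∑ i, (spLin (fL i)).smulRight (fL i)) +
    ∑ i, (spLin (eL i)).smulRight (eL i)
  have hH : ∀ x, H x = (∑ i, Cfsg.sympForm m F x (fL i) • fL i) +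
      ∑ i, Cfsg.sympForm m F x (eL i) • eL i := fun x => by simp [H, spLin]
  have hiso : ∀ x z, Cfsg.sympForm m F (H x) (H z) = Cfsg.sympForm m F x z := by
    intro x z
    rw [hH, hH]
    conv_rhs => rw [hexp z]
    simp only [sympForm_add_left, sympForm_add_right, hsum, hsum', hff, hee, hfe, hef', mul_zero,
      Finset.sum_const_zero, zero_add, add_zero, mul_ite, mul_one, Finset.sum_ite_eq,
      Finset.sum_ite_eq', Finset.mem_univ, if_true, mul_neg]
    simp only [← Finset.sum_add_distrib]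
    refine Finset.sum_congr rfl fun i _ => ?_
    rw [sympForm_swap z (eL i)]
    ring
  have hinj : Function.Injective H := by
    rw [← LinearMap.ker_eq_bot, Submodule.eq_bot_iff]
    intro x hx
    refine CfsgLib.Geom.sympBilin_sep x fun y => ?_
    rw [CfsgLib.Geom.sympBilin_apply, ← hiso, LinearMap.mem_ker.mp hx]
    exact zero_dotProduct _
  have hdet : IsUnit (LinearMap.toMatrix' H) := by
    rw [← Matrix.mulVec_injective_iff_isUnit]
    intro x y e
    exact hinj (by simpa [LinearMap.toMatrix'_mulVec] using e)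
  refine ⟨hdet.unit, fun x z => ?_, fun x hx => ?_, fun x hx => ?_⟩
  · simp only [Units.coeHom_apply, IsUnit.unit_spec, LinearMap.toMatrix'_mulVec]
    exact hiso x z
  · rw [IsUnit.unit_spec, LinearMap.toMatrix'_mulVec, hH,
      Finset.sum_eq_zero (s := Finset.univ) (f := fun i => Cfsg.sympForm m F x (eL i) • eL i)
        fun i _ => by rw [P.isoA x hx _ (e i).2, zero_smul], add_zero]
    exact Submodule.sum_mem _ fun i _ => B.smul_mem _ (f i).2
  · rw [IsUnit.unit_spec, LinearMap.toMatrix'_mulVec, hH,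
      Finset.sum_eq_zero (s := Finset.univ) (f := fun i => Cfsg.sympForm m F x (fL i) • fL i)
        fun i _ => by rw [P.isoB x hx _ (f i).2, zero_smul], zero_add]
    exact Submodule.sum_mem _ fun i _ => A.smul_mem _ (e i).2

variable {M : Subgroup (GL (Fin m ⊕ Fin m) F)}
  (hM : ∀ u ∈ A, ∀ α ∈ B, ∀ h : Cfsg.sympForm m F u α = 0, spSieg u α h ∈ M)
include hM

/-- change of the second vector of an element of the unipotent radical -/
theorem radical_move [Finite F] {x y z : 𝕍} (hx : x ∈ A) (hy : y ∈ A) (hz : z ∈ A)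
    (hS : spSieg x y (P.isoA x hx y hy) ∈ M) (hind : y ∉ Submodule.span F {x, z - y}) :
    spSieg x z (P.isoA x hx z hz) ∈ M := by
  obtain ⟨α, hα, hαx, hαd, hαy⟩ := P.exists_sep hy hx (sub_mem hz hy) hind
  set β := (Cfsg.sympForm m F α y)⁻¹ • α with hβ
  have hβy : Cfsg.sympForm m F β y = 1 := by rw [sympForm_smul_left, inv_mul_cancel₀ hαy]
  have hβB : β ∈ B := B.smul_mem _ hα
  have hβd : Cfsg.sympForm m F (z - y) β = 0 :=
    sympForm_eq_zero_swap (by rw [sympForm_smul_left, hαd, mul_zero])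
  have hT := hM _ (sub_mem hz hy) _ hβB hβd
  have h1 := mul_mem (mul_mem hT hS) (inv_mem hT)
  rw [spSieg_conj (spSieg_mem_spGL _ _ _)] at h1
  simp only [spSieg_mulVec, hβy, one_smul, add_sub_cancel] at h1
  simpa [sympForm_smul_left, hαx, hβ, P.isoA _ (sub_mem hz hy) _ hx, P.isoA _ (sub_mem hz hy) _ hy]
    using h1

/-- One element `spSieg u w` of the unipotent radical of `A` gives the transvections centred
in `A`. -/
theorem spFull_of_radical [Finite F] (h2 : (2 : F) ≠ 0) (h3 : 3 ≤ m) {u w : 𝕍} (hu : u ∈ A)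
    (hw : w ∈ A) (hind : w ∉ Submodule.span F {u}) (hu0 : u ≠ 0)
    (hS : spSieg u w (P.isoA u hu w hw) ∈ M) : ∀ x ∈ A, SpFull M x := by
  -- second vector arbitrary
  have all : ∀ a b : 𝕍, ∀ (ha : a ∈ A) (hb : b ∈ A), a ≠ 0 → b ∉ Submodule.span F {a} →
      spSieg a b (P.isoA a ha b hb) ∈ M → ∀ c, ∀ hc : c ∈ A, c ∉ Submodule.span F {a} →
        spSieg a c (P.isoA a ha c hc) ∈ M := by
    intro a b ha hb ha0 hba hab c hc hca
    obtain ⟨p, hp, hpb, hpc⟩ : ∃ p ∈ A, p ∉ Submodule.span F {a, b} ∧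
        p ∉ Submodule.span F {a, c} := by
      by_contra hno
      push Not at hno
      rcases le_or_le_of_forall_mem (U := A) (A := Submodule.span F {a, b})
        (B := Submodule.span F {a, c}) fun x hx => or_iff_not_imp_left.2 (hno x hx) with h | h
      · obtain ⟨x, hx, hx'⟩ := exists_notMem_span_pair (U := A) a b (by rw [P.dimA]; omega)
        exact hx' (h hx)
      · obtain ⟨x, hx, hx'⟩ := exists_notMem_span_pair (U := A) a c (by rw [P.dimA]; omega)
        exact hx' (h hx)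
    have key : ∀ r s : 𝕍, r ∉ Submodule.span F {a} → s ∉ Submodule.span F {a, r} →
        r ∉ Submodule.span F {a, s - r} := by
      intro r s hr hs hm
      obtain ⟨i, j, e⟩ := Submodule.mem_span_pair.1 hm
      rcases eq_or_ne j 0 with rfl | hj
      · exact hr (Submodule.mem_span_singleton.2 ⟨i, by simpa using e⟩)
      · refine hs (Submodule.mem_span_pair.2 ⟨-(j⁻¹ * i), j⁻¹ * (1 + j), ?_⟩)
        refine smul_right_injective 𝕍 hj ?_
        simp only [smul_add, smul_smul, mul_neg, ← mul_assoc, mul_inv_cancel₀ hj, one_mul]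
        linear_combination (norm := module) -e
    refine radical_move P hM ha hp hc (radical_move P hM ha hb hp hab (key b p hba hpb)) ?_
    intro hm
    obtain ⟨i, j, e⟩ := Submodule.mem_span_pair.1 hm
    by_cases hj : 1 + j = 0
    · refine hca (Submodule.mem_span_singleton.2 ⟨i, ?_⟩)
      obtain rfl : j = -1 := by linear_combination hj
      linear_combination (norm := module) e
    · refine hpc (Submodule.mem_span_pair.2 ⟨(1 + j)⁻¹ * i, (1 + j)⁻¹ * j, ?_⟩)
      refine smul_right_injective 𝕍 hj ?_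
      simp only [smul_add, smul_smul, ← mul_assoc, mul_inv_cancel₀ hj, one_mul]
      linear_combination (norm := module) e
  have hnotspan : ∀ a b : 𝕍, a ≠ 0 → b ∉ Submodule.span F {a} → a ∉ Submodule.span F {b} := by
    intro a b ha hb hm
    obtain ⟨s, hs⟩ := Submodule.mem_span_singleton.1 hm
    have hs0 : s ≠ 0 := fun e => ha (by rw [← hs, e, zero_smul])
    exact hb (Submodule.mem_span_singleton.2 ⟨s⁻¹, by rw [← hs, inv_smul_smul₀ hs0]⟩)
  -- all independent pairs
  have pairs : ∀ a c, ∀ (ha : a ∈ A) (hc : c ∈ A), a ≠ 0 → c ∉ Submodule.span F {a} →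
      spSieg a c (P.isoA a ha c hc) ∈ M := by
    intro a c ha hc ha0 hca
    obtain ⟨p, hp, hpu, hpa⟩ : ∃ p ∈ A, p ∉ Submodule.span F {u} ∧ p ∉ Submodule.span F {a} := by
      obtain ⟨p, hp, hp'⟩ := exists_notMem_span_pair (U := A) u a (by rw [P.dimA]; omega)
      exact ⟨p, hp, fun h => hp' (Submodule.span_mono (by simp) h),
        fun h => hp' (Submodule.span_mono (by simp) h)⟩
    have h1 := all u w hu hw hu0 hind hS p hp hpu
    rw [spSieg_comm] at h1
    have hp0 : p ≠ 0 := by rintro rfl; exact hpa (Submodule.zero_mem _)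
    have h2 := all p u hp hu hp0 (hnotspan u p hu0 hpu) h1 a ha (hnotspan a p ha0 hpa)
    rw [spSieg_comm] at h2
    exact all a p ha hp ha0 hpa h2 c hc hca
  intro x hx
  rcases eq_or_ne x 0 with rfl | hx0
  · exact spFull_zero
  obtain ⟨y, hy, hy'⟩ := exists_notMem_span_pair (U := A) x x (by rw [P.dimA]; omega)
  have hyx : y ∉ Submodule.span F {x} := by simpa using hy'
  intro c
  set t := -(c / 2) with ht
  have hyt : y + t • x ∉ Submodule.span F {x} := fun h =>
    hyx (by simpa using sub_mem h (Submodule.smul_mem _ t (Submodule.mem_span_singleton_self x)))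
  have h1 := pairs x (y + t • x) hx (add_mem hy (A.smul_mem _ hx)) hx0 hyt
  have h2 := pairs x y hx hy hx0 hyx
  refine (hasSpTv_iff x c).2 ?_
  convert mul_mem h1 (inv_mem h2) using 1
  rw [eq_mul_inv_iff_mul_eq]
  refine GL_ext_mulVec fun z => ?_
  rw [Units.val_mul, ← mulVec_mulVec, coe_tvGL, spTv_mulVec, spSieg_mulVec, spSieg_mulVec]
  simp only [sympForm_add_left, sympForm_smul_left, sympForm_self, P.isoA y hy x hx,
    sympForm_swap x z, mul_zero, add_zero]
  rw [show c = -(2 * t) by rw [ht]; field_simp]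
  module

/-- A conjugate pair off both subspaces gives the transvections centred in `A`. -/
theorem spFull_of_pair [Finite F] (h2 : (2 : F) ≠ 0) (h5 : 5 ≤ m) (hMS : M ≤ Cfsg.spGL m F)
    {a b a₁ a₂ b₁ b₂ : 𝕍}
    (ha₁ : a₁ ∈ A) (ha₂ : a₂ ∈ B) (ha : a₁ + a₂ = a) (hb₁ : b₁ ∈ A) (hb₂ : b₂ ∈ B)
    (hb : b₁ + b₂ = b) (hab : Cfsg.sympForm m F a b = 0) (hS : spSieg a b hab ∈ M)
    (hb10 : b₁ ≠ 0) (hind : a₁ ∉ Submodule.span F {b₁}) : ∀ x ∈ A, SpFull M x := by
  have d1 := finrank_le_inf_ker A (spLin a)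
  have d2 := finrank_le_inf_ker (A ⊓ LinearMap.ker (spLin a)) (spLin b)
  rw [P.dimA] at d1
  obtain ⟨u, hu, hu'⟩ := exists_notMem_span_pair
    (U := A ⊓ LinearMap.ker (spLin a) ⊓ LinearMap.ker (spLin b)) b₁ a₁ (by omega)
  obtain ⟨⟨huA, hua⟩, hub⟩ := hu
  rw [SetLike.mem_coe, mem_ker_spLin] at hua hub
  have hub₂ : Cfsg.sympForm m F u b₂ = 0 := by
    rw [← hb, sympForm_add_right, P.isoA u huA b₁ hb₁, zero_add] at hub
    exact hub
  obtain ⟨α, hα, hαb, hαu, hαa⟩ := P.exists_sep ha₁ hb₁ huA (by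
    intro hm
    obtain ⟨i, j, e⟩ := Submodule.mem_span_pair.1 hm
    rcases eq_or_ne j 0 with rfl | hj
    · exact hind (Submodule.mem_span_singleton.2 ⟨i, by simpa using e⟩)
    · refine hu' (Submodule.mem_span_pair.2 ⟨-(j⁻¹ * i), j⁻¹, ?_⟩)
      refine smul_right_injective 𝕍 hj ?_
      simp only [smul_add, smul_smul, mul_neg, ← mul_assoc, mul_inv_cancel₀ hj, one_mul]
      linear_combination (norm := module) -e)
  have hαb' : Cfsg.sympForm m F α b = 0 := by
    rw [← hb, sympForm_add_right, hαb, P.isoB α hα b₂ hb₂, add_zero]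
  set k := Cfsg.sympForm m F a α with hk
  have hk0 : k ≠ 0 := by
    rw [hk, ← ha, sympForm_add_left, P.isoB a₂ ha₂ α hα, add_zero, sympForm_swap]
    exact neg_ne_zero.2 hαa
  have hua' : Cfsg.sympForm m F a u = 0 := sympForm_eq_zero_swap hua
  have hub' : Cfsg.sympForm m F b u = 0 := sympForm_eq_zero_swap hub
  have hukb : Cfsg.sympForm m F u (k • b) = 0 := by rw [sympForm_smul_right, hub, mul_zero]
  have h1 : spSieg u (k • b) hukb ∈ M := by
    have hUα := hM u huA α hα (sympForm_eq_zero_swap hαu)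
    have := mul_mem (inv_mem hUα) (mul_mem (mul_mem hS hUα) (inv_mem hS))
    convert this using 1
    rw [eq_inv_mul_iff_mul_eq, spSieg_conj (spSieg_mem_spGL _ _ _)]
    refine GL_ext_mulVec fun x => ?_
    rw [spSieg_mul, spSieg_mulVec]
    simp only [spSieg_mulVec, hua', hub', sympForm_smul_right, hαb', sympForm_eq_zero_swap hαb', ← hk, zero_smul, add_zero, mul_zero]
  -- split off the part in `B`
  set t := k * k * Cfsg.sympForm m F b₁ b₂ / 2 with ht
  have hw : k • b₁ + t • u ∈ A := add_mem (A.smul_mem _ hb₁) (A.smul_mem _ huA)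
  have hu0 : u ≠ 0 := by rintro rfl; exact hu' (Submodule.zero_mem _)
  refine spFull_of_radical P hM h2 (by omega) huA hw ?_ hu0 ?_
  · intro hm
    have h' : k • b₁ ∈ Submodule.span F {u} := by
      simpa using sub_mem hm (Submodule.smul_mem _ t (Submodule.mem_span_singleton_self u))
    obtain ⟨s, hs⟩ := Submodule.mem_span_singleton.1 ((Submodule.smul_mem_iff _ hk0).1 h')
    have hs0 : s ≠ 0 := fun e => hb10 (by rw [← hs, e, zero_smul])
    exact hu' (Submodule.mem_span_pair.2 ⟨s⁻¹, 0, by rw [← hs, inv_smul_smul₀ hs0]; simp⟩)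
  · have h2' := hM u huA (k • b₂) (B.smul_mem _ hb₂) (by rw [sympForm_smul_right, hub₂, mul_zero])
    have := mul_mem (inv_mem h2') h1
    convert this using 1
    rw [eq_inv_mul_iff_mul_eq]
    refine GL_ext_mulVec fun x => ?_
    rw [spSieg_mul, spSieg_mulVec, ← hb, sympForm_add_right, sympForm_smul_right,
      sympForm_smul_right, sympForm_smul_left, sympForm_smul_left, sympForm_eq_zero_swap hub₂,
      sympForm_swap b₁ b₂]
    simp only [sympForm_add_left, sympForm_smul_left]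
    rw [ht]
    match_scalars <;> field_simp <;> ring

end SpPolar

end CfsgLib.MaxSub
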