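import Cfsg.Agent.Lib.MaxSub.SpFiveMap
import Cfsg.Agent.Lib.MaxSub.OFivePlane
import Cfsg.Agent.Lib.MaxSub.SpPolar
import Cfsg.Agent.S5665

/-!
Normalisers of anti-self-adjoint square roots of scalars are maximal in `Sp_4(q)`, `q ≥ 5` odd: they correspond to
stabilisers of non-degenerate planes of the five-space. This covers the pairs of totally isotropic planes and the
overfields with adjoint involution.
-/

set_option autoImplicit false
set_option linter.unusedSectionVars false

namespace CfsgLib.MaxSub.SpFive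

open scoped MatrixGroups
open Cfsg.Geo Matrix CfsgLib.Classical CfsgLib.Geom CfsgLib.AschSp
open CfsgLib.MaxSub.OFrame (NdOn)
open CfsgLib.MaxSub.OFive (Keeps Pair)
open QuadraticMap (polar)

variable {F : Type*} [Field F]

local notation "ιS" => (Fin 2 ⊕ Fin 2)
local notation "MS" => Matrix (Fin 2 ⊕ Fin 2) (Fin 2 ⊕ Fin 2) F
local notation "G" => GL (Fin 2 ⊕ Fin 2) F
local notation "W5" => (Unit ⊕ (Fin 2 ⊕ Fin 2) → F)

theorem anti_prod {x : MS} : ∀ (L : List MS), (∀ y ∈ L, x * y = -(y * x)) →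
    x * L.prod = (-1 : F) ^ L.length • (L.prod * x)
  | [], _ => by simp
  | y :: L, h => by
    rw [List.prod_cons, List.length_cons, ← mul_assoc, h y List.mem_cons_self, neg_mul, mul_assoc,
      anti_prod L fun z hz => h z (List.mem_cons_of_mem _ hz), Matrix.mul_smul, ← mul_assoc, pow_succ,
      mul_neg_one, neg_smul]

theorem prod_det_ne_zero : ∀ (L : List MS), (∀ y ∈ L, y.det ≠ 0) → L.prod.det ≠ 0
  | [], _ => by simp
  | y :: L, h => by
    rw [List.prod_cons, Matrix.det_mul]
    exact mul_ne_zero (h y List.mem_cons_self) (prod_det_ne_zero L fun z hz => h z (List.mem_cons_of_mem _ hz))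

theorem det_mat_ne_zero {v : W5} (hv : qfOdd 2 F v ≠ 0) : (mat v).det ≠ 0 := by
  intro h
  have e := congrArg Matrix.det (mat_sq v)
  rw [Matrix.det_mul, h, mul_zero, Matrix.det_smul, Matrix.det_one, mul_one] at e
  exact pow_ne_zero _ hv e.symm

/-- the product of a full orthogonal system is a non-zero scalar -/
theorem prod_scalar (h2 : (2 : F) ≠ 0) (L : List W5) (hlen : L.length = 5) (hne : ∀ v ∈ L, qfOdd 2 F v ≠ 0)
    (horth : L.Pairwise fun v w => polar (qfOdd 2 F) v w = 0)
    (hspan : ∀ C : Submodule F W5, (∀ v ∈ L, v ∈ C) → C = ⊤) :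
    ∃ c : F, c ≠ 0 ∧ (L.map mat).prod = c • (1 : MS) := by
  obtain ⟨C, hC⟩ : ∃ C : Submodule F W5, C = LinearMap.ker
      ((LinearMap.mulLeft F (L.map mat).prod - LinearMap.mulRight F (L.map mat).prod).comp mat) := ⟨_, rfl⟩
  have hCtop : C = ⊤ := hspan C fun v hv => by
    rw [hC, LinearMap.mem_ker, LinearMap.comp_apply, LinearMap.sub_apply, LinearMap.mulLeft_apply,
      LinearMap.mulRight_apply, sub_eq_zero]
    obtain ⟨l₁, l₂, rfl⟩ := List.append_of_mem hv
    rw [List.pairwise_append, List.pairwise_cons] at horth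
    have hanti : ∀ w ∈ l₁ ++ l₂, mat v * mat w = -(mat w * mat v) := fun w hw => by
      have hp : polar (qfOdd 2 F) v w = 0 := by
        rcases List.mem_append.1 hw with hw | hw
        · rw [QuadraticMap.polar_comm]; exact horth.2.2 w hw v List.mem_cons_self
        · exact horth.2.1.1 w hw
      exact eq_neg_of_add_eq_zero_left (by rw [mat_anti, hp, zero_smul])
    have e1 := anti_prod (x := mat v) (l₁.map mat) fun y hy => by
      obtain ⟨w, hw, rfl⟩ := List.mem_map.1 hy
      exact hanti w (List.mem_append_left _ hw)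
    have e2 := anti_prod (x := mat v) (l₂.map mat) fun y hy => by
      obtain ⟨w, hw, rfl⟩ := List.mem_map.1 hy
      exact hanti w (List.mem_append_right _ hw)
    rw [List.map_append, List.map_cons, List.prod_append, List.prod_cons]
    rw [List.length_map] at e1 e2
    symm
    calc mat v * ((l₁.map mat).prod * (mat v * (l₂.map mat).prod))
        = (mat v * (l₁.map mat).prod) * (mat v * (l₂.map mat).prod) := by simp only [mul_assoc]
      _ = ((-1 : F) ^ l₁.length • ((l₁.map mat).prod * mat v)) *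
          ((-1 : F) ^ l₂.length • ((l₂.map mat).prod * mat v)) := by rw [e1, e2]
      _ = (-1 : F) ^ (l₁.length + l₂.length) •
          ((l₁.map mat).prod * (mat v * (l₂.map mat).prod) * mat v) := by
        rw [smul_mul_smul_comm, ← pow_add]; simp only [mul_assoc]
      _ = _ := by
        have : l₁.length + l₂.length = 4 := by
          simp only [List.length_append, List.length_cons] at hlen
          omega
        rw [this, show ((-1 : F)) ^ 4 = 1 by norm_num, one_smul]
  have h := scalar_of_commute h2 _ fun v => by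
    have hv : v ∈ C := hCtop ▸ Submodule.mem_top
    rw [hC, LinearMap.mem_ker, LinearMap.comp_apply, LinearMap.sub_apply, LinearMap.mulLeft_apply,
      LinearMap.mulRight_apply, sub_eq_zero] at hv
    exact hv
  refine ⟨_, fun e => ?_, h⟩
  refine prod_det_ne_zero (L.map mat) (fun y hy => ?_) ?_
  · obtain ⟨w, hw, rfl⟩ := List.mem_map.1 hy
    exact det_mat_ne_zero (hne w hw)
  · rw [h, e, zero_smul, Matrix.det_zero]

/-- an orthogonal basis of a non-degenerate subspace, as a list -/
theorem exists_orth_list (h2 : (2 : F) ≠ 0) {E : Submodule F W5} (hE : NdOn (qfOdd 2 F) E) :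
    ∃ L : List W5, L.length = Module.finrank F E ∧ (∀ v ∈ L, v ∈ E ∧ qfOdd 2 F v ≠ 0) ∧
      L.Pairwise (fun v w => polar (qfOdd 2 F) v w = 0) ∧
      ∀ C : Submodule F W5, (∀ v ∈ L, v ∈ C) → E ≤ C := by
  haveI : Invertible (2 : F) := invertibleOfNonzero h2
  obtain ⟨b, hb⟩ := LinearMap.BilinForm.exists_orthogonal_basis
    (B := ((qfOdd 2 F).comp E.subtype).polarBilin) ⟨fun x y => QuadraticMap.polar_comm _ x y⟩
  have horth : ∀ i j, i ≠ j → polar (qfOdd 2 F) (b i : W5) (b j) = 0 := fun i j hij => by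
    simpa [QuadraticMap.polar] using hb hij
  refine ⟨List.ofFn fun i => (b i : W5), List.length_ofFn, fun v hv => ?_, ?_, fun C hC x hx => ?_⟩
  · obtain ⟨i, rfl⟩ := List.mem_ofFn.1 hv
    refine ⟨(b i).2, fun hi => b.ne_zero i (Subtype.ext (hE _ (b i).2 fun y hy => ?_))⟩
    have hs' := (congrArg Subtype.val (b.sum_repr ⟨y, hy⟩)).symm
    simp only [AddSubmonoidClass.coe_finsetSum, SetLike.val_smul] at hs'
    show (qfOdd 2 F).polarBilin (b i : W5) y = 0
    rw [hs', map_sum]
    refine Finset.sum_eq_zero fun j _ => ?_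
    rw [map_smul]
    by_cases hij : i = j
    · subst hij
      show _ • polar (qfOdd 2 F) _ _ = 0
      rw [polar_self_two, hi, mul_zero, smul_zero]
    · show _ • polar (qfOdd 2 F) _ _ = 0
      rw [horth i j hij, smul_zero]
  · rw [List.pairwise_ofFn]
    exact fun i j hij => horth i j (ne_of_lt hij)
  · have hs := congrArg Subtype.val (b.sum_repr ⟨x, hx⟩)
    simp only [AddSubmonoidClass.coe_finsetSum, SetLike.val_smul] at hs
    rw [← hs]
    exact Submodule.sum_mem _ fun j _ => C.smul_mem _ (hC _ (List.mem_ofFn.2 ⟨j, rfl⟩))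

variable [Fintype F]

/-- the group preserving an anti-self-adjoint root of a non-zero scalar up to scalars is maximal -/
theorem root_maximal (h5 : 5 ≤ Fintype.card F) (h2 : (2 : F) ≠ 0) {j : MS} {d : F} (hd : d ≠ 0)
    (hadj : adj j = -j) (hsq : j * j = d • (1 : MS)) (H : Subgroup G)
    (hH : ∀ g ∈ Cfsg.spGL 2 F, g ∈ H ↔ ∃ c : F, (g : MS) * j * ((g⁻¹ : G) : MS) = c • j) :
    IsMaximalIn (Cfsg.spGL 2 F) (H ⊓ Cfsg.spGL 2 F) := by
  classical
  have hunit : ∀ X : MS, j * (j * X) = d • X := fun X => by rw [← mul_assoc, hsq, Matrix.smul_mul, one_mul]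
  have hjinj : ∀ X : MS, j * X = 0 → X = 0 := fun X hX => by
    have := hunit X
    rw [hX, mul_zero] at this
    exact (smul_eq_zero.1 this.symm).resolve_left hd
  have hj0 : j ≠ 0 := fun e => by
    rw [e, mul_zero] at hsq
    exact hd ((smul_eq_zero.1 hsq.symm).resolve_right one_ne_zero)
  have hnsc : ∀ c : F, j ≠ c • (1 : MS) := fun c e => hj0 (by
    have := congrArg adj e
    rw [hadj, adj_smul, adj_one, ← e, neg_eq_iff_add_eq_zero, ← two_smul F j] at this
    exact (smul_eq_zero.1 this).resolve_left h2)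
  -- the two eigenspaces of conjugation by `j`
  obtain ⟨A, hA⟩ : ∃ A : Submodule F W5,
      A = LinearMap.ker ((LinearMap.mulRight F j - LinearMap.mulLeft F j).comp mat) := ⟨_, rfl⟩
  obtain ⟨B, hB⟩ : ∃ B : Submodule F W5,
      B = LinearMap.ker ((LinearMap.mulRight F j + LinearMap.mulLeft F j).comp mat) := ⟨_, rfl⟩
  have mA : ∀ v, v ∈ A ↔ mat v * j = j * mat v := fun v => by
    rw [hA, LinearMap.mem_ker, LinearMap.comp_apply, LinearMap.sub_apply, LinearMap.mulRight_apply,
      LinearMap.mulLeft_apply, sub_eq_zero]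
  have mB : ∀ v, v ∈ B ↔ mat v * j = -(j * mat v) := fun v => by
    rw [hB, LinearMap.mem_ker, LinearMap.comp_apply, LinearMap.add_apply, LinearMap.mulRight_apply,
      LinearMap.mulLeft_apply, add_eq_zero_iff_eq_neg]
  have hperp : ∀ a ∈ A, ∀ b ∈ B, polar (qfOdd 2 F) a b = 0 := by
    intro a ha b hb
    rw [mA] at ha
    rw [mB] at hb
    have k1 : mat a * mat b * j = -(j * (mat a * mat b)) := by
      rw [mul_assoc, hb, mul_neg, ← mul_assoc, ha, mul_assoc]
    have k2 : mat b * mat a * j = -(j * (mat b * mat a)) := by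
      rw [mul_assoc, ha, ← mul_assoc, hb, neg_mul, mul_assoc]
    have e := congrArg (· * j) (mat_anti a b)
    have e2 := congrArg (j * ·) (mat_anti a b)
    simp only [add_mul, mul_add, k1, k2, Matrix.smul_mul, one_mul, Matrix.mul_smul, mul_one] at e e2
    have e' : polar (qfOdd 2 F) a b • j + polar (qfOdd 2 F) a b • j = 0 := by
      nth_rewrite 1 [← e]
      rw [← e2]
      abel
    rw [← two_smul F (polar (qfOdd 2 F) a b • j), smul_smul, smul_eq_zero] at e'
    exact (mul_eq_zero.1 (e'.resolve_right hj0)).resolve_left h2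
  have hsup : A ⊔ B = ⊤ := eq_top_iff.2 fun v _ => by
    obtain ⟨w, hw⟩ : ∃ w, w = d⁻¹ • coord (j * mat v * j) := ⟨_, rfl⟩
    have hmw : mat w = d⁻¹ • (j * mat v * j) := by
      rw [hw, map_smul, mat_coord h2]
      · rw [adj_mul, adj_mul, hadj, adj_mat]; simp [mul_assoc]
      · rw [Matrix.trace_mul_comm, ← mul_assoc, hsq, Matrix.smul_mul, one_mul, Matrix.trace_smul, trace_mat,
          smul_zero]
    have e1 : mat w * j = j * mat v := by
      rw [hmw, Matrix.smul_mul, mul_assoc, mul_assoc, hsq, Matrix.mul_smul, mul_one, Matrix.mul_smul,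
        inv_smul_smul₀ hd]
    have e2 : j * mat w = mat v * j := by
      rw [hmw, Matrix.mul_smul, mul_assoc, hunit, inv_smul_smul₀ hd]
    have e : v = (2 : F)⁻¹ • (v + w) + (2 : F)⁻¹ • (v - w) := by
      rw [← smul_add, show v + w + (v - w) = (2 : F) • v by module, inv_smul_smul₀ h2]
    rw [e]
    refine Submodule.add_mem_sup (Submodule.smul_mem _ _ ?_) (Submodule.smul_mem _ _ ?_)
    · rw [mA, map_add, add_mul, mul_add, e1, e2, add_comm]
    · rw [mB, map_sub, sub_mul, mul_sub, e1, e2, neg_sub]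
  have hdis : ∀ x, x ∈ A → x ∈ B → x = 0 := fun x ha hb => by
    rw [mA] at ha
    rw [mB, ha, eq_neg_iff_add_eq_zero, ← two_smul F (j * mat x), smul_eq_zero] at hb
    exact mat_injective (by rw [map_zero]; exact hjinj _ (hb.resolve_left h2))
  have hc : IsCompl A B :=
    ⟨Submodule.disjoint_def.2 hdis, codisjoint_iff.2 hsup⟩
  have hsum : Module.finrank F A + Module.finrank F B = 5 := by
    rw [Submodule.finrank_add_eq_of_isCompl hc]; simp [Module.finrank_fintype_fun_eq_card]
  have hdec : ∀ v : W5, ∃ a ∈ A, ∃ b ∈ B, a + b = v := fun v =>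
    Submodule.mem_sup.1 (hsup ▸ Submodule.mem_top : v ∈ A ⊔ B)
  have hndA : NdOn (qfOdd 2 F) A := fun x hx h0 => qfOdd_sep h2 2 x fun v => by
    obtain ⟨a, ha, b, hb, rfl⟩ := hdec v
    rw [QuadraticMap.polar_add_right, h0 a ha, hperp x hx b hb, add_zero]
  have hndB : NdOn (qfOdd 2 F) B := fun x hx h0 => qfOdd_sep h2 2 x fun v => by
    obtain ⟨a, ha, b, hb, rfl⟩ := hdec v
    rw [QuadraticMap.polar_add_right, h0 b hb, QuadraticMap.polar_comm, hperp a ha x hx, add_zero]
  have hcomm : ∀ X : MS, (∀ v ∈ A, X * mat v = mat v * X) → (∀ v ∈ B, X * mat v = mat v * X) →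
      X = X (.inl 0) (.inl 0) • (1 : MS) := fun X h1 h2' => scalar_of_commute h2 X fun v => by
    obtain ⟨a, ha, b, hb, rfl⟩ := hdec v
    rw [map_add, mul_add, add_mul, h1 a ha, h2' b hb]
  -- the dimension of the plane
  have hdimB : Module.finrank F B = 2 := by
    obtain ⟨LA, hLA, hmA, hpA, hsA⟩ := exists_orth_list h2 hndA
    obtain ⟨LB, hLB, hmB, hpB, hsB⟩ := exists_orth_list h2 hndB
    obtain ⟨c, hc0, hprod⟩ := prod_scalar h2 (LB ++ LA) (by rw [List.length_append, hLA, hLB]; omega)
      (fun v hv => (List.mem_append.1 hv).elim (fun h => (hmB v h).2) fun h => (hmA v h).2)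
      (List.pairwise_append.2 ⟨hpB, hpA, fun b hb a ha => by
        rw [QuadraticMap.polar_comm]; exact hperp a (hmA a ha).1 b (hmB b hb).1⟩)
      fun C hC => eq_top_iff.2 (hsup ▸ sup_le (hsA C fun v hv => hC v (List.mem_append_right _ hv))
        (hsB C fun v hv => hC v (List.mem_append_left _ hv)))
    have e1 := anti_prod (x := j) (LB.map mat) fun y hy => by
      obtain ⟨w, hw, rfl⟩ := List.mem_map.1 hy
      rw [(mB w).1 (hmB w hw).1, neg_neg]
    have e2 : j * (LA.map mat).prod = (LA.map mat).prod * j := Commute.list_prod_right _ _ fun y hy => by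
      obtain ⟨w, hw, rfl⟩ := List.mem_map.1 hy
      exact ((mA w).1 (hmA w hw).1).symm
    rw [List.map_append, List.prod_append] at hprod
    have e3 : (c - (-1 : F) ^ Module.finrank F B * c) • j = 0 := by
      have e4 : j * ((LB.map mat).prod * (LA.map mat).prod) =
          (-1 : F) ^ Module.finrank F B • ((LB.map mat).prod * (LA.map mat).prod * j) := by
        rw [← mul_assoc, e1, List.length_map, hLB, Matrix.smul_mul, mul_assoc, e2, ← mul_assoc]
      rw [hprod, Matrix.mul_smul, mul_one, Matrix.smul_mul, one_mul, smul_smul] at e4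
      rw [sub_smul, ← e4, sub_self]
    have e5 : (-1 : F) ^ Module.finrank F B = 1 := by
      have := (smul_eq_zero.1 e3).resolve_right hj0
      exact mul_right_cancel₀ hc0 (by linear_combination -this)
    rcases Nat.even_or_odd (Module.finrank F B) with hev | hod
    · by_contra hne
      have hk : Module.finrank F B = 0 ∨ Module.finrank F B = 4 := by
        obtain ⟨t, ht⟩ := hev; omega
      rcases hk with hk | hk
      · refine hnsc _ (hcomm j (fun v hv => ((mA v).1 hv).symm) fun v hv => ?_)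
        rw [Submodule.finrank_eq_zero.1 hk, Submodule.mem_bot] at hv
        rw [hv, map_zero, mul_zero, zero_mul]
      · obtain ⟨a, hLa⟩ : ∃ a, LA = [a] := List.length_eq_one_iff.1 (by omega)
        obtain ⟨haA, hQa⟩ := hmA a (by rw [hLa]; exact List.mem_singleton_self a)
        have hja := (mA a).1 haA
        have hA1 : ∀ v ∈ A, j * mat a * mat v = mat v * (j * mat a) := by
          intro v hv
          obtain ⟨t, rfl⟩ := Submodule.mem_span_singleton.1 (hsA (F ∙ a) (fun w hw => by
            rw [hLa, List.mem_singleton] at hw; rw [hw]; exact Submodule.mem_span_singleton_self a) hv)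
          rw [map_smul, Matrix.mul_smul, Matrix.smul_mul, mul_assoc, ← mul_assoc (mat a) j, hja]
          rw [mul_assoc]
        have hA2 : ∀ v ∈ B, j * mat a * mat v = mat v * (j * mat a) := by
          intro v hv
          have h1 : mat a * mat v = -(mat v * mat a) :=
            eq_neg_of_add_eq_zero_left (by rw [mat_anti, hperp a haA v hv, zero_smul])
          rw [mul_assoc, h1, mul_neg, ← mul_assoc, ← mul_assoc, (mB v).1 hv, neg_mul]
        have hsc := hcomm _ hA1 hA2
        generalize (j * mat a) (.inl 0) (.inl 0) = s at hsc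
        have e6 : qfOdd 2 F a • j = s • mat a := by
          have := congrArg (· * mat a) hsc
          simp only [mul_assoc, mat_sq, Matrix.mul_smul, mul_one, Matrix.smul_mul, one_mul] at this
          exact this
        have e7 := congrArg adj e6
        rw [adj_smul, adj_smul, hadj, adj_mat, ← e6, smul_neg, neg_eq_iff_add_eq_zero,
          ← two_smul F (qfOdd 2 F a • j), smul_smul, smul_eq_zero] at e7
        exact mul_ne_zero h2 hQa (e7.resolve_right hj0)
    · rw [hod.neg_one_pow] at e5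
      exact absurd (by linear_combination -e5 : (2 : F) = 0) h2
  have hpair : ∀ M : Subgroup (quadIsoms (qfOdd 2 F)),
      (∀ g ∈ commutator (quadIsoms (qfOdd 2 F)), Keeps A g → g ∈ M) → Pair (qfOdd 2 F) A B M :=
    fun M hM => ⟨h2, by rwa [Nat.card_eq_fintype_card], qfOdd_sep h2 2, hperp, hsup, by omega, hdimB, hM⟩
  refine spGL_isMaximalIn_of h2 H (fun k => Keeps A k) (fun g => ?_) ?_ ?_
  · rw [hH _ g.2]
    obtain ⟨gm, hgm⟩ : ∃ gm, gm = ((g : G) : MS) := ⟨_, rfl⟩
    obtain ⟨gi, hgi⟩ : ∃ gi, gi = (((g : G)⁻¹ : G) : MS) := ⟨_, rfl⟩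
    have hgig : gi * gm = 1 := by rw [hgi, hgm, ← Units.val_mul, inv_mul_cancel, Units.val_one]
    have hggi : gm * gi = 1 := by rw [hgi, hgm, ← Units.val_mul, mul_inv_cancel, Units.val_one]
    rw [← hgm, ← hgi]
    constructor
    · rintro ⟨c, hcj⟩
      have hc0 : c ≠ 0 := fun e => hj0 (by
        rw [e, zero_smul] at hcj
        calc j = gi * (gm * j * gi) * gm := by
              simp only [← mul_assoc, hgig, one_mul]; rw [mul_assoc, hgig, mul_one]
          _ = 0 := by rw [hcj, mul_zero, zero_mul])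
      intro x hx
      rw [mA, mat_phi, ← hgm, ← hgi]
      have e := congrArg (fun X => gm * X * gi) ((mA x).1 hx)
      have l : gm * (mat x * j) * gi = gm * mat x * gi * (gm * j * gi) := by
        simp only [mul_assoc]; rw [← mul_assoc gi gm, hgig, one_mul]
      have r : gm * (j * mat x) * gi = gm * j * gi * (gm * mat x * gi) := by
        simp only [mul_assoc]; rw [← mul_assoc gi gm, hgig, one_mul]
      simp only [l, r, hcj, Matrix.mul_smul, Matrix.smul_mul] at e
      exact smul_right_injective _ hc0 e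
    · intro hk
      have hkB : ∀ b ∈ B, (phi h2 g).1 b ∈ B := fun b hb =>
        (hpair ⊤ fun _ _ _ => Subgroup.mem_top _).mem_B fun a ha => by
          rw [← CfsgLib.Geom.OrthSub.apply_inv (phi h2 g) a, OrthSub.polar_map, QuadraticMap.polar_comm]
          exact hperp _ (hk.inv a ha) b hb
      obtain ⟨j', hj'⟩ : ∃ j', j' = gi * j * gm := ⟨_, rfl⟩
      have hcm : ∀ (ε : F) (v : W5), gm * mat v * gi * j = ε • (j * (gm * mat v * gi)) →
          mat v * j' = ε • (j' * mat v) := by
        intro ε v e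
        have e' := congrArg (fun X => gi * X * gm) e
        simp only [Matrix.mul_smul, Matrix.smul_mul] at e'
        have l : gi * (gm * mat v * gi * j) * gm = mat v * j' := by
          rw [hj']; simp only [← mul_assoc, hgig, one_mul]
        have r : gi * (j * (gm * mat v * gi)) * gm = j' * mat v := by
          rw [hj']; simp only [mul_assoc, hgig, mul_one]
        rwa [l, r] at e'
      have hA' : ∀ v ∈ A, mat v * j' = j' * mat v := fun v hv => by
        have := hcm 1 v (by rw [one_smul, hgm, hgi, ← mat_phi h2 g v]; exact (mA _).1 (hk v hv))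
        rwa [one_smul] at this
      have hB' : ∀ v ∈ B, mat v * j' = -(j' * mat v) := fun v hv => by
        have := hcm (-1) v (by rw [neg_one_smul, hgm, hgi, ← mat_phi h2 g v]; exact (mB _).1 (hkB v hv))
        rwa [neg_one_smul] at this
      have hsc := hcomm (j * j') (fun v hv => by rw [mul_assoc, ← hA' v hv, ← mul_assoc, ← (mA v).1 hv, mul_assoc])
        (fun v hv => by
          rw [mul_assoc, ← neg_eq_iff_eq_neg.2 (hB' v hv), mul_neg, ← mul_assoc,
            ← neg_eq_iff_eq_neg.2 ((mB v).1 hv), neg_mul, neg_neg, mul_assoc])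
      generalize (j * j') (.inl 0) (.inl 0) = s at hsc
      have e8 : d • j' = s • j := by
        rw [← hunit, hsc, Matrix.mul_smul, mul_one]
      have hs : s ≠ 0 := fun e => hj0 (by
        rw [e, zero_smul, smul_eq_zero] at e8
        have e9 := e8.resolve_left hd
        rw [hj'] at e9
        calc j = gm * (gi * j * gm) * gi := by
              simp only [← mul_assoc, hggi, one_mul]; rw [mul_assoc, hggi, mul_one]
          _ = 0 := by rw [e9, mul_zero, zero_mul])
      refine ⟨d / s, ?_⟩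
      have e10 : j = (d / s) • j' := by
        rw [div_eq_inv_mul, ← smul_smul, e8, inv_smul_smul₀ hs]
      conv_lhs => rw [e10, hj']
      rw [Matrix.mul_smul, Matrix.smul_mul]
      congr 1
      simp only [← mul_assoc, hggi, one_mul]
      rw [mul_assoc, hggi, mul_one]
  · exact OFive.exists_moved (hpair ⊤ fun _ _ _ => Subgroup.mem_top _)
  · intro M hM k hkM _ hkP
    by_contra hle
    exact hkP ((hpair M hM).keeps hle hkM)

/-- pairs of totally isotropic planes -/
theorem polar_pair_maximal (h5 : 5 ≤ Fintype.card F) (h2 : (2 : F) ≠ 0) (D : Fin 2 → Submodule F (ιS → F))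
    (hD : IsMDecomposition 2 D) (hts : ∀ i, IsTotallySingularFor (Cfsg.sympForm 2 F) (D i)) :
    IsMaximalIn (Cfsg.spGL 2 F) (decompositionStabilizer D ⊓ Cfsg.spGL 2 F) := by
  classical
  have hc : IsCompl (D 0) (D 1) := by
    refine ⟨hD.indep.pairwiseDisjoint (by decide : (0 : Fin 2) ≠ 1), codisjoint_iff.2 ?_⟩
    rw [eq_top_iff, ← hD.iSup_eq_top, iSup_le_iff]
    intro i
    fin_cases i
    · exact le_sup_left
    · exact le_sup_right
  obtain ⟨T, hT⟩ : ∃ T : (ιS → F) →ₗ[F] (ιS → F),
      T = LinearMap.ofIsCompl hc (D 0).subtype (-(D 1).subtype) := ⟨_, rfl⟩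
  have hT0 : ∀ x ∈ D 0, T x = x := fun x hx => by
    rw [hT]; exact LinearMap.ofIsCompl_left_apply hc ⟨x, hx⟩
  have hT1 : ∀ x ∈ D 1, T x = -x := fun x hx => by
    rw [hT]; exact LinearMap.ofIsCompl_right_apply hc ⟨x, hx⟩
  obtain ⟨j, hj⟩ : ∃ j : MS, j = LinearMap.toMatrix' T := ⟨_, rfl⟩
  have hjv : ∀ x, j *ᵥ x = T x := fun x => by
    rw [hj, ← Matrix.toLin'_apply, Matrix.toLin'_toMatrix']
  have hdec : ∀ v, ∃ a ∈ D 0, ∃ b ∈ D 1, a + b = v := fun v =>
    Submodule.mem_sup.1 (hc.sup_eq_top ▸ Submodule.mem_top : v ∈ D 0 ⊔ D 1)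
  have hsq : j * j = (1 : F) • (1 : MS) := by
    rw [one_smul]
    refine Matrix.ext_of_mulVec_single fun i => ?_
    obtain ⟨a, ha, b, hb, e⟩ := hdec (Pi.single i 1)
    rw [← mulVec_mulVec, one_mulVec, hjv, hjv, ← e, map_add, hT0 a ha, hT1 b hb, map_add, map_neg, hT0 a ha,
      hT1 b hb, neg_neg]
  have hform : ∀ u v, Cfsg.sympForm 2 F (j *ᵥ u) v = -Cfsg.sympForm 2 F u (j *ᵥ v) := by
    intro u v
    obtain ⟨a, ha, b, hb, rfl⟩ := hdec u
    obtain ⟨a', ha', b', hb', rfl⟩ := hdec v
    rw [hjv, hjv, map_add, map_add, hT0 a ha, hT1 b hb, hT0 a' ha', hT1 b' hb', ← neg_one_smul F b,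
      ← neg_one_smul F b']
    simp only [sympForm_add_left, sympForm_add_right, sympForm_smul_left, sympForm_smul_right,
      hts 0 a ha a' ha', hts 1 b hb b' hb']
    ring
  have hadj : adj j = -j := mat_ext fun u v => by
    rw [← adj_spec, hform, neg_mulVec, ← neg_one_smul F (j *ᵥ v), sympForm_smul_right]
    ring
  have eig : ∀ x, (x ∈ D 0 ↔ j *ᵥ x = x) ∧ (x ∈ D 1 ↔ j *ᵥ x = -x) := by
    intro x
    refine ⟨⟨fun h => by rw [hjv, hT0 x h], fun h => ?_⟩, ⟨fun h => by rw [hjv, hT1 x h], fun h => ?_⟩⟩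
    · obtain ⟨a, ha, b, hb, rfl⟩ := hdec x
      rw [hjv, map_add, hT0 a ha, hT1 b hb, add_left_cancel_iff, neg_eq_iff_add_eq_zero, ← two_smul F b,
        smul_eq_zero] at h
      rw [h.resolve_left h2, add_zero]; exact ha
    · obtain ⟨a, ha, b, hb, rfl⟩ := hdec x
      rw [hjv, map_add, hT0 a ha, hT1 b hb, neg_add, add_right_cancel_iff, eq_neg_iff_add_eq_zero,
        ← two_smul F a, smul_eq_zero] at h
      rw [h.resolve_left h2, zero_add]; exact hb
  refine root_maximal h5 h2 one_ne_zero hadj hsq _ fun g _ => ⟨?_, ?_⟩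
  · rintro ⟨σ, hσ⟩
    have hmap : ∀ i, ∀ x ∈ D i, (g : MS) *ᵥ x ∈ D (σ i) := fun i x hx => by
      rw [← hσ i]; exact ⟨x, hx, rfl⟩
    obtain ⟨c, hc'⟩ : ∃ c : F, ∀ x, j *ᵥ ((g : MS) *ᵥ x) = c • ((g : MS) *ᵥ (j *ᵥ x)) := by
      by_cases h0 : σ 0 = 0
      · refine ⟨1, fun x => ?_⟩
        obtain ⟨a, ha, b, hb, rfl⟩ := hdec x
        have h1 : σ 1 = 1 := by
          have := σ.injective.ne (by decide : (1 : Fin 2) ≠ 0)
          rw [h0] at this
          generalize σ 1 = w at this ⊢
          fin_cases w <;> simp_all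
        have ga := (eig _).1.1 (h0 ▸ hmap 0 a ha)
        have gb := (eig _).2.1 (h1 ▸ hmap 1 b hb)
        simp only [mulVec_add, (eig a).1.1 ha, (eig b).2.1 hb, ga, gb, mulVec_neg, one_smul]
      · refine ⟨-1, fun x => ?_⟩
        obtain ⟨a, ha, b, hb, rfl⟩ := hdec x
        have h0' : σ 0 = 1 := by
          generalize σ 0 = w at h0 ⊢
          fin_cases w <;> simp_all
        have h1 : σ 1 = 0 := by
          have := σ.injective.ne (by decide : (1 : Fin 2) ≠ 0)
          rw [h0'] at this
          generalize σ 1 = w at this ⊢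
          fin_cases w <;> simp_all
        have ga := (eig _).2.1 (h0' ▸ hmap 0 a ha)
        have gb := (eig _).1.1 (h1 ▸ hmap 1 b hb)
        simp only [mulVec_add, (eig a).1.1 ha, (eig b).2.1 hb, ga, gb, mulVec_neg, neg_one_smul, neg_add,
          neg_neg]
    have hc0 : c ≠ 0 := fun e => by
      have hz : j * (g : MS) = 0 := Matrix.ext_of_mulVec_single fun i => by
        rw [← mulVec_mulVec, hc', e, zero_smul, zero_mulVec]
      have := congrArg (fun X => j * X * ((g⁻¹ : G) : MS)) hz
      simp only [mul_zero, zero_mul, ← mul_assoc, hsq, one_smul, one_mul, ← Units.val_mul, mul_inv_cancel,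
        Units.val_one] at this
      exact one_ne_zero this
    refine ⟨c⁻¹, ?_⟩
    have e : j * (g : MS) = c • ((g : MS) * j) := Matrix.ext_of_mulVec_single fun i => by
      rw [← mulVec_mulVec, hc', smul_mulVec, ← mulVec_mulVec]
    rw [← inv_smul_smul₀ hc0 ((g : MS) * j), ← e, Matrix.smul_mul, mul_assoc, ← Units.val_mul, mul_inv_cancel,
      Units.val_one, mul_one]
  · rintro ⟨c, hcj⟩
    have hgj : (g : MS) * j = c • (j * (g : MS)) := by
      have := congrArg (· * (g : MS)) hcj
      simpa [mul_assoc, ← Units.val_mul, Matrix.smul_mul] using this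
    have hc2 : c * c = 1 := by
      have h1 : (g : MS) * (j * j) = (c * c) • ((j * j) * (g : MS)) := by
        rw [← mul_assoc, hgj, Matrix.smul_mul, mul_assoc, hgj, Matrix.mul_smul, smul_smul, mul_assoc]
      rw [hsq, one_smul, mul_one, one_mul] at h1
      have h3 : ((c * c) - 1) • (g : MS) = 0 := by rw [sub_smul, one_smul, ← h1, sub_self]
      exact sub_eq_zero.1 ((smul_eq_zero.1 h3).resolve_right fun e => g.ne_zero e)
    have hjg : ∀ x, j *ᵥ ((g : MS) *ᵥ x) = c • ((g : MS) *ᵥ (j *ᵥ x)) := fun x => by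
      rw [mulVec_mulVec, mulVec_mulVec, hgj, smul_mulVec, smul_smul, hc2, one_smul]
    obtain ⟨σ, hσ⟩ : ∃ σ : Equiv.Perm (Fin 2), ∀ i, ∀ x ∈ D i, (g : MS) *ᵥ x ∈ D (σ i) := by
      rcases mul_self_eq_one_iff.1 hc2 with rfl | rfl
      · refine ⟨1, fun i x hx => ?_⟩
        fin_cases i
        · exact (eig _).1.2 (by rw [hjg, (eig x).1.1 hx, one_smul])
        · exact (eig _).2.2 (by rw [hjg, (eig x).2.1 hx, one_smul, mulVec_neg])
      · refine ⟨Equiv.swap 0 1, fun i x hx => ?_⟩
        fin_cases i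
        · exact (eig _).2.2 (by rw [hjg, (eig x).1.1 hx, neg_one_smul])
        · exact (eig _).1.2 (by rw [hjg, (eig x).2.1 hx, neg_one_smul, mulVec_neg, neg_neg])
    refine ⟨σ, fun i => ?_⟩
    have hinj : Function.Injective (Matrix.toLin' (g : MS)) := fun x y e => by
      have := congrArg (((g⁻¹ : G) : MS) *ᵥ ·) e
      simpa [inv_mulVec_mulVec] using this
    refine Submodule.eq_of_le_of_finrank_eq (by rintro _ ⟨x, hx, rfl⟩; exact hσ i x hx) ?_
    rw [← (Submodule.equivMapOfInjective _ hinj (D i)).finrank_eq, hD.finrank_eq, hD.finrank_eq]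

/-- overfields with adjoint involution -/
theorem unitary_maximal (h5 : 5 ≤ Fintype.card F) (h2 : (2 : F) ≠ 0) (K : Subalgebra F MS)
    (hK : IsFieldSubalgebra 2 K) (hac : IsAdjointClosedFor (Cfsg.sympForm 2 F) K)
    (hnsa : ¬ IsSelfAdjointFor (Cfsg.sympForm 2 F) K) :
    IsMaximalIn (Cfsg.spGL 2 F) (subalgebraNormalizer K ⊓ Cfsg.spGL 2 F) := by
  classical
  obtain ⟨j, hjK, hj0, hadj⟩ : ∃ j ∈ K, j ≠ 0 ∧ adj j = -j := by
    simp only [IsSelfAdjointFor, not_forall] at hnsa
    obtain ⟨k, hk, u₀, v₀, hne⟩ := hnsa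
    obtain ⟨k', hk', hadj⟩ := hac k hk
    have hk'e : adj k = k' := mat_ext fun u v => by rw [← adj_spec, hadj]
    refine ⟨k - k', sub_mem hk hk', fun e => hne ?_, ?_⟩
    · rw [hadj, ← sub_eq_zero.1 e]
    · rw [adj_sub, ← hk'e, adj_adj, hk'e, neg_sub]
  have hnsc : ∀ c : F, j ≠ c • (1 : MS) := fun c e => hj0 (by
    have := congrArg adj e
    rw [hadj, adj_smul, adj_one, ← e, neg_eq_iff_add_eq_zero, ← two_smul F j] at this
    exact (smul_eq_zero.1 this).resolve_left h2)
  have hspan : ∀ k ∈ K, ∃ p q : F, k = p • (1 : MS) + q • j := by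
    have hle : Submodule.span F {(1 : MS), j} ≤ Subalgebra.toSubmodule K := Submodule.span_le.2 (by
      rintro _ (rfl | rfl)
      · exact one_mem K
      · exact hjK)
    have hli : LinearIndependent F ![(1 : MS), j] :=
      (LinearIndependent.pair_iff' (one_ne_zero)).2 fun c e => hnsc c e.symm
    have hfr := finrank_span_eq_card hli
    rw [Fintype.card_fin, show Set.range ![(1 : MS), j] = {1, j} by simp [Set.pair_comm]] at hfr
    have he := Submodule.eq_of_le_of_finrank_eq hle (by rw [hfr]; exact hK.finrank_eq.symm)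
    intro k hk
    have : k ∈ Submodule.span F {(1 : MS), j} := by rw [he]; exact hk
    obtain ⟨p, q, h⟩ := Submodule.mem_span_pair.1 this
    exact ⟨p, q, h.symm⟩
  -- scalars are the self-adjoint part
  have hpure : ∀ p q : F, adj (p • (1 : MS) + q • j) = -(p • (1 : MS) + q • j) → p = 0 := fun p q e => by
    rw [adj_add, adj_smul, adj_smul, adj_one, hadj, smul_neg, neg_add, add_right_cancel_iff,
      eq_neg_iff_add_eq_zero, ← two_smul F (p • (1 : MS)), smul_smul, smul_eq_zero] at e
    exact (mul_eq_zero.1 (e.resolve_right one_ne_zero)).resolve_left h2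
  obtain ⟨d, hd⟩ : ∃ d : F, j * j = d • (1 : MS) := by
    obtain ⟨p, q, hpq⟩ := hspan _ (mul_mem hjK hjK)
    refine ⟨p, ?_⟩
    have e := congrArg adj hpq
    rw [adj_mul, hadj, neg_mul_neg, hpq, adj_add, adj_smul, adj_smul, adj_one, hadj, smul_neg,
      add_left_cancel_iff, eq_neg_iff_add_eq_zero, ← two_smul F (q • j), smul_smul, smul_eq_zero] at e
    rw [hpq, (mul_eq_zero.1 (e.resolve_right hj0)).resolve_left h2, zero_smul, add_zero]
  have hd0 : d ≠ 0 := fun e => by
    obtain ⟨y, hyK, hjy⟩ := hK.inv j hjK hj0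
    rw [e, zero_smul] at hd
    have := congrArg (y * ·) hd
    simp only [← mul_assoc, mul_zero] at this
    rw [hK.comm y hyK j hjK, hjy, one_mul] at this
    exact hj0 this
  refine root_maximal h5 h2 hd0 hadj hd _ fun g hg => ⟨fun hn => ?_, ?_⟩
  · obtain ⟨p, q, hpq⟩ := hspan _ ((hn j).1 hjK)
    refine ⟨q, ?_⟩
    rw [hpq, hpure p q ?_, zero_smul, zero_add]
    rw [← hpq, adj_mul, adj_mul, hadj, (adj_inv hg).2, (adj_inv hg).1, neg_mul, mul_neg, mul_assoc]
  · rintro ⟨c, hcj⟩
    refine Cfsg.Agent.S5665.mem_normalizer hjK hspan (β := c) (fun e => hj0 ?_) ?_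
    · rw [e, zero_smul] at hcj
      have := congrArg (fun X => ((g⁻¹ : G) : MS) * X * (g : MS)) hcj
      simpa [mul_assoc, ← Units.val_mul] using this
    · have := congrArg (· * (g : MS)) hcj
      simpa [mul_assoc, ← Units.val_mul, Matrix.smul_mul] using this

end CfsgLib.MaxSub.SpFive
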