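import Cfsg.Agent.Lib.MaxSub.SpPolar

/-!
Pairs of complementary maximal totally isotropic subspaces of the symplectic space of dimension at
least six: a conjugate pair gives the transvections centred in one of the subspaces, and the
stabiliser of the pair is maximal.
-/

set_option autoImplicit false
set_option linter.unusedSectionVars false

namespace CfsgLib.MaxSub

open Matrix
open scoped MatrixGroups

variable {m : ℕ} {F : Type*} [Field F]

local notation "𝕍" => (Fin m ⊕ Fin m → F)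

namespace SpPolar

variable {A B : Submodule F (Fin m ⊕ Fin m → F)} (P : SpPolar A B)
include P

variable {M : Subgroup (GL (Fin m ⊕ Fin m) F)}
  (hM : ∀ u ∈ A, ∀ α ∈ B, ∀ h : Cfsg.sympForm m F u α = 0, spSieg u α h ∈ M)
include hM

/-- the element of the unipotent radical obtained from a pair and a root element -/
theorem pair_radical (h2 : (2 : F) ≠ 0) {a b a₁ a₂ b₁ b₂ u α : 𝕍}
    (ha₁ : a₁ ∈ A) (ha₂ : a₂ ∈ B) (ha : a₁ + a₂ = a) (hb₁ : b₁ ∈ A) (hb₂ : b₂ ∈ B)
    (hb : b₁ + b₂ = b) (hab : Cfsg.sympForm m F a b = 0) (hS : spSieg a b hab ∈ M)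
    (hu : u ∈ A) (hau : Cfsg.sympForm m F a u = 0) (hbu : Cfsg.sympForm m F b u = 0)
    (hα : α ∈ B) (huα : Cfsg.sympForm m F u α = 0) {k l s : F}
    (hk : Cfsg.sympForm m F a α = k) (hl : Cfsg.sympForm m F b α = l)
    (hs : s = k * l - Cfsg.sympForm m F (l • a₂ + k • b₂) (l • a₁ + k • b₁) / 2) :
    spSieg u (l • a₁ + k • b₁ + s • u)
      (P.isoA u hu _ (add_mem (add_mem (A.smul_mem _ ha₁) (A.smul_mem _ hb₁)) (A.smul_mem _ hu))) ∈ M := by
  have hua : Cfsg.sympForm m F u a = 0 := sympForm_eq_zero_swap hau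
  have hub : Cfsg.sympForm m F u b = 0 := sympForm_eq_zero_swap hbu
  have hαu := sympForm_eq_zero_swap huα
  have hαa : Cfsg.sympForm m F α a = -k := by rw [sympForm_swap, hk]
  have hαb : Cfsg.sympForm m F α b = -l := by rw [sympForm_swap, hl]
  set y : 𝕍 := l • a + k • b + (k * l) • u with hy
  have huy : Cfsg.sympForm m F u y = 0 := by
    simp [hy, sympForm_add_right, sympForm_smul_right, hua, hub, sympForm_self]
  have hy2B : l • a₂ + k • b₂ ∈ B := add_mem (B.smul_mem _ ha₂) (B.smul_mem _ hb₂)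
  have h1 : spSieg u y huy ∈ M := by
    have hUα := hM u hu α hα huα
    have := mul_mem (inv_mem hUα) (mul_mem (mul_mem hS hUα) (inv_mem hS))
    convert this using 1
    rw [eq_inv_mul_iff_mul_eq, spSieg_conj (spSieg_mem_spGL _ _ _)]
    refine GL_ext_mulVec fun x => ?_
    rw [spSieg_mul, spSieg_mulVec]
    simp only [spSieg_mulVec, hy, hau, hbu, hua, hub, hk, hl, zero_smul, add_zero, sympForm_add_left,
      sympForm_add_right, sympForm_smul_left, sympForm_smul_right, hαa, hαb, hαu]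
    module
  have huy₂ : Cfsg.sympForm m F u (l • a₂ + k • b₂) = 0 := by
    have ea : Cfsg.sympForm m F u a₂ = 0 := by
      have e := hua; rwa [← ha, sympForm_add_right, P.isoA u hu a₁ ha₁, zero_add] at e
    have eb : Cfsg.sympForm m F u b₂ = 0 := by
      have e := hub; rwa [← hb, sympForm_add_right, P.isoA u hu b₁ hb₁, zero_add] at e
    simp [sympForm_add_right, sympForm_smul_right, ea, eb]
  have h2' := hM u hu _ hy2B huy₂
  have := mul_mem (inv_mem h2') h1
  convert this using 1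
  rw [eq_inv_mul_iff_mul_eq]
  refine GL_ext_mulVec fun x => ?_
  rw [spSieg_mul, spSieg_mulVec, sympForm_add_right (l • a₁ + k • b₁) (s • u)]
  simp only [hy, ← ha, ← hb, sympForm_add_left, sympForm_smul_left, sympForm_smul_right,
    sympForm_eq_zero_swap huy₂]
  rw [hs]
  match_scalars <;> field_simp <;> simp only [sympForm_add_left, sympForm_smul_left] <;> ring

/-- A transvection centred in `A` gives the transvections centred in `A`. -/
theorem spFull_of_tv [Finite F] (h2 : (2 : F) ≠ 0) (h3 : 3 ≤ m) {u : 𝕍} {c : F} (hu : u ∈ A)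
    (hu0 : u ≠ 0) (hc : c ≠ 0) (h : spSieg u (c • u) (P.isoA u hu _ (A.smul_mem c hu)) ∈ M) :
    ∀ x ∈ A, SpFull M x := by
  obtain ⟨p, hp, hp'⟩ := exists_notMem_span_pair (U := A) u u (by rw [P.dimA]; omega)
  have hpu : p ∉ Submodule.span F {u} := by simpa using hp'
  have hp0 : p ≠ 0 := fun e => hpu (e ▸ Submodule.zero_mem _)
  obtain ⟨β, hβ, hβp, -, hβu⟩ := P.exists_sep hu hp hp (by
    rw [Set.pair_eq_singleton]
    intro hm
    obtain ⟨t, rfl⟩ := Submodule.mem_span_singleton.1 hm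
    rcases eq_or_ne t 0 with rfl | ht
    · exact hu0 (zero_smul F p)
    · exact hpu (Submodule.mem_span_singleton.2 ⟨t⁻¹, inv_smul_smul₀ ht p⟩))
  have key : ∀ t : F, spSieg (u + t • p) (c • (u + t • p))
      (P.isoA _ (add_mem hu (A.smul_mem _ hp)) _ (A.smul_mem _ (add_mem hu (A.smul_mem _ hp)))) ∈ M := by
    intro t
    have hpt : Cfsg.sympForm m F p ((t / Cfsg.sympForm m F β u) • β) = 0 := by
      rw [sympForm_smul_right, sympForm_eq_zero_swap hβp, mul_zero]
    have hW := hM p hp _ (B.smul_mem (t / Cfsg.sympForm m F β u) hβ) hpt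
    have h' := mul_mem (mul_mem hW h) (inv_mem hW)
    rw [spSieg_conj (spSieg_mem_spGL _ _ _)] at h'
    simpa only [spSieg_mulVec, sympForm_smul_left, sympForm_smul_right, div_mul_cancel₀ _ hβu,
      P.isoA p hp u hu, zero_smul, add_zero, mul_zero, mulVec_smul] using h'
  have hv : (4 * c) • p ∈ A := A.smul_mem _ hp
  refine spFull_of_radical P hM h2 h3 hu hv (fun hm => hpu ?_) hu0 ?_
  · refine (Submodule.smul_mem_iff _ (mul_ne_zero ?_ hc)).1 hm
    rw [show (4 : F) = 2 * 2 by norm_num]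
    exact mul_ne_zero h2 h2
  convert mul_mem (key 1) (inv_mem (key (-1))) using 1
  rw [eq_mul_inv_iff_mul_eq]
  refine GL_ext_mulVec fun x => ?_
  simp only [Units.val_mul, ← mulVec_mulVec, spSieg_mulVec, sympForm_add_left, sympForm_add_right,
    sympForm_smul_left, sympForm_smul_right, P.isoA p hp u hu, P.isoA u hu p hp, sympForm_self]
  module

/-- a pair whose second component in `A` is orthogonal to both vectors -/
theorem spFull_of_pair_par [Finite F] (h2 : (2 : F) ≠ 0) (h3 : 3 ≤ m)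
    {a b a₁ a₂ b₁ b₂ : 𝕍}
    (ha₁ : a₁ ∈ A) (ha₂ : a₂ ∈ B) (ha : a₁ + a₂ = a) (hb₁ : b₁ ∈ A) (hb₂ : b₂ ∈ B)
    (hb : b₁ + b₂ = b) (hab : Cfsg.sympForm m F a b = 0) (hS : spSieg a b hab ∈ M)
    (hb10 : b₁ ≠ 0) (hind : a₁ ∉ Submodule.span F {b₁}) (hab₁ : Cfsg.sympForm m F a b₁ = 0)
    (hbb₁ : Cfsg.sympForm m F b b₁ = 0) : ∀ x ∈ A, SpFull M x := by
  obtain ⟨α, hα, hαb, -, hαa⟩ := P.exists_sep ha₁ hb₁ hb₁ (by rw [Set.pair_eq_singleton]; exact hind)
  have hk : Cfsg.sympForm m F a α = -Cfsg.sympForm m F α a₁ := by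
    rw [← ha, sympForm_add_left, P.isoB a₂ ha₂ α hα, add_zero, sympForm_swap]
  have hl : Cfsg.sympForm m F b α = 0 := by
    rw [← hb, sympForm_add_left, P.isoB b₂ hb₂ α hα, add_zero, sympForm_eq_zero_swap hαb]
  have h1 := P.pair_radical hM h2 ha₁ ha₂ ha hb₁ hb₂ hb hab hS hb₁ hab₁ hbb₁ hα
    (sympForm_eq_zero_swap hαb) hk hl (s := 0) (by
      have e : Cfsg.sympForm m F b₂ b₁ = 0 := by
        have e := hbb₁; rwa [← hb, sympForm_add_left, sympForm_self, zero_add] at e
      simp [sympForm_smul_left, sympForm_smul_right, e, -neg_smul])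
  exact P.spFull_of_tv hM h2 h3 hb₁ hb10 (neg_ne_zero.2 hαa) (by simpa using h1)

/-- A conjugate pair off both subspaces gives the transvections centred in `A`. -/
theorem spFull_of_pair_three [Finite F] (h2 : (2 : F) ≠ 0) (h3 : 3 ≤ m) (hMS : M ≤ Cfsg.spGL m F)
    {a b a₁ a₂ b₁ b₂ : 𝕍}
    (ha₁ : a₁ ∈ A) (ha₂ : a₂ ∈ B) (ha : a₁ + a₂ = a) (hb₁ : b₁ ∈ A) (hb₂ : b₂ ∈ B)
    (hb : b₁ + b₂ = b) (hab : Cfsg.sympForm m F a b = 0) (hS : spSieg a b hab ∈ M)
    (hb10 : b₁ ≠ 0) (hind : a₁ ∉ Submodule.span F {b₁}) : ∀ x ∈ A, SpFull M x := by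
  have d1 := finrank_le_inf_ker A (spLin a)
  have d2 := finrank_le_inf_ker (A ⊓ LinearMap.ker (spLin a)) (spLin b)
  rw [P.dimA] at d1
  obtain ⟨u, ⟨⟨huA, hua⟩, hub⟩, hu0⟩ := Submodule.exists_mem_ne_zero_of_ne_bot
    (p := A ⊓ LinearMap.ker (spLin a) ⊓ LinearMap.ker (spLin b))
    (fun e => by rw [e, finrank_bot] at d2; omega)
  rw [SetLike.mem_coe, mem_ker_spLin] at hua hub
  have hau := sympForm_eq_zero_swap hua
  have hbu := sympForm_eq_zero_swap hub
  have hka : ∀ α ∈ B, Cfsg.sympForm m F a α = -Cfsg.sympForm m F α a₁ := fun α hα => by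
    rw [← ha, sympForm_add_left, P.isoB a₂ ha₂ α hα, add_zero, sympForm_swap]
  have hkb : ∀ α ∈ B, Cfsg.sympForm m F b α = -Cfsg.sympForm m F α b₁ := fun α hα => by
    rw [← hb, sympForm_add_left, P.isoB b₂ hb₂ α hα, add_zero, sympForm_swap]
  have hindep : ∀ {i j : F}, i • a₁ + j • b₁ = 0 → i = 0 ∧ j = 0 := by
    intro i j e
    have hi : i = 0 := by
      by_contra hi
      refine hind ((Submodule.smul_mem_iff _ hi).1 ?_)
      rw [eq_neg_of_add_eq_zero_left e]
      exact Submodule.neg_mem _ (Submodule.smul_mem _ _ (Submodule.mem_span_singleton_self _))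
    rw [hi, zero_smul, zero_add] at e
    exact ⟨hi, (smul_eq_zero.1 e).resolve_right hb10⟩
  by_cases hu' : u ∈ Submodule.span F {a₁, b₁}
  swap
  · obtain ⟨α, hα, hαb, hαu, hαa⟩ := P.exists_sep ha₁ hb₁ huA (by
      intro hm
      obtain ⟨i, j, e⟩ := Submodule.mem_span_pair.1 hm
      rcases eq_or_ne j 0 with rfl | hj
      · exact hind (Submodule.mem_span_singleton.2 ⟨i, by simpa using e⟩)
      · refine hu' ((Submodule.smul_mem_iff _ hj).1 ?_)
        exact Submodule.mem_span_pair.2 ⟨1, -i, by linear_combination (norm := module) -e⟩)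
    have h1 := P.pair_radical hM h2 ha₁ ha₂ ha hb₁ hb₂ hb hab hS huA hau hbu hα
      (sympForm_eq_zero_swap hαu) (hka α hα) (hkb α hα) rfl
    refine spFull_of_radical P hM h2 h3 huA
      (add_mem (add_mem (A.smul_mem _ ha₁) (A.smul_mem _ hb₁)) (A.smul_mem _ huA))
      (fun hm => ?_) hu0 h1
    obtain ⟨t, ht⟩ := Submodule.mem_span_singleton.1 hm
    rw [hαb, neg_zero, zero_smul, zero_add] at ht
    set k := -Cfsg.sympForm m F α a₁
    have hk : k ≠ 0 := neg_ne_zero.2 hαa
    by_cases hts : t - (k * -Cfsg.sympForm m F α b₁ - Cfsg.sympForm m F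
        (-Cfsg.sympForm m F α b₁ • a₂ + k • b₂) (-Cfsg.sympForm m F α b₁ • a₁ + k • b₁) / 2) = 0
    · rw [sub_eq_zero] at hts
      exact hk (hindep (i := 0) (j := k) (by
        rw [hts, hαb] at ht
        simp only [neg_zero, zero_smul, zero_add, mul_zero] at ht ⊢
        linear_combination (norm := module) -ht)).2
    · refine hu' ((Submodule.smul_mem_iff _ hts).1 ?_)
      refine Submodule.mem_span_pair.2 ⟨0, k, ?_⟩
      simp only [hαb, neg_zero, zero_smul, zero_add, mul_zero] at ht ⊢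
      linear_combination (norm := module) -ht
  obtain ⟨i, j, e⟩ := Submodule.mem_span_pair.1 hu'
  rcases eq_or_ne i 0 with rfl | hi
  · rw [zero_smul, zero_add] at e
    have hj : j ≠ 0 := fun h => hu0 (by rw [← e, h, zero_smul])
    rw [← e, sympForm_smul_right] at hau hbu
    exact P.spFull_of_pair_par hM h2 h3 ha₁ ha₂ ha hb₁ hb₂ hb hab hS hb10 hind
      ((mul_eq_zero.1 hau).resolve_left hj) ((mul_eq_zero.1 hbu).resolve_left hj)
  rcases eq_or_ne j 0 with rfl | hj
  · rw [zero_smul, add_zero] at e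
    rw [← e, sympForm_smul_right] at hau hbu
    have hS' := hS
    rw [spSieg_comm] at hS'
    exact P.spFull_of_pair_par hM h2 h3 hb₁ hb₂ hb ha₁ ha₂ ha _ hS'
      (fun h => hind (h ▸ Submodule.zero_mem _))
      (fun hm => by
        obtain ⟨t, ht⟩ := Submodule.mem_span_singleton.1 hm
        have := hindep (i := t) (j := -1) (by rw [ht]; module)
        exact one_ne_zero (neg_eq_zero.1 this.2))
      ((mul_eq_zero.1 hbu).resolve_left hi) ((mul_eq_zero.1 hau).resolve_left hi)
  obtain ⟨α, hα, hαu, -, hαb⟩ := P.exists_sep hb₁ huA huA (by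
    rw [Set.pair_eq_singleton]
    intro hm
    obtain ⟨t, ht⟩ := Submodule.mem_span_singleton.1 hm
    rw [← e] at ht
    have := hindep (i := t * i) (j := t * j - 1) (by linear_combination (norm := module) ht)
    rcases mul_eq_zero.1 this.1 with h | h
    · exact one_ne_zero (α := F) (by linear_combination -this.2 + j * h)
    · exact hi h)
  have hij : i * Cfsg.sympForm m F α a₁ + j * Cfsg.sympForm m F α b₁ = 0 := by
    rw [← e, sympForm_add_right, sympForm_smul_right, sympForm_smul_right] at hαu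
    exact hαu
  have h1 := P.pair_radical hM h2 ha₁ ha₂ ha hb₁ hb₂ hb hab hS huA hau hbu hα
    (sympForm_eq_zero_swap hαu) (hka α hα) (hkb α hα) rfl
  refine spFull_of_radical P hM h2 h3 huA
      (add_mem (add_mem (A.smul_mem _ ha₁) (A.smul_mem _ hb₁)) (A.smul_mem _ huA))
      (fun hm => ?_) hu0 h1
  obtain ⟨t, ht⟩ := Submodule.mem_span_singleton.1 hm
  generalize (-Cfsg.sympForm m F α a₁ * -Cfsg.sympForm m F α b₁ - _ : F) = s at ht
  rw [← e] at ht
  obtain ⟨e1, e2⟩ := hindep (i := (t - s) * i + Cfsg.sympForm m F α b₁)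
    (j := (t - s) * j + Cfsg.sympForm m F α a₁) (by linear_combination (norm := module) ht)
  exact mul_ne_zero (mul_ne_zero h2 hj) hαb (by linear_combination j * e1 - i * e2 + hij)

end SpPolar

/-- the pair stabiliser is maximal for `m ≥ 3` -/
theorem polar_maximal {F : Type*} [Field F] [Fintype F] (m : ℕ) (hm : 3 ≤ m) (hodd : Odd (Fintype.card F)) (D : Fin 2 → Submodule F (Fin m ⊕ Fin m → F)) (hD : Cfsg.Geo.IsMDecomposition m D) (hts : ∀ i, Cfsg.Geo.IsTotallySingularFor (Cfsg.sympForm m F) (D i)) : Cfsg.Geo.IsMaximalIn (Cfsg.spGL m F) (Cfsg.Geo.decompositionStabilizer D ⊓ Cfsg.spGL m F) := by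
  let A := D 0
  let B := D 1
  have h2 : (2 : F) ≠ 0 := by
    intro h
    have hc : ringChar F = 2 := by
      have := CharP.charP_iff_prime_eq_zero Nat.prime_two |>.2 (by exact_mod_cast h : ((2 : ℕ) : F) = 0)
      exact ringChar.eq F 2
    exact (Nat.not_even_iff_odd.2 hodd) (Nat.even_iff.2 (FiniteField.even_card_of_char_two hc))
  have P : SpPolar A B := by
    refine ⟨hts 0, hts 1, disjoint_iff.1 (hD.indep.pairwiseDisjoint (by decide : (0 : Fin 2) ≠ 1)),
      ?_, hD.finrank_eq 0, hD.finrank_eq 1⟩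
    rw [eq_top_iff, ← hD.iSup_eq_top, iSup_le_iff]
    intro i
    fin_cases i
    · exact le_sup_left
    · exact le_sup_right
  have hmem : ∀ g : Matrix.GeneralLinearGroup (Fin m ⊕ Fin m) F, ∀ σ : Equiv.Perm (Fin 2),
      (∀ i, ∀ x ∈ D i, (g : Matrix (Fin m ⊕ Fin m) (Fin m ⊕ Fin m) F) *ᵥ x ∈ D (σ i)) →
      g ∈ Cfsg.Geo.decompositionStabilizer D := by
    intro g σ h
    refine ⟨σ, fun i => ?_⟩
    have hinj : Function.Injective
        (Matrix.toLin' (g : Matrix (Fin m ⊕ Fin m) (Fin m ⊕ Fin m) F)) := fun x y e => by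
      have := congrArg
        (((g⁻¹ : Matrix.GeneralLinearGroup _ F) : Matrix (Fin m ⊕ Fin m) (Fin m ⊕ Fin m) F) *ᵥ ·) e
      simpa [inv_mulVec_mulVec] using this
    refine Submodule.eq_of_le_of_finrank_eq (by rintro _ ⟨x, hx, rfl⟩; exact h i x hx) ?_
    rw [← (Submodule.equivMapOfInjective _ hinj (D i)).finrank_eq, hD.finrank_eq, hD.finrank_eq]
  have hSieg : ∀ u ∈ A, ∀ α ∈ B, ∀ h : Cfsg.sympForm m F u α = 0,
      spSieg u α h ∈ Cfsg.Geo.decompositionStabilizer D ⊓ Cfsg.spGL m F := by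
    intro u hu α hα h
    refine ⟨hmem _ 1 fun i x hx => ?_, spSieg_mem_spGL _ _ _⟩
    rw [spSieg_mulVec, Equiv.Perm.one_apply]
    fin_cases i
    · rw [P.isoA u hu x hx, zero_smul, add_zero]
      exact add_mem hx (A.smul_mem _ hu)
    · rw [P.isoB α hα x hx, zero_smul, add_zero]
      exact add_mem hx (B.smul_mem _ hα)
  refine isMaximalIn_of_lt (lt_of_le_of_ne inf_le_right fun he => ?_) fun M hM hMS g hg hgH => ?_
  · obtain ⟨a, ha, ha0⟩ := A.exists_mem_ne_zero_of_ne_bot (by
      intro e; have := P.dimA; rw [e, finrank_bot] at this; omega)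
    obtain ⟨b, hb, hb0⟩ := B.exists_mem_ne_zero_of_ne_bot (by
      intro e; have := P.dimB; rw [e, finrank_bot] at this; omega)
    obtain ⟨c, hc, hcb⟩ : ∃ c ∈ A, Cfsg.sympForm m F c b ≠ 0 := by
      by_contra hno
      push Not at hno
      exact hb0 (P.zero_of_orth (fun x hx => sympForm_eq_zero_swap (hno x hx))
        fun x hx => P.isoB b hb x hx)
    -- a vector of `A` independent of `a` seen by `b`
    obtain ⟨x, hx, hxb, hxa⟩ : ∃ x ∈ A, Cfsg.sympForm m F x b ≠ 0 ∧ x ∉ Submodule.span F {a} := by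
      by_cases h : c ∈ Submodule.span F {a}
      · obtain ⟨d, hd, hd'⟩ : ∃ d ∈ A ⊓ LinearMap.ker (spLin b), d ∉ Submodule.span F {a, a} := by
          rw [Set.pair_eq_singleton]
          by_contra hno
          push Not at hno
          have h' := Submodule.finrank_mono (show A ⊓ LinearMap.ker (spLin b) ≤ Submodule.span F {a} from hno)
          have := finrank_le_inf_ker A (spLin b)
          rw [P.dimA] at this
          rw [finrank_span_singleton ha0] at h'
          omega
        refine ⟨c + d, add_mem hc hd.1, ?_, fun h' => hd' ?_⟩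
        · rw [sympForm_add_left, show Cfsg.sympForm m F d b = 0 from hd.2, add_zero]; exact hcb
        · have := sub_mem h' h
          rw [add_sub_cancel_left] at this
          exact Submodule.span_mono (by simp) this
      · exact ⟨c, hc, hcb, h⟩
    have hT := spTv_mem_spGL (a + b) (1 : F)
    rw [← he] at hT
    obtain ⟨σ, hσ⟩ := hT.1
    have him : (tvMat (a + b) ((1 : F) • (Matrix.J (Fin m) F *ᵥ (a + b)))) *ᵥ x ∈ D (σ 0) := by
      rw [← hσ 0]; exact ⟨x, hx, rfl⟩
    rw [spTv_mulVec, one_mul, sympForm_add_right, P.isoA x hx a ha, zero_add, smul_add] at him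
    rcases Fin.exists_fin_two.1 ⟨σ 0, rfl⟩ with h | h <;> rw [h] at him
    · rw [← add_assoc] at him
      have := (Submodule.add_mem_iff_right A (add_mem hx (A.smul_mem _ ha))).1 him
      exact hb0 (P.zero_of_mem ((A.smul_mem_iff hxb).1 this) hb)
    · rw [← add_assoc] at him
      have := (Submodule.add_mem_iff_left B (B.smul_mem _ hb)).1 him
      have h0 := P.zero_of_mem (add_mem hx (A.smul_mem _ ha)) this
      exact hxa (Submodule.mem_span_singleton.2 ⟨-Cfsg.sympForm m F x b, by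
        rw [neg_smul]; exact neg_eq_of_add_eq_zero_left h0⟩)
  · have hM' : ∀ u ∈ A, ∀ α ∈ B, ∀ h : Cfsg.sympForm m F u α = 0, spSieg u α h ∈ M :=
      fun u hu α hα h => hM (hSieg u hu α hα h)
    have hM'' : ∀ u ∈ B, ∀ α ∈ A, ∀ h : Cfsg.sympForm m F u α = 0, spSieg u α h ∈ M :=
      fun u hu α hα h => by rw [spSieg_comm]; exact hM' α hα u hu _
    let G := (g : Matrix (Fin m ⊕ Fin m) (Fin m ⊕ Fin m) F)
    have hgS := hMS hg
    have hinj : ∀ x, G *ᵥ x = 0 → x = 0 := fun x e => by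
      rw [← inv_mulVec_mulVec g x, show (g : Matrix (Fin m ⊕ Fin m) (Fin m ⊕ Fin m) F) *ᵥ x = 0 from e,
        mulVec_zero]
    -- a conjugate leaving both subspaces
    obtain ⟨U, U', hpol, hUM, u, hu, huA, huB⟩ : ∃ U U', SpPolar U U' ∧
        (∀ u ∈ U, ∀ α ∈ U', ∀ h : Cfsg.sympForm m F u α = 0, spSieg u α h ∈ M) ∧
        ∃ u ∈ U, G *ᵥ u ∉ A ∧ G *ᵥ u ∉ B := by
      by_contra hno
      push Not at hno
      have hA' : ∀ x ∈ A.map (Matrix.toLin' G), x ∈ A ∨ x ∈ B := by
        rintro _ ⟨x, hx, rfl⟩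
        exact or_iff_not_imp_left.2 (hno A B P hM' x hx)
      have hB' : ∀ x ∈ B.map (Matrix.toLin' G), x ∈ A ∨ x ∈ B := by
        rintro _ ⟨x, hx, rfl⟩
        exact or_iff_not_imp_left.2 (hno B A P.symm hM'' x hx)
      have hnotboth : ∀ W : Submodule F (Fin m ⊕ Fin m → F), Module.finrank F W = m →
          A.map (Matrix.toLin' G) ≤ W → B.map (Matrix.toLin' G) ≤ W → False := by
        intro W hW h h'
        have htop : (⊤ : Submodule F (Fin m ⊕ Fin m → F)).map (Matrix.toLin' G) ≤ W := by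
          rw [← P.sup_eq, Submodule.map_sup]; exact sup_le h h'
        rw [Submodule.map_top] at htop
        have := Submodule.finrank_mono htop
        rw [LinearMap.finrank_range_of_inj (fun x y e => sub_eq_zero.1 (hinj _ (by
          rw [mulVec_sub]; exact sub_eq_zero.2 e))), Module.finrank_pi, Fintype.card_sum,
          Fintype.card_fin, hW] at this
        omega
      apply hgH
      refine ⟨?_, hgS⟩
      rcases le_or_le_of_forall_mem hA' with h | h <;> rcases le_or_le_of_forall_mem hB' with h' | h'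
      · exact (hnotboth A P.dimA h h').elim
      · refine hmem g 1 fun i x hx => ?_
        fin_cases i
        · exact h ⟨x, hx, rfl⟩
        · exact h' ⟨x, hx, rfl⟩
      · refine hmem g (Equiv.swap 0 1) fun i x hx => ?_
        fin_cases i
        · exact h ⟨x, hx, rfl⟩
        · exact h' ⟨x, hx, rfl⟩
      · exact (hnotboth B P.dimB h h').elim
    obtain ⟨w, hw, w', hw', hsum⟩ := P.decomp (G *ᵥ u)
    have hw0 : w ≠ 0 := by rintro rfl; exact huB (by rw [← hsum, zero_add]; exact hw')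
    have hw'0 : w' ≠ 0 := by rintro rfl; exact huA (by rw [← hsum, add_zero]; exact hw)
    -- an orthogonal partner outside `span {w, w'}`
    obtain ⟨α, hα, hαout⟩ : ∃ α ∈ U' ⊓ LinearMap.ker (spLin u),
        G *ᵥ α ∉ Submodule.span F {w, w'} := by
      obtain ⟨α, hα, hαout⟩ : ∃ α ∈ U' ⊓ LinearMap.ker (spLin u), α ∉ Submodule.span F
          {((g⁻¹ : Matrix.GeneralLinearGroup _ F) : Matrix (Fin m ⊕ Fin m) (Fin m ⊕ Fin m) F) *ᵥ w,
           ((g⁻¹ : Matrix.GeneralLinearGroup _ F) : Matrix (Fin m ⊕ Fin m) (Fin m ⊕ Fin m) F) *ᵥ w'} := by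
        classical
        by_contra hno
        push Not at hno
        set T : Finset (Fin m ⊕ Fin m → F) :=
          {((g⁻¹ : Matrix.GeneralLinearGroup _ F) : Matrix (Fin m ⊕ Fin m) (Fin m ⊕ Fin m) F) *ᵥ w,
           ((g⁻¹ : Matrix.GeneralLinearGroup _ F) : Matrix (Fin m ⊕ Fin m) (Fin m ⊕ Fin m) F) *ᵥ w'} with hT
        have hle : U' ⊓ LinearMap.ker (spLin u) ≤ Submodule.span F (T : Set (Fin m ⊕ Fin m → F)) := by
          intro x hx; rw [hT, Finset.coe_pair]; exact hno x hx
        have h1 := finrank_le_inf_ker U' (spLin u)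
        rw [hpol.dimB] at h1
        have h3 := finrank_span_finset_le_card (R := F) T
        have h4 : T.card ≤ 2 := Finset.card_le_two
        simp only [Set.finrank] at h3
        have heq := Submodule.eq_of_le_of_finrank_le hle (by omega)
        have hu' : u ∈ U' ⊓ LinearMap.ker (spLin u) := by
          rw [heq, hT, Finset.coe_pair]
          refine Submodule.mem_span_pair.2 ⟨1, 1, ?_⟩
          rw [one_smul, one_smul, ← mulVec_add, hsum]
          exact inv_mulVec_mulVec g u
        have hu0 : u = 0 := hpol.zero_of_mem hu hu'.1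
        exact huA (by rw [hu0, mulVec_zero]; exact A.zero_mem)
      refine ⟨α, hα, fun h => hαout ?_⟩
      obtain ⟨i, j, e⟩ := Submodule.mem_span_pair.1 h
      refine Submodule.mem_span_pair.2 ⟨i, j, ?_⟩
      rw [← mulVec_smul, ← mulVec_smul, ← mulVec_add, e]
      exact inv_mulVec_mulVec g α
    have hαu : Cfsg.sympForm m F α u = 0 := hα.2
    have hab : Cfsg.sympForm m F (G *ᵥ α) (G *ᵥ u) = 0 := (spGL_form hgS α u).trans hαu
    have hS : spSieg (G *ᵥ α) (G *ᵥ u) hab ∈ M := by
      have h1 := hUM u hu α hα.1 (sympForm_eq_zero_swap hαu)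
      rw [spSieg_comm] at h1
      have h2 := mul_mem (mul_mem hg h1) (inv_mem hg)
      rwa [spSieg_conj hgS] at h2
    obtain ⟨a₁, ha₁, a₂, ha₂, hasum⟩ := P.decomp (G *ᵥ α)
    obtain ⟨s, hsS, hsA, hsB⟩ := P.exists_swap
    have hsH : s ∈ M := hM ⟨hmem s (Equiv.swap 0 1) fun i x hx => by
      fin_cases i
      · exact hsA x hx
      · exact hsB x hx, hsS⟩
    have hmove : ∀ U U' : Submodule F (Fin m ⊕ Fin m → F),
        (∀ x ∈ U, (s : Matrix (Fin m ⊕ Fin m) (Fin m ⊕ Fin m) F) *ᵥ x ∈ U') →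
        Module.finrank F U = m → Module.finrank F U' = m →
        (∀ x ∈ U, SpFull M x) → ∀ y ∈ U', SpFull M y := by
      intro U U' h hU hU' hF y hy
      have hinjs : Function.Injective
          (Matrix.toLin' (s : Matrix (Fin m ⊕ Fin m) (Fin m ⊕ Fin m) F)) := fun x y e => by
        have := congrArg
          (((s⁻¹ : Matrix.GeneralLinearGroup _ F) : Matrix (Fin m ⊕ Fin m) (Fin m ⊕ Fin m) F) *ᵥ ·) e
        simpa [inv_mulVec_mulVec] using this
      have he : U.map (Matrix.toLin' (s : Matrix (Fin m ⊕ Fin m) (Fin m ⊕ Fin m) F)) = U' :=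
        Submodule.eq_of_le_of_finrank_eq (by rintro _ ⟨x, hx, rfl⟩; exact h x hx)
          (by rw [← (Submodule.equivMapOfInjective _ hinjs U).finrank_eq, hU, hU'])
      rw [← he] at hy
      obtain ⟨x, hx, rfl⟩ := hy
      exact (hF x hx).conj hsH hsS
    have hAB : (∀ x ∈ A, SpFull M x) ∧ ∀ x ∈ B, SpFull M x := by
      by_cases h : a₁ ∈ Submodule.span F {w}
      · have hFB : ∀ x ∈ B, SpFull M x := P.symm.spFull_of_pair_three hM'' h2 hm hMS ha₂ ha₁
          (by rw [add_comm]; exact hasum) hw' hw (by rw [add_comm]; exact hsum) hab hS hw'0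
          fun h' => hαout (by
            rw [← hasum]
            exact add_mem (Submodule.span_mono (by simp) h) (Submodule.span_mono (by simp) h'))
        exact ⟨hmove B A hsB P.dimB P.dimA hFB, hFB⟩
      · have hFA : ∀ x ∈ A, SpFull M x :=
          P.spFull_of_pair_three hM' h2 hm hMS ha₁ ha₂ hasum hw hw' hsum hab hS hw0 h
        exact ⟨hFA, hmove A B hsA P.dimA P.dimB hFA⟩
    refine spGL_le_of_spFull fun x => ?_
    obtain ⟨a, ha, b, hb, rfl⟩ := P.decomp x
    by_cases h : Cfsg.sympForm m F a b = 0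
    · rcases eq_or_ne b 0 with rfl | hb0
      · rw [add_zero]; exact hAB.1 a ha
      obtain ⟨y, hy, hyb⟩ : ∃ y ∈ A, Cfsg.sympForm m F y b ≠ 0 := by
        by_contra hno
        push Not at hno
        exact hb0 (P.zero_of_orth (fun x hx => sympForm_eq_zero_swap (hno x hx))
          fun x hx => P.isoB b hb x hx)
      have h1 : SpFull M (a - y + b) := (hAB.1 _ (sub_mem ha hy)).add (hAB.2 b hb) (by
        rw [sub_eq_add_neg, ← neg_one_smul F y, sympForm_add_left, sympForm_smul_left, h]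
        simpa using hyb)
      have := h1.add (hAB.1 y hy) (by
        rw [sympForm_add_left, P.isoA _ (sub_mem ha hy) y hy, zero_add, sympForm_swap]
        exact neg_ne_zero.2 hyb)
      convert this using 1; abel
    · exact (hAB.1 a ha).add (hAB.2 b hb) h

end CfsgLib.MaxSub
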