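import Cfsg.Agent.Lib.MaxSub.TFormSSKron
import Cfsg.Agent.Lib.MaxSub.TFormSSBoot
import Cfsg.Agent.Lib.MaxSub.TensorFrame
import Cfsg.Agent.Lib.MaxSub.TensorMatrix
import Cfsg.Agent.Lib.MaxSub.OmegaElem
import Cfsg.Agent.Lib.Geom.SiegelFull
import Cfsg.Agent.Lib.Geom.OmegaMax
import Cfsg.Agent.Lib.Classical.Preserving

/-!
The stabiliser of a tensor decomposition `Sp ⊗ Sp` is maximal in `Ω`, any characteristic.
-/

set_option autoImplicit false
set_option linter.unusedSectionVars false
set_option linter.unusedSimpArgs false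
set_option maxHeartbeats 1000000

namespace CfsgLib.MaxSub.TensorSS

open Matrix
open CfsgLib.MaxSub
open scoped MatrixGroups Kronecker
open CfsgLib.Classical (glLin glLin_apply)
open CfsgLib.Geom
open QuadraticMap (polar)

section AltEndo

variable {F M : Type*} [Field F] [AddCommGroup M] [Module F M] [FiniteDimensional F M]

/-- the rank two alternating map of a pair -/
noncomputable def pairMap (f : M →ₗ[F] M →ₗ[F] F) (u d : M) : M →ₗ[F] M :=
  (f.flip u).smulRight d - (f.flip d).smulRight u

theorem pairMap_apply (f : M →ₗ[F] M →ₗ[F] F) (u d x : M) :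
    pairMap f u d x = f x u • d - f x d • u := rfl

/-- alternating endomorphisms are sums of rank two ones -/
theorem alt_endo (f : M →ₗ[F] M →ₗ[F] F) (hf : ∀ a, f a a = 0) (hnd : ∀ a, (∀ b, f a b = 0) → a = 0)
    {P : (M →ₗ[F] M) → Prop} (h0 : P 0) (hadd : ∀ Y Z, P Y → P Z → P (Y + Z))
    (hpair : ∀ u d, P (pairMap f u d)) (Y : M →ₗ[F] M) (hY : ∀ b, f (Y b) b = 0) : P Y := by
  have hsw : ∀ a b, f b a = -f a b := TForm.alt_swap f hf
  induction h : Module.finrank F M - Module.finrank F (LinearMap.ker Y) using Nat.strong_induction_on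
    generalizing Y with
  | _ k ih =>
    by_cases hY0 : Y = 0
    · rw [hY0]; exact h0
    obtain ⟨b₀, hb₀⟩ : ∃ b, Y b ≠ 0 := by
      by_contra hall
      simp only [not_exists, not_not] at hall
      exact hY0 (LinearMap.ext hall)
    have hadj : ∀ u w, f (Y u) w + f (Y w) u = 0 := fun u w => by
      have h1 := hY (u + w)
      simp only [map_add, LinearMap.add_apply, hY, zero_add, add_zero] at h1
      linear_combination h1
    set r := Y b₀ with hr
    obtain ⟨y, hy⟩ : ∃ y, f r y ≠ 0 := by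
      by_contra hall
      simp only [not_exists, not_not] at hall
      exact hb₀ (hnd r hall)
    set b₁ := (f r y)⁻¹ • y with hb₁
    have hrb : f r b₁ = 1 := by rw [hb₁, map_smul, smul_eq_mul, inv_mul_cancel₀ hy]
    set s := Y b₁ with hs
    have hrb₀ : f r b₀ = 0 := hY b₀
    have hsb₁ : f s b₁ = 0 := hY b₁
    have hsb₀ : f s b₀ = -1 := by linear_combination hadj b₁ b₀ - hrb
    have hZ : ∀ b, f (pairMap f r s b) b = 0 := fun b => by
      rw [pairMap_apply, map_sub, map_smul, map_smul, LinearMap.sub_apply, LinearMap.smul_apply,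
        LinearMap.smul_apply, hsw b s, hsw b r, smul_eq_mul, smul_eq_mul]
      ring
    have hlt : Module.finrank F (LinearMap.ker Y) < Module.finrank F (LinearMap.ker (Y + pairMap f r s)) := by
      refine Submodule.finrank_lt_finrank_of_lt (lt_of_le_of_ne (fun x hx => ?_) fun e => ?_)
      · rw [LinearMap.mem_ker] at hx ⊢
        have e1 : f x r = 0 := by
          rw [hsw r x, hr]
          have hx0 : f (Y x) b₀ = 0 := by rw [hx]; simp
          linear_combination hx0 - hadj x b₀
        have e2 : f x s = 0 := by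
          rw [hsw s x, hs]
          have hx0 : f (Y x) b₁ = 0 := by rw [hx]; simp
          linear_combination hx0 - hadj x b₁
        rw [LinearMap.add_apply, hx, pairMap_apply, e1, e2]
        simp
      · have hb : b₀ ∈ LinearMap.ker (Y + pairMap f r s) := by
          rw [LinearMap.mem_ker, LinearMap.add_apply, pairMap_apply, ← hr, hsw r b₀, hrb₀, hsw s b₀, hsb₀]
          module
        rw [← e, LinearMap.mem_ker] at hb
        exact hb₀ hb
    have hsum : P (Y + pairMap f r s) := by
      refine ih _ ?_ _ (fun b => by rw [LinearMap.add_apply, map_add, LinearMap.add_apply, hY, hZ, add_zero]) rfl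
      have := Submodule.finrank_le (LinearMap.ker (Y + pairMap f r s))
      omega
    have h2 := hadd _ _ hsum (hpair s r)
    convert h2 using 1
    refine LinearMap.ext fun x => ?_
    simp only [LinearMap.add_apply, pairMap_apply]
    abel

end AltEndo

variable {F : Type*} [Field F] [Fintype F] {n n₁ n₂ : ℕ}

theorem even_of_symp {k : ℕ} {f : (Fin k → F) → (Fin k → F) → F} (hf : Cfsg.Geo.IsSymplecticForm f) :
    Even k := by
  have h := MaxSub.OmegaElem.even_finrank_of_alt (F := F)
    (LinearMap.mk₂ F f hf.bilinear.add_left hf.bilinear.smul_left hf.bilinear.add_right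
      hf.bilinear.smul_right) hf.alternating fun x hx => ?_
  · rwa [Module.finrank_fin_fun] at h
  · by_contra h0
    obtain ⟨-, y, hy⟩ := hf.nondegenerate x h0
    exact hy (hx y)

/-- pure tensors span -/
theorem span_pure {ι : Type} [Fintype ι] [DecidableEq ι] (e : ι ≃ Fin n₁ × Fin n₂) (P : GL ι F) :
    Submodule.span F (Set.range fun p : (Fin n₁ → F) × (Fin n₂ → F) =>
      TensorFrame.pure e P p.1 p.2) = ⊤ := by
  classical
  refine eq_top_iff.2 fun x _ => ?_
  have hp : ∀ i, TensorFrame.pure e P (Pi.single (e i).1 1) (Pi.single (e i).2 1) =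
      (P : Matrix ι ι F) *ᵥ Pi.single i 1 := fun i => by
    rw [TensorFrame.pure_def]
    congr 1
    funext j
    by_cases h : j = i
    · subst h; simp
    · have hne : e j ≠ e i := fun h' => h (e.injective h')
      simp only [Function.comp_apply, Pi.single_apply, h, if_false, mul_ite, mul_one, mul_zero]
      split_ifs with h1 h2 <;> first | rfl | exact absurd (Prod.ext ‹_› ‹_›) hne
  have hx : x = ∑ i, (((P⁻¹ : GL ι F) : Matrix ι ι F) *ᵥ x) i •
      TensorFrame.pure e P (Pi.single (e i).1 1) (Pi.single (e i).2 1) := by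
    simp only [hp, ← mulVec_smul]
    rw [← Matrix.mulVec_sum]
    conv_lhs => rw [← mulVec_mulVec_inv P x]
    congr 1
    exact pi_eq_sum_univ' _
  rw [hx]
  exact Submodule.sum_mem _ fun i _ => Submodule.smul_mem _ _ (Submodule.subset_span ⟨(_, _), rfl⟩)

/-- the stabiliser of `Sp_{n₁} ⊗ Sp_{n₂}`, `n₁ < n₂`, is maximal in `Ω` -/
theorem tensor_symp_symp_maximal {Q : (Fin n → F) → F} (hQ : Cfsg.Geo.IsNondegenerateQuadraticForm Q)
    (hn₁ : 2 ≤ n₁) (hn₂ : 6 ≤ n₂) (h12 : n₁ < n₂) (hex : ¬ (Fintype.card F = 2 ∧ n₁ = 2))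
    (e : Fin n ≃ Fin n₁ × Fin n₂) (P : GL (Fin n) F) (f₁ : (Fin n₁ → F) → (Fin n₁ → F) → F)
    (f₂ : (Fin n₂ → F) → (Fin n₂ → F) → F) (hf₁ : Cfsg.Geo.IsSymplecticForm f₁)
    (hf₂ : Cfsg.Geo.IsSymplecticForm f₂)
    (hT : Cfsg.Geo.IsTensorFormStructure id (polar Q) f₁ f₂ e P)
    (hpure : ∀ (x₁ : Fin n₁ → F) (x₂ : Fin n₂ → F), Q ((P : Matrix (Fin n) (Fin n) F) *ᵥ
      ((fun a : Fin n₁ × Fin n₂ => x₁ a.1 * x₂ a.2) ∘ e)) = 0) :
    Cfsg.Geo.IsMaximalIn (Cfsg.Geo.omegaGL Q)
      (Cfsg.Geo.tensorProductSubgroup n₁ n₂ e P ⊓ Cfsg.Geo.omegaGL Q) := by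
  classical
  set Qf := quadFormOf hQ with hQf
  have hcoe : ⇑Qf = Q := quadFormOf_coe hQ
  have hsep : ∀ x, (∀ y, polar Qf x y = 0) → x = 0 := quadFormOf_sep hQ
  let B₁ : (Fin n₁ → F) →ₗ[F] (Fin n₁ → F) →ₗ[F] F := LinearMap.mk₂ F f₁ hf₁.bilinear.add_left
    hf₁.bilinear.smul_left hf₁.bilinear.add_right hf₁.bilinear.smul_right
  let B₂ : (Fin n₂ → F) →ₗ[F] (Fin n₂ → F) →ₗ[F] F := LinearMap.mk₂ F f₂ hf₂.bilinear.add_left
    hf₂.bilinear.smul_left hf₂.bilinear.add_right hf₂.bilinear.smul_right
  let BV : (Fin n → F) →ₗ[F] (Fin n → F) →ₗ[F] F := QuadraticMap.polarBilin Qf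
  have hBV : ∀ x y, BV x y = polar Q x y := fun x y => by
    show polar Qf x y = _
    rw [hcoe]
  have gram : ∀ {k : ℕ} {f : (Fin k → F) → (Fin k → F) → F}, Cfsg.Geo.IsBilinearForm f →
      ∀ x y, Cfsg.Geo.formOfGram id (Cfsg.Geo.gramMatrix f) x y = f x y :=
    fun {k f} h => TensorFrame.formOfGram_gram _ f h.add_left h.smul_left h.add_right h.smul_right
  obtain ⟨c, hc0, hform⟩ := TensorFrame.form_pure (fun _ _ => rfl) hT (gram hf₁.bilinear)
    (gram hf₂.bilinear)
  let tau : (Fin n₁ → F) →ₗ[F] (Fin n₂ → F) →ₗ[F] (Fin n → F) := TensorFrame.pure e P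
  let fA := B₁
  let fB : (Fin n₂ → F) →ₗ[F] (Fin n₂ → F) →ₗ[F] F := c • B₂
  choose C hC using fun w : Fin n₂ → F => TensorFrame.pure_contract e P (fB.flip w)
  choose C' hC' using fun x : Fin n₁ → F => TensorFrame.pure_contract' e P (fA.flip x)
  let T : TForm.Sys F (Fin n₁ → F) (Fin n₂ → F) (Fin n → F) (RingHom.id F) :=
    { tau := tau, fA := fA, fB := fB, form := BV, C := C, C' := C' }
  have good : T.Good (-1) :=
    { invol := fun _ => rfl
      eps := neg_ne_zero.2 one_ne_zero
      hermA := fun x y => by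
        rw [neg_one_mul, RingHom.id_apply]
        exact hf₁.skew y x
      skewB := fun x y => by
        show c * f₂ y x = -(c * f₂ x y)
        rw [hf₂.skew y x, mul_neg]
      nondegA := fun x hx => by
        by_contra hx0
        obtain ⟨y, hy⟩ := (hf₁.nondegenerate x hx0).2
        exact hy (hx y)
      nondegB := fun x hx => by
        by_contra hx0
        obtain ⟨y, hy⟩ := (hf₂.nondegenerate x hx0).2
        exact mul_ne_zero hc0 hy (hx y)
      form_tau := fun a b a' b' => by
        show BV (TensorFrame.pure e P a b) (TensorFrame.pure e P a' b') = f₁ a a' * (c * f₂ b b')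
        rw [hBV, hform]; ring
      C_tau := fun w a b => hC w a b
      C'_tau := fun x a b => hC' x b a
      span := by
        refine eq_top_iff.2 (le_trans (eq_top_iff.1 (span_pure e P)) (Submodule.span_le.2 ?_))
        rintro _ ⟨⟨a, b⟩, rfl⟩
        exact Submodule.subset_span ⟨(a, b), rfl⟩ }
  have haltA : ∀ a, T.fA a a = 0 := hf₁.alternating
  have haltB : ∀ b, T.fB b b = 0 := fun b => by
    show c * f₂ b b = 0
    rw [hf₂.alternating, mul_zero]
  have hqt : ∀ a b, Q (T.tau a b) = 0 := hpure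
  have hqt' : ∀ a b, Qf (T.tau a b) = 0 := hpure
  have hcard : n = n₁ * n₂ := by simpa using Fintype.card_congr e
  have h5 : 5 ≤ Module.finrank F (Fin n → F) := by
    rw [Module.finrank_fin_fun, hcard]
    have := Nat.mul_le_mul hn₁ hn₂
    omega
  set K := Cfsg.Geo.omegaGL Q with hK
  set S := Cfsg.Geo.tensorProductSubgroup n₁ n₂ e P with hS
  have hKmap : K = (commutator (quadIsoms Qf)).map (isomsToGL Qf) := by
    rw [hK, ← hcoe]; exact omegaGL_eq_map Qf
  -- root elements
  have hroot : ∀ p q : Fin n₁ → F, ∀ u d : Fin n₂ → F, T.form (T.tau p u) (T.tau q d) = 0 →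
      ∃ g ∈ K, ∀ x, glLin g x = TForm.rootMap T (T.tau p u) (T.tau q d) x := by
    intro p q u d h0
    refine ⟨isomsToGL Qf (CfsgLib.Classical.siegel Qf (T.tau p u) (T.tau q d)), ?_, fun x => ?_⟩
    · rw [hKmap]
      exact Subgroup.mem_map_of_mem _ (OrthSub.siegel_mem_commutator hsep h5 _ _)
    · rw [glLin_apply, isomsToGL_mulVec, CfsgLib.Classical.siegel_apply Qf (hqt' _ _) h0, hqt', zero_mul,
        add_zero]
      show x + polar Qf (T.tau p u) x • T.tau q d - polar Qf (T.tau q d) x • T.tau p u =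
        x + polar Qf x (T.tau p u) • T.tau q d - polar Qf x (T.tau q d) • T.tau p u
      rw [QuadraticMap.polar_comm Qf x, QuadraticMap.polar_comm Qf x]
  have htvA : ∀ (p : Fin n₁ → F) (k : F), ∃ g ∈ K, ∀ x, glLin g x = x + k • T.tau p (T.C' p x) := by
    intro p k
    have h := alt_endo T.fB haltB good.nondegB
      (P := fun Y => ∃ g ∈ K, ∀ x, glLin g x = x + T.tau p (Y (T.C' p x))) ⟨1, one_mem _, fun x => by simp⟩
      ?_ ?_ (k • LinearMap.id) (fun b => by simp [haltB])
    · obtain ⟨g, hg, hgx⟩ := h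
      exact ⟨g, hg, fun x => by rw [hgx]; simp⟩
    · rintro Y Z ⟨g, hg, hgx⟩ ⟨g', hg', hgx'⟩
      refine ⟨g * g', mul_mem hg hg', fun x => ?_⟩
      rw [map_mul, LinearEquiv.mul_apply, hgx, hgx', map_add (T.C' p), good.C'_tau, haltA, zero_smul,
        add_zero, LinearMap.add_apply, map_add]
      abel
    · intro u d
      obtain ⟨g, hg, hgx⟩ := hroot p p u d (by rw [good.form_tau, haltA, zero_mul])
      refine ⟨g, hg, fun x => ?_⟩
      rw [hgx, pairMap_apply, TForm.rootMap, good.form_C', good.form_C', map_sub, map_smul, map_smul]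
      abel
  have htvB : ∀ (z : Fin n₂ → F) (k : F), ∃ g ∈ K, ∀ x, glLin g x = x + k • T.tau (T.C z x) z := by
    intro z k
    have h := alt_endo T.fA haltA good.nondegA
      (P := fun Y => ∃ g ∈ K, ∀ x, glLin g x = x + T.tau (Y (T.C z x)) z) ⟨1, one_mem _, fun x => by simp⟩
      ?_ ?_ (k • LinearMap.id) (fun b => by simp [haltA])
    · obtain ⟨g, hg, hgx⟩ := h
      exact ⟨g, hg, fun x => by rw [hgx]; simp⟩
    · rintro Y Z ⟨g, hg, hgx⟩ ⟨g', hg', hgx'⟩
      refine ⟨g * g', mul_mem hg hg', fun x => ?_⟩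
      rw [map_mul, LinearEquiv.mul_apply, hgx, hgx', map_add (T.C z), good.C_tau, haltB, zero_smul,
        add_zero, LinearMap.add_apply, map_add, LinearMap.add_apply]
      abel
    · intro u d
      obtain ⟨g, hg, hgx⟩ := hroot u d z z (by rw [good.form_tau, haltB, mul_zero])
      refine ⟨g, hg, fun x => ?_⟩
      rw [hgx, pairMap_apply, TForm.rootMap, good.form_C, good.form_C, map_sub, map_smul, map_smul,
        LinearMap.sub_apply, LinearMap.smul_apply, LinearMap.smul_apply]
      abel
  have tens_apply : ∀ (u : GL (Fin n₁) F) (v : GL (Fin n₂) F) x y,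
      glLin (TensorMax.tensGL e P u v) (tau x y) =
        tau ((u : Matrix (Fin n₁) (Fin n₁) F) *ᵥ x) ((v : Matrix (Fin n₂) (Fin n₂) F) *ᵥ y) := by
    intro u v x y
    rw [glLin_apply, TensorMax.tensGL_val]
    show _ *ᵥ TensorFrame.pure e P x y = TensorFrame.pure e P _ _
    rw [TensorFrame.pure_def, TensorFrame.pure_def, mulVec_mulVec, Matrix.mul_assoc, ← Units.val_mul,
      inv_mul_cancel, Units.val_one, mul_one, ← mulVec_mulVec]
    congr 1
    funext i
    simp only [mulVec, dotProduct, reindex_apply, submatrix_apply, Equiv.symm_symm, Function.comp_apply]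
    rw [Equiv.sum_comp e (fun p : Fin n₁ × Fin n₂ =>
      ((u : Matrix (Fin n₁) (Fin n₁) F) ⊗ₖ (v : Matrix (Fin n₂) (Fin n₂) F)) (e i) p * (x p.1 * y p.2)),
      Fintype.sum_prod_type, Finset.sum_mul_sum]
    exact Finset.sum_congr rfl fun p _ => Finset.sum_congr rfl fun r _ => by
      rw [kroneckerMap_apply]; ring
  -- membership of pure maps
  have mem_of_pure : ∀ (g : GL (Fin n) F) (Mf : (Fin n₁ → F) →ₗ[F] (Fin n₁ → F))
      (hf' : (Fin n₂ → F) →ₗ[F] (Fin n₂ → F)), (∀ a b, glLin g (tau a b) = tau (Mf a) (hf' b)) → g ∈ S := by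
    intro g Mf hf' hgab
    obtain ⟨a₀, ha₀⟩ : ∃ a : Fin n₁ → F, a ≠ 0 := ⟨Pi.single ⟨0, by omega⟩ 1, fun e0 => by
      simpa using congrFun e0 ⟨0, by omega⟩⟩
    obtain ⟨b₀, hb₀⟩ : ∃ b : Fin n₂ → F, b ≠ 0 := ⟨Pi.single ⟨0, by omega⟩ 1, fun e0 => by
      simpa using congrFun e0 ⟨0, by omega⟩⟩
    have hMinj : Function.Injective Mf := by
      refine (injective_iff_map_eq_zero Mf).2 fun a ha => ?_
      have h0 : tau a b₀ = 0 := (glLin g).injective (by
        rw [map_zero]
        show glLin g (T.tau a b₀) = 0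
        rw [hgab, ha, map_zero, LinearMap.zero_apply])
      by_contra ha0
      exact hb₀ (good.tau_right_inj ha0 (h0.trans (map_zero (tau a)).symm))
    have hhinj : Function.Injective hf' := by
      refine (injective_iff_map_eq_zero hf').2 fun b hb => ?_
      have h0 : tau a₀ b = 0 := (glLin g).injective (by
        rw [map_zero]
        show glLin g (T.tau a₀ b) = 0
        rw [hgab, hb, map_zero])
      exact good.tau_right_inj ha₀ (h0.trans (map_zero (tau a₀)).symm)
    obtain ⟨u, hu⟩ := (glLin (F := F) (ι := Fin n₁)).surjective (LinearEquiv.ofInjectiveEndo Mf hMinj)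
    obtain ⟨v, hv⟩ := (glLin (F := F) (ι := Fin n₂)).surjective (LinearEquiv.ofInjectiveEndo hf' hhinj)
    have hge : g = TensorMax.tensGL e P u v := glLin.injective (LinearEquiv.ext fun x =>
      LinearMap.congr_fun (good.ext_tau (f := (glLin g).toLinearMap)
        (g := (glLin (TensorMax.tensGL e P u v)).toLinearMap) fun a b => by
        show glLin g (tau a b) = glLin _ (tau a b)
        rw [tens_apply, ← glLin_apply, ← glLin_apply, hu, hv]
        exact hgab a b) x)
    rw [hge]
    exact TensorMax.tensGL_mem e P u v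
  refine ⟨lt_of_le_of_ne inf_le_right ?_, fun M hM1 hM2 => ?_⟩
  swap
  · set H : Subgroup ((Fin n → F) ≃ₗ[F] (Fin n → F)) := M.map glLin.toMonoidHom with hHdef
    have hIn : ∀ {f : (Fin n → F) → (Fin n → F)} (g : GL (Fin n) F), g ∈ S → g ∈ K →
        (∀ x, glLin g x = f x) → TForm.InH H f :=
      fun g hgS hgK hgx => ⟨glLin g, ⟨g, hM1 ⟨hgS, hgK⟩, rfl⟩, hgx⟩
    have D : TForm.SSData T Q H :=
      { good := good
        altA := haltA
        altB := haltB
        q_add := fun x y => by
          show Q (x + y) = Q x + Q y + BV x y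
          rw [hBV]; simp only [polar]; ring
        q_tau := hqt
        isom := by
          rintro _ ⟨g, hg, rfl⟩ x
          obtain ⟨g', -, rfl⟩ := (hKmap ▸ hM2 hg :)
          show Q (glLin (isomsToGL Qf g') x) = Q x
          rw [glLin_apply, isomsToGL_mulVec, ← hcoe]
          exact g'.2 x
        tvA := fun p k => by
          obtain ⟨g, hg, hgx⟩ := htvA p k
          refine hIn g (mem_of_pure g (TForm.altTv T.fA k p) LinearMap.id fun a b => ?_) hg hgx
          rw [hgx, good.C'_tau, TForm.altTv_apply]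
          simp [map_add, map_smul, smul_smul]
          rfl
        tvB := fun z k => by
          obtain ⟨g, hg, hgx⟩ := htvB z k
          refine hIn g (mem_of_pure g LinearMap.id (TForm.altTv T.fB k z) fun a b => ?_) hg hgx
          rw [hgx, good.C_tau, TForm.altTv_apply]
          simp [map_add, map_smul, smul_smul]
          rfl
        dimA := by rw [Module.finrank_fin_fun]; exact hn₁
        dimB := by rw [Module.finrank_fin_fun]; exact hn₂
        lt := by rw [Module.finrank_fin_fun, Module.finrank_fin_fun]; exact h12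
        big := fun h => by
          rw [Module.finrank_fin_fun] at h
          by_contra hno
          simp only [not_exists, not_and, not_not] at hno
          refine hex ⟨le_antisymm ?_ Fintype.one_lt_card, h⟩
          have hsub : (Finset.univ : Finset F) ⊆ {0, 1} := by
            intro R _
            simp only [Finset.mem_insert, Finset.mem_singleton]
            exact (eq_or_ne R 0).imp_right (hno R)
          have h3 := (Finset.card_le_card hsub).trans Finset.card_le_two
          rwa [Finset.card_univ] at h3 }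
    by_cases hno : TForm.NoRoot T H
    · left
      refine le_antisymm (fun g hg => ⟨?_, hM2 hg⟩) hM1
      obtain ⟨Mf, hf', hgab⟩ := D.kron_all hno (h := glLin g) ⟨g, hg, rfl⟩
      exact mem_of_pure g Mf hf' hgab
    · right
      refine le_antisymm hM2 ?_
      obtain ⟨a, ha0⟩ : ∃ a : Fin n₁ → F, a ≠ 0 := ⟨Pi.single ⟨0, by omega⟩ 1, fun e0 => by
        simpa using congrFun e0 ⟨0, by omega⟩⟩
      obtain ⟨b, hb0⟩ : ∃ b : Fin n₂ → F, b ≠ 0 := ⟨Pi.single ⟨0, by omega⟩ 1, fun e0 => by
        simpa using congrFun e0 ⟨0, by omega⟩⟩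
      obtain ⟨a', ha'⟩ : ∃ a', T.fA a a' ≠ 0 := by
        by_contra h
        simp only [not_exists, not_not] at h
        exact ha0 (good.nondegA a h)
      obtain ⟨b', hb'⟩ : ∃ b', T.fB b b' ≠ 0 := by
        by_contra h
        simp only [not_exists, not_not] at h
        exact hb0 (good.nondegB b h)
      have hfull : ∀ (a : Fin n₁ → F) (b : Fin n₂ → F), a ≠ 0 → b ≠ 0 →
          OrthSub.Full (M.comap (isomsToGL Qf)) (T.tau a b) := by
        intro a b ha hb w hw
        obtain ⟨k, ⟨g, hg, rfl⟩, hgx⟩ := D.full_pure hno ha hb w hw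
        show isomsToGL Qf _ ∈ M
        suffices h : isomsToGL Qf (CfsgLib.Classical.siegel Qf (T.tau a b) w) = g by rw [h]; exact hg
        refine glLin.injective (LinearEquiv.ext fun x => ?_)
        rw [glLin_apply, isomsToGL_mulVec, CfsgLib.Classical.siegel_apply Qf (hqt' _ _) hw]
        exact (hgx x).symm
      have hne : polar Qf (T.tau a b) (T.tau a' b') ≠ 0 := by
        show T.form (T.tau a b) (T.tau a' b') ≠ 0
        rw [good.form_tau]
        exact mul_ne_zero ha' hb'
      have hle := OrthSub.commutator_le_of_pair hsep h5 (hfull a b ha0 hb0)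
        (hfull a' b' (fun e0 => ha' (by simp [e0])) (fun e0 => hb' (by simp [e0]))) (hqt' _ _) (hqt' _ _) hne
      rw [hKmap]
      rintro _ ⟨g, hg, rfl⟩
      exact hle hg
  -- a root element is not pure
  intro hEq
  obtain ⟨p, hp⟩ : ∃ a : Fin n₁ → F, a ≠ 0 := ⟨Pi.single ⟨0, by omega⟩ 1, fun e0 => by
    simpa using congrFun e0 ⟨0, by omega⟩⟩
  obtain ⟨a, hap⟩ : ∃ a, T.fA a p = 1 := by
    obtain ⟨y, hy⟩ : ∃ y, T.fA y p ≠ 0 := by
      by_contra h
      simp only [not_exists, not_not] at h
      exact hp (good.nondegA p fun y => good.A_flip_zero (h y))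
    exact ⟨(T.fA y p)⁻¹ • y, by rw [map_smul, LinearMap.smul_apply, smul_eq_mul, inv_mul_cancel₀ hy]⟩
  obtain ⟨z, hz⟩ : ∃ b : Fin n₂ → F, b ≠ 0 := ⟨Pi.single ⟨0, by omega⟩ 1, fun e0 => by
    simpa using congrFun e0 ⟨0, by omega⟩⟩
  obtain ⟨b, hbz, hzb⟩ := good.exists_partner hz
  obtain ⟨d, d', hdz, hdb, -, -, hdd⟩ := TForm.exists_perp_pair T.fB haltB good.nondegB
    (by rw [Module.finrank_fin_fun]; omega) z b
  obtain ⟨g, hgK, hgx⟩ := hroot p p z d (by rw [good.form_tau, haltA, zero_mul])
  have hgS : g ∈ S := by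
    have : g ∈ S ⊓ K := by rw [hEq]; exact hgK
    exact this.1
  obtain ⟨au, bv, hab⟩ := TensorFrame.tensor_mem hgS
  have h := hab a b
  change glLin g (T.tau a b) = T.tau _ _ at h
  rw [hgx, TForm.rootMap, good.form_tau, good.form_tau, hap, hbz, good.B_flip_zero hdb, mul_one, mul_zero,
    zero_smul, sub_zero, one_smul] at h
  have h1 := congrArg (T.C b) h
  rw [map_add, good.C_tau, good.C_tau, good.C_tau, haltB, hdb, zero_smul, zero_smul, add_zero] at h1
  have h2 := congrArg (T.C z) h
  rw [map_add, good.C_tau, good.C_tau, good.C_tau, hbz, hdz, zero_smul, add_zero, one_smul] at h2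
  have h3 := congrArg (fun y => T.C' a y) h
  simp only [map_add, good.C'_tau, haltA, good.A_flip_zero, zero_smul, zero_add] at h3
  have hpa : T.fA p a = -1 := by
    have := TForm.alt_swap T.fA haltA a p
    rw [this, hap]
  rw [hpa] at h3
  -- `d` would be a multiple of the image of `b`
  have h4 := congrArg (fun y => T.fA y a) h2
  simp only [haltA, map_smul, LinearMap.smul_apply, smul_eq_mul] at h4
  have h5' := congrArg (fun y => T.fB y z) h3
  simp only [map_smul, LinearMap.smul_apply, smul_eq_mul, hdz, mul_zero] at h5'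
  rcases mul_eq_zero.1 h4.symm with h6 | h6
  · rw [h6, zero_smul] at h2
    exact absurd (h2 ▸ hap : T.fA 0 p = 1) (by simp)
  · rw [h6, zero_smul, neg_smul, one_smul, neg_eq_zero] at h3
    rw [h3] at hdd
    simp at hdd

end CfsgLib.MaxSub.TensorSS
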