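import Mathlib

/-!
Overgroups of the rational symplectic group in four dimensions, odd characteristic: the calculus of transvections
and of the radical elements at a point, and an irrational transvection parameter from an irrational point
orthogonal to a rational vector.

`InT M v c` is the transvection `y ↦ y + c B(y,v) v`, and `InQ M u d k` the element
`y ↦ y + B(y,d) u + B(y,u) d + k B(y,u) u` for `d ⊥ u`.
-/

set_option autoImplicit false
set_option linter.unusedSectionVars false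
set_option synthInstance.maxHeartbeats 400000

namespace CfsgLib.MaxSub.SpSubOdd

variable {F V : Type*} [Field F] [AddCommGroup V] [Module F V]

/-- `M` contains the transvection with centre `v` and parameter `c` -/
def InT (B : LinearMap.BilinForm F V) (M : Subgroup (V ≃ₗ[F] V)) (v : V) (c : F) : Prop :=
  ∃ g ∈ M, ∀ y, g y = y + (c * B y v) • v

/-- `M` contains the element of the radical at `u` -/
def InQ (B : LinearMap.BilinForm F V) (M : Subgroup (V ≃ₗ[F] V)) (u d : V) (k : F) : Prop :=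
  ∃ g ∈ M, ∀ y, g y = y + B y d • u + B y u • d + (k * B y u) • u

/-- the point of `y` is rational -/
def IsPt {F₀ : Subfield F} (R : Submodule F₀ V) (y : V) : Prop := ∃ k : F, ∃ p ∈ R, y = k • p

/-- `g` fixes the rational structure up to a scalar -/
def IsRat {F₀ : Subfield F} (R : Submodule F₀ V) (g : V ≃ₗ[F] V) : Prop :=
  ∃ c : F, c ≠ 0 ∧ ∀ p ∈ R, c • g p ∈ R

/-- the hypotheses -/
structure Ctx (B : LinearMap.BilinForm F V) (F₀ : Subfield F) (R : Submodule F₀ V)
    (M : Subgroup (V ≃ₗ[F] V)) : Prop where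
  two : (2 : F) ≠ 0
  alt : ∀ x, B x x = 0
  sep : ∀ x, (∀ y, B y x = 0) → x = 0
  dim : Module.finrank F V = 4
  rat : ∀ p ∈ R, ∀ q ∈ R, B p q ∈ F₀
  span : Submodule.span F (R : Set V) = ⊤
  field : ∀ L : Subring F, (∀ x ∈ F₀, x ∈ L) → ∀ c ∈ L, c ∉ F₀ → ∀ x, x ∈ L
  iso : ∀ g ∈ M, ∀ x y, B (g x) (g y) = B x y
  tv : ∀ p ∈ R, ∀ s ∈ F₀, InT B M p s

namespace Ctx

variable {B : LinearMap.BilinForm F V} {F₀ : Subfield F} {R : Submodule F₀ V}
  {M : Subgroup (V ≃ₗ[F] V)} (C : Ctx B F₀ R M)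

include C

theorem smul_mem {p : V} (hp : p ∈ R) {c : F} (hc : c ∈ F₀) : c • p ∈ R :=
  R.smul_mem (⟨c, hc⟩ : F₀) hp

theorem swap (x y : V) : B y x = -B x y := by
  have h := C.alt (x + y)
  simp only [map_add, LinearMap.add_apply, C.alt] at h
  linear_combination h

theorem perp {x y : V} (h : B x y = 0) : B y x = 0 := by rw [C.swap, h, neg_zero]

theorem eq_zero_of_rat {x : V} (h : ∀ p ∈ R, B p x = 0) : x = 0 := by
  refine C.sep x fun y => ?_
  have : Submodule.span F (R : Set V) ≤ LinearMap.ker (B.flip x) := by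
    refine Submodule.span_le.2 fun p hp => ?_
    simpa using h p hp
  have := this (C.span.symm ▸ Submodule.mem_top : y ∈ Submodule.span F (R : Set V))
  simpa using this

variable [Finite F] [FiniteDimensional F V]

/-- rational vectors realise all rational functionals -/
theorem exists_dual (φ : R →ₗ[F₀] F₀) : ∃ z ∈ R, ∀ x : R, B z (x : V) = φ x := by
  haveI : Finite V := Module.finite_of_finite F
  haveI : Module.Finite F₀ R := Module.Finite.of_finite
  let Φ : R →ₗ[F₀] Module.Dual F₀ R :=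
    { toFun := fun z =>
        { toFun := fun x => ⟨B (z : V) (x : V), C.rat _ z.2 _ x.2⟩
          map_add' := fun x y => Subtype.ext (by simp)
          map_smul' := fun c x => Subtype.ext (by
            show B (z : V) ((c : F) • (x : V)) = (c : F) * B (z : V) (x : V)
            rw [map_smul, smul_eq_mul]) }
      map_add' := fun z z' => LinearMap.ext fun x => Subtype.ext (by simp)
      map_smul' := fun c z => LinearMap.ext fun x => Subtype.ext (by
        show B ((c : F) • (z : V)) (x : V) = (c : F) * B (z : V) (x : V)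
        rw [map_smul, LinearMap.smul_apply, smul_eq_mul]) }
  have hinj : Function.Injective Φ := by
    rw [← LinearMap.ker_eq_bot, Submodule.eq_bot_iff]
    intro z hz
    refine Subtype.ext (C.eq_zero_of_rat fun p hp => ?_)
    have := congrArg (fun f : Module.Dual F₀ R => ((f ⟨p, hp⟩ : F₀) : F)) hz
    exact C.perp (by simpa [Φ] using this)
  obtain ⟨z, hz⟩ := (LinearMap.injective_iff_surjective_of_finrank_eq_finrank
    Subspace.dual_finrank_eq.symm).1 hinj φ
  exact ⟨z, z.2, fun x => by rw [← hz]; rfl⟩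

theorem exists_one {p : V} (hp : p ∈ R) (hp0 : p ≠ 0) : ∃ z ∈ R, B z p = 1 := by
  by_contra hno
  push Not at hno
  refine hp0 (C.eq_zero_of_rat fun z hz => ?_)
  by_contra h
  refine hno ((B z p)⁻¹ • z) (C.smul_mem hz (inv_mem (C.rat _ hz _ hp))) ?_
  rw [map_smul, LinearMap.smul_apply, smul_eq_mul, inv_mul_cancel₀ h]

/-- a rational vector orthogonal to `u` with value one at `w` -/
theorem exists_sep {u w : V} (hu : u ∈ R) (hw : w ∈ R) (h : ∀ s ∈ F₀, w ≠ s • u) :
    ∃ z ∈ R, B z u = 0 ∧ B z w = 1 := by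
  obtain ⟨φ, hφw, hφ⟩ := Submodule.exists_dual_map_eq_bot_of_notMem
    (p := Submodule.span F₀ {(⟨u, hu⟩ : R)}) (x := ⟨w, hw⟩) (fun hm => by
      obtain ⟨s, hs⟩ := Submodule.mem_span_singleton.1 hm
      have e := congrArg Subtype.val hs
      exact h s s.2 e.symm) inferInstance
  obtain ⟨z, hz, hzφ⟩ := C.exists_dual φ
  have h1 : φ ⟨u, hu⟩ = 0 := (Submodule.mem_bot F₀).1
    (hφ ▸ Submodule.mem_map_of_mem (Submodule.subset_span rfl))
  have hne : B z w ≠ 0 := by rw [hzφ ⟨w, hw⟩]; exact fun e => hφw (Subtype.ext e)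
  refine ⟨(B z w)⁻¹ • z, C.smul_mem hz (inv_mem (C.rat _ hz _ hw)), ?_, ?_⟩
  · rw [map_smul, LinearMap.smul_apply, smul_eq_mul, hzφ ⟨u, hu⟩, h1]
    simp
  · rw [map_smul, LinearMap.smul_apply, smul_eq_mul, inv_mul_cancel₀ hne]

/-- a second rational direction orthogonal to `u` -/
theorem exists_orth {u : V} (hu : u ∈ R) (hu0 : u ≠ 0) :
    ∃ w ∈ R, B w u = 0 ∧ ∀ s ∈ F₀, w ≠ s • u := by
  by_contra hno
  push Not at hno
  obtain ⟨v, hv, hvu⟩ := C.exists_one hu hu0
  classical
  have hle : Submodule.span F (R : Set V) ≤ Submodule.span F (({u, v} : Finset V) : Set V) := by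
    refine Submodule.span_le.2 fun p hp => ?_
    obtain ⟨s, -, hs⟩ := hno (p - B p u • v) (sub_mem hp (C.smul_mem hv (C.rat _ hp _ hu))) (by
      rw [map_sub, LinearMap.sub_apply, map_smul, LinearMap.smul_apply, hvu, smul_eq_mul, mul_one, sub_self])
    rw [show p = (p - B p u • v) + B p u • v by abel, hs]
    exact Submodule.add_mem _ (Submodule.smul_mem _ _ (Submodule.subset_span (by simp)))
      (Submodule.smul_mem _ _ (Submodule.subset_span (by simp)))
  rw [C.span] at hle
  have h1 := Submodule.finrank_mono hle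
  have h2 := finrank_span_finset_le_card (R := F) ({u, v} : Finset V)
  have h3 : ({u, v} : Finset V).card ≤ 2 := Finset.card_le_two
  rw [finrank_top, C.dim] at h1
  simp only [Set.finrank] at h2
  omega

/-! ### calculus -/

theorem inT_conj {g : V ≃ₗ[F] V} (hg : g ∈ M) {v : V} {c : F} (h : InT B M v c) :
    InT B M (g v) c := by
  obtain ⟨t, ht, htv⟩ := h
  refine ⟨g * t * g⁻¹, mul_mem (mul_mem hg ht) (inv_mem hg), fun y => ?_⟩
  have e : g (g⁻¹ y) = y := g.apply_symm_apply y
  rw [LinearEquiv.mul_apply, LinearEquiv.mul_apply, htv, map_add, map_smul, e,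
    ← C.iso g hg (g⁻¹ y) v, e]

theorem inT_smul {v : V} {a c : F} : InT B M (a • v) c ↔ InT B M v (a ^ 2 * c) := by
  have : ∀ y, (c * B y (a • v)) • a • v = (a ^ 2 * c * B y v) • v := fun y => by
    rw [map_smul, smul_eq_mul, smul_smul]; congr 1; ring
  simp only [InT, this]

theorem inT_add {v : V} {a b : F} (h : InT B M v a) (h' : InT B M v b) : InT B M v (a + b) := by
  obtain ⟨g, hg, hgv⟩ := h
  obtain ⟨g', hg', hgv'⟩ := h'
  refine ⟨g * g', mul_mem hg hg', fun y => ?_⟩
  rw [LinearEquiv.mul_apply, hgv, hgv', map_add, LinearMap.add_apply, map_smul,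
    LinearMap.smul_apply, C.alt, smul_eq_mul]
  module

theorem inT_zero (v : V) : InT B M v 0 := ⟨1, one_mem M, fun y => by simp⟩

theorem inT_neg {v : V} {c : F} (h : InT B M v c) : InT B M v (-c) := by
  obtain ⟨g, hg, hgv⟩ := h
  refine ⟨g⁻¹, inv_mem hg, fun y => g.injective ?_⟩
  rw [show g (g⁻¹ y) = y from g.apply_symm_apply y, hgv]
  simp only [map_add, map_smul, LinearMap.add_apply, LinearMap.smul_apply, C.alt, smul_eq_mul, mul_zero, add_zero]
  module

theorem inQ_to_inT {u : V} {c : F} (h : InQ B M u 0 c) : InT B M u c := by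
  obtain ⟨g, hg, hgv⟩ := h
  exact ⟨g, hg, fun y => by rw [hgv, map_zero, zero_smul, smul_zero, add_zero, add_zero]⟩

theorem inQ_mul {u d d' : V} {k k' : F} (hd : B d u = 0) (hd' : B d' u = 0) (h : InQ B M u d k)
    (h' : InQ B M u d' k') : InQ B M u (d + d') (k + k' + B d' d) := by
  obtain ⟨g, hg, hgv⟩ := h
  obtain ⟨g', hg', hgv'⟩ := h'
  refine ⟨g * g', mul_mem hg hg', fun y => ?_⟩
  have e1 : B (g' y) u = B y u := by rw [hgv']; simp [C.alt, hd']
  have e2 : B (g' y) d = B y d + B y u * B d' d := by rw [hgv']; simp [C.perp hd]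
  rw [LinearEquiv.mul_apply, hgv, e1, e2, hgv', map_add]
  module

theorem inQ_neg {u d : V} {k : F} (hd : B d u = 0) (h : InQ B M u d k) : InQ B M u (-d) (-k) := by
  obtain ⟨g, hg, hgv⟩ := h
  refine ⟨g⁻¹, inv_mem hg, fun y => g.injective ?_⟩
  rw [show g (g⁻¹ y) = y from g.apply_symm_apply y, hgv]
  simp only [map_add, map_smul, map_neg, LinearMap.add_apply, LinearMap.smul_apply, LinearMap.neg_apply, C.alt,
    hd, C.perp hd, smul_eq_mul, mul_zero, neg_zero, add_zero]
  module

/-- the commutator of two radical elements -/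
theorem inT_comm {u d d' : V} {k k' : F} (hd : B d u = 0) (hd' : B d' u = 0) (h : InQ B M u d k)
    (h' : InQ B M u d' k') : InT B M u (2 * B d' d) := by
  have h1 := C.inQ_mul hd hd' h h'
  have h2 := C.inQ_neg (by rw [map_add, LinearMap.add_apply, hd', hd, add_zero]) (C.inQ_mul hd' hd h' h)
  have h3 := C.inQ_mul (by rw [map_add, LinearMap.add_apply, hd, hd', add_zero])
    (by rw [map_neg, LinearMap.neg_apply, map_add, LinearMap.add_apply, hd', hd, add_zero, neg_zero]) h1 h2
  rw [show d + d' + -(d' + d) = 0 by abel, map_neg, LinearMap.neg_apply, add_comm d' d, C.alt, neg_zero,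
    add_zero, C.swap d' d] at h3
  have := C.inQ_to_inT h3
  convert this using 1
  ring

/-- a radical element from three transvections -/
theorem inQ_of_three {u d : V} {c : F} (hd : B d u = 0) (h : InT B M (u + d) c) (hu : InT B M u c)
    (hdd : InT B M d c) : InQ B M u (c • d) 0 := by
  obtain ⟨g, hg, hgv⟩ := h
  obtain ⟨g', hg', hgv'⟩ := C.inT_neg hu
  obtain ⟨g'', hg'', hgv''⟩ := C.inT_neg hdd
  refine ⟨g * (g' * g''), mul_mem hg (mul_mem hg' hg''), fun y => ?_⟩
  rw [LinearEquiv.mul_apply, LinearEquiv.mul_apply, hgv, hgv', hgv'']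
  simp only [map_add, map_smul, LinearMap.add_apply, LinearMap.smul_apply, C.alt, hd, C.perp hd, smul_eq_mul,
    mul_zero, add_zero]
  module

/-- the rational root elements -/
theorem root {u w : V} (hu : u ∈ R) (hw : w ∈ R) (huw : B w u = 0) : InQ B M u w 0 := by
  have := C.inQ_of_three huw (C.tv _ (add_mem hu hw) 1 (one_mem _)) (C.tv _ hu 1 (one_mem _))
    (C.tv _ hw 1 (one_mem _))
  rwa [one_smul] at this

/-! ### an irrational parameter -/

/-- an irrational point orthogonal to a rational vector gives an irrational parameter -/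
theorem param_of_orth {x u : V} (hxn : ¬ IsPt R x) (hxT : InT B M x 1) (hu : u ∈ R) (hu0 : u ≠ 0)
    (hxu : B x u = 0) : ∃ p ∈ R, p ≠ 0 ∧ ∃ c ∉ F₀, InT B M p c := by
  have h2 := C.two
  obtain ⟨v₁, hv₁, hv₁u⟩ := C.exists_one hu hu0
  obtain ⟨v, hv⟩ : ∃ v, v = -v₁ := ⟨_, rfl⟩
  have hvR : v ∈ R := hv ▸ neg_mem hv₁
  have huv : B u v = 1 := by rw [hv, map_neg, C.swap v₁ u, neg_neg, hv₁u]
  have hvu : B v u = -1 := by rw [C.swap, huv]
  have hproj : ∀ p ∈ R, p + B p u • v ∈ R ∧ B (p + B p u • v) u = 0 := fun p hp =>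
    ⟨add_mem hp (C.smul_mem hvR (C.rat _ hp _ hu)), by
      rw [map_add, LinearMap.add_apply, map_smul, LinearMap.smul_apply, hvu, smul_eq_mul]; ring⟩
  obtain ⟨w, hw, hwu, hxw⟩ : ∃ w ∈ R, B w u = 0 ∧ B x w ≠ 0 := by
    by_contra hno
    push Not at hno
    refine hxn ⟨-B v x, u, hu, ?_⟩
    rw [← sub_eq_zero]
    refine C.eq_zero_of_rat fun p hp => ?_
    obtain ⟨h1, h2⟩ := hproj p hp
    have h3 := C.perp (hno _ h1 h2)
    rw [map_add, LinearMap.add_apply, map_smul, LinearMap.smul_apply, smul_eq_mul] at h3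
    rw [map_sub, map_smul, smul_eq_mul]
    linear_combination h3
  obtain ⟨α, hα⟩ : ∃ α, α = B x w := ⟨_, rfl⟩
  rw [← hα] at hxw
  have hαu : B (α • x) u = 0 := by rw [map_smul, LinearMap.smul_apply, hxu, smul_zero]
  have hA : InQ B M u (α • x) (α * α) := by
    obtain ⟨e, he, hev⟩ := C.root hu hw hwu
    have h1 := C.inT_conj he hxT
    rw [hev x, hxu, zero_smul, mul_zero, zero_smul, add_zero, add_zero, ← hα] at h1
    obtain ⟨g, hg, hgv⟩ := h1
    obtain ⟨g', hg', hgv'⟩ := C.inT_neg hxT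
    refine ⟨g * g', mul_mem hg hg', fun y => ?_⟩
    rw [LinearEquiv.mul_apply, hgv, hgv']
    simp only [map_add, map_smul, LinearMap.add_apply, LinearMap.smul_apply, C.alt, hxu, smul_eq_mul]
    module
  by_cases hcase : ∃ w' ∈ R, B w' u = 0 ∧ 2 * B w' (α • x) ∉ F₀
  · obtain ⟨w', hw', hw'u, hn⟩ := hcase
    exact ⟨u, hu, hu0, _, hn, C.inT_comm hαu hw'u hA (C.root hu hw' hw'u)⟩
  push Not at hcase
  have hcase' : ∀ w' ∈ R, B w' u = 0 → B w' (α • x) ∈ F₀ := fun w' hw' hw'u => by
    have := mul_mem (inv_mem (natCast_mem F₀ 2)) (hcase w' hw' hw'u)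
    rwa [Nat.cast_ofNat, inv_mul_cancel_left₀ h2] at this
  have hα2 : α * α ∈ F₀ := by
    have := neg_mem (hcase' w hw hwu)
    rwa [map_smul, smul_eq_mul, C.swap x w, ← hα, mul_neg, neg_neg] at this
  obtain ⟨γ, hγd⟩ : ∃ γ, γ = -B v (α • x) := ⟨_, rfl⟩
  have hmemF : ∀ p ∈ R, B p (α • x) - B p u * γ ∈ F₀ := fun p hp => by
    obtain ⟨h1, h2⟩ := hproj p hp
    have := hcase' _ h1 h2
    rw [map_add, LinearMap.add_apply, map_smul B (B p u) v, LinearMap.smul_apply, smul_eq_mul] at this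
    rw [hγd]
    convert this using 1
    ring
  let φ : R →ₗ[F₀] F₀ :=
    { toFun := fun z => ⟨B (z : V) (α • x) - B (z : V) u * γ, hmemF _ z.2⟩
      map_add' := fun z z' => Subtype.ext (by
        show B ((z : V) + (z' : V)) (α • x) - B ((z : V) + (z' : V)) u * γ =
          (B (z : V) (α • x) - B (z : V) u * γ) + (B (z' : V) (α • x) - B (z' : V) u * γ)
        rw [map_add, LinearMap.add_apply, LinearMap.add_apply]; ring)
      map_smul' := fun c z => Subtype.ext (by
        show B ((c : F) • (z : V)) (α • x) - B ((c : F) • (z : V)) u * γ =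
          (c : F) * (B (z : V) (α • x) - B (z : V) u * γ)
        rw [map_smul B (c : F) (z : V), LinearMap.smul_apply, LinearMap.smul_apply, smul_eq_mul, smul_eq_mul]
        ring) }
  obtain ⟨r₀, hr₀, hr₀φ⟩ := C.exists_dual φ
  obtain ⟨r, hr_def⟩ : ∃ r, r = -r₀ := ⟨_, rfl⟩
  have hr : r ∈ R := hr_def ▸ neg_mem hr₀
  have hrz : ∀ p ∈ R, B p r = B p (α • x) - B p u * γ := fun p hp => by
    rw [hr_def, map_neg, C.swap r₀ p, neg_neg]
    exact hr₀φ ⟨p, hp⟩
  have hur : B u r = 0 := by rw [hrz u hu, C.perp hαu, C.alt, zero_mul, sub_zero]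
  have heq : α • x = r + γ • u := by
    rw [← sub_eq_zero]
    refine C.eq_zero_of_rat fun p hp => ?_
    rw [map_sub, map_add, map_smul (B p) γ, smul_eq_mul, hrz p hp]
    ring
  have hpt : ∀ z ∈ R, α • x ≠ z := fun z hz e => hxn ⟨α⁻¹, z, hz, by rw [← e, inv_smul_smul₀ hxw]⟩
  have hγ : γ ∉ F₀ := fun hg => hpt _ (add_mem hr (C.smul_mem hu hg)) heq
  have hrs : ∀ s ∈ F₀, r ≠ s • u := fun s hs e => hxn ⟨α⁻¹ * (s + γ), u, hu, by
    rw [mul_smul, add_smul, ← e, ← heq, inv_smul_smul₀ hxw]⟩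
  -- the transvection at the irrational point of the line
  obtain ⟨a, ha⟩ : ∃ a, a = (α * α)⁻¹ := ⟨_, rfl⟩
  have ha0 : a ≠ 0 := ha ▸ inv_ne_zero (mul_ne_zero hxw hxw)
  have haF : a ∈ F₀ := ha ▸ inv_mem hα2
  have hT : InT B M (r + γ • u) a := by
    rw [← heq, C.inT_smul, ha, ← sq, mul_inv_cancel₀ (pow_ne_zero 2 hxw)]
    exact hxT
  have hB : InQ B M u ((a * γ) • r) (a * γ * γ) := by
    obtain ⟨g, hg, hgv⟩ := hT
    obtain ⟨g', hg', hgv'⟩ := C.inT_neg (C.tv r hr a haF)
    refine ⟨g * g', mul_mem hg hg', fun y => ?_⟩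
    rw [LinearEquiv.mul_apply, hgv, hgv']
    simp only [map_add, map_smul, LinearMap.add_apply, LinearMap.smul_apply, C.alt, hur, C.perp hur,
      smul_eq_mul]
    module
  obtain ⟨w', hw', hw'u, hw'r⟩ := C.exists_sep hu hr hrs
  refine ⟨u, hu, hu0, _, fun hm => hγ ?_, C.inT_comm (by
    rw [map_smul, LinearMap.smul_apply, C.perp hur, smul_zero]) hw'u hB (C.root hu hw' hw'u)⟩
  rw [map_smul, hw'r, smul_eq_mul, mul_one] at hm
  have := mul_mem (inv_mem (mul_mem (natCast_mem F₀ 2) haF)) hm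
  rwa [Nat.cast_ofNat, ← mul_assoc (2 : F), inv_mul_cancel_left₀ (mul_ne_zero h2 ha0)] at this

end Ctx

end CfsgLib.MaxSub.SpSubOdd
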