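import Cfsg.Agent.Lib.MaxSub.SpSubOdd
import Cfsg.Agent.S0801

/-!
Overgroups of the rational symplectic group in four dimensions, odd characteristic, that move the rational
structure contain every transvection.
-/

set_option autoImplicit false
set_option linter.unusedSectionVars false
set_option synthInstance.maxHeartbeats 400000

namespace CfsgLib.MaxSub.SpSubOdd

open scoped MatrixGroups

variable {F V : Type*} [Field F] [Finite F] [AddCommGroup V] [Module F V] [FiniteDimensional F V]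

namespace Ctx

variable {B : LinearMap.BilinForm F V} {F₀ : Subfield F} {R : Submodule F₀ V}
  {M : Subgroup (V ≃ₗ[F] V)} (C : Ctx B F₀ R M)

include C

theorem isRat_of_forall {g : V ≃ₗ[F] V} (h : ∀ p ∈ R, IsPt R (g p)) : IsRat R g := by
  by_cases hall : ∀ p ∈ R, p = 0
  · exact ⟨1, one_ne_zero, fun p hp => by rw [hall p hp, map_zero, smul_zero]; exact zero_mem R⟩
  push Not at hall
  obtain ⟨p₁, hp₁, hp₁0⟩ := hall
  obtain ⟨k, r₁, hr₁, e₁⟩ := h p₁ hp₁
  have hk : k ≠ 0 := fun e => hp₁0 (g.injective (by rw [e₁, e, zero_smul, map_zero]))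
  have hr₁0 : r₁ ≠ 0 := fun e => hp₁0 (g.injective (by rw [e₁, e, smul_zero, map_zero]))
  refine ⟨k⁻¹, inv_ne_zero hk, fun p hp => ?_⟩
  by_cases hdep : ∃ s ∈ F₀, p = s • p₁
  · obtain ⟨s, hs, rfl⟩ := hdep
    rw [map_smul, e₁, smul_comm s k, inv_smul_smul₀ hk]
    exact C.smul_mem hr₁ hs
  push Not at hdep
  obtain ⟨k', r, hr, e⟩ := h p hp
  obtain ⟨k'', s, hs, e'⟩ := h (p + p₁) (add_mem hp hp₁)
  have hr0 : r ≠ 0 := fun e0 => hdep 0 (zero_mem _) (g.injective (by
    rw [e, e0, smul_zero, zero_smul, map_zero]))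
  obtain ⟨z₀, hz₀, hz₀p⟩ := C.exists_sep hp₁ hp hdep
  have hne : ∀ t ∈ F₀, r ≠ t • r₁ := by
    intro t _ et
    have : p = (k' * t / k) • p₁ := g.injective (by
      rw [e, et, map_smul, e₁, smul_smul, smul_smul]; congr 1; field_simp)
    have h1 := hz₀p.2
    rw [this, map_smul, hz₀p.1, smul_zero] at h1
    exact zero_ne_one h1
  have hne' : ∀ t ∈ F₀, r₁ ≠ t • r := by
    intro t ht et
    have ht0 : t ≠ 0 := fun e0 => hr₁0 (by rw [et, e0, zero_smul])
    exact hne t⁻¹ (inv_mem ht) (by rw [et, inv_smul_smul₀ ht0])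
  rw [map_add, e, e₁] at e'
  obtain ⟨z, hz, hzr, hzr₁⟩ := C.exists_sep hr hr₁ hne'
  obtain ⟨z', hz', hz'r₁, hz'r⟩ := C.exists_sep hr₁ hr hne
  have h1 := congrArg (B z) e'
  have h2 := congrArg (B z') e'
  simp only [map_add, map_smul, smul_eq_mul, hzr, hzr₁, hz'r, hz'r₁, mul_zero, mul_one, zero_add,
    add_zero] at h1 h2
  rw [e, smul_smul]
  refine C.smul_mem hr ?_
  have hk'' : k'' ≠ 0 := fun e0 => hk (by rw [h1, e0, zero_mul])
  rw [show k⁻¹ * k' = B z' s / B z s by
    rw [h1, h2, mul_inv, ← mul_assoc, mul_comm k''⁻¹ (B z s)⁻¹, mul_assoc (B z s)⁻¹,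
      inv_mul_cancel₀ hk'', mul_one, div_eq_inv_mul]]
  exact div_mem (C.rat _ hz' _ hs) (C.rat _ hz _ hs)

/-- four rational dimensions -/
theorem four_le : 4 ≤ Module.finrank F₀ R := by
  classical
  haveI : Finite V := Module.finite_of_finite F
  haveI : Module.Finite F₀ R := Module.Finite.of_finite
  obtain ⟨S, hS⟩ : ∃ S, S = Finset.univ.image fun i => ((Module.finBasis F₀ R i : R) : V) := ⟨_, rfl⟩
  have hle : Submodule.span F (R : Set V) ≤ Submodule.span F (S : Set V) := Submodule.span_le.2 fun p hp => by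
    have hs := congrArg Subtype.val ((Module.finBasis F₀ R).sum_repr ⟨p, hp⟩)
    simp only [AddSubmonoidClass.coe_finsetSum, SetLike.val_smul] at hs
    rw [← hs]
    refine Submodule.sum_mem _ fun i _ => ?_
    exact (Submodule.span F (S : Set V)).smul_mem (((Module.finBasis F₀ R).repr ⟨p, hp⟩ i : F₀) : F)
      (Submodule.subset_span (by rw [hS]; simp))
  rw [C.span] at hle
  have h1 := Submodule.finrank_mono hle
  have h2 := finrank_span_finset_le_card (R := F) S
  have h3 : S.card ≤ Module.finrank F₀ R := by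
    rw [hS]
    exact Finset.card_image_le.trans (by simp)
  rw [finrank_top, C.dim] at h1
  simp only [Set.finrank] at h2
  omega

/-- an irrational transvection parameter -/
theorem irrational_param (hex : ∃ g ∈ M, ¬ IsRat R g) : ∃ p ∈ R, p ≠ 0 ∧ ∃ c ∉ F₀, InT B M p c := by
  classical
  have h2 := C.two
  obtain ⟨g, hg, hgn⟩ := hex
  obtain ⟨p₀, hp₀, hxn⟩ : ∃ p ∈ R, ¬ IsPt R (g p) := by
    by_contra hno
    push Not at hno
    exact hgn (C.isRat_of_forall hno)
  obtain ⟨x, hx⟩ : ∃ x, x = g p₀ := ⟨_, rfl⟩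
  rw [← hx] at hxn
  have hxT : InT B M x 1 := hx ▸ C.inT_conj hg (C.tv p₀ hp₀ 1 (one_mem _))
  by_cases horth : ∃ u ∈ R, u ≠ 0 ∧ B x u = 0
  · obtain ⟨u, hu, hu0, hxu⟩ := horth
    exact C.param_of_orth hxn hxT hu hu0 hxu
  push Not at horth
  have hval : ∀ u ∈ R, u ≠ 0 → B u x ≠ 0 := fun u hu hu0 e => horth u hu hu0 (C.perp e)
  obtain ⟨p₁, hp₁, hp₁0⟩ : ∃ p ∈ R, p ≠ 0 := by
    by_contra hno
    push Not at hno
    exact hgn ⟨1, one_ne_zero, fun q hq => by rw [hno q hq, map_zero, smul_zero]; exact zero_mem R⟩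
  obtain ⟨w, hw, -, hwn⟩ := C.exists_orth hp₁ hp₁0
  obtain ⟨p, hp, hp0, hμ⟩ : ∃ p ∈ R, p ≠ 0 ∧ B p x * B p x ∉ F₀ := by
    by_contra hno
    push Not at hno
    have hw0 : w ≠ 0 := fun e => hwn 0 (zero_mem _) (by rw [e, zero_smul])
    have hwp : w + p₁ ≠ 0 := fun e => hwn (-1) (neg_mem (one_mem _)) (by
      rw [eq_neg_of_add_eq_zero_left e, neg_one_smul])
    have ha := hno p₁ hp₁ hp₁0
    have hb := hno w hw hw0
    have hab := hno (w + p₁) (add_mem hw hp₁) hwp
    simp only [map_add, LinearMap.add_apply] at hab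
    obtain ⟨t, ht⟩ : ∃ t, t = B w x / B p₁ x := ⟨_, rfl⟩
    have hp₁x := hval p₁ hp₁ hp₁0
    have htF : t ∈ F₀ := by
      have hm := div_mem (mul_mem (inv_mem (natCast_mem F₀ 2)) (sub_mem (sub_mem hab hb) ha)) ha
      rw [ht]
      convert hm using 1
      rw [Nat.cast_ofNat]
      field_simp
      ring
    refine hval (w - t • p₁) (sub_mem hw (C.smul_mem hp₁ htF)) (fun e => hwn t htF (sub_eq_zero.1 e)) ?_
    rw [map_sub, LinearMap.sub_apply, map_smul, LinearMap.smul_apply, smul_eq_mul, ht, div_mul_cancel₀ _ hp₁x,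
      sub_self]
  obtain ⟨a, ha⟩ : ∃ a, a = B p x := ⟨_, rfl⟩
  rw [← ha] at hμ
  have ha0 : a ≠ 0 := fun e => hμ (by rw [e, mul_zero]; exact zero_mem _)
  obtain ⟨μ, hμd⟩ : ∃ μ, μ = a * a := ⟨_, rfl⟩
  rw [← hμd] at hμ
  obtain ⟨y, hy⟩ : ∃ y, y = a⁻¹ • x := ⟨_, rfl⟩
  have hpy : B p y = 1 := by rw [hy, map_smul, smul_eq_mul, ← ha, inv_mul_cancel₀ ha0]
  have hyp : B y p = -1 := by rw [C.swap, hpy]
  have hTy : InT B M y μ := by
    rw [hy, C.inT_smul, hμd, inv_pow, sq, inv_mul_cancel₀ (mul_ne_zero ha0 ha0)]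
    exact hxT
  refine ⟨p, hp, hp0, -μ, fun e => hμ (neg_neg μ ▸ neg_mem e), ?_⟩
  -- the two transvections generate the special linear group over the field of `μ`
  obtain ⟨L, hL⟩ : ∃ L, L = Subfield.closure ({μ} : Set F) := ⟨_, rfl⟩
  have hμL : μ ∈ L := hL ▸ Subfield.subset_closure rfl
  obtain ⟨Rep, hRep⟩ : ∃ Rep : SL(2, L) → (V ≃ₗ[F] V) → Prop, Rep = fun A m =>
      m y = ((A.1 0 0 : L) : F) • y + ((A.1 1 0 : L) : F) • p ∧
      m p = ((A.1 0 1 : L) : F) • y + ((A.1 1 1 : L) : F) • p ∧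
      ∀ z, B z y = 0 → B z p = 0 → m z = z := ⟨_, rfl⟩
  let S : Subgroup SL(2, L) :=
    { carrier := {A | ∃ m ∈ M, Rep A m}
      one_mem' := ⟨1, one_mem M, by rw [hRep]; simp⟩
      mul_mem' := by
        rintro A A' ⟨m, hm, h⟩ ⟨m', hm', h'⟩
        rw [hRep] at h h'
        obtain ⟨h1, h2', h3⟩ := h
        obtain ⟨h1', h2'', h3'⟩ := h'
        refine ⟨m * m', mul_mem hm hm', ?_⟩
        rw [hRep]
        refine ⟨?_, ?_, fun z hz1 hz2 => by rw [LinearEquiv.mul_apply, h3' z hz1 hz2, h3 z hz1 hz2]⟩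
        · rw [LinearEquiv.mul_apply, h1', map_add, map_smul, map_smul, h1, h2']
          simp only [Matrix.SpecialLinearGroup.coe_mul, Matrix.mul_apply, Fin.sum_univ_two]
          push_cast
          module
        · rw [LinearEquiv.mul_apply, h2'', map_add, map_smul, map_smul, h1, h2']
          simp only [Matrix.SpecialLinearGroup.coe_mul, Matrix.mul_apply, Fin.sum_univ_two]
          push_cast
          module
      inv_mem' := by
        rintro A ⟨m, hm, h⟩
        rw [hRep] at h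
        obtain ⟨h1, h2', h3⟩ := h
        have hdet : ((A.1 0 0 : L) : F) * ((A.1 1 1 : L) : F) - ((A.1 0 1 : L) : F) * ((A.1 1 0 : L) : F) = 1 := by
          have := A.2
          rw [Matrix.det_fin_two] at this
          exact_mod_cast congrArg Subtype.val this
        refine ⟨m⁻¹, inv_mem hm, ?_⟩
        rw [hRep]
        have hinv : ∀ z, m (m⁻¹ z) = z := fun z => m.apply_symm_apply z
        refine ⟨m.injective ?_, m.injective ?_, fun z hz1 hz2 => m.injective (by rw [hinv, h3 z hz1 hz2])⟩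
        · rw [hinv, map_add, map_smul, map_smul, h1, h2', Matrix.SpecialLinearGroup.coe_inv,
            Matrix.adjugate_fin_two]
          simp only [Matrix.of_apply, Matrix.cons_val', Matrix.cons_val_zero, Matrix.cons_val_one,
            Matrix.empty_val', Matrix.cons_val_fin_one]
          push_cast
          match_scalars <;> first | ring1 | linear_combination hdet | linear_combination (-1 : F) * hdet
        · rw [hinv, map_add, map_smul, map_smul, h1, h2', Matrix.SpecialLinearGroup.coe_inv,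
            Matrix.adjugate_fin_two]
          simp only [Matrix.of_apply, Matrix.cons_val', Matrix.cons_val_zero, Matrix.cons_val_one,
            Matrix.empty_val', Matrix.cons_val_fin_one]
          push_cast
          match_scalars <;> first | ring1 | linear_combination hdet | linear_combination (-1 : F) * hdet }
  have hsub : {g : SL(2, L) | (g : Matrix (Fin 2) (Fin 2) L) = !![1, 0; 1, 1] ∨
      (g : Matrix (Fin 2) (Fin 2) L) = !![1, ⟨μ, hμL⟩; 0, 1]} ⊆ S := by
    rintro A (hA | hA)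
    · obtain ⟨m, hm, hmv⟩ := C.tv p hp (-1) (neg_mem (one_mem _))
      refine ⟨m, hm, ?_⟩
      rw [hRep]
      refine ⟨?_, ?_, fun z _ hz2 => by rw [hmv, hz2, mul_zero, zero_smul, add_zero]⟩
      · rw [hmv, hyp, hA]; simp
      · rw [hmv, C.alt, hA]; simp
    · obtain ⟨m, hm, hmv⟩ := hTy
      refine ⟨m, hm, ?_⟩
      rw [hRep]
      refine ⟨?_, ?_, fun z hz1 _ => by rw [hmv, hz1, mul_zero, zero_smul, add_zero]⟩
      · rw [hmv, C.alt, hA]; simp
      · rw [hmv, hpy, hA]; simp [add_comm]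
  have h2L : (2 : L) ≠ 0 := fun e => h2 (by
    simpa [map_ofNat] using congrArg L.subtype e)
  letI := Fintype.ofFinite L
  have hgen : Subfield.closure ({(⟨μ, hμL⟩ : L)} : Set L) = ⊤ := by
    refine eq_top_iff.2 fun z _ => ?_
    have hle : L ≤ (Subfield.closure ({(⟨μ, hμL⟩ : L)} : Set L)).map L.subtype := by
      conv_lhs => rw [hL]
      rw [Subfield.closure_le, Set.singleton_subset_iff]
      exact ⟨⟨μ, hμL⟩, Subfield.subset_closure rfl, rfl⟩
    obtain ⟨w', hw', e⟩ := hle z.2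
    rwa [← Subtype.ext e]
  rcases Cfsg.Agent.S0801.result (F := L) h2L ⟨μ, hμL⟩
    (fun e => hμ (by
      have : μ = 0 := congrArg Subtype.val e
      rw [this]; exact zero_mem _)) hgen with ⟨htop, -⟩ | ⟨-, hsq, -⟩
  · have hle := (Subgroup.closure_le S).2 hsub
    rw [htop] at hle
    obtain ⟨A, hA⟩ : ∃ A : SL(2, L), A = ⟨!![1, 0; ⟨μ, hμL⟩, 1], by simp [Matrix.det_fin_two_of]⟩ := ⟨_, rfl⟩
    obtain ⟨m, hm, hmr⟩ := hle (Subgroup.mem_top A)
    rw [hRep, hA] at hmr
    obtain ⟨h1, h2', h3⟩ := hmr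
    simp at h1 h2'
    refine ⟨m, hm, fun z => ?_⟩
    obtain ⟨z₀, hz₀⟩ : ∃ z₀, z₀ = z - B p z • y + B y z • p := ⟨_, rfl⟩
    have e : z = z₀ + B p z • y - B y z • p := by rw [hz₀]; abel
    have hz₀y : B z₀ y = 0 := by
      rw [hz₀]
      simp [C.alt, hpy, C.swap y z]
    have hz₀p : B z₀ p = 0 := by
      rw [hz₀]
      simp [C.alt, hyp, C.swap p z]
    have e1 : m z = m z₀ + B p z • m y - B y z • m p := by
      rw [← map_smul, ← map_smul, ← map_add, ← map_sub, ← e]
    rw [e1, h3 z₀ hz₀y hz₀p, h1, h2', C.swap p z, hz₀]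
    module
  · -- the exceptional field has degree two
    exfalso
    have hμ2 : μ * μ = -1 := by
      have := congrArg Subtype.val hsq
      simpa [sq] using this
    let L' : Subring F :=
      { carrier := {z | ∃ s ∈ F₀, ∃ t ∈ F₀, z = s + t * μ}
        mul_mem' := by
          rintro _ _ ⟨s, hs, t, ht, rfl⟩ ⟨s', hs', t', ht', rfl⟩
          exact ⟨s * s' - t * t', sub_mem (mul_mem hs hs') (mul_mem ht ht'), s * t' + t * s',
            add_mem (mul_mem hs ht') (mul_mem ht hs'), by linear_combination (t * t') * hμ2⟩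
        one_mem' := ⟨1, one_mem _, 0, zero_mem _, by ring⟩
        add_mem' := by
          rintro _ _ ⟨s, hs, t, ht, rfl⟩ ⟨s', hs', t', ht', rfl⟩
          exact ⟨s + s', add_mem hs hs', t + t', add_mem ht ht', by ring⟩
        zero_mem' := ⟨0, zero_mem _, 0, zero_mem _, by ring⟩
        neg_mem' := by
          rintro _ ⟨s, hs, t, ht, rfl⟩
          exact ⟨-s, neg_mem hs, -t, neg_mem ht, by ring⟩ }
    have hall := C.field L' (fun s hs => ⟨s, hs, 0, zero_mem _, by ring⟩) μ
      ⟨0, zero_mem _, 1, one_mem _, by ring⟩ hμ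
    have hspan : (⊤ : Submodule F₀ F) ≤ Submodule.span F₀ (({1, μ} : Finset F) : Set F) := by
      intro z _
      obtain ⟨s, hs, t, ht, rfl⟩ := hall z
      refine Submodule.add_mem _ ?_ ?_
      · have := Submodule.smul_mem (Submodule.span F₀ (({1, μ} : Finset F) : Set F)) (⟨s, hs⟩ : F₀)
          (Submodule.subset_span (show (1 : F) ∈ (({1, μ} : Finset F) : Set F) by simp))
        simpa [Subfield.smul_def] using this
      · exact Submodule.smul_mem _ (⟨t, ht⟩ : F₀) (Submodule.subset_span (by simp))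
    haveI : Module.Finite F₀ F := Module.Finite.of_finite
    have h5 := Submodule.finrank_mono hspan
    have h6 := finrank_span_finset_le_card (R := F₀) ({1, μ} : Finset F)
    have h7 : ({1, μ} : Finset F).card ≤ 2 := Finset.card_le_two
    rw [finrank_top] at h5
    simp only [Set.finrank] at h6
    let f : R →ₗ[F₀] F :=
      { toFun := fun z => B (z : V) x
        map_add' := fun z z' => by simp
        map_smul' := fun c z => by
          show B ((c : F) • (z : V)) x = (c : F) * B (z : V) x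
          rw [map_smul, LinearMap.smul_apply, smul_eq_mul] }
    have hf : Function.Injective f := by
      rw [← LinearMap.ker_eq_bot, Submodule.eq_bot_iff]
      intro z hz
      by_contra hz0
      exact hval z z.2 (fun e => hz0 (Subtype.ext e)) hz
    have h8 := LinearMap.finrank_le_finrank_of_injective hf
    have h9 := C.four_le
    omega

/-- all transvections at rational centres -/
theorem inT_rat (hex : ∃ g ∈ M, ¬ IsRat R g) : ∀ (c : F), ∀ p ∈ R, InT B M p c := by
  have h2 := C.two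
  obtain ⟨p₀, hp₀, hp₀0, c₀, hc₀, hT₀⟩ := C.irrational_param hex
  have step : ∀ p ∈ R, ∀ c, InT B M p c → ∀ q ∈ R, B p q ≠ 0 → InT B M q c := by
    intro p hp c hT q hq hne
    obtain ⟨g, hg, hgv⟩ := C.tv (q - p) (sub_mem hq hp) (B p q)⁻¹ (inv_mem (C.rat _ hp _ hq))
    have := C.inT_conj hg hT
    rwa [hgv, map_sub, C.alt, sub_zero, inv_mul_cancel₀ hne, one_smul, add_sub_cancel] at this
  have spread : ∀ c, InT B M p₀ c → ∀ q ∈ R, InT B M q c := by
    intro c hT q hq
    rcases eq_or_ne q 0 with rfl | hq0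
    · exact ⟨1, one_mem M, fun y => by simp⟩
    by_cases h : B p₀ q = 0
    · obtain ⟨z, hz, hzp⟩ := C.exists_one hp₀ hp₀0
      obtain ⟨z', hz', hzq⟩ := C.exists_one hq hq0
      obtain ⟨y, hy, hyp, hyq⟩ : ∃ y ∈ R, B p₀ y ≠ 0 ∧ B y q ≠ 0 := by
        by_cases h1 : B z q = 0
        · by_cases h3 : B p₀ z' = 0
          · exact ⟨z + z', add_mem hz hz', by
              rw [map_add, h3, add_zero, C.swap z p₀, hzp]; exact neg_ne_zero.2 one_ne_zero,
              by rw [map_add, LinearMap.add_apply, h1, hzq, zero_add]; exact one_ne_zero⟩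
          · exact ⟨z', hz', h3, by rw [hzq]; exact one_ne_zero⟩
        · exact ⟨z, hz, by rw [C.swap z p₀, hzp]; exact neg_ne_zero.2 one_ne_zero, h1⟩
      exact step y hy c (step p₀ hp₀ c hT y hy hyp) q hq hyq
    · exact step p₀ hp₀ c hT q hq h
  let S : Set F := {c | ∀ p ∈ R, InT B M p c}
  have hc₀S : c₀ ∈ S := spread c₀ hT₀
  have hF₀ : ∀ s ∈ F₀, s ∈ S := fun s hs p hp => C.tv p hp s hs
  have hadd : ∀ a ∈ S, ∀ b ∈ S, a + b ∈ S := fun a ha b hb p hp => C.inT_add (ha p hp) (hb p hp)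
  have hneg : ∀ a ∈ S, -a ∈ S := fun a ha p hp => C.inT_neg (ha p hp)
  have hscale : ∀ s ∈ F₀, ∀ a ∈ S, s * a ∈ S := by
    intro s hs a ha
    have hsq : ∀ l ∈ F₀, l ^ 2 * a ∈ S := fun l hl p hp => C.inT_smul.1 (ha _ (C.smul_mem hp hl))
    have h2F : (2 : F) ∈ F₀ := by simpa using natCast_mem F₀ 2
    have := hadd _ (hsq ((s + 1) / 2) (div_mem (add_mem hs (one_mem _)) h2F)) _
      (hneg _ (hsq ((s - 1) / 2) (div_mem (sub_mem hs (one_mem _)) h2F)))
    convert this using 1
    field_simp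
    ring
  have hmul : ∀ a ∈ S, ∀ b ∈ S, a * b ∈ S := by
    intro a ha b hb
    obtain ⟨w, hw, hwu, hwn⟩ := C.exists_orth hp₀ hp₀0
    obtain ⟨z, hz, hzu, hzw⟩ := C.exists_sep hp₀ hw hwn
    have hA := C.inQ_of_three hwu (ha _ (add_mem hp₀ hw)) (ha _ hp₀) (ha _ hw)
    have hB := C.inQ_of_three hzu (hb _ (add_mem hp₀ hz)) (hb _ hp₀) (hb _ hz)
    have := C.inT_comm (by rw [map_smul, LinearMap.smul_apply, hwu, smul_zero])
      (by rw [map_smul, LinearMap.smul_apply, hzu, smul_zero]) hA hB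
    simp only [map_smul, LinearMap.smul_apply, smul_eq_mul, hzw, mul_one] at this
    have h' := hscale 2⁻¹ (inv_mem (by simpa using natCast_mem F₀ 2)) _ (spread _ this)
    rwa [inv_mul_cancel_left₀ h2] at h'
  let L : Subring F :=
    { carrier := S
      mul_mem' := fun {a b} ha hb => hmul a ha b hb
      one_mem' := hF₀ 1 (one_mem _)
      add_mem' := fun {a b} ha hb => hadd a ha b hb
      zero_mem' := hF₀ 0 (zero_mem _)
      neg_mem' := fun {a} ha => hneg a ha }
  exact fun c => C.field L hF₀ c₀ hc₀S hc₀ c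

/-- every transvection -/
theorem inT_all (hex : ∃ g ∈ M, ¬ IsRat R g) (x : V) (c : F) : InT B M x c := by
  let Full : V → Prop := fun y => ∀ c, InT B M y c
  have fsmul : ∀ {y}, Full y → ∀ a : F, Full (a • y) := fun {y} hy a c => C.inT_smul.2 (hy _)
  have fadd : ∀ {y z}, Full y → Full z → B y z ≠ 0 → Full (y + z) := by
    intro y z hy hz h
    obtain ⟨g, hg, hgv⟩ := hz (B y z)⁻¹
    intro c
    have := C.inT_conj hg (hy c)
    rwa [hgv, inv_mul_cancel₀ h, one_smul] at this
  have frat : ∀ p ∈ R, Full p := fun p hp c => C.inT_rat hex c p hp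
  obtain ⟨g₀, -, hg₀⟩ := hex
  obtain ⟨p, hp, hp0⟩ : ∃ p ∈ R, p ≠ 0 := by
    by_contra hno
    push Not at hno
    exact hg₀ ⟨1, one_ne_zero, fun q hq => by rw [hno q hq, map_zero, smul_zero]; exact zero_mem R⟩
  obtain ⟨e, he, hep, hes⟩ := C.exists_orth hp hp0
  obtain ⟨f, hf, hfp, hfe⟩ := C.exists_sep hp he hes
  have he0 : e ≠ 0 := fun h => hes 0 (zero_mem _) (by rw [h, zero_smul])
  obtain ⟨q₀, hq₀, hq₀e, hq₀p⟩ := C.exists_sep he hp (fun s hs h => by
    have hs0 : s ≠ 0 := fun h0 => hp0 (by rw [h, h0, zero_smul])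
    exact hes s⁻¹ (inv_mem hs) (by rw [h, inv_smul_smul₀ hs0]))
  obtain ⟨q, hq_def⟩ : ∃ q, q = q₀ + B q₀ f • e := ⟨_, rfl⟩
  have hq : q ∈ R := hq_def ▸ add_mem hq₀ (C.smul_mem he (C.rat _ hq₀ _ hf))
  have hef : B e f = -1 := by rw [C.swap, hfe]
  have hpe : B p e = 0 := C.perp hep
  have hpf : B p f = 0 := C.perp hfp
  have hqp : B q p = 1 := by simp [hq_def, hq₀p, hep]
  have hqe : B q e = 0 := by simp [hq_def, hq₀e, C.alt]
  have hqf : B q f = 0 := by simp [hq_def, hef]
  have hpq : B p q = -1 := by rw [C.swap, hqp]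
  have heq' : B e q = 0 := C.perp hqe
  have hfq : B f q = 0 := C.perp hqf
  -- decomposition
  have hdec : ∀ x, x = (B q x • p + -B p x • q) + (B f x • e + -B e x • f) := by
    intro x
    have hli : LinearIndependent F ![p, q, e, f] := by
      rw [Fintype.linearIndependent_iff]
      intro g hg
      simp only [Fin.sum_univ_four, Matrix.cons_val_zero, Matrix.cons_val_one, Matrix.cons_val_two,
        Matrix.cons_val_three, Matrix.head_cons, Matrix.tail_cons, Matrix.head_fin_const] at hg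
      have h1 := congrArg (B q) hg
      have h2 := congrArg (B p) hg
      have h3 := congrArg (B f) hg
      have h4 := congrArg (B e) hg
      simp [hqp, C.alt, hqe, hqf, hpq, hpe, hpf, hfp, hfq, hfe, hep, heq', hef] at h1 h2 h3 h4
      intro i
      fin_cases i <;> assumption
    have htop := hli.span_eq_top_of_card_eq_finrank (by rw [C.dim]; simp)
    obtain ⟨a, rfl⟩ := Submodule.mem_span_range_iff_exists_fun F |>.1
      (htop.symm ▸ Submodule.mem_top : x ∈ Submodule.span F (Set.range ![p, q, e, f]))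
    simp [Fin.sum_univ_four, hqp, C.alt, hqe, hqf, hpq, hpe, hpf, hfp, hfq, hfe, hep, heq', hef]
    abel
  have plane : ∀ {s t : V}, s ∈ R → t ∈ R → B s t ≠ 0 → ∀ a b : F, Full (a • s + b • t) := by
    intro s t hs ht hst a b
    rcases eq_or_ne a 0 with rfl | ha
    · simpa using fsmul (frat t ht) b
    rcases eq_or_ne b 0 with rfl | hb
    · simpa using fsmul (frat s hs) a
    exact fadd (fsmul (frat s hs) a) (fsmul (frat t ht) b) (by simp [hst, ha, hb])
  have hpq0 : B p q ≠ 0 := by rw [hpq]; exact neg_ne_zero.2 one_ne_zero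
  have hef0 : B e f ≠ 0 := by rw [hef]; exact neg_ne_zero.2 one_ne_zero
  let InP : V → Prop := fun y => ∃ a b : F, y = a • p + b • q
  let InE : V → Prop := fun y => ∃ a b : F, y = a • e + b • f
  have horth : ∀ {y z}, InP y → InE z → B y z = 0 := by
    rintro _ _ ⟨a, b, rfl⟩ ⟨a', b', rfl⟩
    simp [hpe, hpf, hqe, hqf]
  have stepP : ∀ {a z a'}, InP a → InE z → InP a' → Full (a + z) → B a a' ≠ 0 → Full (a' + z) := by
    intro a z a' ha hz ha' h hne
    obtain ⟨c₁, d₁, e₁⟩ := ha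
    obtain ⟨c₂, d₂, e₂⟩ := ha'
    have hd : InP (a' - a) := ⟨c₂ - c₁, d₂ - d₁, by rw [e₁, e₂]; module⟩
    have hd' := plane hp hq hpq0 (c₂ - c₁) (d₂ - d₁)
    have := fadd h (y := a + z) (z := a' - a) (by
      rw [show a' - a = (c₂ - c₁) • p + (d₂ - d₁) • q by rw [e₁, e₂]; module]; exact hd') (by
      rw [map_add, LinearMap.add_apply, C.perp (horth hd hz), add_zero, map_sub, C.alt,
        sub_zero]
      exact hne)
    rwa [show a + z + (a' - a) = a' + z by abel] at this
  have stepE : ∀ {a z z'}, InP a → InE z → InE z' → Full (a + z) → B z z' ≠ 0 → Full (a + z') := by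
    intro a z z' ha hz hz' h hne
    obtain ⟨c₁, d₁, e₁⟩ := hz
    obtain ⟨c₂, d₂, e₂⟩ := hz'
    have hd : InE (z' - z) := ⟨c₂ - c₁, d₂ - d₁, by rw [e₁, e₂]; module⟩
    have hd' := plane he hf hef0 (c₂ - c₁) (d₂ - d₁)
    have := fadd h (y := a + z) (z := z' - z) (by
      rw [show z' - z = (c₂ - c₁) • e + (d₂ - d₁) • f by rw [e₁, e₂]; module]; exact hd') (by
      rw [map_add, LinearMap.add_apply, horth ha hd, zero_add, map_sub, C.alt, sub_zero]
      exact hne)
    rwa [show a + z + (z' - z) = a + z' by abel] at this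
  have hp' : InP p := ⟨1, 0, by simp⟩
  have hq' : InP q := ⟨0, 1, by simp⟩
  have he' : InE e := ⟨1, 0, by simp⟩
  have hf' : InE f := ⟨0, 1, by simp⟩
  have base : ∀ a b : F, ∀ c' d' : F, (a ≠ 0 ∨ b ≠ 0) → (c' ≠ 0 ∨ d' ≠ 0) →
      Full ((a • p + b • q) + (c' • e + d' • f)) := by
    intro a b c' d' hab hcd
    have h0 : Full (p + e) := frat _ (add_mem hp he)
    have h1 : Full ((a • p + b • q) + e) := by
      by_cases hb : b = 0
      · have ha : a ≠ 0 := hab.resolve_right (fun h => h hb)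
        exact stepP hq' he' ⟨a, b, rfl⟩ (stepP hp' he' hq' h0 hpq0) (by simp [hb, hqp, ha])
      · exact stepP hp' he' ⟨a, b, rfl⟩ h0 (by simp [C.alt, hpq, hb])
    by_cases hd : d' = 0
    · have hc : c' ≠ 0 := hcd.resolve_right (fun h => h hd)
      exact stepE ⟨a, b, rfl⟩ hf' ⟨c', d', rfl⟩ (stepE ⟨a, b, rfl⟩ he' hf' h1 hef0) (by simp [hd, hfe, hc])
    · exact stepE ⟨a, b, rfl⟩ he' ⟨c', d', rfl⟩ h1 (by simp [C.alt, hef, hd])
  have hfull : Full x := by
    rw [hdec x]
    by_cases h1 : B q x = 0 ∧ B p x = 0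
    · simpa [h1.1, h1.2] using plane he hf hef0 (B f x) (-B e x)
    by_cases h3 : B f x = 0 ∧ B e x = 0
    · simpa [h3.1, h3.2] using plane hp hq hpq0 (B q x) (-B p x)
    refine base _ _ _ _ ?_ ?_
    · rw [neg_ne_zero]; tauto
    · rw [neg_ne_zero]; tauto
  exact hfull c

end Ctx

end CfsgLib.MaxSub.SpSubOdd
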