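import Cfsg.Agent.Lib.MaxSub.SpSubOddFull
import Cfsg.Agent.Lib.MaxSub.SpSubTwoMatrix

/-!
Subfield groups are maximal in `Sp₄(q)`, `q` odd.
-/

set_option autoImplicit false
set_option linter.unusedSectionVars false

namespace CfsgLib.MaxSub.SpSubOdd

open Matrix CfsgLib.MaxSub
open CfsgLib.MaxSub.SpSubTwo (ratR mem_ratR subring_all)
open scoped MatrixGroups
open CfsgLib.Classical (glLin glLin_apply)

variable {F : Type*} [Field F] [Fintype F]

set_option maxHeartbeats 800000 in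
/-- the subfield group is maximal in `Sp₄(q)`, `q` odd -/
theorem subfield_maximal (h2 : (2 : F) ≠ 0) (F₀ : Subfield F) (r : ℕ) (hr : r.Prime)
    (hcard : Fintype.card F = Nat.card F₀ ^ r) (P : GL (Fin 2 ⊕ Fin 2) F) (ζ : F) (hζ : ζ ≠ 0)
    (hP : Cfsg.Geo.IsFormRationalStructure (Cfsg.sympForm 2 F) F₀ ζ P) :
    Cfsg.Geo.IsMaximalIn (Cfsg.spGL 2 F) (Cfsg.Geo.subfieldSubgroup F₀ P ⊓ Cfsg.spGL 2 F) := by
  classical
  let B : LinearMap.BilinForm F (Fin 2 ⊕ Fin 2 → F) := ζ • CfsgLib.Geom.sympBilin 2 F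
  have hB : ∀ x y, B x y = ζ * Cfsg.sympForm 2 F x y := fun x y => by
    show ζ * CfsgLib.Geom.sympBilin 2 F x y = _
    rw [CfsgLib.Geom.sympBilin_apply]
  let R := ratR F₀ P
  have hmemR : ∀ {p}, p ∈ R ↔ ∃ u, incP F₀ P u = p := mem_ratR F₀ P
  have hspan : Submodule.span F (R : Set (Fin 2 ⊕ Fin 2 → F)) = ⊤ := by
    rw [eq_top_iff]
    intro x _
    rw [← mulVec_mulVec_inv P x, pi_eq_sum_univ' (((P⁻¹ : GL (Fin 2 ⊕ Fin 2) F) : Matrix (Fin 2 ⊕ Fin 2) (Fin 2 ⊕ Fin 2) F) *ᵥ x),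
      mulVec_sum]
    refine Submodule.sum_mem _ fun i _ => ?_
    rw [mulVec_smul]
    refine Submodule.smul_mem _ _ (Submodule.subset_span (hmemR.2 ⟨Pi.single i 1, ?_⟩))
    rw [incP_apply]
    congr 1
    funext j
    simp only [Pi.single_apply]
    split <;> simp
  have hrat : ∀ p ∈ R, ∀ q ∈ R, B p q ∈ F₀ := by
    intro p hp q hq
    obtain ⟨u, rfl⟩ := hmemR.1 hp
    obtain ⟨v, rfl⟩ := hmemR.1 hq
    rw [hB]
    rw [incP_apply, incP_apply]
    exact hP (fun i => (u i : F)) (fun i => (v i : F)) (fun i => (u i).2) fun i => (v i).2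
  have hiff : ∀ g : GL (Fin 2 ⊕ Fin 2) F,
      g ∈ Cfsg.Geo.subfieldSubgroup F₀ P ↔ IsRat R (glLin g) := by
    intro g
    rw [mem_subfieldSubgroup_iff]
    constructor
    · rintro ⟨c, hc, h⟩
      refine ⟨c, hc, fun p hp => ?_⟩
      obtain ⟨u, rfl⟩ := hmemR.1 hp
      obtain ⟨w, hw⟩ := h u
      exact hmemR.2 ⟨w, by rw [glLin_apply, hw]⟩
    · rintro ⟨c, hc, h⟩
      refine ⟨c, hc, fun u => ?_⟩
      obtain ⟨w, hw⟩ := hmemR.1 (h _ (hmemR.2 ⟨u, rfl⟩))
      exact ⟨w, by rw [← glLin_apply, hw]⟩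
  have hfield := subring_all F₀ r hr hcard
  refine isMaximalIn_of_lt (lt_of_le_of_ne inf_le_right fun he => ?_) fun M hHM hMS g hg hgH => ?_
  · obtain ⟨θ, hθ⟩ : ∃ θ : F, θ ∉ F₀ := by
      by_contra hno
      push Not at hno
      have h1 : Nat.card F ≤ Nat.card F₀ :=
        Nat.card_le_card_of_injective (fun x : F => (⟨x, hno x⟩ : F₀)) fun a b h => congrArg Subtype.val h
      rw [Nat.card_eq_fintype_card (α := F), hcard] at h1
      have h2 := Nat.pow_lt_pow_right (Finite.one_lt_card (α := F₀)) hr.one_lt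
      rw [pow_one] at h2
      omega
    obtain ⟨p, hp, hp0⟩ : ∃ p ∈ R, p ≠ 0 := by
      by_contra hno
      push Not at hno
      have h1 : Submodule.span F (R : Set (Fin 2 ⊕ Fin 2 → F)) ≤ ⊥ :=
        Submodule.span_le.2 fun p hp => by simpa using hno p hp
      rw [hspan] at h1
      have h2 := Submodule.finrank_mono h1
      rw [finrank_top, finrank_bot, Module.finrank_fintype_fun_eq_card] at h2
      simp at h2
    obtain ⟨y, hy, hyp⟩ : ∃ y ∈ R, B y p ≠ 0 := by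
      by_contra hno
      push Not at hno
      refine hp0 (CfsgLib.Geom.sympBilin_sep p fun z => ?_)
      have h1 : Submodule.span F (R : Set (Fin 2 ⊕ Fin 2 → F)) ≤ LinearMap.ker (B.flip p) :=
        Submodule.span_le.2 fun q hq => by simpa using hno q hq
      have h3 := h1 (hspan.symm ▸ Submodule.mem_top : z ∈ Submodule.span F (R : Set (Fin 2 ⊕ Fin 2 → F)))
      rw [LinearMap.mem_ker] at h3
      replace h3 : B z p = 0 := h3
      rw [hB, mul_eq_zero] at h3
      rw [CfsgLib.Geom.sympBilin_apply, sympForm_swap z p, h3.resolve_left hζ, neg_zero]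
    have hT := spTv_mem_spGL p (θ * ζ)
    rw [← he] at hT
    obtain ⟨k, hk, hkR⟩ := (hiff _).1 hT.1
    have h1 := hkR p hp
    rw [glLin_apply, coe_tvGL, spTv_mulVec, sympForm_self, mul_zero, zero_smul, add_zero] at h1
    have hk0 : k ∈ F₀ := by
      have h2 := hrat _ hy _ h1
      rw [map_smul, smul_eq_mul] at h2
      have := div_mem h2 (hrat _ hy _ hp)
      rwa [mul_div_cancel_right₀ _ hyp] at this
    have h2 := hkR y hy
    rw [glLin_apply, coe_tvGL, spTv_mulVec] at h2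
    have h3 := hrat _ hy _ h2
    rw [map_smul, map_add, map_smul, smul_eq_mul, smul_eq_mul, hB y y, sympForm_self, mul_zero,
      zero_add, hB y p] at h3
    apply hθ
    have h4 := div_mem h3 (mul_mem hk0 (mul_mem (hrat _ hy _ hp) (hrat _ hy _ hp)))
    convert h4 using 1
    rw [hB] at hyp ⊢
    have hf : Cfsg.sympForm 2 F y p ≠ 0 := right_ne_zero_of_mul hyp
    field_simp
  · let M' : Subgroup ((Fin 2 ⊕ Fin 2 → F) ≃ₗ[F] (Fin 2 ⊕ Fin 2 → F)) := M.map glLin.toMonoidHom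
    have C : Ctx B F₀ R M' := by
      refine ⟨h2, fun x => by rw [hB, sympForm_self, mul_zero], fun x hx => ?_,
        by rw [Module.finrank_fintype_fun_eq_card]; simp, hrat, hspan, hfield, ?_, ?_⟩
      · refine CfsgLib.Geom.sympBilin_sep x fun y => ?_
        rw [CfsgLib.Geom.sympBilin_apply, sympForm_swap y x,
          (mul_eq_zero.1 (show ζ * Cfsg.sympForm 2 F y x = 0 from (hB y x).symm.trans (hx y))).resolve_left hζ,
          neg_zero]
      · rintro _ ⟨a, ha, rfl⟩ x y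
        rw [hB, hB]
        exact congrArg (ζ * ·) (hMS ha x y)
      · intro p hp s hs
        refine ⟨_, ⟨_, hHM ⟨(hiff _).2 ⟨1, one_ne_zero, fun q hq => ?_⟩, spTv_mem_spGL p (s * ζ)⟩, rfl⟩,
          fun z => ?_⟩
        · rw [one_smul, glLin_apply, coe_tvGL, spTv_mulVec, mul_assoc, ← hB]
          exact add_mem hq (R.smul_mem (⟨_, mul_mem hs (hrat _ hq _ hp)⟩ : F₀) hp)
        · show glLin _ z = _
          rw [glLin_apply, coe_tvGL, spTv_mulVec, hB, mul_assoc]
    have hex : ∃ g ∈ M', ¬ IsRat R g :=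
      ⟨glLin g, ⟨g, hg, rfl⟩, fun h => hgH ⟨(hiff g).2 h, hMS hg⟩⟩
    refine spGL_le_of_hasSpTv fun v c _ => ?_
    obtain ⟨_, ⟨a, ha, rfl⟩, hav⟩ := C.inT_all hex v (c / ζ)
    rw [hasSpTv_iff]
    have key : tvGL v (c • (Matrix.J (Fin 2) F *ᵥ v)) (spDual_smul_dot c v) = a := by
     refine Units.ext (Matrix.ext_of_mulVec_single fun i => ?_)
     have := hav (Pi.single i 1)
     rw [coe_tvGL, spTv_mulVec]
     rw [show glLin.toMonoidHom a (Pi.single i 1) = (a : Matrix _ _ F) *ᵥ Pi.single i 1 from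
       glLin_apply a _] at this
     rw [this, hB, ← mul_assoc, div_mul_cancel₀ _ hζ]
    rw [key]; exact ha

end CfsgLib.MaxSub.SpSubOdd
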