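import Mathlib

/-!
Overgroups of the rational symplectic group in four dimensions, even characteristic:
a subgroup of the isometry group containing the rational transvections and root elements,
and an element not fixing the rational structure, contains every transvection.

`InT M v c` is the transvection `y ↦ y + c B(y,v) v`, and `InQ M u d k` the element
`y ↦ y + B(y,d) u + B(y,u) d + k B(y,u) u` for `d ⊥ u`.
-/

set_option autoImplicit false
set_option linter.unusedSectionVars false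
set_option synthInstance.maxHeartbeats 400000

namespace CfsgLib.MaxSub.SpSubTwo

variable {F V : Type*} [Field F] [AddCommGroup V] [Module F V]

/-- `M` contains the transvection with centre `v` and parameter `c` -/
def InT (B : LinearMap.BilinForm F V) (M : Subgroup (V ≃ₗ[F] V)) (v : V) (c : F) : Prop :=
  ∃ g ∈ M, ∀ y, g y = y + (c * B y v) • v

/-- `M` contains the element of the radical at `u` -/
def InQ (B : LinearMap.BilinForm F V) (M : Subgroup (V ≃ₗ[F] V)) (u d : V) (k : F) : Prop :=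
  ∃ g ∈ M, ∀ y, g y = y + B y d • u + B y u • d + (k * B y u) • u

/-- the point of `y` is rational -/
def IsPt {F₀ : Subfield F} (R : Submodule F₀ V) (y : V) : Prop := ∃ k : F, ∃ p ∈ R, y = k • p

/-- `g` fixes the rational structure up to a scalar -/
def IsRat {F₀ : Subfield F} (R : Submodule F₀ V) (g : V ≃ₗ[F] V) : Prop :=
  ∃ c : F, c ≠ 0 ∧ ∀ p ∈ R, c • g p ∈ R

/-- the hypotheses -/
structure Ctx (B : LinearMap.BilinForm F V) (F₀ : Subfield F) (R : Submodule F₀ V)
    (M : Subgroup (V ≃ₗ[F] V)) : Prop where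
  two : (2 : F) = 0
  alt : ∀ x, B x x = 0
  sep : ∀ x, (∀ y, B y x = 0) → x = 0
  dim : Module.finrank F V = 4
  rat : ∀ p ∈ R, ∀ q ∈ R, B p q ∈ F₀
  span : Submodule.span F (R : Set V) = ⊤
  field : ∀ L : Subring F, (∀ x ∈ F₀, x ∈ L) → ∀ c ∈ L, c ∉ F₀ → ∀ x, x ∈ L
  iso : ∀ g ∈ M, ∀ x y, B (g x) (g y) = B x y
  tv : ∀ p ∈ R, InT B M p 1
  root : ∀ p ∈ R, ∀ q ∈ R, B p q = 0 → InQ B M p q 0

namespace Ctx

variable {B : LinearMap.BilinForm F V} {F₀ : Subfield F} {R : Submodule F₀ V}
  {M : Subgroup (V ≃ₗ[F] V)} (C : Ctx B F₀ R M)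

include C

theorem smul_mem {p : V} (hp : p ∈ R) {c : F} (hc : c ∈ F₀) : c • p ∈ R :=
  R.smul_mem (⟨c, hc⟩ : F₀) hp

theorem charTwo : CharP F 2 := CharTwo.of_one_ne_zero_of_two_eq_zero one_ne_zero C.two

theorem neg (x : F) : -x = x := by linear_combination (-x) * C.two

theorem add_self (x : F) : x + x = 0 := by linear_combination x * C.two

theorem symm (x y : V) : B x y = B y x := by
  have h := C.alt (x + y)
  simp only [map_add, LinearMap.add_apply, C.alt] at h
  linear_combination h - (B y x) * C.two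

theorem vadd_self (x : V) : x + x = 0 := by
  rw [← two_smul F x, C.two, zero_smul]

variable [Finite F]

theorem sqrt_mem {x : F} (h : x ^ 2 ∈ F₀) : x ∈ F₀ := by
  haveI := C.charTwo
  haveI : CharP F₀ 2 := CharTwo.of_one_ne_zero_of_two_eq_zero one_ne_zero (Subtype.ext C.two)
  obtain ⟨s, hs⟩ := FiniteField.isSquare_of_char_two (F := F₀) (ringChar.eq F₀ 2) ⟨_, h⟩
  have e : x ^ 2 = (s : F) ^ 2 := by rw [sq (s : F)]; exact congrArg Subtype.val hs
  have : (x - s) ^ 2 = 0 := by linear_combination e + ((s : F) ^ 2 - x * s) * C.two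
  rw [sub_eq_zero.1 (pow_eq_zero_iff two_ne_zero |>.1 this)]
  exact s.2

theorem fourth_root {x : F} (h : x ∈ F₀) : ∃ l ∈ F₀, l ^ 4 = x := by
  haveI : CharP F₀ 2 := CharTwo.of_one_ne_zero_of_two_eq_zero one_ne_zero (Subtype.ext C.two)
  obtain ⟨s, hs⟩ := FiniteField.isSquare_of_char_two (F := F₀) (ringChar.eq F₀ 2) ⟨_, h⟩
  obtain ⟨t, ht⟩ := FiniteField.isSquare_of_char_two (F := F₀) (ringChar.eq F₀ 2) s
  refine ⟨t, t.2, ?_⟩
  have e : x = (s : F) * s := congrArg Subtype.val hs
  have e' : (s : F) = (t : F) * t := congrArg Subtype.val ht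
  rw [e, e']
  ring

theorem eq_zero_of_rat {x : V} (h : ∀ p ∈ R, B p x = 0) : x = 0 := by
  refine C.sep x fun y => ?_
  have : Submodule.span F (R : Set V) ≤ LinearMap.ker (B.flip x) := by
    refine Submodule.span_le.2 fun p hp => ?_
    simpa using h p hp
  have := this (C.span.symm ▸ Submodule.mem_top : y ∈ Submodule.span F (R : Set V))
  simpa using this

variable [FiniteDimensional F V]

/-- rational vectors realise all rational functionals -/
theorem exists_dual (φ : R →ₗ[F₀] F₀) : ∃ z ∈ R, ∀ x : R, B z (x : V) = φ x := by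
  haveI : Finite V := Module.finite_of_finite F
  haveI : Module.Finite F₀ R := Module.Finite.of_finite
  let Φ : R →ₗ[F₀] Module.Dual F₀ R :=
    { toFun := fun z =>
        { toFun := fun x => ⟨B (z : V) (x : V), C.rat _ z.2 _ x.2⟩
          map_add' := fun x y => Subtype.ext (by simp)
          map_smul' := fun c x => Subtype.ext (by
            show B (z : V) ((c : F) • (x : V)) = (c : F) * B (z : V) (x : V)
            rw [map_smul, smul_eq_mul]) }
      map_add' := fun z z' => LinearMap.ext fun x => Subtype.ext (by simp)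
      map_smul' := fun c z => LinearMap.ext fun x => Subtype.ext (by
        show B ((c : F) • (z : V)) (x : V) = (c : F) * B (z : V) (x : V)
        rw [map_smul, LinearMap.smul_apply, smul_eq_mul]) }
  have hinj : Function.Injective Φ := by
    rw [← LinearMap.ker_eq_bot, Submodule.eq_bot_iff]
    intro z hz
    refine Subtype.ext (C.eq_zero_of_rat fun p hp => ?_)
    have := congrArg (fun f : Module.Dual F₀ R => ((f ⟨p, hp⟩ : F₀) : F)) hz
    rw [C.symm]
    simpa [Φ] using this
  obtain ⟨z, hz⟩ := (LinearMap.injective_iff_surjective_of_finrank_eq_finrank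
    Subspace.dual_finrank_eq.symm).1 hinj φ
  exact ⟨z, z.2, fun x => by rw [← hz]; rfl⟩

theorem exists_one {p : V} (hp : p ∈ R) (hp0 : p ≠ 0) : ∃ z ∈ R, B z p = 1 := by
  by_contra hno
  push Not at hno
  refine hp0 (C.eq_zero_of_rat fun z hz => ?_)
  by_contra h
  refine hno ((B z p)⁻¹ • z) (C.smul_mem hz (inv_mem (C.rat _ hz _ hp))) ?_
  rw [map_smul, LinearMap.smul_apply, smul_eq_mul, inv_mul_cancel₀ h]

/-- a rational vector orthogonal to `u` with value one at `w` -/
theorem exists_sep {u w : V} (hu : u ∈ R) (hw : w ∈ R) (h : ∀ s ∈ F₀, w ≠ s • u) :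
    ∃ z ∈ R, B z u = 0 ∧ B z w = 1 := by
  obtain ⟨φ, hφw, hφ⟩ := Submodule.exists_dual_map_eq_bot_of_notMem
    (p := Submodule.span F₀ {(⟨u, hu⟩ : R)}) (x := ⟨w, hw⟩) (fun hm => by
      obtain ⟨s, hs⟩ := Submodule.mem_span_singleton.1 hm
      have e := congrArg Subtype.val hs
      exact h s s.2 e.symm) inferInstance
  obtain ⟨z, hz, hzφ⟩ := C.exists_dual φ
  have h1 : φ ⟨u, hu⟩ = 0 := (Submodule.mem_bot F₀).1
    (hφ ▸ Submodule.mem_map_of_mem (Submodule.subset_span rfl))
  have hne : B z w ≠ 0 := by rw [hzφ ⟨w, hw⟩]; exact fun e => hφw (Subtype.ext e)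
  refine ⟨(B z w)⁻¹ • z, C.smul_mem hz (inv_mem (C.rat _ hz _ hw)), ?_, ?_⟩
  · rw [map_smul, LinearMap.smul_apply, smul_eq_mul, hzφ ⟨u, hu⟩, h1]
    simp
  · rw [map_smul, LinearMap.smul_apply, smul_eq_mul, inv_mul_cancel₀ hne]

/-- a second rational direction orthogonal to `u` -/
theorem exists_orth {u : V} (hu : u ∈ R) (hu0 : u ≠ 0) :
    ∃ w ∈ R, B w u = 0 ∧ ∀ s ∈ F₀, w ≠ s • u := by
  by_contra hno
  push Not at hno
  obtain ⟨v, hv, hvu⟩ := C.exists_one hu hu0
  classical
  have hle : Submodule.span F (R : Set V) ≤ Submodule.span F (({u, v} : Finset V) : Set V) := by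
    refine Submodule.span_le.2 fun p hp => ?_
    obtain ⟨s, -, hs⟩ := hno (p + B p u • v) (add_mem hp (C.smul_mem hv (C.rat _ hp _ hu))) (by
      rw [map_add, LinearMap.add_apply, map_smul, LinearMap.smul_apply, hvu, smul_eq_mul, mul_one,
        C.add_self])
    rw [show p = (p + B p u • v) - B p u • v by abel, hs]
    exact Submodule.sub_mem _ (Submodule.smul_mem _ _ (Submodule.subset_span (by simp)))
      (Submodule.smul_mem _ _ (Submodule.subset_span (by simp)))
  rw [C.span] at hle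
  have h1 := Submodule.finrank_mono hle
  have h2 := finrank_span_finset_le_card (R := F) ({u, v} : Finset V)
  have h3 : ({u, v} : Finset V).card ≤ 2 := Finset.card_le_two
  rw [finrank_top, C.dim] at h1
  simp only [Set.finrank] at h2
  omega

/-! ### calculus -/

theorem inT_conj {g : V ≃ₗ[F] V} (hg : g ∈ M) {v : V} {c : F} (h : InT B M v c) :
    InT B M (g v) c := by
  obtain ⟨t, ht, htv⟩ := h
  refine ⟨g * t * g⁻¹, mul_mem (mul_mem hg ht) (inv_mem hg), fun y => ?_⟩
  have e : g (g⁻¹ y) = y := g.apply_symm_apply y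
  rw [LinearEquiv.mul_apply, LinearEquiv.mul_apply, htv, map_add, map_smul, e,
    ← C.iso g hg (g⁻¹ y) v, e]

theorem inQ_conj {g : V ≃ₗ[F] V} (hg : g ∈ M) {u d : V} {k : F} (h : InQ B M u d k) :
    InQ B M (g u) (g d) k := by
  obtain ⟨t, ht, htv⟩ := h
  refine ⟨g * t * g⁻¹, mul_mem (mul_mem hg ht) (inv_mem hg), fun y => ?_⟩
  have e : g (g⁻¹ y) = y := g.apply_symm_apply y
  rw [LinearEquiv.mul_apply, LinearEquiv.mul_apply, htv, map_add, map_add, map_add, map_smul,
    map_smul, map_smul, e, ← C.iso g hg (g⁻¹ y) d, ← C.iso g hg (g⁻¹ y) u, e]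

theorem inT_smul {v : V} {a c : F} : InT B M (a • v) c ↔ InT B M v (a ^ 2 * c) := by
  have : ∀ y, (c * B y (a • v)) • a • v = (a ^ 2 * c * B y v) • v := fun y => by
    rw [map_smul, smul_eq_mul, smul_smul]; congr 1; ring
  simp only [InT, this]

theorem inT_add {v : V} {a b : F} (h : InT B M v a) (h' : InT B M v b) : InT B M v (a + b) := by
  obtain ⟨g, hg, hgv⟩ := h
  obtain ⟨g', hg', hgv'⟩ := h'
  refine ⟨g * g', mul_mem hg hg', fun y => ?_⟩
  rw [LinearEquiv.mul_apply, hgv, hgv', map_add, LinearMap.add_apply, map_smul,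
    LinearMap.smul_apply, C.alt, smul_eq_mul]
  module

theorem inT_zero (v : V) : InT B M v 0 := ⟨1, one_mem M, fun y => by simp⟩

theorem inT_to_inQ {u : V} {c : F} (h : InT B M u c) : InQ B M u 0 c := by
  obtain ⟨g, hg, hgv⟩ := h
  exact ⟨g, hg, fun y => by rw [hgv, map_zero, zero_smul, smul_zero, add_zero, add_zero]⟩

theorem inQ_to_inT {u : V} {c : F} (h : InQ B M u 0 c) : InT B M u c := by
  obtain ⟨g, hg, hgv⟩ := h
  exact ⟨g, hg, fun y => by rw [hgv, map_zero, zero_smul, smul_zero, add_zero, add_zero]⟩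

theorem inQ_mul {u d d' : V} {k k' : F} (hd' : B d' u = 0) (h : InQ B M u d k)
    (h' : InQ B M u d' k') : InQ B M u (d + d') (k + k' + B d' d) := by
  obtain ⟨g, hg, hgv⟩ := h
  obtain ⟨g', hg', hgv'⟩ := h'
  refine ⟨g * g', mul_mem hg hg', fun y => ?_⟩
  have e1 : B (g' y) u = B y u := by
    rw [hgv']; simp [C.alt, hd']
  by_cases hu : B u d = 0
  · have e2 : B (g' y) d = B y d + B y u * B d' d := by
      rw [hgv']; simp [hu]
    rw [LinearEquiv.mul_apply, hgv, e1, e2, hgv', map_add]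
    module
  · exfalso
    have h1 := C.iso g hg u u
    rw [C.alt u, hgv u, C.alt u] at h1
    have h2 := C.iso g hg u d
    rw [hgv u, hgv d, C.alt u, C.alt d] at h2
    simp only [C.symm d u, map_add, map_smul, LinearMap.add_apply, LinearMap.smul_apply, C.alt,
      smul_eq_mul] at h2
    have : B u d * B u d * B u d = 0 := by linear_combination h2 - (B u d * B u d) * C.two
    exact hu (by simpa using this)

theorem inQ_shift {u d : V} {k s : F} (h : InQ B M u (d + s • u) k) : InQ B M u d k := by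
  obtain ⟨g, hg, hgv⟩ := h
  refine ⟨g, hg, fun y => ?_⟩
  rw [hgv, map_add, map_smul, smul_eq_mul]
  linear_combination (norm := module) (B y u * s) • C.vadd_self u

/-- the difference of two elements -/
theorem inQ_diff {u d δ : V} {k : F} (hd : B d u = 0) (hδ : B δ u = 0) (h : InQ B M u d k)
    (h' : InQ B M u (d + δ) k) : InQ B M u δ (B δ d) := by
  have := C.inQ_mul (by rw [map_add, LinearMap.add_apply, hd, hδ, add_zero]) h h'
  rw [← add_assoc, C.vadd_self, zero_add, map_add, LinearMap.add_apply, C.alt, zero_add,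
    C.add_self, zero_add] at this
  exact this

/-- conjugating by a transvection orthogonal to the centre -/
theorem inQ_move {u d w : V} {k c : F} (hd : B d u = 0) (hw : B w u = 0) (ht : InT B M w c)
    (h : InQ B M u d k) : InQ B M u ((c * B d w) • w) (c * B d w * B d w) := by
  obtain ⟨t, htm, htv⟩ := ht
  have h1 := C.inQ_conj htm h
  rw [htv u, C.symm u w, hw, mul_zero, zero_smul, add_zero, htv d] at h1
  have h2 := C.inQ_diff hd (by rw [map_smul, LinearMap.smul_apply, hw, smul_zero]) h h1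
  rwa [map_smul, LinearMap.smul_apply, smul_eq_mul, C.symm w d] at h2

/-- conjugating a transvection by a root element at an orthogonal point -/
theorem inQ_of_inT {u x w : V} (hu : u ∈ R) (hw : w ∈ R) (huw : B u w = 0) (hxu : B x u = 0)
    (h : InT B M x 1) : InQ B M u (B x w • x) (B x w * B x w) := by
  obtain ⟨e, hem, hev⟩ := C.root u hu w hw huw
  have h1 := C.inT_conj hem h
  rw [hev x, hxu, zero_smul, mul_zero, zero_smul, add_zero, add_zero] at h1
  set α := B x w
  obtain ⟨g, hg, hgv⟩ := h1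
  obtain ⟨g', hg', hgv'⟩ := h
  refine ⟨g * g', mul_mem hg hg', fun y => ?_⟩
  rw [LinearEquiv.mul_apply, hgv, hgv']
  simp only [map_add, map_smul, LinearMap.add_apply, LinearMap.smul_apply, C.alt, hxu, smul_eq_mul,
    one_mul]
  linear_combination (norm := module) B y x • C.vadd_self x

/-- an element at `u` combined with the transvection at `w` -/
theorem inT_of_inQ {u w : V} {β : F} (hw : w ∈ R) (huw : B u w = 0)
    (h : InQ B M u (β • w) (β * β)) : InT B M (w + β • u) 1 := by
  obtain ⟨g, hg, hgv⟩ := h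
  obtain ⟨t, htm, htv⟩ := C.tv w hw
  refine ⟨t * g, mul_mem htm hg, fun y => ?_⟩
  rw [LinearEquiv.mul_apply, htv, hgv]
  simp only [map_add, map_smul, LinearMap.add_apply, LinearMap.smul_apply, C.alt, huw, smul_eq_mul,
    one_mul]
  module

/-! ### an irrational parameter -/

theorem isPt_smul {x : V} {a : F} (ha : a ≠ 0) (h : IsPt R (a • x)) : IsPt R x := by
  obtain ⟨k, p, hp, e⟩ := h
  exact ⟨a⁻¹ * k, p, hp, by rw [mul_smul, ← e, inv_smul_smul₀ ha]⟩

theorem isRat_of_forall {g : V ≃ₗ[F] V} (h : ∀ p ∈ R, IsPt R (g p)) : IsRat R g := by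
  by_cases hall : ∀ p ∈ R, p = 0
  · exact ⟨1, one_ne_zero, fun p hp => by rw [hall p hp, map_zero, smul_zero]; exact zero_mem R⟩
  push Not at hall
  obtain ⟨p₁, hp₁, hp₁0⟩ := hall
  obtain ⟨k, r₁, hr₁, e₁⟩ := h p₁ hp₁
  have hk : k ≠ 0 := fun e => hp₁0 (g.injective (by rw [e₁, e, zero_smul, map_zero]))
  have hr₁0 : r₁ ≠ 0 := fun e => hp₁0 (g.injective (by rw [e₁, e, smul_zero, map_zero]))
  refine ⟨k⁻¹, inv_ne_zero hk, fun p hp => ?_⟩
  by_cases hdep : ∃ s ∈ F₀, p = s • p₁
  · obtain ⟨s, hs, rfl⟩ := hdep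
    rw [map_smul, e₁, smul_comm s k, inv_smul_smul₀ hk]
    exact C.smul_mem hr₁ hs
  push Not at hdep
  obtain ⟨k', r, hr, e⟩ := h p hp
  obtain ⟨k'', s, hs, e'⟩ := h (p + p₁) (add_mem hp hp₁)
  have hr0 : r ≠ 0 := fun e0 => hdep 0 (zero_mem _) (g.injective (by
    rw [e, e0, smul_zero, zero_smul, map_zero]))
  obtain ⟨z₀, hz₀, hz₀p⟩ := C.exists_sep hp₁ hp hdep
  have hne : ∀ t ∈ F₀, r ≠ t • r₁ := by
    intro t _ et
    have : p = (k' * t / k) • p₁ := g.injective (by
      rw [e, et, map_smul, e₁, smul_smul, smul_smul]; congr 1; field_simp)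
    have h1 := hz₀p.2
    rw [this, map_smul, hz₀p.1, smul_zero] at h1
    exact zero_ne_one h1
  have hne' : ∀ t ∈ F₀, r₁ ≠ t • r := by
    intro t ht et
    have ht0 : t ≠ 0 := fun e0 => hr₁0 (by rw [et, e0, zero_smul])
    exact hne t⁻¹ (inv_mem ht) (by rw [et, inv_smul_smul₀ ht0])
  rw [map_add, e, e₁] at e'
  obtain ⟨z, hz, hzr, hzr₁⟩ := C.exists_sep hr hr₁ hne'
  obtain ⟨z', hz', hz'r₁, hz'r⟩ := C.exists_sep hr₁ hr hne
  have h1 := congrArg (B z) e'
  have h2 := congrArg (B z') e'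
  simp only [map_add, map_smul, smul_eq_mul, hzr, hzr₁, hz'r, hz'r₁, mul_zero, mul_one, zero_add,
    add_zero] at h1 h2
  rw [e, smul_smul]
  refine C.smul_mem hr ?_
  have hk'' : k'' ≠ 0 := fun e0 => hk (by rw [h1, e0, zero_mul])
  rw [show k⁻¹ * k' = B z' s / B z s by
    rw [h1, h2, mul_inv, ← mul_assoc, mul_comm k''⁻¹ (B z s)⁻¹, mul_assoc (B z s)⁻¹,
      inv_mul_cancel₀ hk'', mul_one, div_eq_inv_mul]]
  exact div_mem (C.rat _ hz' _ hs) (C.rat _ hz _ hs)

/-- an irrational point with its transvection, orthogonal to a rational vector -/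
theorem exists_irrational (hex : ∃ g ∈ M, ¬ IsRat R g) :
    ∃ x, ¬ IsPt R x ∧ InT B M x 1 ∧ ∃ u ∈ R, u ≠ 0 ∧ B x u = 0 := by
  obtain ⟨g, hg, hgn⟩ := hex
  obtain ⟨p₀, hp₀, hp₀n⟩ : ∃ p ∈ R, ¬ IsPt R (g p) := by
    by_contra hno
    push Not at hno
    exact hgn (C.isRat_of_forall hno)
  set x := g p₀ with hxdef
  have hxT : InT B M x 1 := C.inT_conj hg (C.tv p₀ hp₀)
  by_cases hperp : ∃ u ∈ R, u ≠ 0 ∧ B x u = 0
  · exact ⟨x, hp₀n, hxT, hperp⟩
  push Not at hperp
  have hp₀0 : p₀ ≠ 0 := fun e => hp₀n (by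
    rw [hxdef, e, map_zero]; exact ⟨0, 0, zero_mem R, by simp⟩)
  obtain ⟨w, hw, hwu, hwn⟩ := C.exists_orth hp₀ hp₀0
  set u := p₀
  have huw : B u w = 0 := by rw [C.symm]; exact hwu
  have hw0 : w ≠ 0 := fun e => hwn 0 (zero_mem _) (by rw [e, zero_smul])
  obtain ⟨ta, hta, htav⟩ := hxT
  obtain ⟨tb, htb, htbv⟩ := C.root u hp₀ w hw huw
  have htbv' : ∀ y, tb y = y + B y w • u + B y u • w := fun y => by
    rw [htbv]; simp
  have ha2 : ta * ta = 1 := by
    refine LinearEquiv.ext fun y => ?_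
    rw [LinearEquiv.mul_apply, htav, htav, map_add, LinearMap.add_apply, map_smul,
      LinearMap.smul_apply, C.alt, smul_zero, add_zero, add_assoc, C.vadd_self, add_zero]
    rfl
  have hb2 : tb * tb = 1 := by
    refine LinearEquiv.ext fun y => ?_
    rw [LinearEquiv.mul_apply, htbv', htbv']
    simp only [map_add, map_smul, LinearMap.add_apply, LinearMap.smul_apply, C.alt, huw, hwu,
      smul_eq_mul, mul_zero, add_zero]
    show _ = y
    linear_combination (norm := module) B y w • C.vadd_self u + B y u • C.vadd_self w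
  have hai : ta⁻¹ = ta := inv_eq_of_mul_eq_one_right ha2
  have hbi : tb⁻¹ = tb := inv_eq_of_mul_eq_one_right hb2
  set P := ta * tb with hP
  have hinvert : ta * P * ta⁻¹ = P⁻¹ := by
    rw [hP, mul_inv_rev, hai, hbi, ← mul_assoc, ha2, one_mul]
  have hpow : ∀ n : ℕ, ta * P ^ n * ta⁻¹ = (P ^ n)⁻¹ := fun n => by
    rw [← conj_pow, hinvert, inv_pow]
  haveI : Finite V := Module.finite_of_finite F
  haveI : Finite (V ≃ₗ[F] V) := Finite.of_injective _ DFunLike.coe_injective
  -- the root element and the transvection are not conjugate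
  obtain ⟨z₁, hz₁, hz₁u, hz₁w⟩ := C.exists_sep hp₀ hw hwn
  have hun : ∀ s ∈ F₀, u ≠ s • w := fun s hs e => by
    have hs0 : s ≠ 0 := fun e0 => hp₀0 (by rw [e, e0, zero_smul])
    exact hwn s⁻¹ (inv_mem hs) (by rw [e, inv_smul_smul₀ hs0])
  obtain ⟨z₂, hz₂, hz₂w, hz₂u⟩ := C.exists_sep hw hp₀ hun
  obtain ⟨zc, hzc, hzc1, hzcc, hza, hzb⟩ : ∃ z ∈ M, z ≠ 1 ∧ z * z = 1 ∧ z * ta = ta * z ∧ z * tb = tb * z := by
    rcases Nat.even_or_odd (orderOf P) with ⟨k, hk⟩ | ⟨k, hk⟩
    · have hpos := orderOf_pos P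
      have hsq : P ^ k * P ^ k = 1 := by rw [← pow_add, ← hk, pow_orderOf_eq_one]
      have hcomm : P ^ k * ta = ta * P ^ k := by
        have := hpow k
        rw [inv_eq_of_mul_eq_one_right hsq, mul_inv_eq_iff_eq_mul] at this
        exact this.symm
      refine ⟨P ^ k, pow_mem (mul_mem hta htb) k, pow_ne_one_of_lt_orderOf (by omega) (by omega),
        hsq, hcomm, ?_⟩
      have e : tb = ta * P := by rw [hP, ← mul_assoc, ha2, one_mul]
      rw [e, ← mul_assoc, hcomm, mul_assoc, mul_assoc, ← pow_succ, ← pow_succ']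
    · exfalso
      set h := P ^ (k + 1)
      have h1 : P * ta = h * ta * h⁻¹ := by
        have e : ta * h⁻¹ = h * ta := by
          have h3 : ta * h * ta⁻¹ = h⁻¹ := hpow (k + 1)
          rw [← h3, ← mul_assoc, ← mul_assoc, ha2, one_mul, hai]
        symm
        rw [mul_assoc h ta, e, ← mul_assoc h h ta, ← pow_add,
          show k + 1 + (k + 1) = orderOf P + 1 by omega, pow_succ, pow_orderOf_eq_one, one_mul]
      have hb : tb = (ta * h) * ta * (ta * h)⁻¹ := by
        rw [mul_inv_rev, mul_assoc (ta * h), ← mul_assoc ta, ← mul_assoc (ta * h),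
          show ta * h * (ta * h⁻¹) = ta * (h * ta * h⁻¹) by group, ← h1, hP, hai, ← mul_assoc,
          ← mul_assoc, ha2, one_mul, mul_assoc, ha2, mul_one]
      set G := ta * h
      have hrange : ∀ y, ∃ s : F, tb y = y + s • G x := fun y => by
        refine ⟨1 * B (G⁻¹ y) x, ?_⟩
        rw [hb, LinearEquiv.mul_apply, LinearEquiv.mul_apply, htav, map_add, map_smul,
          show G (G⁻¹ y) = y from G.apply_symm_apply y]
      obtain ⟨s, hs⟩ := hrange z₁
      obtain ⟨t, ht⟩ := hrange z₂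
      rw [htbv', hz₁w, hz₁u, one_smul, zero_smul, add_zero, add_right_inj] at hs
      rw [htbv', hz₂w, hz₂u, one_smul, zero_smul, add_zero, add_right_inj] at ht
      -- now `u` and `w` are multiples of one vector
      have h3 : B z₂ w = t * B z₂ (G x) := by rw [ht, map_smul, smul_eq_mul]
      have h4 : B z₂ u = s * B z₂ (G x) := by rw [hs, map_smul, smul_eq_mul]
      rw [hz₂w] at h3
      rw [hz₂u] at h4
      rcases mul_eq_zero.1 h3.symm with h5 | h5
      · exact hw0 (by rw [ht, h5, zero_smul])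
      · rw [h5, mul_zero] at h4; exact one_ne_zero h4
  have hzz : ∀ y, zc (zc y) = y := fun y => by
    rw [← LinearEquiv.mul_apply, hzcc]; rfl
  -- the point `x` is fixed
  have hzx : zc x = x := by
    obtain ⟨y, hy⟩ : ∃ y, B y x ≠ 0 := by
      by_contra hno
      push Not at hno
      exact hperp u hp₀ hp₀0 (by rw [C.sep x hno, map_zero, LinearMap.zero_apply])
    have e1 := LinearEquiv.congr_fun hza y
    rw [LinearEquiv.mul_apply, LinearEquiv.mul_apply, htav, htav, map_add, map_smul,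
      add_right_inj, one_mul, one_mul] at e1
    obtain ⟨l, hl⟩ : ∃ l : F, zc x = l • x := ⟨(B y x)⁻¹ * B (zc y) x, by
      rw [mul_smul, ← e1, inv_smul_smul₀ hy]⟩
    have h2 := hzz x
    rw [hl, map_smul, hl, smul_smul] at h2
    have hl1 : l = 1 := by
      have hx0 : x ≠ 0 := fun e0 => hy (by rw [e0, map_zero])
      have h3 : (l * l - 1) • x = 0 := by rw [sub_smul, one_smul, h2, sub_self]
      have h4 := (smul_eq_zero.1 h3).resolve_right hx0
      have : (l - 1) * (l - 1) = 0 := by linear_combination h4 + (1 - l) * C.two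
      exact sub_eq_zero.1 (mul_self_eq_zero.1 this)
    rw [hl, hl1, one_smul]
  by_cases hzr : IsRat R zc
  · exfalso
    obtain ⟨c, hc, hcm⟩ := hzr
    have hc0 : c ∈ F₀ := by
      refine C.sqrt_mem ?_
      have h1 := hcm _ (hcm u hp₀)
      rw [map_smul, hzz, smul_smul] at h1
      have h2 := C.rat _ hz₂ _ h1
      rwa [map_smul, hz₂u, smul_eq_mul, mul_one, ← sq] at h2
    obtain ⟨p, hp, hpne⟩ : ∃ p ∈ R, zc p ≠ p := by
      by_contra hno
      push Not at hno
      refine hzc1 (LinearEquiv.ext fun y => ?_)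
      have : Submodule.span F (R : Set V) ≤ LinearMap.eqLocus zc.toLinearMap LinearMap.id :=
        Submodule.span_le.2 fun p hp => by simpa using hno p hp
      have := this (C.span.symm ▸ Submodule.mem_top : y ∈ Submodule.span F (R : Set V))
      simpa using this
    have hzp : zc p ∈ R := by
      have := C.smul_mem (hcm p hp) (inv_mem hc0)
      rwa [inv_smul_smul₀ hc] at this
    refine hperp (zc p - p) (sub_mem hzp hp) (sub_ne_zero.2 hpne) ?_
    rw [map_sub, sub_eq_zero]
    conv_lhs => rw [← hzx]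
    rw [C.iso zc hzc]
  -- the line is mapped to itself
  have hL : ∀ y, ∃ a b : F, zc (B y w • u + B y u • w) = a • u + b • w := fun y => by
    have e1 := LinearEquiv.congr_fun hzb y
    rw [LinearEquiv.mul_apply, LinearEquiv.mul_apply, htbv', htbv', map_add, map_add, add_assoc,
      add_assoc, add_right_inj, ← map_add] at e1
    exact ⟨_, _, e1⟩
  by_cases hl : ∃ l ∈ R, l ≠ 0 ∧ (∃ y, l = B y w • u + B y u • w) ∧ ¬ IsPt R (zc l)
  · obtain ⟨l, hl, -, ⟨y, hy⟩, hln⟩ := hl
    refine ⟨zc l, hln, C.inT_conj hzc (C.tv l hl), u, hp₀, hp₀0, ?_⟩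
    obtain ⟨a, b, hab⟩ := hL y
    rw [hy, hab]
    simp [C.alt, hwu]
  push Not at hl
  obtain ⟨p, hp, hpn⟩ : ∃ p ∈ R, ¬ IsPt R (zc p) := by
    by_contra hno
    push Not at hno
    exact hzr (C.isRat_of_forall hno)
  obtain ⟨l, hlR, hl0, hly, hpl⟩ : ∃ l ∈ R, l ≠ 0 ∧ (∃ y, l = B y w • u + B y u • w) ∧ B p l = 0 := by
    by_cases h : B p w • u + B p u • w = 0
    · refine ⟨u, hp₀, hp₀0, ⟨z₁, by rw [hz₁w, hz₁u]; simp⟩, ?_⟩
      have h1 := congrArg (B z₁) h
      simpa [hz₁w, hz₁u] using h1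
    · refine ⟨_, add_mem (C.smul_mem hp₀ (C.rat _ hp _ hw)) (C.smul_mem hw (C.rat _ hp _ hp₀)), h,
        ⟨p, rfl⟩, ?_⟩
      simp only [map_add, map_smul, smul_eq_mul]
      linear_combination (B p w * B p u) * C.two
  obtain ⟨k, r, hr, hkr⟩ := hl l hlR hl0 hly
  have hk : k ≠ 0 := fun e => hl0 (zc.injective (by rw [hkr, e, zero_smul, map_zero]))
  refine ⟨zc p, hpn, C.inT_conj hzc (C.tv p hp), r, hr, fun e => hl0 (zc.injective (by
    rw [hkr, e, smul_zero, map_zero])), ?_⟩
  have h1 := C.iso zc hzc p l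
  rw [hkr, map_smul, hpl, smul_eq_mul, mul_eq_zero] at h1
  exact h1.resolve_left hk

/-- an irrational point on a rational isotropic line, or an irrational parameter -/
theorem exists_line_or (hex : ∃ g ∈ M, ¬ IsRat R g) :
    (∃ r ∈ R, ∃ u ∈ R, ∃ γ : F, γ ∉ F₀ ∧ u ≠ 0 ∧ B r u = 0 ∧ (∀ s ∈ F₀, r ≠ s • u) ∧
      InT B M (r + γ • u) 1) ∨ ∃ p ∈ R, p ≠ 0 ∧ ∃ c ∉ F₀, InT B M p c := by
  obtain ⟨x, hxn, hxT, u, hu, hu0, hxu⟩ := C.exists_irrational hex
  obtain ⟨v, hv, hvu⟩ := C.exists_one hu hu0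
  obtain ⟨w, hw, hwu, hxw⟩ : ∃ w ∈ R, B w u = 0 ∧ B x w ≠ 0 := by
    by_contra hno
    push Not at hno
    refine hxn ⟨B x v, u, hu, ?_⟩
    rw [← sub_eq_zero]
    refine C.eq_zero_of_rat fun p hp => ?_
    have h1 := hno (p + B p u • v) (add_mem hp (C.smul_mem hv (C.rat _ hp _ hu))) (by
      simp [hvu, C.add_self])
    rw [map_sub, map_smul, smul_eq_mul, C.symm p x, sub_eq_add_neg, C.neg]
    simp only [map_add, map_smul, smul_eq_mul] at h1
    linear_combination h1
  set α := B x w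
  have hA := C.inQ_of_inT hu hw (by rw [C.symm]; exact hwu) hxu hxT
  have hαu : B (α • x) u = 0 := by rw [map_smul, LinearMap.smul_apply, hxu, smul_zero]
  by_cases hcase : ∃ w' ∈ R, B w' u = 0 ∧ B (α • x) w' ∉ F₀
  · obtain ⟨w', hw', hw'u, hβ⟩ := hcase
    have h1 := C.inQ_move hαu hw'u (C.tv w' hw') hA
    rw [one_mul] at h1
    refine Or.inl ⟨w', hw', u, hu, _, hβ, hu0, hw'u, fun s hs e => hβ ?_,
      C.inT_of_inQ hw' (by rw [C.symm]; exact hw'u) h1⟩
    rw [e, map_smul, hαu, smul_zero]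
    exact zero_mem _
  push Not at hcase
  set γ := B (α • x) v
  have hmemF : ∀ z ∈ R, B (α • x) z + B z u * γ ∈ F₀ := fun z hz => by
    have := hcase (z + B z u • v) (add_mem hz (C.smul_mem hv (C.rat _ hz _ hu))) (by
      simp [hvu, C.add_self])
    rwa [map_add, map_smul (B (α • x)), smul_eq_mul] at this
  let φ : R →ₗ[F₀] F₀ :=
    { toFun := fun z => ⟨B (α • x) (z : V) + B (z : V) u * γ, hmemF _ z.2⟩
      map_add' := fun z z' => Subtype.ext (by
        show B (α • x) ((z : V) + (z' : V)) + B ((z : V) + (z' : V)) u * γ =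
          (B (α • x) (z : V) + B (z : V) u * γ) + (B (α • x) (z' : V) + B (z' : V) u * γ)
        rw [map_add, map_add, LinearMap.add_apply]; ring)
      map_smul' := fun c z => Subtype.ext (by
        show B (α • x) ((c : F) • (z : V)) + B ((c : F) • (z : V)) u * γ =
          (c : F) * (B (α • x) (z : V) + B (z : V) u * γ)
        simp only [map_smul, LinearMap.smul_apply, smul_eq_mul]; ring) }
  obtain ⟨r, hr, hrφ⟩ := C.exists_dual φ
  have hrz : ∀ z ∈ R, B r z = B (α • x) z + B z u * γ := fun z hz => hrφ ⟨z, hz⟩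
  have hru : B r u = 0 := by rw [hrz u hu, hαu, C.alt, zero_mul, add_zero]
  have heq : α • x = r + γ • u := by
    rw [← sub_eq_zero]
    refine C.eq_zero_of_rat fun p hp => ?_
    rw [map_sub, map_add, map_smul (B p) γ, smul_eq_mul, C.symm p r, hrz p hp, C.symm p (α • x)]
    linear_combination (-(B p u * γ)) * C.two
  have hrs : ∀ s ∈ F₀, r ≠ s • u := fun s hs e =>
    hxn (C.isPt_smul hxw ⟨s + γ, u, hu, by rw [heq, e, add_smul]⟩)
  have hγ : γ ∉ F₀ := fun hg => hxn (C.isPt_smul hxw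
    ⟨1, r + γ • u, add_mem hr (C.smul_mem hu hg), by rw [heq, one_smul]⟩)
  by_cases hα : α ∈ F₀
  · refine Or.inl ⟨α⁻¹ • r, C.smul_mem hr (inv_mem hα), u, hu, α⁻¹ * γ, fun hg => hγ ?_, hu0,
      by rw [map_smul, LinearMap.smul_apply, hru, smul_zero], fun s hs e => hrs (α * s)
        (mul_mem hα hs) (by rw [mul_smul, ← e, smul_inv_smul₀ hxw]), ?_⟩
    · have := mul_mem hα hg
      rwa [← mul_assoc, mul_inv_cancel₀ hxw, one_mul] at this
    · rw [mul_smul, ← smul_add, ← heq, inv_smul_smul₀ hxw]; exact hxT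
  · refine Or.inr ⟨u, hu, hu0, α * α, fun h => hα (C.sqrt_mem (by rwa [sq])), ?_⟩
    rw [heq] at hA
    have h1 := C.inQ_mul hru (C.inQ_shift hA) (C.root u hu r hr (by rw [C.symm]; exact hru))
    rw [C.vadd_self, C.alt, add_zero, add_zero] at h1
    exact C.inQ_to_inT h1

theorem irrational_param (hex : ∃ g ∈ M, ¬ IsRat R g) :
    ∃ p ∈ R, p ≠ 0 ∧ ∃ c ∉ F₀, InT B M p c := by
  rcases C.exists_line_or hex with ⟨r, hr, u, hu, γ, hγ, hu0, hru, hrs, hT⟩ | h
  swap
  · exact h
  -- rescale so that `γ² + γ` is irrational, unless `F₀` has two elements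
  by_cases hl : ∃ l ∈ F₀, l ≠ 0 ∧ γ / l * (γ / l) + γ / l ∉ F₀
  · obtain ⟨l, hl, hl0, hirr⟩ := hl
    set δ := γ / l
    set u' := l • u with hu'
    have hu'm : u' ∈ R := C.smul_mem hu hl
    have hT' : InT B M (r + δ • u') 1 := by
      rw [hu', smul_smul, div_mul_cancel₀ _ hl0]; exact hT
    have hru' : B r u' = 0 := by rw [hu', map_smul, hru, smul_zero]
    obtain ⟨v, hv, hvr, hvu⟩ := C.exists_sep hr hu'm (fun s hs e => by
      have hs0 : s ≠ 0 := by
        rintro rfl
        rw [zero_smul, hu', smul_eq_zero] at e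
        exact e.elim hl0 hu0
      exact hrs (s⁻¹ * l) (mul_mem (inv_mem hs) hl) (by
        rw [mul_smul, ← hu', e, inv_smul_smul₀ hs0]))
    obtain ⟨t, htm, htv⟩ := hT'
    have hx2 : InT B M (v + δ • r + (δ * δ) • u') 1 := by
      have := C.inT_conj htm (C.tv v hv)
      rw [htv, map_add, map_smul, hvr, hvu, smul_eq_mul, one_mul, mul_one, zero_add, smul_add,
        smul_smul, ← add_assoc] at this
      exact this
    set x2 := v + δ • r + (δ * δ) • u'
    have hx2r : B x2 r = 0 := by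
      simp [x2, hvr, C.alt, C.symm u' r, hru']
    have e1 : B x2 u' = 1 := by simp [x2, hvu, C.alt, hru']
    have e2 : B x2 v = δ * δ := by
      simp [x2, C.alt, C.symm r v, hvr, C.symm u' v, hvu]
    have h1 := C.inQ_of_inT hr hu'm hru' hx2r hx2
    rw [e1, one_smul, one_mul] at h1
    have h1' : InQ B M r (v + (δ * δ) • u') 1 := C.inQ_shift (s := δ) (by
      convert h1 using 1
      show v + (δ * δ) • u' + δ • r = v + δ • r + (δ * δ) • u'
      abel)
    have hvr' : B (v + (δ * δ) • u') r = 0 := by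
      simp [hvr, C.symm u' r, hru']
    have h2 := C.inQ_mul hvr' (C.root r hr v hv (by rw [C.symm]; exact hvr)) h1'
    rw [← add_assoc, C.vadd_self, zero_add, zero_add, map_add, LinearMap.add_apply, C.alt, map_smul,
      LinearMap.smul_apply, C.symm u' v, hvu, smul_eq_mul, mul_one, zero_add] at h2
    have h3 := C.inQ_of_inT hr hv (by rw [C.symm]; exact hvr) hx2r hx2
    rw [e2] at h3
    have h4 := C.inQ_move (by rw [map_smul, LinearMap.smul_apply, hx2r, smul_zero])
      (by rw [C.symm]; exact hru') (C.tv u' hu'm) h3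
    simp only [map_smul, LinearMap.smul_apply, e1, smul_eq_mul, mul_one, one_mul] at h4
    have hu'r : B ((δ * δ) • u') r = 0 := by rw [map_smul, LinearMap.smul_apply, C.symm u' r, hru', smul_zero]
    have h5 := C.inQ_mul hu'r h2 h4
    rw [C.vadd_self, C.alt, add_zero] at h5
    refine ⟨r, hr, fun e => hrs 0 (zero_mem _) (by rw [e, zero_smul]), _, fun hmem => hirr ?_,
      C.inQ_to_inT h5⟩
    refine C.sqrt_mem ?_
    have h6 := sub_mem hmem (one_mem F₀)
    convert h6 using 1
    linear_combination (δ * δ * δ) * C.two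
  push Not at hl
  have h1 : γ * γ + γ ∈ F₀ := by simpa using hl 1 (one_mem _) one_ne_zero
  have hF₀ : ∀ l ∈ F₀, l = 0 ∨ l = 1 := by
    intro l hlm
    by_contra hne
    push Not at hne
    obtain ⟨hl0, hl1⟩ := hne
    have h2 := mul_mem (mul_mem hlm hlm) (hl l hlm hl0)
    have h3 : γ * (l + 1) ∈ F₀ := by
      convert add_mem h1 h2 using 1
      field_simp
      linear_combination -(γ * γ) * C.two
    have hl1' : l + 1 ≠ 0 := fun e => hl1 (by linear_combination e - C.two)
    have := div_mem h3 (add_mem hlm (one_mem F₀))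
    rw [mul_div_cancel_right₀ _ hl1'] at this
    exact hγ this
  have hγ2 : γ * γ + γ = 1 := by
    rcases hF₀ _ h1 with h | h
    · exfalso
      have : γ * (γ + 1) = 0 := by linear_combination h
      rcases mul_eq_zero.1 this with e | e
      · exact hγ (e ▸ zero_mem _)
      · exact hγ (by rw [show γ = 1 by linear_combination e - C.two]; exact one_mem _)
    · exact h
  obtain ⟨v, hv, hvr, hvu⟩ := C.exists_sep hr hu (fun s hs e => by
    have hs0 : s ≠ 0 := by rintro rfl; exact hu0 (by rw [e, zero_smul])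
    exact hrs s⁻¹ (inv_mem hs) (by rw [e, inv_smul_smul₀ hs0]))
  obtain ⟨t, htm, htv⟩ := hT
  set a := v + u
  set b := r + u
  have hab : B a b = 1 := by simp [a, b, hvr, hvu, C.alt, C.symm u r, hru]
  have hy : InT B M (a + γ • b) 1 := by
    convert C.inT_conj htm (C.tv v hv) using 1
    rw [htv, map_add, map_smul, hvr, hvu, smul_eq_mul, one_mul, mul_one, zero_add]
    simp only [a, b]
    rw [show γ • (r + γ • u) = γ • r + (γ * γ) • u by rw [smul_add, smul_smul],
      show γ * γ = 1 + γ by linear_combination hγ2 - γ * C.two]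
    module
  obtain ⟨ta, hta, htav⟩ := C.tv a (add_mem hv hu)
  have hy' := C.inT_conj hta hy
  have e0 : B (a + γ • b) a = γ := by
    rw [map_add B, LinearMap.add_apply, map_smul B, LinearMap.smul_apply, C.alt, C.symm b a, hab,
      smul_eq_mul, mul_one, zero_add]
  rw [htav, e0, one_mul] at hy'
  obtain ⟨t', ht', ht'v⟩ := hy'
  have hfin := C.inT_conj ht' hy
  have e : t' (a + γ • b) = (γ * γ) • (a + b) := by
    rw [ht'v]
    simp only [map_add, map_smul, LinearMap.add_apply, LinearMap.smul_apply, C.alt, hab, C.symm b a,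
      smul_eq_mul, one_mul, mul_one, mul_zero, zero_add, add_zero]
    have hγ3 : γ * γ * γ = 1 := by linear_combination (γ - 1) * hγ2 + γ * C.two - C.two
    match_scalars
    · linear_combination (γ - 1) * hγ2 + (2 * γ + γ * γ) * C.two
    · linear_combination (2 * γ - 1) * hγ2 + (3 * γ + γ * γ) * C.two
    · linear_combination γ * hγ2 + γ * C.two
  rw [e, C.inT_smul, mul_one] at hfin
  refine ⟨a + b, add_mem (add_mem hv hu) (add_mem hr hu), fun h0 => ?_, _, fun hmem => hγ ?_, hfin⟩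
  · have : B a (a + b) = 1 := by rw [map_add, C.alt, hab, zero_add]
    rw [h0, map_zero] at this
    exact zero_ne_one this
  · refine C.sqrt_mem (C.sqrt_mem ?_)
    rwa [sq, sq, ← sq (γ * γ)]

/-! ### all parameters, all centres -/

theorem inT_trans {p q : V} (hp : p ∈ R) (hq : q ∈ R) (h : B p q = 1) {c : F} (hT : InT B M p c) :
    InT B M q c := by
  obtain ⟨g, hg, hgv⟩ := C.tv (p + q) (add_mem hp hq)
  have := C.inT_conj hg hT
  rwa [hgv, map_add, C.alt, zero_add, h, one_mul, one_smul, ← add_assoc, C.vadd_self, zero_add]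
    at this

theorem inT_scale {p : V} (hp : p ∈ R) {c : F} (hT : InT B M p c) {s : F} (hs : s ∈ F₀) :
    InT B M p (s * c) := by
  rcases eq_or_ne p 0 with rfl | hp0
  · exact ⟨1, one_mem M, fun y => by simp⟩
  rcases eq_or_ne s 0 with rfl | hs0
  · rw [zero_mul]; exact C.inT_zero p
  obtain ⟨l, hl, rfl⟩ := C.fourth_root hs
  have hl0 : l ≠ 0 := fun e => hs0 (by rw [e]; ring)
  obtain ⟨q, hq, hqp⟩ := C.exists_one hp hp0
  have h1 : InT B M (l⁻¹ • q) (l ^ 2 * c) := by
    rw [C.inT_smul, ← mul_assoc, ← mul_pow, inv_mul_cancel₀ hl0, one_pow, one_mul]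
    exact C.inT_trans hp hq (by rw [C.symm]; exact hqp) hT
  have h2 := C.inT_trans (C.smul_mem hq (inv_mem hl)) (C.smul_mem hp hl) (by
    simp [hqp, hl0]) h1
  rw [C.inT_smul] at h2
  convert h2 using 1
  ring

theorem inT_all_points {p : V} (hp : p ∈ R) (hp0 : p ≠ 0) {c : F} (hT : InT B M p c) :
    ∀ q ∈ R, InT B M q c := by
  have step : ∀ p ∈ R, ∀ c, InT B M p c → ∀ q ∈ R, B p q ≠ 0 → InT B M q c := by
    intro p hp c hT q hq hne
    have h1 := C.inT_scale hp hT (mul_mem (C.rat _ hp _ hq) (C.rat _ hp _ hq))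
    have h2 := C.inT_trans hp (C.smul_mem hq (inv_mem (C.rat _ hp _ hq))) (by
      rw [map_smul, smul_eq_mul, inv_mul_cancel₀ hne]) h1
    rw [C.inT_smul] at h2
    convert h2 using 1
    field_simp
  intro q hq
  rcases eq_or_ne q 0 with rfl | hq0
  · exact ⟨1, one_mem M, fun y => by simp⟩
  by_cases h : B p q = 0
  · obtain ⟨z, hz, hzp⟩ := C.exists_one hp hp0
    obtain ⟨z', hz', hzq⟩ := C.exists_one hq hq0
    obtain ⟨y, hy, hyp, hyq⟩ : ∃ y ∈ R, B p y ≠ 0 ∧ B y q ≠ 0 := by
      by_cases h1 : B z q = 0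
      · by_cases h2 : B p z' = 0
        · exact ⟨z + z', add_mem hz hz', by rw [map_add, h2, add_zero, C.symm, hzp]; exact one_ne_zero,
            by rw [map_add, LinearMap.add_apply, h1, hzq, zero_add]; exact one_ne_zero⟩
        · exact ⟨z', hz', h2, by rw [hzq]; exact one_ne_zero⟩
      · exact ⟨z, hz, by rw [C.symm, hzp]; exact one_ne_zero, h1⟩
    exact step y hy c (step p hp c hT y hy hyp) q hq hyq
  · exact step p hp c hT q hq h

/-- all transvections at rational centres -/
theorem inT_rat (hex : ∃ g ∈ M, ¬ IsRat R g) : ∀ (c : F), ∀ p ∈ R, InT B M p c := by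
  obtain ⟨p₀, hp₀, hp₀0, c₀, hc₀, hT₀⟩ := C.irrational_param hex
  let S : Set F := {c | ∀ p ∈ R, InT B M p c}
  have hc₀S : c₀ ∈ S := C.inT_all_points hp₀ hp₀0 hT₀
  have hadd : ∀ a ∈ S, ∀ b ∈ S, a + b ∈ S := fun a ha b hb p hp => C.inT_add (ha p hp) (hb p hp)
  have hscale : ∀ s ∈ F₀, ∀ a ∈ S, s * a ∈ S := fun s hs a ha p hp => C.inT_scale hp (ha p hp) hs
  have hone : (1 : F) ∈ S := C.tv
  -- short root elements with parameters in `S`
  have hshort : ∀ c ∈ S, ∀ u ∈ R, ∀ w ∈ R, B u w = 0 → InQ B M u (c • w) 0 := by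
    intro c hc u hu w hw huw
    by_cases hdep : ∃ s ∈ F₀, w = s • u
    · obtain ⟨s, -, rfl⟩ := hdep
      exact C.inQ_shift (s := c * s) (by
        rw [smul_smul, C.vadd_self]
        exact C.inT_to_inQ (C.inT_zero u))
    push Not at hdep
    obtain ⟨r, hr, hru, hrw⟩ := C.exists_sep hu hw hdep
    obtain ⟨e, hem, hev⟩ := C.root u hu r hr (by rw [C.symm]; exact hru)
    have h1 := C.inT_conj hem (hc w hw)
    rw [hev, C.symm w r, hrw, C.symm w u, huw] at h1
    simp only [one_smul, zero_smul, mul_zero, add_zero] at h1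
    obtain ⟨g, hg, hgv⟩ := h1
    obtain ⟨g', hg', hgv'⟩ := hc w hw
    have h2 : InQ B M u (c • w) c := ⟨g * g', mul_mem hg hg', fun y => by
      rw [LinearEquiv.mul_apply, hgv, hgv']
      simp only [map_add, map_smul, LinearMap.add_apply, LinearMap.smul_apply, C.alt, C.symm w u, huw,
        smul_eq_mul]
      linear_combination (norm := module) (c * B y w) • C.vadd_self w⟩
    have h3 := C.inQ_mul (by rw [map_zero, LinearMap.zero_apply]) h2 (C.inT_to_inQ (hc u hu))
    simpa [C.add_self] using h3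
  -- a rational frame
  obtain ⟨v, hv, hvu⟩ : ∃ v ∈ R, B v p₀ = 0 ∧ ∀ s ∈ F₀, v ≠ s • p₀ := C.exists_orth hp₀ hp₀0
  obtain ⟨r, hr, hru, hrv⟩ := C.exists_sep hp₀ hv hvu.2
  set u := p₀
  have huv : B u v = 0 := by rw [C.symm]; exact hvu.1
  have hur : B u r = 0 := by rw [C.symm]; exact hru
  have hmove : ∀ c ∈ S, ∀ d ∈ S, InQ B M u ((c * d) • r) (c * c * d) ∧
      InQ B M u ((c * d) • v) (c * c * d) := by
    intro c hc d hd
    have h1 := C.inQ_move (by rw [map_smul, LinearMap.smul_apply, hvu.1, smul_zero]) hru (hd r hr)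
      (hshort c hc u hp₀ v hv huv)
    have h2 := C.inQ_move (by rw [map_smul, LinearMap.smul_apply, hru, smul_zero]) hvu.1 (hd v hv)
      (hshort c hc u hp₀ r hr hur)
    rw [map_smul, LinearMap.smul_apply, C.symm v r, hrv, smul_eq_mul, mul_one] at h1
    rw [map_smul, LinearMap.smul_apply, hrv, smul_eq_mul, mul_one] at h2
    constructor
    · rw [show c * d = d * c from mul_comm c d, show c * c * d = d * c * c by ring]; exact h1
    · rw [show c * d = d * c from mul_comm c d, show c * c * d = d * c * c by ring]; exact h2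
  have hsq : ∀ c ∈ S, c * c ∈ S := by
    intro c hc
    have h1 := C.inQ_mul (by rw [map_smul, LinearMap.smul_apply, hru, smul_zero]) (hmove c hc 1 hone).1
      (hshort c hc u hp₀ r hr hur)
    rw [mul_one, mul_one, C.vadd_self, C.alt, add_zero, add_zero] at h1
    exact C.inT_all_points hp₀ hp₀0 (C.inQ_to_inT h1)
  have hkey : ∀ c ∈ S, ∀ d ∈ S, c * c * (d + d * d) ∈ S := by
    intro c hc d hd
    obtain ⟨h1, h2⟩ := hmove c hc d hd
    have h3 := C.inQ_move (by rw [map_smul, LinearMap.smul_apply, hru, smul_zero]) hvu.1 (C.tv v hv) h1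
    rw [map_smul, LinearMap.smul_apply, hrv, smul_eq_mul, mul_one, one_mul] at h3
    have h4 := C.inQ_mul (by rw [map_smul, LinearMap.smul_apply, hvu.1, smul_zero]) h2 h3
    rw [C.vadd_self, C.alt, add_zero] at h4
    show c * c * (d + d * d) ∈ S
    rw [show c * c * (d + d * d) = c * c * d + c * d * (c * d) by ring]
    exact C.inT_all_points hp₀ hp₀0 (C.inQ_to_inT h4)
  have hroot : ∀ x ∈ S, ∃ c ∈ S, c * c = x := by
    have hmaps : Set.MapsTo (fun c : F => c * c) S S := fun c hc => hsq c hc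
    have hinj : Set.InjOn (fun c : F => c * c) S := fun a _ b _ e => by
      have h0 : (a - b) * (a - b) = 0 := by
        have e' : a * a = b * b := e
        linear_combination e' + (b * b - a * b) * C.two
      exact sub_eq_zero.1 (mul_self_eq_zero.1 h0)
    have := (Set.toFinite S).injOn_iff_bijOn_of_mapsTo hmaps |>.1 hinj
    intro x hx
    exact this.surjOn hx
  have hall : ∀ x, x ∈ S := by
    by_cases hk : ∃ d ∈ S, d + d * d ∉ F₀
    · obtain ⟨d, hd, hdn⟩ := hk
      let L : Subring F :=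
        { carrier := {k | ∀ x ∈ S, k * x ∈ S}
          mul_mem' := fun {a b} ha hb x hx => by rw [mul_assoc]; exact ha _ (hb x hx)
          one_mem' := fun x hx => by rwa [one_mul]
          add_mem' := fun {a b} ha hb x hx => by rw [add_mul]; exact hadd _ (ha x hx) _ (hb x hx)
          zero_mem' := fun x hx => by
            rw [zero_mul]; exact fun p _ => C.inT_zero p
          neg_mem' := fun {a} ha x hx => by rw [C.neg]; exact ha x hx }
      have hLall := C.field L (fun s hs => hscale s hs) (d + d * d) (fun x hx => by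
        obtain ⟨c, hc, rfl⟩ := hroot x hx
        rw [mul_comm]
        exact hkey c hc d hd) hdn
      intro x
      simpa using hLall x 1 hone
    · push Not at hk
      let L : Subring F :=
        { carrier := {y | ∃ a ∈ F₀, ∃ b ∈ F₀, y = a + b * c₀}
          mul_mem' := by
            rintro _ _ ⟨a, ha, b, hb, rfl⟩ ⟨a', ha', b', hb', rfl⟩
            refine ⟨a * a' + b * b' * (c₀ + c₀ * c₀), add_mem (mul_mem ha ha')
              (mul_mem (mul_mem hb hb') (hk c₀ hc₀S)), a * b' + b * a' + b * b',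
              add_mem (add_mem (mul_mem ha hb') (mul_mem hb ha')) (mul_mem hb hb'), ?_⟩
            linear_combination (-(b * b' * c₀)) * C.two
          one_mem' := ⟨1, one_mem _, 0, zero_mem _, by ring⟩
          add_mem' := by
            rintro _ _ ⟨a, ha, b, hb, rfl⟩ ⟨a', ha', b', hb', rfl⟩
            exact ⟨a + a', add_mem ha ha', b + b', add_mem hb hb', by ring⟩
          zero_mem' := ⟨0, zero_mem _, 0, zero_mem _, by ring⟩
          neg_mem' := by
            rintro _ ⟨a, ha, b, hb, rfl⟩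
            exact ⟨-a, neg_mem ha, -b, neg_mem hb, by ring⟩ }
      intro x
      obtain ⟨a, ha, b, hb, rfl⟩ := C.field L (fun s hs => ⟨s, hs, 0, zero_mem _, by ring⟩) c₀
        ⟨0, zero_mem _, 1, one_mem _, by ring⟩ hc₀ x
      have := hadd _ (hscale a ha 1 hone) _ (hscale b hb c₀ hc₀S)
      rwa [mul_one] at this
  exact hall

/-- every transvection -/
theorem inT_all (hex : ∃ g ∈ M, ¬ IsRat R g) (x : V) (c : F) : InT B M x c := by
  let Full : V → Prop := fun y => ∀ c, InT B M y c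
  have fsmul : ∀ {y}, Full y → ∀ a : F, Full (a • y) := fun {y} hy a c => C.inT_smul.2 (hy _)
  have fadd : ∀ {y z}, Full y → Full z → B y z ≠ 0 → Full (y + z) := by
    intro y z hy hz h
    obtain ⟨g, hg, hgv⟩ := hz (B y z)⁻¹
    intro c
    have := C.inT_conj hg (hy c)
    rwa [hgv, inv_mul_cancel₀ h, one_smul] at this
  have frat : ∀ p ∈ R, Full p := fun p hp c => C.inT_rat hex c p hp
  obtain ⟨g₀, -, hg₀⟩ := hex
  obtain ⟨p, hp, hp0⟩ : ∃ p ∈ R, p ≠ 0 := by
    by_contra hno
    push Not at hno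
    exact hg₀ ⟨1, one_ne_zero, fun q hq => by rw [hno q hq, map_zero, smul_zero]; exact zero_mem R⟩
  obtain ⟨e, he, hep, hes⟩ := C.exists_orth hp hp0
  obtain ⟨f, hf, hfp, hfe⟩ := C.exists_sep hp he hes
  have he0 : e ≠ 0 := fun h => hes 0 (zero_mem _) (by rw [h, zero_smul])
  obtain ⟨q₀, hq₀, hq₀e, hq₀p⟩ := C.exists_sep he hp (fun s hs h => by
    have hs0 : s ≠ 0 := fun h0 => hp0 (by rw [h, h0, zero_smul])
    exact hes s⁻¹ (inv_mem hs) (by rw [h, inv_smul_smul₀ hs0]))
  set q := q₀ + B q₀ f • e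
  have hq : q ∈ R := add_mem hq₀ (C.smul_mem he (C.rat _ hq₀ _ hf))
  have hpq : B p q = 1 := by simp [q, C.symm p q₀, hq₀p, C.symm p e, hep]
  have hqe : B q e = 0 := by simp [q, hq₀e, C.alt]
  have hqf : B q f = 0 := by
    simp [q, C.symm e f, hfe, C.add_self]
  have hpe : B p e = 0 := by rw [C.symm]; exact hep
  have hpf : B p f = 0 := by rw [C.symm]; exact hfp
  have hqp : B q p = 1 := by rw [C.symm]; exact hpq
  have heq' : B e q = 0 := by rw [C.symm]; exact hqe
  have hfq : B f q = 0 := by rw [C.symm]; exact hqf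
  have hef : B e f = 1 := by rw [C.symm]; exact hfe
  -- decomposition
  have hdec : ∀ x, x = (B x q • p + B x p • q) + (B x f • e + B x e • f) := by
    intro x
    have hli : LinearIndependent F ![p, q, e, f] := by
      rw [Fintype.linearIndependent_iff]
      intro g hg
      simp only [Fin.sum_univ_four, Matrix.cons_val_zero, Matrix.cons_val_one, Matrix.cons_val_two,
        Matrix.cons_val_three, Matrix.head_cons, Matrix.tail_cons, Matrix.head_fin_const] at hg
      have h1 := congrArg (B q) hg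
      have h2 := congrArg (B p) hg
      have h3 := congrArg (B f) hg
      have h4 := congrArg (B e) hg
      simp [hqp, C.alt, hqe, hqf, hpq, hpe, hpf, hfp, hfq, hfe, hep, heq', hef] at h1 h2 h3 h4
      intro i
      fin_cases i <;> assumption
    have htop := hli.span_eq_top_of_card_eq_finrank (by rw [C.dim]; simp)
    obtain ⟨a, rfl⟩ := Submodule.mem_span_range_iff_exists_fun F |>.1
      (htop.symm ▸ Submodule.mem_top : x ∈ Submodule.span F (Set.range ![p, q, e, f]))
    simp [Fin.sum_univ_four, hqp, C.alt, hqe, hqf, hpq, hpe, hpf, hfp, hfq, hfe, hep, heq', hef]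
    abel
  have plane : ∀ {s t : V}, s ∈ R → t ∈ R → B s t = 1 → ∀ a b : F, Full (a • s + b • t) := by
    intro s t hs ht hst a b
    rcases eq_or_ne a 0 with rfl | ha
    · simpa using fsmul (frat t ht) b
    rcases eq_or_ne b 0 with rfl | hb
    · simpa using fsmul (frat s hs) a
    exact fadd (fsmul (frat s hs) a) (fsmul (frat t ht) b) (by simp [hst, ha, hb])
  let InP : V → Prop := fun y => ∃ a b : F, y = a • p + b • q
  let InE : V → Prop := fun y => ∃ a b : F, y = a • e + b • f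
  have horth : ∀ {y z}, InP y → InE z → B y z = 0 := by
    rintro _ _ ⟨a, b, rfl⟩ ⟨a', b', rfl⟩
    simp [hpe, hpf, hqe, hqf]
  have stepP : ∀ {a z a'}, InP a → InE z → InP a' → Full (a + z) → B a a' ≠ 0 → Full (a' + z) := by
    intro a z a' ha hz ha' h hne
    obtain ⟨c₁, d₁, e₁⟩ := ha
    obtain ⟨c₂, d₂, e₂⟩ := ha'
    have hd : InP (a' - a) := ⟨c₂ - c₁, d₂ - d₁, by rw [e₁, e₂]; module⟩
    have hd' := plane hp hq hpq (c₂ - c₁) (d₂ - d₁)
    have := fadd h (y := a + z) (z := a' - a) (by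
      rw [show a' - a = (c₂ - c₁) • p + (d₂ - d₁) • q by rw [e₁, e₂]; module]; exact hd') (by
      rw [map_add, LinearMap.add_apply, C.symm z (a' - a), horth hd hz, add_zero, map_sub, C.alt,
        sub_zero]
      exact hne)
    rwa [show a + z + (a' - a) = a' + z by abel] at this
  have stepE : ∀ {a z z'}, InP a → InE z → InE z' → Full (a + z) → B z z' ≠ 0 → Full (a + z') := by
    intro a z z' ha hz hz' h hne
    obtain ⟨c₁, d₁, e₁⟩ := hz
    obtain ⟨c₂, d₂, e₂⟩ := hz'
    have hd : InE (z' - z) := ⟨c₂ - c₁, d₂ - d₁, by rw [e₁, e₂]; module⟩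
    have hd' := plane he hf hef (c₂ - c₁) (d₂ - d₁)
    have := fadd h (y := a + z) (z := z' - z) (by
      rw [show z' - z = (c₂ - c₁) • e + (d₂ - d₁) • f by rw [e₁, e₂]; module]; exact hd') (by
      rw [map_add, LinearMap.add_apply, horth ha hd, zero_add, map_sub, C.alt, sub_zero]
      exact hne)
    rwa [show a + z + (z' - z) = a + z' by abel] at this
  have hp' : InP p := ⟨1, 0, by simp⟩
  have hq' : InP q := ⟨0, 1, by simp⟩
  have he' : InE e := ⟨1, 0, by simp⟩
  have hf' : InE f := ⟨0, 1, by simp⟩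
  have base : ∀ a b : F, ∀ c' d' : F, (a ≠ 0 ∨ b ≠ 0) → (c' ≠ 0 ∨ d' ≠ 0) →
      Full ((a • p + b • q) + (c' • e + d' • f)) := by
    intro a b c' d' hab hcd
    have h0 : Full (p + e) := frat _ (add_mem hp he)
    have h1 : Full ((a • p + b • q) + e) := by
      by_cases hb : b = 0
      · have ha : a ≠ 0 := hab.resolve_right (fun h => h hb)
        exact stepP hq' he' ⟨a, b, rfl⟩ (stepP hp' he' hq' h0 (by rw [hpq]; exact one_ne_zero))
          (by simp [hb, hqp, ha])
      · exact stepP hp' he' ⟨a, b, rfl⟩ h0 (by simp [C.alt, hpq, hb])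
    by_cases hd : d' = 0
    · have hc : c' ≠ 0 := hcd.resolve_right (fun h => h hd)
      exact stepE ⟨a, b, rfl⟩ hf' ⟨c', d', rfl⟩ (stepE ⟨a, b, rfl⟩ he' hf' h1 (by rw [hef]; exact one_ne_zero))
        (by simp [hd, hfe, hc])
    · exact stepE ⟨a, b, rfl⟩ he' ⟨c', d', rfl⟩ h1 (by simp [C.alt, hef, hd])
  have hfull : Full x := by
    rw [hdec x]
    by_cases h1 : B x q = 0 ∧ B x p = 0
    · simpa [h1.1, h1.2] using plane he hf hef (B x f) (B x e)
    by_cases h2 : B x f = 0 ∧ B x e = 0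
    · simpa [h2.1, h2.2] using plane hp hq hpq (B x q) (B x p)
    exact base _ _ _ _ (by tauto) (by tauto)
  exact hfull c

end Ctx

end CfsgLib.MaxSub.SpSubTwo
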