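import Cfsg.Agent.Lib.MaxSub.IsoPieces
import Cfsg.Agent.Lib.MaxSub.IsoOrth
import Cfsg.Agent.Lib.Geom.PSpInvol
import Cfsg.Agent.Lib.Geom.GUEquiv
import Cfsg.Agent.Lib.Classical.HermOrder

/-!
A symplectic space with an anti-self-adjoint `J`, `J ^ 2 = δ` a non-square: elements commuting or anticommuting
with `J`, invariant subspaces of elements of prime order commuting with `J`, the unitary group inside.
-/

set_option autoImplicit false

namespace CfsgLib.MaxSub.SpUnitFix

open Polynomial CfsgLib.MaxSub CfsgLib.MaxSub.IsoSemi CfsgLib.Classical CfsgLib.Geom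

universe u v

variable {F : Type u} [Field F] {V : Type v} [AddCommGroup V] [Module F V]

/-- `J` is anti-self-adjoint for the alternating `B` with square a non-square. -/
structure Anti (B : V →ₗ[F] V →ₗ[F] F) (J : Module.End F V) (δ : F) : Prop where
  alt : ∀ v, B v v = 0
  sep : ∀ x, (∀ y, B x y = 0) → x = 0
  anti : ∀ u v, B (J u) v = -B u (J v)
  sq : ∀ v, J (J v) = δ • v
  nonsq : ∀ c : F, c * c ≠ δ

variable {B : V →ₗ[F] V →ₗ[F] F} {J : Module.End F V} {δ : F}

namespace Anti

variable (A : Anti B J δ)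
include A

theorem swap (x y : V) : B y x = -B x y := by
  have h := A.alt (x + y)
  simp only [map_add, LinearMap.add_apply, A.alt, zero_add, add_zero] at h
  linear_combination h

theorem symm (x y : V) : B x (J y) = B y (J x) := by
  rw [A.swap (J y) x, A.anti, neg_neg]

theorem δ_ne : δ ≠ 0 := fun h => A.nonsq 0 (by rw [mul_zero, h])

theorem J_inj {v : V} (h : J v = 0) : v = 0 := by
  have h1 := A.sq v
  rw [h, map_zero] at h1
  exact (smul_eq_zero.1 h1.symm).resolve_left A.δ_ne

theorem J_surj (v : V) : J (δ⁻¹ • J v) = v := by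
  rw [map_smul, A.sq, smul_smul, inv_mul_cancel₀ A.δ_ne, one_smul]

theorem form_JJ (u v : V) : B (J u) (J v) = -(δ * B u v) := by
  rw [A.anti, A.sq, map_smul, smul_eq_mul]

end Anti

/-- The combination of a family and its image. -/
def comb (J : Module.End F V) {s : ℕ} (v : Fin s → V) : (Fin s → F × F) →ₗ[F] V where
  toFun c := ∑ a, ((c a).1 • v a + (c a).2 • J (v a))
  map_add' c c' := by
    rw [← Finset.sum_add_distrib]
    refine Finset.sum_congr rfl fun a _ => ?_
    rw [Pi.add_apply, Prod.fst_add, Prod.snd_add, add_smul, add_smul]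
    abel
  map_smul' t c := by
    rw [Finset.smul_sum]
    refine Finset.sum_congr rfl fun a _ => ?_
    rw [Pi.smul_apply, Prod.smul_fst, Prod.smul_snd, RingHom.id_apply, smul_add, smul_smul, smul_smul,
      smul_eq_mul, smul_eq_mul]

/-- The coordinates belonging to a family. -/
noncomputable def coord (B : V →ₗ[F] V →ₗ[F] F) (J : Module.End F V) {s : ℕ} (v : Fin s → V) :
    V →ₗ[F] (Fin s → F × F) :=
  LinearMap.pi fun a => ((B (v a) (J (v a)))⁻¹ • B.flip (J (v a))).prod ((-(B (v a) (J (v a)))⁻¹) • B.flip (v a))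

theorem comb_apply {s : ℕ} (v : Fin s → V) (c : Fin s → F × F) :
    comb J v c = ∑ a, ((c a).1 • v a + (c a).2 • J (v a)) := rfl

theorem coord_apply {s : ℕ} (v : Fin s → V) (x : V) (a : Fin s) : coord B J v x a =
    ((B (v a) (J (v a)))⁻¹ * B x (J (v a)), -(B (v a) (J (v a)))⁻¹ * B x (v a)) := rfl

/-- An orthogonal family of anisotropic vectors. -/
structure Orth (B : V →ₗ[F] V →ₗ[F] F) (J : Module.End F V) {s : ℕ} (v : Fin s → V) : Prop where
  ti : ∀ a b, B (v a) (v b) = 0
  orth : ∀ a b, a ≠ b → B (v a) (J (v b)) = 0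
  aniso : ∀ a, B (v a) (J (v a)) ≠ 0

section orth

variable (A : Anti B J δ) {s : ℕ} {v : Fin s → V} (O : Orth B J v)
include A O

theorem coord_comb (c : Fin s → F × F) : coord B J v (comb J v c) = c := by
  funext b
  have h1 : B (comb J v c) (J (v b)) = (c b).1 * B (v b) (J (v b)) := by
    rw [comb_apply, map_sum, LinearMap.sum_apply, Finset.sum_eq_single b]
    · simp [A.form_JJ, O.ti]
    · intro a _ hab; simp [A.form_JJ, O.ti, O.orth a b hab]
    · simp
  have h2 : B (comb J v c) (v b) = -((c b).2 * B (v b) (J (v b))) := by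
    rw [comb_apply, map_sum, LinearMap.sum_apply, Finset.sum_eq_single b]
    · simp [A.anti, O.ti]
    · intro a _ hab; simp [A.anti, O.ti, O.orth a b hab]
    · simp
  rw [coord_apply, h1, h2]
  have := O.aniso b
  refine Prod.ext ?_ ?_ <;> dsimp only <;> field_simp

theorem comb_injective : Function.Injective (comb J v) := Function.LeftInverse.injective (coord_comb A O)

theorem form_comb (x : V) (b : Fin s → F × F) : B x (comb J v b) =
    ∑ k, B (v k) (J (v k)) * ((coord B J v x k).1 * (b k).2 - (coord B J v x k).2 * (b k).1) := by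
  rw [comb_apply, map_sum]
  refine Finset.sum_congr rfl fun k _ => ?_
  rw [map_add, map_smul, map_smul, smul_eq_mul, smul_eq_mul, coord_apply]
  have := O.aniso k
  field_simp
  ring

theorem coord_J (x : V) (a : Fin s) : coord B J v (J x) a = (δ * (coord B J v x a).2, (coord B J v x a).1) := by
  rw [coord_apply, coord_apply, A.form_JJ, A.anti]
  refine Prod.ext ?_ ?_ <;> dsimp only <;> ring

theorem J_comb (c : Fin s → F × F) : J (comb J v c) = comb J v fun a => (δ * (c a).2, (c a).1) := by
  rw [comb_apply, comb_apply, map_sum]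
  refine Finset.sum_congr rfl fun a _ => ?_
  rw [map_add, map_smul, map_smul, A.sq, smul_smul, mul_comm]
  exact add_comm _ _

/-- One more vector. -/
theorem orth_extend [FiniteDimensional F V] (h2 : (2 : F) ≠ 0) (hs : 2 * s < Module.finrank F V) :
    ∃ w, B w (J w) ≠ 0 ∧ ∀ a, B w (v a) = 0 ∧ B w (J (v a)) = 0 := by
  by_contra hno
  push Not at hno
  let W : Submodule F V := LinearMap.ker (coord B J v)
  have hW : ∀ {w}, w ∈ W → ∀ a, B w (v a) = 0 ∧ B w (J (v a)) = 0 := by
    intro w hw a
    have h := congrFun (show coord B J v w = 0 from hw) a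
    rw [coord_apply] at h
    exact ⟨(mul_eq_zero.1 (congrArg Prod.snd h)).resolve_left (neg_ne_zero.2 (inv_ne_zero (O.aniso a))),
      (mul_eq_zero.1 (congrArg Prod.fst h)).resolve_left (inv_ne_zero (O.aniso a))⟩
  have hQ : ∀ {w}, w ∈ W → B w (J w) = 0 := fun {w} hw => by
    by_contra h
    obtain ⟨a, ha⟩ := hno w h
    exact ha (hW hw a).1 (hW hw a).2
  have hJ : ∀ {w}, w ∈ W → J w ∈ W := fun {w} hw => by
    show coord B J v (J w) = 0
    funext a
    rw [coord_J A O, show coord B J v w = 0 from hw]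
    simp
  have hpol : ∀ {w z}, w ∈ W → z ∈ W → B w z = 0 := fun {w z} hw hz => by
    obtain ⟨z', hz', rfl⟩ : ∃ z' ∈ W, J z' = z := ⟨_, W.smul_mem δ⁻¹ (hJ hz), A.J_surj z⟩
    have h := hQ (W.add_mem hw hz')
    simp only [map_add, LinearMap.add_apply, hQ hw, hQ hz', A.symm z' w] at h
    have : (2 : F) * B w (J z') = 0 := by linear_combination h
    exact (mul_eq_zero.1 this).resolve_left h2
  have hW0 : W = ⊥ := (Submodule.eq_bot_iff _).2 fun w hw => A.sep w fun x => by
    have hx : x - comb J v (coord B J v x) ∈ W := by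
      show coord B J v _ = 0
      rw [map_sub, coord_comb A O, sub_self]
    have h := hpol hw hx
    rw [map_sub, form_comb A O, show coord B J v w = 0 from hw] at h
    simpa using h
  have hr := LinearMap.finrank_le_finrank_of_injective (LinearMap.ker_eq_bot.1 hW0)
  rw [Module.finrank_pi_fintype] at hr
  simp only [Module.finrank_prod, Module.finrank_self, Finset.sum_const, Finset.card_univ, Fintype.card_fin,
    smul_eq_mul] at hr
  omega

end orth

variable [FiniteDimensional F V] (A : Anti B J δ) (h2 : (2 : F) ≠ 0) {n : ℕ} (hn : Module.finrank F V = 2 * n)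
include A h2 hn

theorem exists_orth : ∀ s ≤ n, ∃ v : Fin s → V, Orth B J v := by
  intro s
  induction s with
  | zero => exact fun _ => ⟨Fin.elim0, ⟨fun a => a.elim0, fun a => a.elim0, fun a => a.elim0⟩⟩
  | succ s ih =>
    intro hs
    obtain ⟨v, O⟩ := ih (by omega)
    obtain ⟨w, hw, hwv⟩ := orth_extend A O h2 (by omega)
    refine ⟨Fin.cons w v, ⟨fun a b => ?_, fun a b hab => ?_, fun a => ?_⟩⟩
    · induction a using Fin.cases with
      | zero => induction b using Fin.cases with
        | zero => simpa using A.alt w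
        | succ b => simpa using (hwv b).1
      | succ a => induction b using Fin.cases with
        | zero => simpa [A.swap w (v a)] using (hwv a).1
        | succ b => simpa using O.ti a b
    · induction a using Fin.cases with
      | zero => induction b using Fin.cases with
        | zero => exact absurd rfl hab
        | succ b => simpa using (hwv b).2
      | succ a => induction b using Fin.cases with
        | zero => simpa [A.symm (v a) w] using (hwv a).2
        | succ b => simpa using O.orth a b fun h => hab (by rw [h])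
    · induction a using Fin.cases with
      | zero => simpa using hw
      | succ a => simpa using O.aniso a

/-- Involutions commuting with `J`, every type. -/
theorem exists_invol {s : ℕ} (hs : s ≤ n) : ∃ y : V ≃ₗ[F] V, (∀ u v, B (y u) (y v) = B u v) ∧
    (∀ v, y (J v) = J (y v)) ∧ (∀ v, y (y v) = v) ∧
      Module.finrank F ↥(LinearMap.ker (y.toLinearMap - 1)) = 2 * n - 2 * s := by
  obtain ⟨v, O⟩ := exists_orth A h2 hn s hs
  let P : Module.End F V := (comb J v).comp (coord B J v)
  have hP : ∀ x, P (P x) = P x := fun x => congrArg (comb J v) (coord_comb A O _)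
  have hJ : ∀ x, P (J x) = J (P x) := fun x => by
    show comb J v _ = J (comb J v _)
    rw [J_comb A O]
    exact congrArg (comb J v) (funext fun a => coord_J A O x a)
  let f : Module.End F V := 1 - (2 : F) • P
  have hf : ∀ x, f x = x - (2 : F) • P x := fun x => rfl
  have hff : ∀ x, f (f x) = x := fun x => by
    rw [hf, hf, map_sub, map_smul, hP]; module
  obtain ⟨y, hy⟩ : ∃ y : V ≃ₗ[F] V, ∀ x, y x = f x :=
    ⟨LinearEquiv.ofLinear f f (LinearMap.ext hff) (LinearMap.ext hff), fun x => rfl⟩
  refine ⟨y, fun u w => ?_, fun x => by rw [hy, hy, hf, hf, hJ, map_sub, map_smul],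
    fun x => by rw [hy, hy, hff], ?_⟩
  · have h1 : ∀ x z, B x (P z) = B (P x) (P z) := fun x z => by
      show B x (comb J v _) = B (comb J v _) (comb J v _)
      rw [form_comb A O, form_comb A O, coord_comb A O]
    have h3 : B (P u) w = B (P u) (P w) := by
      rw [A.swap w (P u), h1, A.swap (P u) (P w), neg_neg]
    simp only [hy, hf, map_sub, map_smul, LinearMap.sub_apply, LinearMap.smul_apply, smul_eq_mul, h1 u w, h3]
    ring
  · have hk : LinearMap.ker (y.toLinearMap - 1) = LinearMap.ker P := by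
      ext x
      rw [LinearMap.mem_ker, LinearMap.mem_ker, LinearMap.sub_apply, Module.End.one_apply, LinearEquiv.coe_coe, hy,
        hf, sub_sub_cancel_left, neg_eq_zero, smul_eq_zero]
      exact ⟨fun h => h.resolve_left h2, Or.inr⟩
    have hr := P.finrank_range_add_finrank_ker
    have hrange : LinearMap.range P = LinearMap.range (comb J v) :=
      le_antisymm (LinearMap.range_comp_le_range _ _) (by
        rintro _ ⟨c, rfl⟩; exact ⟨comb J v c, congrArg (comb J v) (coord_comb A O c)⟩)
    rw [hrange, LinearMap.finrank_range_of_inj (comb_injective A O), Module.finrank_pi_fintype, hn] at hr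
    simp only [Module.finrank_prod, Module.finrank_self, Finset.sum_const, Finset.card_univ, Fintype.card_fin,
      smul_eq_mul] at hr
    rw [hk]
    omega

/-- An element of square `-1` commuting or anticommuting with `J`. -/
theorem exists_sq_neg (h : (∃ i : F, i * i = -1) ∨ ∃ t : F, t * t * δ = -1) : ∃ y : V ≃ₗ[F] V, ∃ β : F, β ≠ 0 ∧
    (∀ u v, B (y u) (y v) = B u v) ∧ (∀ v, y (J v) = β • J (y v)) ∧ ∀ v, y (y v) = -v := by
  rcases h with ⟨i, hi⟩ | ⟨t, ht⟩
  · obtain ⟨v, O⟩ := exists_orth A h2 hn n le_rfl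
    have hall : ∀ x, comb J v (coord B J v x) = x := fun x => by
      have hsurj : Function.Surjective (comb J v) := by
        refine (LinearMap.injective_iff_surjective_of_finrank_eq_finrank ?_).1 (comb_injective A O)
        rw [hn, Module.finrank_pi_fintype]
        simp [Module.finrank_prod, mul_comm]
      obtain ⟨c, rfl⟩ := hsurj x
      rw [coord_comb A O]
    let f : Module.End F V := (comb J v).comp
      ((LinearMap.pi fun a => ((i • LinearMap.fst F F F).prod ((-i) • LinearMap.snd F F F)).comp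
        (LinearMap.proj (φ := fun _ => F × F) a)).comp (coord B J v))
    have hf : ∀ x, coord B J v (f x) = fun a => (i * (coord B J v x a).1, -i * (coord B J v x a).2) :=
      fun x => coord_comb A O _
    have hff : ∀ x, f (f x) = -x := fun x => by
      conv_rhs => rw [← hall x, ← map_neg]
      rw [← hall (f (f x)), hf, hf]
      congr 1
      funext a
      refine Prod.ext ?_ ?_
      · simp only [Pi.neg_apply, Prod.fst_neg]; linear_combination (coord B J v x a).1 * hi
      · simp only [Pi.neg_apply, Prod.snd_neg]; linear_combination (coord B J v x a).2 * hi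
    obtain ⟨y, hy⟩ : ∃ y : V ≃ₗ[F] V, ∀ x, y x = f x :=
      ⟨LinearEquiv.ofLinear f (-f) (LinearMap.ext fun x => by simp [hff])
        (LinearMap.ext fun x => by simp [hff]), fun x => rfl⟩
    refine ⟨y, -1, by norm_num, fun u w => ?_, fun x => ?_, fun x => by rw [hy, hy, hff]⟩
    · rw [hy, hy]
      conv_lhs => rw [← hall (f w)]
      conv_rhs => rw [← hall w]
      rw [form_comb A O, form_comb A O, hf, hf]
      refine Finset.sum_congr rfl fun k _ => ?_
      linear_combination (-(B (v k) (J (v k)) *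
        ((coord B J v u k).1 * (coord B J v w k).2 - (coord B J v u k).2 * (coord B J v w k).1))) * hi
    · rw [hy, hy, neg_one_smul, ← hall (f (J x)), ← hall (J (f x)), ← map_neg]
      refine congrArg (comb J v) (funext fun a => ?_)
      rw [hf]
      simp only [Pi.neg_apply, coord_J A O, hf]
      refine Prod.ext ?_ ?_ <;> simp only [Prod.fst_neg, Prod.snd_neg] <;> ring
  · let f : Module.End F V := t • J
    have hf : ∀ x, f x = t • J x := fun x => rfl
    have hff : ∀ x, f (f x) = -x := fun x => by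
      rw [hf, hf, map_smul, A.sq, smul_smul, smul_smul, ht, neg_one_smul]
    obtain ⟨y, hy⟩ : ∃ y : V ≃ₗ[F] V, ∀ x, y x = f x :=
      ⟨LinearEquiv.ofLinear f (-f) (LinearMap.ext fun x => by simp [hff])
        (LinearMap.ext fun x => by simp [hff]), fun x => rfl⟩
    refine ⟨y, 1, one_ne_zero, fun u w => ?_, fun x => ?_, fun x => by rw [hy, hy, hff]⟩
    · rw [hy, hy, hf, hf, map_smul, map_smul, LinearMap.smul_apply, A.form_JJ, smul_eq_mul, smul_eq_mul]
      linear_combination (-(B u w)) * ht
    · rw [hy, hy, one_smul, hf, hf, map_smul]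

omit h2 hn

variable [Fintype F] {p : ℕ} [Fact p.Prime] [CharP F p] {r : ℕ} {T : Module.End F V} (hr : r.Prime)
  (hiso : ∀ u v, B (T u) (T v) = B u v) (hpow : T ^ r = 1) (hrF : (r : F) ≠ 0) (hr2 : r ≠ 2)
  (hcomm : ∀ v, T (J v) = J (T v))
include hr hiso hpow hrF hr2

omit [Fintype F] [Fact p.Prime] [CharP F p] [FiniteDimensional F V] in
theorem ctx : Ctx B T r where
  sep := A.sep
  refl := fun x y h => by rw [A.swap x y, h, neg_zero]
  invol := fun _ => rfl
  flip := ⟨-1, by simp, fun u v => by rw [A.swap u v, neg_one_mul]; rfl⟩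
  iso := hiso
  pow := hpow
  prime := hr
  rne := hrF
  rne2 := hr2

include hcomm

omit [Fintype F] [FiniteDimensional F V] hrF hr2 hr hiso hpow in
theorem J_mov {x : V} (hx : x ∈ LinearMap.range (T - 1)) : J x ∈ LinearMap.range (T - 1) := by
  obtain ⟨w, rfl⟩ := hx
  exact ⟨J w, by rw [LinearMap.sub_apply, LinearMap.sub_apply, Module.End.one_apply, Module.End.one_apply, hcomm,
    map_sub]⟩

include p in
/-- Multiplicative order odd: no minimal moving space. -/
theorem contra_odd {i : ℕ} (hi : i = orderOf (Fintype.card F : ZMod r)) (hodd : Odd i)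
    (hc : Module.finrank F ↥(LinearMap.range (T - 1)) = 2 * i) : False := by
  haveI : Fact r.Prime := ⟨hr⟩
  have hC := ctx A hr hiso hpow hrF hr2
  obtain ⟨X, hXR, hXi, hXd⟩ := exists_sub hC (inv_mov T) le_rfl 1 (by rw [hc, ← hi]; omega)
  rw [mul_one] at hXd
  have hsd : ¬ SelfDual (Fintype.card F) (p ^ 0) r := fun h =>
    (Nat.not_even_iff_odd.2 hodd) ((IsoOrth.sd_iff hi hr2 hodd.pos).1 h)
  have hσp : ∀ x : F, (RingHom.id F) x = x ^ p ^ 0 := fun x => by simp
  have hti := ti_of_not_sd hC hσp hsd hXi hXR hXd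
  let B' : V →ₗ[F] V →ₗ[F] F := B.compl₂ J
  have hC' : Ctx B' T r :=
    { sep := fun x hx => A.sep x fun y => by
        have := hx (δ⁻¹ • J y)
        rwa [LinearMap.compl₂_apply, A.J_surj] at this
      refl := fun x y h => by simpa [B', A.symm y x] using h
      invol := fun _ => rfl
      flip := ⟨1, by simp, fun u v => by simp [B', A.symm v u]⟩
      iso := fun u v => by simp [B', ← hcomm, hiso]
      pow := hpow
      prime := hr
      rne := hrF
      rne2 := hr2 }
  have hti' := ti_of_not_sd hC' hσp hsd hXi hXR hXd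
  let Y : Submodule F V := X.map J
  have hYR : Y ≤ LinearMap.range (T - 1) := by
    rintro _ ⟨x, hx, rfl⟩; exact J_mov A hcomm (hXR hx)
  have hYi : Y.map T ≤ Y := by
    rintro _ ⟨_, ⟨x, hx, rfl⟩, rfl⟩; exact ⟨T x, apply_mem hXi hx, (hcomm x).symm⟩
  have hYd : Module.finrank F Y = Module.finrank F X :=
    (Submodule.equivMapOfInjective J (fun a b h => sub_eq_zero.1 (A.J_inj (by rw [map_sub, h, sub_self]))) X).finrank_eq.symm
  rcases simple hC hXd hXR (inv_inf hXi hYi) inf_le_left with h | h
  · have hsup : X ⊔ Y = LinearMap.range (T - 1) := by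
      refine Submodule.eq_of_le_of_finrank_le (sup_le hXR hYR) ?_
      have := Submodule.finrank_sup_add_finrank_inf_eq X Y
      rw [h, finrank_bot, hYd] at this
      rw [hXd, ← hi] at this
      omega
    refine ne_bot_of_finrank hC hXd ((Submodule.eq_bot_iff _).2 fun x hx => ?_)
    refine nd_mov hC x (hXR hx) fun w hw => ?_
    rw [← hsup] at hw
    obtain ⟨w₁, hw₁, _, ⟨w₂, hw₂, rfl⟩, rfl⟩ := Submodule.mem_sup.1 hw
    rw [map_add, hti x hx w₁ hw₁, zero_add]
    exact hti' x hx w₂ hw₂
  · have hJX : ∀ x ∈ X, J x ∈ X := fun x hx => by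
      have hXY : X = Y := Submodule.eq_of_le_of_finrank_le (inf_eq_left.1 h) hYd.le
      rw [hXY]; exact ⟨x, hx, rfl⟩
    have hsq : (J.restrict hJX).comp (J.restrict hJX) = δ • LinearMap.id :=
      LinearMap.ext fun x => Subtype.ext (A.sq x)
    have hdet := congrArg LinearMap.det hsq
    rw [LinearMap.det_comp, LinearMap.det_smul, LinearMap.det_id, mul_one, hXd, ← hi] at hdet
    obtain ⟨k, rfl⟩ := hodd
    have hne : δ ^ k ≠ 0 := pow_ne_zero _ A.δ_ne
    refine A.nonsq (LinearMap.det (J.restrict hJX) / δ ^ k) ?_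
    field_simp
    linear_combination hdet

/-- Multiplicative order divisible by four: no minimal moving space. -/
theorem contra_four (h2 : (2 : F) ≠ 0) {i : ℕ} (hi : i = orderOf (Fintype.card F : ZMod r)) (h4 : 4 ∣ i)
    (hc : Module.finrank F ↥(LinearMap.range (T - 1)) = i) : False := by
  haveI : Fact r.Prime := ⟨hr⟩
  have hC := ctx A hr hiso hpow hrF hr2
  obtain ⟨R, hR⟩ : ∃ R, R = LinearMap.range (T - 1) := ⟨_, rfl⟩
  rw [← hR] at hc
  have hRi : R.map T ≤ R := hR ▸ inv_mov T
  have hd : Module.finrank F R = orderOf (Fintype.card F : ZMod r) := hc.trans hi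
  obtain ⟨w, hw, hw0⟩ := (Submodule.ne_bot_iff R).1 (ne_bot_of_finrank hC hd)
  let E : F[X] →ₗ[F] V := (LinearMap.applyₗ w).comp (aeval T).toLinearMap
  have hE : ∀ f, E f = aeval T f w := fun f => rfl
  have hEi : (LinearMap.range E).map T ≤ LinearMap.range E := by
    rintro _ ⟨_, ⟨f, rfl⟩, rfl⟩
    exact ⟨X * f, by rw [hE, hE, map_mul, Module.End.mul_apply, aeval_X]⟩
  rcases simple hC hd hR.le hEi (by rintro _ ⟨f, rfl⟩; exact aeval_apply_mem hRi f hw) with h | h
  · refine hw0 ((Submodule.mem_bot F).1 (h ▸ ⟨1, ?_⟩))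
    rw [hE, map_one, Module.End.one_apply]
  obtain ⟨f, hf⟩ : J w ∈ LinearMap.range E := by
    rw [h, hR]; exact J_mov A hcomm (hR ▸ hw)
  rw [hE] at hf
  have hcf : ∀ (g : F[X]) x, J (aeval T g x) = aeval T g (J x) := fun g x => by
    induction g using Polynomial.induction_on' with
    | add g g' hg hg' => simp [hg, hg']
    | monomial k a =>
      have hk : ∀ k x, J ((T ^ k) x) = (T ^ k) (J x) := by
        intro k
        induction k with
        | zero => simp
        | succ k ih => intro x; rw [pow_succ', Module.End.mul_apply, Module.End.mul_apply, ← hcomm, ih]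
      simp [aeval_monomial, hk]
  have hJ : ∀ x ∈ R, J x = aeval T f x := by
    intro x hx
    obtain ⟨g, rfl⟩ : x ∈ LinearMap.range E := h.symm ▸ hx
    rw [hE, hcf, ← hf, ← Module.End.mul_apply, ← Module.End.mul_apply, ← map_mul, ← map_mul, mul_comm]
  have hRJ : ∀ x ∈ R, J x ∈ R := fun x hx => hR ▸ J_mov A hcomm (hR ▸ hx)
  obtain ⟨m, hm⟩ := h4
  obtain ⟨Q, hQ⟩ : ∃ Q, Q = Fintype.card F ^ (2 * m) := ⟨_, rfl⟩
  have hTQ : T ^ (r - 1) = T ^ Q := pow_modEq hC <| by
    rw [← Nat.ModEq, ← ZMod.natCast_eq_natCast_iff, Nat.cast_sub hr.one_le, ZMod.natCast_self, hQ,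
      Nat.cast_pow, Nat.cast_one, zero_sub]
    have h1 : ((Fintype.card F : ZMod r) ^ (2 * m)) ^ 2 = 1 := by
      rw [← pow_mul, show 2 * m * 2 = i by omega, hi, pow_orderOf_eq_one]
    rcases sq_eq_one_iff.1 h1 with h | h
    · have hpos : 0 < i := hi ▸ ord_pos hC
      have := Nat.le_of_dvd (by omega) (orderOf_dvd_of_pow_eq_one h)
      omega
    · exact h.symm
  obtain ⟨e, he, heδ⟩ : ∃ e, Q = 2 * e + 1 ∧ δ ^ e = 1 := by
    obtain ⟨k, hk⟩ : Fintype.card F ^ 2 - 1 ∣ Q - 1 := by
      rw [hQ, pow_mul]; simpa using Nat.sub_dvd_pow_sub_pow (Fintype.card F ^ 2) 1 m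
    obtain ⟨a, ha⟩ : Odd (Fintype.card F) :=
      Nat.odd_iff.2 (FiniteField.odd_card_of_char_ne_two fun hc => h2 (by
        have := ringChar.charP F
        rw [hc] at this
        exact_mod_cast CharP.cast_eq_zero F 2))
    refine ⟨(Fintype.card F - 1) * ((a + 1) * k), ?_, ?_⟩
    · have hQ0 : 0 < Q := hQ ▸ pow_pos Fintype.card_pos _
      have : Fintype.card F ^ 2 - 1 = 2 * ((Fintype.card F - 1) * (a + 1)) := by
        rw [ha, show 2 * a + 1 - 1 = 2 * a by omega]
        exact Nat.sub_eq_of_eq_add (by ring)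
      rw [this] at hk
      rw [← mul_assoc, ← mul_assoc]
      rw [← mul_assoc] at hk
      omega
    · rw [pow_mul, FiniteField.pow_card_sub_one_eq_one δ A.δ_ne, one_pow]
  have hJ2 : ∀ k x, (J ^ (2 * k)) x = δ ^ k • x := by
    intro k
    induction k with
    | zero => intro x; simp
    | succ k ih => intro x; rw [mul_add, mul_one, pow_add, Module.End.mul_apply, ih, pow_two, Module.End.mul_apply,
        A.sq, smul_smul, pow_succ]
  have hpowR : ∀ k, ∀ x ∈ R, (aeval T f ^ k) x = (J ^ k) x := by
    intro k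
    induction k with
    | zero => intro x _; rfl
    | succ k ih =>
      intro x hx
      rw [pow_succ, pow_succ, Module.End.mul_apply, Module.End.mul_apply, ← hJ x hx, ih _ (hRJ x hx)]
  refine ne_bot_of_finrank hC hd ((Submodule.eq_bot_iff _).2 fun x hx => ?_)
  refine nd_mov hC x (hR ▸ hx) fun w hw => ?_
  rw [← hR] at hw
  obtain ⟨z, hz, rfl⟩ : ∃ z ∈ R, J z = w := ⟨_, R.smul_mem δ⁻¹ (hRJ w hw), A.J_surj w⟩
  have h1 := A.anti x z
  rw [hJ x hx, aeval_adj hC, Polynomial.map_id, expand_aeval, hTQ, ← expand_aeval, hQ, expand_card_pow,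
    map_pow, ← hQ, hpowR Q z hz, he, pow_succ, Module.End.mul_apply, hJ2, heδ, one_smul] at h1
  have h3 : (2 : F) * B x (J z) = 0 := by linear_combination h1
  exact (mul_eq_zero.1 h3).resolve_left h2

end CfsgLib.MaxSub.SpUnitFix
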