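import Cfsg.Agent.Lib.MaxSub.SpUnitFix

/-!
The hermitian form attached to an anti-self-adjoint `J`, and the order of its isometry group inside a group of
linear maps.
-/

set_option autoImplicit false

namespace CfsgLib.MaxSub.SpUnitFix

open CfsgLib.MaxSub CfsgLib.Classical CfsgLib.Geom

universe u v w

variable {F : Type u} [Field F] [Fintype F] {V : Type v} [AddCommGroup V] [Module F V] [FiniteDimensional F V]
  {B : V →ₗ[F] V →ₗ[F] F} {J : Module.End F V} {δ : F}
  {L : Type w} [Field L] [Fintype L] [Algebra F L] [Module L V] [IsScalarTower F L V]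

/-- Any group containing the isometries commuting with `J` is divisible by the order of the unitary group. -/
theorem card_gu_dvd (A : Anti B J δ) (h2 : (2 : F) ≠ 0) {q n : ℕ} (hq : Fintype.card F = q)
    (hL : Fintype.card L = q ^ 2) (hn : Module.finrank F V = 2 * n) {θ : L} (hθ : θ * θ = algebraMap F L δ)
    (hθJ : ∀ v, θ • v = J v) (hspan : ∀ a : L, ∃ c₀ c₁ : F, a = algebraMap F L c₀ + algebraMap F L c₁ * θ)
    (G : Subgroup (V ≃ₗ[F] V))
    (hG : ∀ g : V ≃ₗ[F] V, (∀ u v, B (g u) (g v) = B u v) → (∀ v, g (J v) = J (g v)) → g ∈ G) :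
    Nat.card (Cfsg.GU n L q) ∣ Nat.card G := by
  haveI : FiniteDimensional F L := Module.Finite.of_finite
  haveI : FiniteDimensional L V := Module.Finite.of_restrictScalars_finite F L V
  have hindep : ∀ {a b a' b' : F}, algebraMap F L a + algebraMap F L b * θ = algebraMap F L a' + algebraMap F L b' * θ →
      a = a' ∧ b = b' := by
    intro a b a' b' h
    by_cases hb : b = b'
    · subst hb
      exact ⟨(algebraMap F L).injective (add_right_cancel h), rfl⟩
    refine absurd ?_ (A.nonsq ((a' - a) / (b - b')))
    have hne : algebraMap F L (b - b') ≠ 0 := (map_ne_zero _).2 (sub_ne_zero.2 hb)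
    have hθeq : θ = algebraMap F L ((a' - a) / (b - b')) := by
      rw [map_div₀, eq_div_iff hne, map_sub, map_sub]
      linear_combination h
    exact (algebraMap F L).injective (by rw [map_mul, ← hθeq, hθ])
  have hfix : ∀ a : F, qFrob hL (algebraMap F L a) = algebraMap F L a := fun a => by
    rw [qFrob_apply, ← map_pow, ← hq, FiniteField.pow_card]
  have hneg : qFrob hL θ = -θ := by
    have h1 : qFrob hL θ * qFrob hL θ = θ * θ := by rw [← map_mul, hθ, hfix]
    refine (mul_self_eq_mul_self_iff.1 h1).resolve_left fun h => qFrob_ne_id hL (RingHom.ext fun a => ?_)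
    obtain ⟨c₀, c₁, rfl⟩ := hspan a
    rw [map_add, map_mul, hfix, hfix, h, RingHom.id_apply]
  have htow : ∀ (a : F) (v : V), algebraMap F L a • v = a • v := fun a v => algebraMap_smul L a v
  let h : V →ₛₗ[qFrob hL] V →ₗ[L] L := LinearMap.mk₂'ₛₗ (qFrob hL) (RingHom.id L)
    (fun u v => algebraMap F L (B u (J v)) + θ * algebraMap F L (B u v))
    (fun u u' v => by simp only [map_add, LinearMap.add_apply]; ring)
    (fun a u v => by
      obtain ⟨c₀, c₁, rfl⟩ := hspan a
      rw [add_smul, mul_smul, htow, htow, hθJ, smul_eq_mul]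
      simp only [map_add, LinearMap.add_apply, map_smul, LinearMap.smul_apply, A.anti, A.sq, smul_eq_mul, map_mul,
        map_neg, hfix, hneg]
      linear_combination (algebraMap F L c₁ * algebraMap F L (B u v)) * hθ)
    (fun u v v' => by simp only [map_add]; ring)
    (fun a u v => by
      obtain ⟨c₀, c₁, rfl⟩ := hspan a
      rw [add_smul, mul_smul, htow, htow, hθJ, RingHom.id_apply, smul_eq_mul]
      simp only [map_add, map_smul, A.sq, smul_eq_mul, map_mul]
      linear_combination (-(algebraMap F L c₁ * algebraMap F L (B u v))) * hθ)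
  have happ : ∀ u v, h u v = algebraMap F L (B u (J v)) + θ * algebraMap F L (B u v) := fun u v => rfl
  have hS : ∀ u v, qFrob hL (h u v) = h v u := fun u v => by
    rw [happ, happ, map_add, map_mul, hfix, hfix, hneg, A.symm u v, A.swap v u, map_neg]
    ring
  have hsep : ∀ x, (∀ y, h x y = 0) → x = 0 := fun x hx => A.sep x fun y => by
    have h1 := hx y
    rw [happ, ← map_zero (algebraMap F L), ← add_zero (algebraMap F L 0), ← zero_mul θ, mul_comm θ,
      ← map_zero (algebraMap F L)] at h1
    exact (hindep h1).2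
  have hd : Module.finrank L V = n := by
    have h1 := Module.finrank_mul_finrank F L V
    have h2 : Module.finrank F L = 2 := by
      have h3 := Module.card_eq_pow_finrank (K := F) (V := L)
      rw [hL, hq] at h3
      exact (Nat.pow_right_injective (hq ▸ Fintype.one_lt_card) h3).symm
    rw [h2, hn] at h1
    omega
  obtain ⟨e, he⟩ := exists_isometry_hermB hL n h hS hsep hd
  rw [card_gu_eq_formIsoms hL]
  let φ : ↥(formIsoms (hermB hL n)) →* (V ≃ₗ[F] V) := MonoidHom.mk'
    (fun g => (e.trans (g.1.trans e.symm)).restrictScalars F) fun a b => LinearEquiv.ext fun v => by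
      simp [LinearEquiv.mul_apply]
  have hφ : ∀ g v, φ g v = e.symm (g.1 (e v)) := fun g v => rfl
  have hinj : Function.Injective φ := fun a b hab => Subtype.ext (LinearEquiv.ext fun v => by
    have := LinearEquiv.congr_fun hab (e.symm v)
    rw [hφ, hφ, e.apply_symm_apply] at this
    exact e.symm.injective this)
  have hmem : φ.range ≤ G := by
    rintro _ ⟨g, rfl⟩
    refine hG _ (fun u v => ?_) fun v => ?_
    · have h1 : h (φ g u) (φ g v) = h u v := by
        rw [← he, ← he, hφ, hφ, e.apply_symm_apply, e.apply_symm_apply, g.2]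
      rw [happ, happ, mul_comm θ, mul_comm θ] at h1
      exact (hindep h1).2
    · rw [hφ, hφ, ← hθJ, ← hθJ, map_smul, map_smul, map_smul]
  rw [Nat.card_congr (MonoidHom.ofInjective hinj).toEquiv]
  exact Subgroup.card_dvd_of_le hmem

end CfsgLib.MaxSub.SpUnitFix
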