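import Cfsg.Agent.Lib.MaxSub.SpUnitThreeGeom

/-!
The three-dimensional unitary group inside the six-dimensional symplectic group: a product of two
transvections with centres outside one `F[j]`-line gives, in an overgroup, all transvections.
-/

set_option autoImplicit false
set_option linter.unusedSectionVars false
set_option linter.unusedSimpArgs false

namespace CfsgLib.MaxSub

open Matrix
open scoped MatrixGroups

variable {F : Type*} [Field F]

local notation "𝕍" => (Fin 3 ⊕ Fin 3 → F)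
local notation "𝐟" => Cfsg.sympForm 3 F

theorem spT_add (v : 𝕍) (c c' : F) : spT v c * spT v c' = spT v (c + c') := by
  refine GL_ext_mulVec fun y => ?_
  simp only [Units.val_mul, ← mulVec_mulVec, spT_mulVec, sympForm_add_left, sympForm_smul_left, sympForm_self]
  module

/-- two transvections along `b` and `b + x` -/
theorem spSieg_of_pair (h2 : (2 : F) ≠ 0) {b x : 𝕍} (h : 𝐟 b x = 0) (e : F) :
    spT b (-e) * spT (b + x) e = spSieg x ((-e) • b + (-(e / 2)) • x)
      (by rw [sympForm_add_right, sympForm_smul_right, sympForm_smul_right, sympForm_self,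
        sympForm_eq_zero_swap h, mul_zero, mul_zero, add_zero]) := by
  refine GL_ext_mulVec fun y => ?_
  rw [Units.val_mul, ← mulVec_mulVec, spT_mulVec, spT_mulVec, spSieg_mulVec]
  simp only [sympForm_add_left, sympForm_add_right, sympForm_smul_left, sympForm_self,
    sympForm_eq_zero_swap h]
  rw [sympForm_swap b y, sympForm_swap x y]
  match_scalars <;> field_simp <;> ring

theorem spT_comm {a b : 𝕍} (h : 𝐟 a b = 0) (c e : F) : spT a c * spT b e = spT b e * spT a c := by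
  refine GL_ext_mulVec fun y => ?_
  simp only [Units.val_mul, ← mulVec_mulVec, spT_mulVec, sympForm_add_left, sympForm_smul_left, h,
    sympForm_eq_zero_swap h]
  module

/-- three products of two transvections with pairwise orthogonal centres -/
theorem spT_triple {a b v : 𝕍} (hab : 𝐟 a b = 0) (hav : 𝐟 a v = 0) (hbv : 𝐟 b v = 0) (t : F) :
    spT a t * spT b t * (spT a t * spT v t) * (spT b t * spT v t)⁻¹ = spT a (2 * t) := by
  rw [mul_inv_eq_iff_eq_mul]
  refine GL_ext_mulVec fun y => ?_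
  simp only [Units.val_mul, ← mulVec_mulVec, spT_mulVec, sympForm_add_left, sympForm_smul_left,
    sympForm_self, hab, hav, hbv, sympForm_eq_zero_swap hab, sympForm_eq_zero_swap hav,
    sympForm_eq_zero_swap hbv]
  module

namespace SpAnti

variable [Finite F] {j : Matrix (Fin 3 ⊕ Fin 3) (Fin 3 ⊕ Fin 3) F} {d : F}
  (A : SpAnti (m := 3) j d) (h2 : (2 : F) ≠ 0)
  {M : Subgroup (GL (Fin 3 ⊕ Fin 3) F)}
  (hC : ∀ g ∈ Cfsg.spGL 3 F, (∀ y, (g : Matrix _ _ F) *ᵥ (j *ᵥ y) = j *ᵥ ((g : Matrix _ _ F) *ᵥ y)) → g ∈ M)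
include A h2 hC

theorem refl_mem {x : 𝕍} {q : F} (hq : 𝐟 x (j *ᵥ x) = q) (hq0 : q ≠ 0) :
    ∃ g ∈ M, g ∈ Cfsg.spGL 3 F ∧ ∀ y, (g : Matrix _ _ F) *ᵥ y =
      y - (2 / q * 𝐟 y (j *ᵥ x)) • x + (2 / q * 𝐟 y x) • (j *ᵥ x) := by
  obtain ⟨g, hg, hgj, hgv⟩ := A.exists_refl h2 hq hq0
  exact ⟨g, hC g hg hgj, hg, hgv⟩

/-- fix an isotropic `p` and shift an orthogonal anisotropic `X` along it -/
theorem shift {X p : 𝕍} (hX : 𝐟 X (j *ᵥ X) ≠ 0) (hp : 𝐟 p (j *ᵥ p) = 0) (hXp : 𝐟 X p = 0)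
    (hXjp : 𝐟 X (j *ᵥ p) = 0) (s : F) :
    ∃ h ∈ M, h ∈ Cfsg.spGL 3 F ∧ (h : Matrix _ _ F) *ᵥ p = p ∧ (h : Matrix _ _ F) *ᵥ X = X + s • p := by
  have hpjX : 𝐟 p (j *ᵥ X) = 0 := by rw [A.form_symm]; exact hXjp
  have hpX : 𝐟 p X = 0 := sympForm_eq_zero_swap hXp
  have hpX' : 𝐟 (X + (s / 2) • p) (j *ᵥ (X + (s / 2) • p)) = 𝐟 X (j *ᵥ X) := by
    rw [A.qf_add, A.qf_smul, hp, mulVec_smul, sympForm_smul_right, hXjp]; ring
  obtain ⟨g, hg, hgS, hgv⟩ := A.refl_mem h2 hC rfl hX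
  obtain ⟨g', hg', hgS', hgv'⟩ := A.refl_mem h2 hC hpX' hX
  refine ⟨g' * g, mul_mem hg' hg, mul_mem hgS' hgS, ?_, ?_⟩
  · rw [Units.val_mul, ← mulVec_mulVec, hgv p, hpX, hpjX]
    simp only [mul_zero, zero_smul, sub_zero, add_zero]
    rw [hgv' p]
    simp [mulVec_add, mulVec_smul, sympForm_add_right, sympForm_smul_right, hpX, hpjX, hp, sympForm_self]
  · rw [Units.val_mul, ← mulVec_mulVec, hgv X, hgv']
    simp only [sympForm_self, mul_zero, zero_smul, add_zero, mulVec_add, mulVec_smul, sympForm_add_left,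
      sympForm_add_right, sub_eq_add_neg, ← neg_smul, sympForm_smul_left, sympForm_smul_right, hXp, hXjp]
    match_scalars <;> field_simp <;> ring

/-- an element of the radical of an isotropic point -/
theorem full_of_radical {X p : 𝕍} (hX : 𝐟 X (j *ᵥ X) ≠ 0) (hp : 𝐟 p (j *ᵥ p) = 0) (hXp : 𝐟 X p = 0)
    (hXjp : 𝐟 X (j *ᵥ p) = 0) (hS : spSieg X p hXp ∈ M) : SpFull M p := by
  intro C
  rw [hasSpTv_iff_spT]
  obtain ⟨h, hh, hhS, hhp, hhX⟩ := A.shift h2 hC hX hp hXp hXjp (-(C / 2))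
  have h1 := mul_mem (mul_mem hh hS) (inv_mem hh)
  rw [spSieg_conj hhS] at h1
  have h3 := mul_mem (inv_mem hS) h1
  convert h3 using 1
  rw [eq_inv_mul_iff_mul_eq]
  refine GL_ext_mulVec fun y => ?_
  simp only [Units.val_mul, ← mulVec_mulVec, spT_mulVec, spSieg_mulVec, hhp, hhX, sympForm_add_left,
    sympForm_add_right, sympForm_smul_left, sympForm_smul_right, sympForm_self, hXp,
    sympForm_eq_zero_swap hXp, sympForm_swap p y]
  match_scalars <;> field_simp <;> ring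

/-- conjugation by an element fixing the first centre -/
theorem quot_mem {a b : 𝕍} {c e : F} (hE : spT a c * spT b e ∈ M)
    {h : GL (Fin 3 ⊕ Fin 3) F} (hh : h ∈ M) (hhS : h ∈ Cfsg.spGL 3 F)
    (hha : (h : Matrix _ _ F) *ᵥ a = a) : spT b (-e) * spT ((h : Matrix _ _ F) *ᵥ b) e ∈ M := by
  have h1 := mul_mem (inv_mem hE) (mul_mem (mul_mem hh hE) (inv_mem hh))
  convert h1 using 1
  rw [show h * (spT a c * spT b e) * h⁻¹ = (h * spT a c * h⁻¹) * (h * spT b e * h⁻¹) by group,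
    spT_conj hhS, spT_conj hhS, hha, ← spT_inv]
  group

theorem conj_mem {a b : 𝕍} {c e : F} (hE : spT a c * spT b e ∈ M)
    {h : GL (Fin 3 ⊕ Fin 3) F} (hh : h ∈ M) (hhS : h ∈ Cfsg.spGL 3 F) :
    spT ((h : Matrix _ _ F) *ᵥ a) c * spT ((h : Matrix _ _ F) *ᵥ b) e ∈ M := by
  have h1 := mul_mem (mul_mem hh hE) (inv_mem hh)
  rwa [show h * (spT a c * spT b e) * h⁻¹ = (h * spT a c * h⁻¹) * (h * spT b e * h⁻¹) by group,
    spT_conj hhS, spT_conj hhS] at h1

/-- the first centre isotropic and orthogonal to the anisotropic second one -/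
theorem full_of_perp {a b : 𝕍} {c e : F} (he : e ≠ 0) (hab : 𝐟 a b = 0) (haa : 𝐟 a (j *ᵥ a) = 0)
    (hρ : 𝐟 a (j *ᵥ b) = 0) (hbb : 𝐟 b (j *ᵥ b) ≠ 0) (hE : spT a c * spT b e ∈ M) : SpFull M a := by
  obtain ⟨h, hh, hhS, hha, hhb⟩ := A.shift h2 hC hbb haa (sympForm_eq_zero_swap hab)
    (by rw [A.form_symm]; exact hρ) 1
  have h1 := A.quot_mem h2 hC hE hh hhS hha
  rw [hhb, one_smul, spSieg_of_pair h2 (sympForm_eq_zero_swap hab), spSieg_comm] at h1
  have hba : 𝐟 b (j *ᵥ a) = 0 := by rw [A.form_symm]; exact hρ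
  refine A.full_of_radical h2 hC ?_ haa _ ?_ h1
  · rw [A.qf_add, A.qf_smul, A.qf_smul, mulVec_smul, sympForm_smul_right, sympForm_smul_left, haa, hba]
    simpa using ⟨he, hbb⟩
  · rw [sympForm_add_left, sympForm_smul_left, sympForm_smul_left, hba, haa, mul_zero, mul_zero, add_zero]

/-- centres seeing each other, the second anisotropic, spanning a non-degenerate pair -/
theorem full_of_rho {a b : 𝕍} {c e α β ρ : F} (he : e ≠ 0) (hab : 𝐟 a b = 0)
    (hα : 𝐟 a (j *ᵥ a) = α) (hβ : 𝐟 b (j *ᵥ b) = β) (hρ : 𝐟 a (j *ᵥ b) = ρ) (hρ0 : ρ ≠ 0) (hβ0 : β ≠ 0)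
    (hD : α * β - ρ * ρ ≠ 0) (hE : spT a c * spT b e ∈ M) :
    ∃ y : 𝕍, y ≠ 0 ∧ 𝐟 y (j *ᵥ y) = 0 ∧ SpFull M y := by
  set D := α * β - ρ * ρ with hDdef
  obtain ⟨w, hwa, hwja, hwb, hwjb, hw⟩ := A.exists_perp_value h2 hα hβ hρ hab
    (by simpa using hD) (-(D * ρ * ρ / β))
    (neg_ne_zero.2 (div_ne_zero (mul_ne_zero (mul_ne_zero hD hρ0) hρ0) hβ0))
  have hba : 𝐟 b a = 0 := sympForm_eq_zero_swap hab
  have hbja : 𝐟 b (j *ᵥ a) = ρ := by rw [A.form_symm, hρ]
  have hajw : 𝐟 a (j *ᵥ w) = 0 := by rw [A.form_symm]; exact hwja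
  have hbjw : 𝐟 b (j *ᵥ w) = 0 := by rw [A.form_symm]; exact hwjb
  set x := (-ρ) • a + α • b + w with hx
  have hax : 𝐟 a x = 0 := by
    simp [hx, sympForm_add_right, sympForm_smul_right, hab, sympForm_eq_zero_swap hwa, sympForm_self,
      -neg_smul]
  have hbx : 𝐟 b x = 0 := by
    simp [hx, sympForm_add_right, sympForm_smul_right, hba, sympForm_eq_zero_swap hwb, sympForm_self,
      -neg_smul]
  have hajx : 𝐟 a (j *ᵥ x) = 0 := by
    simp only [hx, mulVec_add, mulVec_smul, sympForm_add_right, sympForm_smul_right, hα, hρ, hajw]; ring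
  have hbjx : 𝐟 b (j *ᵥ x) = D := by
    simp only [hx, mulVec_add, mulVec_smul, sympForm_add_right, sympForm_smul_right, hbja, hβ, hbjw, hDdef]
    ring
  have hq : 𝐟 x (j *ᵥ x) = D * D / β := by
    rw [hx, A.qf_add, A.qf_add, A.qf_smul, A.qf_smul, hw, hα, hβ, mulVec_smul, sympForm_smul_left,
      sympForm_smul_right, hρ, sympForm_add_left, sympForm_smul_left, sympForm_smul_left, hajw, hbjw, hDdef]
    field_simp
    ring
  have hq0 : D * D / β ≠ 0 := div_ne_zero (mul_ne_zero hD hD) hβ0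
  obtain ⟨g, hg, hgS, hgv⟩ := A.refl_mem h2 hC hq hq0
  set ν := -(2 * β / D) with hν
  have hν0 : ν ≠ 0 := neg_ne_zero.2 (div_ne_zero (mul_ne_zero h2 hβ0) hD)
  have hga : (g : Matrix _ _ F) *ᵥ a = a := by rw [hgv, hajx, hax]; simp
  have hgb : (g : Matrix _ _ F) *ᵥ b = b + ν • x := by
    rw [hgv, hbjx, hbx, hν]
    match_scalars <;> field_simp <;> ring
  have h1 := A.quot_mem h2 hC hE hg hgS hga
  rw [hgb, spSieg_of_pair h2 (by rw [sympForm_smul_right, hbx, mul_zero])] at h1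
  set Y := (-e) • b + (-(e / 2)) • (ν • x) with hY
  have hYY : 𝐟 Y (j *ᵥ Y) = 0 := by
    rw [hY, A.qf_add, A.qf_smul, smul_smul, A.qf_smul, mulVec_smul, sympForm_smul_left, sympForm_smul_right,
      hbjx, hβ, hq, hν]
    field_simp
    ring
  have hajY : 𝐟 a (j *ᵥ Y) = -e * ρ := by
    simp only [hY, mulVec_add, mulVec_smul, sympForm_add_right, sympForm_smul_right, hρ, hajx]; ring
  refine ⟨Y, fun h => ?_, hYY, A.full_of_radical h2 hC ?_ hYY _ ?_ h1⟩
  · rw [h, mulVec_zero, ← zero_smul F (0 : 𝕍), sympForm_smul_right, zero_mul] at hajY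
    exact mul_ne_zero (neg_ne_zero.2 he) hρ0 hajY.symm
  · rw [A.qf_smul, hq]; exact mul_ne_zero (mul_ne_zero hν0 hν0) hq0
  · rw [hY, mulVec_add, mulVec_smul, mulVec_smul, mulVec_smul, sympForm_add_right, sympForm_smul_right,
      sympForm_smul_right, sympForm_smul_right, sympForm_smul_left, sympForm_smul_left, hq,
      A.form_symm x b, hbjx, hν]
    field_simp
    ring

/-- a single transvection at an isotropic vector with an isotropic partner -/
theorem full_of_iso_tv {a b : 𝕍} {ρ C : F} (hab : 𝐟 a b = 0) (haa : 𝐟 a (j *ᵥ a) = 0)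
    (hbb : 𝐟 b (j *ᵥ b) = 0) (hρ : 𝐟 a (j *ᵥ b) = ρ) (hρ0 : ρ ≠ 0) (hC0 : C ≠ 0) (hT : spT a C ∈ M) :
    SpFull M a := by
  have hba : 𝐟 b a = 0 := sympForm_eq_zero_swap hab
  have hbja : 𝐟 b (j *ᵥ a) = ρ := by rw [A.form_symm, hρ]
  have hQ : ∀ t : F, 𝐟 (a + t • b) (j *ᵥ (a + t • b)) = 2 * t * ρ := fun t => by
    rw [A.qf_add, A.qf_smul, haa, hbb, mulVec_smul, sympForm_smul_right, hρ]; ring
  have hsq : ∀ k, spT a (C * (k * k)) ∈ M := by
    intro k
    rcases eq_or_ne k 0 with rfl | hk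
    · rw [mul_zero, mul_zero, show spT a (0 : F) = 1 from GL_ext_mulVec fun y => by
        rw [spT_mulVec, zero_mul, zero_smul, add_zero, Units.val_one, one_mulVec]]
      exact one_mem M
    obtain ⟨g, hg, hgS, hgv⟩ := A.refl_mem h2 hC (hQ k) (mul_ne_zero (mul_ne_zero h2 hk) hρ0)
    obtain ⟨g', hg', hgS', hgv'⟩ := A.refl_mem h2 hC (hQ 1) (mul_ne_zero (mul_ne_zero h2 one_ne_zero) hρ0)
    have hga : (g : Matrix _ _ F) *ᵥ a = (-k) • b := by
      rw [hgv]
      simp only [mulVec_add, mulVec_smul, sympForm_add_right, sympForm_smul_right, haa, hρ, hab, sympForm_self]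
      match_scalars <;> field_simp <;> ring
    have hgb : (g' : Matrix _ _ F) *ᵥ b = -a := by
      rw [hgv']
      simp only [mulVec_add, mulVec_smul, sympForm_add_right, sympForm_smul_right, hbb, hbja, hba, sympForm_self]
      match_scalars <;> field_simp <;> ring
    have h1 := mul_mem (mul_mem (mul_mem hg' hg) hT) (inv_mem (mul_mem hg' hg))
    rw [spT_conj (mul_mem hgS' hgS), Units.val_mul, ← mulVec_mulVec, hga, mulVec_smul, hgb] at h1
    convert h1 using 1
    refine GL_ext_mulVec fun y => ?_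
    simp only [spT_mulVec, smul_neg, neg_smul, neg_neg, sympForm_smul_right]
    module
  intro D
  rw [hasSpTv_iff_spT]
  set t := D / C with ht
  have := mul_mem (hsq ((t + 1) / 2)) (inv_mem (hsq ((t - 1) / 2)))
  rw [spT_inv, spT_add] at this
  convert this using 2
  rw [ht]
  field_simp
  ring

/-- both centres isotropic, seeing each other -/
theorem full_of_iso_pair {a b : 𝕍} {c e ρ : F} (hab : 𝐟 a b = 0)
    (haa : 𝐟 a (j *ᵥ a) = 0) (hbb : 𝐟 b (j *ᵥ b) = 0) (hρ : 𝐟 a (j *ᵥ b) = ρ) (hρ0 : ρ ≠ 0)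
    (hce : c + e ≠ 0) (hE : spT a c * spT b e ∈ M) : SpFull M a := by
  obtain ⟨w, hwa, hwja, hwb, hwjb, hw⟩ := A.exists_perp_value h2 haa hbb hρ hab
    (by simpa using hρ0) (-(2 * ρ)) (neg_ne_zero.2 (mul_ne_zero h2 hρ0))
  have hba : 𝐟 b a = 0 := sympForm_eq_zero_swap hab
  have hbja : 𝐟 b (j *ᵥ a) = ρ := by rw [A.form_symm, hρ]
  have hajw : 𝐟 a (j *ᵥ w) = 0 := by rw [A.form_symm]; exact hwja
  have hbjw : 𝐟 b (j *ᵥ w) = 0 := by rw [A.form_symm]; exact hwjb
  have haw : 𝐟 a w = 0 := sympForm_eq_zero_swap hwa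
  have hbw : 𝐟 b w = 0 := sympForm_eq_zero_swap hwb
  have hq : -(2 * ρ) ≠ 0 := neg_ne_zero.2 (mul_ne_zero h2 hρ0)
  obtain ⟨g₁, hg₁, hgS₁, hgv₁⟩ := A.refl_mem h2 hC (x := a + w) (q := -(2 * ρ))
    (by rw [A.qf_add, haa, hajw, hw]; ring) hq
  obtain ⟨g₂, hg₂, hgS₂, hgv₂⟩ := A.refl_mem h2 hC (x := b + w) (q := -(2 * ρ))
    (by rw [A.qf_add, hbb, hbjw, hw]; ring) hq
  obtain ⟨g₃, hg₃, hgS₃, hgv₃⟩ := A.refl_mem h2 hC (x := a + (-1 : F) • b) (q := -(2 * ρ))
    (by rw [A.qf_add, A.qf_smul, haa, hbb, mulVec_smul, sympForm_smul_right, hρ]; ring) hq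
  set v := a + b + w with hv
  have e1 : (g₁ : Matrix _ _ F) *ᵥ a = a ∧ (g₁ : Matrix _ _ F) *ᵥ b = v := by
    constructor <;> rw [hgv₁] <;>
      simp only [hv, mulVec_add, sympForm_add_right, sympForm_self, haa, hajw, haw, hba, hbw, hbja, hbjw] <;>
      match_scalars <;> field_simp <;> ring
  have e2 : (g₂ : Matrix _ _ F) *ᵥ a = v ∧ (g₂ : Matrix _ _ F) *ᵥ b = b := by
    constructor <;> rw [hgv₂] <;>
      simp only [hv, mulVec_add, sympForm_add_right, sympForm_self, hbb, hbjw, hbw, hab, haw, hρ, hajw] <;>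
      match_scalars <;> field_simp <;> ring
  have e3 : (g₃ : Matrix _ _ F) *ᵥ a = b ∧ (g₃ : Matrix _ _ F) *ᵥ b = a := by
    constructor <;> rw [hgv₃] <;>
      simp only [mulVec_add, mulVec_smul, sympForm_add_right, sympForm_smul_right, sympForm_self, haa, hbb, hab, hba, hρ, hbja] <;>
      match_scalars <;> field_simp <;> ring
  have h3 := mul_mem hE (A.conj_mem h2 hC hE hg₃ hgS₃)
  rw [e3.1, e3.2] at h3
  have hP : spT a (c + e) * spT b (c + e) ∈ M := by
    convert h3 using 1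
    rw [← spT_add, ← spT_add]
    conv_rhs => rw [spT_comm hba, show spT a c * spT b e * (spT a e * spT b c) =
      spT a c * (spT b e * spT a e) * spT b c by group, spT_comm hba]
    rw [show spT a c * (spT a e * spT b e) * spT b c = spT a c * spT a e * (spT b e * spT b c) by group,
      spT_comm (sympForm_self b) c e]
  have hP1 := A.conj_mem h2 hC hP hg₁ hgS₁
  have hP2 := A.conj_mem h2 hC hP hg₂ hgS₂
  rw [e1.1, e1.2] at hP1
  rw [e2.1, e2.2] at hP2
  have hav : 𝐟 a v = 0 := by simp [hv, sympForm_add_right, sympForm_self, hab, haw]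
  have hbv : 𝐟 b v = 0 := by simp [hv, sympForm_add_right, sympForm_self, hba, hbw]
  rw [spT_comm (sympForm_eq_zero_swap hbv)] at hP2
  have hT := mul_mem (mul_mem hP hP1) (inv_mem hP2)
  rw [spT_triple hab hav hbv] at hT
  exact A.full_of_iso_tv h2 hC hab haa hbb hρ hρ0 (mul_ne_zero h2 hce) hT

/-- the centres span a degenerate pair -/
theorem full_of_degen {a b : 𝕍} {c e α β ρ : F} (hab : 𝐟 a b = 0)
    (hα : 𝐟 a (j *ᵥ a) = α) (hβ : 𝐟 b (j *ᵥ b) = β) (hρ : 𝐟 a (j *ᵥ b) = ρ) (hρ0 : ρ ≠ 0)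
    (hD : α * β - ρ * ρ = 0) (hce : ∀ t, c * (t * t) + e ≠ 0) (hind : b ∉ Submodule.span F {a, j *ᵥ a})
    (hE : spT a c * spT b e ∈ M) : ∃ y : 𝕍, y ≠ 0 ∧ 𝐟 y (j *ᵥ y) = 0 ∧ SpFull M y := by
  have hα0 : α ≠ 0 := fun h => hρ0 (mul_self_eq_zero.1 (by rw [h] at hD; linear_combination -hD))
  have hβ0 : β ≠ 0 := fun h => hρ0 (mul_self_eq_zero.1 (by rw [h] at hD; linear_combination -hD))
  have hba : 𝐟 b a = 0 := sympForm_eq_zero_swap hab
  have hbja : 𝐟 b (j *ᵥ a) = ρ := by rw [A.form_symm, hρ]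
  set r := ρ • a + (-α) • b with hr
  have hr0 : r ≠ 0 := fun h => hind (Submodule.mem_span_pair.2 ⟨ρ / α, 0, by
    refine smul_right_injective 𝕍 hα0 ?_
    simp only [smul_add, smul_smul, mul_div_cancel₀ _ hα0, mul_zero, zero_smul, add_zero]
    rw [hr] at h; linear_combination (norm := module) h⟩)
  have hbr : 𝐟 b r = 0 := by
    simp [hr, sympForm_add_right, sympForm_smul_right, hba, sympForm_self, -neg_smul]
  have hbjr : 𝐟 b (j *ᵥ r) = 0 := by
    simp only [hr, mulVec_add, mulVec_smul, sympForm_add_right, sympForm_smul_right, hbja, hβ]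
    linear_combination -hD
  have hrr : 𝐟 r (j *ᵥ r) = 0 := by
    rw [hr, A.qf_add, A.qf_smul, A.qf_smul, mulVec_smul, sympForm_smul_left, sympForm_smul_right, hα, hβ, hρ]
    linear_combination α * hD
  obtain ⟨h, hh, hhS, hhr, hhb⟩ := A.shift h2 hC (by rw [hβ]; exact hβ0) hrr hbr hbjr ρ
  have hha : (h : Matrix _ _ F) *ᵥ a = a + α • r := by
    refine smul_right_injective 𝕍 hρ0 ?_
    show ρ • ((h : Matrix _ _ F) *ᵥ a) = ρ • (a + α • r)
    rw [← mulVec_smul, show ρ • a = r + α • b by rw [hr]; module, mulVec_add, mulVec_smul, hhr, hhb]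
    rw [hr]; module
  have h1 := mul_mem (inv_mem hE) (A.conj_mem h2 hC hE hh hhS)
  rw [hha, hhb] at h1
  set X := (-(c * α)) • a + (-(e * ρ)) • b + (-((c * (α * α) + e * (ρ * ρ)) / 2)) • r with hX
  have har : 𝐟 a r = 0 := by
    simp [hr, sympForm_add_right, sympForm_smul_right, hab, sympForm_self, -neg_smul]
  have hajr : 𝐟 a (j *ᵥ r) = 0 := by
    simp only [hr, mulVec_add, mulVec_smul, sympForm_add_right, sympForm_smul_right, hα, hρ]; ring
  have hXr : 𝐟 X r = 0 := by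
    simp [hX, sympForm_add_left, sympForm_smul_left, har, hbr, sympForm_self, -neg_smul]
  have hXjr : 𝐟 X (j *ᵥ r) = 0 := by
    simp [hX, sympForm_add_left, sympForm_smul_left, hajr, hbjr, hrr, -neg_smul]
  have hS : spSieg X r hXr ∈ M := by
    convert h1 using 1
    rw [eq_inv_mul_iff_mul_eq]
    refine GL_ext_mulVec fun y => ?_
    simp only [hX, Units.val_mul, ← mulVec_mulVec, spT_mulVec, spSieg_mulVec, sympForm_add_left,
      sympForm_add_right, sympForm_smul_left, sympForm_smul_right, sympForm_self, hab, hba, har, hbr,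
      sympForm_eq_zero_swap har, sympForm_eq_zero_swap hbr, sympForm_swap a y, sympForm_swap b y,
      sympForm_swap r y]
    match_scalars <;> field_simp <;> ring
  have hQX : 𝐟 X (j *ᵥ X) ≠ 0 := by
    have : 𝐟 X (j *ᵥ X) = α * (c * (α * α) + e * (ρ * ρ)) * (c + e * (ρ * ρ) / (α * α)) := by
      rw [hX, A.qf_add, A.qf_add, A.qf_smul, A.qf_smul, A.qf_smul, hrr, mulVec_smul, mulVec_smul,
        sympForm_smul_left, sympForm_smul_right, hα, hβ, hρ, sympForm_smul_right, sympForm_add_left,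
        sympForm_smul_left, sympForm_smul_left, hajr, hbjr, show β = ρ * ρ / α by
          rw [eq_div_iff hα0]; linear_combination hD]
      field_simp
      ring
    rw [this]
    have hk : c * (α * α) + e * (ρ * ρ) ≠ 0 := fun h' => hce (α / ρ) (by field_simp; linear_combination h')
    refine mul_ne_zero (mul_ne_zero hα0 hk) fun h' => hk ?_
    field_simp at h'
    linear_combination h'
  exact ⟨r, hr0, hrr, A.full_of_radical h2 hC hQX hrr hXr hXjr hS⟩

/-- orthogonal anisotropic centres over a field of order three -/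
theorem full_of_three (h3 : Nat.card F = 3) {a b : 𝕍} {c e α β : F} (hc : c ≠ 0) (hab : 𝐟 a b = 0)
    (hα : 𝐟 a (j *ᵥ a) = α) (hβ : 𝐟 b (j *ᵥ b) = β) (hρ : 𝐟 a (j *ᵥ b) = 0) (hα0 : α ≠ 0) (hβ0 : β ≠ 0)
    (he : e ≠ 0) (hce : c + e ≠ 0) (hind : b ∉ Submodule.span F {a, j *ᵥ a})
    (hE : spT a c * spT b e ∈ M) : ∃ y : 𝕍, y ≠ 0 ∧ 𝐟 y (j *ᵥ y) = 0 ∧ SpFull M y := by
  have := Fintype.ofFinite F
  rw [Nat.card_eq_fintype_card] at h3
  have two : ∀ u v : F, u ≠ 0 → v ≠ 0 → u = v ∨ u = -v := by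
    intro u v hu hv
    have e1 := FiniteField.pow_card_sub_one_eq_one u hu
    have e2 := FiniteField.pow_card_sub_one_eq_one v hv
    rw [h3] at e1 e2
    exact sq_eq_sq_iff_eq_or_eq_neg.1 (e1.trans e2.symm)
  obtain rfl : e = c := (two e c he hc).resolve_right fun h => hce (by rw [h, add_neg_cancel])
  have hba : 𝐟 b a = 0 := sympForm_eq_zero_swap hab
  have hbja : 𝐟 b (j *ᵥ a) = 0 := by rw [A.form_symm, hρ]
  have hD : α * β - 0 * 0 + d * 0 * 0 ≠ 0 := by simpa using ⟨hα0, hβ0⟩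
  rcases two β α hβ0 hα0 with hba' | hba'
  · obtain ⟨w, hwa, hwja, hwb, hwjb, hw⟩ := A.exists_perp_value h2 hα hβ hρ hab hD α hα0
    obtain ⟨w', hwa', hwja', hwb', hwjb', hw'⟩ := A.exists_perp_value h2 hα hβ hρ hab hD (-β) (neg_ne_zero.2 hβ0)
    have hajw : 𝐟 a (j *ᵥ w) = 0 := by rw [A.form_symm]; exact hwja
    have hbjw : 𝐟 b (j *ᵥ w) = 0 := by rw [A.form_symm]; exact hwjb
    have haw : 𝐟 a w = 0 := sympForm_eq_zero_swap hwa
    have hbw : 𝐟 b w = 0 := sympForm_eq_zero_swap hwb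
    have hq : 2 * α ≠ 0 := mul_ne_zero h2 hα0
    obtain ⟨g₁, hg₁, hgS₁, hgv₁⟩ := A.refl_mem h2 hC (x := a + (-1 : F) • w) (q := 2 * α)
      (by rw [A.qf_add, A.qf_smul, hα, hw, mulVec_smul, sympForm_smul_right, hajw]; ring) hq
    obtain ⟨g₂, hg₂, hgS₂, hgv₂⟩ := A.refl_mem h2 hC (x := a + (-1 : F) • b) (q := 2 * α)
      (by rw [A.qf_add, A.qf_smul, hα, hβ, hba', mulVec_smul, sympForm_smul_right, hρ]; ring) hq
    have e1 : (g₁ : Matrix _ _ F) *ᵥ a = w ∧ (g₁ : Matrix _ _ F) *ᵥ b = b := by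
      constructor <;> rw [hgv₁] <;>
        simp only [mulVec_add, mulVec_smul, sympForm_add_right, sympForm_smul_right, sympForm_self, hα, hajw, haw, hba, hbja, hbw, hbjw] <;>
        match_scalars <;> field_simp <;> ring
    have e2 : (g₂ : Matrix _ _ F) *ᵥ b = a ∧ (g₂ : Matrix _ _ F) *ᵥ w = w := by
      constructor <;> rw [hgv₂] <;>
        simp only [mulVec_add, mulVec_smul, sympForm_add_right, sympForm_smul_right, sympForm_self, hβ, hba', hbja, hba, hwa, hwja, hwb, hwjb] <;>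
        match_scalars <;> field_simp <;> ring
    have h1 := A.conj_mem h2 hC hE hg₁ hgS₁
    rw [e1.1, e1.2] at h1
    have h1' := A.conj_mem h2 hC h1 hg₂ hgS₂
    rw [e2.1, e2.2, spT_comm hwa] at h1'
    rw [spT_comm hwb] at h1
    have hT := mul_mem (mul_mem hE h1') (inv_mem h1)
    rw [spT_triple hab haw hbw] at hT
    -- move the centre along an orthogonal isotropic vector
    set p := b + w' with hp
    have hpp : 𝐟 p (j *ᵥ p) = 0 := by
      rw [hp, A.qf_add, hβ, hw', A.form_symm b w', hwjb']; ring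
    have hap : 𝐟 a p = 0 := by rw [hp, sympForm_add_right, hab, sympForm_eq_zero_swap hwa', add_zero]
    have hajp : 𝐟 a (j *ᵥ p) = 0 := by
      rw [hp, mulVec_add, sympForm_add_right, hρ, A.form_symm a w', hwja', add_zero]
    obtain ⟨h, hh, hhS, hhp, hha⟩ := A.shift h2 hC (by rw [hα]; exact hα0) hpp hap hajp 1
    obtain ⟨h', hh', hhS', hhp', hha'⟩ := A.shift h2 hC (by rw [hα]; exact hα0) hpp hap hajp (-1)
    have k1 := mul_mem (mul_mem hh hT) (inv_mem hh)
    have k2 := mul_mem (mul_mem hh' hT) (inv_mem hh')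
    rw [spT_conj hhS, hha] at k1
    rw [spT_conj hhS', hha'] at k2
    set k := -(2 * (2 * e)) with hk
    have hk0 : k ≠ 0 := neg_ne_zero.2 (mul_ne_zero h2 (mul_ne_zero h2 hc))
    have hap' : 𝐟 a (k • p) = 0 := by rw [sympForm_smul_right, hap, mul_zero]
    have hS : spSieg a (k • p) hap' ∈ M := by
      convert mul_mem k1 (inv_mem k2) using 1
      rw [eq_mul_inv_iff_mul_eq]
      refine GL_ext_mulVec fun y => ?_
      simp only [hk, Units.val_mul, ← mulVec_mulVec, spT_mulVec, spSieg_mulVec, sympForm_add_left,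
        sympForm_add_right, sympForm_smul_left, sympForm_smul_right, sympForm_self, hap,
        sympForm_eq_zero_swap hap, sympForm_swap a y, sympForm_swap p y]
      module
    refine ⟨k • p, smul_ne_zero hk0 fun h' => ?_, by rw [A.qf_smul, hpp, mul_zero],
      A.full_of_radical h2 hC (by rw [hα]; exact hα0) (by rw [A.qf_smul, hpp, mul_zero]) hap'
        (by rw [mulVec_smul, sympForm_smul_right, hajp, mul_zero]) hS⟩
    have e0 : 𝐟 p (j *ᵥ b) = β := by rw [hp, sympForm_add_left, hβ, hwjb', add_zero]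
    rw [h'] at e0
    exact hβ0 (e0.symm.trans (zero_dotProduct _))
  · set p := a + b with hp
    set p' := a + (-1 : F) • b with hp'
    have hpp : 𝐟 p (j *ᵥ p) = 0 := by rw [hp, A.qf_add, hα, hρ, hβ, hba']; ring
    have hpp' : 𝐟 p' (j *ᵥ p') = 0 := by
      rw [hp', A.qf_add, A.qf_smul, hα, hβ, hba', mulVec_smul, sympForm_smul_right, hρ]; ring
    have hpp'' : 𝐟 p p' = 0 := by
      simp [hp, hp', sympForm_add_left, sympForm_add_right, sympForm_smul_right, hab, hba, sympForm_self, -neg_smul]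
    have hpjp : 𝐟 p (j *ᵥ p') = 2 * α := by
      simp only [hp, hp', mulVec_add, mulVec_smul, sympForm_add_left, sympForm_add_right, sympForm_smul_right,
        hα, hρ, hbja, hβ, hba']
      ring
    have hE' : spT p (e / 2) * spT p' (e / 2) ∈ M := by
      convert hE using 1
      refine GL_ext_mulVec fun y => ?_
      simp only [hp, hp', Units.val_mul, ← mulVec_mulVec, spT_mulVec, sympForm_add_left, sympForm_add_right,
        sympForm_smul_left, sympForm_smul_right, sympForm_self, hab, hba]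
      match_scalars <;> field_simp <;> ring
    refine ⟨p, fun h' => hind ?_, hpp, A.full_of_iso_pair h2 hC hpp'' hpp hpp' hpjp (mul_ne_zero h2 hα0)
      (by haveI : NeZero (2 : F) := ⟨h2⟩; rw [add_halves]; exact hc) hE'⟩
    rw [eq_neg_of_add_eq_zero_right h']
    exact Submodule.neg_mem _ (Submodule.subset_span (by simp))

/-- A product `T(a) T(b)` in an overgroup, `b` outside `F[j] a`, gives a full transvection group at
an isotropic vector. -/
theorem exists_full_three {a b : 𝕍} {c e : F} (hc : c ≠ 0) (hce : ∀ t, c * (t * t) + e ≠ 0)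
    (hab : 𝐟 a b = 0) (ha0 : a ≠ 0) (hind : b ∉ Submodule.span F {a, j *ᵥ a})
    (hE : spT a c * spT b e ∈ M) : ∃ y : 𝕍, y ≠ 0 ∧ 𝐟 y (j *ᵥ y) = 0 ∧ SpFull M y := by
  have he : e ≠ 0 := fun h => hce 0 (by rw [h]; ring)
  have hce1 : c + e ≠ 0 := fun h => hce 1 (by linear_combination h)
  have hb0 : b ≠ 0 := fun h => hind (h ▸ Submodule.zero_mem _)
  have hE' := hE
  rw [spT_comm hab] at hE'
  have hba : 𝐟 b a = 0 := sympForm_eq_zero_swap hab
  obtain ⟨α, hα⟩ : ∃ α, 𝐟 a (j *ᵥ a) = α := ⟨_, rfl⟩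
  obtain ⟨β, hβ⟩ : ∃ β, 𝐟 b (j *ᵥ b) = β := ⟨_, rfl⟩
  obtain ⟨ρ, hρ⟩ : ∃ ρ, 𝐟 a (j *ᵥ b) = ρ := ⟨_, rfl⟩
  have hρ' : 𝐟 b (j *ᵥ a) = ρ := by rw [A.form_symm]; exact hρ
  rcases eq_or_ne ρ 0 with rfl | hρ0
  · rcases eq_or_ne α 0 with rfl | hα0
    · rcases eq_or_ne β 0 with rfl | hβ0
      · exact absurd (A.dep_of_perp h2 ha0 hα hβ hab hρ) hind
      · exact ⟨a, ha0, hα, A.full_of_perp h2 hC he hab hα hρ (by rw [hβ]; exact hβ0) hE⟩
    rcases eq_or_ne β 0 with rfl | hβ0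
    · exact ⟨b, hb0, hβ, A.full_of_perp h2 hC hc hba hβ hρ' (by rw [hα]; exact hα0) hE'⟩
    by_cases h3 : Nat.card F = 3
    · exact A.full_of_three h2 hC h3 hc hab hα hβ hρ hα0 hβ0 he hce1 hind hE
    classical
    have := Fintype.ofFinite F
    obtain ⟨ω, hω⟩ : ∃ ω : F, ω ∉ ({0, α, -α} : Finset F) := by
      by_contra hno
      push Not at hno
      have hle := Finset.card_le_card (show (Finset.univ : Finset F) ⊆ {0, α, -α} from fun x _ => hno x)
      have hle' : ({0, α, -α} : Finset F).card ≤ 3 := Finset.card_le_three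
      rw [Finset.card_univ] at hle
      have h1 := Fintype.one_lt_card (α := F)
      have hodd : Fintype.card F % 2 = 1 := FiniteField.odd_card_of_char_ne_two fun hc => h2 (by
        have := ringChar.spec F 2
        rw [hc] at this
        exact_mod_cast this.2 dvd_rfl)
      rw [Nat.card_eq_fintype_card] at h3
      omega
    simp only [Finset.mem_insert, Finset.mem_singleton, not_or] at hω
    obtain ⟨hω0, hωα, hωα'⟩ := hω
    obtain ⟨w, hwa, hwja, hwb, hwjb, hw⟩ := A.exists_perp_value h2 hα hβ hρ hab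
      (by simpa using ⟨hα0, hβ0⟩) ω hω0
    have hq0 : α + ω ≠ 0 := fun h => hωα' (by linear_combination h)
    have hajw : 𝐟 a (j *ᵥ w) = 0 := by rw [A.form_symm]; exact hwja
    have hbjw : 𝐟 b (j *ᵥ w) = 0 := by rw [A.form_symm]; exact hwjb
    have haw : 𝐟 a w = 0 := sympForm_eq_zero_swap hwa
    obtain ⟨g, hg, hgS, hgv⟩ := A.refl_mem h2 hC (x := a + w) (q := α + ω)
      (by rw [A.qf_add, hα, hajw, hw]; ring) hq0
    set a' := a + (-(2 * α / (α + ω))) • (a + w) with ha'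
    have hga : (g : Matrix _ _ F) *ᵥ a = a' := by
      rw [hgv, ha']
      simp only [mulVec_add, sympForm_add_right, sympForm_self, hα, hajw, haw]
      match_scalars <;> field_simp <;> ring
    have hgb : (g : Matrix _ _ F) *ᵥ b = b := by
      rw [hgv]
      simp [mulVec_add, sympForm_add_right, hba, hρ', sympForm_eq_zero_swap hwb, hbjw]
    have h1 := A.quot_mem h2 hC hE' hg hgS hgb
    rw [hga] at h1
    have haa' : 𝐟 a a' = 0 := by
      simp [ha', sympForm_add_right, sympForm_smul_right, sympForm_self, haw, -neg_smul]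
    have hρa : 𝐟 a (j *ᵥ a') = α * (ω - α) / (α + ω) := by
      simp only [ha', mulVec_add, mulVec_smul, sympForm_add_right, sympForm_smul_right, hα, hajw]
      field_simp
      ring
    have hαa : 𝐟 a' (j *ᵥ a') = α := by
      rw [← hga]
      have e1 : j *ᵥ ((g : Matrix _ _ F) *ᵥ a) = (g : Matrix _ _ F) *ᵥ (j *ᵥ a) := by
        rw [hgv, hgv, mulVec_add, mulVec_sub, mulVec_smul, mulVec_smul, A.sq, A.form_jj, A.anti]
        module
      rw [e1, spGL_form hgS, hα]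
    refine A.full_of_rho h2 hC hc haa' hα hαa hρa
      (div_ne_zero (mul_ne_zero hα0 (sub_ne_zero.2 hωα)) hq0) hα0 ?_ h1
    intro h
    field_simp at h
    exact mul_ne_zero (mul_ne_zero (mul_ne_zero h2 h2) (mul_ne_zero (mul_ne_zero hα0 hα0) hα0)) hω0
      (by linear_combination h)
  by_cases hD : α * β - ρ * ρ = 0
  · exact A.full_of_degen h2 hC hab hα hβ hρ hρ0 hD hce hind hE
  rcases eq_or_ne β 0 with rfl | hβ0
  · rcases eq_or_ne α 0 with rfl | hα0
    · exact ⟨a, ha0, hα, A.full_of_iso_pair h2 hC hab hα hβ hρ hρ0 hce1 hE⟩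
    · exact A.full_of_rho h2 hC hc hba hβ hα hρ' hρ0 hα0 (by intro h; exact hD (by linear_combination h)) hE'
  · exact A.full_of_rho h2 hC he hab hα hβ hρ hρ0 hβ0 hD hE

/-- one full isotropic centre gives all -/
theorem all_full_three {y : 𝕍} (hy0 : y ≠ 0) (hyy : 𝐟 y (j *ᵥ y) = 0) (hy : SpFull M y) :
    ∀ x, SpFull M x := by
  classical
  have hU : ∀ v c, 𝐟 v (j *ᵥ v) = 0 → spU j d v c ∈ M := fun v c hv =>
    hC _ (spU_mem_spGL _ _ _ _) (A.spU_comm hv c)
  have step : ∀ v w, 𝐟 v (j *ᵥ v) = 0 → 𝐟 w (j *ᵥ w) = 0 → 𝐟 v (j *ᵥ w) = 0 → 𝐟 v w ≠ 0 →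
      SpFull M v → SpFull M w := by
    intro v w _ hw heq hne hv
    have h1 := hv.conj (hU w (𝐟 v w)⁻¹ hw) (spU_mem_spGL _ _ _ _)
    rw [A.spU_mulVec hw, heq, mul_zero, zero_smul, add_zero, inv_mul_cancel₀ hne, one_smul] at h1
    have h3 := h1.add (hv.smul (-1)) (by
      rw [sympForm_smul_right, sympForm_add_left, sympForm_self, zero_add, sympForm_swap v w]
      simpa using hne)
    simpa using h3
  have iso : ∀ w, 𝐟 w (j *ᵥ w) = 0 → SpFull M w := by
    intro w hw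
    rcases eq_or_ne w 0 with rfl | hw0
    · exact spFull_zero
    exact A.iso_connected h2 step hy0 hyy hy w hw0 hw
  intro x
  by_cases hx : 𝐟 x (j *ᵥ x) = 0
  · exact iso x hx
  set U := Submodule.span F {j *ᵥ x - x}
  have hxj : x ∉ U := by
    rw [Submodule.mem_span_singleton]
    rintro ⟨t, ht⟩
    have h' : (1 + t) • x + (-t) • (j *ᵥ x) = 0 := by linear_combination (norm := module) -ht
    obtain ⟨e1, e2⟩ := A.indep (fun e => hx (by rw [e]; exact zero_dotProduct _)) h'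
    exact one_ne_zero (by linear_combination e1 + e2)
  obtain ⟨z, hz, hzx⟩ := exists_spPerp_of_notMem hxj
  have h1 := finrank_le_finrank_spPerp_add U
  have h3 : Module.finrank F U ≤ 1 := (finrank_span_le_card _).trans (by simp)
  obtain ⟨p, hpU, hp, hpx⟩ := exists_singular_avoid (A.quadForm h2) h2 (W := spPerp U)
    (P := LinearMap.ker (spLin x)) (by rw [Fintype.card_sum, Fintype.card_fin]; omega)
    (fun hle => hzx (sympForm_eq_zero_swap (hle hz)))
  have hpjx : 𝐟 p (j *ᵥ x) = 𝐟 p x := by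
    have := hpU _ (Submodule.mem_span_singleton_self _)
    rw [sub_eq_add_neg, ← neg_one_smul F x, sympForm_add_right, sympForm_smul_right] at this
    linear_combination this
  have hpx' : 𝐟 p x ≠ 0 := hpx
  set k := 𝐟 x (j *ᵥ x) / (2 * 𝐟 p x) with hk
  have hk0 : k ≠ 0 := div_ne_zero hx (mul_ne_zero h2 hpx')
  have hq : 𝐟 (x + (-k) • p) (j *ᵥ (x + (-k) • p)) = 0 := by
    simp only [mulVec_add, mulVec_smul, sympForm_add_left, sympForm_add_right, sympForm_smul_left,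
      sympForm_smul_right, hp, A.form_symm x p, hpjx]
    rw [hk]; field_simp; ring
  have hkp : SpFull M (k • p) := (iso p hp).smul k
  have := hkp.add (iso _ hq) (by
    rw [sympForm_smul_left, sympForm_add_right, sympForm_smul_right, sympForm_self, mul_zero, add_zero]
    exact mul_ne_zero hk0 hpx')
  simpa using this

end SpAnti

end CfsgLib.MaxSub
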