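import Cfsg.Agent.Lib.MaxSub.SpUnitary

/-!
Geometry of a six-dimensional symplectic space with an anti-self-adjoint `j`, `j² = d` a non-square:
hyperbolic and orthogonal pairs, reflections, and connectedness of the isotropic vectors.
-/

set_option autoImplicit false
set_option linter.unusedSectionVars false

namespace CfsgLib.MaxSub

open Matrix
open scoped MatrixGroups

variable {F : Type*} [Field F]

/-- independent pairwise orthogonal vectors are at most `m` -/
theorem card_le_of_singular [Finite F] {m : ℕ} {ι : Type} [Fintype ι] (t : ι → Fin m ⊕ Fin m → F)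
    (hli : LinearIndependent F t) (h : ∀ i k, Cfsg.sympForm m F (t i) (t k) = 0) :
    Fintype.card ι ≤ m := by
  classical
  choose z hz hzt using fun i => exists_spPerp_of_notMem
    (hli.notMem_span_image (s := {i}ᶜ) (x := i) (by simp))
  have hzk : ∀ i k, k ≠ i → Cfsg.sympForm m F (z i) (t k) = 0 := fun i k hk =>
    hz i _ (Submodule.subset_span ⟨k, hk, rfl⟩)
  have hall : LinearIndependent F (Sum.elim t z) := by
    rw [Fintype.linearIndependent_iff]
    intro g hg
    rw [Fintype.sum_sum_type] at hg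
    simp only [Sum.elim_inl, Sum.elim_inr] at hg
    have hzg : ∀ k, g (Sum.inr k) = 0 := by
      intro k
      have e := congrArg (spLin (t k)) hg
      simp only [map_add, map_sum, map_smul, map_zero, smul_eq_mul] at e
      simp only [spLin, LinearMap.coe_mk, AddHom.coe_mk, h, mul_zero, Finset.sum_const_zero,
        zero_add] at e
      rw [Finset.sum_eq_single k (fun i _ hi => by rw [hzk i k (Ne.symm hi), mul_zero])
        (fun hk => absurd (Finset.mem_univ k) hk)] at e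
      exact (mul_eq_zero.1 e).resolve_right fun e' => hzt k (sympForm_eq_zero_swap e')
    have htg := Fintype.linearIndependent_iff.1 hli (fun i => g (Sum.inl i)) (by
      simpa [hzg] using hg)
    rintro (i | i)
    · exact htg i
    · exact hzg i
  have := hall.fintype_card_le_finrank
  rw [Fintype.card_sum, Module.finrank_pi, Fintype.card_sum, Fintype.card_fin] at this
  omega

local notation "𝕍" => (Fin 3 ⊕ Fin 3 → F)
local notation "𝐟" => Cfsg.sympForm 3 F

namespace SpAnti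

variable {j : Matrix (Fin 3 ⊕ Fin 3) (Fin 3 ⊕ Fin 3) F} {d : F} (A : SpAnti (m := 3) j d)
include A

theorem anti' (u v : 𝕍) : 𝐟 u (j *ᵥ v) = -𝐟 (j *ᵥ u) v := by rw [A.anti, neg_neg]

theorem jform_swap (u v : 𝕍) : 𝐟 (j *ᵥ u) v = -𝐟 v (j *ᵥ u) := sympForm_swap _ _

theorem qf_add (x y : 𝕍) : 𝐟 (x + y) (j *ᵥ (x + y)) =
    𝐟 x (j *ᵥ x) + 2 * 𝐟 x (j *ᵥ y) + 𝐟 y (j *ᵥ y) := by
  rw [mulVec_add, sympForm_add_left, sympForm_add_right, sympForm_add_right, A.form_symm y x]
  ring

theorem qf_smul (x : 𝕍) (c : F) : 𝐟 (c • x) (j *ᵥ (c • x)) = c * c * 𝐟 x (j *ᵥ x) := by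
  rw [mulVec_smul, sympForm_smul_left, sympForm_smul_right]; ring

variable [Finite F] (h2 : (2 : F) ≠ 0)
include h2

/-- orthogonal isotropic vectors lie in one `F[j]`-line -/
theorem dep_of_perp {v w : 𝕍} (hv0 : v ≠ 0) (hv : 𝐟 v (j *ᵥ v) = 0) (hw : 𝐟 w (j *ᵥ w) = 0)
    (h : 𝐟 v w = 0) (hj : 𝐟 v (j *ᵥ w) = 0) : w ∈ Submodule.span F {v, j *ᵥ v} := by
  by_contra hout
  have hjw : 𝐟 w (j *ᵥ v) = 0 := by rw [A.form_symm]; exact hj
  have hli : LinearIndependent F ![v, j *ᵥ v, w, j *ᵥ w] := by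
    rw [Fintype.linearIndependent_iff]
    intro c hc
    simp only [Fin.sum_univ_four, Matrix.cons_val] at hc
    have hrs : c 2 = 0 ∧ c 3 = 0 := by
      by_contra hne
      have hn : c 2 * c 2 - c 3 * c 3 * d ≠ 0 := by
        intro hn
        rcases eq_or_ne (c 3) 0 with h3 | h3
        · exact hne ⟨mul_self_eq_zero.1 (by rw [h3] at hn; linear_combination hn), h3⟩
        · exact A.nonsq (c 2 / c 3) (by field_simp; linear_combination hn)
      refine hout ((Submodule.smul_mem_iff _ hn).1 ?_)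
      have h' := congrArg (fun x => c 2 • x + (-c 3) • (j *ᵥ x)) hc
      simp only [mulVec_add, mulVec_smul, A.sq, mulVec_zero, smul_zero, add_zero] at h'
      exact Submodule.mem_span_pair.2 ⟨-(c 2 * c 0 - c 3 * c 1 * d), -(c 2 * c 1 - c 3 * c 0), by
        linear_combination (norm := module) -h'⟩
    rw [hrs.1, hrs.2, zero_smul, zero_smul, add_zero, add_zero] at hc
    obtain ⟨e0, e1⟩ := A.indep hv0 hc
    intro i
    fin_cases i
    · exact e0
    · exact e1
    · exact hrs.1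
    · exact hrs.2
  have := card_le_of_singular _ hli (by
    intro i k
    fin_cases i <;> fin_cases k <;>
      simp [sympForm_self, A.form_jj, A.anti, hv, hw, h, hj, hjw, sympForm_eq_zero_swap h,
        sympForm_eq_zero_swap hv, sympForm_eq_zero_swap hw, sympForm_eq_zero_swap hj,
        sympForm_eq_zero_swap hjw])
  simp at this

/-- a vector of prescribed value orthogonal to a non-degenerate pair -/
theorem exists_perp_value {a b : 𝕍} {α β ρ σ : F} (hα : 𝐟 a (j *ᵥ a) = α) (hβ : 𝐟 b (j *ᵥ b) = β)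
    (hρ : 𝐟 a (j *ᵥ b) = ρ) (hσ : 𝐟 a b = σ) (hD : α * β - ρ * ρ + d * σ * σ ≠ 0) (ω : F) (hω : ω ≠ 0) :
    ∃ w, 𝐟 w a = 0 ∧ 𝐟 w (j *ᵥ a) = 0 ∧ 𝐟 w b = 0 ∧ 𝐟 w (j *ᵥ b) = 0 ∧ 𝐟 w (j *ᵥ w) = ω := by
  classical
  obtain ⟨z, hz0, hza, hzja, hzb, hzjb⟩ : ∃ z, z ≠ 0 ∧ 𝐟 z a = 0 ∧ 𝐟 z (j *ᵥ a) = 0 ∧ 𝐟 z b = 0 ∧
      𝐟 z (j *ᵥ b) = 0 := by
    set T : Finset 𝕍 := {a, j *ᵥ a, b, j *ᵥ b}
    have h1 := finrank_le_finrank_spPerp_add (Submodule.span F (T : Set 𝕍))
    have h3 := finrank_span_finset_le_card (R := F) T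
    have h4 : T.card ≤ 4 := Finset.card_le_four
    simp only [Set.finrank] at h3
    obtain ⟨z, hz, hz0⟩ := Submodule.exists_mem_ne_zero_of_ne_bot
      (p := spPerp (Submodule.span F (T : Set 𝕍))) (fun e => by rw [e, finrank_bot] at h1; omega)
    exact ⟨z, hz0, hz _ (Submodule.subset_span (by simp [T])), hz _ (Submodule.subset_span (by simp [T])),
      hz _ (Submodule.subset_span (by simp [T])), hz _ (Submodule.subset_span (by simp [T]))⟩
  have hjza : 𝐟 (j *ᵥ z) a = 0 := by rw [A.anti, hzja, neg_zero]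
  have hjzb : 𝐟 (j *ᵥ z) b = 0 := by rw [A.anti, hzjb, neg_zero]
  have hjzja : 𝐟 (j *ᵥ z) (j *ᵥ a) = 0 := by rw [A.form_jj, hza, mul_zero, neg_zero]
  have hjzjb : 𝐟 (j *ᵥ z) (j *ᵥ b) = 0 := by rw [A.form_jj, hzb, mul_zero, neg_zero]
  have hQ : 𝐟 z (j *ᵥ z) ≠ 0 := by
    intro hQ
    have hli : LinearIndependent F ![a, j *ᵥ a, b, j *ᵥ b, z, j *ᵥ z] := by
      rw [Fintype.linearIndependent_iff]
      intro c hc
      simp only [Fin.sum_univ_six, Matrix.cons_val] at hc
      have hba : 𝐟 b a = -σ := by rw [sympForm_swap, hσ]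
      have hbja : 𝐟 b (j *ᵥ a) = ρ := by rw [A.form_symm, hρ]
      have e1 := congrArg (spLin (j *ᵥ a)) hc
      have e2 := congrArg (spLin a) hc
      have e3 := congrArg (spLin (j *ᵥ b)) hc
      have e4 := congrArg (spLin b) hc
      simp only [map_add, map_smul, map_zero, smul_eq_mul, spLin, LinearMap.coe_mk, AddHom.coe_mk, A.form_jj,
        hα, hβ, hρ, hσ, hba, hbja, hza, hzja, hzb, hzjb, hjza, hjzb, hjzja, hjzjb, sympForm_self,
        mul_zero, neg_zero, add_zero, zero_add] at e1 e2 e3 e4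
      rw [A.anti, A.anti, hα, hbja] at e2
      rw [A.anti, A.anti, hρ, hβ] at e4
      have hr : c 2 = 0 := (mul_eq_zero.1 (show c 2 * (α * β - ρ * ρ + d * σ * σ) = 0 by
        linear_combination α * e3 - ρ * e1 - d * σ * e2)).resolve_right hD
      have hs : c 3 = 0 := (mul_eq_zero.1 (show c 3 * (α * β - ρ * ρ + d * σ * σ) = 0 by
        linear_combination -α * e4 + ρ * e2 + σ * e1)).resolve_right hD
      have hp : c 0 = 0 := (mul_eq_zero.1 (show c 0 * (α * β - ρ * ρ + d * σ * σ) = 0 by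
        linear_combination β * e1 - ρ * e3 + d * σ * e4)).resolve_right hD
      have hq : c 1 = 0 := (mul_eq_zero.1 (show c 1 * (α * β - ρ * ρ + d * σ * σ) = 0 by
        linear_combination -β * e2 + ρ * e4 - σ * e3)).resolve_right hD
      rw [hp, hq, hr, hs, zero_smul, zero_smul, zero_smul, zero_smul, zero_add, zero_add, zero_add,
        zero_add] at hc
      obtain ⟨e5, e6⟩ := A.indep hz0 hc
      intro i
      fin_cases i
      · exact hp
      · exact hq
      · exact hr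
      · exact hs
      · exact e5
      · exact e6
    refine hz0 (CfsgLib.Geom.sympBilin_sep z fun y => ?_)
    rw [CfsgLib.Geom.sympBilin_apply]
    have hle : Submodule.span F (Set.range ![a, j *ᵥ a, b, j *ᵥ b, z, j *ᵥ z]) ≤
        spPerp (Submodule.span F ({z} : Set 𝕍)) := Submodule.span_le.2 (by
      rintro _ ⟨i, rfl⟩
      intro x hx
      obtain ⟨t, rfl⟩ := Submodule.mem_span_singleton.1 hx
      rw [sympForm_smul_right]
      refine mul_eq_zero.2 (Or.inr (sympForm_eq_zero_swap ?_))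
      fin_cases i <;> simp [hza, hzja, hzb, hzjb, hQ, sympForm_self])
    have htop := Submodule.eq_top_of_finrank_eq (show Module.finrank F (Submodule.span F (Set.range
        ![a, j *ᵥ a, b, j *ᵥ b, z, j *ᵥ z])) = Module.finrank F 𝕍 by
      rw [finrank_span_eq_card hli, Fintype.card_fin, Module.finrank_pi, Fintype.card_sum, Fintype.card_fin])
    exact sympForm_eq_zero_swap (hle (show y ∈ _ by rw [htop]; trivial) z (Submodule.mem_span_singleton_self z))
  obtain ⟨x, y, hxy⟩ : ∃ x y : F, x * x - d * (y * y) = ω / 𝐟 z (j *ᵥ z) := by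
    have := Fintype.ofFinite F
    obtain ⟨x, y, h⟩ := FiniteField.exists_root_sum_quadratic
      (f := Polynomial.X ^ 2) (g := Polynomial.C (-d) * Polynomial.X ^ 2 + Polynomial.C (-(ω / 𝐟 z (j *ᵥ z))))
      (Polynomial.degree_X_pow 2)
      (Polynomial.degree_add_C (by rw [Polynomial.degree_C_mul_X_pow 2 (neg_ne_zero.2 A.d_ne)]; norm_num) |>.trans
        (Polynomial.degree_C_mul_X_pow 2 (neg_ne_zero.2 A.d_ne)))
      (FiniteField.odd_card_of_char_ne_two fun hc => h2 (by
        have := ringChar.spec F 2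
        rw [hc] at this
        exact_mod_cast this.2 dvd_rfl))
    simp only [Polynomial.eval_add, Polynomial.eval_mul, Polynomial.eval_C, Polynomial.eval_pow,
      Polynomial.eval_X] at h
    exact ⟨x, y, by linear_combination h⟩
  refine ⟨x • z + y • (j *ᵥ z), ?_, ?_, ?_, ?_, ?_⟩
  · simp [sympForm_add_left, sympForm_smul_left, hza, hjza]
  · simp [sympForm_add_left, sympForm_smul_left, hzja, hjzja]
  · simp [sympForm_add_left, sympForm_smul_left, hzb, hjzb]
  · simp [sympForm_add_left, sympForm_smul_left, hzjb, hjzjb]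
  · rw [eq_div_iff hQ] at hxy
    simp only [mulVec_add, mulVec_smul, A.sq, sympForm_add_left, sympForm_add_right, sympForm_smul_left,
      sympForm_smul_right, sympForm_self, A.anti z (j *ᵥ z)]
    have e : 𝐟 (j *ᵥ z) z = -𝐟 z (j *ᵥ z) := sympForm_swap _ _
    linear_combination hxy + y * y * d * e

/-- the reflection in an anisotropic `F[j]`-line -/
theorem exists_refl {x : 𝕍} {q : F} (hq : 𝐟 x (j *ᵥ x) = q) (hq0 : q ≠ 0) :
    ∃ g ∈ Cfsg.spGL 3 F, (∀ y, (g : Matrix _ _ F) *ᵥ (j *ᵥ y) = j *ᵥ ((g : Matrix _ _ F) *ᵥ y)) ∧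
      ∀ y, (g : Matrix _ _ F) *ᵥ y =
        y - (2 / q * 𝐟 y (j *ᵥ x)) • x + (2 / q * 𝐟 y x) • (j *ᵥ x) := by
  let L : 𝕍 →ₗ[F] 𝕍 := LinearMap.id - ((2 / q) • spLin (j *ᵥ x)).smulRight x
    + ((2 / q) • spLin x).smulRight (j *ᵥ x)
  have hL : ∀ y, L y = y - (2 / q * 𝐟 y (j *ᵥ x)) • x + (2 / q * 𝐟 y x) • (j *ᵥ x) := fun y => rfl
  have hxj : 𝐟 (j *ᵥ x) x = -q := by rw [sympForm_swap, hq]
  have hinv : ∀ y, L (L y) = y := fun y => by
    rw [hL (L y), hL y]
    simp only [sub_eq_add_neg, ← neg_smul, sympForm_add_left, sympForm_smul_left, hq, hxj, sympForm_self]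
    match_scalars <;> field_simp <;> ring
  have hmul : LinearMap.toMatrix' L * LinearMap.toMatrix' L = 1 := by
    rw [← LinearMap.toMatrix'_comp, show L ∘ₗ L = LinearMap.id from LinearMap.ext hinv, LinearMap.toMatrix'_id]
  refine ⟨⟨LinearMap.toMatrix' L, LinearMap.toMatrix' L, hmul, hmul⟩, fun u v => ?_, fun y => ?_, fun y => ?_⟩
  · simp only [Units.coeHom_apply, LinearMap.toMatrix'_mulVec]
    show 𝐟 (L u) (L v) = 𝐟 u v
    rw [hL, hL]
    simp only [sub_eq_add_neg, ← neg_smul, sympForm_add_left, sympForm_add_right, sympForm_smul_left,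
      sympForm_smul_right, hq, hxj, sympForm_self, sympForm_swap v x, sympForm_swap v (j *ᵥ x)]
    field_simp
    ring
  · simp only [LinearMap.toMatrix'_mulVec]
    rw [hL, hL, mulVec_add, mulVec_sub, mulVec_smul, mulVec_smul, A.sq, A.form_jj, A.anti]
    module
  · rw [LinearMap.toMatrix'_mulVec, hL]

/-- isotropic vectors are linked by pairs with `f(v, jw) = 0` -/
theorem iso_connected {Pr : 𝕍 → Prop}
    (step : ∀ v w, 𝐟 v (j *ᵥ v) = 0 → 𝐟 w (j *ᵥ w) = 0 → 𝐟 v (j *ᵥ w) = 0 → 𝐟 v w ≠ 0 → Pr v → Pr w)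
    {v : 𝕍} (hv0 : v ≠ 0) (hv : 𝐟 v (j *ᵥ v) = 0) (hPv : Pr v) :
    ∀ w, w ≠ 0 → 𝐟 w (j *ᵥ w) = 0 → Pr w := by
  -- two vectors seeing each other
  have near : ∀ v w, 𝐟 v (j *ᵥ v) = 0 → 𝐟 w (j *ᵥ w) = 0 →
      (𝐟 v w ≠ 0 ∨ 𝐟 v (j *ᵥ w) ≠ 0) → Pr v → Pr w := by
    intro v w hv hw hne hP
    set r := 𝐟 v (j *ᵥ w) with hr
    set s := 𝐟 v w with hs
    by_cases hr0 : r = 0
    · exact step v w hv hw hr0 (hne.resolve_right fun h => h hr0) hP
    have hN : r * r - d * (s * s) ≠ 0 := by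
      intro h
      rcases eq_or_ne s 0 with hs0 | hs0
      · rw [hs0] at h; exact hr0 (mul_self_eq_zero.1 (by linear_combination h))
      · exact A.nonsq (r / s) (by field_simp; linear_combination h)
    have hwv : 𝐟 w v = -s := by rw [sympForm_swap, hs]
    have hwjv : 𝐟 w (j *ᵥ v) = r := by rw [A.form_symm, hr]
    set N := r * r - d * (s * s) with hNdef
    obtain ⟨z, hzv, hzjv, hzw, hzjw, hz⟩ := A.exists_perp_value h2 hv hw hr.symm hs.symm
      (by intro h; exact hN (by rw [hNdef]; linear_combination -h)) (-(2 * r / N))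
      (neg_ne_zero.2 (div_ne_zero (mul_ne_zero h2 hr0) hN))
    set u₀ := (r / N) • v + (s / N) • (j *ᵥ v) + (r / N) • w + (-(s / N)) • (j *ᵥ w) with hu₀
    have f1 : 𝐟 u₀ v = 0 := by
      simp only [hu₀, sympForm_add_left, sympForm_smul_left, sympForm_self, hwv, A.anti, hv, hwjv]
      field_simp
      ring
    have f2 : 𝐟 u₀ w = 0 := by
      simp only [hu₀, sympForm_add_left, sympForm_smul_left, sympForm_self, ← hs, A.anti, ← hr, hw]
      field_simp
      ring
    have f3 : 𝐟 u₀ (j *ᵥ v) = 1 := by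
      simp only [hu₀, sympForm_add_left, sympForm_smul_left, sympForm_self, hv, hwjv, A.form_jj, hwv]
      field_simp
      rw [hNdef]; ring
    have f4 : 𝐟 u₀ (j *ᵥ w) = 1 := by
      simp only [hu₀, sympForm_add_left, sympForm_smul_left, sympForm_self, hw, ← hr, A.form_jj, ← hs]
      field_simp
      rw [hNdef]; ring
    have f5 : 𝐟 u₀ (j *ᵥ u₀) = 2 * r / N := by
      have e : j *ᵥ u₀ = j *ᵥ ((r / N) • v + (s / N) • (j *ᵥ v) + (r / N) • w + (-(s / N)) • (j *ᵥ w)) := by
        rw [← hu₀]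
      rw [e]
      simp only [mulVec_add, mulVec_smul, A.sq, sympForm_add_right, sympForm_smul_right, f1, f2, f3, f4]
      ring
    have f6 : 𝐟 u₀ (j *ᵥ z) = 0 := by
      rw [A.form_symm, hu₀]
      simp [mulVec_add, mulVec_smul, A.sq, sympForm_add_right, sympForm_smul_right, hzv, hzjv, hzw, hzjw, -neg_smul]
    set u := u₀ + z with hu
    have hQu : 𝐟 u (j *ᵥ u) = 0 := by rw [hu, A.qf_add, f5, f6, hz]; ring
    have g1 : 𝐟 u v = 0 := by rw [hu, sympForm_add_left, f1, hzv, add_zero]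
    have g2 : 𝐟 u w = 0 := by rw [hu, sympForm_add_left, f2, hzw, add_zero]
    have g3 : 𝐟 u (j *ᵥ v) = 1 := by rw [hu, sympForm_add_left, f3, hzjv, add_zero]
    have g4 : 𝐟 u (j *ᵥ w) = 1 := by rw [hu, sympForm_add_left, f4, hzjw, add_zero]
    have hju : 𝐟 (j *ᵥ u) (j *ᵥ (j *ᵥ u)) = 0 := by
      rw [A.sq, sympForm_smul_right, A.anti, hQu, neg_zero, mul_zero]
    have hP' : Pr (j *ᵥ u) := step v (j *ᵥ u) hv hju
      (by rw [A.sq, sympForm_smul_right, sympForm_eq_zero_swap g1, mul_zero])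
      (by rw [A.form_symm, g3]; exact one_ne_zero) hP
    exact step (j *ᵥ u) w hju hw (by rw [A.form_jj, g2, mul_zero, neg_zero])
      (by rw [A.anti, g4]; exact neg_ne_zero.2 one_ne_zero) hP'
  intro w hw0 hw
  by_cases hne : 𝐟 v w ≠ 0 ∨ 𝐟 v (j *ᵥ w) ≠ 0
  · exact near v w hv hw hne hPv
  push Not at hne
  obtain ⟨p, q, hpq⟩ := Submodule.mem_span_pair.1 (A.dep_of_perp h2 hv0 hv hw hne.1 hne.2)
  have hjv0 : j *ᵥ v ≠ 0 := fun h => hv0 (by
    have := A.sq v; rw [h, mulVec_zero] at this; exact (smul_eq_zero.1 this.symm).resolve_left A.d_ne)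
  obtain ⟨u, -, hQu, hu⟩ := exists_singular_avoid (A.quadForm h2) h2 (W := ⊤)
    (P := LinearMap.ker (spLin (j *ᵥ v))) (by
      rw [finrank_top, Module.finrank_pi, Fintype.card_sum, Fintype.card_fin]; omega) (by
      intro hle
      exact hjv0 (CfsgLib.Geom.sympBilin_sep _ fun y => by
        rw [CfsgLib.Geom.sympBilin_apply]; exact sympForm_eq_zero_swap (hle (x := y) trivial)))
  have hu' : 𝐟 u (j *ᵥ v) ≠ 0 := hu
  have hPu := near v u hv hQu (Or.inr (by rw [A.form_symm]; exact hu')) hPv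
  refine near u w hQu hw ?_ hPu
  rw [← hpq]
  by_contra hno
  push Not at hno
  obtain ⟨n1, n2⟩ := hno
  simp only [mulVec_add, mulVec_smul, A.sq, sympForm_add_right, sympForm_smul_right] at n1 n2
  -- the norm of `p + q j` times `f(u, jv)` vanishes
  have hn : (p * p - q * q * d) * 𝐟 u (j *ᵥ v) = 0 := by linear_combination p * n2 - q * d * n1
  rcases mul_eq_zero.1 hn with hn | hn
  · rcases eq_or_ne q 0 with rfl | hq
    · exact hw0 (by rw [← hpq, mul_self_eq_zero.1 (by linear_combination hn : p * p = 0)]; simp)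
    · exact A.nonsq (p / q) (by field_simp; linear_combination hn)
  · exact hu' hn

end SpAnti

end CfsgLib.MaxSub
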