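import Cfsg.Agent.Lib.MaxSub.SpUnitThree
import Cfsg.Agent.S5665

/-!
The normaliser of a quadratic overfield with adjoint involution is maximal in `Sp_6`.
-/

set_option autoImplicit false
set_option linter.unusedSectionVars false
set_option linter.unusedSimpArgs false

open Cfsg

namespace CfsgLib.MaxSub

open Matrix

/-- the unitary overfield normaliser is maximal in dimension six -/
theorem unitary_three_maximal {F : Type*} [Field F] [Fintype F] (hodd : Odd (Fintype.card F)) (K : Subalgebra F (Matrix (Fin 3 ⊕ Fin 3) (Fin 3 ⊕ Fin 3) F)) (hK : Cfsg.Geo.IsFieldSubalgebra 2 K) (hac : Cfsg.Geo.IsAdjointClosedFor (Cfsg.sympForm 3 F) K) (hnsa : ¬ Cfsg.Geo.IsSelfAdjointFor (Cfsg.sympForm 3 F) K) : Cfsg.Geo.IsMaximalIn (Cfsg.spGL 3 F) (Cfsg.Geo.subalgebraNormalizer K ⊓ Cfsg.spGL 3 F) := by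
  classical
  have h2 : (2 : F) ≠ 0 := by
    intro h
    have hc : ringChar F = 2 := by
      have := CharP.charP_iff_prime_eq_zero Nat.prime_two |>.2 (by exact_mod_cast h : ((2 : ℕ) : F) = 0)
      exact ringChar.eq F 2
    exact (Nat.not_even_iff_odd.2 hodd) (Nat.even_iff.2 (FiniteField.even_card_of_char_two hc))
  haveI : Nonempty (Fin 3 ⊕ Fin 3) := ⟨Sum.inl 0⟩
  -- the anti-self-adjoint element
  obtain ⟨j, hjK, hj0, hanti⟩ : ∃ j ∈ K, j ≠ 0 ∧
      ∀ u v, Cfsg.sympForm 3 F (j *ᵥ u) v = -Cfsg.sympForm 3 F u (j *ᵥ v) := by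
    simp only [Cfsg.Geo.IsSelfAdjointFor, not_forall] at hnsa
    obtain ⟨k, hk, u₀, v₀, hne⟩ := hnsa
    obtain ⟨k', hk', hadj⟩ := hac k hk
    have hadj' : ∀ u v, Cfsg.sympForm 3 F (k' *ᵥ u) v = Cfsg.sympForm 3 F u (k *ᵥ v) := fun u v => by
      rw [sympForm_swap v (k' *ᵥ u), ← hadj, sympForm_swap u (k *ᵥ v), neg_neg]
    refine ⟨k - k', sub_mem hk hk', fun e => hne ?_, fun u v => ?_⟩
    · rw [hadj, ← sub_eq_zero.1 e]
    · rw [sub_mulVec, sub_mulVec, sub_eq_add_neg, sub_eq_add_neg, ← neg_one_smul F (k' *ᵥ u),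
        ← neg_one_smul F (k' *ᵥ v), sympForm_add_left, sympForm_add_right, sympForm_smul_left,
        sympForm_smul_right, hadj, hadj']
      ring
  have hnsc : ∀ c : F, j ≠ c • 1 := by
    intro c e
    obtain ⟨u, v, huv⟩ : ∃ u v : Fin 3 ⊕ Fin 3 → F, Cfsg.sympForm 3 F u v ≠ 0 := by
      let u : Fin 3 ⊕ Fin 3 → F := Pi.single (Sum.inl 0) 1
      obtain ⟨v, -, hv⟩ := exists_spPerp_of_notMem (W := (⊥ : Submodule F (Fin 3 ⊕ Fin 3 → F))) (x := u)
        (fun h => by simpa [u] using h)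
      exact ⟨u, v, hv⟩
    have := hanti u v
    rw [e, smul_mulVec, smul_mulVec, one_mulVec, one_mulVec, sympForm_smul_left,
      sympForm_smul_right] at this
    have hc : c = 0 := by
      have : c * (2 * Cfsg.sympForm 3 F u v) = 0 := by linear_combination this
      exact (mul_eq_zero.1 this).resolve_right (mul_ne_zero h2 huv)
    exact hj0 (by rw [e, hc, zero_smul])
  have hspan : ∀ k ∈ K, ∃ p q : F, k = p • 1 + q • j := by
    have hle : Submodule.span F {(1 : Matrix (Fin 3 ⊕ Fin 3) (Fin 3 ⊕ Fin 3) F), j} ≤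
        Subalgebra.toSubmodule K := Submodule.span_le.2 (by
      rintro _ (rfl | rfl)
      · exact one_mem K
      · exact hjK)
    have hli : LinearIndependent F ![(1 : Matrix (Fin 3 ⊕ Fin 3) (Fin 3 ⊕ Fin 3) F), j] :=
      (LinearIndependent.pair_iff' (one_ne_zero)).2 fun c e => hnsc c e.symm
    have hfr := finrank_span_eq_card hli
    rw [Fintype.card_fin, show Set.range ![(1 : Matrix (Fin 3 ⊕ Fin 3) (Fin 3 ⊕ Fin 3) F), j] = {1, j} by
      simp [Set.pair_comm]] at hfr
    have he := Submodule.eq_of_le_of_finrank_eq hle (by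
      rw [hfr]; exact hK.finrank_eq.symm)
    intro k hk
    have : k ∈ Submodule.span F {(1 : Matrix (Fin 3 ⊕ Fin 3) (Fin 3 ⊕ Fin 3) F), j} := by
      rw [he]; exact hk
    obtain ⟨p, q, h⟩ := Submodule.mem_span_pair.1 this
    exact ⟨p, q, h.symm⟩
  obtain ⟨d, hd⟩ : ∃ d : F, j * j = d • 1 := by
    obtain ⟨p, q, hpq⟩ := hspan _ (mul_mem hjK hjK)
    refine ⟨p, ?_⟩
    suffices q = 0 by rw [hpq, this, zero_smul, add_zero]
    by_contra hq
    obtain ⟨w, hw⟩ : ∃ w, j *ᵥ w ≠ 0 := by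
      by_contra hno
      push Not at hno
      exact hj0 (Matrix.ext_of_mulVec_single fun i => by rw [hno, zero_mulVec])
    refine hw (CfsgLib.Geom.sympBilin_sep _ fun v => ?_)
    rw [CfsgLib.Geom.sympBilin_apply]
    have e1 := hanti (j *ᵥ w) v
    rw [hanti w, mulVec_mulVec, mulVec_mulVec, hpq, add_mulVec, add_mulVec, smul_mulVec, smul_mulVec,
      smul_mulVec, smul_mulVec, one_mulVec, one_mulVec, sympForm_add_left, sympForm_add_right,
      sympForm_smul_left, sympForm_smul_left, sympForm_smul_right, sympForm_smul_right, hanti] at e1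
    have : 2 * q * Cfsg.sympForm 3 F w (j *ᵥ v) = 0 := by linear_combination -e1
    rw [hanti, (mul_eq_zero.1 this).resolve_left (mul_ne_zero h2 hq), neg_zero]
  have A : SpAnti (m := 3) j d := by
    refine ⟨hanti, fun v => by rw [mulVec_mulVec, hd, smul_mulVec, one_mulVec], fun c hc => ?_⟩
    have hzero : (j + c • 1) * (j - c • 1) = 0 := by
      rw [Matrix.add_mul, Matrix.mul_sub, Matrix.mul_sub, hd, Matrix.mul_smul, Matrix.mul_one,
        Matrix.smul_mul, Matrix.one_mul, Matrix.smul_mul, Matrix.one_mul, smul_smul, hc]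
      abel
    have hne : j + c • 1 ≠ 0 := fun e => hnsc (-c) (by rw [neg_smul]; exact eq_neg_of_add_eq_zero_left e)
    obtain ⟨y, hy, hxy⟩ := hK.inv _ (add_mem hjK (K.smul_mem (one_mem K) c)) hne
    refine hnsc c (sub_eq_zero.1 ?_)
    have := congrArg (y * ·) hzero
    simp only [← Matrix.mul_assoc, Matrix.mul_zero] at this
    rwa [hK.comm y hy _ (add_mem hjK (K.smul_mem (one_mem K) c)), hxy, Matrix.one_mul] at this
  -- the isometries commuting with `j` lie in the subgroup
  have hH : ∀ g ∈ Cfsg.spGL 3 F, (∀ y, (g : Matrix _ _ F) *ᵥ (j *ᵥ y) = j *ᵥ ((g : Matrix _ _ F) *ᵥ y)) →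
      g ∈ Cfsg.Geo.subalgebraNormalizer K ⊓ Cfsg.spGL 3 F := fun g hg hgj =>
    ⟨Cfsg.Agent.S5665.mem_normalizer hjK hspan one_ne_zero (by
      rw [one_smul]
      refine Matrix.ext_of_mulVec_single fun i => ?_
      rw [← mulVec_mulVec, ← mulVec_mulVec, hgj]), hg⟩
  refine isMaximalIn_of_lt (lt_of_le_of_ne inf_le_right fun he => ?_) fun M hM hMS g hg hgH => ?_
  · let v : Fin 3 ⊕ Fin 3 → F := Pi.single (Sum.inl 0) 1
    have hv0 : v ≠ 0 := by simp [v]
    have hT := spT_mem_spGL v (1 : F)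
    rw [← he] at hT
    obtain ⟨p, q, hpq⟩ := hspan _ ((hT.1 j).1 hjK)
    have e : ∀ x, (spT v (1 : F) : Matrix _ _ F) *ᵥ (j *ᵥ x) =
        p • ((spT v (1 : F) : Matrix _ _ F) *ᵥ x) + q • (j *ᵥ ((spT v (1 : F) : Matrix _ _ F) *ᵥ x)) := by
      intro x
      have := congrArg (fun N : Matrix (Fin 3 ⊕ Fin 3) (Fin 3 ⊕ Fin 3) F =>
        N *ᵥ ((spT v (1 : F) : Matrix _ _ F) *ᵥ x)) hpq
      simp only [← mulVec_mulVec, inv_mulVec_mulVec, add_mulVec, smul_mulVec, one_mulVec] at this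
      exact this
    -- a vector orthogonal to `v` and `jv`, independent of `F[j] v`
    obtain ⟨x, hx, hxj, hx0⟩ : ∃ x, Cfsg.sympForm 3 F x v = 0 ∧
        Cfsg.sympForm 3 F x (j *ᵥ v) = 0 ∧ x ≠ 0 := by
      have h1 := finrank_le_inf_ker (⊤ : Submodule F (Fin 3 ⊕ Fin 3 → F)) (spLin v)
      have h2 := finrank_le_inf_ker ((⊤ : Submodule F (Fin 3 ⊕ Fin 3 → F)) ⊓ LinearMap.ker (spLin v))
        (spLin (j *ᵥ v))
      rw [finrank_top, Module.finrank_pi, Fintype.card_sum, Fintype.card_fin] at h1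
      obtain ⟨x, hx, hx0⟩ := Submodule.exists_mem_ne_zero_of_ne_bot (p :=
        (⊤ : Submodule F (Fin 3 ⊕ Fin 3 → F)) ⊓ LinearMap.ker (spLin v) ⊓ LinearMap.ker (spLin (j *ᵥ v)))
        (fun e => by rw [e, finrank_bot] at h2; omega)
      exact ⟨x, hx.1.2, hx.2, hx0⟩
    have e' := e x
    simp only [spT_mulVec, hx, A.anti x v, hxj, mul_zero, neg_zero, zero_smul, add_zero] at e'
    obtain ⟨rfl, hq⟩ := A.indep hx0 (p := p) (q := q - 1)
      (by linear_combination (norm := module) -e')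
    obtain rfl : q = 1 := sub_eq_zero.1 hq
    obtain ⟨z, -, hz⟩ := exists_spPerp_of_notMem (W := (⊥ : Submodule F (Fin 3 ⊕ Fin 3 → F))) (x := v)
      (fun h => hv0 (by simpa using h))
    have hz' : Cfsg.sympForm 3 F z v ≠ 0 := fun h => hz (sympForm_eq_zero_swap h)
    have e'' := e z
    simp only [spT_mulVec, one_mul, mulVec_add, mulVec_smul] at e''
    exact hz' (neg_eq_zero.1 (A.indep hv0 (p := Cfsg.sympForm 3 F (j *ᵥ z) v)
      (q := -Cfsg.sympForm 3 F z v) (by linear_combination (norm := module) e'')).2)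
  · let G := (g : Matrix (Fin 3 ⊕ Fin 3) (Fin 3 ⊕ Fin 3) F)
    let G' := ((g⁻¹ : Matrix.GeneralLinearGroup (Fin 3 ⊕ Fin 3) F) : Matrix (Fin 3 ⊕ Fin 3) (Fin 3 ⊕ Fin 3) F)
    have hC : ∀ g ∈ Cfsg.spGL 3 F, (∀ y, (g : Matrix _ _ F) *ᵥ (j *ᵥ y) = j *ᵥ ((g : Matrix _ _ F) *ᵥ y)) → g ∈ M :=
      fun g hg hgj => hM (hH g hg hgj)
    have hU : ∀ v c, Cfsg.sympForm 3 F v (j *ᵥ v) = 0 → spU j d v c ∈ M := fun v c hv =>
      hC _ (spU_mem_spGL _ _ _ _) (A.spU_comm hv c)
    obtain ⟨v, hv, hout⟩ : ∃ v, Cfsg.sympForm 3 F v (j *ᵥ v) = 0 ∧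
        G *ᵥ (j *ᵥ v) ∉ Submodule.span F {G *ᵥ v, j *ᵥ (G *ᵥ v)} := by
      by_contra hno
      push Not at hno
      have hinjG : ∀ x, G *ᵥ x = 0 → x = 0 := fun x e => by
        have e' : (g : Matrix (Fin 3 ⊕ Fin 3) (Fin 3 ⊕ Fin 3) F) *ᵥ x = 0 := e
        rw [← inv_mulVec_mulVec g x, e', mulVec_zero]
      let L := G' * j * G
      have hLsq : ∀ x, L *ᵥ (L *ᵥ x) = d • x := fun x => by
        simp only [L, G, G', ← mulVec_mulVec, mulVec_mulVec_inv, A.sq, mulVec_smul, inv_mulVec_mulVec]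
      have hLv : ∀ v, Cfsg.sympForm 3 F v (j *ᵥ v) = 0 → v ≠ 0 →
          ∃ α β : F, L *ᵥ v = α • v + β • (j *ᵥ v) := by
        intro v hv hv0
        obtain ⟨p, q, hpq⟩ := Submodule.mem_span_pair.1 (hno v hv)
        rcases eq_or_ne q 0 with rfl | hq
        · exfalso
          rw [zero_smul, add_zero, ← mulVec_smul] at hpq
          have h0 : G *ᵥ (p • v - j *ᵥ v) = 0 := by rw [mulVec_sub, hpq, sub_self]
          exact one_ne_zero (neg_eq_zero.1 (A.indep hv0 (p := p) (q := -1)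
            (by rw [neg_smul, one_smul, ← sub_eq_add_neg]; exact hinjG _ h0)).2)
        · refine ⟨-(p / q), q⁻¹, ?_⟩
          refine smul_right_injective _ hq ?_
          simp only [smul_add, smul_smul, mul_neg, mul_div_cancel₀ _ hq, mul_inv_cancel₀ hq, one_smul]
          have := congrArg (G' *ᵥ ·) hpq
          simp only [G, G', mulVec_add, mulVec_smul, inv_mulVec_mulVec] at this
          simp only [L, G, G', ← mulVec_mulVec]
          linear_combination (norm := module) this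
      obtain ⟨v₀, -, hv₀0, hv₀⟩ := exists_singular (A.quadForm h2) h2
        (W := (⊤ : Submodule F (Fin 3 ⊕ Fin 3 → F)))
        (by rw [finrank_top, Module.finrank_pi, Fintype.card_sum, Fintype.card_fin]; omega)
      obtain ⟨α, β, hαβ⟩ := hLv v₀ hv₀ hv₀0
      have hall : ∀ v, Cfsg.sympForm 3 F v (j *ᵥ v) = 0 → L *ᵥ v = α • v + β • (j *ᵥ v) := by
        intro v hv
        rcases eq_or_ne v 0 with rfl | hv0
        · simp
        refine A.iso_connected h2 (Pr := fun x => L *ᵥ x = α • x + β • (j *ᵥ x)) ?_ hv₀0 hv₀ hαβ v hv0 hv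
        -- coefficients agree on linked pairs
        intro v w hv hw hvw hne hα
        have hw0 : w ≠ 0 := fun e => hne (by rw [e, ← zero_smul F v, sympForm_smul_right, zero_mul])
        have hv0 : v ≠ 0 := fun e => hne (by rw [e]; exact zero_dotProduct _)
        obtain ⟨α₁, β₁, h1⟩ := hLv w hw hw0
        have hout : ∀ p q : F, w ≠ p • v + q • (j *ᵥ v) := fun p q e => hne (by
          rw [e, sympForm_add_right, sympForm_smul_right, sympForm_smul_right, sympForm_self, hv]; ring)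
        have hsum0 : v + w ≠ 0 := fun e => hout (-1) 0 (by
          rw [eq_neg_of_add_eq_zero_right e]; module)
        obtain ⟨α₂, β₂, h2'⟩ := hLv (v + w) (by rw [A.qf_add, hv, hw, hvw]; ring) hsum0
        rw [mulVec_add, hα, h1] at h2'
        have key : (α₁ - α₂) • w + (β₁ - β₂) • (j *ᵥ w) = (α₂ - α) • v + (β₂ - β) • (j *ᵥ v) := by
          rw [mulVec_add] at h2'
          linear_combination (norm := module) h2'
        by_cases hn : (α₁ - α₂) * (α₁ - α₂) - (β₁ - β₂) * (β₁ - β₂) * d = 0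
        · have hb : β₁ - β₂ = 0 := by
            by_contra hb
            exact A.nonsq ((α₁ - α₂) / (β₁ - β₂)) (by field_simp; linear_combination hn)
          have ha : α₁ - α₂ = 0 := by rw [hb] at hn; exact mul_self_eq_zero.1 (by linear_combination hn)
          rw [ha, hb, zero_smul, zero_smul, add_zero] at key
          obtain ⟨e1, e2⟩ := A.indep hv0 key.symm
          rw [h1, show α₁ = α by linear_combination ha + e1, show β₁ = β by linear_combination hb + e2]
        · exfalso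
          refine hout (((α₁ - α₂) * (α₂ - α) + (-(β₁ - β₂)) * ((β₂ - β) * d)) /
            ((α₁ - α₂) * (α₁ - α₂) - (β₁ - β₂) * (β₁ - β₂) * d))
            (((α₁ - α₂) * (β₂ - β) + (-(β₁ - β₂)) * (α₂ - α)) /
            ((α₁ - α₂) * (α₁ - α₂) - (β₁ - β₂) * (β₁ - β₂) * d)) ?_
          refine smul_right_injective _ hn ?_
          simp only [smul_add, smul_smul, mul_div_cancel₀ _ hn]
          have hj := congrArg (fun x => (α₁ - α₂) • x + (-(β₁ - β₂)) • (j *ᵥ x)) key
          simp only [mulVec_add, mulVec_smul, A.sq] at hj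
          linear_combination (norm := module) hj
      have heq : L = α • 1 + β • j := by
        refine Matrix.ext_of_mulVec_single fun i => ?_
        have := le_of_singular_mem (A.quadForm h2) h2 (W := ⊤)
          (S := LinearMap.ker (Matrix.toLin' (L - (α • 1 + β • j))))
          (by rw [finrank_top, Module.finrank_pi, Fintype.card_sum, Fintype.card_fin]; omega)
          (fun s _ hs => by
            rw [LinearMap.mem_ker, Matrix.toLin'_apply, sub_mulVec, add_mulVec, smul_mulVec,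
              smul_mulVec, one_mulVec, hall s hs, sub_self])
        have h0 := this (x := Pi.single i 1) trivial
        rw [LinearMap.mem_ker, Matrix.toLin'_apply, sub_mulVec] at h0
        exact sub_eq_zero.1 h0
      obtain ⟨hα0, hβ⟩ : α = 0 ∧ β ≠ 0 := by
        have h := hLsq v₀
        simp only [heq, add_mulVec, smul_mulVec, one_mulVec, mulVec_add, mulVec_smul, A.sq] at h
        obtain ⟨e1, e2⟩ := A.indep hv₀0 (p := α * α + β * β * d - d) (q := 2 * (α * β))
          (by linear_combination (norm := module) h)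
        rcases mul_eq_zero.1 ((mul_eq_zero.1 e2).resolve_left h2) with ha | hb
        · refine ⟨ha, fun hb => A.d_ne ?_⟩
          rw [ha, hb] at e1; linear_combination -e1
        · exfalso
          exact A.nonsq α (by rw [hb] at e1; linear_combination e1)
      refine hgH ⟨Cfsg.Agent.S5665.mem_normalizer hjK hspan (inv_ne_zero hβ) ?_, hMS hg⟩
      have h1 : G * L = G * (α • 1 + β • j) := by rw [heq]
      simp only [L, G, G', ← Matrix.mul_assoc, ← Units.val_mul, mul_inv_cancel, Units.val_one,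
        Matrix.one_mul, hα0, zero_smul, zero_add, Matrix.mul_smul] at h1
      rw [h1, smul_smul, inv_mul_cancel₀ hβ, one_smul]
    have hgS := hMS hg
    have hE := mul_mem (mul_mem hg (hU v 1 hv)) (inv_mem hg)
    rw [spU, show g * (spT v (1 : F) * spT (j *ᵥ v) (-(1 / d))) * g⁻¹ =
      (g * spT v (1 : F) * g⁻¹) * (g * spT (j *ᵥ v) (-(1 / d)) * g⁻¹) by group, spT_conj hgS,
      spT_conj hgS] at hE
    have hgv0 : G *ᵥ v ≠ 0 := fun e => hout (by
      have e' : (g : Matrix (Fin 3 ⊕ Fin 3) (Fin 3 ⊕ Fin 3) F) *ᵥ v = 0 := e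
      have hv0 : v = 0 := by rw [← inv_mulVec_mulVec g v, e', mulVec_zero]
      rw [show G *ᵥ (j *ᵥ v) = 0 by rw [hv0, mulVec_zero, mulVec_zero]]
      exact zero_mem _)
    obtain ⟨y, hy0, hyy, hy⟩ := A.exists_full_three h2 hC (one_ne_zero (α := F))
      (fun t h => by
        rcases eq_or_ne t 0 with rfl | ht
        · simp [A.d_ne] at h
        · exact A.nonsq t⁻¹ (by have hd0 := A.d_ne; field_simp at h ⊢; linear_combination -h))
      ((spGL_form hgS v (j *ᵥ v)).trans hv) hgv0 hout hE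
    exact spGL_le_of_spFull (A.all_full_three h2 hC hy0 hyy hy)

end CfsgLib.MaxSub
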