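import Mathlib

/-!
Element orders of 8-dimensional symplectic and orthogonal groups in characteristic two: the twelve maximal
orders, and the divisibility of a self-reciprocal polynomial of degree eight into one of the `X ^ N - 1`.
-/

set_option autoImplicit false

namespace CfsgLib.MaxSub.SpecEight

open Polynomial

/-- The exponent of a block of type `t`. -/
def typeExp (q : ℕ) : Fin 8 → ℕ :=
  ![q - 1, q + 1, q ^ 2 - 1, q ^ 2 + 1, q ^ 3 - 1, q ^ 3 + 1, q ^ 4 - 1, q ^ 4 + 1]

/-- The half degree of a block of type `t`. -/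
def typeDeg : Fin 8 → ℕ := ![1, 1, 2, 2, 3, 3, 4, 4]

/-- The odd parts of the maximal orders. -/
def oddPart (q : ℕ) : Fin 12 → ℕ :=
  ![q - 1, q + 1, q ^ 2 - 1, q ^ 2 + 1, q ^ 3 - 1, q ^ 3 + 1, (q ^ 2 + 1) * (q - 1), (q ^ 2 + 1) * (q + 1),
    q ^ 4 - 1, q ^ 4 + 1, (q ^ 3 + 1) * (q - 1), (q ^ 3 - 1) * (q + 1)]

/-- The two-adic logarithms of the maximal orders. -/
def twoPart : Fin 12 → ℕ := ![3, 3, 2, 2, 1, 1, 1, 1, 0, 0, 0, 0]

/-- The block types whose exponent divides an entry. -/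
def covers : Fin 12 → List (Fin 8) :=
  ![[0], [1], [0, 1, 2], [3], [0, 4], [1, 5], [0, 3], [1, 3], [0, 1, 2, 3, 6], [7], [0, 1, 2, 5], [0, 1, 2, 4]]

/-- The maximal orders. -/
def maxOrd (q : ℕ) (i : Fin 12) : ℕ := 2 ^ twoPart i * oddPart q i

/-- The element orders. -/
def spec (q : ℕ) : Set ℕ := {d | ∃ i, d ∣ maxOrd q i}

theorem typeExp_dvd (q : ℕ) (i : Fin 12) (t : Fin 8) (ht : t ∈ covers i) : typeExp q t ∣ oddPart q i := by
  have h21a : q - 1 ∣ q ^ 2 - 1 := by simpa using Nat.sub_dvd_pow_sub_pow q 1 2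
  have h31 : q - 1 ∣ q ^ 3 - 1 := by simpa using Nat.sub_dvd_pow_sub_pow q 1 3
  have h21b : q + 1 ∣ q ^ 2 - 1 := ⟨q - 1, by rw [sq]; exact Nat.mul_self_sub_mul_self_eq q 1⟩
  have h2e : q ^ 2 - 1 = (q + 1) * (q - 1) := by rw [sq]; exact Nat.mul_self_sub_mul_self_eq q 1
  have h3 : q + 1 ∣ q ^ 3 + 1 := by simpa using Odd.nat_add_dvd_pow_add_pow q 1 (by decide : Odd 3)
  have h4e : q ^ 4 - 1 = (q ^ 2 + 1) * (q ^ 2 - 1) := by
    rw [show q ^ 4 = q ^ 2 * q ^ 2 by ring]; exact Nat.mul_self_sub_mul_self_eq (q ^ 2) 1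
  have h2c : q ^ 2 - 1 ∣ (q ^ 3 + 1) * (q - 1) := h2e ▸ Nat.mul_dvd_mul_right h3 _
  have h2d : q ^ 2 - 1 ∣ (q ^ 3 - 1) * (q + 1) := by
    rw [h2e, mul_comm (q + 1)]; exact Nat.mul_dvd_mul_right h31 _
  fin_cases i <;> fin_cases t <;> simp [covers] at ht <;> simp [typeExp, oddPart] <;>
    first
    | exact h21a
    | exact h21b
    | exact h31
    | exact h3
    | exact h2c
    | exact h2d
    | exact h21a.trans h2c
    | exact h21b.trans h2c
    | exact h21a.trans h2d
    | exact h21b.trans h2d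
    | exact h21a.trans (h4e ▸ dvd_mul_left _ _)
    | exact h21b.trans (h4e ▸ dvd_mul_left _ _)
    | exact h4e ▸ dvd_mul_left _ _
    | exact h4e ▸ dvd_mul_right _ _

/-- Total half degree of a multiplicity vector. -/
def wt (f0 f1 f2 f3 f4 f5 f6 f7 : ℕ) : ℕ := f0 + f1 + 2 * f2 + 2 * f3 + 3 * f4 + 3 * f5 + 4 * f6 + 4 * f7

/-- One entry covers a multiplicity vector. -/
def Ok (i : Fin 12) (f : List ℕ) : Prop :=
  ∀ t : Fin 8, f.getD t 0 = 0 ∨ (f.getD t 0 ≤ 2 ^ twoPart i ∧ t ∈ covers i)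

instance instDecidableOk (i : Fin 12) (f : List ℕ) : Decidable (Ok i f) := by unfold Ok; infer_instance

theorem cover_table : ∀ (f0 : Fin 5) (f1 : Fin 5) (f2 : Fin 3) (f3 : Fin 3) (f4 : Fin 2) (f5 : Fin 2) (f6 : Fin 2)
    (f7 : Fin 2), wt f0 f1 f2 f3 f4 f5 f6 f7 ≤ 4 → ∃ i : Fin 12,
      8 - 2 * wt f0 f1 f2 f3 f4 f5 f6 f7 ≤ 2 ^ twoPart i ∧
      Ok i [(f0 : ℕ), f1, f2, f3, f4, f5, f6, f7] := by
  decide +kernel

/-- Some entry covers every admissible multiplicity vector. -/
theorem cover (f : Fin 8 → ℕ) (hf : ∑ t, typeDeg t * f t ≤ 4) :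
    ∃ i : Fin 12, 8 - 2 * (∑ t, typeDeg t * f t) ≤ 2 ^ twoPart i ∧
      ∀ t, f t ≠ 0 → f t ≤ 2 ^ twoPart i ∧ t ∈ covers i := by
  have hw : ∑ t, typeDeg t * f t = wt (f 0) (f 1) (f 2) (f 3) (f 4) (f 5) (f 6) (f 7) := by
    simp [Fin.sum_univ_eight, typeDeg, wt]
  rw [hw] at hf ⊢
  have hb : f 0 < 5 ∧ f 1 < 5 ∧ f 2 < 3 ∧ f 3 < 3 ∧ f 4 < 2 ∧ f 5 < 2 ∧ f 6 < 2 ∧ f 7 < 2 := by
    simp only [wt] at hf; omega
  obtain ⟨h0, h1, h2, h3, h4, h5, h6, h7⟩ := hb
  obtain ⟨i, hi, hok⟩ := cover_table ⟨_, h0⟩ ⟨_, h1⟩ ⟨_, h2⟩ ⟨_, h3⟩ ⟨_, h4⟩ ⟨_, h5⟩ ⟨_, h6⟩ ⟨_, h7⟩ hf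
  refine ⟨i, hi, fun t ht => ?_⟩
  have := hok t
  fin_cases t <;> simp_all

section Roots

variable {F : Type*} [Field F] [Fintype F] [CharP F 2] {K : Type*} [Field K] [CharP K 2]

theorem inv_of_char_two {a : K} (h : a = a⁻¹) (ha : a ≠ 0) : a = 1 := by
  have h1 : a * a = 1 := by nth_rw 2 [h]; exact mul_inv_cancel₀ ha
  rcases mul_self_eq_one_iff.1 h1 with h2 | h2
  · exact h2
  · rwa [CharTwo.neg_eq] at h2

/-- A multiset closed under Frobenius and inversion, of size at most eight. -/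
theorem exists_entry [DecidableEq K] (q : ℕ) (hinj : Function.Injective fun a : K => a ^ q) (S : Multiset K)
    (hcard : Multiset.card S ≤ 8) (h0 : ∀ a ∈ S, a ≠ 0) (hfrob : ∀ a, S.count (a ^ q) = S.count a)
    (hinv : ∀ a, S.count a⁻¹ = S.count a) :
    ∃ i : Fin 12, ∀ a ∈ S, a ^ oddPart q i = 1 ∧ S.count a ≤ 2 ^ twoPart i := by
  classical
  have hiter : ∀ (j : ℕ) (a : K), S.count (a ^ q ^ j) = S.count a := by
    intro j
    induction j with
    | zero => simp
    | succ j ih => intro a; rw [pow_succ, pow_mul, hfrob, ih]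
  have hinjn : ∀ j : ℕ, Function.Injective fun a : K => a ^ q ^ j := by
    intro j
    induction j with
    | zero => intro a b h; simpa using h
    | succ j ih =>
      intro a b hab
      simp only [pow_succ, pow_mul] at hab
      exact ih (hinj hab)
  let R : ℕ → K → Prop := fun e a => a ^ q ^ e = a ∨ a ^ q ^ e = a⁻¹
  have hgood : ∀ a ∈ S, a ≠ 1 → ∃ e, 1 ≤ e ∧ e ≤ 4 ∧ R e a ∧ ∃ T : Finset K, T.card = 2 * e ∧
      ∀ b ∈ T, S.count b = S.count a ∧ b ≠ 1 ∧ ∀ e', (R e' b ↔ R e' a) ∧ (b ^ q ^ e' = b ↔ a ^ q ^ e' = a) := by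
    intro a ha ha1
    have ha0 := h0 a ha
    have hper : ∃ e, 1 ≤ e ∧ R e a := by
      obtain ⟨i, hi, j, hj, hne, hij⟩ := Finset.exists_ne_map_eq_of_card_lt_of_maps_to
        (s := Finset.range 9) (t := S.toFinset) (f := fun i => a ^ q ^ i)
        (lt_of_le_of_lt (le_trans (Multiset.toFinset_card_le S) hcard) (by simp))
        (fun i _ => Finset.mem_coe.2 (Multiset.mem_toFinset.2 (Multiset.count_pos.1 (by
          rw [hiter]; exact Multiset.count_pos.2 ha))))
      have key : ∀ i j : ℕ, i < j → a ^ q ^ i = a ^ q ^ j → ∃ e, 1 ≤ e ∧ R e a := fun i j hlt h => by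
        refine ⟨j - i, by omega, Or.inl (hinjn i ?_)⟩
        simp only
        rw [← pow_mul, ← pow_add, Nat.sub_add_cancel hlt.le]
        exact h.symm
      rcases lt_or_gt_of_ne hne with hlt | hlt
      · exact key i j hlt hij
      · exact key j i hlt hij.symm
    obtain ⟨e, ⟨he1, hR⟩, hmin⟩ : ∃ e, (1 ≤ e ∧ R e a) ∧ ∀ e' < e, ¬ (1 ≤ e' ∧ R e' a) :=
      ⟨Nat.find hper, Nat.find_spec hper, fun e' h' => Nat.find_min hper h'⟩
    let g : Fin e × Bool → K := fun x => bif x.2 then (a ^ q ^ (x.1 : ℕ))⁻¹ else a ^ q ^ (x.1 : ℕ)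
    have hlt : ∀ i j : ℕ, i < j → j < e → a ^ q ^ i ≠ a ^ q ^ j ∧ (a ^ q ^ i)⁻¹ ≠ a ^ q ^ j := by
      intro i j hij hje
      refine ⟨fun h => hmin (j - i) (by omega) ⟨by omega, Or.inl (hinjn i ?_)⟩,
        fun h => hmin (j - i) (by omega) ⟨by omega, Or.inr (hinjn i ?_)⟩⟩
      · simp only
        rw [← pow_mul, ← pow_add, Nat.sub_add_cancel hij.le]; exact h.symm
      · simp only
        rw [← pow_mul, ← pow_add, Nat.sub_add_cancel hij.le, inv_pow]; exact h.symm
    have hginj : Function.Injective g := by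
      rintro ⟨i, s⟩ ⟨j, t⟩ h
      rcases lt_trichotomy (i : ℕ) (j : ℕ) with hij | hij | hij
      · obtain ⟨h1, h2⟩ := hlt _ _ hij j.2
        cases s <;> cases t <;> simp [g] at h
        · exact absurd h h1
        · exact absurd (inv_eq_iff_eq_inv.2 h) h2
        · exact absurd h h2
        · exact absurd h h1
      · obtain rfl := Fin.ext hij
        have hne : a ^ q ^ (i : ℕ) ≠ (a ^ q ^ (i : ℕ))⁻¹ := fun h' => by
          have h1 := inv_of_char_two h' (pow_ne_zero _ ha0)
          exact ha1 (hinjn i (by simpa using h1))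
        cases s <;> cases t <;> simp [g] at h ⊢
        · exact absurd h hne
        · exact absurd h.symm hne
      · obtain ⟨h1, h2⟩ := hlt _ _ hij i.2
        cases s <;> cases t <;> simp [g] at h
        · exact absurd h.symm h1
        · exact absurd h.symm h2
        · exact absurd (inv_eq_iff_eq_inv.2 h.symm) h2
        · exact absurd h.symm h1
    have hT : ∀ b ∈ Finset.univ.image g, S.count b = S.count a ∧ b ≠ 1 ∧
        ∀ e', (R e' b ↔ R e' a) ∧ (b ^ q ^ e' = b ↔ a ^ q ^ e' = a) := by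
      intro b hb
      obtain ⟨⟨i, s⟩, -, rfl⟩ := Finset.mem_image.1 hb
      have hc : ∀ e', (a ^ q ^ (i : ℕ)) ^ q ^ e' = (a ^ q ^ e') ^ q ^ (i : ℕ) := fun e' => pow_right_comm _ _ _
      have h1 : a ^ q ^ (i : ℕ) ≠ 1 := fun h => ha1 (hinjn i (by simpa using h))
      cases s
      · refine ⟨hiter _ _, h1, fun e' => ⟨?_, ?_⟩⟩
        · simp only [R, g, cond_false, hc, ← inv_pow]
          exact or_congr (hinjn i).eq_iff (hinjn i).eq_iff
        · simp only [g, cond_false, hc]
          exact (hinjn i).eq_iff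
      · refine ⟨by simp only [g, cond_true, hinv, hiter], fun h => h1 (inv_eq_one.1 h), fun e' => ⟨?_, ?_⟩⟩
        · simp only [R, g, cond_true, inv_pow, hc, inv_inj]
          rw [← inv_pow]
          exact or_congr (hinjn i).eq_iff (hinjn i).eq_iff
        · simp only [g, cond_true, inv_pow, hc, inv_inj]
          exact (hinjn i).eq_iff
    have hTc : (Finset.univ.image g).card = 2 * e := by
      rw [Finset.card_image_of_injective _ hginj]; simp [mul_comm]
    refine ⟨e, he1, ?_, hR, _, hTc, hT⟩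
    have hsub : Finset.univ.image g ⊆ S.toFinset := fun b hb => Multiset.mem_toFinset.2 (Multiset.count_pos.1 (by
      rw [(hT b hb).1]; exact Multiset.count_pos.2 ha))
    have := (Finset.card_le_card hsub).trans (Multiset.toFinset_card_le S)
    omega
  -- the type of an element
  let ty : K → Option (Fin 8) := fun a =>
    if a = 1 then none else
    if a ^ q ^ 1 = a then some 0 else if R 1 a then some 1 else
    if a ^ q ^ 2 = a then some 2 else if R 2 a then some 3 else
    if a ^ q ^ 3 = a then some 4 else if R 3 a then some 5 else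
    if a ^ q ^ 4 = a then some 6 else some 7
  have hty : ∀ a ∈ S, a ≠ 1 → ∃ t : Fin 8, ty a = some t ∧ a ^ typeExp q t = 1 ∧
      typeDeg t * (2 * S.count a) ≤ (S.filter fun b => ty b = some t).card := by
    intro a ha ha1
    obtain ⟨e, he1, he4, hR, T, hTc, hT⟩ := hgood a ha ha1
    have ha0 := h0 a ha
    obtain ⟨t, ht⟩ : ∃ t, ty a = some t := by
      simp only [ty, if_neg ha1]; split_ifs <;> exact ⟨_, rfl⟩
    have hsame : ∀ b ∈ T, ty b = some t := fun b hb => by
      obtain ⟨-, hb1, hb'⟩ := hT b hb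
      rw [← ht]
      simp only [ty, if_neg hb1, if_neg ha1, (hb' 1).1, (hb' 1).2, (hb' 2).1, (hb' 2).2, (hb' 3).1, (hb' 3).2,
        (hb' 4).2]
    have hexp : ∀ n : ℕ, a ^ q ^ n = a → a ^ (q ^ n - 1) = 1 := fun n h => by
      rcases Nat.eq_zero_or_pos (q ^ n) with h' | h'
      · rw [h']; simp
      · refine mul_right_cancel₀ ha0 ?_
        rw [one_mul, ← pow_succ, Nat.sub_add_cancel h', h]
    have hexp' : ∀ n : ℕ, a ^ q ^ n = a⁻¹ → a ^ (q ^ n + 1) = 1 := fun n h => by
      rw [pow_succ, h, inv_mul_cancel₀ ha0]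
    have hle : typeDeg t ≤ e ∧ a ^ typeExp q t = 1 := by
      simp only [ty, if_neg ha1] at ht
      split_ifs at ht with c1 c2 c3 c4 c5 c6 c7 <;> cases ht
      · exact ⟨he1, by simpa [typeExp] using hexp 1 c1⟩
      · exact ⟨he1, by simpa [typeExp] using hexp' 1 (c2.resolve_left c1)⟩
      · have : e ≠ 1 := fun h => c2 (h ▸ hR)
        exact ⟨by simp [typeDeg]; omega, by simpa [typeExp] using hexp 2 c3⟩
      · have : e ≠ 1 := fun h => c2 (h ▸ hR)
        exact ⟨by simp [typeDeg]; omega, by simpa [typeExp] using hexp' 2 (c4.resolve_left c3)⟩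
      · have h1 : e ≠ 1 := fun h => c2 (h ▸ hR)
        have h2 : e ≠ 2 := fun h => c4 (h ▸ hR)
        exact ⟨by simp [typeDeg]; omega, by simpa [typeExp] using hexp 3 c5⟩
      · have h1 : e ≠ 1 := fun h => c2 (h ▸ hR)
        have h2 : e ≠ 2 := fun h => c4 (h ▸ hR)
        exact ⟨by simp [typeDeg]; omega, by simpa [typeExp] using hexp' 3 (c6.resolve_left c5)⟩
      · have h1 : e ≠ 1 := fun h => c2 (h ▸ hR)
        have h2 : e ≠ 2 := fun h => c4 (h ▸ hR)
        have h3 : e ≠ 3 := fun h => c6 (h ▸ hR)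
        exact ⟨by simp [typeDeg]; omega, by simpa [typeExp] using hexp 4 c7⟩
      · have h1 : e ≠ 1 := fun h => c2 (h ▸ hR)
        have h2 : e ≠ 2 := fun h => c4 (h ▸ hR)
        have h3 : e ≠ 3 := fun h => c6 (h ▸ hR)
        obtain rfl : e = 4 := by omega
        exact ⟨by simp [typeDeg], by simpa [typeExp] using hexp' 4 (hR.resolve_left c7)⟩
    refine ⟨t, ht, hle.2, ?_⟩
    have h1 : ∑ b ∈ T, (S.filter fun b => ty b = some t).count b = T.card * S.count a := by
      rw [Finset.sum_congr rfl fun b hb => by rw [Multiset.count_filter, if_pos (hsame b hb), (hT b hb).1],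
        Finset.sum_const, smul_eq_mul]
    have h2 : ∑ b ∈ T, (S.filter fun b => ty b = some t).count b ≤ (S.filter fun b => ty b = some t).card := by
      refine le_trans ?_ (Multiset.sum_count_eq_card (s := T ∪ (S.filter fun b => ty b = some t).toFinset)
        (fun b hb => Finset.mem_union_right _ (Multiset.mem_toFinset.2 hb))).le
      exact Finset.sum_le_sum_of_subset Finset.subset_union_left
    rw [h1, hTc] at h2
    calc typeDeg t * (2 * S.count a) ≤ e * (2 * S.count a) := Nat.mul_le_mul_right _ hle.1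
      _ = 2 * e * S.count a := by ring
      _ ≤ _ := h2
  let n : Option (Fin 8) → ℕ := fun o => (S.filter fun b => ty b = o).card
  have hsum : n none + ∑ t, n (some t) ≤ 8 := by
    have h1 := Multiset.toFinset_sum_count_eq (S.map ty)
    rw [Multiset.card_map] at h1
    have h2 : ∀ o, (S.map ty).count o = n o := fun o => by
      rw [Multiset.count_map]; exact congrArg _ (Multiset.filter_congr fun b _ => eq_comm)
    have h3 : ∑ o : Option (Fin 8), (S.map ty).count o = Multiset.card S := by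
      rw [← h1]
      refine (Finset.sum_subset (Finset.subset_univ _) fun o _ ho => ?_).symm
      exact Multiset.count_eq_zero.2 fun h => ho (Multiset.mem_toFinset.2 h)
    rw [Fintype.sum_option, Finset.sum_congr rfl fun t _ => h2 (some t), h2] at h3
    omega
  let f : Fin 8 → ℕ := fun t => n (some t) / (2 * typeDeg t)
  have hf : 2 * ∑ t, typeDeg t * f t ≤ ∑ t, n (some t) := by
    rw [Finset.mul_sum]
    refine Finset.sum_le_sum fun t _ => ?_
    rw [← mul_assoc]
    exact Nat.mul_div_le _ _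
  obtain ⟨i, hi, hcov⟩ := cover f (by omega)
  refine ⟨i, fun a ha => ?_⟩
  by_cases ha1 : a = 1
  · subst ha1
    refine ⟨one_pow _, ?_⟩
    have h1 : S.count 1 ≤ n none := by
      refine le_trans (le_of_eq ?_) (Multiset.count_le_card 1 _)
      rw [Multiset.count_filter, if_pos (by simp [ty])]
    omega
  · obtain ⟨t, ht, hexp, hcount⟩ := hty a ha ha1
    have hpos : 0 < typeDeg t := by fin_cases t <;> decide
    have hft : S.count a ≤ f t := (Nat.le_div_iff_mul_le (by omega)).2 (by
      calc S.count a * (2 * typeDeg t) = typeDeg t * (2 * S.count a) := by ring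
        _ ≤ _ := hcount)
    have hc : 0 < S.count a := Multiset.count_pos.2 ha
    obtain ⟨h1, h2⟩ := hcov t (by omega)
    obtain ⟨d, hd⟩ := typeExp_dvd q i t h2
    exact ⟨by rw [hd, pow_mul, hexp, one_pow], by omega⟩

/-- A self-reciprocal polynomial of degree eight divides one of the `X ^ N - 1`. -/
theorem exists_dvd (P : F[X]) (hm : P.Monic) (hd : P.natDegree = 8) (hr : P.reverse = P) :
    ∃ i, P ∣ X ^ maxOrd (Fintype.card F) i - 1 := by
  classical
  haveI : Fact (Nat.Prime 2) := ⟨Nat.prime_two⟩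
  let L := AlgebraicClosure F
  let φ : F →+* L := algebraMap F L
  haveI : CharP L 2 := charP_of_injective_algebraMap φ.injective 2
  obtain ⟨m, -, hq⟩ := FiniteField.card F 2
  have hsplit : (P.map φ).Splits := IsAlgClosed.splits _
  have hP0 : P.coeff 0 = 1 := by
    conv_lhs => rw [← hr]
    rw [coeff_zero_reverse, hm.leadingCoeff]
  have hm' : (P.map φ).Monic := hm.map φ
  let S := (P.map φ).roots
  have hcard : Multiset.card S = 8 := by
    rw [← hd, ← natDegree_map_eq_of_injective φ.injective P]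
    exact hsplit.natDegree_eq_card_roots.symm
  have hinj : Function.Injective fun a : L => a ^ Fintype.card F := by
    simp only [hq, ← iterateFrobenius_def]
    exact (iterateFrobenius L 2 (m : ℕ)).injective
  have h0 : ∀ a ∈ S, a ≠ 0 := fun a ha h => by
    rw [h, mem_roots hm'.ne_zero, IsRoot, ← coeff_zero_eq_eval_zero, coeff_map, hP0, map_one] at ha
    exact one_ne_zero ha
  -- Frobenius
  have hfrob : S.map (iterateFrobenius L 2 (m : ℕ)) = S := by
    rw [← hsplit.roots_map, Polynomial.map_map]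
    congr 2
    ext c
    show iterateFrobenius L 2 (m : ℕ) (φ c) = φ c
    rw [iterateFrobenius_def, ← map_pow, ← hq, FiniteField.pow_card]
  -- inversion
  have hinvm : S.map (fun a => a⁻¹) = S := by
    have hprod := hsplit.eq_prod_roots_of_monic hm'
    have hrev : (P.map φ).reverse = P.map φ := by
      have h1 : (P.map φ).natDegree = P.natDegree := natDegree_map_eq_of_injective φ.injective P
      rw [reverse, h1, reflect_map]; exact congrArg (Polynomial.map φ) hr
    have key : ∀ T : Multiset L, (∀ a ∈ T, a ≠ 0) →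
        ((T.map fun a => X - C a).prod).reverse =
          C ((T.map fun a => -a).prod) * ((T.map fun a => a⁻¹).map fun a => X - C a).prod := by
      intro T
      induction T using Multiset.induction with
      | empty => intro _; simpa using reverse_C (1 : L)
      | cons a T ih =>
        intro hT
        have ha : a ≠ 0 := hT a (Multiset.mem_cons_self _ _)
        simp only [Multiset.map_cons, Multiset.prod_cons, reverse_mul_of_domain,
          ih fun b hb => hT b (Multiset.mem_cons_of_mem hb)]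
        have h1 : (X - C a : L[X]).reverse = C (-a) * (X - C a⁻¹) := by
          rw [reverse, natDegree_X_sub_C, reflect_sub, reflect_C]
          rw [show reflect 1 (X : L[X]) = 1 by simpa using reflect_monomial (R := L) 1 1]
          rw [mul_sub, ← C_mul, neg_mul, mul_inv_cancel₀ ha, map_neg, map_neg, map_one]
          ring
        rw [h1, map_mul]; ring
    have h1 := congrArg Polynomial.reverse hprod
    rw [hrev, key _ h0] at h1
    have h2 := congrArg Polynomial.roots h1
    have hne : (S.map fun a => -a).prod ≠ 0 := by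
      rw [Ne, Multiset.prod_eq_zero_iff, Multiset.mem_map]
      rintro ⟨a, ha, h⟩
      exact h0 a ha (neg_eq_zero.1 h)
    rw [roots_C_mul _ hne, roots_multiset_prod_X_sub_C] at h2
    exact h2.symm
  obtain ⟨i, hi⟩ := exists_entry (Fintype.card F) hinj S hcard.le h0
    (fun a => by
      conv_lhs => rw [← hfrob, hq, ← iterateFrobenius_def]
      exact Multiset.count_map_eq_count' _ _ (iterateFrobenius L 2 (m : ℕ)).injective a)
    (fun a => by
      conv_lhs => rw [← hinvm]
      exact Multiset.count_map_eq_count' _ _ inv_injective a)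
  refine ⟨i, (map_dvd_map φ φ.injective hm).1 ?_⟩
  rw [Polynomial.map_sub, Polynomial.map_pow, map_X, Polynomial.map_one, hsplit.eq_prod_roots_of_monic hm',
    maxOrd, mul_comm, pow_mul,
    show ((X : L[X]) ^ oddPart (Fintype.card F) i) ^ 2 ^ twoPart i - 1 =
      (X ^ oddPart (Fintype.card F) i - 1) ^ 2 ^ twoPart i by
        rw [sub_pow_char_pow, one_pow]]
  have hpos : 0 < oddPart (Fintype.card F) i := by
    have h2 : 2 ≤ Fintype.card F := Fintype.one_lt_card
    have h22 : 1 < Fintype.card F ^ 2 := Nat.one_lt_pow (by norm_num) (by omega)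
    have h23 : 1 < Fintype.card F ^ 3 := Nat.one_lt_pow (by norm_num) (by omega)
    have h24 : 1 < Fintype.card F ^ 4 := Nat.one_lt_pow (by norm_num) (by omega)
    fin_cases i <;> simp [oddPart] <;> omega
  refine (Multiset.prod_X_sub_C_dvd_iff_le_roots ?_ _).2 (Multiset.le_iff_count.2 fun a => ?_)
  · refine pow_ne_zero _ ?_
    simpa using (monic_X_pow_sub_C (1 : L) hpos.ne').ne_zero
  by_cases ha : a ∈ S
  · obtain ⟨h1, h2⟩ := hi a ha
    refine h2.trans ?_
    rw [roots_pow, Multiset.count_nsmul]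
    refine Nat.le_mul_of_pos_right _ (Multiset.count_pos.2 ?_)
    rw [mem_roots (by simpa using (monic_X_pow_sub_C (1 : L) hpos.ne').ne_zero)]
    simp [h1]
  · rw [Multiset.count_eq_zero.2 ha]; exact Nat.zero_le _

end Roots

end CfsgLib.MaxSub.SpecEight
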