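import Mathlib
import Cfsg.Agent.Lib.MaxSub.SpecEightCover
import Cfsg.Agent.Lib.Classical.InvTwoOmega
import Cfsg.Agent.Lib.KnownC.OrthPrimeOrder

/-!
Characteristic two: the parity of `rank (g - 1)` is the Dickson invariant; powers and power sums of isometries of
eight-dimensional spaces at the maximal orders.
-/

set_option autoImplicit false
set_option linter.unusedSectionVars false

namespace CfsgLib.MaxSub.SpecEight

open Matrix Polynomial CfsgLib.Geom CfsgLib.KnownC CfsgLib.Classical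
open QuadraticMap (polar)

variable {F : Type*} [Field F] {ι : Type} [Fintype ι] [DecidableEq ι] {Q : QuadraticForm F (ι → F)}

/-- Two independent fixed vectors: a proper divisor of the characteristic polynomial annihilates. -/
theorem exists_annihilator (A : Matrix ι ι F) {c d : ι → F} (hcd : ∀ s t : F, s • c + t • d = 0 → s = 0 ∧ t = 0)
    (hc : A *ᵥ c = c) (hd : A *ᵥ d = d) :
    ∃ P : F[X], A.charpoly = (X - C 1) * P ∧ aeval A P = 0 := by
  have hadj : adjugate (1 - A) = 0 := by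
    ext i j
    rw [adjugate_apply, Matrix.zero_apply, ← exists_mulVec_eq_zero_iff]
    obtain ⟨s, t, hst, h0⟩ : ∃ s t : F, (s ≠ 0 ∨ t ≠ 0) ∧ s * c i + t * d i = 0 := by
      by_cases h : c i = 0
      · exact ⟨1, 0, Or.inl one_ne_zero, by simp [h]⟩
      · exact ⟨-d i, c i, Or.inr h, by ring⟩
    refine ⟨s • c + t • d, fun h => by obtain ⟨rfl, rfl⟩ := hcd s t h; simp at hst, ?_⟩
    funext k
    by_cases hk : k = j
    · subst hk
      simp [mulVec, Matrix.updateRow_self, h0]
    · rw [mulVec, Matrix.updateRow_ne hk]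
      show ((1 - A) *ᵥ (s • c + t • d)) k = 0
      rw [sub_mulVec, one_mulVec, mulVec_add, mulVec_smul, mulVec_smul, hc, hd, sub_self]
      rfl
  have hdvd : ∀ i j, X - C 1 ∣ adjugate (charmatrix A) i j := by
    intro i j
    rw [dvd_iff_isRoot]
    have h1 := RingHom.map_adjugate (evalRingHom (1 : F)) (charmatrix A)
    have h2 : (evalRingHom (1 : F)).mapMatrix (charmatrix A) = 1 - A := by
      ext k l
      by_cases hkl : k = l
      · subst hkl; simp [charmatrix_apply_eq]
      · simp [charmatrix_apply_ne _ _ _ hkl, hkl]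
    rw [h2, hadj] at h1
    exact congrFun (congrFun h1 i) j
  choose D hD using hdvd
  obtain ⟨P, hP⟩ : X - C 1 ∣ A.charpoly := by
    rw [dvd_iff_isRoot, IsRoot, Matrix.eval_charpoly, scalar_apply, Matrix.diagonal_one, ← exists_mulVec_eq_zero_iff]
    refine ⟨c, fun h => ?_, by rw [sub_mulVec, one_mulVec, hc, sub_self]⟩
    exact one_ne_zero (hcd 1 0 (by simp [h])).1
  refine ⟨P, hP, ?_⟩
  have h : P • (1 : Matrix ι ι F[X]) = Matrix.of D * charmatrix A := by
    ext1 i j
    refine mul_left_cancel₀ (X_sub_C_ne_zero (1 : F)) ?_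
    have h3 : (A.charpoly • (1 : Matrix ι ι F[X])) i j = (adjugate (charmatrix A) * charmatrix A) i j := by
      rw [adjugate_mul]; rfl
    rw [hP, Matrix.mul_apply] at h3
    rw [Matrix.mul_apply, Finset.mul_sum]
    simp only [Matrix.smul_apply, smul_eq_mul, Matrix.of_apply] at h3 ⊢
    rw [← mul_assoc, h3]
    exact Finset.sum_congr rfl fun k _ => by rw [hD, mul_assoc]
  apply_fun matPolyEquiv at h
  simp only [map_mul, matPolyEquiv_charmatrix] at h
  apply_fun fun p => p.eval A at h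
  rw [eval_mul_X_sub_C, matPolyEquiv_smul_one, eval_map] at h
  exact h

variable [Fintype F] [CharP F 2]

/-- The Dickson invariant is the parity of `rank (g - 1)`. -/
theorem parity (hQ : ∀ x, (∀ y, polar Q x y = 0) → x = 0)
    (hex : (∃ t : F, t ≠ 0 ∧ t ≠ 1) ∨ Module.finrank F (ι → F) ≠ 4) {m : ℕ} (hdim : Fintype.card ι = 2 * m)
    (g : Cfsg.isometryGroup F (⇑Q)) :
    (spinorHom Q hQ hex g).1 = Multiplicative.ofAdd ((g.1.1 - 1 : Matrix ι ι F).rank : ZMod 2) := by
  have h2 : (2 : F) = 0 := CharTwo.two_eq_zero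
  induction hn : (g.1.1 - 1 : Matrix ι ι F).rank using Nat.strong_induction_on generalizing g with
  | _ n ih =>
    by_cases hs : ∃ x, Q (g.1.1 *ᵥ x - x) ≠ 0
    · obtain ⟨x, hx⟩ := hs
      have hgx : Q x = Q (g.1.1 *ᵥ x) := (g.2 x x).symm
      set r := reflIsom Q (g.1.1 *ᵥ x - x) hx with hr
      have hrx : r.1.1 *ᵥ (g.1.1 *ᵥ x) = x := by
        have h1 : reflEquiv Q (g.1.1 *ᵥ x - x) hx x = g.1.1 *ᵥ x := reflEquiv_sub Q hgx hx
        rw [hr, reflIsom_mulVec, ← reflEquiv_apply Q (g.1.1 *ᵥ x - x) hx]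
        have h3 := DFunLike.congr_fun (reflEquiv_mul_self Q (g.1.1 *ᵥ x - x) hx) x
        rw [LinearEquiv.mul_apply, h1] at h3
        exact h3
      have hfix : ∀ z, g.1.1 *ᵥ z = z → (r * g).1.1 *ᵥ z = z := fun z hz => by
        have hp : polar Q (g.1.1 *ᵥ x - x) z = 0 := by
          rw [QuadraticMap.polar_sub_left, sub_eq_zero]
          have := polar_quadIsom (InvTwo.qIsom_mem g) x z
          rw [InvTwo.qIsom_apply, InvTwo.qIsom_apply, hz] at this
          exact this
        rw [Subgroup.coe_mul, Units.val_mul, ← Matrix.mulVec_mulVec, hz, hr, reflIsom_mulVec, hp, mul_zero,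
          zero_smul, sub_zero]
      have hle : (g.1.1 - 1 : Matrix ι ι F).rank ≤ ((r * g).1.1 - 1 : Matrix ι ι F).rank + 1 := by
        have hsub : LinearMap.range (g.1.1 - 1 : Matrix ι ι F).mulVecLin ≤
            LinearMap.range ((r * g).1.1 - 1 : Matrix ι ι F).mulVecLin ⊔ Submodule.span F {g.1.1 *ᵥ x - x} := by
          rintro _ ⟨y, rfl⟩
          simp only [Matrix.mulVecLin_apply, Matrix.sub_mulVec, Matrix.one_mulVec, Subgroup.coe_mul, Units.val_mul,
            ← Matrix.mulVec_mulVec]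
          refine Submodule.mem_sup.2 ⟨r.1.1 *ᵥ (g.1.1 *ᵥ y) - y, ⟨y, by
            simp [Matrix.sub_mulVec, ← Matrix.mulVec_mulVec]⟩, _, Submodule.mem_span_singleton.2
              ⟨(Q (g.1.1 *ᵥ x - x))⁻¹ * polar Q (g.1.1 *ᵥ x - x) (g.1.1 *ᵥ y), rfl⟩, ?_⟩
          rw [hr, reflIsom_mulVec]; abel
        calc (g.1.1 - 1 : Matrix ι ι F).rank ≤ _ := Submodule.finrank_mono hsub
          _ ≤ _ := (Submodule.finrank_add_le_finrank_add_finrank _ _).trans
              (Nat.add_le_add_left ((finrank_span_le_card _).trans (by simp)) _)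
      have hlt : ((r * g).1.1 - 1 : Matrix ι ι F).rank < (g.1.1 - 1 : Matrix ι ι F).rank := by
        have hk : LinearMap.ker (g.1.1 - 1 : Matrix ι ι F).mulVecLin <
            LinearMap.ker ((r * g).1.1 - 1 : Matrix ι ι F).mulVecLin := by
          refine lt_of_le_of_ne (fun z hz => ?_) fun he => ?_
          · simp only [LinearMap.mem_ker, Matrix.mulVecLin_apply, Matrix.sub_mulVec, Matrix.one_mulVec,
              sub_eq_zero] at hz ⊢
            exact hfix z hz
          · have hxm : x ∈ LinearMap.ker (g.1.1 - 1 : Matrix ι ι F).mulVecLin := by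
              rw [he]
              simp [Matrix.sub_mulVec, ← Matrix.mulVec_mulVec, hrx]
            simp only [LinearMap.mem_ker, Matrix.mulVecLin_apply, Matrix.sub_mulVec, Matrix.one_mulVec] at hxm
            exact hx (by rw [hxm, map_zero])
        have h3 := Submodule.finrank_lt_finrank_of_lt hk
        have h4 := (g.1.1 - 1 : Matrix ι ι F).mulVecLin.finrank_range_add_finrank_ker
        have h5 := ((r * g).1.1 - 1 : Matrix ι ι F).mulVecLin.finrank_range_add_finrank_ker
        rw [Matrix.rank, Matrix.rank]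
        omega
      have hih := ih _ (hn ▸ hlt) (r * g) rfl
      rw [map_mul, Prod.fst_mul, hr, spinorHom_reflIsom] at hih
      have h6 := congrArg (Multiplicative.ofAdd (1 : ZMod 2) * ·) hih
      simp only [← mul_assoc, zmodTwo_ofAdd_mul, one_mul] at h6
      rw [h6, ← ofAdd_add, show n = ((r * g).1.1 - 1 : Matrix ι ι F).rank + 1 by omega, ← hr]
      push_cast
      rw [add_comm]
    · push Not at hs
      have hB : ∀ a b, polar Q (g.1.1 *ᵥ a - a) (g.1.1 *ᵥ b - b) = 0 := fun a b => by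
        have := hs (a + b)
        rw [Matrix.mulVec_add, add_sub_add_comm, QuadraticMap.map_add Q, hs, hs, zero_add, zero_add] at this
        exact this
      have hpol : ∀ a b, polar Q (g.1.1 *ᵥ a) (g.1.1 *ᵥ b) = polar Q a b := fun a b => by
        have := polar_quadIsom (InvTwo.qIsom_mem g) a b
        rwa [InvTwo.qIsom_apply, InvTwo.qIsom_apply] at this
      have hg2 : g ^ 2 = 1 := by
        refine Subtype.ext (Units.ext (Matrix.ext_iff_mulVec.2 fun b => ?_))
        rw [sq, Subgroup.coe_mul, Units.val_mul, ← Matrix.mulVec_mulVec]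
        show _ = (1 : Matrix ι ι F) *ᵥ b
        rw [Matrix.one_mulVec]
        refine sub_eq_zero.1 (hQ _ fun y => ?_)
        obtain ⟨a, rfl⟩ : ∃ a, g.1.1 *ᵥ a = y := ⟨g.1⁻¹.1 *ᵥ y, by
          rw [Matrix.mulVec_mulVec, ← Units.val_mul, mul_inv_cancel, Units.val_one, Matrix.one_mulVec]⟩
        have h7 := hB b a
        simp only [QuadraticMap.polar_sub_left, QuadraticMap.polar_sub_right, hpol] at h7
        rw [QuadraticMap.polar_sub_left, hpol]
        linear_combination -h7 + (polar Q b a - polar Q b (g.1.1 *ᵥ a)) * h2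
      rw [← hn]
      exact InvTwo.parity_eq h2 hQ hex hdim g hg2

/-- An element of `Ω` has fixed space of even dimension, so never exactly one-dimensional. -/
theorem exists_two_fixed (hQ : ∀ x, (∀ y, polar Q x y = 0) → x = 0)
    (hex : (∃ t : F, t ≠ 0 ∧ t ≠ 1) ∨ Module.finrank F (ι → F) ≠ 4) {m : ℕ} (hdim : Fintype.card ι = 2 * m)
    (g : Cfsg.isometryGroup F (⇑Q)) (hg : g ∈ Cfsg.Omega F (⇑Q)) {c : ι → F} (hc0 : c ≠ 0)
    (hc : g.1.1 *ᵥ c = c) : ∃ d, g.1.1 *ᵥ d = d ∧ ∀ s t : F, s • c + t • d = 0 → s = 0 ∧ t = 0 := by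
  have hp := parity hQ hex hdim g
  rw [(mem_omega_iff_of_two CharTwo.two_eq_zero hQ hex g).1 hg] at hp
  have hev : Even ((g.1.1 - 1 : Matrix ι ι F).rank) := ZMod.natCast_eq_zero_iff_even.1 (ofAdd_eq_one.1 hp.symm)
  have h4 := (g.1.1 - 1 : Matrix ι ι F).mulVecLin.finrank_range_add_finrank_ker
  rw [Module.finrank_fintype_fun_eq_card, hdim] at h4
  change (g.1.1 - 1 : Matrix ι ι F).rank + _ = _ at h4
  have hlt : Submodule.span F {c} < LinearMap.ker (g.1.1 - 1 : Matrix ι ι F).mulVecLin := by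
    refine lt_of_le_of_ne ((Submodule.span_singleton_le_iff_mem _ _).2 ?_) fun he => ?_
    · simp [Matrix.sub_mulVec, hc]
    · rw [← he, finrank_span_singleton hc0] at h4
      obtain ⟨k, hk⟩ := hev
      omega
  obtain ⟨d, hd, hdn⟩ := SetLike.exists_of_lt hlt
  refine ⟨d, sub_eq_zero.1 (by simpa [Matrix.sub_mulVec] using hd), fun s t h => ?_⟩
  by_cases ht : t = 0
  · subst ht
    rw [zero_smul, add_zero, smul_eq_zero] at h
    exact ⟨h.resolve_right hc0, rfl⟩
  · refine absurd (Submodule.mem_span_singleton.2 ⟨-(t⁻¹ * s), ?_⟩) hdn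
    have h8 := congrArg (t⁻¹ • ·) h
    simp only [smul_add, smul_smul, inv_mul_cancel₀ ht, one_smul, smul_zero] at h8
    rw [neg_smul, neg_eq_iff_add_eq_zero]
    exact h8

/-- The characteristic polynomial of an isometry is self-reciprocal. -/
theorem charpoly_reverse (hQ : ∀ x, (∀ y, polar Q x y = 0) → x = 0) (g : Cfsg.isometryGroup F (⇑Q)) :
    g.1.1.charpoly.reverse = g.1.1.charpoly := by
  haveI : Fact (Nat.Prime 2) := ⟨Nat.prime_two⟩
  have h1 := OrthPrime.tilde_charpoly Q hQ (InvTwo.qIsom_mem g)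
  have h2 : (InvTwo.qIsom Q g).toLinearMap = Matrix.toLin' g.1.1 := LinearMap.ext fun v => by
    simp [InvTwo.qIsom_apply]
  rw [h2, Matrix.charpoly_toLin', OrthPrime.eq_id_tilde] at h1
  have h0 : g.1.1.charpoly.coeff 0 ≠ 0 := fun h => by
    rw [h, _root_.inv_zero, map_zero, zero_mul] at h1
    exact g.1.1.charpoly_monic.ne_zero h1.symm
  have h3 := congrArg (fun f : F[X] => f.coeff 0) h1
  simp only [coeff_C_mul, coeff_zero_reverse, g.1.1.charpoly_monic.leadingCoeff, mul_one] at h3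
  rw [inv_of_char_two h3.symm h0, inv_one, map_one, one_mul] at h1
  exact h1

/-- Isometries at the maximal orders. -/
theorem exists_pow (hQ : ∀ x, (∀ y, polar Q x y = 0) → x = 0) (hdim : Fintype.card ι = 8)
    (g : Cfsg.isometryGroup F (⇑Q)) :
    ∃ i, g.1.1 ^ maxOrd (Fintype.card F) i = 1 ∧
      (g ∈ Cfsg.Omega F (⇑Q) → ∑ j ∈ Finset.range (maxOrd (Fintype.card F) i), g.1.1 ^ j = 0) := by
  obtain ⟨i, hi⟩ := exists_dvd g.1.1.charpoly g.1.1.charpoly_monic
    (by rw [Matrix.charpoly_natDegree_eq_dim, hdim]) (charpoly_reverse hQ g)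
  obtain ⟨N, hN⟩ : ∃ N, N = maxOrd (Fintype.card F) i := ⟨_, rfl⟩
  rw [← hN] at hi
  have hpow : g.1.1 ^ N = 1 := by
    obtain ⟨w, hw⟩ := hi
    have h := congrArg (aeval g.1.1) hw
    rw [map_mul, Matrix.aeval_self_charpoly, zero_mul, map_sub, map_pow, aeval_X, map_one, sub_eq_zero] at h
    exact h
  refine ⟨i, hN ▸ hpow, fun hg => hN ▸ ?_⟩
  by_cases hfix : ∃ c, c ≠ 0 ∧ g.1.1 *ᵥ c = c
  · obtain ⟨c, hc0, hc⟩ := hfix
    obtain ⟨d, hd, hcd⟩ := exists_two_fixed hQ (Or.inr (by rw [Module.finrank_fintype_fun_eq_card]; omega))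
      (m := 4) (by omega) g hg hc0 hc
    obtain ⟨P, hP, hP0⟩ := exists_annihilator g.1.1 hcd hc hd
    obtain ⟨w, hw⟩ := hi
    have h1 : (X - C 1 : F[X]) * ∑ j ∈ Finset.range N, X ^ j = (X - C 1) * (P * w) := by
      rw [← mul_assoc, ← hP, ← hw, map_one, mul_geom_sum]
    have h := congrArg (aeval g.1.1) (mul_left_cancel₀ (X_sub_C_ne_zero (1 : F)) h1)
    simpa [hP0] using h
  · push Not at hfix
    have hinj : Function.Injective (g.1.1 - 1 : Matrix ι ι F).mulVec := fun u v huv => by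
      by_contra hne
      refine hfix (u - v) (sub_ne_zero.2 hne) ?_
      simp only [Matrix.sub_mulVec, Matrix.one_mulVec, sub_eq_sub_iff_sub_eq_sub] at huv
      rw [Matrix.mulVec_sub]; exact huv
    have hu := Matrix.mulVec_injective_iff_isUnit.1 hinj
    refine hu.mul_left_cancel ?_
    rw [mul_geom_sum, hpow, sub_self, mul_zero]

end CfsgLib.MaxSub.SpecEight
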