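import Mathlib
import Cfsg.Agent.Lib.MaxSub.SpecEightFix
import Cfsg.Agent.Lib.Classical.StdQuad
import Cfsg.Agent.Lib.KnownB.ClassicalEmbed
import Cfsg.Agent.Lib.KnownC.OrthTypeTools

/-!
Building blocks of orthogonal groups in characteristic two: orthogonal sums, two tori, and unipotent isometries
obtained by repeatedly adjoining a hyperbolic plane.
-/

set_option autoImplicit false
set_option linter.unusedSectionVars false

namespace CfsgLib.MaxSub.SpecEight

open CfsgLib.Geom CfsgLib.Classical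
open QuadraticMap (polar)

variable {F : Type*} [Field F] {V₁ V₂ V₃ : Type*} [AddCommGroup V₁] [Module F V₁] [AddCommGroup V₂] [Module F V₂]
  [AddCommGroup V₃] [Module F V₃]

/-! ### Sums and transport -/

/-- Orthogonal sum of isometries. -/
def sumHom (Q₁ : QuadraticForm F V₁) (Q₂ : QuadraticForm F V₂) :
    quadIsoms Q₁ × quadIsoms Q₂ →* quadIsoms (Q₁.prod Q₂) where
  toFun g := ⟨g.1.1.prodCongr g.2.1, fun v => by
    simp only [QuadraticMap.prod_apply, LinearEquiv.prodCongr_apply]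
    rw [g.1.2, g.2.2]⟩
  map_one' := rfl
  map_mul' _ _ := rfl

theorem sumHom_apply (Q₁ : QuadraticForm F V₁) (Q₂ : QuadraticForm F V₂) (g : quadIsoms Q₁ × quadIsoms Q₂)
    (v : V₁ × V₂) : (sumHom Q₁ Q₂ g).1 v = (g.1.1 v.1, g.2.1 v.2) := rfl

theorem sumHom_injective (Q₁ : QuadraticForm F V₁) (Q₂ : QuadraticForm F V₂) :
    Function.Injective (sumHom Q₁ Q₂) := fun g h e => by
  refine Prod.ext (Subtype.ext (LinearEquiv.ext fun x => ?_)) (Subtype.ext (LinearEquiv.ext fun x => ?_))
  · exact congrArg Prod.fst (DFunLike.congr_fun (congrArg Subtype.val e) (x, 0))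
  · exact congrArg Prod.snd (DFunLike.congr_fun (congrArg Subtype.val e) (0, x))

/-- Transport along an isometry. -/
def moveHom {Q : QuadraticForm F V₁} {R : QuadraticForm F V₂} (e : Q.IsometryEquiv R) :
    quadIsoms Q →* quadIsoms R where
  toFun g := ⟨e.toLinearEquiv.symm.trans (g.1.trans e.toLinearEquiv), fun v => by
    show R (e (g.1 (e.toLinearEquiv.symm v))) = R v
    rw [e.map_app, g.2]
    conv_rhs => rw [← e.toLinearEquiv.apply_symm_apply v]
    exact (e.map_app _).symm⟩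
  map_one' := Subtype.ext (LinearEquiv.ext fun v => by simp)
  map_mul' g h := Subtype.ext (LinearEquiv.ext fun v => by simp)

theorem moveHom_apply {Q : QuadraticForm F V₁} {R : QuadraticForm F V₂} (e : Q.IsometryEquiv R)
    (g : quadIsoms Q) (v : V₁) : (moveHom e g).1 (e v) = e (g.1 v) := by
  show e (g.1 (e.toLinearEquiv.symm (e.toLinearEquiv v))) = e (g.1 v)
  rw [LinearEquiv.symm_apply_apply]

theorem moveHom_injective {Q : QuadraticForm F V₁} {R : QuadraticForm F V₂} (e : Q.IsometryEquiv R) :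
    Function.Injective (moveHom e) := fun g h he => Subtype.ext (LinearEquiv.ext fun v => by
  have := DFunLike.congr_fun (congrArg Subtype.val he) (e v)
  rw [moveHom_apply, moveHom_apply] at this
  exact e.toLinearEquiv.injective this)

/-- Associativity of orthogonal sums. -/
def assoc (Q₁ : QuadraticForm F V₁) (Q₂ : QuadraticForm F V₂) (Q₃ : QuadraticForm F V₃) :
    ((Q₁.prod Q₂).prod Q₃).IsometryEquiv (Q₁.prod (Q₂.prod Q₃)) where
  toLinearEquiv := LinearEquiv.prodAssoc F V₁ V₂ V₃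
  map_app' v := by
    obtain ⟨⟨x, y⟩, z⟩ := v
    show Q₁ x + (Q₂ y + Q₃ z) = Q₁ x + Q₂ y + Q₃ z
    rw [add_assoc]

/-- `qfPlus k ⊥ qfPlus l ≅ qfPlus (k + l)`. -/
noncomputable def plusPlus (k l : ℕ) :
    ((qfPlus k F).prod (qfPlus l F)).IsometryEquiv (qfPlus (k + l) F) where
  toLinearEquiv := (LinearEquiv.sumArrowLequivProdArrow _ _ F F).symm.trans (LinearEquiv.funCongrLeft F F
    ((Equiv.sumCongr finSumFinEquiv.symm finSumFinEquiv.symm).trans (Equiv.sumSumSumComm _ _ _ _)))
  map_app' v := by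
    show qfPlus (k + l) F _ = qfPlus k F v.1 + qfPlus l F v.2
    rw [qfPlus_apply, qfPlus_apply, qfPlus_apply]
    simp only [Cfsg.quadFormPlus, Fin.sum_univ_add]
    simp [LinearEquiv.funCongrLeft_apply, LinearEquiv.sumArrowLequivProdArrow, Equiv.sumArrowEquivProdArrow]

/-- `qfPlus k ⊥ qfMinus l ≅ qfMinus (k + l)`. -/
noncomputable def plusMinus (k l : ℕ) (a b : F) :
    ((qfPlus k F).prod (qfMinus l F a b)).IsometryEquiv (qfMinus (k + l) F a b) where
  toLinearEquiv := (LinearEquiv.sumArrowLequivProdArrow _ _ F F).symm.trans (LinearEquiv.funCongrLeft F F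
    ((Equiv.sumCongr ((Equiv.sumCongr finSumFinEquiv.symm finSumFinEquiv.symm).trans (Equiv.sumSumSumComm _ _ _ _))
      (Equiv.refl _)).trans (Equiv.sumAssoc _ _ _)))
  map_app' v := by
    show qfMinus (k + l) F a b _ = qfPlus k F v.1 + qfMinus l F a b v.2
    rw [qfMinus_apply, qfPlus_apply, qfMinus_apply]
    simp only [Cfsg.quadFormMinus, Cfsg.quadFormPlus, Fin.sum_univ_add]
    simp [LinearEquiv.funCongrLeft_apply, LinearEquiv.sumArrowLequivProdArrow, Equiv.sumArrowEquivProdArrow]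
    ring

variable [CharP F 2]

/-- The hyperbolic plane. -/
noncomputable abbrev hyp (F : Type*) [Field F] : QuadraticForm F (Fin 1 ⊕ Fin 1 → F) := qfPlus 1 F

/-- The anisotropic plane. -/
noncomputable abbrev ani (F : Type*) [Field F] (a b : F) : QuadraticForm F ((Fin 0 ⊕ Fin 0) ⊕ Fin 2 → F) :=
  qfMinus 0 F a b

theorem ani_apply (a b : F) (v : (Fin 0 ⊕ Fin 0) ⊕ Fin 2 → F) :
    ani F a b v = v (.inr 0) ^ 2 + a * v (.inr 0) * v (.inr 1) + b * v (.inr 1) ^ 2 := by
  simp [ani, qfMinus_apply, Cfsg.quadFormMinus]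

/-- Two anisotropic planes form a hyperbolic space. -/
theorem exists_aniAni {a : F} (ha : a ≠ 0) (b : F) :
    Nonempty (((ani F a b).prod (ani F a b)).IsometryEquiv (qfPlus 2 F)) := by
  let f : ((Fin 0 ⊕ Fin 0) ⊕ Fin 2 → F) × ((Fin 0 ⊕ Fin 0) ⊕ Fin 2 → F) →ₗ[F] (Fin 2 ⊕ Fin 2 → F) :=
    { toFun := fun v =>
        Sum.elim ![v.1 (.inr 0) + v.2 (.inr 0), v.1 (.inr 1) + v.2 (.inr 1)]
          ![v.1 (.inr 0) + v.2 (.inr 0) + a * (v.1 (.inr 1) + v.2 (.inr 1)) + a * v.1 (.inr 1),
            b * (v.1 (.inr 1) + v.2 (.inr 1)) + a * v.1 (.inr 0)]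
      map_add' := fun u v => funext fun x => by rcases x with x | x <;> fin_cases x <;> simp <;> ring
      map_smul' := fun c v => funext fun x => by rcases x with x | x <;> fin_cases x <;> simp <;> ring }
  have hf : Function.Injective f := (injective_iff_map_eq_zero f).2 fun v hv => by
    have h0 := congrFun hv (.inl 0)
    have h1 := congrFun hv (.inl 1)
    have h2 := congrFun hv (.inr 0)
    have h3 := congrFun hv (.inr 1)
    simp [f] at h0 h1 h2 h3
    rw [h0, h1] at h2
    rw [h1] at h3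
    simp [ha] at h2 h3
    rw [h3, zero_add] at h0
    rw [h2, zero_add] at h1
    refine Prod.ext (funext fun x => ?_) (funext fun x => ?_) <;>
      rcases x with (x | x) | x <;> first | exact x.elim0 | (fin_cases x <;> simp [h0, h1, h2, h3])
  let e := LinearMap.linearEquivOfInjective f hf (by simp)
  refine ⟨{ toLinearEquiv := e, map_app' := fun v => ?_ }⟩
  show qfPlus 2 F (f v) = ani F a b v.1 + ani F a b v.2
  rw [qfPlus_apply, ani_apply, ani_apply]
  simp [Cfsg.quadFormPlus, f, Fin.sum_univ_two]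
  linear_combination ((v.1 (.inr 0)) * (v.2 (.inr 0)) + b * (v.1 (.inr 1)) * (v.2 (.inr 1)) + a * (v.1 (.inr 0)) *
    (v.1 (.inr 1)) + a * (v.1 (.inr 1)) * (v.2 (.inr 0)) + a * (v.1 (.inr 0)) * (v.2 (.inr 1))) *
      (CharTwo.two_eq_zero : (2 : F) = 0)

/-! ### The difference map -/

/-- `g + 1`. -/
def del {V : Type*} [AddCommGroup V] [Module F V] (g : V ≃ₗ[F] V) (v : V) : V := g v + v

theorem add_self_zero {V : Type*} [AddCommGroup V] [Module F V] (v : V) : v + v = 0 := by
  rw [← two_smul F v, CharTwo.two_eq_zero, zero_smul]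

theorem del_del {V : Type*} [AddCommGroup V] [Module F V] (g : V ≃ₗ[F] V) (v : V) :
    del g (del g v) = del (g * g) v := by
  simp only [del, map_add, LinearEquiv.mul_apply]
  rw [show g (g v) + g v + (g v + v) = g (g v) + v + (g v + g v) by abel, add_self_zero (F := F) (g v), add_zero]

theorem del_iterate {V : Type*} [AddCommGroup V] [Module F V] (g : V ≃ₗ[F] V) :
    ∀ (j : ℕ) (v : V), (del g)^[2 ^ j] v = del (g ^ 2 ^ j) v := by
  intro j
  induction j with
  | zero => intro v; simp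
  | succ j ih =>
    intro v
    rw [pow_succ, mul_two, Function.iterate_add_apply, ih, ih, del_del, ← pow_add]

theorem pow_eq_one_iff_del {V : Type*} [AddCommGroup V] [Module F V] (g : V ≃ₗ[F] V) (j : ℕ) :
    g ^ 2 ^ j = 1 ↔ ∀ v, (del g)^[2 ^ j] v = 0 := by
  refine ⟨fun h v => by rw [del_iterate, h]; exact add_self_zero (F := F) v, fun h => LinearEquiv.ext fun v => ?_⟩
  have h1 := h v
  rw [del_iterate] at h1
  calc (g ^ 2 ^ j) v = ((g ^ 2 ^ j) v + v) + v := by rw [add_assoc, add_self_zero (F := F) v, add_zero]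
    _ = (1 : V ≃ₗ[F] V) v := by rw [show (g ^ 2 ^ j) v + v = 0 from h1, zero_add]; rfl

/-! ### Adjoining a hyperbolic plane -/

/-- The vector with the given coordinates in the hyperbolic plane. -/
def hv (x y : F) : Fin 1 ⊕ Fin 1 → F := Sum.elim (fun _ => x) (fun _ => y)

theorem hyp_apply (p : Fin 1 ⊕ Fin 1 → F) : hyp F p = p (.inl 0) * p (.inr 0) := by
  simp [hyp, qfPlus_apply, Cfsg.quadFormPlus]

variable {V : Type*} [AddCommGroup V] [Module F V] (Q : QuadraticForm F V)

/-- The Siegel transvection attached to `w`, as a linear map. -/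
def siegelLin (w : V) : (Fin 1 ⊕ Fin 1 → F) × V →ₗ[F] (Fin 1 ⊕ Fin 1 → F) × V where
  toFun v := (hv (v.1 (.inl 0) + polar Q v.2 w + v.1 (.inr 0) * Q w) (v.1 (.inr 0)), v.2 + v.1 (.inr 0) • w)
  map_add' u v := by
    refine Prod.ext (funext fun x => ?_) ?_
    · rcases x with x | x <;> simp [hv, QuadraticMap.polar_add_left]
      ring
    · simp only [Prod.snd_add, Prod.fst_add, Pi.add_apply, add_smul]; abel
  map_smul' c v := by
    refine Prod.ext (funext fun x => ?_) ?_
    · rcases x with x | x <;> simp [hv, QuadraticMap.polar_smul_left]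
      ring
    · simp [smul_smul]

theorem polar_self_zero (w : V) : polar Q w w = 0 := by
  rw [polar_self_two, CharTwo.two_eq_zero, zero_mul]

theorem siegelLin_self (w : V) (v : (Fin 1 ⊕ Fin 1 → F) × V) : siegelLin Q w (siegelLin Q w v) = v := by
  refine Prod.ext (funext fun x => ?_) ?_
  · rcases x with x | x
    · simp [siegelLin, hv, QuadraticMap.polar_add_left, QuadraticMap.polar_smul_left, polar_self_zero,
        Subsingleton.elim x 0]
      linear_combination (polar Q v.2 w + 2 * (v.1 (.inr 0) * Q w)) * (CharTwo.two_eq_zero : (2 : F) = 0)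
    · simp [siegelLin, hv, Subsingleton.elim x 0]
  · simp [siegelLin, hv, add_assoc, add_self_zero (F := F)]

/-- The Siegel transvection attached to `w`. -/
noncomputable def siegel (w : V) : quadIsoms ((hyp F).prod Q) :=
  ⟨LinearEquiv.ofLinearMap (siegelLin Q w) (siegelLin Q w) (LinearMap.ext (siegelLin_self Q w))
    (LinearMap.ext (siegelLin_self Q w)), fun v => by
      rw [QuadraticMap.prod_apply, QuadraticMap.prod_apply, hyp_apply, hyp_apply]
      show (hv (v.1 (.inl 0) + polar Q v.2 w + v.1 (.inr 0) * Q w) (v.1 (.inr 0))) (.inl 0) *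
        (hv (v.1 (.inl 0) + polar Q v.2 w + v.1 (.inr 0) * Q w) (v.1 (.inr 0))) (.inr 0) +
          Q (v.2 + v.1 (.inr 0) • w) = _
      rw [quad_map_add_smul]
      simp only [hv, Sum.elim_inl, Sum.elim_inr]
      linear_combination (v.1 (.inr 0) * polar Q v.2 w + v.1 (.inr 0) * v.1 (.inr 0) * Q w) *
        (CharTwo.two_eq_zero : (2 : F) = 0)⟩

/-- Extension of an isometry over a hyperbolic plane. -/
noncomputable def ext (w : V) (u : quadIsoms Q) : quadIsoms ((hyp F).prod Q) :=
  siegel Q w * sumHom (hyp F) Q (1, u)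

theorem del_ext (w : V) (u : quadIsoms Q) (p : Fin 1 ⊕ Fin 1 → F) (z : V) :
    del (ext Q w u).1 (p, z) =
      (hv (polar Q (u.1 z) w + p (.inr 0) * Q w) 0, del u.1 z + p (.inr 0) • w) := by
  show siegelLin Q w (p, u.1 z) + (p, z) = _
  refine Prod.ext (funext fun x => ?_) ?_
  · rcases x with x | x <;> simp [siegelLin, hv, Subsingleton.elim x 0]
    · linear_combination (p (.inl 0)) * (CharTwo.two_eq_zero : (2 : F) = 0)
    · exact CharTwo.add_self_eq_zero _
  · simp only [siegelLin, del, LinearMap.coe_mk, AddHom.coe_mk, Prod.snd_add]; abel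

theorem del_ext_succ (w : V) (u : quadIsoms Q) (α : F) (z : V) :
    ∀ k : ℕ, (del (ext Q w u).1)^[k + 1] (hv α 0, z) =
      (hv (polar Q (u.1 ((del u.1)^[k] z)) w) 0, (del u.1)^[k + 1] z) := by
  intro k
  induction k with
  | zero => simp [del_ext, hv]
  | succ k ih =>
    rw [Function.iterate_succ_apply', ih, del_ext]
    simp [hv, Function.iterate_succ_apply']

theorem del_ext_f (w : V) (u : quadIsoms Q) (k : ℕ) :
    (del (ext Q w u).1)^[k + 2] (hv 0 1, 0) = (hv (polar Q (u.1 ((del u.1)^[k] w)) w) 0, (del u.1)^[k + 1] w) := by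
  rw [show k + 2 = (k + 1) + 1 from rfl, Function.iterate_succ_apply, del_ext]
  simp only [hv, Sum.elim_inr, one_mul, map_zero, QuadraticMap.polar_zero_left, zero_add, del, one_smul]
  exact del_ext_succ Q w u (Q w) w k

theorem del_ext_nil (w : V) (u : quadIsoms Q) {m : ℕ} (hm : ∀ z, (del u.1)^[m] z = 0) :
    ∀ v, (del (ext Q w u).1)^[m + 2] v = 0 := by
  rintro ⟨p, z⟩
  rw [show m + 2 = (m + 1) + 1 from rfl, Function.iterate_succ_apply, del_ext, del_ext_succ,
    Function.iterate_succ_apply', hm]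
  simp [hv, del]
  exact funext fun x => by rcases x with x | x <;> rfl

theorem del_refl {c : V} (hc : Q c ≠ 0) (z : V) : del (reflEquiv Q c hc) z = ((Q c)⁻¹ * polar Q c z) • c := by
  rw [del, reflEquiv_apply, sub_eq_add_neg, ← neg_smul, CharTwo.neg_eq]
  rw [show z + ((Q c)⁻¹ * polar Q c z) • c + z = ((Q c)⁻¹ * polar Q c z) • c + (z + z) by abel,
    add_self_zero (F := F) z, add_zero]

theorem reflEquiv_self_two {c : V} (hc : Q c ≠ 0) : reflEquiv Q c hc c = c := by
  rw [reflEquiv_self]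
  exact neg_eq_iff_add_eq_zero.2 (add_self_zero (F := F) c)

/-- One step: an isometry with `(g + 1) ^ 3 ≠ 0` and `(g + 1) ^ 4 = 0`. -/
theorem exists_four (hc : ∃ c w, Q c ≠ 0 ∧ polar Q c w ≠ 0) :
    ∃ (g : quadIsoms ((hyp F).prod Q)) (v : (Fin 1 ⊕ Fin 1 → F) × V), g ^ 4 = 1 ∧ (del g.1)^[3] v ≠ 0 := by
  obtain ⟨c, w, hc, hcw⟩ := hc
  set r : quadIsoms Q := ⟨reflEquiv Q c hc, reflEquiv_mem Q c hc⟩ with hr
  have h2 : ∀ z, (del r.1)^[2] z = 0 := fun z => by
    rw [show (2 : ℕ) = 2 ^ 1 from rfl]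
    exact (pow_eq_one_iff_del r.1 1).1 (by rw [pow_one, sq]; exact reflEquiv_mul_self Q c hc) z
  refine ⟨ext Q w r, (hv 0 1, 0), Subtype.ext ?_, ?_⟩
  · rw [SubgroupClass.coe_pow, Subgroup.coe_one, show (4 : ℕ) = 2 ^ 2 from rfl, pow_eq_one_iff_del]
    exact del_ext_nil Q w r h2
  · rw [del_ext_f Q w r 1, h2]
    intro h
    have h1 := congrFun (congrArg Prod.fst h) (.inl 0)
    simp [hv, hr, del_refl, map_smul, reflEquiv_self_two, QuadraticMap.polar_smul_left, hc, hcw] at h1

/-- Two steps: an isometry of order eight. -/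
theorem exists_eight (hc : ∃ c w, Q c ≠ 0 ∧ polar Q c w ≠ 0) :
    ∃ g : quadIsoms ((hyp F).prod ((hyp F).prod Q)), orderOf g = 8 := by
  obtain ⟨g, v, hg, hv3⟩ := exists_four Q hc
  haveI : Fact (Nat.Prime 2) := ⟨Nat.prime_two⟩
  refine ⟨ext ((hyp F).prod Q) v g, orderOf_eq_prime_pow (p := 2) (n := 2) ?_ (Subtype.ext ?_)⟩
  · intro h
    have h1 := (pow_eq_one_iff_del (ext ((hyp F).prod Q) v g).1 2).1 (by
      rw [← SubgroupClass.coe_pow, h, Subgroup.coe_one]) (hv 0 1, 0)
    rw [show (2 : ℕ) ^ 2 = 2 + 2 from rfl, del_ext_f] at h1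
    exact hv3 (congrArg Prod.snd h1)
  · rw [SubgroupClass.coe_pow, Subgroup.coe_one, pow_eq_one_iff_del]
    intro z
    have h4 : ∀ x, (del g.1)^[4] x = 0 := fun x => by
      rw [show (4 : ℕ) = 2 ^ 2 from rfl]
      exact (pow_eq_one_iff_del g.1 2).1 (by
        rw [← SubgroupClass.coe_pow, show (2 : ℕ) ^ 2 = 4 from rfl, hg, Subgroup.coe_one]) x
    rw [show (2 : ℕ) ^ (2 + 1) = 2 + (4 + 2) from rfl, Function.iterate_add_apply, del_ext_nil _ v g h4]
    simp [del]

end CfsgLib.MaxSub.SpecEight
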