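import Mathlib
import Cfsg.Agent.Lib.MaxSub.SpecEightPieces

/-!
The two kinds of cyclic tori in even-dimensional orthogonal groups over fields of characteristic two.
-/

set_option autoImplicit false
set_option linter.unusedSectionVars false

namespace CfsgLib.MaxSub.SpecEight

open CfsgLib.Geom CfsgLib.Classical CfsgLib.KnownC
open QuadraticMap (polar)

variable {F : Type*} [Field F] [Fintype F] [CharP F 2]

/-- An element of order `q ^ k - 1` in `O⁺(2k)`. -/
theorem exists_plus_torus (k : ℕ) (hk : 1 ≤ k) :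
    ∃ g : quadIsoms (qfPlus k F), orderOf g = Fintype.card F ^ k - 1 := by
  classical
  haveI : Fact (Nat.Prime 2) := ⟨Nat.prime_two⟩
  haveI : NeZero k := ⟨by omega⟩
  let K := FiniteField.Extension F 2 k
  let b := (Module.finBasis F K).reindex (finCongr (FiniteField.finrank_extension F 2 k))
  let φ : Kˣ →* GL (Fin k) F := Units.map (Algebra.leftMulMatrix b).toRingHom.toMonoidHom
  obtain ⟨γ, hγ⟩ := IsCyclic.exists_ofOrder_eq_natCard (α := Kˣ)
  have hφ : orderOf (φ γ) = Fintype.card F ^ k - 1 := by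
    rw [orderOf_injective φ (Units.map_injective (Algebra.leftMulMatrix_injective b)), hγ, Nat.card_units,
      FiniteField.natCard_extension, Nat.card_eq_fintype_card]
  have hcoe : (⇑(qfPlus k F) : (Fin k ⊕ Fin k → F) → F) = Cfsg.quadFormPlus k F := funext (qfPlus_apply k)
  refine ⟨(orEquiv (qfPlus k F)).symm (MulEquiv.subgroupCongr (by rw [hcoe]) (CfsgLib.KnownB.glOPlus k (φ γ))), ?_⟩
  rw [MulEquiv.orderOf_eq, MulEquiv.orderOf_eq, orderOf_injective _ CfsgLib.KnownB.glOPlus_injective, hφ]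

/-- An element of order `q ^ (l + 1) + 1` in `O⁻(2l + 2)`. -/
theorem exists_minus_torus (l : ℕ) {a b : F}
    (hab : ∀ z₁ z₂ : F, z₁ ^ 2 + a * z₁ * z₂ + b * z₂ ^ 2 = 0 → z₁ = 0 ∧ z₂ = 0) :
    ∃ g : quadIsoms (qfMinus l F a b), orderOf g = Fintype.card F ^ (l + 1) + 1 := by
  classical
  haveI : Fact (Nat.Prime 2) := ⟨Nat.prime_two⟩
  let K := FiniteField.Extension F 2 (2 * (l + 1))
  haveI : Fintype K := Fintype.ofFinite K
  haveI : CharP K 2 := charP_of_injective_algebraMap (algebraMap F K).injective 2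
  obtain ⟨Q₀, hQ₀⟩ : ∃ Q, Q = Fintype.card F ^ (l + 1) := ⟨_, rfl⟩
  have hK : Fintype.card K = Q₀ * Q₀ := by
    rw [← Nat.card_eq_fintype_card, FiniteField.natCard_extension, Nat.card_eq_fintype_card, hQ₀, ← pow_add,
      two_mul]
  have hQ2 : 2 ≤ Q₀ := hQ₀ ▸ Nat.one_lt_pow (Nat.succ_ne_zero l) Fintype.one_lt_card
  have heven : Even Q₀ := by
    obtain ⟨m, -, hm⟩ := FiniteField.card F 2
    rw [hQ₀, hm, ← pow_mul]
    exact Nat.even_pow.2 ⟨even_two, Nat.mul_ne_zero m.ne_zero (Nat.succ_ne_zero l)⟩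
  let σ : K ≃ₐ[F] K := (FiniteField.frobeniusAlgEquivOfAlgebraic F K) ^ (l + 1)
  have hσ : ∀ x, σ x = x ^ Q₀ := fun x => by
    rw [AlgEquiv.coe_pow, FiniteField.coe_frobeniusAlgEquivOfAlgebraic_iterate, hQ₀]
  have hσσ : ∀ x, σ (σ x) = x := fun x => by rw [hσ, hσ, ← pow_mul, ← hK, FiniteField.pow_card]
  -- an element of trace one
  obtain ⟨y, hy⟩ : ∃ y : K, y + σ y ≠ 0 := by
    by_contra h
    push Not at h
    have hfix : ∀ y : K, (Polynomial.X ^ Q₀ - Polynomial.X : Polynomial K).IsRoot y := fun y => by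
      have h1 := h y
      rw [add_eq_zero_iff_eq_neg, CharTwo.neg_eq, hσ] at h1
      simp [← h1]
    have hne : (Polynomial.X ^ Q₀ - Polynomial.X : Polynomial K) ≠ 0 :=
      FiniteField.X_pow_card_sub_X_ne_zero K (by omega)
    have h2 : Fintype.card K ≤ Q₀ := by
      calc Fintype.card K = (Finset.univ : Finset K).card := rfl
        _ ≤ (Polynomial.X ^ Q₀ - Polynomial.X : Polynomial K).roots.toFinset.card :=
          Finset.card_le_card fun z _ => Multiset.mem_toFinset.2 ((Polynomial.mem_roots hne).2 (hfix z))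
        _ ≤ _ := (Multiset.toFinset_card_le _).trans ((Polynomial.card_roots' _).trans
          (le_of_eq (FiniteField.X_pow_card_sub_X_natDegree_eq K (by omega))))
    rw [hK] at h2
    nlinarith
  obtain ⟨c, hc⟩ : ∃ c : K, c + σ c = 1 := by
    refine ⟨y / (y + σ y), ?_⟩
    rw [map_div₀, map_add, hσσ, add_comm (σ y) y, ← add_div, div_self hy]
  -- the form `Tr (c x σx)`
  let B : K →ₗ[F] K →ₗ[F] F := (Algebra.traceForm F K).compl₁₂ (LinearMap.mulLeft F c) σ.toLinearMap
  let QK : QuadraticForm F K := LinearMap.BilinMap.toQuadraticMap B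
  have hQK : ∀ x, QK x = Algebra.trace F K (c * x * σ x) := fun x => rfl
  have hpolar : ∀ x z, polar QK x z = Algebra.trace F K (x * σ z) := fun x z => by
    have h1 : Algebra.trace F K (c * z * σ x) = Algebra.trace F K (σ c * x * σ z) := by
      rw [← Algebra.trace_eq_of_algEquiv σ (c * z * σ x), show σ (c * z * σ x) = σ c * x * σ z by
        rw [map_mul, map_mul, hσσ, mul_right_comm]]
    simp only [QuadraticMap.polar, hQK, map_add, mul_add, add_mul]
    rw [show x * σ z = c * x * σ z + σ c * x * σ z by rw [← add_mul, ← add_mul, hc, one_mul], map_add, ← h1]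
    ring
  have hsep : ∀ x, (∀ z, polar QK x z = 0) → x = 0 := fun x hx => by
    refine (traceForm_nondegenerate F K).1 x fun z => ?_
    rw [Algebra.traceForm_apply, ← hσσ z, ← hpolar]
    exact hx _
  -- units of norm one
  let N : Subgroup Kˣ :=
    { carrier := {u | (u : K) * σ u = 1}
      one_mem' := by simp
      mul_mem' := fun {u v} hu hv => by
        show ((u * v : Kˣ) : K) * σ ((u * v : Kˣ) : K) = 1
        rw [Units.val_mul, map_mul, mul_mul_mul_comm, hu, hv, one_mul]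
      inv_mem' := fun {u} hu => by
        show ((u⁻¹ : Kˣ) : K) * σ ((u⁻¹ : Kˣ) : K) = 1
        rw [Units.val_inv_eq_inv_val, map_inv₀, ← mul_inv, show (u : K) * σ u = 1 from hu, inv_one] }
  let ψ : N →* quadIsoms QK :=
    { toFun := fun u => ⟨LinearEquiv.ofLinearMap (LinearMap.mulLeft F (u.1 : K)) (LinearMap.mulLeft F ((u.1⁻¹ : Kˣ) : K))
        (LinearMap.ext fun x => by simp) (LinearMap.ext fun x => by simp), fun x => by
          have hu : ((u.1 : Kˣ) : K) * σ ((u.1 : Kˣ) : K) = 1 := u.2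
          show QK ((u.1 : K) * x) = QK x
          rw [hQK, hQK, show c * ((u.1 : K) * x) * σ ((u.1 : K) * x) = c * x * σ x by
            rw [map_mul]; linear_combination (c * x * σ x) * hu]⟩
      map_one' := Subtype.ext (LinearEquiv.ext fun x => by simp)
      map_mul' := fun u v => Subtype.ext (LinearEquiv.ext fun x => by
        show ((u.1 * v.1 : Kˣ) : K) * x = (u.1 : K) * ((v.1 : K) * x)
        rw [Units.val_mul, mul_assoc]) }
  have hψ : Function.Injective ψ := fun u v h => Subtype.ext (Units.ext (by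
    have h1 := DFunLike.congr_fun (congrArg Subtype.val h) (1 : K)
    change ((u.1 : Kˣ) : K) * 1 = ((v.1 : Kˣ) : K) * 1 at h1
    simpa using h1))
  obtain ⟨γ, hγ⟩ := IsCyclic.exists_ofOrder_eq_natCard (α := Kˣ)
  rw [Nat.card_units, Nat.card_eq_fintype_card, hK] at hγ
  have hsq : Q₀ * Q₀ - 1 = (Q₀ + 1) * (Q₀ - 1) := Nat.mul_self_sub_mul_self_eq Q₀ 1
  have hu : orderOf (γ ^ (Q₀ - 1)) = Q₀ + 1 := by
    rw [orderOf_pow' γ (by omega), hγ, hsq, Nat.gcd_mul_left_left, Nat.mul_div_cancel _ (by omega)]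
  have hmem : γ ^ (Q₀ - 1) ∈ N := by
    show ((γ ^ (Q₀ - 1) : Kˣ) : K) * σ ((γ ^ (Q₀ - 1) : Kˣ) : K) = 1
    rw [hσ, ← pow_succ', ← Units.val_pow_eq_pow_val, ← hu, pow_orderOf_eq_one, Units.val_one]
  obtain ⟨u, hudef⟩ : ∃ u : N, u.1 = γ ^ (Q₀ - 1) := ⟨⟨_, hmem⟩, rfl⟩
  have huo : orderOf u = Q₀ + 1 := by rw [← Subgroup.orderOf_coe, hudef, hu]
  have hfin : Module.finrank F K = 2 * (l + 1) := FiniteField.finrank_extension F 2 _
  rcases OrthType.dichotomy QK hsep hfin with hplus | ⟨l', hl', hminus⟩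
  · exfalso
    have hz := OrthType.card_zeros_plus hplus
    rw [← hQ₀] at hz
    let t : Set (Kˣ ⧸ N) := QuotientGroup.mk '' {x : Kˣ | QK (x : K) = 0}
    have hpre : (QuotientGroup.mk : Kˣ → Kˣ ⧸ N) ⁻¹' t = {x : Kˣ | QK (x : K) = 0} := by
      ext x
      refine ⟨?_, fun h => ⟨x, h, rfl⟩⟩
      rintro ⟨y, hy, hxy⟩
      have h1 : y⁻¹ * x ∈ N := QuotientGroup.eq.1 hxy
      show QK (x : K) = 0
      have h2 := (ψ ⟨_, h1⟩).2 (y : K)
      rw [← hy, ← h2]
      show _ = QK (((y⁻¹ * x : Kˣ) : K) * (y : K))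
      rw [← Units.val_mul, mul_comm (y⁻¹ * x) y, mul_inv_cancel_left]
    have hdvd : Q₀ + 1 ∣ Nat.card {x : Kˣ // QK (x : K) = 0} := by
      have h1 : Nat.card {x : Kˣ // QK (x : K) = 0} = Nat.card N * Nat.card t := by
        rw [← Nat.card_prod]
        exact Nat.card_congr ((Equiv.setCongr hpre.symm).trans (QuotientGroup.preimageMkEquivSubgroupProdSet N t))
      rw [h1]
      exact Dvd.dvd.mul_right (huo ▸ orderOf_dvd_natCard u) _
    have hcount : Nat.card {v : K // QK v = 0} = Nat.card {x : Kˣ // QK (x : K) = 0} + 1 := by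
      rw [Nat.card_congr ((unitsEquivNeZero (G₀ := K)).subtypeEquiv (p := fun x : Kˣ => QK (x : K) = 0)
        (q := fun x : {v : K // v ≠ 0} => QK x.1 = 0) fun x => Iff.rfl),
        Nat.card_congr (Equiv.subtypeSubtypeEquivSubtypeInter (fun v : K => v ≠ 0) fun v => QK v = 0)]
      have h1 := Set.ncard_sdiff_singleton_add_one (s := {v : K | QK v = 0}) (a := 0) (map_zero QK) (Set.toFinite _)
      rw [← Nat.card_coe_set_eq, ← Nat.card_coe_set_eq] at h1
      rw [show Nat.card {v : K // QK v = 0} = Nat.card ({v : K | QK v = 0} : Set K) from rfl, ← h1, add_left_inj]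
      exact Nat.card_congr (Equiv.subtypeEquivRight fun v => by simp [and_comm])
    rw [hcount, Nat.add_sub_cancel] at hz
    obtain ⟨B₀, hB₀⟩ : ∃ B, B = Fintype.card F ^ l := ⟨_, rfl⟩
    rw [← hB₀] at hz
    have h3 : Nat.card {x : Kˣ // QK (x : K) = 0} + 2 * (B₀ + 1) = (Q₀ + 1) * (B₀ + 1) := by
      obtain ⟨R, rfl⟩ : ∃ R, Q₀ = R + 1 := ⟨Q₀ - 1, by omega⟩
      rw [Nat.add_sub_cancel] at hz
      nlinarith
    have h4 : Q₀ + 1 ∣ 2 * (B₀ + 1) := (Nat.dvd_add_right hdvd).1 (h3 ▸ dvd_mul_right _ _)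
    have h5 : Q₀ + 1 ∣ B₀ + 1 := by
      refine Nat.Coprime.dvd_of_dvd_mul_left ?_ h4
      obtain ⟨r, hr⟩ := heven
      exact ((Nat.prime_two.coprime_iff_not_dvd).2 (by omega)).symm
    have h6 := Nat.le_of_dvd (by omega) h5
    have h7 : B₀ < Q₀ := hB₀ ▸ hQ₀ ▸ Nat.pow_lt_pow_right Fintype.one_lt_card (Nat.lt_succ_self l)
    omega
  · obtain rfl : l' = l := by omega
    obtain ⟨e, he⟩ := hminus a b hab
    let E : QK.IsometryEquiv (qfMinus l' F a b) :=
      { toLinearEquiv := e.symm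
        map_app' := fun v => by
          show qfMinus l' F a b (e.symm v) = QK v
          rw [← he, e.apply_symm_apply] }
    exact ⟨moveHom E (ψ u), by
      rw [orderOf_injective _ (moveHom_injective E), orderOf_injective _ hψ, huo, hQ₀]⟩

end CfsgLib.MaxSub.SpecEight
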