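import Mathlib
import Cfsg.Agent.Lib.MaxSub.SpecEightTorus

/-!
Every maximal order occurs in `O⁻₈(q)`, and in the affine group over `Ω⁻₈(q)`.
-/

set_option autoImplicit false
set_option linter.unusedSectionVars false

namespace CfsgLib.MaxSub.SpecEight

open CfsgLib.Geom CfsgLib.Classical CfsgLib.KnownC
open QuadraticMap (polar)

variable {F : Type*} [Field F] [Fintype F] [CharP F 2] {a b : F}

set_option quotPrecheck false in
local notation "O8" => Cfsg.isometryGroup F (⇑(qfMinus 3 F a b))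

/-- The norm of `v` under `g`. -/
noncomputable def nsum (g : Cfsg.isometryGroup F (⇑(qfMinus 3 F a b))) (v : (Fin 3 ⊕ Fin 3) ⊕ Fin 2 → F) :
    (Fin 3 ⊕ Fin 3) ⊕ Fin 2 → F :=
  ∑ i ∈ Finset.range (orderOf g), (InvTwo.qIsom (qfMinus 3 F a b) g ^ i) v

variable (hab : ∀ z₁ z₂ : F, z₁ ^ 2 + a * z₁ * z₂ + b * z₂ ^ 2 = 0 → z₁ = 0 ∧ z₂ = 0)
include hab

theorem sep8 : ∀ x, (∀ y, polar (qfMinus 3 F a b) x y = 0) → x = 0 := fun x hx => qfMinus_sep 3 hab x hx

theorem a_ne : a ≠ 0 := fun ha => by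
  haveI : Fact (Nat.Prime 2) := ⟨Nat.prime_two⟩
  obtain ⟨r, hr⟩ := FiniteField.isSquare_of_char_two (ringChar.eq F 2) b
  exact one_ne_zero (hab r 1 (by rw [ha, hr]; linear_combination (r * r) * (CharTwo.two_eq_zero : (2 : F) = 0))).2

omit hab

theorem coprime_pow_two {M : ℕ} (hM : Odd M) (j : ℕ) : (2 ^ j).Coprime M :=
  Nat.Coprime.pow_left j ((Nat.prime_two.coprime_iff_not_dvd).2 fun h => by
    obtain ⟨k, rfl⟩ := hM; omega)

theorem sum_range_periodic {V : Type*} [AddCommGroup V] (f : ℕ → V) {n : ℕ} (hf : ∀ i, f (i + n) = f i) :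
    ∀ M : ℕ, ∑ i ∈ Finset.range (M * n), f i = M • ∑ i ∈ Finset.range n, f i := by
  have hper : ∀ M i, f (M * n + i) = f i := by
    intro M
    induction M with
    | zero => simp
    | succ M ih => intro i; rw [show (M + 1) * n + i = M * n + i + n by ring, hf, ih]
  intro M
  induction M with
  | zero => simp
  | succ M ih => rw [Nat.succ_mul, Finset.sum_range_add, ih, succ_nsmul, Finset.sum_congr rfl fun i _ => hper M i]

variable {V₁ V₂ : Type*} [AddCommGroup V₁] [Module F V₁] [AddCommGroup V₂] [Module F V₂]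
  {Q₁ : QuadraticForm F V₁} {Q₂ : QuadraticForm F V₂}

/-- The element of `O⁻₈` with the two given components. -/
noncomputable def glue (e : (Q₁.prod Q₂).IsometryEquiv (qfMinus 3 F a b)) :
    quadIsoms Q₁ × quadIsoms Q₂ →* Cfsg.isometryGroup F (⇑(qfMinus 3 F a b)) :=
  (orEquiv (qfMinus 3 F a b)).toMonoidHom.comp ((moveHom e).comp (sumHom Q₁ Q₂))

theorem glue_injective (e : (Q₁.prod Q₂).IsometryEquiv (qfMinus 3 F a b)) : Function.Injective (glue e) :=
  (orEquiv (qfMinus 3 F a b)).injective.comp ((moveHom_injective e).comp (sumHom_injective Q₁ Q₂))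

theorem glue_apply (e : (Q₁.prod Q₂).IsometryEquiv (qfMinus 3 F a b)) (g : quadIsoms Q₁ × quadIsoms Q₂)
    (v : V₁ × V₂) : InvTwo.qIsom (qfMinus 3 F a b) (glue e g) (e v) = e (g.1.1 v.1, g.2.1 v.2) := by
  show InvTwo.qIsom (qfMinus 3 F a b) (orEquiv _ (moveHom e (sumHom Q₁ Q₂ g))) (e v) = _
  rw [InvTwo.qIsom_orEquiv, moveHom_apply, sumHom_apply]

theorem orderOf_glue (e : (Q₁.prod Q₂).IsometryEquiv (qfMinus 3 F a b)) {s : quadIsoms Q₁} {u : quadIsoms Q₂}
    {M j : ℕ} (hs : orderOf s = M) (hM : Odd M) (hu : orderOf u = 2 ^ j) :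
    orderOf (glue e (s, u)) = 2 ^ j * M := by
  rw [orderOf_injective _ (glue_injective e), Prod.orderOf, hs, hu, Nat.Coprime.lcm_eq_mul
    (coprime_pow_two hM j).symm, mul_comm]

include hab

theorem mem_omega_iff (g : O8) : g ∈ Cfsg.Omega F (⇑(qfMinus 3 F a b)) ↔
    (spinorHom (qfMinus 3 F a b) (sep8 hab) (Or.inr (by simp)) g).1 = 1 :=
  mem_omega_iff_of_two CharTwo.two_eq_zero _ _ g

theorem mem_omega_of_odd (g : O8) (hg : Odd (orderOf g)) : g ∈ Cfsg.Omega F (⇑(qfMinus 3 F a b)) := by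
  rw [mem_omega_iff hab]
  generalize hx : (spinorHom (qfMinus 3 F a b) (sep8 hab) (Or.inr (by simp)) g).1 = x
  have h1 : x ^ orderOf g = 1 := by
    rw [← hx, ← Prod.pow_fst, ← map_pow, pow_orderOf_eq_one, map_one]; rfl
  obtain ⟨k, hk⟩ := hg
  rw [hk, pow_succ, pow_mul] at h1
  rcases zmodTwo_cases x with h | h
  · exact h
  · rw [h, sq, zmodTwo_ofAdd_mul, one_pow, one_mul] at h1
    exact absurd h1 (by decide)

theorem refl_not_mem (e : (Q₁.prod Q₂).IsometryEquiv (qfMinus 3 F a b)) {c : V₂} (hc : Q₂ c ≠ 0) :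
    (spinorHom (qfMinus 3 F a b) (sep8 hab) (Or.inr (by simp))
      (glue e (1, ⟨reflEquiv Q₂ c hc, reflEquiv_mem Q₂ c hc⟩))).1 = Multiplicative.ofAdd 1 := by
  have hc' : qfMinus 3 F a b (e (0, c)) ≠ 0 := by
    rw [e.map_app, QuadraticMap.prod_apply, map_zero, zero_add]; exact hc
  have h : glue e (1, ⟨reflEquiv Q₂ c hc, reflEquiv_mem Q₂ c hc⟩) = reflIsom (qfMinus 3 F a b) (e (0, c)) hc' := by
    refine InvTwo.qIsom_injective (LinearEquiv.ext fun x => ?_)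
    obtain ⟨v, rfl⟩ := e.toLinearEquiv.surjective x
    show InvTwo.qIsom _ _ (e v) = InvTwo.qIsom _ _ (e v)
    rw [glue_apply, InvTwo.qIsom_apply, reflIsom_mulVec]
    have hp : polar (qfMinus 3 F a b) (e (0, c)) (e v) = polar Q₂ c v.2 := by
      simp only [QuadraticMap.polar]
      rw [show e (0, c) + e v = e ((0, c) + v) from (map_add e.toLinearEquiv _ _).symm, e.map_app, e.map_app,
        e.map_app]
      simp [QuadraticMap.prod_apply]
      ring
    rw [hp, e.map_app, QuadraticMap.prod_apply, map_zero, zero_add]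
    show e.toLinearEquiv _ = e.toLinearEquiv v - _ • e.toLinearEquiv (0, c)
    rw [← map_smul, ← map_sub, reflEquiv_apply]
    congr 1
    refine Prod.ext ?_ rfl
    show v.1 = v.1 - _ • (0 : V₁)
    rw [smul_zero, sub_zero]
  rw [h, spinorHom_reflIsom]

/-- A witness in `Ω⁻₈` with a non-trivial norm. -/
theorem exists_omega_norm (e : (Q₁.prod Q₂).IsometryEquiv (qfMinus 3 F a b)) {s : quadIsoms Q₁} {u : quadIsoms Q₂}
    {M j : ℕ} (hs : orderOf s = M) (hM : Odd M) (hu : u ^ 2 ^ j = 1) {v : V₂}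
    (hv : ∑ i ∈ Finset.range (2 ^ j), (u.1 ^ i) v ≠ 0)
    (hb : j = 0 ∨ ∃ (c : V₂) (hc : Q₂ c ≠ 0), reflEquiv Q₂ c hc v = v ∧
      ∀ x, reflEquiv Q₂ c hc (u.1 x) = u.1 (reflEquiv Q₂ c hc x)) :
    ∃ g : O8, g ∈ Cfsg.Omega F (⇑(qfMinus 3 F a b)) ∧ orderOf g = 2 ^ j * M ∧ ∃ w, nsum g w ≠ 0 := by
  -- correct the parity of `u`
  obtain ⟨u', hu', hv', hmem⟩ : ∃ u' : quadIsoms Q₂, u' ^ 2 ^ j = 1 ∧
      ∑ i ∈ Finset.range (2 ^ j), (u'.1 ^ i) v ≠ 0 ∧ glue e (s, u') ∈ Cfsg.Omega F (⇑(qfMinus 3 F a b)) := by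
    have hsplit : ∀ u' : quadIsoms Q₂, glue e (s, u') = glue e (s, 1) * glue e (1, u') := fun u' => by
      rw [← map_mul, Prod.mk_mul_mk, mul_one, one_mul]
    have hs1 : glue e (s, 1) ∈ Cfsg.Omega F (⇑(qfMinus 3 F a b)) :=
      mem_omega_of_odd hab _ (by rw [orderOf_glue e hs hM (j := 0) (by simp), pow_zero, one_mul]; exact hM)
    rcases hb with rfl | ⟨c, hc, hcv, hcu⟩
    · refine ⟨u, hu, hv, ?_⟩
      rw [pow_zero, pow_one] at hu
      rw [hu]; exact hs1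
    by_cases hpar : glue e (1, u) ∈ Cfsg.Omega F (⇑(qfMinus 3 F a b))
    · exact ⟨u, hu, hv, hsplit u ▸ mul_mem hs1 hpar⟩
    set r : quadIsoms Q₂ := ⟨reflEquiv Q₂ c hc, reflEquiv_mem Q₂ c hc⟩ with hr
    have hcomm : Commute r u := Subtype.ext (LinearEquiv.ext fun x => hcu x)
    have hj : j ≠ 0 := by
      rintro rfl
      rw [pow_zero, pow_one] at hu
      exact hpar (hu ▸ by rw [Prod.mk_one_one, map_one]; exact one_mem _)
    have hr2 : r ^ 2 = 1 := by rw [sq]; exact Subtype.ext (reflEquiv_mul_self Q₂ c hc)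
    refine ⟨r * u, ?_, ?_, ?_⟩
    · obtain ⟨k, rfl⟩ := Nat.exists_eq_succ_of_ne_zero hj
      rw [hcomm.mul_pow, hu, mul_one, pow_succ', pow_mul, hr2, one_pow]
    · have hfix : ∀ i : ℕ, ((r * u : quadIsoms Q₂).1 ^ i) v = (u.1 ^ i) v := by
        intro i
        induction i with
        | zero => simp
        | succ i ih =>
          rw [pow_succ', LinearEquiv.mul_apply, ih, pow_succ', LinearEquiv.mul_apply]
          show reflEquiv Q₂ c hc (u.1 ((u.1 ^ i) v)) = _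
          rw [hcu]
          congr 1
          clear ih
          induction i with
          | zero => simpa using hcv
          | succ i ih => rw [pow_succ', LinearEquiv.mul_apply, hcu, ih]
      rwa [Finset.sum_congr rfl fun i _ => hfix i]
    · rw [hsplit]
      refine mul_mem hs1 ((mem_omega_iff hab _).2 ?_)
      rw [show ((1 : quadIsoms Q₁), r * u) = (1, r) * (1, u) by rw [Prod.mk_mul_mk, one_mul], map_mul, map_mul,
        Prod.fst_mul, refl_not_mem hab e hc, (zmodTwo_cases _).resolve_left fun h => hpar ((mem_omega_iff hab _).2 h),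
        zmodTwo_ofAdd_mul]
  have ho : orderOf u' = 2 ^ j := by
    rcases Nat.eq_zero_or_pos j with rfl | hj
    · rw [pow_zero, pow_one] at hu'; simp [hu']
    · obtain ⟨k, rfl⟩ : ∃ k, j = k + 1 := ⟨j - 1, by omega⟩
      haveI : Fact (Nat.Prime 2) := ⟨Nat.prime_two⟩
      refine orderOf_eq_prime_pow (fun h => hv' ?_) hu'
      rw [pow_succ', sum_range_periodic (fun i => (u'.1 ^ i) v) (fun i => ?_) 2, two_nsmul, add_self_zero (F := F)]
      show (u'.1 ^ (i + 2 ^ k)) v = (u'.1 ^ i) v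
      rw [pow_add, ← SubgroupClass.coe_pow u' (2 ^ k), h, Subgroup.coe_one, mul_one]
  refine ⟨glue e (s, u'), hmem, orderOf_glue e hs hM ho, e (0, v), ?_⟩
  have hpow : ∀ i : ℕ, (InvTwo.qIsom (qfMinus 3 F a b) (glue e (s, u')) ^ i) (e (0, v)) = e (0, (u'.1 ^ i) v) := by
    intro i
    induction i with
    | zero => simp
    | succ i ih =>
      rw [pow_succ', LinearEquiv.mul_apply, ih, glue_apply, map_zero, pow_succ', LinearEquiv.mul_apply]
  rw [nsum, orderOf_glue e hs hM ho, Finset.sum_congr rfl fun i _ => hpow i]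
  intro h
  apply hv'
  change ∑ i ∈ Finset.range (2 ^ j * M), e.toLinearEquiv (0, (u'.1 ^ i) v) = 0 at h
  rw [← map_sum, LinearEquiv.map_eq_zero_iff] at h
  have h1 := congrArg Prod.snd h
  rw [Prod.snd_sum, mul_comm, sum_range_periodic (fun i => (u'.1 ^ i) v) (fun i => ?_) M] at h1
  · obtain ⟨k, hk⟩ := hM
    rw [hk, succ_nsmul, mul_comm, mul_nsmul, two_nsmul, ← add_nsmul] at h1
    have h2 : (k + k) • (∑ i ∈ Finset.range (2 ^ j), (u'.1 ^ i) v) = 0 := by
      rw [add_nsmul]; exact add_self_zero (F := F) _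
    rw [h2, zero_add] at h1
    exact h1
  · show (u'.1 ^ (i + 2 ^ j)) v = (u'.1 ^ i) v
    rw [pow_add, ← SubgroupClass.coe_pow u' (2 ^ j), hu', Subgroup.coe_one, mul_one]

/-- The three unipotent sizes over an anisotropic or hyperbolic plane. -/
theorem wit_one (e : (Q₁.prod Q₂).IsometryEquiv (qfMinus 3 F a b)) {s : quadIsoms Q₁} {M : ℕ}
    (hs : orderOf s = M) (hM : Odd M) (hQ : ∃ c w, Q₂ c ≠ 0 ∧ polar Q₂ c w ≠ 0) :
    (∃ g : O8, orderOf g = 2 * M) ∧
      ∃ g : O8, g ∈ Cfsg.Omega F (⇑(qfMinus 3 F a b)) ∧ orderOf g = M ∧ ∃ w, nsum g w ≠ 0 := by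
  obtain ⟨c, w, hc, hcw⟩ := hQ
  constructor
  · set r : quadIsoms Q₂ := ⟨reflEquiv Q₂ c hc, reflEquiv_mem Q₂ c hc⟩ with hr
    refine ⟨glue e (s, r), orderOf_glue e hs hM (j := 1) ?_⟩
    haveI : Fact (Nat.Prime 2) := ⟨Nat.prime_two⟩
    refine orderOf_eq_prime (p := 2) (by rw [sq]; exact Subtype.ext (reflEquiv_mul_self Q₂ c hc)) fun h => ?_
    have h1 : del r.1 w = 0 := by rw [h]; simp [del, add_self_zero (F := F)]
    rw [hr, del_refl Q₂ hc, smul_eq_zero] at h1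
    rcases h1 with h1 | h1
    · exact mul_ne_zero (inv_ne_zero hc) hcw h1
    · exact hc (by rw [h1, map_zero])
  · have h := exists_omega_norm hab e hs hM (j := 0) (u := 1) (by simp) (v := c)
      (by simpa using fun h => hc (by rw [h, map_zero])) (Or.inl rfl)
    simpa using h

theorem wit_two (e : (Q₁.prod ((hyp F).prod Q₂)).IsometryEquiv (qfMinus 3 F a b)) {s : quadIsoms Q₁} {M : ℕ}
    (hs : orderOf s = M) (hM : Odd M) (hQ : ∃ c w, Q₂ c ≠ 0 ∧ polar Q₂ c w ≠ 0) :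
    (∃ g : O8, orderOf g = 4 * M) ∧
      ∃ g : O8, g ∈ Cfsg.Omega F (⇑(qfMinus 3 F a b)) ∧ orderOf g = 2 * M ∧ ∃ w, nsum g w ≠ 0 := by
  constructor
  · obtain ⟨g, v, hg, hv⟩ := exists_four Q₂ hQ
    refine ⟨glue e (s, g), orderOf_glue e hs hM (j := 2) ?_⟩
    haveI : Fact (Nat.Prime 2) := ⟨Nat.prime_two⟩
    refine orderOf_eq_prime_pow (p := 2) (n := 1) (fun h => hv ?_) hg
    have h2 : ∀ x, (del g.1)^[2] x = 0 := by
      rw [show (2 : ℕ) = 2 ^ 1 from rfl]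
      exact (pow_eq_one_iff_del g.1 1).1 (by rw [← SubgroupClass.coe_pow, h, Subgroup.coe_one])
    rw [Function.iterate_succ_apply, h2]
  · obtain ⟨c, w, hc, hcw⟩ := hQ
    let r : quadIsoms Q₂ := ⟨reflEquiv Q₂ c hc, reflEquiv_mem Q₂ c hc⟩
    have hc' : (hyp F).prod Q₂ (hv 1 1, 0) ≠ 0 := by simp [hyp_apply, hv]
    refine exists_omega_norm hab e hs hM (j := 1) (u := sumHom (hyp F) Q₂ (1, r)) ?_ (v := (0, w)) ?_
      (Or.inr ⟨(hv 1 1, 0), hc', ?_, ?_⟩)
    · rw [pow_one, ← map_pow, Prod.pow_mk, one_pow, sq,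
        show r * r = 1 from Subtype.ext (reflEquiv_mul_self Q₂ c hc), Prod.mk_one_one, map_one]
    · rw [pow_one, Finset.sum_range_succ, Finset.sum_range_one, pow_zero, pow_one, sumHom_apply]
      intro h
      have h1 := congrArg Prod.snd h
      change w + reflEquiv Q₂ c hc w = 0 at h1
      rw [add_comm, ← del, del_refl Q₂ hc, smul_eq_zero] at h1
      rcases h1 with h1 | h1
      · exact mul_ne_zero (inv_ne_zero hc) hcw h1
      · exact hc (by rw [h1, map_zero])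
    · exact reflEquiv_fix _ _ hc' (by simp)
    · intro x
      rw [reflEquiv_apply, reflEquiv_apply, sumHom_apply, sumHom_apply]
      refine Prod.ext ?_ ?_ <;> simp [QuadraticMap.polar_prod]

theorem wit_three (e : (Q₁.prod ((hyp F).prod ((hyp F).prod Q₂))).IsometryEquiv (qfMinus 3 F a b))
    {s : quadIsoms Q₁} {M : ℕ} (hs : orderOf s = M) (hM : Odd M) (hQ : ∃ c w, Q₂ c ≠ 0 ∧ polar Q₂ c w ≠ 0) :
    (∃ g : O8, orderOf g = 8 * M) ∧
      ∃ g : O8, g ∈ Cfsg.Omega F (⇑(qfMinus 3 F a b)) ∧ orderOf g = 4 * M ∧ ∃ w, nsum g w ≠ 0 := by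
  constructor
  · obtain ⟨g, hg⟩ := exists_eight Q₂ hQ
    exact ⟨glue e (s, g), orderOf_glue e hs hM (j := 3) hg⟩
  · obtain ⟨g, v, hg, hv3⟩ := exists_four Q₂ hQ
    have hc' : (hyp F).prod ((hyp F).prod Q₂) (hv 1 1, 0) ≠ 0 := by simp [hyp_apply, hv]
    refine exists_omega_norm hab e hs hM (j := 2) (u := sumHom (hyp F) ((hyp F).prod Q₂) (1, g)) ?_ (v := (0, v)) ?_
      (Or.inr ⟨(hv 1 1, 0), hc', ?_, ?_⟩)
    · rw [← map_pow, Prod.pow_mk, one_pow, show (2 : ℕ) ^ 2 = 4 from rfl, hg, Prod.mk_one_one, map_one]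
    · intro h
      apply hv3
      rw [show (2 : ℕ) ^ 2 = 4 from rfl] at h
      simp only [Finset.sum_range_succ, Finset.sum_range_zero, zero_add, pow_zero, pow_one, pow_succ',
        LinearEquiv.mul_apply, sumHom_apply, LinearEquiv.coe_one, id_eq, map_zero, Prod.mk_add_mk,
        add_zero] at h
      have h1 := congrArg Prod.snd h
      simp only [mul_one, LinearEquiv.coe_one, id_eq] at h1
      show del g.1 (del g.1 (del g.1 v)) = 0
      simp only [del, map_add]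
      rw [show g.1 (g.1 (g.1 v)) + g.1 (g.1 v) + (g.1 (g.1 v) + g.1 v) + (g.1 (g.1 v) + g.1 v + (g.1 v + v)) =
        (v + g.1 v + g.1 (g.1 v) + g.1 (g.1 (g.1 v))) + ((g.1 (g.1 v) + g.1 v) + (g.1 (g.1 v) + g.1 v)) by abel,
        add_self_zero (F := F) (g.1 (g.1 v) + g.1 v), add_zero]
      exact h1
    · exact reflEquiv_fix _ _ hc' (by simp)
    · intro x
      rw [reflEquiv_apply, reflEquiv_apply, sumHom_apply, sumHom_apply]
      refine Prod.ext ?_ ?_ <;> simp [QuadraticMap.polar_prod]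

omit hab

theorem hyp_pair : ∃ c w, hyp F c ≠ 0 ∧ polar (hyp F) c w ≠ 0 :=
  ⟨hv 1 1, hv 0 1, by simp [hyp_apply, hv], by simp [polar_qfPlus, hv]⟩

include hab

theorem ani_pair : ∃ c w, ani F a b c ≠ 0 ∧ polar (ani F a b) c w ≠ 0 :=
  ⟨Sum.elim 0 ![1, 0], Sum.elim 0 ![0, 1], by simp [ani_apply],
    by simp [polar_qfMinus, a_ne hab]⟩

/-- Witnesses for all the maximal orders. -/
theorem exists_wit (i : Fin 12) :
    (∃ g : O8, orderOf g = maxOrd (Fintype.card F) i) ∧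
      ∃ g : O8, g ∈ Cfsg.Omega F (⇑(qfMinus 3 F a b)) ∧
        (orderOf g = maxOrd (Fintype.card F) i ∨
          (2 * orderOf g = maxOrd (Fintype.card F) i ∧ ∃ w, nsum g w ≠ 0)) := by
  obtain ⟨q, hq⟩ : ∃ q, q = Fintype.card F := ⟨_, rfl⟩
  rw [← hq]
  have hev : Even q := by
    obtain ⟨m, -, hm⟩ := FiniteField.card F 2
    rw [hq, hm]; exact Nat.even_pow.2 ⟨even_two, m.ne_zero⟩
  have h1q : 1 ≤ q := hq ▸ Fintype.card_pos
  have hpl : ∀ k : ℕ, k ≠ 0 → Odd (q ^ k + 1) := fun k hk => (hev.pow_of_ne_zero hk).add_one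
  have hmi : ∀ k : ℕ, k ≠ 0 → Odd (q ^ k - 1) := fun k hk =>
    Nat.Even.sub_odd (Nat.one_le_pow _ _ h1q) (hev.pow_of_ne_zero hk) odd_one
  obtain ⟨P1, hP1⟩ := exists_plus_torus (F := F) 1 le_rfl
  obtain ⟨P2, hP2⟩ := exists_plus_torus (F := F) 2 (by norm_num)
  obtain ⟨P3, hP3⟩ := exists_plus_torus (F := F) 3 (by norm_num)
  obtain ⟨M0, hM0⟩ := exists_minus_torus (F := F) 0 hab
  obtain ⟨M1, hM1⟩ := exists_minus_torus (F := F) 1 hab
  obtain ⟨M2, hM2⟩ := exists_minus_torus (F := F) 2 hab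
  obtain ⟨M3, hM3⟩ := exists_minus_torus (F := F) 3 hab
  rw [← hq] at hP1 hP2 hP3 hM0 hM1 hM2 hM3
  norm_num at hP1 hM0 hM1 hM2 hM3
  have cop2 : (q ^ 2 + 1).Coprime (q ^ 2 - 1) := by
    refine Nat.coprime_of_dvd fun r hr h1 h2 => ?_
    have h3 : r ∣ 2 := by
      have h5 := Nat.dvd_sub h1 h2
      rwa [show q ^ 2 + 1 - (q ^ 2 - 1) = 2 by
        have := Nat.one_le_pow 2 q h1q
        omega] at h5
    have h4 : r = 2 := (Nat.prime_dvd_prime_iff_eq hr Nat.prime_two).1 h3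
    subst h4
    exact Nat.not_even_iff_odd.2 (hpl 2 two_ne_zero) (even_iff_two_dvd.2 h1)
  have cop3 : ∀ x y : ℕ, x = q ^ 3 + 1 ∧ y = q ^ 3 - 1 → x.Coprime y := by
    rintro x y ⟨rfl, rfl⟩
    refine Nat.coprime_of_dvd fun r hr h1 h2 => ?_
    have h3 : r ∣ 2 := by
      have h5 := Nat.dvd_sub h1 h2
      rwa [show q ^ 3 + 1 - (q ^ 3 - 1) = 2 by
        have := Nat.one_le_pow 3 q h1q
        omega] at h5
    have h4 : r = 2 := (Nat.prime_dvd_prime_iff_eq hr Nat.prime_two).1 h3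
    subst h4
    exact Nat.not_even_iff_odd.2 (hpl 3 three_ne_zero) (even_iff_two_dvd.2 h1)
  have h21a : q - 1 ∣ q ^ 2 - 1 := by simpa using Nat.sub_dvd_pow_sub_pow q 1 2
  have h31 : q - 1 ∣ q ^ 3 - 1 := by simpa using Nat.sub_dvd_pow_sub_pow q 1 3
  have h21b : q + 1 ∣ q ^ 2 - 1 := ⟨q - 1, by rw [sq]; exact Nat.mul_self_sub_mul_self_eq q 1⟩
  have h3p : q + 1 ∣ q ^ 3 + 1 := by simpa using Odd.nat_add_dvd_pow_add_pow q 1 (by decide : Odd 3)
  have h4e : q ^ 4 - 1 = (q ^ 2 + 1) * (q ^ 2 - 1) := by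
    rw [show q ^ 4 = q ^ 2 * q ^ 2 by ring]; exact Nat.mul_self_sub_mul_self_eq (q ^ 2) 1
  have hmi1 : Odd (q - 1) := by simpa using hmi 1 one_ne_zero
  have hpl1 : Odd (q + 1) := by simpa using hpl 1 one_ne_zero
  obtain ⟨f22⟩ := exists_aniAni (a_ne hab) b
  let r0 := QuadraticMap.IsometryEquiv.refl (hyp F)
  let m1 : ((hyp F).prod (ani F a b)).IsometryEquiv (qfMinus 1 F a b) := plusMinus 1 0 a b
  let m2 : ((hyp F).prod ((hyp F).prod (ani F a b))).IsometryEquiv (qfMinus 2 F a b) :=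
    (r0.prod m1).trans (plusMinus 1 1 a b)
  let p2 : ((hyp F).prod (hyp F)).IsometryEquiv (qfPlus 2 F) := plusPlus 1 1
  let p3 : ((hyp F).prod ((hyp F).prod (hyp F))).IsometryEquiv (qfPlus 3 F) := (r0.prod p2).trans (plusPlus 1 2)
  -- a pure torus element
  have pureWit : ∀ {N : ℕ} (g : O8), orderOf g = N → Odd N → (∃ g : O8, orderOf g = N) ∧
      ∃ g : O8, g ∈ Cfsg.Omega F (⇑(qfMinus 3 F a b)) ∧
        (orderOf g = N ∨ (2 * orderOf g = N ∧ ∃ w, nsum g w ≠ 0)) :=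
    fun {N} g hg hN => ⟨⟨g, hg⟩, g, mem_omega_of_odd hab g (hg ▸ hN), Or.inl hg⟩
  have mixed : ∀ {k M : ℕ}, ((∃ g : O8, orderOf g = 2 * k * M) ∧
      ∃ g : O8, g ∈ Cfsg.Omega F (⇑(qfMinus 3 F a b)) ∧ orderOf g = k * M ∧ ∃ w, nsum g w ≠ 0) →
      (∃ g : O8, orderOf g = 2 * k * M) ∧
      ∃ g : O8, g ∈ Cfsg.Omega F (⇑(qfMinus 3 F a b)) ∧
        (orderOf g = 2 * k * M ∨ (2 * orderOf g = 2 * k * M ∧ ∃ w, nsum g w ≠ 0)) := by
    rintro k M ⟨h1, g, h2, h3, h4⟩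
    exact ⟨h1, g, h2, Or.inr ⟨by rw [h3, mul_assoc], h4⟩⟩
  fin_cases i <;> simp only [maxOrd, twoPart, oddPart] <;> norm_num [-Subtype.exists, -ne_eq]
  · exact mixed (k := 4) (wit_three hab (((QuadraticMap.IsometryEquiv.refl _).prod m2).trans (plusMinus 1 2 a b))
      hP1 hmi1 (ani_pair hab))
  · exact mixed (k := 4) (wit_three hab (((QuadraticMap.IsometryEquiv.refl _).prod p3).trans
      ((QuadraticMap.IsometryEquiv.prodComm _ _).trans (plusMinus 3 0 a b))) hM0 hpl1 hyp_pair)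
  · exact mixed (k := 2) (wit_two hab (((QuadraticMap.IsometryEquiv.refl _).prod m1).trans (plusMinus 2 1 a b))
      hP2 (hmi 2 two_ne_zero) (ani_pair hab))
  · exact mixed (k := 2) (wit_two hab (((QuadraticMap.IsometryEquiv.refl _).prod p2).trans
      ((QuadraticMap.IsometryEquiv.prodComm _ _).trans (plusMinus 2 1 a b))) hM1 (hpl 2 two_ne_zero) hyp_pair)
  · have h := wit_one hab (Q₂ := ani F a b) (plusMinus 3 0 a b) hP3 (hmi 3 three_ne_zero) (ani_pair hab)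
    simpa [-Subtype.exists, -ne_eq] using mixed (k := 1) (by simpa [-Subtype.exists, -ne_eq] using h)
  · have h := wit_one hab (Q₂ := hyp F)
      ((QuadraticMap.IsometryEquiv.prodComm _ _).trans (plusMinus 1 2 a b)) hM2 (hpl 3 three_ne_zero) hyp_pair
    simpa [-Subtype.exists, -ne_eq] using mixed (k := 1) (by simpa [-Subtype.exists, -ne_eq] using h)
  · have ho : orderOf (sumHom (qfMinus 1 F a b) (hyp F) (M1, P1)) = (q ^ 2 + 1) * (q - 1) := by
      rw [orderOf_injective _ (sumHom_injective _ _), Prod.orderOf, hM1, hP1,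
        (Nat.Coprime.coprime_dvd_right h21a cop2).lcm_eq_mul]
    have h := wit_one hab (Q₂ := hyp F)
      ((assoc _ _ _).trans (((QuadraticMap.IsometryEquiv.refl _).prod p2).trans
        ((QuadraticMap.IsometryEquiv.prodComm _ _).trans (plusMinus 2 1 a b)))) ho
      ((hpl 2 two_ne_zero).mul hmi1) hyp_pair
    simpa [-Subtype.exists, -ne_eq] using mixed (k := 1) (by simpa [-Subtype.exists, -ne_eq] using h)
  · have ho : orderOf (sumHom (qfMinus 1 F a b) (ani F a b) (M1, M0)) = (q ^ 2 + 1) * (q + 1) := by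
      rw [orderOf_injective _ (sumHom_injective _ _), Prod.orderOf, hM1, hM0,
        (Nat.Coprime.coprime_dvd_right h21b cop2).lcm_eq_mul]
    have h := wit_one hab (Q₂ := ani F a b)
      ((assoc _ _ _).trans (((QuadraticMap.IsometryEquiv.refl _).prod f22).trans
        ((QuadraticMap.IsometryEquiv.prodComm _ _).trans (plusMinus 2 1 a b)))) ho
      ((hpl 2 two_ne_zero).mul hpl1) (ani_pair hab)
    simpa [-Subtype.exists, -ne_eq] using mixed (k := 1) (by simpa [-Subtype.exists, -ne_eq] using h)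
  · refine pureWit (glue (plusMinus 2 1 a b) (P2, M1)) ?_ (hmi 4 (by norm_num))
    rw [orderOf_injective _ (glue_injective _), Prod.orderOf, hP2, hM1, h4e, cop2.symm.lcm_eq_mul, mul_comm]
  · refine pureWit (orEquiv _ M3) ?_ (hpl 4 (by norm_num))
    rw [MulEquiv.orderOf_eq, hM3]
  · refine pureWit (glue (plusMinus 1 2 a b) (P1, M2)) ?_ ((hpl 3 three_ne_zero).mul hmi1)
    rw [orderOf_injective _ (glue_injective _), Prod.orderOf, hP1, hM2,
      (Nat.Coprime.coprime_dvd_left h31 (cop3 _ _ ⟨rfl, rfl⟩).symm).lcm_eq_mul, mul_comm]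
  · refine pureWit (glue (plusMinus 3 0 a b) (P3, M0)) ?_ ((hmi 3 three_ne_zero).mul hpl1)
    rw [orderOf_injective _ (glue_injective _), Prod.orderOf, hP3, hM0,
      (Nat.Coprime.coprime_dvd_right h3p (cop3 _ _ ⟨rfl, rfl⟩).symm).lcm_eq_mul]

end CfsgLib.MaxSub.SpecEight
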