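import Mathlib
import Cfsg.Agent.Lib.MaxSub.SpecEightWit
import Cfsg.Agent.Lib.KnownC.SympSpectrum
import Cfsg.Agent.Lib.KnownC.Spec.SpFourModelBase
import Cfsg.Agent.Lib.Classical.SemiSympExists

/-!
The element orders of `Sp₈(q)` and of `O⁻₈(q)`, `q` even, and of the affine group over `Ω⁻₈(q)`.
-/

set_option autoImplicit false
set_option linter.unusedSectionVars false

namespace CfsgLib.MaxSub.SpecEight

open Polynomial CfsgLib.Geom CfsgLib.Classical CfsgLib.KnownC
open QuadraticMap (polar)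
open scoped Matrix

universe u

variable {F : Type u} [Field F] [Fintype F] [CharP F 2]

theorem symp_pow (g : Matrix.symplecticGroup (Fin 4) F) :
    ∃ i, g ^ maxOrd (Fintype.card F) i = 1 := by
  obtain ⟨i, w, hw⟩ := exists_dvd g.1.charpoly g.1.charpoly_monic
    (by rw [Matrix.charpoly_natDegree_eq_dim]; simp) (SemiSympExists.charpoly_symp g)
  refine ⟨i, Subtype.ext ?_⟩
  rw [SubmonoidClass.coe_pow, OneMemClass.coe_one]
  have h := congrArg (aeval g.1) hw
  rwa [map_mul, Matrix.aeval_self_charpoly, zero_mul, map_sub, map_pow, aeval_X, map_one, sub_eq_zero] at h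

theorem maxOrd_ne_zero (i : Fin 12) : maxOrd (Fintype.card F) i ≠ 0 := by
  have h2 : 2 ≤ Fintype.card F := Fintype.one_lt_card
  have h : ∀ k : ℕ, k ≠ 0 → 2 ≤ Fintype.card F ^ k := fun k hk => h2.trans (Nat.le_self_pow hk _)
  have := h 2 (by norm_num)
  have := h 3 (by norm_num)
  have := h 4 (by norm_num)
  fin_cases i <;> simp [maxOrd, oddPart] <;> omega

section Orth

variable {a b : F} (hab : ∀ z₁ z₂ : F, z₁ ^ 2 + a * z₁ * z₂ + b * z₂ ^ 2 = 0 → z₁ = 0 ∧ z₂ = 0)
include hab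

theorem orth_pow (g : Cfsg.isometryGroup F (⇑(qfMinus 3 F a b))) :
    ∃ i, g ^ maxOrd (Fintype.card F) i = 1 := by
  obtain ⟨i, hi, -⟩ := exists_pow (sep8 hab) (by simp) g
  refine ⟨i, Subtype.ext (Units.ext ?_)⟩
  rw [Subgroup.coe_pow, Units.val_pow_eq_pow_val, hi]
  rfl

/-- The element orders of `O⁻₈(q)`. -/
theorem range_orth : Set.range (orderOf : Cfsg.isometryGroup F (⇑(qfMinus 3 F a b)) → ℕ) =
    spec (Fintype.card F) := by
  refine Set.Subset.antisymm ?_ ?_
  · rintro _ ⟨g, rfl⟩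
    obtain ⟨i, hi⟩ := orth_pow hab g
    exact ⟨i, orderOf_dvd_of_pow_eq_one hi⟩
  · rintro d ⟨i, hd⟩
    obtain ⟨g, hg⟩ := (exists_wit hab i).1
    exact mem_range_orderOf_of_dvd g (hg ▸ maxOrd_ne_zero i) (hg ▸ hd)

theorem exists_toSp :
    ∃ φ : Cfsg.isometryGroup F (⇑(qfMinus 3 F a b)) →* Matrix.symplecticGroup (Fin 4) F,
      Function.Injective φ := by
  haveI : Fact (Nat.Prime 2) := ⟨Nat.prime_two⟩
  set Q := qfMinus 3 F a b with hQ
  obtain ⟨e, he⟩ := exists_symp_isometry 8 Q.polarBilin (sympBilin 4 F)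
    (fun v => InvTwo.polarBilin_self Q CharTwo.two_eq_zero v)
    (fun x hx => qfMinus_sep 3 hab x fun y => hx y) sympBilin_self sympBilin_sep
    (by simp) (by simp)
  let ψ : formIsoms (σ := RingHom.id F) (sympBilin 4 F) →* Matrix.symplecticGroup (Fin 4) F :=
    { toFun := fun g => ⟨LinearMap.toMatrix' g.1.toLinearMap, (mem_symplecticGroup_iff_form _).2 fun u v => by
        rw [← sympBilin_apply, ← sympBilin_apply, LinearMap.toMatrix'_mulVec, LinearMap.toMatrix'_mulVec]
        exact g.2 u v⟩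
      map_one' := Subtype.ext LinearMap.toMatrix'_id
      map_mul' := fun g h => Subtype.ext (LinearMap.toMatrix'_comp _ _) }
  have hψ : Function.Injective ψ := fun g h hgh =>
    Subtype.ext (LinearEquiv.toLinearMap_injective (LinearMap.toMatrix'.injective (congrArg Subtype.val hgh)))
  have hle : quadIsoms Q ≤ formIsoms (σ := RingHom.id F) Q.polarBilin := InvTwo.quadIsoms_le Q
  exact ⟨ψ.comp ((formIsomsCongr _ _ e he).toMonoidHom.comp
      ((Subgroup.inclusion hle).comp (orEquiv Q).symm.toMonoidHom)),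
    hψ.comp ((formIsomsCongr _ _ e he).injective.comp
      ((Subgroup.inclusion_injective hle).comp (orEquiv Q).symm.injective))⟩

/-- The element orders of `Sp₈(q)`. -/
theorem range_symp : Set.range (orderOf : Matrix.symplecticGroup (Fin 4) F → ℕ) = spec (Fintype.card F) := by
  refine Set.Subset.antisymm ?_ ?_
  · rintro _ ⟨g, rfl⟩
    obtain ⟨i, hi⟩ := symp_pow g
    exact ⟨i, orderOf_dvd_of_pow_eq_one hi⟩
  · rintro d ⟨i, hd⟩
    obtain ⟨g, hg⟩ := (exists_wit hab i).1
    obtain ⟨φ, hφ⟩ := exists_toSp hab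
    exact mem_range_orderOf_of_dvd (φ g) (by rw [orderOf_injective φ hφ, hg]; exact maxOrd_ne_zero i)
      (by rw [orderOf_injective φ hφ, hg]; exact hd)

/-- The element orders of `PSp₈(q)`. -/
theorem range_psp : Set.range (orderOf : Cfsg.PSp 4 F → ℕ) = spec (Fintype.card F) := by
  have hinj : Function.Injective (QuotientGroup.mk' (Subgroup.center (Matrix.symplecticGroup (Fin 4) F))) := by
    refine (injective_iff_map_eq_one _).2 fun g hg => ?_
    obtain ⟨c, hc, hgc⟩ := SympSpectrum.sign_of_mk_eq_one (n := 4) (by norm_num) g hg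
    have hc1 : c = 1 := by
      rcases mul_self_eq_one_iff.1 hc with h | h
      · exact h
      · rwa [CharTwo.neg_eq] at h
    exact Subtype.ext (by rw [hgc, hc1, one_smul]; rfl)
  rw [← range_symp hab]
  refine Set.Subset.antisymm ?_ ?_
  · rintro _ ⟨x, rfl⟩
    obtain ⟨g, rfl⟩ := QuotientGroup.mk'_surjective _ x
    exact ⟨g, (orderOf_injective _ hinj g).symm⟩
  · rintro _ ⟨g, rfl⟩
    exact ⟨_, orderOf_injective _ hinj g⟩

/-- Arbitrarily large groups with the element orders of `Sp₈(q)`. -/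
theorem exists_large_eight (M : ℕ) :
    ∃ (H : Type) (_ : Group H) (_ : Fintype H), M < Fintype.card H ∧
      Set.range (orderOf : H → ℕ) = spec (Fintype.card F) := by
  haveI : Fact (Nat.Prime 2) := ⟨Nat.prime_two⟩
  set Q := qfMinus 3 F a b with hQdef
  let φ : Cfsg.isometryGroup F (⇑Q) →* _ :=
    MonoidHom.mk' (InvTwo.qIsom Q) InvTwo.qIsom_mul
  have hφ : Function.Injective φ := InvTwo.qIsom_injective
  refine Spec.SpFour.exists_large_affine 2 ((Cfsg.Omega F (⇑Q)).map φ) _ ?_ ?_ ?_ ?_ ?_ M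
  · rintro d N hdN ⟨i, hi⟩
    exact ⟨i, hdN.trans hi⟩
  · rintro _ ⟨g, -, rfl⟩
    rw [orderOf_injective φ hφ]
    obtain ⟨i, hi⟩ := orth_pow hab g
    exact ⟨i, orderOf_dvd_of_pow_eq_one hi⟩
  · rintro _ ⟨g, hg, rfl⟩ w hw
    rw [orderOf_injective φ hφ]
    obtain ⟨i, hi, hsum⟩ := exists_pow (sep8 hab) (by simp) g
    refine ⟨i, ?_⟩
    have hdvd : orderOf g ∣ maxOrd (Fintype.card F) i := orderOf_dvd_of_pow_eq_one (Subtype.ext (Units.ext (by
      rw [Subgroup.coe_pow, Units.val_pow_eq_pow_val, hi]; rfl)))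
    obtain ⟨t, ht⟩ := hdvd
    have hpow : ∀ (j : ℕ) (v : _), (φ g ^ j) v = (g.1.1 ^ j) *ᵥ v := by
      intro j
      induction j with
      | zero => simp
      | succ j ih =>
        intro v
        rw [pow_succ', LinearEquiv.mul_apply, ih, pow_succ', ← Matrix.mulVec_mulVec]
        exact InvTwo.qIsom_apply _ _
    have h0 : ∑ j ∈ Finset.range (maxOrd (Fintype.card F) i), (φ g ^ j) w = 0 := by
      rw [Finset.sum_congr rfl fun j _ => hpow j w, ← Matrix.sum_mulVec, hsum hg, Matrix.zero_mulVec]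
    rw [ht, mul_comm (orderOf g), sum_range_periodic (fun j => (φ g ^ j) w) (fun j => ?_) t] at h0
    · rcases Nat.even_or_odd t with ⟨k, rfl⟩ | ⟨k, rfl⟩
      · exact ⟨k, by rw [ht]; ring⟩
      · exfalso
        apply hw
        rw [Spec.SpFour.norm, orderOf_injective φ hφ]
        rw [succ_nsmul, mul_comm, mul_nsmul, two_nsmul, add_self_zero (F := F), zero_add] at h0
        exact h0
    · rw [pow_add, ← map_pow φ g (orderOf g), pow_orderOf_eq_one, map_one, mul_one]
  · rintro d ⟨i, hd⟩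
    obtain ⟨g, hg, h | ⟨h, w, hw⟩⟩ := (exists_wit hab i).2
    · exact ⟨φ g, Subgroup.mem_map_of_mem _ hg, Or.inl (by rw [orderOf_injective φ hφ, h]; exact hd)⟩
    · refine ⟨φ g, Subgroup.mem_map_of_mem _ hg, Or.inr ⟨w, ?_, by rw [orderOf_injective φ hφ, h]; exact hd⟩⟩
      rw [Spec.SpFour.norm, orderOf_injective φ hφ]
      exact hw
  · exact ⟨fun _ => 1, fun h => one_ne_zero (congrFun h (Sum.inr 0))⟩

end Orth

end CfsgLib.MaxSub.SpecEight
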