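import Cfsg.Agent.Lib.MaxSub.TFormBoot
import Cfsg.Agent.Lib.MaxSub.TensorFrame
import Cfsg.Agent.Lib.MaxSub.TensorMatrix
import Cfsg.Agent.Lib.MaxSub.HermFull
import Cfsg.Agent.Lib.Classical.HermOrder

/-!
The stabiliser of a tensor decomposition `GU ⊗ GU` is maximal in `SU`.
-/

set_option autoImplicit false
set_option linter.unusedSectionVars false
set_option linter.unusedSimpArgs false
set_option maxHeartbeats 1000000

namespace CfsgLib.MaxSub.TensorUnit

open Matrix
open CfsgLib.MaxSub
open scoped MatrixGroups Kronecker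
open CfsgLib.Classical (glLin glLin_apply qFrob qFrob_apply qFrob_qFrob qFrob_ne_id)

variable {F : Type*} [Field F] [Fintype F] {n q : ℕ} {n₁ n₂ : ℕ}

/-- pure tensors span -/
theorem span_pure (e : Fin n ≃ Fin n₁ × Fin n₂) (P : GL (Fin n) F) :
    Submodule.span F (Set.range fun p : (Fin n₁ → F) × (Fin n₂ → F) =>
      TensorFrame.pure e P p.1 p.2) = ⊤ := by
  classical
  refine eq_top_iff.2 fun x _ => ?_
  have hx : x = ∑ i, (((P⁻¹ : GL (Fin n) F) : Matrix (Fin n) (Fin n) F) *ᵥ x) i •
      TensorFrame.pure e P (Pi.single (e i).1 1) (Pi.single (e i).2 1) := by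
    have hp : ∀ i, TensorFrame.pure e P (Pi.single (e i).1 1) (Pi.single (e i).2 1) =
        (P : Matrix (Fin n) (Fin n) F) *ᵥ Pi.single i 1 := fun i => by
      rw [TensorFrame.pure_def]
      congr 1
      funext j
      by_cases h : j = i
      · subst h; simp
      · have hne : e j ≠ e i := fun h' => h (e.injective h')
        simp only [Function.comp_apply, Pi.single_apply, h, if_false, mul_ite, mul_one, mul_zero]
        split_ifs with h1 h2 <;> first | rfl | exact absurd (Prod.ext ‹_› ‹_›) hne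
    simp only [hp, ← mulVec_smul]
    rw [← Matrix.mulVec_sum]
    conv_lhs => rw [← mulVec_mulVec_inv P x]
    congr 1
    exact pi_eq_sum_univ' _
  rw [hx]
  exact Submodule.sum_mem _ fun i _ => Submodule.smul_mem _ _ (Submodule.subset_span ⟨(_, _), rfl⟩)

/-- maps agreeing on pure tensors agree -/
theorem eq_of_pure (e : Fin n ≃ Fin n₁ × Fin n₂) (P : GL (Fin n) F)
    {f g : (Fin n → F) →ₗ[F] (Fin n → F)}
    (h : ∀ x y, f (TensorFrame.pure e P x y) = g (TensorFrame.pure e P x y)) : f = g :=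
  LinearMap.ext_on_range (span_pure e P) fun p => h p.1 p.2

/-- a cubic unipotent map has determinant one -/
theorem det_cubic {k : ℕ} {u : GL (Fin k) F}
    (h : ((u : Matrix (Fin k) (Fin k) F) - 1) ^ 3 = 0) : (u : Matrix (Fin k) (Fin k) F).det = 1 := by
  classical
  obtain ⟨p, hp⟩ := CharP.exists F
  haveI := hp
  haveI hpf : Fact p.Prime := ⟨CharP.char_is_prime F p⟩
  rcases Nat.eq_zero_or_pos k with rfl | hk
  · exact Matrix.det_fin_zero
  haveI : Nonempty (Fin k) := ⟨⟨0, hk⟩⟩
  haveI : CharP (Matrix (Fin k) (Fin k) F) p := inferInstance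
  have h3 : 3 ≤ p ^ 2 := by have := hpf.1.two_le; nlinarith
  have h1 : ((u : Matrix (Fin k) (Fin k) F) - 1) ^ p ^ 2 = 0 := pow_eq_zero_of_le h3 h
  rw [sub_pow_char_pow_of_commute (R := Matrix (Fin k) (Fin k) F) (p := p) 2 (Commute.one_right _),
    one_pow, sub_eq_zero] at h1
  have h2 := congrArg Matrix.det h1
  rw [det_pow, det_one] at h2
  refine iterateFrobenius_inj F p 2 ?_
  simpa [iterateFrobenius_def] using h2

section
variable (hF : Fintype.card F = q ^ 2)
include hF

theorem exists_real (hq : q ≠ 2) : ∃ R : F, qFrob hF R = R ∧ R ≠ 0 ∧ R ≠ 1 := by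
  classical
  by_contra hno
  simp only [not_exists, not_and, not_not] at hno
  have hq2 := CfsgLib.Classical.two_le_of_card_sq hF
  obtain ⟨g, hg⟩ := IsCyclic.exists_generator (α := Fˣ)
  have hreal : qFrob hF ((g : F) ^ (q + 1)) = (g : F) ^ (q + 1) := by
    rw [map_pow, qFrob_apply, pow_succ (g : F) q]
    have h := qFrob_qFrob hF (g : F)
    rw [qFrob_apply, qFrob_apply] at h
    rw [pow_succ ((g : F) ^ q) q, h, mul_comm]
  have h1 := hno _ hreal (pow_ne_zero _ g.ne_zero)
  have h2 : g ^ (q + 1) = 1 := Units.ext (by rw [Units.val_pow_eq_pow_val, h1, Units.val_one])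
  have h3 := orderOf_dvd_of_pow_eq_one h2
  rw [orderOf_eq_card_of_forall_mem_zpowers hg, CfsgLib.Classical.units_card_sq hF] at h3
  have h4 := Nat.le_of_dvd (by omega) h3
  have h5 : 2 ≤ q - 1 := by omega
  nlinarith [Nat.mul_le_mul_right (q + 1) h5]

/-- the stabiliser of a unitary tensor decomposition is maximal in `SU`, second factor of dimension at least four -/
theorem tensor_unitary_maximal' (hn2 : 3 ≤ n₂) (h1 : 2 ≤ n₁) (h12 : n₁ < n₂) (hex : ¬ (n₁ = 2 ∧ q = 2))
    (e : Fin n ≃ Fin n₁ × Fin n₂) (P : GL (Fin n) F) (f₁ : (Fin n₁ → F) → (Fin n₁ → F) → F)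
    (f₂ : (Fin n₂ → F) → (Fin n₂ → F) → F) (hf₁ : Cfsg.Geo.IsUnitaryFormPow q f₁)
    (hf₂ : Cfsg.Geo.IsUnitaryFormPow q f₂)
    (hT : Cfsg.Geo.IsTensorFormStructure (fun x : F => x ^ q) (Cfsg.hermForm n F q) f₁ f₂ e P) :
    Cfsg.Geo.IsMaximalIn (Cfsg.GU n F q ⊓ Cfsg.Geo.specialLinear (Fin n) F)
      (Cfsg.Geo.tensorProductSubgroup n₁ n₂ e P ⊓ (Cfsg.GU n F q ⊓ Cfsg.Geo.specialLinear (Fin n) F)) := by
  classical
  have hcard : n = n₁ * n₂ := by simpa using Fintype.card_congr e
  have hn : 6 ≤ n := by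
    have : 2 * 3 ≤ n₁ * n₂ := Nat.mul_le_mul h1 hn2
    omega
  have hf := isUnitaryForm_hermForm hF n
  set σ := qFrob hF with hσdef
  have hqa : ∀ x : F, qConj hF x = σ x := fun x => by rw [qConj_apply, qFrob_apply]
  have hσσ : ∀ x, σ (σ x) = x := qFrob_qFrob hF
  have σa : ∀ x : F, x ^ q = σ x := fun x => (qFrob_apply hF x).symm
  -- the factor forms as sesquilinear maps
  have r1 : ∀ {k : ℕ} {f : (Fin k → F) → (Fin k → F) → F}, Cfsg.Geo.IsUnitaryFormPow q f →
      (∀ v x y, f v (x + y) = f v x + f v y) ∧ ∀ (c : F) v x, f v (c • x) = σ c * f v x := by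
    intro k f hf
    refine ⟨fun v x y => ?_, fun c v x => ?_⟩
    · rw [hf.herm v, hf.add_left, σa, map_add, ← σa, ← σa, ← hf.herm, ← hf.herm]
    · rw [hf.herm v, hf.smul_left, σa, map_mul, ← σa (f x v), ← hf.herm]
  let B₁ : (Fin n₁ → F) →ₗ[F] (Fin n₁ → F) →ₛₗ[σ] F := LinearMap.mk₂'ₛₗ (RingHom.id F) σ f₁
    hf₁.add_left hf₁.smul_left (r1 hf₁).1 (r1 hf₁).2
  let B₂ : (Fin n₂ → F) →ₗ[F] (Fin n₂ → F) →ₛₗ[σ] F := LinearMap.mk₂'ₛₗ (RingHom.id F) σ f₂
    hf₂.add_left hf₂.smul_left (r1 hf₂).1 (r1 hf₂).2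
  let BV : (Fin n → F) →ₗ[F] (Fin n → F) →ₛₗ[σ] F := LinearMap.mk₂'ₛₗ (RingHom.id F) σ
    (Cfsg.hermForm n F q) hf.add_left hf.smul_left (herm_add_right hf)
    (fun c v x => by rw [herm_smul_right hf, hqa]; rfl)
  have gram : ∀ {k : ℕ} {f : (Fin k → F) → (Fin k → F) → F}, Cfsg.Geo.IsUnitaryFormPow q f →
      ∀ x y, Cfsg.Geo.formOfGram (fun x : F => x ^ q) (Cfsg.Geo.gramMatrix f) x y = f x y :=
    fun {k f} h => TensorFrame.formOfGram_gram _ f h.add_left h.smul_left (r1 h).1
      (fun c v x => by rw [(r1 h).2, σa])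
  obtain ⟨c, hc0, hpure⟩ := TensorFrame.form_pure (fun u v => mul_pow u v q) hT (gram hf₁) (gram hf₂)
  -- `c` is fixed by the involution
  have hsc : σ c = c := by
    have nz : ∀ {k : ℕ} {f : (Fin k → F) → (Fin k → F) → F}, Cfsg.Geo.IsUnitaryFormPow q f → 1 ≤ k →
        ∃ x y, f x y ≠ 0 := fun {k f} h hk => by
      obtain ⟨x, hx⟩ := (h.nondegenerate (Pi.single ⟨0, hk⟩ 1)
        (fun e0 => by simpa using congrFun e0 ⟨0, hk⟩)).1
      exact ⟨x, _, hx⟩
    obtain ⟨x, x', hx⟩ := nz hf₁ (by omega)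
    obtain ⟨y, y', hy⟩ := nz hf₂ (by omega)
    have h := hpure x' y' x y
    rw [hf.herm, hqa, hpure, map_mul, map_mul, ← σa (f₁ x x'), ← σa (f₂ y y'), ← hf₁.herm,
      ← hf₂.herm] at h
    exact mul_right_cancel₀ (mul_ne_zero
      (fun e0 => hx (by rw [hf₁.herm, e0, zero_pow (fun hq => by simp [hq] at hF)]))
      (fun e0 => hy (by rw [hf₂.herm, e0, zero_pow (fun hq => by simp [hq] at hF)]))) h
  obtain ⟨δ, hδ0, hδ'⟩ := exists_trace_zero hf
  have hδ : δ + σ δ = 0 := by rw [← hqa]; exact hδ'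
  have hsδ : σ δ = -δ := by linear_combination hδ
  -- the system
  let tau := TensorFrame.pure e P
  let fA := B₁
  let fB : (Fin n₂ → F) →ₗ[F] (Fin n₂ → F) →ₛₗ[σ] F := (δ * c) • B₂
  choose C hC using fun w : Fin n₂ → F => TensorFrame.pure_contract e P
    ({ toFun := fun b => fB b w, map_add' := fun a b => by simp,
       map_smul' := fun k a => by simp } : Module.Dual F (Fin n₂ → F))
  choose C' hC' using fun x : Fin n₁ → F => TensorFrame.pure_contract' e P
    ({ toFun := fun a => fA a x, map_add' := fun a b => by simp,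
       map_smul' := fun k a => by simp } : Module.Dual F (Fin n₁ → F))
  let T : TForm.Sys F (Fin n₁ → F) (Fin n₂ → F) (Fin n → F) σ :=
    { tau := tau, fA := fA, fB := fB, form := δ • BV, C := C, C' := C' }
  have good : T.Good 1 :=
    { invol := hσσ
      eps := one_ne_zero
      hermA := fun x y => by
        rw [one_mul, ← σa]
        exact hf₁.herm y x
      skewB := fun x y => by
        show δ * c * f₂ y x = -σ (δ * c * f₂ x y)
        rw [map_mul, map_mul, hsδ, hsc, hf₂.herm y x, σa]; ring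
      nondegA := fun x hx => by
        by_contra hx0
        obtain ⟨y, hy⟩ := (hf₁.nondegenerate x hx0).2
        exact hy (hx y)
      nondegB := fun x hx => by
        by_contra hx0
        obtain ⟨y, hy⟩ := (hf₂.nondegenerate x hx0).2
        exact mul_ne_zero (mul_ne_zero hδ0 hc0) hy (hx y)
      form_tau := fun a b a' b' => by
        show δ * Cfsg.hermForm n F q (tau a b) (tau a' b') = f₁ a a' * (δ * c * f₂ b b')
        rw [hpure]; ring
      C_tau := fun w a b => hC w a b
      C'_tau := fun x a b => hC' x b a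
      span := span_pure e P }
  -- elements of the stabiliser
  set K := Cfsg.GU n F q ⊓ Cfsg.Geo.specialLinear (Fin n) F with hK
  set S := Cfsg.Geo.tensorProductSubgroup n₁ n₂ e P with hS
  have tens_apply : ∀ (u : GL (Fin n₁) F) (v : GL (Fin n₂) F) x y,
      glLin (TensorMax.tensGL e P u v) (tau x y) =
        tau ((u : Matrix (Fin n₁) (Fin n₁) F) *ᵥ x) ((v : Matrix (Fin n₂) (Fin n₂) F) *ᵥ y) := by
    intro u v x y
    rw [glLin_apply, TensorMax.tensGL_val]
    show _ *ᵥ TensorFrame.pure e P x y = TensorFrame.pure e P _ _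
    rw [TensorFrame.pure_def, TensorFrame.pure_def, mulVec_mulVec, Matrix.mul_assoc, ← Units.val_mul,
      inv_mul_cancel, Units.val_one, mul_one, ← mulVec_mulVec]
    congr 1
    funext i
    simp only [mulVec, dotProduct, reindex_apply, submatrix_apply, Equiv.symm_symm, Function.comp_apply]
    rw [Equiv.sum_comp e (fun p : Fin n₁ × Fin n₂ =>
      ((u : Matrix (Fin n₁) (Fin n₁) F) ⊗ₖ (v : Matrix (Fin n₂) (Fin n₂) F)) (e i) p * (x p.1 * y p.2)),
      Fintype.sum_prod_type, Finset.sum_mul_sum]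
    exact Finset.sum_congr rfl fun p _ => Finset.sum_congr rfl fun r _ => by
      rw [kroneckerMap_apply]; ring
  have isom_of_pure : ∀ g : GL (Fin n) F, (∀ a b a' b', T.form (glLin g (tau a b)) (glLin g (tau a' b')) =
      T.form (tau a b) (tau a' b')) → g ∈ Cfsg.GU n F q := by
    intro g hg
    have h2 : ∀ x y, T.form (glLin g x) (glLin g y) = T.form x y := by
      intro x y
      refine good.induction (p := fun x => T.form (glLin g x) (glLin g y) = T.form x y) (by simp)
        (fun u u' hu hu' => by simp only [map_add, LinearMap.add_apply, hu, hu']) (fun a b => ?_) x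
      exact good.induction (p := fun y => T.form (glLin g (tau a b)) (glLin g y) = T.form (tau a b) y)
        (by simp) (fun u u' hu hu' => by simp only [map_add, LinearMap.add_apply, hu, hu'])
        (fun a' b' => hg a b a' b') y
    intro x y
    exact mul_left_cancel₀ hδ0 (h2 x y)
  have hH : S ⊓ K ≤ K := inf_le_right
  -- the overgroup
  refine ⟨lt_of_le_of_ne hH ?_, fun M hM1 hM2 => ?_⟩
  swap
  · set H : Subgroup ((Fin n → F) ≃ₗ[F] (Fin n → F)) := M.map glLin.toMonoidHom with hHdef
    have toMat : ∀ {k : ℕ} (g : (Fin k → F) ≃ₗ[F] (Fin k → F)), TForm.Cubic g →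
        ∃ u : GL (Fin k) F, (∀ x, (u : Matrix (Fin k) (Fin k) F) *ᵥ x = g x) ∧
          (u : Matrix (Fin k) (Fin k) F).det = 1 := by
      intro k g hg
      obtain ⟨u, rfl⟩ := (glLin (F := F) (ι := Fin k)).surjective g
      refine ⟨u, fun x => (glLin_apply u x).symm, det_cubic (Matrix.ext_of_mulVec_single fun i => ?_)⟩
      rw [zero_mulVec]
      have h := hg (Pi.single i 1)
      simp only [glLin_apply] at h
      rw [pow_three, ← mulVec_mulVec, ← mulVec_mulVec]
      simp only [sub_mulVec, one_mulVec]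
      exact h
    have U : TForm.UData T H :=
      { good := good
        isom := by
          rintro _ ⟨g, hg, rfl⟩ x y
          show δ * Cfsg.hermForm n F q (glLin g x) (glLin g y) = δ * Cfsg.hermForm n F q x y
          rw [glLin_apply, glLin_apply]
          congr 1
          exact (hM2 hg).1 x y
        neId := qFrob_ne_id hF
        norm := fun a ha => by
          obtain ⟨l, hl⟩ := exists_norm_eq hf (e := a) (by rw [hqa]; exact ha)
          exact ⟨l, by rw [← hl, hqa, mul_comm]⟩
        pureA := fun g hg hg3 => by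
          obtain ⟨u, hu, hd⟩ := toMat g hg3
          refine ⟨glLin (TensorMax.tensGL e P u 1), ⟨_, hM1 ⟨TensorMax.tensGL_mem e P u 1,
            isom_of_pure _ fun a b a' b' => ?_, TensorMax.tensGL_mem_SL e P u 1 hd (by simp)⟩, rfl⟩,
            fun a b => ?_⟩
          · rw [tens_apply, tens_apply, hu, hu, Units.val_one, one_mulVec, one_mulVec,
              good.form_tau, good.form_tau, hg]
          · show glLin _ (tau a b) = tau (g a) b
            rw [tens_apply, hu, Units.val_one, one_mulVec]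
        pureB := fun g hg hg3 => by
          obtain ⟨u, hu, hd⟩ := toMat g hg3
          refine ⟨glLin (TensorMax.tensGL e P 1 u), ⟨_, hM1 ⟨TensorMax.tensGL_mem e P 1 u,
            isom_of_pure _ fun a b a' b' => ?_, TensorMax.tensGL_mem_SL e P 1 u (by simp) hd⟩, rfl⟩,
            fun a b => ?_⟩
          · rw [tens_apply, tens_apply, hu, hu, Units.val_one, one_mulVec, one_mulVec,
              good.form_tau, good.form_tau, hg]
          · show glLin _ (tau a b) = tau a (g b)
            rw [tens_apply, hu, Units.val_one, one_mulVec]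
        dimA := by rw [Module.finrank_fin_fun]; exact h1
        lt := by rw [Module.finrank_fin_fun, Module.finrank_fin_fun]; exact h12
        dimB := by rw [Module.finrank_fin_fun]; exact hn2
        big := fun h => by
          rw [Module.finrank_fin_fun] at h
          exact exists_real hF fun hq => hex ⟨h, hq⟩ }
    by_cases hno : TForm.NoTv T H
    · left
      refine le_antisymm (fun g hg => ⟨?_, hM2 hg⟩) hM1
      obtain ⟨Mf, hf', hgab⟩ := U.kron_all hno (h := glLin g) ⟨g, hg, rfl⟩
      obtain ⟨a₀, ha₀⟩ : ∃ a : Fin n₁ → F, a ≠ 0 := ⟨Pi.single ⟨0, by omega⟩ 1, fun e0 => by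
        simpa using congrFun e0 ⟨0, by omega⟩⟩
      obtain ⟨b₀, hb₀⟩ : ∃ b : Fin n₂ → F, b ≠ 0 := ⟨Pi.single ⟨0, by omega⟩ 1, fun e0 => by
        simpa using congrFun e0 ⟨0, by omega⟩⟩
      have hMinj : Function.Injective Mf := by
        refine (injective_iff_map_eq_zero Mf).2 fun a ha => ?_
        have h0 : tau a b₀ = 0 := (glLin g).injective (by
          rw [map_zero]
          show glLin g (T.tau a b₀) = 0
          rw [hgab, ha, map_zero, LinearMap.zero_apply])
        by_contra ha0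
        exact hb₀ (good.tau_right_inj ha0 (h0.trans (map_zero (tau a)).symm))
      have hhinj : Function.Injective hf' := by
        refine (injective_iff_map_eq_zero hf').2 fun b hb => ?_
        have h0 : tau a₀ b = 0 := (glLin g).injective (by
          rw [map_zero]
          show glLin g (T.tau a₀ b) = 0
          rw [hgab, hb, map_zero])
        exact good.tau_right_inj ha₀ (h0.trans (map_zero (tau a₀)).symm)
      obtain ⟨u, hu⟩ := (glLin (F := F) (ι := Fin n₁)).surjective (LinearEquiv.ofInjectiveEndo Mf hMinj)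
      obtain ⟨v, hv⟩ := (glLin (F := F) (ι := Fin n₂)).surjective (LinearEquiv.ofInjectiveEndo hf' hhinj)
      have hge : g = TensorMax.tensGL e P u v := glLin.injective (LinearEquiv.ext fun x =>
        LinearMap.congr_fun (eq_of_pure e P (f := (glLin g).toLinearMap)
          (g := (glLin (TensorMax.tensGL e P u v)).toLinearMap) fun a b => by
          show glLin g (tau a b) = glLin _ (tau a b)
          rw [tens_apply, ← glLin_apply, ← glLin_apply, hu, hv]
          exact hgab a b) x)
      rw [hge]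
      exact TensorMax.tensGL_mem e P u v
    · right
      refine le_antisymm hM2 (su_le_of_uFull hF (by omega) fun v hv => ⟨hv, fun k hk => ?_⟩)
      have hv' : T.form v v = 0 := by
        show δ * Cfsg.hermForm n F q v v = 0
        rw [hv, mul_zero]
      obtain ⟨-, hfull⟩ := U.full_all hno hv'
      rw [hqa] at hk
      obtain ⟨_, ⟨g, hg, rfl⟩, hgx⟩ := hfull (k / δ) (by
        rw [map_div₀, hsδ, eq_neg_of_add_eq_zero_right hk, neg_div_neg_eq])
      refine ⟨by rw [smul_dotProduct, hDual_dot hf, hv, smul_zero], g, hg,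
        Matrix.ext_of_mulVec_single fun i => ?_⟩
      rw [uTv_mulVec hf, ← glLin_apply]
      refine (hgx _).trans ?_
      show _ + (k / δ * (δ * Cfsg.hermForm n F q _ v)) • v = _
      rw [← mul_assoc, div_mul_cancel₀ _ hδ0]
  -- a transvection at a pure singular vector is not pure
  intro hEq
  have hdimA : 2 ≤ Module.finrank F (Fin n₁ → F) := by rw [Module.finrank_fin_fun]; exact h1
  have hermA : CfsgLib.Classical.IsHermSpace T.fA.flip :=
    { conj := fun u v => by
        show σ (T.fA v u) = T.fA u v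
        rw [good.hermA v u, one_mul]
      sep := fun x hx => good.nondegA x fun y => good.A_flip_zero (hx y)
      invol := hσσ
      ne_id := qFrob_ne_id hF
      norm_surj := fun a ha => by
        obtain ⟨l, hl⟩ := exists_norm_eq hf (e := a) (by rw [hqa]; exact ha)
        exact ⟨l, by rw [← hl, hqa, mul_comm]⟩ }
  have hermB : CfsgLib.Classical.IsHermSpace ((δ • T.fB).flip) :=
    { conj := fun u v => by
        show σ (δ * T.fB v u) = δ * T.fB u v
        rw [map_mul, hsδ, good.skewB v u]; ring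
      sep := fun x hx => good.nondegB x fun y => good.B_flip_zero
        ((mul_eq_zero.1 (show δ * T.fB y x = 0 from hx y)).resolve_left hδ0)
      invol := hσσ
      ne_id := qFrob_ne_id hF
      norm_surj := hermA.norm_surj }
  obtain ⟨a, ha0, -, haa⟩ := hermA.exists_perp_isotropic (k := 0) ![] (by omega)
  obtain ⟨u, hau, -⟩ := hermA.exists_hyperbolic ha0 haa
  obtain ⟨z, hz0, -, hzz⟩ := hermB.exists_perp_isotropic (k := 0) ![]
    (by rw [Module.finrank_fin_fun]; omega)
  obtain ⟨b, hzb, hbb⟩ := hermB.exists_hyperbolic hz0 hzz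
  replace haa : T.fA a a = 0 := haa
  replace hau : T.fA u a = 1 := hau
  replace hzz : T.fB z z = 0 := (mul_eq_zero.1 (show δ * T.fB z z = 0 from hzz)).resolve_left hδ0
  replace hbb : T.fB b b = 0 := (mul_eq_zero.1 (show δ * T.fB b b = 0 from hbb)).resolve_left hδ0
  have hbz : T.fB b z ≠ 0 := fun e0 => by
    have h : δ * T.fB b z = 1 := hzb
    rw [e0, mul_zero] at h
    exact zero_ne_one h
  set ν := tau a z with hν
  have hνν : Cfsg.hermForm n F q ν ν = 0 := by
    refine mul_left_cancel₀ hδ0 ?_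
    rw [mul_zero]
    show T.form (T.tau a z) (T.tau a z) = 0
    rw [good.form_tau, haa, zero_mul]
  have hh : (δ • hDual (Cfsg.hermForm n F q) ν) ⬝ᵥ ν = 0 := by
    rw [smul_dotProduct, hDual_dot hf, hνν, smul_zero]
  have hgK := uTv_mem_su hF hνν hδ' hh
  have hgH : tvGL ν (δ • hDual (Cfsg.hermForm n F q) ν) hh ∈ S ⊓ K := by
    rw [hEq]; exact hgK
  obtain ⟨au, bv, hab⟩ := TensorFrame.tensor_mem hgH.1
  have h := hab u b
  rw [coe_tvGL, uTv_mulVec hf] at h
  change T.tau u b + T.form (T.tau u b) (T.tau a z) • T.tau a z = T.tau _ _ at h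
  rw [good.form_tau, hau, one_mul] at h
  have hzb' : T.fB z b ≠ 0 := fun e0 => hbz (good.B_flip_zero e0)
  have hh1 := congrArg (T.C b) h
  rw [map_add, map_smul, good.C_tau, good.C_tau, good.C_tau, hbb, zero_smul, zero_add, smul_smul] at hh1
  set A' := (au : Matrix (Fin n₁) (Fin n₁) F) *ᵥ u with hA'
  set B' := (bv : Matrix (Fin n₂) (Fin n₂) F) *ᵥ b with hB'
  have hh2 := congrArg (T.C' a) h
  rw [map_add, map_smul, good.C'_tau, good.C'_tau, good.C'_tau, haa, hau, zero_smul, smul_zero,
    add_zero, one_smul] at hh2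
  have hh3 : T.fA A' a * T.fB B' b = 0 := by
    have h3 := congrArg (fun y => T.fA y a) hh1
    simp only [map_smul, LinearMap.smul_apply, smul_eq_mul, haa, mul_zero] at h3
    linear_combination -h3
  rcases mul_eq_zero.1 hh3 with h4 | h4
  · rw [h4, zero_smul] at hh2
    exact hbz (by rw [hh2, map_zero, LinearMap.zero_apply])
  · rw [h4, zero_smul] at hh1
    exact ha0 ((smul_eq_zero.1 hh1).resolve_left (mul_ne_zero hbz hzb'))

/-- the stabiliser of a unitary tensor decomposition is maximal in `SU`, dimension at least thirteen -/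
theorem tensor_unitary_maximal (hn : 13 ≤ n) (h1 : 2 ≤ n₁) (h12 : n₁ < n₂) (hex : ¬ (n₁ = 2 ∧ q = 2))
    (e : Fin n ≃ Fin n₁ × Fin n₂) (P : GL (Fin n) F) (f₁ : (Fin n₁ → F) → (Fin n₁ → F) → F)
    (f₂ : (Fin n₂ → F) → (Fin n₂ → F) → F) (hf₁ : Cfsg.Geo.IsUnitaryFormPow q f₁)
    (hf₂ : Cfsg.Geo.IsUnitaryFormPow q f₂)
    (hT : Cfsg.Geo.IsTensorFormStructure (fun x : F => x ^ q) (Cfsg.hermForm n F q) f₁ f₂ e P) :
    Cfsg.Geo.IsMaximalIn (Cfsg.GU n F q ⊓ Cfsg.Geo.specialLinear (Fin n) F)
      (Cfsg.Geo.tensorProductSubgroup n₁ n₂ e P ⊓ (Cfsg.GU n F q ⊓ Cfsg.Geo.specialLinear (Fin n) F)) := by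
  have hcard : n = n₁ * n₂ := by simpa using Fintype.card_congr e
  refine tensor_unitary_maximal' hF ?_ h1 h12 hex e P f₁ f₂ hf₁ hf₂ hT
  by_contra h
  have : n₁ * n₂ ≤ 3 * 3 := Nat.mul_le_mul (by omega) (by omega)
  omega

end

end CfsgLib.MaxSub.TensorUnit
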