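import Cfsg.Agent.Lib.MaxSub.Circle
import Cfsg.Agent.Lib.MaxSub.HermPerp
import Cfsg.Agent.Lib.MaxSub.BlockMono

/-!
The unitary group in a frame adapted to an orthogonal decomposition of the coordinates.
-/

set_option autoImplicit false
set_option linter.unusedSectionVars false

namespace CfsgLib.MaxSub.UFrame

open Matrix CfsgLib.MaxSub CfsgLib.MaxSub.DecompMax
open scoped MatrixGroups

variable {F : Type*} [Field F] [Fintype F] {q n t : ℕ} (hF : Fintype.card F = q ^ 2)

theorem f_apply (u v : Fin n → F) : Cfsg.hermForm n F q u v = ∑ i, u i * qConj hF (v i) := by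
  simp [Cfsg.hermForm, qConj_apply]

include hF in
theorem f_single_right (u : Fin n → F) (i : Fin n) (c : F) :
    Cfsg.hermForm n F q u (Pi.single i c) = u i * qConj hF c := by
  rw [f_apply hF, Finset.sum_eq_single i (fun j _ hj => by simp [hj]) (by simp), Pi.single_eq_same]

include hF in
theorem f_single_left (v : Fin n → F) (i : Fin n) (c : F) :
    Cfsg.hermForm n F q (Pi.single i c) v = c * qConj hF (v i) := by
  rw [f_apply hF, Finset.sum_eq_single i (fun j _ hj => by simp [hj]) (by simp), Pi.single_eq_same]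

theorem mem_su {g : GL (Fin n) F}
    (hiso : ∀ x y, Cfsg.hermForm n F q ((g : Matrix (Fin n) (Fin n) F) *ᵥ x)
      ((g : Matrix (Fin n) (Fin n) F) *ᵥ y) = Cfsg.hermForm n F q x y)
    (hdet : (g : Matrix (Fin n) (Fin n) F).det = 1) :
    g ∈ Cfsg.GU n F q ⊓ Cfsg.Geo.specialLinear (Fin n) F := ⟨hiso, (mem_sl_iff g).2 hdet⟩

theorem monMat_iso {σ : Equiv.Perm (Fin n)} {d : Fin n → F} (hd : ∀ i, d i * qConj hF (d i) = 1)
    (x y : Fin n → F) : Cfsg.hermForm n F q (monMat σ d *ᵥ x) (monMat σ d *ᵥ y) = Cfsg.hermForm n F q x y := by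
  rw [f_apply hF, f_apply hF, ← Equiv.sum_comp σ]
  refine Finset.sum_congr rfl fun i _ => ?_
  rw [monMat_mulVec, monMat_mulVec, map_mul]
  linear_combination (x i * qConj hF (y i)) * hd i

theorem diag_mulVec (d x : Fin n → F) : monMat 1 d *ᵥ x = fun i => d i * x i :=
  funext fun i => by simpa using monMat_mulVec 1 d x i

theorem exists_nonreal : ∃ τ : F, qConj hF τ ≠ τ := by
  by_contra h
  simp only [not_exists, not_not] at h
  exact (isUnitaryForm_hermForm hF 1).ne_refl (RingEquiv.ext h)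

theorem exists_norm {a : F} (ha : qConj hF a = a) : ∃ c, c * qConj hF c = a :=
  exists_norm_eq (isUnitaryForm_hermForm hF 1) ha

/-- prescribed non-zero trace, not fixed -/
theorem exists_trace_nonfixed {a : F} (ha : qConj hF a = a) (ha0 : a ≠ 0) :
    ∃ δ, δ + qConj hF δ = a ∧ qConj hF δ ≠ δ := by
  obtain ⟨k, hk⟩ := exists_trace_eq (isUnitaryForm_hermForm hF 1) ha
  by_cases h : qConj hF k = k
  · obtain ⟨c, hc0, hc⟩ := exists_trace_zero (isUnitaryForm_hermForm hF 1)
    refine ⟨k + c, by rw [map_add]; linear_combination hk + hc, ?_⟩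
    rw [map_add, h]
    intro e
    rw [add_left_cancel e] at hc
    rw [h] at hk
    have h2 : (2 : F) = 0 := (mul_eq_zero.1 (show (2 : F) * c = 0 by linear_combination hc)).resolve_right hc0
    exact ha0 (by rw [← hk]; linear_combination k * h2)
  · exact ⟨k, hk, h⟩

/-- the vectors supported in one block -/
def blockSub (blk : Fin n → Fin t) (a : Fin t) : Submodule F (Fin n → F) where
  carrier := {x | ∀ i, blk i ≠ a → x i = 0}
  add_mem' {x y} hx hy := fun i hi => by rw [Pi.add_apply, hx i hi, hy i hi, add_zero]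
  zero_mem' := fun i _ => rfl
  smul_mem' c x hx := fun i hi => by rw [Pi.smul_apply, hx i hi, smul_zero]

/-- the component in one block -/
def comp (blk : Fin n → Fin t) (a : Fin t) (x : Fin n → F) : Fin n → F := fun i => if blk i = a then x i else 0

variable {blk : Fin n → Fin t}

theorem comp_mem (a : Fin t) (x : Fin n → F) : comp blk a x ∈ blockSub blk a := fun i hi => by simp [comp, hi]

theorem comp_self {a : Fin t} {x : Fin n → F} (hx : x ∈ blockSub blk a) : comp blk a x = x :=
  funext fun i => by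
    by_cases h : blk i = a
    · simp [comp, h]
    · simp [comp, h, hx i h]

theorem comp_other {a b : Fin t} {x : Fin n → F} (hx : x ∈ blockSub blk a) (hab : b ≠ a) : comp blk b x = 0 :=
  funext fun i => by
    by_cases h : blk i = b
    · simp [comp, h, hx i (h ▸ hab)]
    · simp [comp, h]

theorem single_mem_blockSub (i : Fin n) (c : F) : (Pi.single i c : Fin n → F) ∈ blockSub blk (blk i) := fun j hj => by
  have : j ≠ i := fun e => hj (by rw [e])
  simp [this]

include hF in
theorem f_comp_left (a : Fin t) (x y : Fin n → F) :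
    Cfsg.hermForm n F q (comp blk a x) y = Cfsg.hermForm n F q (comp blk a x) (comp blk a y) := by
  rw [f_apply hF, f_apply hF]
  refine Finset.sum_congr rfl fun i _ => ?_
  by_cases h : blk i = a <;> simp [comp, h]

include hF in
theorem f_blocks {a : Fin t} {x : Fin n → F} (hx : x ∈ blockSub blk a) (y : Fin n → F) :
    Cfsg.hermForm n F q x y = Cfsg.hermForm n F q x (comp blk a y) := by
  conv_lhs => rw [← comp_self hx]
  rw [f_comp_left hF, comp_self hx]

include hF in
theorem f_cross {a b : Fin t} (hab : a ≠ b) {x y : Fin n → F} (hx : x ∈ blockSub blk a) (hy : y ∈ blockSub blk b) :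
    Cfsg.hermForm n F q x y = 0 := by
  rw [f_blocks hF hx, comp_other hy hab]
  exact herm_zero_right (isUnitaryForm_hermForm hF n) x

/-- `M` contains every block monomial element of the special unitary group. -/
def IsOver (blk : Fin n → Fin t) (M : Subgroup (GL (Fin n) F)) (q : ℕ) : Prop :=
  ∀ g ∈ Cfsg.GU n F q ⊓ Cfsg.Geo.specialLinear (Fin n) F, IsBlockMono blk (g : Matrix (Fin n) (Fin n) F) → g ∈ M

theorem isBlockMono_of_maps {g : Matrix (Fin n) (Fin n) F} (π : Fin t → Fin t)
    (h : ∀ i, g *ᵥ Pi.single i 1 ∈ blockSub blk (π (blk i))) : IsBlockMono blk g := by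
  refine fun a => ⟨π a, fun i j hi hj => ?_⟩
  have := h i j (by rw [hi]; exact hj)
  rwa [mulVec_single_one] at this

include hF in
theorem uFull_block {M : Subgroup (GL (Fin n) F)} (hM : IsOver blk M q) {a : Fin t} {v : Fin n → F}
    (hv : v ∈ blockSub blk a) (h0 : Cfsg.hermForm n F q v v = 0) :
    UFull (qConj hF) (Cfsg.hermForm n F q) M v := by
  have hf := isUnitaryForm_hermForm hF n
  refine ⟨h0, fun c hc => ?_⟩
  have h : (c • hDual (Cfsg.hermForm n F q) v) ⬝ᵥ v = 0 := by
    rw [smul_dotProduct, hDual_dot hf, h0, smul_zero]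
  refine ⟨h, tvGL v _ h, hM _ (uTv_mem_su hF h0 hc h) (isBlockMono_of_maps id fun i => ?_), coe_tvGL _ _ _⟩
  rw [coe_tvGL, uTv_mulVec hf]
  refine add_mem (single_mem_blockSub i 1) ?_
  by_cases hi : blk i = a
  · rw [id, hi]; exact (blockSub blk a).smul_mem _ hv
  · rw [f_cross hF hi (single_mem_blockSub i 1) hv, mul_zero, zero_smul]
    exact zero_mem _

include hF in
theorem mon_mem {M : Subgroup (GL (Fin n) F)} (hM : IsOver blk M q) (σ : Equiv.Perm (Fin n)) (ρ : Fin t → Fin t)
    (hρ : ∀ i, blk (σ i) = ρ (blk i)) (d : Fin n → F) (hd : ∀ i, d i * qConj hF (d i) = 1)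
    (hdet : ((Equiv.Perm.sign σ : ℤ) : F) * ∏ i, d i = 1) :
    ∃ g ∈ M, (g : Matrix (Fin n) (Fin n) F) = monMat σ d ∧
      ∀ x y, Cfsg.hermForm n F q ((g : Matrix (Fin n) (Fin n) F) *ᵥ x) ((g : Matrix (Fin n) (Fin n) F) *ᵥ y) =
        Cfsg.hermForm n F q x y := by
  have hd0 : ∀ i, d i ≠ 0 := fun i => left_ne_zero_of_mul_eq_one (hd i)
  have hiso : ∀ x y, Cfsg.hermForm n F q ((monGL σ d hd0 : Matrix (Fin n) (Fin n) F) *ᵥ x)
      ((monGL σ d hd0 : Matrix (Fin n) (Fin n) F) *ᵥ y) = Cfsg.hermForm n F q x y := fun x y => by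
    rw [coe_monGL]; exact monMat_iso hF hd x y
  exact ⟨monGL σ d hd0, hM _ (mem_su hiso (by rw [coe_monGL, det_monMat, hdet]))
    (isBlockMono_monMat blk σ ρ hρ d), coe_monGL σ d hd0, hiso⟩

include hF in
theorem iso_of_mem {g : GL (Fin n) F} {M : Subgroup (GL (Fin n) F)}
    (hMS : M ≤ Cfsg.GU n F q ⊓ Cfsg.Geo.specialLinear (Fin n) F) (hg : g ∈ M) (x y : Fin n → F) :
    Cfsg.hermForm n F q ((g : Matrix (Fin n) (Fin n) F) *ᵥ x) ((g : Matrix (Fin n) (Fin n) F) *ᵥ y) =
      Cfsg.hermForm n F q x y := (hMS hg).1 x y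

/-- a sign making up the determinant -/
theorem exists_sign_diag (σ : Equiv.Perm (Fin n)) (p : Fin n) :
    ∃ d : Fin n → F, (∀ i, d i * qConj hF (d i) = 1) ∧ (∀ i, i ≠ p → d i = 1) ∧
      ((Equiv.Perm.sign σ : ℤ) : F) * ∏ i, d i = 1 := by
  rcases Int.units_eq_one_or (Equiv.Perm.sign σ) with h | h
  · exact ⟨fun _ => 1, fun i => by simp, fun i _ => rfl, by simp [h]⟩
  · refine ⟨Function.update (fun _ => 1) p (-1), fun i => ?_, fun i hi => Function.update_of_ne hi _ _, ?_⟩
    · by_cases hi : i = p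
      · subst hi; simp
      · simp [hi]
    · rw [prod_update_one, h]; simp

end CfsgLib.MaxSub.UFrame
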