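import Cfsg.Agent.Lib.MaxSub.CircleSix
import Cfsg.Agent.Lib.MaxSub.CircleEight
import Cfsg.Agent.Lib.MaxSub.UFrame
import Cfsg.Agent.Lib.MaxSub.CircleTwelve
import Cfsg.Agent.Lib.MaxSub.CircleTen
import Cfsg.Agent.Lib.MaxSub.CircleNine
import Cfsg.Agent.Lib.Classical.SemiUnitaryClasses

/-!
An overgroup of the monomial group with a non-monomial element has one fixing a coordinate line.
-/

set_option autoImplicit false
set_option linter.unusedSectionVars false

namespace CfsgLib.MaxSub.UFrame.Mono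

open Matrix CfsgLib.MaxSub CfsgLib.MaxSub.DecompMax CfsgLib.MaxSub.UFrame
open scoped MatrixGroups

variable {F : Type*} [Field F] [Fintype F] [DecidableEq F] {q n : ℕ} (hF : Fintype.card F = q ^ 2)

/-- the setting: an overgroup of the monomial elements inside `SU` -/
structure MSetting (n q : ℕ) (M : Subgroup (GL (Fin n) F)) : Prop where
  hn : 4 ≤ n
  big : n = 4 ∨ n = 8 ∨ 9 ≤ n ∨ (n = 6 ∧ 3 ≤ q)
  le : M ≤ Cfsg.GU n F q ⊓ Cfsg.Geo.specialLinear (Fin n) F
  mons : IsOver (id : Fin n → Fin n) M q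

/-- every column has at most one non-zero entry -/
def IsMono (x : GL (Fin n) F) : Prop := IsBlockMono id (x : Matrix (Fin n) (Fin n) F)

theorem IsMono.col {x : GL (Fin n) F} (h : IsMono x) (l : Fin n) :
    ∃ b, ∀ m, m ≠ b → (x : Matrix (Fin n) (Fin n) F) m l = 0 := by
  obtain ⟨b, hb⟩ := h l
  exact ⟨b, fun m hm => hb l m rfl hm⟩

/-- the support -/
def supp (v : Fin n → F) : Finset (Fin n) := Finset.univ.filter fun i => v i ≠ 0

theorem mem_supp {v : Fin n → F} {i : Fin n} : i ∈ supp v ↔ v i ≠ 0 := by simp [supp]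

variable {M : Subgroup (GL (Fin n) F)}

include hF in
theorem inv_entry (st : MSetting n q M) {x : GL (Fin n) F} (hx : x ∈ M) (i j : Fin n) :
    ((x⁻¹ : GL (Fin n) F) : Matrix (Fin n) (Fin n) F) i j =
      qConj hF ((x : Matrix (Fin n) (Fin n) F) j i) := by
  have hf := isUnitaryForm_hermForm hF n
  have h := iso_of_mem hF st.le hx (((x⁻¹ : GL (Fin n) F) : Matrix (Fin n) (Fin n) F) *ᵥ Pi.single j 1) (Pi.single i 1)
  rw [mulVec_mulVec, ← Units.val_mul, mul_inv_cancel, Units.val_one, one_mulVec, f_single_left hF,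
    f_single_right hF, map_one, mul_one, one_mul] at h
  rw [mulVec_single_one, mulVec_single_one] at h
  exact h.symm

include hF in
theorem orth_rows (st : MSetting n q M) {x : GL (Fin n) F} (hx : x ∈ M) (l m : Fin n) :
    ∑ i, (x : Matrix (Fin n) (Fin n) F) l i * qConj hF ((x : Matrix (Fin n) (Fin n) F) m i) =
      if l = m then 1 else 0 := by
  have h : ((x * x⁻¹ : GL (Fin n) F) : Matrix (Fin n) (Fin n) F) l m = if l = m then 1 else 0 := by
    rw [mul_inv_cancel, Units.val_one, Matrix.one_apply]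
  rw [← h, Units.val_mul, Matrix.mul_apply]
  exact Finset.sum_congr rfl fun i _ => by rw [inv_entry hF st hx]

theorem single_column {x : GL (Fin n) F} {o : Fin n} :
    (x : Matrix (Fin n) (Fin n) F) *ᵥ Pi.single o 1 = fun j => (x : Matrix (Fin n) (Fin n) F) j o :=
  mulVec_single_one _ _

include hF in
theorem diag_conj (st : MSetting n q M) {g : GL (Fin n) F} (hg : g ∈ M) {d : Fin n → F}
    (hd : ∀ i, d i ∈ circ hF) (hp : ∏ i, d i = 1) :
    ∃ x ∈ M, (∀ l m, (x : Matrix (Fin n) (Fin n) F) l m =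
        ∑ i, d i * ((g : Matrix (Fin n) (Fin n) F) l i * qConj hF ((g : Matrix (Fin n) (Fin n) F) m i))) ∧
      ∀ l i, ((x * g : GL (Fin n) F) : Matrix (Fin n) (Fin n) F) l i = (g : Matrix (Fin n) (Fin n) F) l i * d i := by
  obtain ⟨h, hh, hhe, -⟩ := mon_mem hF st.mons 1 id (fun _ => rfl) d (fun i => (mem_circ hF).1 (hd i)) (by simp [hp])
  have hdiag : (h : Matrix (Fin n) (Fin n) F) = Matrix.diagonal d := by
    rw [hhe]
    ext i j
    by_cases e : i = j
    · subst e; simp [monMat]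
    · simp [monMat, e]
  refine ⟨g * h * g⁻¹, mul_mem (mul_mem hg hh) (inv_mem hg), fun l m => ?_, fun l i => ?_⟩
  · rw [Units.val_mul, Units.val_mul, hdiag, Matrix.mul_apply]
    refine Finset.sum_congr rfl fun i _ => ?_
    rw [Matrix.mul_diagonal, inv_entry hF st hg]
    ring
  · rw [inv_mul_cancel_right, Units.val_mul, hdiag, Matrix.mul_diagonal]

/-- identity plus two rank-one maps -/
def IsR2 (x : GL (Fin n) F) (q : ℕ) (α : F) (u : Fin n → F) (β : F) (v : Fin n → F) : Prop :=
  ∀ y, (x : Matrix (Fin n) (Fin n) F) *ᵥ y =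
    y + (α * Cfsg.hermForm n F q y u) • u + (β * Cfsg.hermForm n F q y v) • v

include hF in
theorem IsR2.conj (st : MSetting n q M) {g h : GL (Fin n) F} (hg : g ∈ M) {α β : F} {u v : Fin n → F}
    (hh : IsR2 h q α u β v) : IsR2 (g * h * g⁻¹) q α ((g : Matrix (Fin n) (Fin n) F) *ᵥ u) β
      ((g : Matrix (Fin n) (Fin n) F) *ᵥ v) := fun y => by
  have hback : (g : Matrix (Fin n) (Fin n) F) *ᵥ (((g⁻¹ : GL (Fin n) F) : Matrix (Fin n) (Fin n) F) *ᵥ y) = y :=
    mulVec_mulVec_inv _ _
  have hw : ∀ w, Cfsg.hermForm n F q (((g⁻¹ : GL (Fin n) F) : Matrix (Fin n) (Fin n) F) *ᵥ y) w =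
      Cfsg.hermForm n F q y ((g : Matrix (Fin n) (Fin n) F) *ᵥ w) := fun w => by
    rw [← iso_of_mem hF st.le hg, hback]
  rw [Units.val_mul, Units.val_mul, ← mulVec_mulVec, ← mulVec_mulVec, hh, hw, hw, mulVec_add, mulVec_add,
    mulVec_smul, mulVec_smul, hback]

include hF in
theorem IsR2.entry {x : GL (Fin n) F} {α β : F} {u v : Fin n → F} (hx : IsR2 x q α u β v) (l m : Fin n) :
    (x : Matrix (Fin n) (Fin n) F) l m =
      (if l = m then 1 else 0) + α * qConj hF (u m) * u l + β * qConj hF (v m) * v l := by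
  have h := congrFun (hx (Pi.single m 1)) l
  rw [mulVec_single_one, f_single_left hF, f_single_left hF, one_mul, one_mul] at h
  simpa [Pi.single_apply, Matrix.col_apply] using h

include hF in
/-- a two-entry diagonal element -/
theorem exists_pair_diag (st : MSetting n q M) {p p' : Fin n} (hne : p ≠ p') {μ : F} (hμ : μ ∈ circ hF) :
    ∃ h ∈ M, IsR2 h q (μ - 1) (Pi.single p 1) (qConj hF μ - 1) (Pi.single p' 1) := by
  obtain ⟨h, hh, hhe, -⟩ := mon_mem hF st.mons 1 id (fun _ => rfl) (twoDiag p p' μ) (fun i => by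
    refine (mem_circ hF).1 ?_
    unfold twoDiag
    split_ifs
    · exact hμ
    · exact inv_mem_circ hF hμ
    · exact one_mem_circ hF) (by simp [prod_twoDiag hne (circ_ne_zero hF hμ)])
  refine ⟨h, hh, fun y => ?_⟩
  rw [hhe, diag_mulVec, f_single_right hF, f_single_right hF, circ_conj hF hμ, map_one]
  funext i
  by_cases h1 : i = p
  · subst h1; simp [twoDiag, hne]; ring
  · by_cases h2 : i = p'
    · subst h2; simp [twoDiag, h1]; ring
    · simp [twoDiag, h1, h2]

include hF in
/-- the vectors of a monomial rank-two perturbation are short -/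
theorem supp_le_four {x : GL (Fin n) F} (hm : IsMono x) {α β : F} {u v : Fin n → F} (hx : IsR2 x q α u β v)
    (hα : α ≠ 0) (hβ : β ≠ 0) (hu : u ≠ 0) (hv : v ≠ 0) (huv : Cfsg.hermForm n F q v u = 0)
    (huu : Cfsg.hermForm n F q u u ≠ 0) : (supp u ∪ supp v).card ≤ 4 := by
  classical
  have hf := isUnitaryForm_hermForm hF n
  obtain ⟨l₁, l₂, hdet⟩ : ∃ l₁ l₂, u l₁ * v l₂ - u l₂ * v l₁ ≠ 0 := by
    by_contra hcon
    simp only [not_exists, not_not] at hcon
    obtain ⟨l, hl⟩ : ∃ l, u l ≠ 0 := Function.ne_iff.1 hu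
    have he : v = (v l / u l) • u := funext fun m => by
      rw [Pi.smul_apply, smul_eq_mul, div_mul_eq_mul_div, eq_div_iff hl]
      linear_combination hcon l m
    refine hv (he.trans ?_)
    rw [he, hf.smul_left] at huv
    rw [(mul_eq_zero.1 huv).resolve_right huu, zero_smul]
  obtain ⟨b₁, hb₁⟩ := hm.col l₁
  obtain ⟨b₂, hb₂⟩ := hm.col l₂
  have hsub : supp u ∪ supp v ⊆ {l₁, b₁, l₂, b₂} := by
    intro m hmem
    by_contra hno
    simp only [Finset.mem_insert, Finset.mem_singleton, not_or] at hno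
    have e1 := hx.entry hF m l₁
    have e2 := hx.entry hF m l₂
    rw [hb₁ m hno.2.1, if_neg hno.1, zero_add] at e1
    rw [hb₂ m hno.2.2.2, if_neg hno.2.2.1, zero_add] at e2
    have hσ : qConj hF (u l₁) * qConj hF (v l₂) - qConj hF (u l₂) * qConj hF (v l₁) ≠ 0 := by
      rw [← map_mul, ← map_mul, ← map_sub]; exact (map_ne_zero _).2 hdet
    have h1 : α * (qConj hF (u l₁) * qConj hF (v l₂) - qConj hF (u l₂) * qConj hF (v l₁)) * u m = 0 := by
      linear_combination qConj hF (v l₁) * e2 - qConj hF (v l₂) * e1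
    have h2 : β * (qConj hF (u l₁) * qConj hF (v l₂) - qConj hF (u l₂) * qConj hF (v l₁)) * v m = 0 := by
      linear_combination qConj hF (u l₂) * e1 - qConj hF (u l₁) * e2
    rw [Finset.mem_union, mem_supp, mem_supp] at hmem
    rcases hmem with h | h
    · exact h ((mul_eq_zero.1 h1).resolve_left (mul_ne_zero hα hσ))
    · exact h ((mul_eq_zero.1 h2).resolve_left (mul_ne_zero hβ hσ))
  exact (Finset.card_le_card hsub).trans Finset.card_le_four

/-- no non-monomial element of `M` fixes a coordinate line -/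
def NoFix (M : Subgroup (GL (Fin n) F)) : Prop :=
  ∀ x ∈ M, ∀ o, (∀ j, j ≠ o → (x : Matrix (Fin n) (Fin n) F) j o = 0) → IsMono x

include hF in
theorem not_mono_inv (st : MSetting n q M) {g : GL (Fin n) F} (hg : g ∈ M) (hgm : ¬ IsMono g) :
    ¬ IsMono g⁻¹ := by
  classical
  intro hinv
  apply hgm
  have hcol := fun l => hinv.col l
  choose π hπ using hcol
  have hπi : Function.Injective π := by
    intro a b e
    have hz : ∀ c, ((g⁻¹ : GL (Fin n) F) : Matrix (Fin n) (Fin n) F) *ᵥ Pi.single c 1 =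
        ((g⁻¹ : GL (Fin n) F) : Matrix (Fin n) (Fin n) F) (π c) c • (Pi.single (π c) 1 : Fin n → F) := fun c =>
      funext fun m => by
        rw [single_column]
        by_cases hm : m = π c
        · simp [hm]
        · simp [hm, hπ c m hm]
    by_contra hab
    have hne : ∀ c, ((g⁻¹ : GL (Fin n) F) : Matrix (Fin n) (Fin n) F) (π c) c ≠ 0 := fun c h0 => by
      have := congrArg ((g : Matrix (Fin n) (Fin n) F) *ᵥ ·) (hz c)
      rw [mulVec_mulVec_inv, h0, zero_smul, mulVec_zero] at this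
      simpa using congrFun this c
    have ha := congrArg ((g : Matrix (Fin n) (Fin n) F) *ᵥ ·) (hz a)
    have hb := congrArg ((g : Matrix (Fin n) (Fin n) F) *ᵥ ·) (hz b)
    rw [mulVec_mulVec_inv, mulVec_smul] at ha hb
    rw [← e] at hb
    have h1 := congrFun ha b
    have h2 := congrFun hb b
    simp only [Pi.smul_apply, smul_eq_mul, Pi.single_eq_same, Pi.single_eq_of_ne (Ne.symm hab)] at h1 h2
    rcases mul_eq_zero.1 h1.symm with h | h
    · exact hne a h
    · rw [h, mul_zero] at h2; exact one_ne_zero h2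
  intro a
  obtain ⟨c, rfl⟩ := (Finite.injective_iff_surjective.1 hπi) a
  refine ⟨c, fun i j hi hj => ?_⟩
  rw [id] at hi hj
  subst hi
  have h1 : qConj hF ((g : Matrix (Fin n) (Fin n) F) j (π c)) = 0 := by
    rw [← inv_entry hF st hg]
    exact hπ j _ fun e => hj (hπi e).symm
  exact (map_eq_zero _).1 h1

include hF in
/-- a non-monomial element has no monomial column -/
theorem no_single (st : MSetting n q M) (hN : NoFix M) {g : GL (Fin n) F} (hg : g ∈ M) (hgm : ¬ IsMono g)
    {p j : Fin n} (hone : ∀ m, m ≠ j → (g : Matrix (Fin n) (Fin n) F) m p = 0) : False := by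
  classical
  -- then a monomial element moves the line back
  obtain ⟨w, hw, -, hdet⟩ := exists_sign_diag hF (Equiv.swap j p) j
  obtain ⟨s, hs, hse, -⟩ := mon_mem hF st.mons (Equiv.swap j p) (Equiv.swap j p) (fun _ => rfl) w hw hdet
  have hfix : IsMono (s * g) := hN _ (mul_mem hs hg) p fun m hm => by
    obtain ⟨m, rfl⟩ := (Equiv.swap j p).surjective m
    rw [Units.val_mul, hse]
    have hr : (monMat (Equiv.swap j p) w * (g : Matrix (Fin n) (Fin n) F)) (Equiv.swap j p m) p =
        w m * (g : Matrix (Fin n) (Fin n) F) m p := by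
      have := monMat_mulVec (Equiv.swap j p) w (fun r => (g : Matrix (Fin n) (Fin n) F) r p) m
      rw [← this]; rfl
    rw [hr, hone m fun e => hm (by rw [e, Equiv.swap_apply_left]), mul_zero]
  apply hgm
  intro a
  obtain ⟨b₀, hb₀⟩ := hfix a
  refine ⟨(Equiv.swap j p).symm b₀, fun i m hi hm => ?_⟩
  have := hb₀ i (Equiv.swap j p m) hi (fun e => hm (by
    rw [id] at e ⊢
    rw [← e, Equiv.symm_apply_apply]))
  rw [Units.val_mul, hse] at this
  have hr : (monMat (Equiv.swap j p) w * (g : Matrix (Fin n) (Fin n) F)) (Equiv.swap j p m) i =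
      w m * (g : Matrix (Fin n) (Fin n) F) m i := by
    have := monMat_mulVec (Equiv.swap j p) w (fun r => (g : Matrix (Fin n) (Fin n) F) r i) m
    rw [← this]; rfl
  rw [hr] at this
  exact (mul_eq_zero.1 this).resolve_left (left_ne_zero_of_mul_eq_one (hw m))

include hF in
theorem shared_zero (st : MSetting n q M) (hN : NoFix M) {g : GL (Fin n) F} (hg : g ∈ M) (hgm : ¬ IsMono g)
    {c p p' : Fin n} (hne : p ≠ p') (hp : (g : Matrix (Fin n) (Fin n) F) c p = 0)
    (hp' : (g : Matrix (Fin n) (Fin n) F) c p' = 0) :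
    (supp fun j => (g : Matrix (Fin n) (Fin n) F) j p).card ≤ 4 ∧
      ∀ j, (g : Matrix (Fin n) (Fin n) F) j p = 0 → (g : Matrix (Fin n) (Fin n) F) j p' = 0 := by
  classical
  have hf := isUnitaryForm_hermForm hF n
  obtain ⟨μ, hμ, hμ1, hμ2⟩ := exists_circ_ne hF
  have hnr := conj_ne_self hF hμ hμ1 hμ2
  obtain ⟨h, hh, hhr⟩ := exists_pair_diag hF st hne hμ
  have hx := hhr.conj hF st hg
  rw [single_column, single_column] at hx
  have hxM : g * h * g⁻¹ ∈ M := mul_mem (mul_mem hg hh) (inv_mem hg)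
  obtain ⟨u, hu⟩ : ∃ u : Fin n → F, u = fun j => (g : Matrix (Fin n) (Fin n) F) j p := ⟨_, rfl⟩
  obtain ⟨v, hv⟩ : ∃ v : Fin n → F, v = fun j => (g : Matrix (Fin n) (Fin n) F) j p' := ⟨_, rfl⟩
  rw [← hu, ← hv] at hx
  have hmono : IsMono (g * h * g⁻¹) := hN _ hxM c fun j hj => by
    rw [hx.entry hF, if_neg hj, hu, hv]; simp only
    rw [hp, hp']; simp
  have hfu : ∀ s s' : Fin n, Cfsg.hermForm n F q (fun j => (g : Matrix (Fin n) (Fin n) F) j s)
      (fun j => (g : Matrix (Fin n) (Fin n) F) j s') = if s = s' then 1 else 0 := fun s s' => by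
    rw [← single_column (o := s), ← single_column (o := s'), iso_of_mem hF st.le hg, f_single_left hF]
    by_cases e : s = s'
    · subst e; simp
    · simp [e]
  have huu : Cfsg.hermForm n F q u u ≠ 0 := by rw [hu, hfu]; simp
  have hvv : Cfsg.hermForm n F q v v ≠ 0 := by rw [hv, hfu]; simp
  have hsupp : ((supp u) ∪ supp v).card ≤ 4 := supp_le_four hF hmono hx (sub_ne_zero.2 hμ1)
    (sub_ne_zero.2 fun e => hμ1 (by rw [← qConj_qConj hF μ, e, map_one]))
    (fun e => huu (by rw [e]; exact herm_zero_left hf _)) (fun e => hvv (by rw [e]; exact herm_zero_left hf _))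
    (by rw [hu, hv, hfu, if_neg (Ne.symm hne)]) huu
  rw [← hu]
  refine ⟨(Finset.card_le_card Finset.subset_union_left).trans hsupp, fun j hj => ?_⟩
  by_contra hvj
  have hvj' : v j ≠ 0 := by rw [hv]; exact hvj
  have huj : u j = 0 := by rw [hu]; exact hj
  obtain ⟨b, hb⟩ := hmono.col j
  have hjj : (1 : F) + (qConj hF μ - 1) * qConj hF (v j) * v j ≠ 0 := by
    intro e
    have e' := congrArg (qConj hF) e
    simp only [map_add, map_mul, map_sub, map_one, map_zero, qConj_qConj] at e'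
    have : (qConj hF μ - μ) * (qConj hF (v j) * v j) = 0 := by linear_combination e - e'
    exact mul_ne_zero (sub_ne_zero.2 hnr) (mul_ne_zero ((map_ne_zero _).2 hvj') hvj') this
  have hb' : b = j := by
    by_contra hbj
    have := hb j (Ne.symm hbj)
    rw [hx.entry hF, if_pos rfl, huj, mul_zero, add_zero] at this
    exact hjj this
  -- so `v` is a multiple of a coordinate vector
  have hone : ∀ m, m ≠ j → (g : Matrix (Fin n) (Fin n) F) m p' = 0 := fun m hm => by
    have := hb m (hb'.symm ▸ hm)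
    rw [hx.entry hF, if_neg hm, huj, map_zero, mul_zero, zero_mul, add_zero, zero_add] at this
    rcases mul_eq_zero.1 this with h | h
    · exact absurd h (mul_ne_zero (sub_ne_zero.2 fun e => hμ1 (by rw [← qConj_qConj hF μ, e, map_one]))
        ((map_ne_zero _).2 hvj'))
    · rwa [hv] at h
  exact no_single hF st hN hg hgm hone

include hF in
theorem exists_circ_gen (hn : ∀ κ ∈ circ hF, κ ^ n = 1) : q + 1 ∣ n := by
  have hq := two_le_q hF
  obtain ⟨g, hg⟩ := IsCyclic.exists_ofOrder_eq_natCard (α := Fˣ)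
  rw [Nat.card_units, Nat.card_eq_fintype_card, hF] at hg
  have hfac : q ^ 2 - 1 = (q - 1) * (q + 1) := by
    obtain ⟨r, rfl⟩ : ∃ r, q = r + 1 := ⟨q - 1, by omega⟩
    simp only [Nat.add_sub_cancel]
    ring_nf
    omega
  have hκ : ((g ^ (q - 1) : Fˣ) : F) ∈ circ hF := by
    rw [mem_circ, qConj_apply, ← pow_succ', ← Units.val_pow_eq_pow_val, ← pow_mul, ← hfac, ← hg, pow_orderOf_eq_one,
      Units.val_one]
  have h := hn _ hκ
  rw [← Units.val_pow_eq_pow_val, Units.val_eq_one, ← pow_mul, ← orderOf_dvd_iff_pow_eq_one, hg, hfac] at h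
  exact (Nat.mul_dvd_mul_iff_left (by omega : 0 < q - 1)).1 h

include hF in
/-- a row with a zero is short when the circle has an element of order not dividing `n` -/
theorem kappa_row (st : MSetting n q M) (hN : NoFix M) {g : GL (Fin n) F} (hg : g ∈ M) {κ : F}
    (hκ : κ ∈ circ hF) (hκn : κ ^ n ≠ 1) {a o : Fin n} (hao : (g : Matrix (Fin n) (Fin n) F) a o = 0)
    (h3 : 3 ≤ (supp fun l => qConj hF ((g : Matrix (Fin n) (Fin n) F) a l)).card) : False := by
  classical
  have hn := st.hn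
  obtain ⟨v, hv⟩ : ∃ v : Fin n → F, v = fun l => qConj hF ((g : Matrix (Fin n) (Fin n) F) a l) := ⟨_, rfl⟩
  rw [← hv] at h3
  have hκ0 := circ_ne_zero hF hκ
  obtain ⟨d, hde⟩ : ∃ d : Fin n → F, d = fun l => if l = a then (κ ^ (n - 1))⁻¹ else κ := ⟨_, rfl⟩
  have hd : ∀ l, d l ∈ circ hF := fun l => by
    rw [hde]; simp only
    split_ifs
    · refine inv_mem_circ hF ?_
      have := prod_mem_circ hF (s := Finset.range (n - 1)) (d := fun _ => κ) fun _ _ => hκ
      simpa using this
    · exact hκ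
  have hprod : ∏ l, d l = 1 := by
    rw [hde, ← Finset.mul_prod_erase _ _ (Finset.mem_univ a), if_pos rfl,
      Finset.prod_congr rfl (fun l hl => if_neg (Finset.ne_of_mem_erase hl)), Finset.prod_const,
      Finset.card_erase_of_mem (Finset.mem_univ a), Finset.card_univ, Fintype.card_fin,
      inv_mul_cancel₀ (pow_ne_zero _ hκ0)]
  obtain ⟨x, hx, hxe, -⟩ := diag_conj hF st (inv_mem hg) hd hprod
  have he : ∀ l m, (x : Matrix (Fin n) (Fin n) F) l m =
      κ * (if l = m then 1 else 0) + ((κ ^ (n - 1))⁻¹ - κ) * (v l * qConj hF (v m)) := by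
    intro l m
    rw [hxe]
    have e1 : ∀ i, d i = κ + if i = a then (κ ^ (n - 1))⁻¹ - κ else 0 := fun i => by
      rw [hde]; by_cases hi : i = a <;> simp [hi]
    simp only [e1, add_mul, Finset.sum_add_distrib, ← Finset.mul_sum, orth_rows hF st (inv_mem hg), ite_mul,
      zero_mul, Finset.sum_ite_eq', Finset.mem_univ, if_true]
    simp only [inv_entry hF st hg, hv]
  have hm : IsMono x := hN x hx o fun j hj => by
    rw [he, if_neg hj, hv]; simp only
    rw [hao]; simp
  obtain ⟨l, hl⟩ := Finset.card_pos.1 (show 0 < (supp v).card by omega)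
  rw [mem_supp] at hl
  obtain ⟨b, hb⟩ := hm.col l
  have hsub : supp v ⊆ {l, b} := fun m hm' => by
    by_contra hno
    simp only [Finset.mem_insert, Finset.mem_singleton, not_or] at hno
    have := hb m hno.2
    rw [he, if_neg hno.1, mul_zero, zero_add] at this
    refine mul_ne_zero (sub_ne_zero.2 fun e => hκn ?_) (mul_ne_zero (mem_supp.1 hm') ((map_ne_zero _).2 hl)) this
    have e' := congrArg (· * κ ^ (n - 1)) e
    simp only [inv_mul_cancel₀ (pow_ne_zero _ hκ0)] at e'
    rw [← Nat.sub_add_cancel (show 1 ≤ n by omega), pow_succ', ← e']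
  have := (Finset.card_le_card hsub).trans Finset.card_le_two
  omega

include hF in
/-- two zeros in a row are impossible when the circle has five elements -/
theorem no_two_zero (st : MSetting n q M) (hN : NoFix M) (hq : 4 ≤ q) {g : GL (Fin n) F} (hg : g ∈ M)
    (hgm : ¬ IsMono g) {c p p' : Fin n} (hne : p ≠ p') (hp : (g : Matrix (Fin n) (Fin n) F) c p = 0)
    (hp' : (g : Matrix (Fin n) (Fin n) F) c p' = 0) : False := by
  classical
  obtain ⟨m, hm⟩ : ∃ m, (g : Matrix (Fin n) (Fin n) F) m p ≠ 0 := by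
    by_contra hno
    simp only [not_exists, not_not] at hno
    exact no_single hF st hN hg hgm (p := p) (j := c) fun m _ => hno m
  obtain ⟨l, hlm, hl⟩ : ∃ l, l ≠ m ∧ (g : Matrix (Fin n) (Fin n) F) l p ≠ 0 := by
    by_contra hno
    simp only [not_exists, not_and, not_not] at hno
    exact no_single hF st hN hg hgm (p := p) (j := m) hno
  obtain ⟨A, hA⟩ : ∃ A, A = qConj hF ((g : Matrix (Fin n) (Fin n) F) m p) *
      (g : Matrix (Fin n) (Fin n) F) l p := ⟨_, rfl⟩
  obtain ⟨B, hB⟩ : ∃ B, B = qConj hF ((g : Matrix (Fin n) (Fin n) F) m p') *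
      (g : Matrix (Fin n) (Fin n) F) l p' := ⟨_, rfl⟩
  obtain ⟨a, ha⟩ : ∃ a, a = qConj hF ((g : Matrix (Fin n) (Fin n) F) m p) *
      (g : Matrix (Fin n) (Fin n) F) m p := ⟨_, rfl⟩
  obtain ⟨b, hb⟩ : ∃ b, b = qConj hF ((g : Matrix (Fin n) (Fin n) F) m p') *
      (g : Matrix (Fin n) (Fin n) F) m p' := ⟨_, rfl⟩
  have hA0 : A ≠ 0 := hA ▸ mul_ne_zero ((map_ne_zero _).2 hm) hl
  have ha0 : a ≠ 0 := ha ▸ mul_ne_zero ((map_ne_zero _).2 hm) hm
  have key : ∀ μ ∈ (circ hF).erase 1, μ ≠ B / A → a * μ * μ + (1 - a - b) * μ + b = 0 := by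
    intro μ hμ hμB
    obtain ⟨hμ1, hμ⟩ := Finset.mem_erase.1 hμ
    obtain ⟨h, hh, hhr⟩ := exists_pair_diag hF st hne hμ
    have hx := hhr.conj hF st hg
    rw [single_column, single_column] at hx
    obtain ⟨t, ht⟩ := (hN _ (mul_mem (mul_mem hg hh) (inv_mem hg)) c fun j hj => by
      rw [hx.entry hF, if_neg hj, hp, hp']; simp).col m
    have hμ' := (mem_circ hF).1 hμ
    by_cases hlt : l = t
    · have e := ht m (hlt ▸ hlm.symm)
      rw [hx.entry hF, if_pos rfl, mul_assoc (μ - 1), mul_assoc (qConj hF μ - 1), ← ha, ← hb] at e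
      linear_combination μ * e - b * hμ'
    · have e := ht l hlt
      rw [hx.entry hF, if_neg hlm, mul_assoc (μ - 1), mul_assoc (qConj hF μ - 1), ← hA, ← hB] at e
      refine absurd ?_ hμB
      rw [eq_div_iff hA0]
      have e' : (μ - 1) * (μ * A - B) = 0 := by linear_combination μ * e - B * hμ'
      exact sub_eq_zero.1 ((mul_eq_zero.1 e').resolve_left (sub_ne_zero.2 hμ1))
  obtain ⟨x₁, x₂, x₃, h₁, h₂, h₃, n12, n13, n23⟩ :=
    Finset.two_lt_card_iff.1 (show 2 < (((circ hF).erase 1).erase (B / A)).card by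
      have h := Finset.pred_card_le_card_erase (s := (circ hF).erase 1) (a := B / A)
      rw [Finset.card_erase_of_mem (one_mem_circ hF), card_circ] at h
      omega)
  have q1 := key _ (Finset.mem_of_mem_erase h₁) (Finset.ne_of_mem_erase h₁)
  have q2 := key _ (Finset.mem_of_mem_erase h₂) (Finset.ne_of_mem_erase h₂)
  have q3 := key _ (Finset.mem_of_mem_erase h₃) (Finset.ne_of_mem_erase h₃)
  have f12 : a * (x₁ + x₂) + (1 - a - b) = 0 :=
    (mul_eq_zero.1 (show (x₁ - x₂) * (a * (x₁ + x₂) + (1 - a - b)) = 0 by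
      linear_combination q1 - q2)).resolve_left (sub_ne_zero.2 n12)
  have f13 : a * (x₁ + x₃) + (1 - a - b) = 0 :=
    (mul_eq_zero.1 (show (x₁ - x₃) * (a * (x₁ + x₃) + (1 - a - b)) = 0 by
      linear_combination q1 - q3)).resolve_left (sub_ne_zero.2 n13)
  exact mul_ne_zero ha0 (sub_ne_zero.2 n23) (by linear_combination f12 - f13)

include hF in
/-- a column with four non-zero entries and a column vanishing on them cannot both occur -/
theorem no_halves (st : MSetting n q M) (hN : NoFix M) {g : GL (Fin n) F} (hg : g ∈ M)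
    {o m c p p' j l : Fin n} (hom : o ≠ m) (hc : (g : Matrix (Fin n) (Fin n) F) c o = 0)
    (hu : ∀ r ∈ ({p, p', j, l} : Finset (Fin n)), (g : Matrix (Fin n) (Fin n) F) r o ≠ 0 ∧
      (g : Matrix (Fin n) (Fin n) F) r m = 0)
    (hpp : p ≠ p') (hjp : j ≠ p) (hjp' : j ≠ p') (hlp : l ≠ p) (hlp' : l ≠ p') (hjl : j ≠ l) : False := by
  classical
  simp only [Finset.mem_insert, Finset.mem_singleton, forall_eq_or_imp, forall_eq] at hu
  obtain ⟨⟨up, vp⟩, ⟨up', vp'⟩, ⟨uj, vj⟩, ul, vl⟩ := hu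
  obtain ⟨μ, hμ, hμ1, hμ2⟩ := exists_circ_ne hF
  have hnr := conj_ne_self hF hμ hμ1 hμ2
  have hμμ := (mem_circ hF).1 hμ
  obtain ⟨h₁, hh₁, hr₁⟩ := exists_pair_diag hF st hom hμ
  have hx := hr₁.conj hF st hg
  rw [single_column, single_column] at hx
  have hxM : g * h₁ * g⁻¹ ∈ M := mul_mem (mul_mem hg hh₁) (inv_mem hg)
  obtain ⟨x, hxdef⟩ : ∃ x, x = g * h₁ * g⁻¹ := ⟨_, rfl⟩
  rw [← hxdef] at hx hxM
  obtain ⟨h₂, hh₂, hr₂⟩ := exists_pair_diag hF st hpp hμ
  have hy := hr₂.conj hF st hxM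
  rw [single_column, single_column] at hy
  have hcp : c ≠ p := fun e => up (e ▸ hc)
  have hcp' : c ≠ p' := fun e => up' (e ▸ hc)
  have hym : IsMono (x * h₂ * x⁻¹) := hN _ (mul_mem (mul_mem hxM hh₂) (inv_mem hxM)) c fun r hr => by
    rw [hy.entry hF, if_neg hr]
    simp only [hx.entry hF, if_neg hcp, if_neg hcp', hc, vp, vp', map_zero, map_add, map_mul, mul_zero, zero_mul,
      add_zero]
  obtain ⟨b, hb⟩ := hym.col l
  obtain ⟨A, hA⟩ : ∃ A, A = μ - 1 := ⟨_, rfl⟩
  obtain ⟨A', hA'⟩ : ∃ A', A' = qConj hF μ - 1 := ⟨_, rfl⟩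
  have hcA : qConj hF A = A' := by rw [hA, hA', map_sub, map_one]
  have hA0 : A ≠ 0 := by rw [hA]; exact sub_ne_zero.2 hμ1
  have hA0' : A' ≠ 0 := by rw [← hcA]; exact (map_ne_zero _).2 hA0
  obtain ⟨k, hk⟩ : ∃ k, k = A * ((g : Matrix (Fin n) (Fin n) F) p o * qConj hF ((g : Matrix (Fin n) (Fin n) F) p o)) +
      A' * ((g : Matrix (Fin n) (Fin n) F) p' o * qConj hF ((g : Matrix (Fin n) (Fin n) F) p' o)) := ⟨_, rfl⟩
  have hk0 : k ≠ 0 := fun e0 => by
    have e1 := congrArg (qConj hF) e0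
    simp only [hk, ← hcA, map_add, map_mul, map_zero, qConj_qConj] at e1 e0
    rw [hcA] at e1 e0
    have e2 : (A - A') * ((g : Matrix (Fin n) (Fin n) F) p o * qConj hF ((g : Matrix (Fin n) (Fin n) F) p o) -
        (g : Matrix (Fin n) (Fin n) F) p' o * qConj hF ((g : Matrix (Fin n) (Fin n) F) p' o)) = 0 := by
      linear_combination e0 - e1
    rcases mul_eq_zero.1 e2 with e3 | e3
    · exact hnr (by rw [hA, hA'] at e3; linear_combination -e3)
    · have e4 : (A * A') * ((g : Matrix (Fin n) (Fin n) F) p o * qConj hF ((g : Matrix (Fin n) (Fin n) F) p o)) = 0 := by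
        rw [hA, hA'] at e0 ⊢
        linear_combination -e0 - (qConj hF μ - 1) * e3 +
          ((g : Matrix (Fin n) (Fin n) F) p o * qConj hF ((g : Matrix (Fin n) (Fin n) F) p o)) * hμμ
      exact mul_ne_zero (mul_ne_zero hA0 hA0') (mul_ne_zero up ((map_ne_zero _).2 up)) e4
  have hcl := (map_ne_zero (qConj hF)).2 ul
  have hvj : ((x * h₂ * x⁻¹ : GL (Fin n) F) : Matrix (Fin n) (Fin n) F) j l =
      A * A' * k * ((g : Matrix (Fin n) (Fin n) F) j o * qConj hF ((g : Matrix (Fin n) (Fin n) F) l o)) := by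
    rw [hy.entry hF, if_neg hjl]
    simp only [hx.entry hF, if_neg hjp, if_neg hjp', if_neg hlp, if_neg hlp', vp, vp', vj, vl, map_zero, map_add,
      map_mul, mul_zero, zero_mul, add_zero, zero_add, qConj_qConj, ← hA, ← hA', hcA, hk]
    ring
  have hvp : ((x * h₂ * x⁻¹ : GL (Fin n) F) : Matrix (Fin n) (Fin n) F) p l =
      A * A' * (1 + k) * ((g : Matrix (Fin n) (Fin n) F) p o * qConj hF ((g : Matrix (Fin n) (Fin n) F) l o)) := by
    rw [hy.entry hF, if_neg (Ne.symm hlp)]
    simp only [hx.entry hF, if_neg hpp, if_pos, if_neg hlp, if_neg hlp', vp, vp', vl, map_zero, map_add,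
      map_mul, mul_zero, zero_mul, add_zero, zero_add, qConj_qConj, ← hA, ← hA', hcA, hk]
    ring
  have hvp' : ((x * h₂ * x⁻¹ : GL (Fin n) F) : Matrix (Fin n) (Fin n) F) p' l =
      (A' * A' + A * A' * k) * ((g : Matrix (Fin n) (Fin n) F) p' o * qConj hF ((g : Matrix (Fin n) (Fin n) F) l o)) := by
    rw [hy.entry hF, if_neg (Ne.symm hlp')]
    simp only [hx.entry hF, if_neg (Ne.symm hpp), if_pos, if_neg hlp, if_neg hlp', vp, vp', vl, map_zero, map_add,
      map_mul, mul_zero, zero_mul, add_zero, zero_add, qConj_qConj, ← hA, ← hA', hcA, hk]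
    ring
  have hj0 : ((x * h₂ * x⁻¹ : GL (Fin n) F) : Matrix (Fin n) (Fin n) F) j l ≠ 0 := by
    rw [hvj]; exact mul_ne_zero (mul_ne_zero (mul_ne_zero hA0 hA0') hk0) (mul_ne_zero uj hcl)
  have hbj : b = j := by
    by_contra hne
    exact hj0 (hb j (Ne.symm hne))
  have z1 := hb p (by rw [hbj]; exact hjp.symm)
  have z2 := hb p' (by rw [hbj]; exact hjp'.symm)
  rw [hvp] at z1
  rw [hvp'] at z2
  have e1 := ((mul_eq_zero.1 z1).resolve_right (mul_ne_zero up hcl))
  have e2 := ((mul_eq_zero.1 z2).resolve_right (mul_ne_zero up' hcl))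
  have e3 : A' * (A' - A) = 0 := by linear_combination e2 - e1
  have e4 := (mul_eq_zero.1 e3).resolve_left hA0'
  exact hnr (by rw [hA, hA'] at e4; linear_combination e4)

include hF in
theorem one_zero_row (st : MSetting n q M) (h6 : 6 ≤ n) (hN : NoFix M) {g : GL (Fin n) F} (hg : g ∈ M) (hgm : ¬ IsMono g)
    {c p p' : Fin n} (hp : (g : Matrix (Fin n) (Fin n) F) c p = 0)
    (hp' : (g : Matrix (Fin n) (Fin n) F) c p' = 0) : p = p' := by
  classical
  by_contra hne
  obtain ⟨h4, -⟩ := shared_zero hF st hN hg hgm hne hp hp'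
  obtain ⟨S, hS⟩ : ∃ S, S = supp fun j => (g : Matrix (Fin n) (Fin n) F) j p := ⟨_, rfl⟩
  rw [← hS] at h4
  have hn := h6
  by_cases hq4 : n < 10 ∧ 4 ≤ q
  · exact no_two_zero hF st hN hq4.2 hg hgm hne hp hp'
  have hshort : n < 9 ∧ ¬ (n = 8 ∧ q = 3) → ∀ {x : GL (Fin n) F}, x ∈ M → ∀ {a o : Fin n},
      (x : Matrix (Fin n) (Fin n) F) a o = 0 →
      (supp fun l => qConj hF ((x : Matrix (Fin n) (Fin n) F) a l)).card ≤ 2 := by
    intro hn10 x hx a o hao
    obtain ⟨κ, hκ, hκn⟩ : ∃ κ ∈ circ hF, κ ^ n ≠ 1 := by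
      by_contra hno
      simp only [not_exists, not_and, not_not] at hno
      have hd := exists_circ_gen hF hno
      rcases st.big with rfl | rfl | h | ⟨rfl, hq3⟩
      · omega
      · have : q = 2 := by have := two_le_q hF; omega
        subst this
        omega
      · omega
      · have : q = 3 := by omega
        subst this
        omega
    by_contra h2
    exact kappa_row hF st hN hx hκ hκn hao (by omega)
  have hS2 : n < 9 ∧ ¬ (n = 8 ∧ q = 3) → S.card ≤ 2 := fun hn10 => by
    refine le_trans (le_of_eq ?_) (hshort hn10 (inv_mem hg) (a := p) (o := c)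
      (by rw [inv_entry hF st hg, hp, map_zero]))
    rw [hS]
    congr 1
    ext l
    rw [mem_supp, mem_supp, inv_entry hF st hg, qConj_qConj]
  obtain ⟨c₁, hc₁, c₂, hc₂, hcc⟩ := Finset.one_lt_card.1 (show 1 < Sᶜ.card by
    rw [Finset.card_compl, Fintype.card_fin]; omega)
  have hz : ∀ r ∈ Sᶜ, (g : Matrix (Fin n) (Fin n) F) r p = 0 := fun r hr => by
    simpa [hS, mem_supp] using hr
  have hinv := shared_zero hF st hN (inv_mem hg) (not_mono_inv hF st hg hgm) hcc
    (c := p) (by rw [inv_entry hF st hg, hz _ hc₁, map_zero]) (by rw [inv_entry hF st hg, hz _ hc₂, map_zero])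
  have hrow : (Finset.univ.filter fun l => (g : Matrix (Fin n) (Fin n) F) c₁ l ≠ 0).card ≤ 4 := by
    refine le_trans (le_of_eq ?_) hinv.1
    congr 1
    ext l
    rw [mem_supp, inv_entry hF st hg, Finset.mem_filter]
    simp
  have hrow2 : n < 9 ∧ ¬ (n = 8 ∧ q = 3) → (Finset.univ.filter fun l => (g : Matrix (Fin n) (Fin n) F) c₁ l ≠ 0).card ≤ 2 :=
    fun hn10 => by
      refine le_trans (le_of_eq ?_) (hshort hn10 hg (a := c₁) (o := p) (hz _ hc₁))
      congr 1
      ext l
      rw [mem_supp, Finset.mem_filter]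
      simp
  obtain ⟨Z, hZ⟩ : ∃ Z, Z = Finset.univ.filter fun l => (g : Matrix (Fin n) (Fin n) F) c₁ l = 0 := ⟨_, rfl⟩
  have hZc : n - 4 ≤ Z.card ∧ (n < 9 ∧ ¬ (n = 8 ∧ q = 3) → n - 2 ≤ Z.card) := by
    have := Finset.card_filter_add_card_filter_not (s := (Finset.univ : Finset (Fin n)))
      (fun l => (g : Matrix (Fin n) (Fin n) F) c₁ l = 0)
    rw [← hZ, Finset.card_univ, Fintype.card_fin] at this
    simp only [ne_eq] at hrow hrow2
    exact ⟨by omega, fun h => by have := hrow2 h; omega⟩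
  have hin : ∀ l ∈ Z, ∀ r ∉ S, (g : Matrix (Fin n) (Fin n) F) r l = 0 := fun l hl r hr => by
    have hr' : (g : Matrix (Fin n) (Fin n) F) r p = 0 := hz r (Finset.mem_compl.2 hr)
    rcases eq_or_ne p l with rfl | hpl
    · exact hr'
    · exact (shared_zero hF st hN hg hgm hpl (hz _ hc₁) (by simpa [hZ] using hl)).2 r hr'
  -- these columns are independent inside the coordinates of `S`
  let T : (Z → F) →ₗ[F] (S → F) :=
    { toFun := fun y r => ∑ l : Z, y l * (g : Matrix (Fin n) (Fin n) F) r.1 l.1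
      map_add' := fun y y' => funext fun r => by simp [add_mul, Finset.sum_add_distrib]
      map_smul' := fun s y => funext fun r => by simp [Finset.mul_sum, mul_assoc] }
  have hT : Function.Injective T := by
    rw [← LinearMap.ker_eq_bot, LinearMap.ker_eq_bot']
    intro y hy
    obtain ⟨Y, hY⟩ : ∃ Y : Fin n → F, Y = fun l => if h : l ∈ Z then y ⟨l, h⟩ else 0 := ⟨_, rfl⟩
    have hgy : (g : Matrix (Fin n) (Fin n) F) *ᵥ Y = 0 := funext fun r => by
      rw [mulVec, dotProduct, ← Finset.sum_subset (Finset.subset_univ Z)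
        (fun l _ hl => by simp [hY, hl]), ← Finset.sum_coe_sort]
      by_cases hr : r ∈ S
      · refine Eq.trans (Finset.sum_congr rfl fun l _ => ?_) (congrFun hy ⟨r, hr⟩)
        simp [hY, mul_comm]
      · exact Finset.sum_eq_zero fun l _ => by rw [hin l.1 l.2 r hr, zero_mul]
    have h0 := congrArg (((g⁻¹ : GL (Fin n) F) : Matrix (Fin n) (Fin n) F) *ᵥ ·) hgy
    simp only [mulVec_mulVec, ← Units.val_mul, inv_mul_cancel, Units.val_one, one_mulVec, mulVec_zero] at h0
    funext l
    simpa [hY] using congrFun h0 l.1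
  have := LinearMap.finrank_le_finrank_of_injective hT
  simp only [Module.finrank_pi, Fintype.card_coe] at this
  by_cases hlow : n < 9 ∧ ¬ (n = 8 ∧ q = 3)
  · have := hS2 hlow; have := hZc.2 hlow; omega
  have hZ4 := hZc.1
  rcases Nat.lt_or_ge n 9 with hlt | hge
  swap
  · omega
  obtain ⟨rfl, -⟩ : n = 8 ∧ q = 3 := by omega
  have hSc : S.card = 4 := by omega
  have hZc4 : Z.card = 4 := by omega
  have hsurj : Function.Surjective T := (LinearMap.injective_iff_surjective_of_finrank_eq_finrank (by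
    simp only [Module.finrank_pi, Fintype.card_coe]; omega)).1 hT
  obtain ⟨m, hm⟩ : ∃ m, m ∉ Z := by
    obtain ⟨m, -, hm⟩ := Finset.exists_mem_notMem_of_card_lt_card (s := Z) (t := Finset.univ)
      (by rw [Finset.card_univ, Fintype.card_fin]; omega)
    exact ⟨m, hm⟩
  -- the columns outside `Z` vanish on `S`
  have hvS : ∀ r ∈ S, (g : Matrix (Fin 8) (Fin 8) F) r m = 0 := by
    intro r hr
    obtain ⟨y, hy⟩ := hsurj (Pi.single ⟨r, hr⟩ 1)
    obtain ⟨Y, hY⟩ : ∃ Y : Fin 8 → F, Y = fun l => if h : l ∈ Z then y ⟨l, h⟩ else 0 := ⟨_, rfl⟩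
    have hgy : (g : Matrix (Fin 8) (Fin 8) F) *ᵥ Y = Pi.single r 1 := funext fun i => by
      rw [mulVec, dotProduct, ← Finset.sum_subset (Finset.subset_univ Z)
        (fun l _ hl => by simp [hY, hl]), ← Finset.sum_coe_sort]
      by_cases hi : i ∈ S
      · refine Eq.trans (Finset.sum_congr rfl fun l _ => ?_) ((congrFun hy ⟨i, hi⟩).trans ?_)
        · simp [hY, mul_comm]
        · simp [Pi.single_apply, Subtype.ext_iff]
      · have hir : i ≠ r := fun e => hi (e ▸ hr)
        rw [Pi.single_eq_of_ne hir]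
        exact Finset.sum_eq_zero fun l _ => by rw [hin l.1 l.2 i hi, zero_mul]
    have h0 := congrArg (((g⁻¹ : GL (Fin 8) F) : Matrix (Fin 8) (Fin 8) F) *ᵥ ·) hgy
    simp only [mulVec_mulVec, ← Units.val_mul, inv_mul_cancel, Units.val_one, one_mulVec] at h0
    have h1 := congrFun h0 m
    rw [mulVec_single_one, Matrix.col_apply, inv_entry hF st hg] at h1
    exact (map_eq_zero _).1 (h1.symm.trans (by simp [hY, hm]))
  have hpZ : p ∈ Z := by simp [hZ, hz _ hc₁]
  obtain ⟨a, ha⟩ : S.Nonempty := Finset.card_pos.1 (by omega)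
  obtain ⟨a₂, a₃, a₄, h23, h24, h34, hrest⟩ := Finset.card_eq_three.1
    (show (S.erase a).card = 3 by rw [Finset.card_erase_of_mem ha]; omega)
  have hmem : ∀ r ∈ ({a, a₂, a₃, a₄} : Finset (Fin 8)), r ∈ S := by
    intro r hr
    rcases Finset.mem_insert.1 hr with rfl | hr
    · exact ha
    · rw [← hrest] at hr; exact Finset.mem_of_mem_erase hr
  have hne : ∀ r ∈ ({a₂, a₃, a₄} : Finset (Fin 8)), r ≠ a := fun r hr => by
    rw [← hrest] at hr; exact Finset.ne_of_mem_erase hr
  refine no_halves hF st hN hg (o := p) (m := m) (c := c₁) (p := a) (p' := a₂) (j := a₃) (l := a₄)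
    (fun e => hm (e ▸ hpZ)) (hz _ hc₁) (fun r hr => ⟨?_, hvS r (hmem r hr)⟩)
    (hne a₂ (by simp)).symm (hne a₃ (by simp)) h23.symm (hne a₄ (by simp)) h24.symm h34
  have := hmem r hr
  simpa [hS, mem_supp] using this

include hF in
theorem one_zero_col (st : MSetting n q M) (h6 : 6 ≤ n) (hN : NoFix M) {g : GL (Fin n) F} (hg : g ∈ M) (hgm : ¬ IsMono g)
    {c c' p : Fin n} (hp : (g : Matrix (Fin n) (Fin n) F) c p = 0)
    (hp' : (g : Matrix (Fin n) (Fin n) F) c' p = 0) : c = c' :=
  one_zero_row hF st h6 hN (inv_mem hg) (not_mono_inv hF st hg hgm) (c := p)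
    (by rw [inv_entry hF st hg, hp, map_zero]) (by rw [inv_entry hF st hg, hp', map_zero])

include hF in
theorem exists_zero (st : MSetting n q M) (h6 : 6 ≤ n) {g : GL (Fin n) F} (hg : g ∈ M) (hgm : ¬ IsMono g) :
    ∃ y ∈ M, ¬ IsMono y ∧ ∃ a o, (y : Matrix (Fin n) (Fin n) F) a o = 0 := by
  classical
  by_contra hcon
  simp only [not_exists, not_and] at hcon
  have hn := h6
  have hfull : ∀ a o, (g : Matrix (Fin n) (Fin n) F) a o ≠ 0 := hcon g hg hgm
  have hmono : ∀ x ∈ M, (∃ a o, (x : Matrix (Fin n) (Fin n) F) a o = 0) → IsMono x := fun x hx ⟨a, o, h⟩ => by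
    by_contra hxm
    exact hcon x hx hxm a o h
  let p₀ : Fin n := ⟨0, by omega⟩
  -- a monomial element whose conjugate has a zero at `(p₀, p₀)`, and two rows with a twist
  obtain ⟨π, w, hwd, hwdet, hws, l₁, l₂, hl, ν, hνc, hν1, hνl⟩ :
      ∃ (π : Equiv.Perm (Fin n)) (w : Fin n → F), (∀ l, w l ∈ circ hF) ∧
        ((Equiv.Perm.sign π : ℤ) : F) * ∏ l, w l = 1 ∧
        ∑ l, w l * (qConj hF ((g : Matrix (Fin n) (Fin n) F) (π l) p₀) *
          (g : Matrix (Fin n) (Fin n) F) l p₀) = 0 ∧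
        ∃ l₁ l₂, π l₁ ≠ π l₂ ∧ ∃ ν, ν ∈ circ hF ∧ ν ≠ 1 ∧
          w l₁ * qConj hF (w l₂) * ((g : Matrix (Fin n) (Fin n) F) l₁ p₀ *
            qConj hF ((g : Matrix (Fin n) (Fin n) F) l₂ p₀)) =
          ν * ((g : Matrix (Fin n) (Fin n) F) (π l₁) p₀ *
            qConj hF ((g : Matrix (Fin n) (Fin n) F) (π l₂) p₀)) := by
    by_cases hsix : n = 6
    · subst hsix
      rcases Nat.even_or_odd q with he | ho
      · exact exists_zeroMonSix_even hF he (fun l => (g : Matrix (Fin 6) (Fin 6) F) l p₀) fun l => hfull l p₀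
      obtain ⟨π, w, h1, h2, h3, l, l', hne, e1, e2, e3⟩ :=
        exists_zeroMonSix hF ho (fun l => (g : Matrix (Fin 6) (Fin 6) F) l p₀) fun l => hfull l p₀
      refine ⟨π, w, h1, h2, h3, l, l', by rw [e1, e2]; exact hne.symm, -1, neg_one_mem_circ hF,
        fun h => two_ne_zero_of_odd hF ho (by linear_combination -h), ?_⟩
      rw [e1, e2]
      linear_combination e3
    by_cases height : n = 8
    · subst height
      exact exists_zeroMonEight hF (fun l => (g : Matrix (Fin 8) (Fin 8) F) l p₀) fun l => hfull l p₀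
    have hn9 : 9 ≤ n := ((st.big.resolve_left (by omega)).resolve_left height).resolve_right fun h => hsix h.1
    by_cases hten : n = 10 ∧ Odd q
    · obtain ⟨rfl, hodd⟩ := hten
      obtain ⟨π, w, h1, h2, h3, l, l', hne, e1, e2, e3⟩ :=
        exists_zeroMon hF hodd (fun l => (g : Matrix (Fin 10) (Fin 10) F) l p₀) fun l => hfull l p₀
      refine ⟨π, w, h1, h2, h3, l, l', by rw [e1, e2]; exact hne.symm, -1, neg_one_mem_circ hF,
        fun h => two_ne_zero_of_odd hF hodd (by linear_combination -h), ?_⟩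
      rw [e1, e2]
      linear_combination e3
    obtain ⟨d, h1, h2, h3, a, b, hab, hne⟩ : ∃ d : Fin n → F, (∀ l, d l ∈ circ hF) ∧ ∏ l, d l = 1 ∧
        ∑ l, d l * ((g : Matrix (Fin n) (Fin n) F) l p₀ *
          qConj hF ((g : Matrix (Fin n) (Fin n) F) l p₀)) = 0 ∧ ∃ a b, a ≠ b ∧ d a ≠ d b := by
      have hA : ∀ i, (g : Matrix (Fin n) (Fin n) F) i p₀ *
          qConj hF ((g : Matrix (Fin n) (Fin n) F) i p₀) ≠ 0 := fun i =>
        mul_ne_zero (hfull i p₀) ((map_ne_zero _).2 (hfull i p₀))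
      by_cases hnine : n = 9
      · subst hnine
        exact exists_circ_sum_nine hF _ hA
      have hn10 : 10 ≤ n := by omega
      let a : Fin n := ⟨0, by omega⟩
      let b : Fin n := ⟨1, by omega⟩
      have hab : a ≠ b := by simp [a, b]
      rcases (show (n = 11 ∨ (n = 10 ∧ Even q)) ∨ n = 12 ∨ 13 ≤ n by
        rcases Nat.even_or_odd q with h | h
        · rcases (show n = 10 ∨ n = 11 ∨ n = 12 ∨ 13 ≤ n by omega) with e | e | e | e
          · exact .inl (.inr ⟨e, h⟩)
          · exact .inl (.inl e)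
          · exact .inr (.inl e)
          · exact .inr (.inr e)
        · rcases (show n = 10 ∨ n = 11 ∨ n = 12 ∨ 13 ≤ n by omega) with e | e | e | e
          · exact absurd ⟨e, h⟩ hten
          · exact .inl (.inl e)
          · exact .inr (.inl e)
          · exact .inr (.inr e)) with h | h12 | h13
      · exact exists_circ_sum_ten hF h _ hA
      · obtain ⟨d, h1, h2, h3, h4⟩ := exists_circ_sum_twelve hF (by rw [Fintype.card_fin, h12]) _ hA hab
        exact ⟨d, h1, h2, h3, a, b, hab, h4⟩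
      · obtain ⟨d, h1, h2, h3, -, h4⟩ := exists_circ_sum hF _ Finset.univ ∅ (fun i _ => hA i)
          (Finset.disjoint_empty_right _) (by simp; omega) (by simp; omega) (Finset.mem_univ a)
          (Finset.mem_univ b) hab
        exact ⟨d, h1, h2, h3, a, b, hab, h4⟩
    refine ⟨1, d, h1, by simp [h2], ?_, a, b, hab, d a * qConj hF (d b),
      mul_mem_circ hF (h1 a) (conj_mem_circ hF (h1 b)), fun h => hne ?_, rfl⟩
    · rw [← h3]
      exact Finset.sum_congr rfl fun l _ => by rw [Equiv.Perm.one_apply, mul_comm (qConj hF _)]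
    · have h' := (mem_circ hF).1 (h1 b)
      linear_combination d b * h - d a * h'
  obtain ⟨h, hh, hhe, -⟩ := mon_mem hF st.mons π π (fun _ => rfl) w
    (fun l => (mem_circ hF).1 (hwd l)) hwdet
  obtain ⟨x', hx'e⟩ : ∃ x', x' = g⁻¹ * h * g := ⟨_, rfl⟩
  have hx' : x' ∈ M := hx'e ▸ mul_mem (mul_mem (inv_mem hg) hh) hg
  have hgx : g * x' = h * g := by rw [hx'e]; group
  have hrowh : ∀ l, ((h * g : GL (Fin n) F) : Matrix (Fin n) (Fin n) F) (π l) p₀ =
      w l * (g : Matrix (Fin n) (Fin n) F) l p₀ := fun l => by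
    rw [Units.val_mul, hhe]
    have := monMat_mulVec π w (fun r => (g : Matrix (Fin n) (Fin n) F) r p₀) l
    rw [← this]; rfl
  have hxaa : (x' : Matrix (Fin n) (Fin n) F) p₀ p₀ = 0 := by
    have e : x' = g⁻¹ * (h * g) := by rw [hx'e, mul_assoc]
    rw [e, Units.val_mul, Matrix.mul_apply, ← Equiv.sum_comp π, ← hws]
    refine Finset.sum_congr rfl fun l _ => ?_
    rw [hrowh, inv_entry hF st hg]
    ring
  obtain ⟨b, hb⟩ := (hmono x' hx' ⟨p₀, p₀, hxaa⟩).col p₀
  obtain ⟨e, he⟩ : ∃ e, e = (x' : Matrix (Fin n) (Fin n) F) b p₀ := ⟨_, rfl⟩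
  have hcol : ∀ l, (g : Matrix (Fin n) (Fin n) F) (π l) b * e =
      w l * (g : Matrix (Fin n) (Fin n) F) l p₀ := fun l => by
    rw [← hrowh, ← hgx, Units.val_mul, Matrix.mul_apply,
      Finset.sum_eq_single b (fun m _ hm => by rw [hb m hm, mul_zero]) (by simp), he]
  have hbp : p₀ ≠ b := by
    rintro rfl
    rw [hxaa] at he
    have h := hcol p₀
    rw [he, mul_zero] at h
    exact mul_ne_zero (circ_ne_zero hF (hwd p₀)) (hfull p₀ p₀) h.symm
  have hec : e * qConj hF e = 1 := by
    have h := orth_rows hF st (inv_mem hx') p₀ p₀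
    simp only [inv_entry hF st hx', qConj_qConj, if_true] at h
    rw [Finset.sum_eq_single b (fun m _ hm => by rw [hb m hm]; simp) (by simp), ← he] at h
    linear_combination h
  -- the two-entry diagonal element giving a zero at `(π l₁, π l₂)`
  obtain ⟨s, hs, hsr⟩ := exists_pair_diag hF st hbp hνc
  have hy := hsr.conj hF st hg
  rw [single_column, single_column] at hy
  have hym := hmono _ (mul_mem (mul_mem hg hs) (inv_mem hg)) ⟨π l₁, π l₂, by
    rw [hy.entry hF, if_neg hl]
    have hb1 := hcol l₁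
    have hb2 := congrArg (qConj hF) (hcol l₂)
    simp only [map_mul] at hb2
    have hgg : (g : Matrix (Fin n) (Fin n) F) (π l₁) b * qConj hF ((g : Matrix (Fin n) (Fin n) F) (π l₂) b) =
        ν * ((g : Matrix (Fin n) (Fin n) F) (π l₁) p₀ * qConj hF ((g : Matrix (Fin n) (Fin n) F) (π l₂) p₀)) := by
      linear_combination (qConj hF e * qConj hF ((g : Matrix (Fin n) (Fin n) F) (π l₂) b)) * hb1 +
        (w l₁ * (g : Matrix (Fin n) (Fin n) F) l₁ p₀) * hb2 -
        ((g : Matrix (Fin n) (Fin n) F) (π l₁) b * qConj hF ((g : Matrix (Fin n) (Fin n) F) (π l₂) b)) * hec +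
        hνl
    have hνν := (mem_circ hF).1 hνc
    linear_combination (qConj hF ν - 1) * hgg +
      ((g : Matrix (Fin n) (Fin n) F) (π l₁) p₀ * qConj hF ((g : Matrix (Fin n) (Fin n) F) (π l₂) p₀)) * hνν⟩
  have h4 := supp_le_four hF hym hy (sub_ne_zero.2 hν1)
    (sub_ne_zero.2 fun h => hν1 (by rw [← qConj_qConj hF ν, h, map_one]))
    (fun h => hfull p₀ p₀ (congrFun h p₀)) (fun h => hfull p₀ b (congrFun h p₀))
    (by rw [← single_column (o := b), ← single_column (o := p₀), iso_of_mem hF st.le hg, f_single_left hF]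
        simp [Ne.symm hbp])
    (by rw [← single_column (o := p₀), iso_of_mem hF st.le hg, f_single_left hF]; simp)
  have : supp (fun j => (g : Matrix (Fin n) (Fin n) F) j p₀) = Finset.univ :=
    Finset.eq_univ_iff_forall.2 fun j => mem_supp.2 (hfull j p₀)
  rw [this] at h4
  have h5 := (Finset.card_le_card (Finset.subset_union_left (s₁ := (Finset.univ : Finset (Fin n))) (s₂ := _))).trans h4
  rw [Finset.card_univ, Fintype.card_fin] at h5
  omega

include hF in
theorem no_nofix (st : MSetting n q M) (h6 : 6 ≤ n) {g₀ : GL (Fin n) F} (hg₀ : g₀ ∈ M) (hgm₀ : ¬ IsMono g₀) :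
    ¬ NoFix M := by
  classical
  intro hN
  have hf := isUnitaryForm_hermForm hF n
  have hn := h6
  obtain ⟨g, hg, hgm, a, o, hao⟩ := exists_zero hF st h6 hg₀ hgm₀
  have hcol : ∀ j, j ≠ a → (g : Matrix (Fin n) (Fin n) F) j o ≠ 0 := fun j hj h =>
    hj (one_zero_col hF st h6 hN hg hgm h hao)
  have hrow : ∀ l, l ≠ o → (g : Matrix (Fin n) (Fin n) F) a l ≠ 0 := fun l hl h =>
    hl (one_zero_row hF st h6 hN hg hgm h hao)
  obtain ⟨v, hv⟩ : ∃ v : Fin n → F, v = fun l => qConj hF ((g : Matrix (Fin n) (Fin n) F) a l) := ⟨_, rfl⟩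
  have hvsupp : n - 1 ≤ (supp v).card := by
    have : Finset.univ.erase o ⊆ supp v := fun l hl => by
      rw [mem_supp, hv]; exact (map_ne_zero _).2 (hrow l (Finset.ne_of_mem_erase hl))
    have := Finset.card_le_card this
    rw [Finset.card_erase_of_mem (Finset.mem_univ o), Finset.card_univ, Fintype.card_fin] at this
    omega
  -- the scalar-like diagonal elements
  by_cases hκ : ∃ κ ∈ circ hF, κ ^ n ≠ 1
  · obtain ⟨κ, hκ, hκn⟩ := hκ
    exact kappa_row hF st hN hg hκ hκn hao (by rw [← hv]; omega)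
  simp only [not_exists, not_and, not_not] at hκ
  have hdvd := exists_circ_gen hF hκ
  have hq := two_le_q hF
  have hqn : q + 1 ≤ n := Nat.le_of_dvd (by omega) hdvd
  -- two entries of the same norm in the column `o`
  have hR : (Finset.univ.filter fun x : F => qConj hF x = x).card = q := by
    rw [← Fintype.card_subtype, ← Nat.card_eq_fintype_card]
    exact CfsgLib.Classical.SemiUnitaryClasses.natCard_fixed hF
  obtain ⟨i, hi, j, hj, hij, hN2⟩ := Finset.exists_ne_map_eq_of_card_lt_of_maps_to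
    (s := Finset.univ.erase a) (t := (Finset.univ.filter fun x : F => qConj hF x = x).erase 0)
    (f := fun l => (g : Matrix (Fin n) (Fin n) F) l o * qConj hF ((g : Matrix (Fin n) (Fin n) F) l o)) (by
      rw [Finset.card_erase_of_mem (by simp), hR, Finset.card_erase_of_mem (Finset.mem_univ a), Finset.card_univ,
        Fintype.card_fin]
      omega) (fun l hl => by
      have := hcol l (Finset.ne_of_mem_erase (Finset.mem_coe.1 hl))
      simp [this, map_mul, qConj_qConj, mul_comm])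
  have hia := Finset.ne_of_mem_erase hi
  have hja := Finset.ne_of_mem_erase hj
  obtain ⟨c, hce⟩ : ∃ c, c = (g : Matrix (Fin n) (Fin n) F) i o / (g : Matrix (Fin n) (Fin n) F) j o := ⟨_, rfl⟩
  have hrj := hcol j hja
  have hri := hcol i hia
  have hri' : (g : Matrix (Fin n) (Fin n) F) i o = c * (g : Matrix (Fin n) (Fin n) F) j o := by
    rw [hce, div_mul_cancel₀ _ hrj]
  have hc : c ∈ circ hF := by
    rw [mem_circ, hce, map_div₀]
    have := (map_ne_zero (qConj hF)).2 hrj
    field_simp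
    linear_combination hN2
  have hcc := (mem_circ hF).1 hc
  -- the monomial transposition fixing that column
  obtain ⟨d, hde⟩ : ∃ d : Fin n → F, d = fun l => if l = i then qConj hF c else if l = j then c else
      if l = a then -1 else 1 := ⟨_, rfl⟩
  have hd : ∀ l, d l * qConj hF (d l) = 1 := fun l => by
    rw [hde]; simp only
    split_ifs
    · rw [qConj_qConj, mul_comm, hcc]
    · exact hcc
    · simp
    · simp
  have hdet : ((Equiv.Perm.sign (Equiv.swap i j) : ℤ) : F) * ∏ l, d l = 1 := by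
    rw [Equiv.Perm.sign_swap hij, hde, ← Finset.mul_prod_erase _ _ (Finset.mem_univ i), if_pos rfl,
      ← Finset.mul_prod_erase _ _ (Finset.mem_erase.2 ⟨hij.symm, Finset.mem_univ j⟩), if_neg hij.symm, if_pos rfl,
      ← Finset.mul_prod_erase _ _ (Finset.mem_erase.2 ⟨hja.symm, Finset.mem_erase.2 ⟨hia.symm, Finset.mem_univ a⟩⟩),
      if_neg hia.symm, if_neg hja.symm, if_pos rfl, Finset.prod_eq_one fun l hl => ?_]
    · simp [mul_comm c, hcc]
      linear_combination hcc
    · simp only [Finset.mem_erase] at hl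
      rw [if_neg hl.2.2.1, if_neg hl.2.1, if_neg hl.1]
  obtain ⟨h, hh, hhe, -⟩ := mon_mem hF st.mons (Equiv.swap i j) (Equiv.swap i j) (fun _ => rfl) d hd hdet
  obtain ⟨w, hwe⟩ : ∃ w : Fin n → F, w = Pi.single i 1 + Pi.single j (-qConj hF c) := ⟨_, rfl⟩
  have hr2 : IsR2 h q (-2) (Pi.single a 1) (-1) w := fun y => by
    rw [hhe, f_single_right hF, hwe, herm_add_right hf, f_single_right hF, f_single_right hF, map_one, map_neg,
      qConj_qConj]
    funext l
    obtain ⟨l, rfl⟩ := (Equiv.swap i j).surjective l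
    rw [monMat_mulVec]
    by_cases hl1 : l = i
    · subst hl1
      simp [hde, hij.symm, hja]
      linear_combination (y j) * hcc
    by_cases hl2 : l = j
    · subst hl2
      simp [hde, hij, hij.symm, hia]
      ring
    rw [Equiv.swap_apply_of_ne_of_ne hl1 hl2]
    by_cases hl3 : l = a
    · subst hl3
      simp [hde, hl1, hl2]
      ring
    · simp [hde, hl1, hl2, hl3]
  have hx := hr2.conj hF st (inv_mem hg)
  rw [single_column] at hx
  obtain ⟨u, hue⟩ : ∃ u, u = ((g⁻¹ : GL (Fin n) F) : Matrix (Fin n) (Fin n) F) *ᵥ w := ⟨_, rfl⟩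
  rw [← hue] at hx
  have hv' : (fun j => ((g⁻¹ : GL (Fin n) F) : Matrix (Fin n) (Fin n) F) j a) = v := by
    rw [hv]; exact funext fun l => inv_entry hF st hg l a
  rw [hv'] at hx
  have hgu : (g : Matrix (Fin n) (Fin n) F) *ᵥ u = w := by rw [hue, mulVec_mulVec_inv]
  have hul : ∀ l, u l = qConj hF ((g : Matrix (Fin n) (Fin n) F) i l) - qConj hF c * qConj hF ((g : Matrix (Fin n) (Fin n) F) j l) :=
    fun l => by
    rw [hue, hwe, mulVec_add, mulVec_single_one, mulVec_single, Pi.add_apply, Matrix.col_apply, Pi.smul_apply,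
      Matrix.col_apply, inv_entry hF st hg, inv_entry hF st hg]
    simp
    ring
  have huo : u o = 0 := by rw [hul, hri', map_mul]; ring
  have hvo : v o = 0 := by rw [hv]; simp [hao]
  have hxm : IsMono (g⁻¹ * h * (g⁻¹)⁻¹) := hN _ (mul_mem (mul_mem (inv_mem hg) hh) (inv_mem (inv_mem hg))) o
    fun l hl => by rw [hx.entry hF, if_neg hl, huo, hvo]; simp
  have huu : Cfsg.hermForm n F q u u = 2 := by
    rw [hue, iso_of_mem hF st.le (inv_mem hg), hwe, hf.add_left, f_single_left hF, f_single_left hF]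
    simp [hij, hij.symm, qConj_qConj]
    linear_combination hcc
  have hvv : Cfsg.hermForm n F q v v = 1 := by
    rw [← hv', ← single_column, iso_of_mem hF st.le (inv_mem hg), f_single_left hF]; simp
  have huv : Cfsg.hermForm n F q u v = 0 := by
    rw [hue, ← hv', ← single_column, iso_of_mem hF st.le (inv_mem hg), hwe, f_single_right hF]
    simp [hia.symm, hja.symm]
  have hu0 : u ≠ 0 := fun e => by
    have := congrArg ((g : Matrix (Fin n) (Fin n) F) *ᵥ ·) e
    simp only [hgu, mulVec_zero, hwe] at this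
    simpa [hij] using congrFun this i
  by_cases h2 : (2 : F) = 0
  swap
  · have := supp_le_four hF hxm hx (neg_ne_zero.2 h2) (neg_ne_zero.2 one_ne_zero)
      (fun e => by simp [e, herm_zero_left hf] at hvv) hu0 (herm_eq_zero_comm hf (herm_eq_zero_comm hf huv))
      (by rw [hvv]; exact one_ne_zero)
    have := Finset.card_le_card (Finset.subset_union_left (s₁ := supp v) (s₂ := supp u))
    omega
  -- even characteristic
  have hn9 : 9 ≤ n := by
    rcases st.big with rfl | rfl | h | ⟨rfl, hq3⟩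
    · omega
    · exfalso
      have h8 : q ≤ 7 := by omega
      have hq' : q = 3 ∨ q = 7 := by interval_cases q <;> first | omega | exact Or.inl rfl | exact Or.inr rfl
      refine two_ne_zero_of_odd hF ?_ h2
      rcases hq' with rfl | rfl <;> decide
    · exact h
    exfalso
    have : q = 5 := by
      have h6 : q ≤ 5 := by omega
      interval_cases q <;> first | rfl | omega
    exact two_ne_zero_of_odd hF (this ▸ by decide) h2
  obtain ⟨p, hp⟩ : ∃ p, u p ≠ 0 := Function.ne_iff.1 hu0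
  obtain ⟨p', hp'⟩ := hxm.col p
  have husub : ∀ m, m ≠ p → m ≠ p' → u m = 0 := fun m h1 h3 => by
    have := hp' m h3
    rw [hx.entry hF, if_neg h1, h2] at this
    simp [hp] at this
    exact this
  have hop : o ≠ p := fun e => hp (e ▸ huo)
  have hpp : p' ≠ p ∧ u p' ≠ 0 := by
    by_contra hcon
    have hsingle : ∀ m, m ≠ p → u m = 0 := fun m hm => by
      by_cases hm' : m = p'
      · subst hm'
        by_contra hne
        exact hcon ⟨hm, hne⟩
      · exact husub m hm hm'
    have hcolp : ∀ l, l ≠ i → l ≠ j → (g : Matrix (Fin n) (Fin n) F) l p = 0 := fun l hl1 hl2 => by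
      have := congrFun hgu l
      rw [mulVec, dotProduct, Finset.sum_eq_single p (fun m _ hm => by rw [hsingle m hm, mul_zero]) (by simp), hwe] at this
      simpa [hl1, hl2, hp] using this
    obtain ⟨l₁, hl₁, l₂, hl₂, hll⟩ := Finset.one_lt_card.1 (show 1 < ({i, j} : Finset (Fin n))ᶜ.card by
      rw [Finset.card_compl, Fintype.card_fin, Finset.card_pair hij]; omega)
    simp only [Finset.mem_compl, Finset.mem_insert, Finset.mem_singleton, not_or] at hl₁ hl₂
    exact hll (one_zero_col hF st h6 hN hg hgm (hcolp _ hl₁.1 hl₁.2) (hcolp _ hl₂.1 hl₂.2))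
  obtain ⟨hpp, hup'⟩ := hpp
  have hop' : o ≠ p' := fun e => hup' (e ▸ huo)
  have hprop : ∀ l, l ≠ p → l ≠ p' →
      (g : Matrix (Fin n) (Fin n) F) i l = c * (g : Matrix (Fin n) (Fin n) F) j l := fun l h1 h3 => by
    have := congrArg (qConj hF) (hul l)
    rw [husub l h1 h3, map_zero, map_sub, map_mul, qConj_qConj, qConj_qConj, qConj_qConj] at this
    linear_combination -this
  -- a diagonal element making two zeros in column `a`
  obtain ⟨G, hG⟩ : ∃ G : Finset (Fin n), G = ({p, p', o} : Finset (Fin n))ᶜ := ⟨_, rfl⟩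
  have hGc : n - 3 ≤ G.card := by
    rw [hG, Finset.card_compl, Fintype.card_fin]
    have := Finset.card_le_three (a := p) (b := p') (c := o)
    omega
  have hGm : ∀ l, l ∈ G ↔ l ≠ p ∧ l ≠ p' ∧ l ≠ o := fun l => by simp [hG]
  obtain ⟨p₁, hp₁, p₂, hp₂, h12⟩ := Finset.one_lt_card.1 (show 1 < G.card by omega)
  obtain ⟨A, hA⟩ : ∃ A : Fin n → F, A = fun l => (g : Matrix (Fin n) (Fin n) F) i l *
      qConj hF ((g : Matrix (Fin n) (Fin n) F) a l) := ⟨_, rfl⟩
  have hA0 : ∀ l ∈ G, A l ≠ 0 := (fun l hl => by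
      obtain ⟨h1, h3, h4⟩ := (hGm l).1 hl
      rw [hA]
      refine mul_ne_zero (fun e => ?_) ((map_ne_zero _).2 (hrow l h4))
      have := hprop l h1 h3
      rw [e] at this
      exact hij (one_zero_col hF st h6 hN hg hgm e ((mul_eq_zero.1 this.symm).resolve_left (circ_ne_zero hF hc))))
  have hGW : Disjoint G ({p, p'} : Finset (Fin n)) :=
    (by
      rw [Finset.disjoint_left]
      intro l hl hl'
      simp only [Finset.mem_insert, Finset.mem_singleton] at hl'
      rcases hl' with rfl | rfl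
      · exact ((hGm _).1 hl).1 rfl
      · exact ((hGm _).1 hl).2.1 rfl)
  obtain ⟨d, hd', hdp, hds, hdW, hdne⟩ : ∃ d : Fin n → F, (∀ l, d l ∈ circ hF) ∧ ∏ l, d l = 1 ∧
      ∑ l, d l * A l = 0 ∧ (∀ i ∈ ({p, p'} : Finset (Fin n)), ∀ j ∈ ({p, p'} : Finset (Fin n)), d i = d j) ∧
      d p₁ ≠ d p₂ := by
    -- the coefficient at `o` vanishes, so its entry absorbs the product
    obtain ⟨T, hT, hTc⟩ := Finset.exists_subset_card_eq (s := (G.erase p₁).erase p₂) (n := 2) (by
      rw [Finset.card_erase_of_mem (Finset.mem_erase.2 ⟨h12.symm, hp₂⟩), Finset.card_erase_of_mem hp₁]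
      omega)
    obtain ⟨p₃, p₄, h34, rfl⟩ := Finset.card_eq_two.1 hTc
    have h3 : p₃ ∈ (G.erase p₁).erase p₂ := hT (by simp)
    have h4 : p₄ ∈ (G.erase p₁).erase p₂ := hT (by simp)
    simp only [Finset.mem_erase] at h3 h4
    have hAo : A o = 0 := by rw [hA]; simp [hao]
    obtain ⟨e₁, he₁, e₂, he₂, e₃, he₃, e₄, he₄, hsum, hne⟩ := exists_four hF (hA0 _ hp₁) (hA0 _ hp₂)
      (hA0 _ h3.2.2) (hA0 _ h4.2.2) (-∑ l ∈ ({p₁, p₂, p₃, p₄} : Finset (Fin n))ᶜ, A l)
    have hP := inv_mem_circ hF (mul_mem_circ hF (mul_mem_circ hF (mul_mem_circ hF he₁ he₂) he₃) he₄)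
    obtain ⟨d, hd⟩ : ∃ d : Fin n → F, d = fun l => if l = p₁ then e₁ else if l = p₂ then e₂ else
        if l = p₃ then e₃ else if l = p₄ then e₄ else if l = o then (e₁ * e₂ * e₃ * e₄)⁻¹ else 1 :=
      ⟨_, rfl⟩
    have ho1 := (hGm _).1 hp₁
    have ho2 := (hGm _).1 hp₂
    have ho3 := (hGm _).1 h3.2.2
    have ho4 := (hGm _).1 h4.2.2
    have v1 : d p₁ = e₁ := by simp [hd]
    have v2 : d p₂ = e₂ := by simp [hd, h12.symm]
    have v3 : d p₃ = e₃ := by simp [hd, h3.1, h3.2.1]
    have v4 : d p₄ = e₄ := by simp [hd, h4.1, h4.2.1, h34.symm]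
    have vo : d o = (e₁ * e₂ * e₃ * e₄)⁻¹ := by
      simp [hd, ho1.2.2.symm, ho2.2.2.symm, ho3.2.2.symm, ho4.2.2.symm]
    refine ⟨d, fun l => ?_, ?_, ?_, fun x hx y hy => ?_, by rw [v1, v2]; exact hne⟩
    · rw [hd]; simp only
      split_ifs <;> first | assumption | exact one_mem_circ hF
    · rw [← Finset.prod_subset (Finset.subset_univ ({p₁, p₂, p₃, p₄, o} : Finset (Fin n))) fun l _ hl => by
        simp only [Finset.mem_insert, Finset.mem_singleton, not_or] at hl
        simp [hd, hl.1, hl.2.1, hl.2.2.1, hl.2.2.2.1, hl.2.2.2.2],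
        Finset.prod_insert (by simp [h12, h3.2.1.symm, h4.2.1.symm, ho1.2.2]),
        Finset.prod_insert (by simp [h3.1.symm, h4.1.symm, ho2.2.2]),
        Finset.prod_insert (by simp [h34, ho3.2.2]), Finset.prod_insert (by simp [ho4.2.2]),
        Finset.prod_singleton, v1, v2, v3, v4, vo]
      have := circ_ne_zero hF he₁
      have := circ_ne_zero hF he₂
      have := circ_ne_zero hF he₃
      have := circ_ne_zero hF he₄
      field_simp
    · rw [← Finset.sum_add_sum_compl ({p₁, p₂, p₃, p₄} : Finset (Fin n)),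
        Finset.sum_insert (by simp [h12, h3.2.1.symm, h4.2.1.symm]),
        Finset.sum_insert (by simp [h3.1.symm, h4.1.symm]), Finset.sum_pair h34, v1, v2, v3, v4,
        Finset.sum_congr rfl (fun l hl => show d l * A l = A l by
          simp only [Finset.mem_compl, Finset.mem_insert, Finset.mem_singleton, not_or] at hl
          by_cases hlo : l = o
          · rw [hlo, hAo, mul_zero]
          · simp [hd, hl.1, hl.2.1, hl.2.2.1, hl.2.2.2, hlo])
          (s₁ := ({p₁, p₂, p₃, p₄} : Finset (Fin n))ᶜ)]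
      linear_combination hsum
    · have h1 : ∀ z ∈ ({p, p'} : Finset (Fin n)), d z = 1 := fun z hz => by
        simp only [Finset.mem_insert, Finset.mem_singleton] at hz
        rcases hz with rfl | rfl
        · simp [hd, ho1.1.symm, ho2.1.symm, ho3.1.symm, ho4.1.symm, hop.symm]
        · simp [hd, ho1.2.1.symm, ho2.2.1.symm, ho3.2.1.symm, ho4.2.1.symm, hop'.symm]
      rw [h1 x hx, h1 y hy]
  simp only [hA] at hds
  obtain ⟨x, hxM, hxe, hxg⟩ := diag_conj hF st hg hd' hdp
  have hxia : (x : Matrix (Fin n) (Fin n) F) i a = 0 := by rw [hxe]; exact hds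
  have hxja : (x : Matrix (Fin n) (Fin n) F) j a = 0 := by
    rw [hxe]
    have e1 := orth_rows hF st hg i a
    have e2 := orth_rows hF st hg j a
    rw [if_neg hia] at e1
    rw [if_neg hja] at e2
    have e3 : ∑ l, (d l - d p) * ((g : Matrix (Fin n) (Fin n) F) i l * qConj hF ((g : Matrix (Fin n) (Fin n) F) a l)) =
        c * ∑ l, (d l - d p) * ((g : Matrix (Fin n) (Fin n) F) j l * qConj hF ((g : Matrix (Fin n) (Fin n) F) a l)) := by
      rw [Finset.mul_sum]
      refine Finset.sum_congr rfl fun l _ => ?_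
      by_cases h1 : l = p
      · subst h1; simp
      by_cases h3 : l = p'
      · subst h3; rw [hdW l (by simp) p (by simp)]; simp
      rw [hprop l h1 h3]; ring
    simp only [sub_mul, Finset.sum_sub_distrib, ← Finset.mul_sum, e1, e2, mul_zero, sub_zero, hds] at e3
    exact (mul_eq_zero.1 e3.symm).resolve_left (circ_ne_zero hF hc)
  have hxm : IsMono x := by
    by_contra hxm
    exact hij (one_zero_col hF st h6 hN hxM hxm hxia hxja)
  -- then the diagonal element is scalar away from `o`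
  obtain ⟨b, hb⟩ := hxm.col a
  obtain ⟨η, hη⟩ : ∃ η, η = (x : Matrix (Fin n) (Fin n) F) b a := ⟨_, rfl⟩
  have hrow_x : ∀ l, l ≠ a → (x : Matrix (Fin n) (Fin n) F) b l = 0 := fun l hl => by
    have h := orth_rows hF st (inv_mem hxM) l a
    simp only [inv_entry hF st hxM, qConj_qConj] at h
    rw [if_neg hl, Finset.sum_eq_single b (fun m _ hm => by rw [hb m hm]; simp) (by simp), ← hη] at h
    refine (map_eq_zero _).1 ((mul_eq_zero.1 h).resolve_right fun hη0 => ?_)
    have h' := orth_rows hF st (inv_mem hxM) a a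
    simp only [inv_entry hF st hxM, qConj_qConj, if_true] at h'
    rw [Finset.sum_eq_single b (fun m _ hm => by rw [hb m hm]; simp) (by simp), ← hη, hη0, mul_zero] at h'
    exact zero_ne_one h'
  have hrel : ∀ l, η * (g : Matrix (Fin n) (Fin n) F) a l = (g : Matrix (Fin n) (Fin n) F) b l * d l := fun l => by
    rw [← hxg b l, Units.val_mul, Matrix.mul_apply,
      Finset.sum_eq_single a (fun m _ hm => by rw [hrow_x m hm, zero_mul]) (by simp), hη]
  have hba : b = a := by
    have h := hrel o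
    rw [hao, mul_zero] at h
    exact one_zero_col hF st h6 hN hg hgm ((mul_eq_zero.1 h.symm).resolve_right (circ_ne_zero hF (hd' o))) hao
  have hall : ∀ l, l ≠ o → d l = η := fun l hl => by
    have h := hrel l
    rw [hba] at h
    exact mul_left_cancel₀ (hrow l hl) (by linear_combination -h)
  exact hdne (by rw [hall p₁ ((hGm _).1 hp₁).2.2, hall p₂ ((hGm _).1 hp₂).2.2])

end CfsgLib.MaxSub.UFrame.Mono
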