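import Cfsg.Agent.Lib.MaxSub.UFrameBlocks
import Cfsg.Agent.Lib.MaxSub.UFrameMonoFix

/-!
An overgroup of the monomial group with a non-monomial element has all transvections.
-/

set_option autoImplicit false
set_option linter.unusedSectionVars false

namespace CfsgLib.MaxSub.UFrame.Mono

open Matrix CfsgLib.MaxSub CfsgLib.MaxSub.DecompMax CfsgLib.MaxSub.UFrame
open scoped MatrixGroups

variable {F : Type*} [Field F] [Fintype F] [DecidableEq F] {q n : ℕ} (hF : Fintype.card F = q ^ 2)
variable {M : Subgroup (GL (Fin n) F)}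

include hF in
theorem f_sum_supp (x : Fin n → F) (y : Fin n → F) :
    Cfsg.hermForm n F q x y = ∑ i ∈ supp x, x i * qConj hF (y i) := by
  rw [f_apply hF]
  refine (Finset.sum_subset (Finset.subset_univ _) fun i _ hi => ?_).symm
  rw [mem_supp, not_not] at hi
  rw [hi, zero_mul]

include hF in
theorem norm_supp_ne {x : Fin n → F} {i : Fin n} (hi : i ∈ supp x) : x i * qConj hF (x i) ≠ 0 :=
  mul_ne_zero (mem_supp.1 hi) ((map_ne_zero _).2 (mem_supp.1 hi))

include hF in
theorem norm_fixed (c : F) : qConj hF (c * qConj hF c) = c * qConj hF c := by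
  rw [map_mul, qConj_qConj, mul_comm]

include hF in
/-- a monomial element with prescribed entries off one coordinate -/
theorem mon_fix (st : MSetting n q M) (σ : Equiv.Perm (Fin n)) {d₀ : Fin n → F} (hd : ∀ i, d₀ i ∈ circ hF)
    (p : Fin n) :
    ∃ g ∈ M, ∃ d : Fin n → F, (g : Matrix (Fin n) (Fin n) F) = monMat σ d ∧ (∀ i, d i ∈ circ hF) ∧
      ∀ i, i ≠ p → d i = d₀ i := by
  classical
  obtain ⟨d₁, hd₁, hd₁', hdet⟩ := exists_sign_diag hF σ p
  obtain ⟨P, hP⟩ : ∃ P, P = ∏ i ∈ Finset.univ.erase p, d₀ i := ⟨_, rfl⟩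
  have hPc : P ∈ circ hF := hP ▸ prod_mem_circ hF fun i _ => hd i
  obtain ⟨d, hde⟩ : ∃ d : Fin n → F, d = fun i => if i = p then d₁ p * P⁻¹ else d₀ i := ⟨_, rfl⟩
  have hdc : ∀ i, d i ∈ circ hF := fun i => by
    rw [hde]; simp only
    split_ifs
    · exact mul_mem_circ hF ((mem_circ hF).2 (hd₁ p)) (inv_mem_circ hF hPc)
    · exact hd i
  have hprod : ∏ i, d i = ∏ i, d₁ i := by
    rw [← Finset.mul_prod_erase _ _ (Finset.mem_univ p), ← Finset.mul_prod_erase _ d₁ (Finset.mem_univ p), hde]
    simp only [if_true]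
    rw [ Finset.prod_congr rfl (fun i hi => if_neg (Finset.ne_of_mem_erase hi)), ← hP,
      Finset.prod_eq_one (fun i hi => hd₁' i (Finset.ne_of_mem_erase hi)), mul_one, mul_assoc,
      inv_mul_cancel₀ (circ_ne_zero hF hPc), mul_one]
  obtain ⟨g, hg, hge, -⟩ := mon_mem hF st.mons σ σ (fun _ => rfl) d (fun i => (mem_circ hF).1 (hdc i))
    (by rw [hprod, hdet])
  exact ⟨g, hg, d, hge, hdc, fun i hi => by rw [hde]; exact if_neg hi⟩

include hF in
/-- monomial images of a vector with a zero coordinate -/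
theorem exists_map (st : MSetting n q M) {s x : Fin n → F} {p : Fin n} (hp : s p = 0) (σ : Equiv.Perm (Fin n))
    (h0 : ∀ i, s i = 0 → x (σ i) = 0)
    (hN : ∀ i, s i ≠ 0 → x (σ i) * qConj hF (x (σ i)) = s i * qConj hF (s i)) :
    ∃ g ∈ M, (g : Matrix (Fin n) (Fin n) F) *ᵥ s = x := by
  obtain ⟨d₀, hd₀⟩ : ∃ d₀ : Fin n → F, d₀ = fun i => if s i = 0 then 1 else x (σ i) / s i := ⟨_, rfl⟩
  obtain ⟨g, hg, d, hge, -, hde⟩ := mon_fix hF st σ (d₀ := d₀) (fun i => by
    rw [hd₀]; simp only
    split_ifs with h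
    · exact one_mem_circ hF
    · rw [mem_circ, map_div₀, div_mul_div_comm, hN i h, div_self (mul_ne_zero h ((map_ne_zero _).2 h))]) p
  refine ⟨g, hg, funext fun j => ?_⟩
  obtain ⟨i, rfl⟩ := σ.surjective j
  rw [hge, monMat_mulVec]
  by_cases hs : s i = 0
  · rw [hs, mul_zero, h0 i hs]
  · rw [hde i fun e => hs (e ▸ hp), hd₀]
    simp [hs]

theorem exists_perm_finset {A B : Finset (Fin n)} (h : A.card = B.card) :
    ∃ σ : Equiv.Perm (Fin n), ∀ i, i ∈ A ↔ σ i ∈ B := by
  classical
  let e : {i // i ∈ A} ≃ {i // i ∈ B} := Fintype.equivOfCardEq (by simpa using h)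
  refine ⟨e.extendSubtype, fun i => ⟨fun hi => e.extendSubtype_mem i hi, fun hi => ?_⟩⟩
  by_contra hn
  exact e.extendSubtype_not_mem i hn hi

/-! ### quasi-reflections in `M` -/

/-- a unit vector with a zero coordinate whose quasi-reflections, compensated there, lie in `M` -/
def Unit' (hF : Fintype.card F = q ^ 2) (M : Subgroup (GL (Fin n) F)) (a : Fin n → F) : Prop :=
  Cfsg.hermForm n F q a a = 1 ∧ ∃ o, a o = 0 ∧
    ∀ μ ∈ circ hF, ∃ g ∈ M, IsR2 g q (μ - 1) a (qConj hF μ - 1) (Pi.single o 1)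

include hF in
theorem unit_at (st : MSetting n q M) {a : Fin n → F} (ha : Unit' hF M a) {o' : Fin n} (ho' : a o' = 0) {μ : F}
    (hμ : μ ∈ circ hF) : ∃ g ∈ M, IsR2 g q (μ - 1) a (qConj hF μ - 1) (Pi.single o' 1) := by
  obtain ⟨-, o, ho, hE⟩ := ha
  obtain ⟨g, hg, hgr⟩ := hE μ hμ
  by_cases hoo : o = o'
  · exact ⟨g, hg, hoo ▸ hgr⟩
  obtain ⟨h, hh, hhr⟩ := exists_pair_diag hF st hoo hμ
  have hf := isUnitaryForm_hermForm hF n
  refine ⟨g * h, mul_mem hg hh, fun y => ?_⟩
  rw [Units.val_mul, ← mulVec_mulVec, hhr, hgr]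
  simp only [hf.add_left, hf.smul_left, f_single_right hF, f_single_left hF, map_one, mul_one, one_mul, ho, ho',
    map_zero, mul_zero, add_zero, Pi.single_eq_same, Pi.single_eq_of_ne hoo]
  have hμ' := (mem_circ hF).1 hμ
  funext l
  simp only [Pi.add_apply, Pi.smul_apply, smul_eq_mul]
  linear_combination (y o * (Pi.single o (1 : F) : Fin n → F) l) * hμ'

include hF in
theorem unit_of_fix (st : MSetting n q M) {x : GL (Fin n) F} (hx : x ∈ M) {o l : Fin n} (hlo : l ≠ o)
    (ho : ∀ j, j ≠ o → (x : Matrix (Fin n) (Fin n) F) j o = 0) :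
    Unit' hF M ((x : Matrix (Fin n) (Fin n) F) *ᵥ Pi.single l 1) := by
  have hf := isUnitaryForm_hermForm hF n
  have hiso := iso_of_mem hF st.le hx
  obtain ⟨c, hc⟩ : ∃ c, c = (x : Matrix (Fin n) (Fin n) F) o o := ⟨_, rfl⟩
  have hcol : (x : Matrix (Fin n) (Fin n) F) *ᵥ Pi.single o 1 = c • (Pi.single o 1 : Fin n → F) := by
    rw [single_column]; funext m
    rcases eq_or_ne m o with rfl | hm
    · simp [hc]
    · simp [ho m hm, hm]
  have hcc : c * qConj hF c = 1 := by
    have h := hiso (Pi.single o 1) (Pi.single o 1)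
    rw [hcol, hf.smul_left, herm_smul_right hf, f_single_left hF] at h
    simpa using h
  refine ⟨by rw [hiso, f_single_left hF]; simp, o, ?_, fun μ hμ => ?_⟩
  · have h := hiso (Pi.single l 1) (Pi.single o 1)
    rw [hcol, herm_smul_right hf, f_single_right hF, f_single_right hF, Pi.single_eq_of_ne hlo.symm] at h
    have hσc : qConj hF c ≠ 0 := right_ne_zero_of_mul_eq_one hcc
    simpa [hσc] using h
  · obtain ⟨h, hh, hhr⟩ := exists_pair_diag hF st hlo hμ
    refine ⟨_, mul_mem (mul_mem hx hh) (inv_mem hx), fun y => ?_⟩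
    rw [hhr.conj hF st hx y, hcol, herm_smul_right hf, smul_smul]
    congr 2
    linear_combination ((qConj hF μ - 1) * Cfsg.hermForm n F q y (Pi.single o 1)) * hcc

include hF in
theorem unit_mono (st : MSetting n q M) {a : Fin n → F} (ha : Unit' hF M a) {g : GL (Fin n) F} (hg : g ∈ M)
    {σ : Equiv.Perm (Fin n)} {d : Fin n → F} (hge : (g : Matrix (Fin n) (Fin n) F) = monMat σ d)
    (hd : ∀ i, d i ∈ circ hF) : Unit' hF M ((g : Matrix (Fin n) (Fin n) F) *ᵥ a) := by
  have hf := isUnitaryForm_hermForm hF n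
  obtain ⟨h1, o, ho, hE⟩ := ha
  refine ⟨by rw [iso_of_mem hF st.le hg, h1], σ o, by rw [hge, monMat_mulVec, ho, mul_zero], fun μ hμ => ?_⟩
  obtain ⟨h, hh, hhr⟩ := hE μ hμ
  refine ⟨_, mul_mem (mul_mem hg hh) (inv_mem hg), fun y => ?_⟩
  have he : (g : Matrix (Fin n) (Fin n) F) *ᵥ Pi.single o 1 = d o • (Pi.single (σ o) 1 : Fin n → F) := by
    funext j
    obtain ⟨i, rfl⟩ := σ.surjective j
    rw [hge, monMat_mulVec]
    by_cases hi : i = o
    · subst hi; simp
    · simp [hi, σ.injective.eq_iff]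
  rw [hhr.conj hF st hg y, he, herm_smul_right hf, smul_smul]
  congr 2
  linear_combination ((qConj hF μ - 1) * Cfsg.hermForm n F q y (Pi.single (σ o) 1)) * (mem_circ hF).1 (hd o)

include hF in
theorem unit_smul {a : Fin n → F} (ha : Unit' hF M a) {c : F} (hc : c ∈ circ hF) : Unit' hF M (c • a) := by
  have hf := isUnitaryForm_hermForm hF n
  have hc' := (mem_circ hF).1 hc
  obtain ⟨h1, o, ho, hE⟩ := ha
  refine ⟨by rw [hf.smul_left, herm_smul_right hf, h1, mul_one, hc'], o, by simp [ho], fun μ hμ => ?_⟩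
  obtain ⟨g, hg, hgr⟩ := hE μ hμ
  refine ⟨g, hg, fun y => ?_⟩
  rw [hgr y, herm_smul_right hf, smul_smul]
  congr 3
  linear_combination (-((μ - 1) * Cfsg.hermForm n F q y a)) * hc'

include hF in
theorem unit_move (st : MSetting n q M) {a b : Fin n → F} (ha : Unit' hF M a) (hb : Unit' hF M b) {o : Fin n}
    (hao : a o = 0) (hbo : b o = 0) {μ : F} (hμ : μ ∈ circ hF) :
    Unit' hF M (b + ((μ - 1) * Cfsg.hermForm n F q b a) • a) := by
  have hf := isUnitaryForm_hermForm hF n
  obtain ⟨g, hg, hgr⟩ := unit_at hF st ha hao hμ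
  have hgb : (g : Matrix (Fin n) (Fin n) F) *ᵥ b = b + ((μ - 1) * Cfsg.hermForm n F q b a) • a := by
    rw [hgr, f_single_right hF, hbo]; simp
  have hge : (g : Matrix (Fin n) (Fin n) F) *ᵥ Pi.single o 1 = qConj hF μ • (Pi.single o 1 : Fin n → F) := by
    rw [hgr, f_single_left hF, f_single_left hF, hao]
    funext l
    simp
    ring
  refine ⟨by rw [← hgb, iso_of_mem hF st.le hg, hb.1], o, by simp [hao, hbo], fun ν hν => ?_⟩
  obtain ⟨h, hh, hhr⟩ := unit_at hF st hb hbo hν
  refine ⟨_, mul_mem (mul_mem hg hh) (inv_mem hg), fun y => ?_⟩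
  rw [hhr.conj hF st hg y, hgb, hge, herm_smul_right hf, smul_smul]
  congr 2
  have hμ' := (mem_circ hF).1 hμ
  rw [qConj_qConj]
  linear_combination ((qConj hF ν - 1) * Cfsg.hermForm n F q y (Pi.single o 1)) * hμ'

include hF in
theorem grow (st : MSetting n q M) {a : Fin n → F} (ha : Unit' hF M a) (h2 : 2 ≤ (supp a).card)
    (h4 : 2 * (supp a).card ≤ n) (h8 : (supp a).card ≤ 4) : ∃ a', Unit' hF M a' ∧ (supp a').card = 2 * (supp a).card - 1 := by
  classical
  have hn := st.hn
  obtain ⟨j, hj⟩ := Finset.card_pos.1 (show 0 < (supp a).card by omega)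
  obtain ⟨T, hT, hTc⟩ := Finset.exists_subset_card_eq (s := (supp a)ᶜ) (n := (supp a).card - 1) (by
    rw [Finset.card_compl, Fintype.card_fin]; omega)
  have hjT : j ∉ T := fun h => (Finset.mem_compl.1 (hT h)) hj
  obtain ⟨σ₀, hσ₀⟩ := exists_perm_finset (A := supp a) (B := insert j T)
    (by rw [Finset.card_insert_of_notMem hjT, hTc]; omega)
  obtain ⟨σ, hσe⟩ : ∃ σ : Equiv.Perm (Fin n), σ = Equiv.swap (σ₀ j) j * σ₀ := ⟨_, rfl⟩
  have hσj : σ j = j := by rw [hσe, Equiv.Perm.mul_apply, Equiv.swap_apply_left]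
  have hσ : ∀ i, i ∈ supp a ↔ σ i ∈ insert j T := fun i => by
    rw [hσ₀ i, hσe, Equiv.Perm.mul_apply]
    rcases eq_or_ne (σ₀ i) (σ₀ j) with h | h
    · rw [h, Equiv.swap_apply_left]
      simp [(hσ₀ j).1 hj]
    rcases eq_or_ne (σ₀ i) j with h' | h'
    · rw [h', Equiv.swap_apply_right]
      simp [(hσ₀ j).1 hj]
    · rw [Equiv.swap_apply_of_ne_of_ne h h']
  obtain ⟨g, hg, d, hge, hd, -⟩ := mon_fix hF st σ (d₀ := fun _ => 1) (fun _ => one_mem_circ hF) j
  have hb := unit_mono hF st ha hg hge hd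
  obtain ⟨b, hbe⟩ : ∃ b, b = (g : Matrix (Fin n) (Fin n) F) *ᵥ a := ⟨_, rfl⟩
  rw [← hbe] at hb
  have hbs : ∀ i, b i ≠ 0 ↔ i ∈ insert j T := by
    intro i
    obtain ⟨i, rfl⟩ := σ.surjective i
    rw [← hσ i, hbe, hge, monMat_mulVec, mem_supp]
    simp [circ_ne_zero hF (hd i)]
  obtain ⟨o, -, ho⟩ := Finset.exists_mem_notMem_of_card_lt_card (s := supp a ∪ T) (t := Finset.univ) (by
    refine (Finset.card_union_le _ _).trans_lt ?_
    rw [hTc, Finset.card_univ, Fintype.card_fin]; omega)
  simp only [Finset.mem_union, mem_supp, not_or, not_not] at ho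
  have hoj : o ≠ j := fun e => mem_supp.1 hj (e ▸ ho.1)
  have hbo : b o = 0 := by
    by_contra h
    rcases Finset.mem_insert.1 ((hbs o).1 h) with h' | h'
    · exact hoj h'
    · exact ho.2 h'
  obtain ⟨μ, hμ, hμ1, hμ2⟩ := exists_circ_ne hF
  have hnr := conj_ne_self hF hμ hμ1 hμ2
  refine ⟨_, unit_move hF st ha hb ho.1 hbo hμ, ?_⟩
  have hbj : b j ≠ 0 := (hbs j).2 (Finset.mem_insert_self _ _)
  have hba : Cfsg.hermForm n F q b a = b j * qConj hF (a j) := by
    rw [f_apply hF]
    refine Finset.sum_eq_single j (fun i _ hi => ?_) (by simp)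
    by_contra h
    obtain ⟨h1, h3⟩ := mul_ne_zero_iff.1 h
    rcases Finset.mem_insert.1 ((hbs i).1 h1) with h' | h'
    · exact hi h'
    · exact Finset.mem_compl.1 (hT h') (mem_supp.2 ((map_ne_zero _).1 h3))
  have hco : (μ - 1) * Cfsg.hermForm n F q b a ≠ 0 :=
    mul_ne_zero (sub_ne_zero.2 hμ1) (hba ▸ mul_ne_zero hbj ((map_ne_zero _).2 (mem_supp.1 hj)))
  have hset : supp (b + ((μ - 1) * Cfsg.hermForm n F q b a) • a) = supp a ∪ T := by
    ext i
    simp only [Finset.mem_union, mem_supp, Pi.add_apply, Pi.smul_apply, smul_eq_mul]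
    by_cases hiT : i ∈ T
    · have hai : a i = 0 := by simpa [mem_supp] using hT hiT
      simp [hai, hiT, (hbs i).2 (Finset.mem_insert_of_mem hiT)]
    rcases eq_or_ne i j with rfl | hij
    · simp only [mem_supp.1 hj, ne_eq, not_false_iff, true_or, iff_true]
      rw [hba]
      intro e
      have e1 : (1 : F) + (μ - 1) * (qConj hF (a i) * a i) = 0 :=
        (mul_eq_zero.1 (show b i * (1 + (μ - 1) * (qConj hF (a i) * a i)) = 0 by linear_combination e)).resolve_left hbj
      have e2 := congrArg (qConj hF) e1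
      simp only [map_add, map_mul, map_sub, map_one, map_zero, qConj_qConj] at e2
      have : (qConj hF μ - μ) * (qConj hF (a i) * a i) = 0 := by linear_combination e2 - e1
      exact mul_ne_zero (sub_ne_zero.2 hnr) (mul_ne_zero ((map_ne_zero _).2 (mem_supp.1 hj)) (mem_supp.1 hj)) this
    · have hbi : b i = 0 := by
        by_contra h
        rcases Finset.mem_insert.1 ((hbs i).1 h) with h' | h'
        · exact hij h'
        · exact hiT h'
      simp [hbi, hiT, (mul_ne_zero_iff.1 hco).1, (mul_ne_zero_iff.1 hco).2]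
  rw [hset, Finset.card_union_of_disjoint (Finset.disjoint_left.2 fun i hi hi' => Finset.mem_compl.1 (hT hi') hi), hTc]
  omega

include hF in
theorem exists_unit_five (st : MSetting n q M) (h6 : 6 ≤ n) {g : GL (Fin n) F} (hg : g ∈ M) (hgm : ¬ IsMono g) :
    ∃ a, Unit' hF M a ∧ 4 ≤ (supp a).card ∧ (8 ≤ n → 5 ≤ (supp a).card) := by
  classical
  obtain ⟨x, hx, o, ho, hxm⟩ : ∃ x ∈ M, ∃ o, (∀ j, j ≠ o → (x : Matrix (Fin n) (Fin n) F) j o = 0) ∧ ¬ IsMono x := by
    have h := no_nofix hF st h6 hg hgm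
    simp only [NoFix, not_forall] at h
    obtain ⟨x, hx, o, ho, hxm⟩ := h
    exact ⟨x, hx, o, ho, hxm⟩
  obtain ⟨l, hlo, hl2⟩ : ∃ l, l ≠ o ∧ 2 ≤ (supp ((x : Matrix (Fin n) (Fin n) F) *ᵥ Pi.single l 1)).card := by
    by_contra hcon
    simp only [not_exists, not_and, not_le] at hcon
    apply hxm
    intro l
    by_cases hlo : l = o
    · exact ⟨o, fun i j hi hj => by rw [id] at hi hj; subst hi; rw [hlo]; exact ho j hj⟩
    · have hle := hcon l hlo
      rcases (supp ((x : Matrix (Fin n) (Fin n) F) *ᵥ Pi.single l 1)).eq_empty_or_nonempty with he | ⟨b, hb⟩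
      · refine ⟨o, fun i j hi _ => ?_⟩
        rw [id] at hi; subst hi
        by_contra hne
        have : j ∈ supp ((x : Matrix (Fin n) (Fin n) F) *ᵥ Pi.single i 1) := mem_supp.2 (by rw [single_column]; exact hne)
        rw [he] at this
        exact Finset.notMem_empty j this
      · refine ⟨b, fun i j hi hj => ?_⟩
        rw [id] at hi hj; subst hi
        by_contra hne
        exact hj (Finset.card_le_one.1 (by omega) j (mem_supp.2 (by rw [single_column]; exact hne)) b hb)
  have h0 := unit_of_fix hF st hx hlo ho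
  obtain ⟨a, ha, h3⟩ : ∃ a, Unit' hF M a ∧ 3 ≤ (supp a).card := by
    rcases Nat.lt_or_ge (supp ((x : Matrix (Fin n) (Fin n) F) *ᵥ Pi.single l 1)).card 3 with h | h
    · obtain ⟨a, ha, hc⟩ := grow hF st h0 hl2 (by have := st.hn; omega) (by omega)
      exact ⟨a, ha, by omega⟩
    · exact ⟨_, h0, h⟩
  have hn := h6
  by_cases h : (supp a).card ≤ 4 ∧ 2 * (supp a).card ≤ n
  · obtain ⟨a', ha', hc⟩ := grow hF st ha (by omega) h.2 h.1
    exact ⟨a', ha', by omega, fun _ => by omega⟩
  · exact ⟨a, ha, by omega, fun _ => by omega⟩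

/-! ### a first transvection group -/

include hF in
theorem uFull_of_units (st : MSetting n q M) {a b : Fin n → F} (ha : Unit' hF M a) (hb : Unit' hF M b) {c : Fin n}
    (hac : a c = 0) (hbc : b c = 0) (hba : Cfsg.hermForm n F q b a = 1) :
    UFull (qConj hF) (Cfsg.hermForm n F q) M (b + (-1 : F) • a) := by
  classical
  have hf := isUnitaryForm_hermForm hF n
  obtain ⟨z, hze⟩ : ∃ z, z = b + (-1 : F) • a := ⟨_, rfl⟩
  rw [← hze]
  have hab : Cfsg.hermForm n F q a b = 1 := by rw [hf.herm, hba, map_one]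
  have hza : Cfsg.hermForm n F q z a = 0 := by
    rw [hze, hf.add_left, hf.smul_left, hba, ha.1]; ring
  have hzz : Cfsg.hermForm n F q z z = 0 := by
    simp only [hze, hf.add_left, herm_add_right hf, hf.smul_left, herm_smul_right hf, hba, hab, ha.1, hb.1,
      map_neg, map_one]
    ring
  let Real : F → F → Prop := fun L K => ∃ g ∈ M, ∀ y, (g : Matrix (Fin n) (Fin n) F) *ᵥ y = y +
    (qConj hF L * Cfsg.hermForm n F q y a + K * Cfsg.hermForm n F q y z) • z + (-L * Cfsg.hermForm n F q y z) • a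
  have hbase : ∀ μ ∈ circ hF, Real (μ - 1) (qConj hF (μ - 1)) := by
    intro μ hμ
    have hμ' := (mem_circ hF).1 hμ
    obtain ⟨g₁, hg₁, hr₁⟩ := unit_at hF st ha hac hμ
    obtain ⟨g₂, hg₂, hr₂⟩ := unit_at hF st hb hbc (conj_mem_circ hF hμ)
    refine ⟨g₁ * g₂, mul_mem hg₁ hg₂, fun y => ?_⟩
    rw [Units.val_mul, ← mulVec_mulVec, hr₂, hr₁, qConj_qConj]
    simp only [hf.add_left, hf.smul_left, f_single_right hF, f_single_left hF, map_one, mul_one, one_mul, hba, hac,
      hbc, map_zero, mul_zero, add_zero, Pi.single_eq_same, map_sub]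
    have hyb : Cfsg.hermForm n F q y z = Cfsg.hermForm n F q y b - Cfsg.hermForm n F q y a := by
      rw [hze, herm_add_right hf, herm_smul_right hf, map_neg, map_one]; ring
    rw [hyb, hze]
    funext l
    simp only [Pi.add_apply, Pi.smul_apply, smul_eq_mul]
    linear_combination ((Cfsg.hermForm n F q y b) * a l + y c * (Pi.single c (1 : F) : Fin n → F) l) * hμ'
  have hmul : ∀ L K L' K', Real L K → Real L' K' → Real (L + L') (K + K' - qConj hF L * L') := by
    rintro L K L' K' ⟨g₁, hg₁, h₁⟩ ⟨g₂, hg₂, h₂⟩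
    refine ⟨g₁ * g₂, mul_mem hg₁ hg₂, fun y => ?_⟩
    rw [Units.val_mul, ← mulVec_mulVec, h₂, h₁]
    simp only [hf.add_left, hf.smul_left, hzz, hza, herm_eq_zero_comm hf hza, ha.1, map_add]
    module
  have hreal : ∀ L, ∃ K, Real L K := by
    intro L
    obtain ⟨e₁, he₁, e₂, he₂, e₃, he₃, e₄, he₄, hs, -⟩ :=
      exists_four hF (one_ne_zero (α := F)) one_ne_zero one_ne_zero one_ne_zero (L + 4)
    refine ⟨_, (show L = e₁ - 1 + (e₂ - 1) + (e₃ - 1) + (e₄ - 1) by linear_combination -hs) ▸
      hmul _ _ _ _ (hmul _ _ _ _ (hmul _ _ _ _ (hbase e₁ he₁) (hbase e₂ he₂)) (hbase e₃ he₃)) (hbase e₄ he₄)⟩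
  refine ⟨hzz, fun s hs => ?_⟩
  obtain ⟨t, ht⟩ := exists_trace_eq hf (a := (1 : F)) (map_one _)
  obtain ⟨K, g₁, hg₁, h₁⟩ := hreal (s * t)
  obtain ⟨K', g₂, hg₂, h₂⟩ := hreal 1
  have h : (s • hDual (Cfsg.hermForm n F q) z) ⬝ᵥ z = 0 := by
    rw [smul_dotProduct, hDual_dot hf, hzz, smul_zero]
  refine ⟨h, g₁ * g₂ * (g₂ * g₁)⁻¹, mul_mem (mul_mem hg₁ hg₂) (inv_mem (mul_mem hg₂ hg₁)), ?_⟩
  refine Matrix.ext_of_mulVec_single fun i => ?_
  rw [uTv_mulVec hf]
  obtain ⟨y, hy⟩ : ∃ y, y = (((g₂ * g₁)⁻¹ : GL (Fin n) F) : Matrix (Fin n) (Fin n) F) *ᵥ Pi.single i 1 := ⟨_, rfl⟩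
  have hyi : ((g₂ * g₁ : GL (Fin n) F) : Matrix (Fin n) (Fin n) F) *ᵥ y = Pi.single i 1 := by
    rw [hy]; exact mulVec_mulVec_inv _ _
  rw [Units.val_mul, ← mulVec_mulVec, ← hy, ← hyi, Units.val_mul, Units.val_mul, ← mulVec_mulVec, ← mulVec_mulVec,
    h₂, h₁, h₁, h₂]
  simp only [hf.add_left, hf.smul_left, hzz, hza, herm_eq_zero_comm hf hza, ha.1, map_one, map_mul]
  have hst : s * t - qConj hF s * qConj hF t = s := by linear_combination (-qConj hF t) * hs + s * ht
  match_scalars <;> first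
    | ring1
    | linear_combination Cfsg.hermForm n F q y z * hst
    | linear_combination -Cfsg.hermForm n F q y z * hst

include hF in
theorem exists_seed (st : MSetting n q M) {a : Fin n → F} (ha : Unit' hF M a) (e : Fin n → F)
    (he : ∀ i, e i ∈ circ hF)
    (hη : ∑ i, e i * (a i * qConj hF (a i)) ∈ circ hF) :
    UFull (qConj hF) (Cfsg.hermForm n F q) M
      (fun i => a i * (e i / (∑ i, e i * (a i * qConj hF (a i))) - 1)) := by
  have hf := isUnitaryForm_hermForm hF n
  obtain ⟨-, c, hc, -⟩ := id ha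
  obtain ⟨η, hηe⟩ : ∃ η, η = ∑ i, e i * (a i * qConj hF (a i)) := ⟨_, rfl⟩
  rw [← hηe] at hη ⊢
  obtain ⟨g, hg, d, hge, hd, hde⟩ := mon_fix hF st 1 he c
  have hb := unit_smul hF (unit_mono hF st ha hg hge hd) (inv_mem_circ hF hη)
  have hga : (g : Matrix (Fin n) (Fin n) F) *ᵥ a = fun i => e i * a i := by
    rw [hge, diag_mulVec]
    funext i
    by_cases hi : i = c
    · simp [hi, hc]
    · rw [hde i hi]
  rw [hga] at hb
  have := uFull_of_units hF st ha hb hc (by simp [hc]) (by
    rw [hf.smul_left, f_apply hF, inv_mul_eq_one₀ (circ_ne_zero hF hη), hηe]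
    exact Finset.sum_congr rfl fun i _ => by ring)
  convert this using 1
  funext i
  simp only [Pi.add_apply, Pi.smul_apply, smul_eq_mul]
  ring

include hF in
theorem exists_full_zero (st : MSetting n q M) {a : Fin n → F} (ha : Unit' hF M a) (h4 : 4 ≤ (supp a).card) :
    ∃ z, UFull (qConj hF) (Cfsg.hermForm n F q) M z ∧ z ≠ 0 ∧ ∃ c, z c = 0 := by
  classical
  obtain ⟨-, c, hc, -⟩ := id ha
  obtain ⟨T, hT, hTc⟩ := Finset.exists_subset_card_eq (s := supp a) (n := 4) h4
  let w := (T.equivFinOfCardEq hTc).symm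
  have hinj : ∀ i j : Fin 4, i ≠ j → (w i : Fin n) ≠ w j := fun i j h e => h (w.injective (Subtype.ext e))
  have hN : ∀ i : Fin 4, a (w i) * qConj hF (a (w i)) ≠ 0 := fun i => norm_supp_ne hF (hT (w i).2)
  obtain ⟨S, hS⟩ : ∃ S : Finset (Fin n),
      S = {(w 0 : Fin n), (w 1 : Fin n), (w 2 : Fin n), (w 3 : Fin n)} := ⟨_, rfl⟩
  obtain ⟨e₁, he₁, e₂, he₂, e₃, he₃, e₄, he₄, hsum, hne⟩ :=
    exists_four hF (hN 0) (hN 1) (hN 2) (hN 3) (1 - ∑ i ∈ Sᶜ, a i * qConj hF (a i))
  obtain ⟨e, hee⟩ : ∃ e : Fin n → F, e = fun i => if i = (w 0 : Fin n) then e₁ else if i = (w 1 : Fin n) then e₂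
      else if i = (w 2 : Fin n) then e₃ else if i = (w 3 : Fin n) then e₄ else 1 := ⟨_, rfl⟩
  have he : ∀ i, e i ∈ circ hF := fun i => by
    rw [hee]; simp only
    split_ifs <;> first | assumption | exact one_mem_circ hF
  have h01 := hinj 0 1 (by decide); have h02 := hinj 0 2 (by decide); have h03 := hinj 0 3 (by decide)
  have h12 := hinj 1 2 (by decide); have h13 := hinj 1 3 (by decide); have h23 := hinj 2 3 (by decide)
  have hη : ∑ i, e i * (a i * qConj hF (a i)) = 1 := by
    rw [← Finset.sum_add_sum_compl S, Finset.sum_congr rfl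
      (fun i hi => show e i * (a i * qConj hF (a i)) = a i * qConj hF (a i) by
        simp only [hS, Finset.mem_compl, Finset.mem_insert, Finset.mem_singleton, not_or] at hi
        simp [hee, hi.1, hi.2.1, hi.2.2.1, hi.2.2.2]) (s₁ := Sᶜ)]
    rw [hS] at hsum ⊢
    rw [Finset.sum_insert (by simp [h01, h02, h03]), Finset.sum_insert (by simp [h12, h13]), Finset.sum_pair h23]
    generalize (∑ i ∈ ({(w 0 : Fin n), (w 1 : Fin n), (w 2 : Fin n), (w 3 : Fin n)} : Finset (Fin n))ᶜ,
      a i * qConj hF (a i)) = K at hsum ⊢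
    simp [hee, h01.symm, h02.symm, h03.symm, h12.symm, h13.symm, h23.symm]
    linear_combination hsum
  refine ⟨_, exists_seed hF st ha e he (by rw [hη]; exact one_mem_circ hF), fun h => hne ?_, c, by simp [hc]⟩
  have h1 := congrFun h (w 0)
  have h2 := congrFun h (w 1)
  simp only [Pi.zero_apply, mul_eq_zero, mem_supp.1 (hT (w 0).2), mem_supp.1 (hT (w 1).2), false_or, sub_eq_zero,
    hη, div_one] at h1 h2
  have v1 : e (w 0) = e₁ := by simp [hee]
  have v2 : e (w 1) = e₂ := by simp [hee, h01.symm]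
  rw [← v1, ← v2, h1, h2]

/-! ### short vectors -/

include hF in
theorem supp_le_two_full (st : MSetting n q M) {z : Fin n → F}
    (hz : UFull (qConj hF) (Cfsg.hermForm n F q) M z) (hz0 : z ≠ 0) {c : Fin n} (hc : z c = 0) {x : Fin n → F}
    (hxx : Cfsg.hermForm n F q x x = 0) (hxs : (supp x).card ≤ 2) :
    UFull (qConj hF) (Cfsg.hermForm n F q) M x := by
  classical
  have hf := isUnitaryForm_hermForm hF n
  rcases eq_or_ne x 0 with rfl | hx0
  · exact uFull_zero hf
  have hpair : ∀ v : Fin n → F, Cfsg.hermForm n F q v v = 0 → v ≠ 0 → 2 ≤ (supp v).card := by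
    intro v hv hv0
    by_contra hlt
    obtain ⟨i, hi⟩ : ∃ i, v i ≠ 0 := Function.ne_iff.1 hv0
    have hs : supp v = {i} := Finset.eq_singleton_iff_unique_mem.2
      ⟨mem_supp.2 hi, fun j hj => Finset.card_le_one.1 (by omega) j hj i (mem_supp.2 hi)⟩
    rw [f_sum_supp hF, hs, Finset.sum_singleton] at hv
    exact mul_ne_zero hi ((map_ne_zero _).2 hi) hv
  obtain ⟨i, hi, j, hj, hij⟩ := Finset.one_lt_card.1 (hpair z hz.1 hz0)
  rw [mem_supp] at hi hj
  obtain ⟨A, hA⟩ : ∃ A, A = z i * qConj hF (z i) := ⟨_, rfl⟩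
  obtain ⟨B, hB⟩ : ∃ B, B = z j * qConj hF (z j) := ⟨_, rfl⟩
  have hA0 : A ≠ 0 := hA ▸ mul_ne_zero hi ((map_ne_zero _).2 hi)
  have hB0 : B ≠ 0 := hB ▸ mul_ne_zero hj ((map_ne_zero _).2 hj)
  obtain ⟨εi, hεi, εj, hεj, hεi1, hεj1, hiso, hne⟩ : ∃ εi ∈ circ hF, ∃ εj ∈ circ hF, εi ≠ 1 ∧ εj ≠ 1 ∧
      (εi - 1) * qConj hF (εi - 1) * A + (εj - 1) * qConj hF (εj - 1) * B = 0 ∧
      (εi - 1) * A + (εj - 1) * B ≠ 0 := by
    have conj1 : ∀ ε ∈ circ hF, ε ≠ 1 → qConj hF ε ≠ 1 := fun ε _ h e => h (by rw [← qConj_qConj hF ε, e, map_one])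
    have hσ : ∀ ε : F, (qConj hF ε - 1) * qConj hF (qConj hF ε - 1) = (ε - 1) * qConj hF (ε - 1) := fun ε => by
      simp only [map_sub, map_one, qConj_qConj]; ring
    by_cases hAB : A + B = 0
    · obtain ⟨μ, hμ, h1, h2⟩ := exists_circ_ne hF
      refine ⟨μ, hμ, qConj hF μ, conj_mem_circ hF hμ, h1, conj1 μ hμ h1, ?_, fun e => ?_⟩
      · rw [hσ]; linear_combination ((μ - 1) * qConj hF (μ - 1)) * hAB
      · exact mul_ne_zero (sub_ne_zero.2 (conj_ne_self hF hμ h1 h2).symm) hA0
          (by linear_combination e - (qConj hF μ - 1) * hAB)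
    -- pigeonhole among the norms of `ε - 1`
    obtain ⟨V, hV⟩ : ∃ V : Finset F, V = ((circ hF).erase 1).image fun ε => (ε - 1) * qConj hF (ε - 1) := ⟨_, rfl⟩
    have hVc : q ≤ 2 * V.card := by
      have h := Finset.card_le_mul_card_image (s := (circ hF).erase 1) (f := fun ε => (ε - 1) * qConj hF (ε - 1)) 2
        (fun v _ => by
          by_contra hlt
          obtain ⟨x₁, x₂, x₃, h₁, h₂, h₃, n12, n13, n23⟩ := Finset.two_lt_card_iff.1 (not_le.1 hlt)
          have heq : ∀ x ∈ ((circ hF).erase 1).filter (fun ε => (ε - 1) * qConj hF (ε - 1) = v),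
              x * x - (2 - v) * x + 1 = 0 := fun x hx => by
            simp only [Finset.mem_filter, Finset.mem_erase, mem_circ] at hx
            obtain ⟨⟨-, h1⟩, h2⟩ := hx
            rw [map_sub, map_one] at h2
            linear_combination -x * h2 + (x - 1) * h1
          have q1 := heq _ h₁; have q2 := heq _ h₂; have q3 := heq _ h₃
          have f12 : x₁ + x₂ - (2 - v) = 0 := (mul_eq_zero.1 (show (x₁ - x₂) * (x₁ + x₂ - (2 - v)) = 0 by
            linear_combination q1 - q2)).resolve_left (sub_ne_zero.2 n12)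
          have f13 : x₁ + x₃ - (2 - v) = 0 := (mul_eq_zero.1 (show (x₁ - x₃) * (x₁ + x₃ - (2 - v)) = 0 by
            linear_combination q1 - q3)).resolve_left (sub_ne_zero.2 n13)
          exact n23 (by linear_combination f12 - f13))
      rw [← hV, Finset.card_erase_of_mem (one_mem_circ hF), card_circ] at h
      omega
    obtain ⟨R, hR⟩ : ∃ R : Finset F, R = (Finset.univ.filter fun x : F => qConj hF x = x).erase 0 := ⟨_, rfl⟩
    have hRc : R.card + 1 = q := by
      have hcard : (Finset.univ.filter fun x : F => qConj hF x = x).card = q := by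
        rw [← Fintype.card_subtype, ← Nat.card_eq_fintype_card]
        exact CfsgLib.Classical.SemiUnitaryClasses.natCard_fixed hF
      rw [hR, Finset.card_erase_of_mem (by simp), hcard]
      have := two_le_q hF; omega
    have hVR : V ⊆ R := by
      rw [hV, hR]
      intro v hv
      obtain ⟨ε, hε, rfl⟩ := Finset.mem_image.1 hv
      have h1 := sub_ne_zero.2 (Finset.ne_of_mem_erase hε)
      refine Finset.mem_erase.2 ⟨mul_ne_zero h1 ((map_ne_zero _).2 h1), ?_⟩
      rw [Finset.mem_filter]; exact ⟨Finset.mem_univ _, norm_fixed hF _⟩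
    have hρ : qConj hF (-A / B) = -A / B := by rw [map_div₀, map_neg, hA, hB, norm_fixed hF, norm_fixed hF]
    have hρ0 : -A / B ≠ 0 := div_ne_zero (neg_ne_zero.2 hA0) hB0
    have hWR : V.image (fun v => -A / B * v) ⊆ R := by
      intro w hw
      obtain ⟨v, hv, rfl⟩ := Finset.mem_image.1 hw
      have := hVR hv
      rw [hR, Finset.mem_erase, Finset.mem_filter] at this ⊢
      exact ⟨mul_ne_zero hρ0 this.1, Finset.mem_univ _, by rw [map_mul, hρ, this.2.2]⟩
    obtain ⟨w, hw⟩ := Finset.card_pos.1 (show 0 < (V ∩ V.image fun v => -A / B * v).card by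
      have h1 := Finset.card_union_add_card_inter V (V.image fun v => -A / B * v)
      have h3 := Finset.card_le_card (Finset.union_subset hVR hWR)
      rw [Finset.card_image_of_injective V (mul_right_injective₀ hρ0)] at h1
      omega)
    obtain ⟨hw1, hw2⟩ := Finset.mem_inter.1 hw
    obtain ⟨v, hv, rfl⟩ := Finset.mem_image.1 hw2
    rw [hV] at hw1 hv
    obtain ⟨εj, hεj, ej⟩ := Finset.mem_image.1 hw1
    obtain ⟨εi, hεi, ei⟩ := Finset.mem_image.1 hv
    rw [Finset.mem_erase] at hεi hεj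
    have hiso : ∀ a b, (a - 1) * qConj hF (a - 1) = v → (b - 1) * qConj hF (b - 1) = -A / B * v →
        (a - 1) * qConj hF (a - 1) * A + (b - 1) * qConj hF (b - 1) * B = 0 := fun a b ha hb => by
      rw [ha, hb]; field_simp; ring
    by_cases h1 : (εi - 1) * A + (εj - 1) * B ≠ 0
    · exact ⟨εi, hεi.2, εj, hεj.2, hεi.1, hεj.1, hiso _ _ ei ej, h1⟩
    by_cases h2 : (εi - 1) * A + (qConj hF εj - 1) * B ≠ 0
    · exact ⟨εi, hεi.2, _, conj_mem_circ hF hεj.2, hεi.1, conj1 _ hεj.2 hεj.1, hiso _ _ ei (by rw [hσ, ej]), h2⟩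
    by_cases h3 : (qConj hF εi - 1) * A + (εj - 1) * B ≠ 0
    · exact ⟨_, conj_mem_circ hF hεi.2, εj, hεj.2, conj1 _ hεi.2 hεi.1, hεj.1, hiso _ _ (by rw [hσ, ei]) ej, h3⟩
    rw [not_not] at h1 h2 h3
    have hj' : qConj hF εj = εj := mul_right_cancel₀ hB0 (by linear_combination h2 - h1)
    have hi' : qConj hF εi = εi := mul_right_cancel₀ hA0 (by linear_combination h3 - h1)
    have hneg : ∀ ε ∈ circ hF, qConj hF ε = ε → ε ≠ 1 → ε = -1 := fun ε hε h hne => by
      by_contra hm
      exact conj_ne_self hF hε hne hm h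
    rw [hneg _ hεi.2 hi' hεi.1, hneg _ hεj.2 hj' hεj.1] at h1
    have h4 : (-1 - 1 : F) ≠ 0 := sub_ne_zero.2 (fun e => hεi.1 ((hneg _ hεi.2 hi' hεi.1).trans e))
    exact absurd ((mul_eq_zero.1 (show (-1 - 1 : F) * (A + B) = 0 by linear_combination h1)).resolve_left h4) hAB
  -- the seed in two coordinates
  obtain ⟨g, hg, d, hge, -, hde⟩ := mon_fix hF st 1
    (d₀ := fun l => if l = i then εi else if l = j then εj else 1)
    (fun l => by split_ifs <;> first | assumption | exact one_mem_circ hF) c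
  obtain ⟨s, hse⟩ : ∃ s : Fin n → F, s = Pi.single i ((εi - 1) * z i) + Pi.single j ((εj - 1) * z j) := ⟨_, rfl⟩
  have hgz : (g : Matrix (Fin n) (Fin n) F) *ᵥ z = z + s := by
    rw [hge, diag_mulVec, hse]
    funext l
    by_cases hlc : l = c
    · subst hlc
      have h1 : l ≠ i := fun e => hi (e ▸ hc)
      have h2 : l ≠ j := fun e => hj (e ▸ hc)
      simp [hc, h1, h2]
    rw [hde l hlc]
    by_cases h1 : l = i
    · subst h1; simp [hij]; ring
    by_cases h2 : l = j
    · subst h2; simp [h1]; ring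
    simp [h1, h2]
  have hsi : s i = (εi - 1) * z i := by simp [hse, hij]
  have hsj : s j = (εj - 1) * z j := by simp [hse, hij.symm]
  have hso : ∀ l, l ≠ i → l ≠ j → s l = 0 := fun l h1 h2 => by simp [hse, h1, h2]
  have hss : supp s = {i, j} := by
    ext l
    rw [mem_supp, Finset.mem_insert, Finset.mem_singleton]
    by_cases h1 : l = i
    · subst h1; simp [hsi, sub_eq_zero, hεi1, hi]
    by_cases h2 : l = j
    · subst h2; simp [hsj, sub_eq_zero, hεj1, hj]
    simp [h1, h2, hso l h1 h2]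
  have hs : UFull (qConj hF) (Cfsg.hermForm n F q) M s := by
    refine diff_full hF hz st.le hg hgz ?_ ?_
    · rw [f_sum_supp hF, hss, Finset.sum_pair hij, hsi, hsj, map_mul, map_mul]
      rw [hA, hB] at hiso
      linear_combination hiso
    · rw [f_sum_supp hF, hss, Finset.sum_pair hij, hsi, hsj]
      rw [hA, hB] at hne
      convert hne using 1
      ring
  -- all isotropic vectors in two coordinates
  obtain ⟨i', j', hij', hx'⟩ := Finset.card_eq_two.1 (le_antisymm hxs (hpair x hxx hx0))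
  have hxi : x i' ≠ 0 := mem_supp.1 (by simp [hx'])
  have hxj : x j' ≠ 0 := mem_supp.1 (by simp [hx'])
  obtain ⟨σ, hσi, hσj⟩ : ∃ σ : Equiv.Perm (Fin n), σ i = i' ∧ σ j = j' := by
    have h1 : Equiv.swap i i' j ≠ i' := fun h =>
      hij ((Equiv.swap i i').injective (by rw [h, Equiv.swap_apply_left])).symm
    refine ⟨Equiv.swap (Equiv.swap i i' j) j' * Equiv.swap i i', ?_, ?_⟩
    · rw [Equiv.Perm.mul_apply, Equiv.swap_apply_left, Equiv.swap_apply_of_ne_of_ne (Ne.symm h1) hij']
    · rw [Equiv.Perm.mul_apply, Equiv.swap_apply_left]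
  obtain ⟨κ, hκ⟩ : ∃ κ, κ = x i' / s i := ⟨_, rfl⟩
  have hsi0 : s i ≠ 0 := mem_supp.1 (by simp [hss])
  have hκ0 : κ ≠ 0 := hκ ▸ div_ne_zero hxi hsi0
  have e1 : (κ⁻¹ • x) i' = s i := by
    rw [Pi.smul_apply, smul_eq_mul, hκ]; field_simp
  obtain ⟨h, hh, hhe⟩ := exists_map hF st (s := s) (x := κ⁻¹ • x) (p := c)
    (hso c (fun e => hi (e ▸ hc)) fun e => hj (e ▸ hc)) σ
    (fun l hl => by
      have : σ l ∉ supp x := by
        rw [hx']
        simp only [Finset.mem_insert, Finset.mem_singleton, not_or]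
        exact ⟨fun e => hsi0 (by rw [← σ.injective (e.trans hσi.symm)]; exact hl),
          fun e => (mem_supp.1 (show j ∈ supp s by simp [hss])) (by rw [← σ.injective (e.trans hσj.symm)]; exact hl)⟩
      rw [mem_supp, not_not] at this
      simp [this])
    (fun l hl => by
      have : l ∈ supp s := mem_supp.2 hl
      rw [hss, Finset.mem_insert, Finset.mem_singleton] at this
      rcases this with rfl | rfl
      · rw [hσi, e1]
      · rw [hσj]
        have hs0 := hs.1
        rw [f_sum_supp hF, hss, Finset.sum_pair hij] at hs0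
        have hx0' : Cfsg.hermForm n F q (κ⁻¹ • x) (κ⁻¹ • x) = 0 := by
          rw [hf.smul_left, herm_smul_right hf, hxx]; ring
        rw [f_apply hF, ← Finset.sum_subset (Finset.subset_univ ({i', j'} : Finset (Fin n))) (fun m _ hm => by
          rw [← hx', mem_supp, not_not] at hm; simp [hm]), Finset.sum_pair hij', e1] at hx0'
        linear_combination hx0' - hs0)
  have := (hs.conj hf hh (iso_of_mem hF st.le hh)).smul hf κ
  rwa [hhe, smul_smul, mul_inv_cancel₀ hκ0, one_smul] at this

/-! ### all vectors, `q ≥ 3` -/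

/-- every short isotropic vector is full -/
def Short (hF : Fintype.card F = q ^ 2) (M : Subgroup (GL (Fin n) F)) (s : ℕ) : Prop :=
  ∀ x : Fin n → F, Cfsg.hermForm n F q x x = 0 → (supp x).card ≤ s → UFull (qConj hF) (Cfsg.hermForm n F q) M x

include hF in
/-- moving the norm of one coordinate inside a pair -/
theorem exists_plane_move (st : MSetting n q M) (h2 : Short hF M 2) {x : Fin n → F} {i j : Fin n} (hij : i ≠ j)
    (hi : x i ≠ 0) :
    ∃ w : F, w ≠ 0 ∧ ∀ t : F, qConj hF t = t → ∃ g ∈ M,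
      ((g : Matrix (Fin n) (Fin n) F) *ᵥ x) i = x i + t * w ∧
      (∀ l, l ≠ i → l ≠ j → ((g : Matrix (Fin n) (Fin n) F) *ᵥ x) l = x l) := by
  classical
  have hf := isUnitaryForm_hermForm hF n
  obtain ⟨c, hc⟩ := exists_norm hF (a := (-1 : F)) (by simp)
  obtain ⟨μ, hμ, hμ1, -⟩ := exists_circ_ne hF
  obtain ⟨e, he, hA⟩ : ∃ e, e * qConj hF e = -1 ∧ x i + x j * qConj hF e ≠ 0 := by
    by_cases h : x i + x j * qConj hF c ≠ 0
    · exact ⟨c, hc, h⟩
    refine ⟨c * qConj hF μ, by
      rw [map_mul, qConj_qConj]; linear_combination (μ * qConj hF μ) * hc - (mem_circ hF).1 hμ, fun e => ?_⟩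
    rw [not_not] at h
    rw [map_mul, qConj_qConj] at e
    exact mul_ne_zero hi (sub_ne_zero.2 hμ1) (by linear_combination μ * h - e)
  obtain ⟨s, hse⟩ : ∃ s : Fin n → F, s = Pi.single i 1 + Pi.single j e := ⟨_, rfl⟩
  have hsupp : (supp s).card ≤ 2 := by
    refine (Finset.card_le_card (t := {i, j}) fun l hl => ?_).trans Finset.card_le_two
    by_contra h
    simp only [Finset.mem_insert, Finset.mem_singleton, not_or] at h
    exact mem_supp.1 hl (by simp [hse, h.1, h.2])
  have hfx : Cfsg.hermForm n F q x s = x i + x j * qConj hF e := by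
    rw [hse, herm_add_right hf, f_single_right hF, f_single_right hF, map_one, mul_one]
  have hss : Cfsg.hermForm n F q s s = 0 := by
    rw [hse, hf.add_left, f_single_left hF, f_single_left hF]
    simp [hij, hij.symm]
    linear_combination he
  obtain ⟨τ, hτ0, hτ⟩ := exists_trace_zero hf
  refine ⟨τ * (x i + x j * qConj hF e), mul_ne_zero hτ0 hA, fun t ht => ?_⟩
  obtain ⟨g, hg, hge⟩ := tv_move hF (h2 s hss hsupp) (c := t * τ) (by
    rw [map_mul, ht]; linear_combination t * hτ)
  refine ⟨g, hg, ?_, fun l h1 h2 => ?_⟩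
  · rw [hge, hfx]; simp [hse, hij]; ring
  · rw [hge]; simp [hse, h1, h2]

include hF in
theorem fixed_card : (Finset.univ.filter fun x : F => qConj hF x = x).card = q := by
  rw [← Fintype.card_subtype, ← Nat.card_eq_fintype_card]
  exact CfsgLib.Classical.SemiUnitaryClasses.natCard_fixed hF

include hF in
theorem norm_line_fibre {a w : F} (hw : w ≠ 0) (v : F) :
    ((Finset.univ.filter fun x : F => qConj hF x = x).filter
      fun t => (a + t * w) * qConj hF (a + t * w) = v).card ≤ 2 := by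
  by_contra hlt
  obtain ⟨x₁, x₂, x₃, h₁, h₂, h₃, n12, n13, n23⟩ := Finset.two_lt_card_iff.1 (not_le.1 hlt)
  have heq : ∀ x ∈ ((Finset.univ.filter fun x : F => qConj hF x = x).filter
      fun t => (a + t * w) * qConj hF (a + t * w) = v),
      w * qConj hF w * (x * x) + (a * qConj hF w + w * qConj hF a) * x + (a * qConj hF a - v) = 0 := fun x hx => by
    simp only [Finset.mem_filter, Finset.mem_univ, true_and] at hx
    obtain ⟨h1, h2⟩ := hx
    rw [map_add, map_mul, h1] at h2
    linear_combination h2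
  have q1 := heq _ h₁; have q2 := heq _ h₂; have q3 := heq _ h₃
  obtain ⟨B, hB⟩ : ∃ B, B = a * qConj hF w + w * qConj hF a := ⟨_, rfl⟩
  rw [← hB] at q1 q2 q3
  have f12 : w * qConj hF w * (x₁ + x₂) + B = 0 := (mul_eq_zero.1 (show (x₁ - x₂) * (w * qConj hF w * (x₁ + x₂) + B) = 0 by
    linear_combination q1 - q2)).resolve_left (sub_ne_zero.2 n12)
  have f13 : w * qConj hF w * (x₁ + x₃) + B = 0 := (mul_eq_zero.1 (show (x₁ - x₃) * (w * qConj hF w * (x₁ + x₃) + B) = 0 by
    linear_combination q1 - q3)).resolve_left (sub_ne_zero.2 n13)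
  exact mul_ne_zero (mul_ne_zero hw ((map_ne_zero (qConj hF)).2 hw)) (sub_ne_zero.2 n23) (by linear_combination f12 - f13)

include hF in
theorem full_of_move (st : MSetting n q M) {g : GL (Fin n) F} (hg : g ∈ M) {x : Fin n → F}
    (h : UFull (qConj hF) (Cfsg.hermForm n F q) M ((g : Matrix (Fin n) (Fin n) F) *ᵥ x)) :
    UFull (qConj hF) (Cfsg.hermForm n F q) M x := by
  have := h.conj (isUnitaryForm_hermForm hF n) (inv_mem hg) (iso_of_mem hF st.le (inv_mem hg))
  rwa [mulVec_mulVec, ← Units.val_mul, inv_mul_cancel, Units.val_one, one_mulVec] at this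

include hF in
theorem supp_move {x y : Fin n → F} {i j : Fin n} (hi : i ∈ supp x) (hj : j ∈ supp x)
    (h : ∀ l, l ≠ i → l ≠ j → y l = x l) : supp y ⊆ supp x := by
  intro l hl
  by_cases h1 : l = i
  · subst h1; exact hi
  by_cases h2 : l = j
  · subst h2; exact hj
  rw [mem_supp] at hl ⊢
  rwa [← h l h1 h2]

include hF in
theorem short_three (st : MSetting n q M) (h2 : Short hF M 2) : Short hF M 3 := by
  classical
  have hf := isUnitaryForm_hermForm hF n
  intro x hxx hxs
  rcases Nat.lt_or_ge (supp x).card 3 with h | h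
  · exact h2 x hxx (by omega)
  obtain ⟨i, j, m, hij, him, hjm, hS⟩ := Finset.card_eq_three.1 (le_antisymm hxs h)
  have hiS : i ∈ supp x := by simp [hS]
  have hjS : j ∈ supp x := by simp [hS]
  have hmS : m ∈ supp x := by simp [hS]
  obtain ⟨C, hC⟩ : ∃ C, C = x m * qConj hF (x m) := ⟨_, rfl⟩
  have hσC : qConj hF C = C := hC ▸ norm_fixed hF _
  have hC0 : C ≠ 0 := hC ▸ norm_supp_ne hF hmS
  -- a position where the discriminant is not a square of a fixed element
  obtain ⟨g, hg, hgl, hgood⟩ : ∃ g ∈ M,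
      (∀ l, l ≠ i → l ≠ j → ((g : Matrix (Fin n) (Fin n) F) *ᵥ x) l = x l) ∧
      ((2 : F) ≠ 0 → ∀ r, qConj hF r = r → r ≠ 0 → r * r ≠
        -(((g : Matrix (Fin n) (Fin n) F) *ᵥ x) i * qConj hF (((g : Matrix (Fin n) (Fin n) F) *ᵥ x) i) * C)) := by
    by_cases h20 : (2 : F) = 0
    · exact ⟨1, one_mem M, fun l _ _ => by simp, fun h => absurd h20 h⟩
    obtain ⟨w, hw, hmove⟩ := exists_plane_move hF st h2 hij (mem_supp.1 hiS)
    obtain ⟨R, hR⟩ : ∃ R : Finset F, R = Finset.univ.filter fun x : F => qConj hF x = x := ⟨_, rfl⟩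
    have hRc : R.card = q := hR ▸ fixed_card hF
    obtain ⟨Sq, hSq⟩ : ∃ Sq : Finset F, Sq = (R.erase 0).image fun r => r * r := ⟨_, rfl⟩
    have hSqc : 2 * Sq.card + 1 ≤ q := by
      have h0 : (0 : F) ∈ R := by simp [hR]
      have hsum := Finset.card_eq_sum_card_fiberwise (s := R.erase 0) (t := Sq) (f := fun r => r * r)
        (fun r hr => hSq ▸ Finset.mem_image_of_mem _ hr)
      have hle : ∑ _v ∈ Sq, 2 ≤ ∑ v ∈ Sq, ((R.erase 0).filter fun r => r * r = v).card := by
        refine Finset.sum_le_sum fun v hv => ?_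
        rw [hSq] at hv
        obtain ⟨r, hr, rfl⟩ := Finset.mem_image.1 hv
        have hr0 := Finset.ne_of_mem_erase hr
        refine le_of_eq_of_le (Finset.card_pair (a := r) (b := -r) fun e => hr0 ?_).symm (Finset.card_le_card ?_)
        · exact (mul_eq_zero.1 (show (2 : F) * r = 0 by linear_combination e)).resolve_left h20
        intro y hy
        simp only [Finset.mem_insert, Finset.mem_singleton] at hy
        rw [Finset.mem_filter]
        rcases hy with rfl | rfl
        · exact ⟨hr, rfl⟩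
        · refine ⟨?_, neg_mul_neg r r⟩
          rw [Finset.mem_erase, hR, Finset.mem_filter] at hr ⊢
          exact ⟨neg_ne_zero.2 hr.1, Finset.mem_univ _, by rw [map_neg, hr.2.2]⟩
      rw [Finset.sum_const, smul_eq_mul, ← hsum, Finset.card_erase_of_mem h0, hRc] at hle
      have := two_le_q hF; omega
    obtain ⟨t, ht, htq⟩ : ∃ t ∈ R, -((x i + t * w) * qConj hF (x i + t * w) * C) ∉ Sq := by
      by_contra hcon
      simp only [not_exists, not_and, not_not] at hcon
      have hle := Finset.card_le_mul_card_image (s := R)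
        (f := fun t => -((x i + t * w) * qConj hF (x i + t * w) * C)) 2 (fun v _ => by
        refine (Finset.card_le_card ?_).trans (norm_line_fibre hF (a := x i) hw (-v / C))
        intro t ht
        rw [Finset.mem_filter] at ht ⊢
        refine ⟨hR ▸ ht.1, ?_⟩
        rw [← ht.2]; field_simp)
      have := Finset.card_le_card (Finset.image_subset_iff.2 hcon)
      omega
    obtain ⟨g, hg, hgi, hgl⟩ := hmove t (by simpa [hR] using ht)
    refine ⟨g, hg, hgl, fun _ r hr hr0 e => htq ?_⟩
    rw [← hgi, ← e, hSq]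
    exact Finset.mem_image_of_mem (fun r => r * r) (Finset.mem_erase.2 ⟨hr0, by simpa [hR] using hr⟩)
  obtain ⟨y, hye⟩ : ∃ y, y = (g : Matrix (Fin n) (Fin n) F) *ᵥ x := ⟨_, rfl⟩
  rw [← hye] at hgl hgood
  refine full_of_move hF st hg (hye ▸ ?_)
  have hyy : Cfsg.hermForm n F q y y = 0 := by rw [hye, iso_of_mem hF st.le hg, hxx]
  rcases Nat.lt_or_ge (supp y).card 3 with hy3 | hy3
  · exact h2 y hyy (by omega)
  have hys : supp y = {i, j, m} :=
    (Finset.eq_of_subset_of_card_le (supp_move hF hiS hjS hgl) (hxs.trans hy3)).trans hS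
  have hym : y m = x m := hgl m him.symm hjm.symm
  obtain ⟨A, hA⟩ : ∃ A, A = y i * qConj hF (y i) := ⟨_, rfl⟩
  obtain ⟨B, hB⟩ : ∃ B, B = y j * qConj hF (y j) := ⟨_, rfl⟩
  have hA0 : A ≠ 0 := hA ▸ norm_supp_ne hF (by simp [hys])
  have hB0 : B ≠ 0 := hB ▸ norm_supp_ne hF (by simp [hys])
  have hσA : qConj hF A = A := hA ▸ norm_fixed hF _
  have hσB : qConj hF B = B := hB ▸ norm_fixed hF _
  have hABC : A + B + C = 0 := by
    rw [f_sum_supp hF, hys, Finset.sum_insert (by simp [hij, him]), Finset.sum_pair hjm, hym] at hyy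
    rw [hA, hB, hC]; linear_combination hyy
  rw [← hA] at hgood
  obtain ⟨ρ, hρ⟩ : ∃ ρ, ρ = -A / B := ⟨_, rfl⟩
  obtain ⟨w, hw, hw'⟩ : ∃ w, w * qConj hF w = ρ ∧ (1 - w) * qConj hF (1 - w) = 1 - ρ := by
    by_cases h20 : (2 : F) = 0
    · obtain ⟨w, hw⟩ := FiniteField.isSquare_of_char_two (ringChar.eq_iff.2 (CharTwo.of_one_ne_zero_of_two_eq_zero
        one_ne_zero h20)) ρ
      have hσw : qConj hF w = w := by
        have e : qConj hF (w * w) = w * w := by rw [← hw, hρ, map_div₀, map_neg, hσA, hσB]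
        rw [map_mul] at e
        have e2 : (qConj hF w - w) * (qConj hF w - w) = 0 := by linear_combination e - (qConj hF w * w - w * w) * h20
        exact sub_eq_zero.1 ((mul_self_eq_zero).1 e2)
      refine ⟨w, by rw [hσw, hw], ?_⟩
      rw [map_sub, map_one, hσw, hw]
      linear_combination (w * w - w) * h20
    · have hchar : ringChar F ≠ 2 := fun e => h20 (by
        have := ringChar.Nat.cast_ringChar (R := F)
        rw [e] at this; exact_mod_cast this)
      obtain ⟨s, hs⟩ := (FiniteField.isSquare_iff hchar (a := -(A * C)) (neg_ne_zero.2 (mul_ne_zero hA0 hC0))).2 (by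
        have hfix : qConj hF (-(A * C)) = -(A * C) := by rw [map_neg, map_mul, hσA, hσC]
        rw [qConj_apply] at hfix
        have hq1 := two_le_q hF
        have hpow : (-(A * C)) ^ (q - 1) = 1 := by
          refine mul_left_cancel₀ (neg_ne_zero.2 (mul_ne_zero hA0 hC0)) ?_
          rw [← pow_succ', Nat.sub_add_cancel (by omega), hfix, mul_one]
        have hodd : Odd q := by
          rcases Nat.even_or_odd q with he | ho
          · have h1 : ((q ^ 2 : ℕ) : F) = 0 := by rw [← hF]; exact FiniteField.cast_card_eq_zero F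
            have h3 := (FiniteField.even_card_iff_char_two (F := F)).2 (by
              rw [hF, ← Nat.even_iff, Nat.even_pow]; exact ⟨he, two_ne_zero⟩)
            exact absurd h3 hchar
          · exact ho
        obtain ⟨r, hr⟩ := hodd
        rw [hF, show q ^ 2 / 2 = (q - 1) * (r + 1) by
          subst hr
          rw [Nat.add_sub_cancel]
          ring_nf
          omega, pow_mul, hpow, one_pow])
      have hσs : qConj hF s = -s := by
        have e : qConj hF (s * s) = s * s := by rw [← hs, map_neg, map_mul, hσA, hσC]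
        rw [map_mul] at e
        rcases mul_eq_zero.1 (show (qConj hF s - s) * (qConj hF s + s) = 0 by linear_combination e) with h | h
        · refine absurd hs.symm (hgood h20 s (sub_eq_zero.1 h) fun e0 => ?_)
          rw [e0, mul_zero] at hs
          exact neg_ne_zero.2 (mul_ne_zero hA0 hC0) hs
        · exact eq_neg_of_add_eq_zero_left h
      refine ⟨ρ + s / B, ?_, ?_⟩
      · rw [hρ, map_add, map_div₀, map_div₀, map_neg, hσA, hσB, hσs]
        field_simp
        linear_combination hs + A * hABC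
      · rw [hρ, map_sub, map_one, map_add, map_div₀, map_div₀, map_neg, hσA, hσB, hσs]
        field_simp
        linear_combination hs + A * hABC
  have hρ0 : ρ ≠ 0 := hρ ▸ div_ne_zero (neg_ne_zero.2 hA0) hB0
  have h1ρ : 1 - ρ = -C / B := by rw [hρ]; field_simp; linear_combination hABC
  have hw0 : w ≠ 0 := fun e => hρ0 (by rw [← hw, e, zero_mul])
  have hw1 : 1 - w ≠ 0 := fun e => div_ne_zero (neg_ne_zero.2 hC0) hB0 (by rw [← h1ρ, ← hw', e, zero_mul])
  obtain ⟨u, hue⟩ : ∃ u : Fin n → F, u = Pi.single i (y i) + Pi.single j (w * y j) := ⟨_, rfl⟩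
  obtain ⟨v, hve⟩ : ∃ v : Fin n → F, v = Pi.single j ((1 - w) * y j) + Pi.single m (y m) := ⟨_, rfl⟩
  have hc : u + v = y := by
    rw [hue, hve]
    funext l
    by_cases h1 : l = i
    · subst h1; simp [hij, him]
    by_cases h3 : l = j
    · subst h3; simp [h1, hjm]; ring
    by_cases h4 : l = m
    · subst h4; simp [h1, h3]
    have hl : l ∉ supp y := by simp [hys, h1, h3, h4]
    rw [mem_supp, not_not] at hl
    simp [h1, h3, h4, hl]
  have hpair : ∀ (a b : Fin n) (c d : F), (supp (Pi.single a c + Pi.single b d : Fin n → F)).card ≤ 2 := by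
    intro a b c d
    refine (Finset.card_le_card (t := {a, b}) fun l hl => ?_).trans Finset.card_le_two
    by_contra h
    simp only [Finset.mem_insert, Finset.mem_singleton, not_or] at h
    exact mem_supp.1 hl (by simp [h.1, h.2])
  have hBw : B * (w * qConj hF w) = -A := by rw [hw, hρ]; field_simp
  have hBw' : B * ((1 - w) * qConj hF (1 - w)) = -C := by rw [hw', h1ρ]; field_simp
  have hu := h2 u (by
    rw [hue, hf.add_left, f_single_left hF, f_single_left hF]
    simp [hij, hij.symm]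
    rw [hA, hB] at hBw
    linear_combination hBw) (hue ▸ hpair _ _ _ _)
  have hv := h2 v (by
    rw [hve, hf.add_left, f_single_left hF, f_single_left hF]
    simp [hjm, hjm.symm]
    rw [hB, hC, map_sub, map_one] at hBw'
    rw [hym]
    linear_combination hBw') (hve ▸ hpair _ _ _ _)
  have := hu.add hf hv (by
    rw [hue, hve, hf.add_left, f_single_left hF, f_single_left hF]
    simp [hij, hjm, him]
    exact ⟨⟨hw0, mem_supp.1 (show j ∈ supp y by simp [hys])⟩,
      fun e => hw1 ((map_eq_zero (qConj hF)).1 (by rw [map_sub, map_one]; exact e)),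
      mem_supp.1 (show j ∈ supp y by simp [hys])⟩) (by rw [hc]; exact hyy)
  rwa [hc] at this

include hF in
theorem short_all (st : MSetting n q M) (hq : 3 ≤ q) (h3 : Short hF M 3) : ∀ s, Short hF M s := by
  classical
  have hf := isUnitaryForm_hermForm hF n
  intro s
  induction s using Nat.strong_induction_on with
  | _ s ih =>
    intro x hxx hxs
    rcases Nat.lt_or_ge (supp x).card 4 with hlt | h4
    · exact h3 x hxx (by omega)
    -- a vector with a pair of non-opposite norms
    have key : ∀ y : Fin n → F, Cfsg.hermForm n F q y y = 0 → supp y ⊆ supp x → ∀ i ∈ supp y, ∀ j ∈ supp y, i ≠ j →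
        y i * qConj hF (y i) + y j * qConj hF (y j) ≠ 0 → UFull (qConj hF) (Cfsg.hermForm n F q) M y := by
      intro y hyy hsub i hi j hj hij hN
      rcases Nat.lt_or_ge (supp y).card 4 with hylt | hy4
      · exact h3 y hyy (by omega)
      obtain ⟨p, hp, hpij⟩ := Finset.exists_mem_notMem_of_card_lt_card (s := ({i, j} : Finset (Fin n))) (t := supp y)
        (Finset.card_le_two.trans_lt (by omega))
      simp only [Finset.mem_insert, Finset.mem_singleton, not_or] at hpij
      obtain ⟨A, hA⟩ : ∃ A, A = y p * qConj hF (y p) := ⟨_, rfl⟩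
      obtain ⟨B, hB⟩ : ∃ B, B = y i * qConj hF (y i) + y j * qConj hF (y j) := ⟨_, rfl⟩
      rw [← hB] at hN
      have hσA : qConj hF A = A := hA ▸ norm_fixed hF _
      have hσB : qConj hF B = B := by rw [hB, map_add, norm_fixed hF, norm_fixed hF]
      obtain ⟨c, hc⟩ := exists_norm hF (a := (-1 : F)) (by simp)
      obtain ⟨μ, hμ, hμ1, -⟩ := exists_circ_ne hF
      obtain ⟨e, he, hA0⟩ : ∃ e, e * qConj hF e = -1 ∧ qConj hF (y i) + e * qConj hF (y j) ≠ 0 := by
        by_cases h : qConj hF (y i) + c * qConj hF (y j) ≠ 0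
        · exact ⟨c, hc, h⟩
        rw [not_not] at h
        refine ⟨c * μ, by rw [map_mul]; linear_combination (μ * qConj hF μ) * hc - (mem_circ hF).1 hμ, fun e => ?_⟩
        exact mul_ne_zero ((map_ne_zero (qConj hF)).2 (mem_supp.1 hi)) (sub_ne_zero.2 hμ1)
          (by linear_combination μ * h - e)
      obtain ⟨D, hD⟩ : ∃ D, D = qConj hF (y i) + e * qConj hF (y j) := ⟨_, rfl⟩
      rw [← hD] at hA0
      obtain ⟨d, hde⟩ : ∃ d : Fin n → F, d = Pi.single i D⁻¹ + Pi.single j (e * D⁻¹) := ⟨_, rfl⟩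
      obtain ⟨b, hbe⟩ : ∃ b : Fin n → F, b = Pi.single i (y i) + Pi.single j (y j) := ⟨_, rfl⟩
      obtain ⟨β, hβ, hβ'⟩ := exists_trace_nonfixed hF (a := (1 : F)) (map_one _) one_ne_zero
      have hβ0 : β ≠ 0 := fun e => hβ' (by simp [e])
      obtain ⟨z, hze⟩ : ∃ z, z = B * (β * qConj hF β) / (qConj hF β - β) := ⟨_, rfl⟩
      have hz0 : z ≠ 0 := hze ▸ div_ne_zero (mul_ne_zero hN (mul_ne_zero hβ0 ((map_ne_zero _).2 hβ0))) (sub_ne_zero.2 hβ')
      have hz : z + qConj hF z = 0 := by
        rw [hze, map_div₀, map_mul, map_mul, map_sub, hσB, qConj_qConj, ← neg_sub (qConj hF β) β, div_neg]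
        ring
      have hze' : z * (qConj hF β - β) = B * (β * qConj hF β) := by
        rw [hze, div_mul_cancel₀ _ (sub_ne_zero.2 hβ')]
      obtain ⟨u, hue⟩ : ∃ u : Fin n → F, u = Pi.single p (y p) + (z - A - β * B) • d + β • b := ⟨_, rfl⟩
      have hdd : Cfsg.hermForm n F q d d = 0 := by
        rw [hde, hf.add_left, f_single_left hF, f_single_left hF]
        simp [hij, hij.symm, map_mul]
        linear_combination (D⁻¹ * (qConj hF D)⁻¹) * he
      have hdy : Cfsg.hermForm n F q d y = 1 := by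
        rw [hde, hf.add_left, f_single_left hF, f_single_left hF, mul_assoc, mul_left_comm e, ← mul_add, ← hD,
          inv_mul_cancel₀ hA0]
      have hby : Cfsg.hermForm n F q b y = B := by
        rw [hbe, hB, hf.add_left, f_single_left hF, f_single_left hF]
      have hbb : Cfsg.hermForm n F q b b = B := by
        rw [hbe, hB, hf.add_left, f_single_left hF, f_single_left hF]
        simp [hij, hij.symm]
      have hdb : Cfsg.hermForm n F q d b = 1 := by
        rw [hde, hbe, hf.add_left, f_single_left hF, f_single_left hF]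
        simp only [Pi.add_apply, Pi.single_eq_same, Pi.single_eq_of_ne hij, Pi.single_eq_of_ne hij.symm, add_zero, zero_add]
        rw [mul_assoc, mul_left_comm e, ← mul_add, ← hD, inv_mul_cancel₀ hA0]
      have hbd : Cfsg.hermForm n F q b d = 1 := by rw [hf.herm, hdb, map_one]
      have hP : ∀ v : Fin n → F, v p = 0 → Cfsg.hermForm n F q (Pi.single p (y p)) v = 0 ∧
          Cfsg.hermForm n F q v (Pi.single p (y p)) = 0 := fun v hv => by
        simp [f_single_left hF, f_single_right hF, hv]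
      have hdp : d p = 0 := by simp [hde, hpij.1, hpij.2]
      have hbp : b p = 0 := by simp [hbe, hpij.1, hpij.2]
      have hPP : Cfsg.hermForm n F q (Pi.single p (y p)) (Pi.single p (y p)) = A := by
        rw [f_single_left hF, Pi.single_eq_same, hA]
      have hσz : qConj hF z = -z := by linear_combination hz
      have huu : Cfsg.hermForm n F q u u = 0 := by
        simp only [hue, hf.add_left, herm_add_right hf, hf.smul_left, herm_smul_right hf, hdd, hdb, hbd, hbb, hPP,
          (hP d hdp).1, (hP d hdp).2, (hP b hbp).1, (hP b hbp).2, map_sub, map_mul, hσA, hσB, hσz]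
        linear_combination hze' + (-A) * hβ
      have huy : Cfsg.hermForm n F q u y = z := by
        rw [hue, hf.add_left, hf.add_left, hf.smul_left, hf.smul_left, hdy, hby, f_single_left hF, ← hA]
        ring
      have hup : ∀ l, l ≠ p → l ≠ i → l ≠ j → u l = 0 := fun l h1 h2 h5 => by
        simp [hue, hde, hbe, h1, h2, h5]
      have hu : UFull (qConj hF) (Cfsg.hermForm n F q) M u := h3 u huu (by
        refine (Finset.card_le_card (t := {p, i, j}) fun l hl => ?_).trans Finset.card_le_three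
        by_contra h
        simp only [Finset.mem_insert, Finset.mem_singleton, not_or] at h
        exact mem_supp.1 hl (hup l h.1 h.2.1 h.2.2))
      obtain ⟨v, hve⟩ : ∃ v, v = y + (-1 : F) • u := ⟨_, rfl⟩
      have hv0 : Cfsg.hermForm n F q v v = 0 := by
        rw [hve]
        simp only [hf.add_left, herm_add_right hf, hf.smul_left, herm_smul_right hf, hyy, huu, huy, hf.herm y u,
          map_neg, map_one]
        linear_combination -hz
      have hvs : supp v ⊆ (supp y).erase p := fun l hl => by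
        rw [Finset.mem_erase]
        rw [mem_supp, hve] at hl
        constructor
        · rintro rfl
          exact hl (by simp [hue, hdp, hbp])
        · by_contra hly
          have hl' : l ≠ p ∧ l ≠ i ∧ l ≠ j :=
            ⟨fun e => hly (e ▸ hp), fun e => hly (e ▸ hi), fun e => hly (e ▸ hj)⟩
          rw [mem_supp, not_not] at hly
          exact hl (by simp [hly, hup l hl'.1 hl'.2.1 hl'.2.2])
      have hvc : (supp v).card < s := by
        have h1 := Finset.card_le_card hvs
        rw [Finset.card_erase_of_mem hp] at h1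
        have h5 := Finset.card_le_card hsub
        omega
      have hcc : u + v = y := by rw [hve]; module
      have := hu.add hf (ih _ hvc v hv0 le_rfl) (by
        rw [hve, herm_add_right hf, herm_smul_right hf, huu, huy, mul_zero, add_zero]
        exact hz0) (by rw [hcc]; exact hyy)
      rwa [hcc] at this
    obtain ⟨i, hi, j, hj, hij⟩ := Finset.one_lt_card.1 (show 1 < (supp x).card by omega)
    by_cases hpair : ∃ i ∈ supp x, ∃ j ∈ supp x, i ≠ j ∧ x i * qConj hF (x i) + x j * qConj hF (x j) ≠ 0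
    · obtain ⟨i, hi, j, hj, hij, h⟩ := hpair
      exact key x hxx (Finset.Subset.refl _) i hi j hj hij h
    simp only [not_exists, not_and, not_not] at hpair
    obtain ⟨m, hm, hmij⟩ := Finset.exists_mem_notMem_of_card_lt_card (s := ({i, j} : Finset (Fin n))) (t := supp x)
      (Finset.card_le_two.trans_lt (by omega))
    simp only [Finset.mem_insert, Finset.mem_singleton, not_or] at hmij
    obtain ⟨w, hw, hmove⟩ := exists_plane_move hF st (fun v hv hs => h3 v hv (by omega)) hij (mem_supp.1 hi)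
    obtain ⟨t, ht, htN⟩ : ∃ t, qConj hF t = t ∧
        (x i + t * w) * qConj hF (x i + t * w) + x m * qConj hF (x m) ≠ 0 := by
      obtain ⟨t, ht, htn⟩ := Finset.exists_mem_notMem_of_card_lt_card
        (s := (Finset.univ.filter fun x : F => qConj hF x = x).filter
          fun t => (x i + t * w) * qConj hF (x i + t * w) = -(x m * qConj hF (x m)))
        (t := Finset.univ.filter fun x : F => qConj hF x = x)
        ((norm_line_fibre hF hw _).trans_lt (by rw [fixed_card hF]; omega))
      refine ⟨t, (Finset.mem_filter.1 ht).2, fun e => htn (Finset.mem_filter.2 ⟨ht, ?_⟩)⟩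
      linear_combination e
    obtain ⟨g, hg, hgi, hgl⟩ := hmove t ht
    obtain ⟨y, hye⟩ : ∃ y, y = (g : Matrix (Fin n) (Fin n) F) *ᵥ x := ⟨_, rfl⟩
    rw [← hye] at hgi hgl
    refine full_of_move hF st hg (hye ▸ ?_)
    have hyy : Cfsg.hermForm n F q y y = 0 := by rw [hye, iso_of_mem hF st.le hg, hxx]
    have hsub := supp_move hF hi hj hgl
    have hmy : y m = x m := hgl m hmij.1 hmij.2
    by_cases hyi : y i = 0
    · refine ih ((supp x).card - 1) (by omega) y hyy ?_
      rw [← Finset.card_erase_of_mem hi]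
      refine Finset.card_le_card fun l hl => Finset.mem_erase.2 ⟨fun e => mem_supp.1 hl (e ▸ hyi), hsub hl⟩
    · exact key y hyy hsub i (mem_supp.2 hyi) m (mem_supp.2 (by rw [hmy]; exact mem_supp.1 hm)) (Ne.symm hmij.1)
        (by rw [hgi, hmy]; exact htN)

/-! ### all vectors, `q = 2` -/

include hF in
theorem two_norm (hq : q = 2) {c : F} (hc : c ≠ 0) : c * qConj hF c = 1 :=
  two_fixed hF hq (norm_fixed hF c) (mul_ne_zero hc ((map_ne_zero _).2 hc))

include hF in
theorem short_all_two (st : MSetting n q M) (hq : q = 2) {a : Fin n → F} (ha : Unit' hF M a)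
    (h5 : 5 ≤ (supp a).card) (h2 : Short hF M 2) : ∀ s, Short hF M s := by
  classical
  have hf := isUnitaryForm_hermForm hF n
  have hneg : (-1 : F) = 1 := two_fixed hF hq (by simp) (by simp)
  have h20 : (2 : F) = 0 := by linear_combination -hneg
  have hcast : ∀ v : Fin n → F, Cfsg.hermForm n F q v v = ((supp v).card : F) := fun v => by
    rw [f_sum_supp hF, Finset.sum_congr rfl (fun i hi => two_norm hF hq (mem_supp.1 hi)), Finset.sum_const,
      nsmul_eq_mul, mul_one]
  have heven : ∀ m : ℕ, (m : F) = if Even m then 0 else 1 := fun m => by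
    induction m with
    | zero => simp
    | succ m ihm =>
      rw [Nat.cast_succ, ihm]
      by_cases h : Even m
      · simp [h, Nat.even_add_one]
      · simp [h, Nat.even_add_one]; linear_combination h20
  obtain ⟨μ, hμ, hμ1, hμ2⟩ := exists_circ_ne hF
  have hsum : μ + qConj hF μ = 1 := by
    refine two_fixed hF hq (by rw [map_add, qConj_qConj, add_comm]) fun e => conj_ne_self hF hμ hμ1 hμ2 ?_
    linear_combination e - μ * h20
  have hσμ1 : qConj hF μ ≠ 1 := fun e => hμ1 (by rw [← qConj_qConj hF μ, e, map_one])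
  -- a full vector with four non-zero coordinates
  obtain ⟨s₄, hs₄, hs₄c⟩ : ∃ v, UFull (qConj hF) (Cfsg.hermForm n F q) M v ∧ (supp v).card = 4 := by
    obtain ⟨T, hT, hTc⟩ := Finset.exists_subset_card_eq (s := supp a) (n := 4) (by omega)
    obtain ⟨T₁, hT₁, hT₁c⟩ := Finset.exists_subset_card_eq (s := T) (n := 2) (by omega)
    obtain ⟨e, hee⟩ : ∃ e : Fin n → F, e = fun i => if i ∈ T₁ then μ else if i ∈ T then qConj hF μ else 1 := ⟨_, rfl⟩
    have he : ∀ i, e i ∈ circ hF := fun i => by
      rw [hee]; simp only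
      split_ifs <;> first | assumption | exact conj_mem_circ hF hμ | exact one_mem_circ hF
    have hη : ∑ i, e i * (a i * qConj hF (a i)) = 1 := by
      rw [← Finset.sum_subset (Finset.subset_univ (supp a)) (fun i _ hi => by
          rw [mem_supp, not_not] at hi; rw [hi, zero_mul, mul_zero]),
        Finset.sum_congr rfl (fun i hi => show e i * (a i * qConj hF (a i)) = e i by
          rw [two_norm hF hq (mem_supp.1 hi), mul_one]),
        ← Finset.sum_sdiff hT, ← Finset.sum_sdiff hT₁]
      have c1 : ∀ i ∈ supp a \ T, e i = 1 := fun i hi => by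
        rw [Finset.mem_sdiff] at hi
        have : i ∉ T₁ := fun h => hi.2 (hT₁ h)
        simp [hee, hi.2, this]
      have c2 : ∀ i ∈ T \ T₁, e i = qConj hF μ := fun i hi => by
        rw [Finset.mem_sdiff] at hi; simp [hee, hi.1, hi.2]
      have c3 : ∀ i ∈ T₁, e i = μ := fun i hi => by simp [hee, hi]
      have hodd : ¬ Even ((supp a).card - 4) := fun hev => by
        have h1 := hcast a
        rw [ha.1, show (supp a).card = (supp a).card - 4 + 4 by omega, Nat.cast_add, heven, if_pos hev] at h1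
        exact one_ne_zero (α := F) (by push_cast at h1; linear_combination h1 + 2 * h20)
      rw [Finset.sum_congr rfl c1, Finset.sum_congr rfl c2, Finset.sum_congr rfl c3, Finset.sum_const, Finset.sum_const,
        Finset.sum_const, Finset.card_sdiff_of_subset hT, Finset.card_sdiff_of_subset hT₁, hTc, hT₁c, nsmul_eq_mul,
        nsmul_eq_mul, nsmul_eq_mul, heven ((supp a).card - 4), if_neg hodd]
      push_cast
      linear_combination 2 * hsum + h20
    refine ⟨_, exists_seed hF st ha e he (by rw [hη]; exact one_mem_circ hF), ?_⟩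
    rw [← hTc]
    congr 1
    ext i
    rw [mem_supp, hη, div_one]
    by_cases hi : i ∈ T
    · have hai := mem_supp.1 (hT hi)
      by_cases hi1 : i ∈ T₁
      · simp [hi, hi1, hee, hai, sub_eq_zero, hμ1]
      · simp [hi, hi1, hee, hai, sub_eq_zero, hσμ1]
    · have hi1 : i ∉ T₁ := fun h => hi (hT₁ h)
      simp [hi, hi1, hee]
  have h4 : ∀ x : Fin n → F, (supp x).card = 4 → UFull (qConj hF) (Cfsg.hermForm n F q) M x := by
    intro x hx
    have hn : 5 ≤ n := h5.trans ((Finset.card_le_univ _).trans_eq (Fintype.card_fin n))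
    obtain ⟨p, -, hp⟩ := Finset.exists_mem_notMem_of_card_lt_card (s := supp s₄) (t := Finset.univ)
      (by rw [hs₄c, Finset.card_univ, Fintype.card_fin]; omega)
    obtain ⟨σ, hσ⟩ := exists_perm_finset (hs₄c.trans hx.symm)
    obtain ⟨g, hg, hge⟩ := exists_map hF st (s := s₄) (x := x) (p := p) (by simpa [mem_supp] using hp) σ
      (fun i hi => by
        by_contra h
        exact mem_supp.1 ((hσ i).2 (mem_supp.2 h)) hi)
      (fun i hi => by rw [two_norm hF hq hi, two_norm hF hq (mem_supp.1 ((hσ i).1 (mem_supp.2 hi)))])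
    exact hge ▸ hs₄.conj hf hg (iso_of_mem hF st.le hg)
  intro s
  induction s using Nat.strong_induction_on with
  | _ s ih =>
    intro x hxx hxs
    have hev : Even (supp x).card := by
      have := hcast x
      rw [hxx, heven] at this
      by_contra h
      rw [if_neg h] at this
      exact zero_ne_one this
    rcases Nat.lt_or_ge (supp x).card 6 with hlt | h6
    · rcases Nat.lt_or_ge (supp x).card 3 with h | h
      · exact h2 x hxx (by omega)
      · refine h4 x ?_
        obtain ⟨r, hr⟩ := hev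
        omega
    obtain ⟨T, hT, hTc⟩ := Finset.exists_subset_card_eq (s := supp x) (n := 4) (by omega)
    obtain ⟨T₁, hT₁, hT₁c⟩ := Finset.exists_subset_card_eq (s := T) (n := 2) (by omega)
    obtain ⟨p, r, hpr, hpre⟩ := Finset.card_eq_two.1 (show (T \ T₁).card = 2 by
      rw [Finset.card_sdiff_of_subset hT₁]; omega)
    obtain ⟨u, hue⟩ : ∃ u : Fin n → F,
        u = fun i => if i ∈ T₁ then x i else if i = p then μ * x i else if i = r then qConj hF μ * x i else 0 :=
      ⟨_, rfl⟩
    have hpT : p ∈ T ∧ p ∉ T₁ := Finset.mem_sdiff.1 (by rw [hpre]; simp)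
    have hrT : r ∈ T ∧ r ∉ T₁ := Finset.mem_sdiff.1 (by rw [hpre]; simp)
    have hus : supp u = T := by
      ext i
      rw [mem_supp, hue]
      simp only
      by_cases h1 : i ∈ T₁
      · simp [h1, hT₁ h1, mem_supp.1 (hT (hT₁ h1))]
      by_cases h2' : i = p
      · subst h2'; simp [h1, hpT.1, mem_supp.1 (hT hpT.1), circ_ne_zero hF hμ]
      by_cases h3 : i = r
      · subst h3; simp [h1, h2', hrT.1, mem_supp.1 (hT hrT.1), circ_ne_zero hF hμ]
      have : i ∉ T := fun h => by
        have : i ∈ T \ T₁ := Finset.mem_sdiff.2 ⟨h, h1⟩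
        rw [hpre] at this; simp [h2', h3] at this
      simp [h1, h2', h3, this]
    have hu : UFull (qConj hF) (Cfsg.hermForm n F q) M u := h4 u (by rw [hus, hTc])
    have hN : ∀ i ∈ T, x i * qConj hF (x i) = 1 := fun i hi => two_norm hF hq (mem_supp.1 (hT hi))
    have huy : Cfsg.hermForm n F q u x = 1 := by
      rw [f_sum_supp hF, hus, ← Finset.sum_sdiff hT₁, hpre, Finset.sum_pair hpr]
      have c3 : ∀ i ∈ T₁, u i * qConj hF (x i) = 1 := fun i hi => by
        simp [hue, hi, hN i (hT₁ hi)]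
      rw [Finset.sum_congr rfl c3, Finset.sum_const, hT₁c, nsmul_eq_mul]
      simp only [hue, if_neg hpT.2, if_neg hrT.2, if_true, if_neg hpr.symm]
      push_cast
      linear_combination μ * hN p hpT.1 + qConj hF μ * hN r hrT.1 + hsum + h20
    obtain ⟨v, hve⟩ : ∃ v, v = x + (-1 : F) • u := ⟨_, rfl⟩
    have hvs : supp v ⊆ supp x \ T₁ := fun i hi => by
      rw [mem_supp, hve] at hi
      rw [Finset.mem_sdiff]
      refine ⟨?_, fun h => hi (by simp [hue, h])⟩
      by_contra h
      rw [mem_supp, not_not] at h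
      exact hi (by simp [hue, h])
    have hv0 : Cfsg.hermForm n F q v v = 0 := by
      rw [hve]
      simp only [hf.add_left, herm_add_right hf, hf.smul_left, herm_smul_right hf, hxx, hu.1, huy, hf.herm x u,
        map_neg, map_one]
      linear_combination -h20
    have hvc : (supp v).card < s := by
      have h1 := Finset.card_le_card hvs
      rw [Finset.card_sdiff_of_subset (hT₁.trans hT), hT₁c] at h1
      omega
    have hcc : u + v = x := by rw [hve]; module
    have := hu.add hf (ih _ hvc v hv0 le_rfl) (by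
      rw [hve, herm_add_right hf, herm_smul_right hf, hu.1, huy, mul_zero, add_zero]
      exact one_ne_zero) (by rw [hcc]; exact hxx)
    rwa [hcc] at this

include hF in
/-- all transvections -/
theorem all_full (st : MSetting n q M) (h6 : 6 ≤ n) {g : GL (Fin n) F} (hg : g ∈ M) (hgm : ¬ IsMono g) (x : Fin n → F)
    (hx : Cfsg.hermForm n F q x x = 0) : UFull (qConj hF) (Cfsg.hermForm n F q) M x := by
  obtain ⟨a, ha, h4, h5⟩ := exists_unit_five hF st h6 hg hgm
  obtain ⟨z, hz, hz0, c, hc⟩ := exists_full_zero hF st ha h4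
  have h2 : Short hF M 2 := fun v hv hs => supp_le_two_full hF st hz hz0 hc hv hs
  have := two_le_q hF
  by_cases hq : q = 2
  · exact short_all_two hF st hq ha (h5 (by rcases st.big with h | h | h | ⟨h, h'⟩ <;> omega)) h2 _ x hx le_rfl
  · exact short_all hF st (by omega) (short_three hF st h2) _ x hx le_rfl

end CfsgLib.MaxSub.UFrame.Mono
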