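import Cfsg.Agent.Lib.MaxSub.UFrameBlocks
import Cfsg.Agent.Lib.MaxSub.UFrameMonoFull
import Cfsg.Agent.Lib.MaxSub.DecompCoord
import Cfsg.Agent.Lib.KnownC.HermCongr
import Cfsg.Prelude.Def_GeometricClasses

/-!
Maximality of the stabiliser of an orthogonal decomposition in the special unitary group.
-/

set_option autoImplicit false
set_option linter.unusedSectionVars false

namespace CfsgLib.MaxSub.UFrame

open Matrix CfsgLib.MaxSub CfsgLib.MaxSub.DecompMax
open scoped MatrixGroups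

variable {F : Type*} [Field F] [Fintype F] [DecidableEq F] {q n t k : ℕ} (hF : Fintype.card F = q ^ 2)
variable {D : Fin t → Submodule F (Fin n → F)}

theorem orderOf_qConj : orderOf (qConj hF) = 2 := by
  haveI : Fact (Nat.Prime 2) := ⟨Nat.prime_two⟩
  refine orderOf_eq_prime (RingEquiv.ext fun x => ?_) fun h => ?_
  · rw [sq]; exact qConj_qConj hF x
  · obtain ⟨τ, hτ⟩ := exists_nonreal hF
    exact hτ (by rw [h]; rfl)

include hF in
theorem f_sum_sum {m : ℕ} (a b : Fin m → F) (v w : Fin m → Fin n → F) :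
    Cfsg.hermForm n F q (∑ i, a i • v i) (∑ j, b j • w j) =
      ∑ i, ∑ j, a i * (qConj hF (b j) * Cfsg.hermForm n F q (v i) (w j)) := by
  have hf := isUnitaryForm_hermForm hF n
  let L : Fin n → F → F := fun _ x => x
  have h1 : ∀ y, Cfsg.hermForm n F q (∑ i, a i • v i) y = ∑ i, a i * Cfsg.hermForm n F q (v i) y := fun y => by
    rw [show Cfsg.hermForm n F q (∑ i, a i • v i) y = hLin hf y (∑ i, a i • v i) from rfl, map_sum]
    exact Finset.sum_congr rfl fun i _ => hf.smul_left _ _ _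
  have h2 : ∀ x, Cfsg.hermForm n F q x (∑ j, b j • w j) = ∑ j, qConj hF (b j) * Cfsg.hermForm n F q x (w j) := fun x => by
    rw [show Cfsg.hermForm n F q x (∑ j, b j • w j) =
      AddMonoidHom.mk' (fun u => Cfsg.hermForm n F q x u) (fun u v => herm_add_right hf x u v) (∑ j, b j • w j) from rfl,
      map_sum]
    exact Finset.sum_congr rfl fun i _ => herm_smul_right hf _ _ _
  rw [h1]
  exact Finset.sum_congr rfl fun i _ => by rw [h2, Finset.mul_sum]

include hF in
theorem exists_onb (hD : Cfsg.Geo.IsNondegenerateMDecomposition (Cfsg.hermForm n F q) k D) (a : Fin t) :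
    ∃ c : Fin k → Fin n → F, (∀ i, c i ∈ D a) ∧
      ∀ i j, Cfsg.hermForm n F q (c i) (c j) = if i = j then 1 else 0 := by
  classical
  have hf := isUnitaryForm_hermForm hF n
  let b : Module.Basis (Fin k) F (D a) := Module.finBasisOfFinrankEq F _ (hD.decomp.finrank_eq a)
  obtain ⟨v, hv⟩ : ∃ v : Fin k → Fin n → F, v = fun i => (b i : Fin n → F) := ⟨_, rfl⟩
  have hva : ∀ i, v i ∈ D a := fun i => by rw [hv]; exact (b i).2
  obtain ⟨g, hg⟩ : ∃ g : Matrix (Fin k) (Fin k) F, ∀ i j, g i j = Cfsg.hermForm n F q (v i) (v j) :=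
    ⟨Matrix.of fun i j => Cfsg.hermForm n F q (v i) (v j), fun i j => rfl⟩
  have hunit : IsUnit g := Matrix.mulVec_injective_iff_isUnit.1 fun x y hxy => by
    obtain ⟨w, hw⟩ : ∃ w, w = x - y := ⟨_, rfl⟩
    have hg0 : g *ᵥ w = 0 := by rw [hw, Matrix.mulVec_sub]; exact sub_eq_zero.2 hxy
    obtain ⟨u, hu⟩ : ∃ u : D a, u = ∑ j, qConj hF (w j) • b j := ⟨_, rfl⟩
    have huv : (u : Fin n → F) = ∑ j, qConj hF (w j) • v j := by
      rw [hu, hv]; simp
    have horth : ∀ z ∈ D a, Cfsg.hermForm n F q z (u : Fin n → F) = 0 := by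
      intro z hz
      have hzs : z = ∑ i, b.repr ⟨z, hz⟩ i • v i := by
        have h := congrArg Subtype.val (b.sum_repr ⟨z, hz⟩)
        simp only [Submodule.coe_sum, Submodule.coe_smul] at h
        rw [hv]; exact h.symm
      rw [hzs, huv, f_sum_sum hF]
      refine Finset.sum_eq_zero fun i _ => ?_
      rw [← Finset.mul_sum]
      have h := congrFun hg0 i
      simp only [mulVec, dotProduct, hg, Pi.zero_apply] at h
      refine mul_eq_zero_of_right _ (Eq.trans (Finset.sum_congr rfl fun j _ => ?_) h)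
      rw [qConj_qConj, mul_comm]
    have hu0 : u = 0 := by
      by_contra hne
      obtain ⟨⟨z, hz, hzu⟩, -⟩ := hD.nondegenerate a (u : Fin n → F) u.2 fun e => hne (Subtype.ext e)
      exact hzu (horth z hz)
    have h := Fintype.linearIndependent_iff.1 b.linearIndependent (fun j => qConj hF (w j)) (hu ▸ hu0)
    have hw0 : w = 0 := funext fun j => (map_eq_zero (qConj hF)).1 (h j)
    exact sub_eq_zero.1 (hw ▸ hw0)
  obtain ⟨G, hG⟩ := hunit
  have hherm : (G.1.map (qConj hF))ᵀ = G.1 := by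
    rw [hG]; ext i j
    rw [transpose_apply, Matrix.map_apply, hg, hg, ← hf.herm]
  obtain ⟨h, hh⟩ := CfsgLib.KnownC.exists_congr_one (qConj hF) (orderOf_qConj hF) G hherm
  obtain ⟨H, hH⟩ : ∃ H, H = ((h⁻¹ : GL (Fin k) F) : Matrix (Fin k) (Fin k) F) := ⟨_, rfl⟩
  have hHH : H * g * (H.map (qConj hF))ᵀ = 1 := by
    rw [← hG, hh, hH, ← Matrix.mul_assoc, ← Units.val_mul, inv_mul_cancel, Units.val_one, Matrix.one_mul,
      ← Matrix.transpose_mul, ← Matrix.map_mul, ← Units.val_mul, inv_mul_cancel, Units.val_one,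
      Matrix.map_one _ (map_zero _) (map_one _), Matrix.transpose_one]
  refine ⟨fun i => ∑ l, H i l • v l, fun i => sum_mem fun l _ => Submodule.smul_mem _ _ (hva l), fun i j => ?_⟩
  rw [f_sum_sum hF, ← Matrix.one_apply, ← hHH, Matrix.mul_apply]
  simp only [Matrix.mul_apply, transpose_apply, Matrix.map_apply, Finset.sum_mul, hg]
  rw [Finset.sum_comm]
  exact Finset.sum_congr rfl fun l _ => Finset.sum_congr rfl fun m _ => by ring

include hF in
theorem exists_frame (hD : Cfsg.Geo.IsNondegenerateMDecomposition (Cfsg.hermForm n F q) k D) :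
    ∃ (e : Fin n ≃ Fin t × Fin k) (G : GL (Fin n) F),
      (∀ x y, Cfsg.hermForm n F q ((G : Matrix (Fin n) (Fin n) F) *ᵥ x) ((G : Matrix (Fin n) (Fin n) F) *ᵥ y) =
        Cfsg.hermForm n F q x y) ∧
      ∀ a x, x ∈ D a ↔ ((G⁻¹ : GL (Fin n) F) : Matrix (Fin n) (Fin n) F) *ᵥ x ∈ blockSub (fun i => (e i).1) a := by
  classical
  have hf := isUnitaryForm_hermForm hF n
  choose c hc hcc using fun a => exists_onb hF hD a
  obtain ⟨ψ, -⟩ := CfsgLib.MaxSub.Decomp.exists_coord hD.decomp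
  have hn : n = t * k := by
    have := ψ.finrank_eq
    rw [Module.finrank_fin_fun, Module.finrank_pi_fintype] at this
    simpa using this
  let e : Fin n ≃ Fin t × Fin k := (finCongr hn).trans finProdFinEquiv.symm
  obtain ⟨col, hcol⟩ : ∃ col : Fin n → Fin n → F, col = fun l => c (e l).1 (e l).2 := ⟨_, rfl⟩
  have hcolD : ∀ l, col l ∈ D (e l).1 := fun l => by rw [hcol]; exact hc _ _
  have horth : ∀ l m, Cfsg.hermForm n F q (col l) (col m) = if l = m then 1 else 0 := by
    intro l m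
    by_cases h : (e l).1 = (e m).1
    · rw [hcol]; simp only
      rw [h, hcc]
      by_cases hlm : l = m
      · subst hlm; simp
      · rw [if_neg hlm, if_neg fun h2 => hlm (e.injective (Prod.ext h h2))]
    · rw [if_neg fun hlm => h (by rw [hlm])]
      exact hD.orthogonal _ _ h _ (hcolD l) _ (hcolD m)
  obtain ⟨A, hA⟩ : ∃ A : Matrix (Fin n) (Fin n) F, A = Matrix.of fun i l => col l i := ⟨_, rfl⟩
  have hAv : ∀ x, A *ᵥ x = ∑ l, x l • col l := fun x => by
    funext i
    simp [hA, mulVec, dotProduct, Finset.sum_apply, mul_comm]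
  have hiso : ∀ x y, Cfsg.hermForm n F q (A *ᵥ x) (A *ᵥ y) = Cfsg.hermForm n F q x y := fun x y => by
    rw [hAv, hAv, f_sum_sum hF, f_apply hF]
    exact Finset.sum_congr rfl fun l _ => by simp [horth]
  have hinj : Function.Injective A.mulVec := fun x y hxy => by
    by_contra hne
    obtain ⟨⟨z, hz⟩, -⟩ := hf.nondegenerate (x - y) (sub_ne_zero.2 hne)
    apply hz
    rw [← hiso, Matrix.mulVec_sub, show A *ᵥ x = A *ᵥ y from hxy, sub_self, herm_zero_right hf]
  obtain ⟨G, hG⟩ := Matrix.mulVec_injective_iff_isUnit.1 hinj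
  refine ⟨e, G, fun x y => by rw [hG]; exact hiso x y, fun a x => ?_⟩
  obtain ⟨y, hy⟩ : ∃ y, y = ((G⁻¹ : GL (Fin n) F) : Matrix (Fin n) (Fin n) F) *ᵥ x := ⟨_, rfl⟩
  have hx : x = A *ᵥ y := by rw [← hG, hy, mulVec_mulVec_inv]
  rw [← hy]
  refine ⟨fun hxa l hl => ?_, fun hys => ?_⟩
  · have h : Cfsg.hermForm n F q x (col l) = y l := by
      have h1 := hiso y (Pi.single l 1)
      rw [← hx, hAv (Pi.single l 1), Finset.sum_eq_single l (fun m _ hm => by simp [hm]) (by simp),
        Pi.single_eq_same, one_smul, f_single_right hF, map_one, mul_one] at h1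
      exact h1
    rw [← h]
    exact hD.orthogonal _ _ (Ne.symm hl) _ hxa _ (hcolD l)
  · rw [hx, hAv]
    refine sum_mem fun l _ => ?_
    by_cases hl : (e l).1 = a
    · exact Submodule.smul_mem _ _ (hl ▸ hcolD l)
    · rw [hys l hl, zero_smul]; exact zero_mem _

theorem blockSub_eq_span (blk : Fin n → Fin t) (a : Fin t) {S : Submodule F (Fin n → F)}
    (h : ∀ i, blk i = a → (Pi.single i 1 : Fin n → F) ∈ S) : blockSub blk a ≤ S := fun x hx => by
  rw [pi_eq_sum_univ' x]
  refine sum_mem fun i _ => ?_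
  by_cases hi : blk i = a
  · exact Submodule.smul_mem _ _ (h i hi)
  · rw [hx i hi, zero_smul]; exact zero_mem _

include hF in
theorem isMaximalIn_decomposition_of (hn : 4 ≤ n) (h6 : k ≠ 1 → 6 ≤ n)
    (hmono1 : k = 1 → ∀ M' : Subgroup (GL (Fin n) F), M' ≤ Cfsg.GU n F q ⊓ Cfsg.Geo.specialLinear (Fin n) F →
      IsOver (id : Fin n → Fin n) M' q → ∀ g ∈ M', ¬ Mono.IsMono g →
      ∀ v, Cfsg.hermForm n F q v v = 0 → UFull (qConj hF) (Cfsg.hermForm n F q) M' v)
    (hex : ¬ (k = 2 ∧ q = 2))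
    (hD : Cfsg.Geo.IsNondegenerateMDecomposition (Cfsg.hermForm n F q) k D) :
    Cfsg.Geo.IsMaximalIn (Cfsg.GU n F q ⊓ Cfsg.Geo.specialLinear (Fin n) F)
      (Cfsg.Geo.decompositionStabilizer D ⊓ (Cfsg.GU n F q ⊓ Cfsg.Geo.specialLinear (Fin n) F)) := by
  classical
  have hf := isUnitaryForm_hermForm hF n
  obtain ⟨S, hS⟩ : ∃ S, S = Cfsg.GU n F q ⊓ Cfsg.Geo.specialLinear (Fin n) F := ⟨_, rfl⟩
  rw [← hS]
  obtain ⟨e, G, hG, hmem⟩ := exists_frame hF hD
  obtain ⟨blk, hblk⟩ : ∃ blk : Fin n → Fin t, blk = fun i => (e i).1 := ⟨_, rfl⟩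
  rw [← hblk] at hmem
  have ht := hD.decomp.two_le
  have hk := hD.decomp.pos
  have hGU : G ∈ Cfsg.GU n F q := hG
  -- membership of conjugates
  have hconj : ∀ g : GL (Fin n) F, g ∈ S → G * g * G⁻¹ ∈ S := by
    intro g hg
    rw [hS] at hg ⊢
    exact Subgroup.mem_inf.2 ⟨mul_mem (mul_mem hGU hg.1) (inv_mem hGU), by
      have h2 : Matrix.GeneralLinearGroup.det g = 1 := hg.2
      show Matrix.GeneralLinearGroup.det (G * g * G⁻¹) = 1
      rw [map_mul, map_mul, h2, mul_one, ← map_mul, mul_inv_cancel, map_one]⟩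
  have hconj' : ∀ g : GL (Fin n) F, g ∈ S → G⁻¹ * g * G ∈ S := by
    intro g hg
    rw [hS] at hg ⊢
    exact Subgroup.mem_inf.2 ⟨mul_mem (mul_mem (inv_mem hGU) hg.1) hGU, by
      have h2 : Matrix.GeneralLinearGroup.det g = 1 := hg.2
      show Matrix.GeneralLinearGroup.det (G⁻¹ * g * G) = 1
      rw [map_mul, map_mul, h2, mul_one, ← map_mul, inv_mul_cancel, map_one]⟩
  have hdim : ∀ a, Module.finrank F (D a) = k := hD.decomp.finrank_eq
  have hstab : ∀ g : GL (Fin n) F, g ∈ Cfsg.Geo.decompositionStabilizer D ↔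
      IsBlockMono blk ((G⁻¹ * g * G : GL (Fin n) F) : Matrix (Fin n) (Fin n) F) := by
    intro g
    constructor
    · rintro ⟨σ, hσ⟩
      refine isBlockMono_of_maps σ fun i => ?_
      rw [Units.val_mul, Units.val_mul, ← mulVec_mulVec, ← mulVec_mulVec, ← hmem, ← hσ]
      refine ⟨(G : Matrix (Fin n) (Fin n) F) *ᵥ Pi.single i 1, (hmem _ _).2 ?_, rfl⟩
      rw [mulVec_mulVec, ← Units.val_mul, inv_mul_cancel, Units.val_one, one_mulVec]
      exact single_mem_blockSub i 1
    · intro hg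
      choose π hπ using hg
      have hmaps : ∀ a, (D a).map (Matrix.toLin' (g : Matrix (Fin n) (Fin n) F)) ≤ D (π a) := by
        rintro a _ ⟨x, hx, rfl⟩
        rw [Matrix.toLin'_apply]
        have h1 : ((G⁻¹ : GL (Fin n) F) : Matrix (Fin n) (Fin n) F) *ᵥ x ∈ blockSub blk a := (hmem a x).1 hx
        have h2 : ((G⁻¹ * g * G : GL (Fin n) F) : Matrix (Fin n) (Fin n) F) *ᵥ
            (((G⁻¹ : GL (Fin n) F) : Matrix (Fin n) (Fin n) F) *ᵥ x) ∈ blockSub blk (π a) := by
          refine blockSub_eq_span blk a (S := (blockSub blk (π a)).comap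
            (Matrix.mulVecLin ((G⁻¹ * g * G : GL (Fin n) F) : Matrix (Fin n) (Fin n) F))) (fun i hi => ?_) h1
          rw [Submodule.mem_comap, Matrix.mulVecLin_apply]
          intro j hj
          rw [mulVec_single_one]
          exact hπ a i j hi hj
        rw [mulVec_mulVec, ← Units.val_mul, mul_inv_cancel_right, Units.val_mul, ← mulVec_mulVec, ← hmem] at h2
        exact h2
      have hinj' : Function.Injective (Matrix.toLin' (g : Matrix (Fin n) (Fin n) F)) := fun u v h => by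
        simp only [Matrix.toLin'_apply] at h
        exact Matrix.mulVec_injective_of_isUnit g.isUnit h
      have heq : ∀ a, (D a).map (Matrix.toLin' (g : Matrix (Fin n) (Fin n) F)) = D (π a) := fun a =>
        Submodule.eq_of_le_of_finrank_eq (hmaps a) (by
          rw [← (Submodule.equivMapOfInjective _ hinj' (D a)).finrank_eq, hdim, hdim])
      have hπi : Function.Injective π := fun a b h => by
        by_contra hab
        have e1 := Submodule.map_injective_of_injective hinj' ((heq a).trans (h ▸ (heq b).symm))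
        have e2 := hD.decomp.indep.pairwiseDisjoint hab
        simp only [Function.onFun, e1, disjoint_self] at e2
        have := hdim b
        rw [e2, finrank_bot] at this
        omega
      exact ⟨Equiv.ofBijective π ⟨hπi, (Finite.injective_iff_surjective.1 hπi)⟩, heq⟩
  refine ⟨lt_of_le_of_ne inf_le_right fun heqS => ?_, fun M hHM hMS => ?_⟩
  · -- a transvection outside the stabiliser
    have hblkc : ∀ P Q : Fin n, blk P = blk Q ↔ (e P).1 = (e Q).1 := fun P Q => by rw [hblk]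
    obtain ⟨P, Q, R, S', hPQ, hPR, hPS, hQR, hQS, hRS, hblkQR⟩ : ∃ P Q R S' : Fin n, P ≠ Q ∧ P ≠ R ∧ P ≠ S' ∧
        Q ≠ R ∧ Q ≠ S' ∧ R ≠ S' ∧ blk Q ≠ blk R := by
      have hkn : n = t * k := by simpa using Fintype.card_congr e
      have hQ := e.apply_symm_apply (⟨0, by omega⟩, ⟨0, hk⟩)
      have hR := e.apply_symm_apply (⟨1, by omega⟩, ⟨0, hk⟩)
      obtain ⟨Q, hQe⟩ : ∃ Q, Q = e.symm (⟨0, by omega⟩, ⟨0, hk⟩) := ⟨_, rfl⟩
      obtain ⟨R, hRe⟩ : ∃ R, R = e.symm (⟨1, by omega⟩, ⟨0, hk⟩) := ⟨_, rfl⟩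
      have hne : blk Q ≠ blk R := by
        rw [Ne, hblkc, hQe, hRe, hQ, hR]; simp [Fin.ext_iff]
      obtain ⟨P, hP, S', hS', hPS⟩ := Finset.one_lt_card.1 (show 1 < ({Q, R} : Finset (Fin n))ᶜ.card by
        rw [Finset.card_compl, Fintype.card_fin]
        have := Finset.card_le_two (a := Q) (b := R)
        omega)
      simp only [Finset.mem_compl, Finset.mem_insert, Finset.mem_singleton, not_or] at hP hS'
      exact ⟨P, Q, R, S', hP.1, hP.2, hPS, fun h => hne (by rw [h]), Ne.symm hS'.1, Ne.symm hS'.2, hne⟩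
    obtain ⟨c, hc⟩ := exists_norm hF (a := (-1 : F)) (by simp)
    have hc0 : c ≠ 0 := fun h => by simp [h] at hc
    obtain ⟨z, hze⟩ : ∃ z : Fin n → F, z = Pi.single P 1 + Pi.single Q c + Pi.single R 1 + Pi.single S' c := ⟨_, rfl⟩
    have hzz : Cfsg.hermForm n F q z z = 0 := by
      rw [hze]
      simp only [hf.add_left, f_single_left hF]
      simp [hPQ, hPR, hPS, hQR, hQS, hRS, hPQ.symm, hPR.symm, hPS.symm, hQR.symm, hQS.symm, hRS.symm]
      linear_combination 2 * hc
    obtain ⟨s, hs0, hs⟩ := exists_trace_zero hf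
    have hT : (s • hDual (Cfsg.hermForm n F q) z) ⬝ᵥ z = 0 := by
      rw [smul_dotProduct, hDual_dot hf, hzz, smul_zero]
    have hTS : tvGL z _ hT ∈ S := hS ▸ uTv_mem_su hF hzz hs hT
    have hmemH : G * tvGL z _ hT * G⁻¹ ∈ Cfsg.Geo.decompositionStabilizer D ⊓ S := by
      rw [heqS]; exact hconj _ hTS
    have hb := (hstab _).1 hmemH.1
    rw [show G⁻¹ * (G * tvGL z _ hT * G⁻¹) * G = tvGL z _ hT by group] at hb
    obtain ⟨b, hb⟩ := hb (blk P)
    have hval : ∀ j, (tvGL z _ hT : Matrix (Fin n) (Fin n) F) j P = (Pi.single P (1 : F) : Fin n → F) j + s * z j := by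
      intro j
      have h := congrFun (uTv_mulVec hf z s (Pi.single P 1)) j
      rw [mulVec_single_one] at h
      rw [coe_tvGL]
      refine h.trans ?_
      rw [f_single_left hF, hze]
      simp [hPQ, hPR, hPS]
      ring
    by_cases hbQ : blk Q = b
    · have h := hb P R rfl (fun h => hblkQR (hbQ.trans h.symm))
      rw [hval, hze] at h
      simp [hPR.symm, hQR.symm, hRS, hs0] at h
    · have h := hb P Q rfl hbQ
      rw [hval, hze] at h
      simp [hPQ.symm, hQR, hQS, hs0, hc0] at h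
  · by_cases hall : M ≤ Cfsg.Geo.decompositionStabilizer D
    · exact Or.inl (le_antisymm (le_inf hall hMS) hHM)
    right
    refine le_antisymm hMS ?_
    obtain ⟨g, hg, hgD⟩ := SetLike.not_le_iff_exists.1 hall
    obtain ⟨M', hM'⟩ : ∃ M' : Subgroup (GL (Fin n) F), M' = M.comap (MulAut.conj G).toMonoidHom := ⟨_, rfl⟩
    have hM'mem : ∀ h : GL (Fin n) F, h ∈ M' ↔ G * h * G⁻¹ ∈ M := fun h => by
      rw [hM']; simp [MulAut.conj_apply]
    have hle : M' ≤ Cfsg.GU n F q ⊓ Cfsg.Geo.specialLinear (Fin n) F := fun h hh => by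
      have := hconj' _ (hMS ((hM'mem h).1 hh))
      rw [show G⁻¹ * (G * h * G⁻¹) * G = h by group, hS] at this
      exact this
    have hover : IsOver blk M' q := fun h hh hb => by
      rw [hM'mem]
      refine hHM ⟨(hstab _).2 ?_, hconj h (hS.symm ▸ hh)⟩
      rwa [show G⁻¹ * (G * h * G⁻¹) * G = h by group]
    have hg' : G⁻¹ * g * G ∈ M' := by
      rw [hM'mem, show G * (G⁻¹ * g * G) * G⁻¹ = g by group]; exact hg
    have hgb : ¬ IsBlockMono blk ((G⁻¹ * g * G : GL (Fin n) F) : Matrix (Fin n) (Fin n) F) := fun h =>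
      hgD ((hstab g).2 h)
    have hfull : ∀ v, Cfsg.hermForm n F q v v = 0 → UFull (qConj hF) (Cfsg.hermForm n F q) M' v := by
      by_cases hk1 : k = 1
      · subst hk1
        have hinj : Function.Injective blk := fun a b h => by
          rw [hblk] at h
          exact e.injective (Prod.ext h (Subsingleton.elim _ _))
        have hmono : ∀ x : Matrix (Fin n) (Fin n) F, IsBlockMono (id : Fin n → Fin n) x ↔ IsBlockMono blk x := by
          intro x
          have hsurj : Function.Surjective blk := fun a => ⟨e.symm (a, 0), by simp [hblk]⟩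
          constructor
          · intro h a
            obtain ⟨i, rfl⟩ := hsurj a
            obtain ⟨b, hb⟩ := h i
            exact ⟨blk b, fun i' j hi hj => hb i' j (hinj hi) fun e' => hj (congrArg blk e')⟩
          · intro h a
            obtain ⟨b, hb⟩ := h (blk a)
            obtain ⟨c, rfl⟩ := hsurj b
            exact ⟨c, fun i' j hi hj => hb i' j (congrArg blk hi) fun e' => hj (hinj e')⟩
        exact hmono1 rfl M' hle (fun x hx hxb => hover x hx ((hmono _).1 hxb)) _ hg'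
          (fun h => hgb ((hmono _).1 h))
      · have st : Setting blk k q M' := ⟨h6 hk1, ht, ⟨e, fun i => by rw [hblk]⟩, hle, hover⟩
        exact fun v hv => all_full hF st (by omega) (hasSeed hF st (by omega) hex hg' hgb) v hv
    have hSM := su_le_of_uFull hF (by omega : 4 ≤ n) hfull
    intro h hh
    have h1 : G⁻¹ * h * G ∈ M' := hSM (hS ▸ hconj' h hh)
    rw [hM'mem, show G * (G⁻¹ * h * G) * G⁻¹ = h by group] at h1
    exact h1

include hF in
theorem isMaximalIn_decomposition' (hn : 6 ≤ n) (hbig : k = 1 → 10 ≤ n ∨ (n = 6 ∧ 3 ≤ q))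
    (hex : ¬ (k = 2 ∧ q = 2))
    (hD : Cfsg.Geo.IsNondegenerateMDecomposition (Cfsg.hermForm n F q) k D) :
    Cfsg.Geo.IsMaximalIn (Cfsg.GU n F q ⊓ Cfsg.Geo.specialLinear (Fin n) F)
      (Cfsg.Geo.decompositionStabilizer D ⊓ (Cfsg.GU n F q ⊓ Cfsg.Geo.specialLinear (Fin n) F)) :=
  isMaximalIn_decomposition_of hF (le_trans (by norm_num) hn) (fun _ => hn)
    (fun hk M' hle hover g hg hgm => Mono.all_full hF
      ⟨le_trans (by norm_num) hn, Or.inr (Or.inr ((hbig hk).imp_left fun h => le_trans (by norm_num) h)),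
        hle, hover⟩ hn hg hgm) hex hD

include hF in
/-- dimension at least nine -/
theorem isMaximalIn_decomposition_nine (hn : 9 ≤ n) (hex : ¬ (k = 2 ∧ q = 2))
    (hD : Cfsg.Geo.IsNondegenerateMDecomposition (Cfsg.hermForm n F q) k D) :
    Cfsg.Geo.IsMaximalIn (Cfsg.GU n F q ⊓ Cfsg.Geo.specialLinear (Fin n) F)
      (Cfsg.Geo.decompositionStabilizer D ⊓ (Cfsg.GU n F q ⊓ Cfsg.Geo.specialLinear (Fin n) F)) :=
  isMaximalIn_decomposition_of hF (le_trans (by norm_num) hn) (fun _ => le_trans (by norm_num) hn)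
    (fun _ M' hle hover g hg hgm => Mono.all_full hF
      ⟨le_trans (by norm_num) hn, Or.inr (Or.inr (Or.inl hn)), hle, hover⟩ (le_trans (by norm_num) hn) hg hgm) hex hD

include hF in
/-- dimension eight -/
theorem isMaximalIn_decomposition_eight (hn : n = 8) (hex : ¬ (k = 2 ∧ q = 2))
    (hD : Cfsg.Geo.IsNondegenerateMDecomposition (Cfsg.hermForm n F q) k D) :
    Cfsg.Geo.IsMaximalIn (Cfsg.GU n F q ⊓ Cfsg.Geo.specialLinear (Fin n) F)
      (Cfsg.Geo.decompositionStabilizer D ⊓ (Cfsg.GU n F q ⊓ Cfsg.Geo.specialLinear (Fin n) F)) :=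
  isMaximalIn_decomposition_of hF (hn ▸ by norm_num) (fun _ => hn ▸ by norm_num)
    (fun _ M' hle hover g hg hgm => Mono.all_full hF
      ⟨hn ▸ by norm_num, Or.inr (Or.inl hn), hle, hover⟩ (hn ▸ by norm_num) hg hgm) hex hD

include hF in
theorem isMaximalIn_decomposition (hn : 10 ≤ n) (hex : ¬ (k = 2 ∧ q = 2))
    (hD : Cfsg.Geo.IsNondegenerateMDecomposition (Cfsg.hermForm n F q) k D) :
    Cfsg.Geo.IsMaximalIn (Cfsg.GU n F q ⊓ Cfsg.Geo.specialLinear (Fin n) F)
      (Cfsg.Geo.decompositionStabilizer D ⊓ (Cfsg.GU n F q ⊓ Cfsg.Geo.specialLinear (Fin n) F)) :=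
  isMaximalIn_decomposition' hF (le_trans (by norm_num) hn) (fun _ => Or.inl hn) hex hD

end CfsgLib.MaxSub.UFrame
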