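import Cfsg.Agent.Lib.MaxSub.SymRat
import Cfsg.Agent.Lib.MaxSub.RatOdd

/-!
Dichotomy for overgroups of rational orthogonal groups in unitary groups.

For `a = g v` with `v` singular write `a = p + θ q`. If `p, q` span a non-degenerate plane, Siegel transformations
on its orthogonal cut the root element at `a` down to one with a rational second vector, so `g` is rational.
Otherwise, for all singular `w` orthogonal to `v`, polarising makes `p` orthogonal to `g w`, so `p` is on the line
of `a`, and again `g` is rational.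
-/

set_option autoImplicit false
set_option linter.unusedSectionVars false

namespace CfsgLib.MaxSub

open CfsgLib.Classical CfsgLib.Geom
open QuadraticMap (polar)

variable {F V V₀ : Type*} [Field F] [Finite F] {σ : F →+* F} {F₀ : Subfield F} [AddCommGroup V] [Module F V]
  [AddCommGroup V₀] [Module F₀ V₀] [FiniteDimensional F₀ V₀] [FiniteDimensional F V]
variable {B : V →ₛₗ[σ] V →ₗ[F] F} {Q₀ : QuadraticForm F₀ V₀} {inc : V₀ →+ V} {θ : F}

namespace SymRat

variable (A : SymRat B Q₀ inc θ)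
include A

theorem sq_mem : θ * θ ∈ F₀ := (A.fixed _).1 (by rw [map_mul, A.tsig, neg_mul_neg])

/-- `1, θ` are independent over the fixed field -/
theorem parts_zero {x y : F} (hx : x ∈ F₀) (hy : y ∈ F₀) (h : x + θ * y = 0) : x = 0 ∧ y = 0 := by
  have h' := congrArg σ h
  rw [map_add, map_mul, A.tsig, (A.fixed _).2 hx, (A.fixed _).2 hy, map_zero] at h'
  have hx0 : x = 0 :=
    (mul_eq_zero.1 (show (2 : F) * x = 0 by linear_combination h + h')).resolve_left A.two
  exact ⟨hx0, (mul_eq_zero.1 (by rwa [hx0, zero_add] at h)).resolve_left A.tne⟩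

/-- `θ * θ` is not a square in the fixed field -/
theorem sq_ne {x y : F₀} (h : (x : F) * x = θ * θ * ((y : F) * y)) : x = 0 ∧ y = 0 := by
  rcases mul_self_eq_mul_self_iff.1 (show (x : F) * x = (θ * y) * (θ * y) by rw [h]; ring) with e | e
  · obtain ⟨h1, h2⟩ := A.parts_zero x.2 (neg_mem y.2) (by rw [e]; ring)
    exact ⟨Subtype.ext h1, Subtype.ext (neg_eq_zero.1 h2)⟩
  · obtain ⟨h1, h2⟩ := A.parts_zero x.2 y.2 (by rw [e]; ring)
    exact ⟨Subtype.ext h1, Subtype.ext h2⟩

/-- every vector has two rational parts -/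
theorem decomp (a : V) : ∃ p q : V₀, a = inc p + θ • inc q := by
  have ha : a ∈ Submodule.span F (Set.range inc) := by rw [A.span]; trivial
  induction ha using Submodule.span_induction with
  | mem x hx => obtain ⟨z, rfl⟩ := hx; exact ⟨z, 0, by simp⟩
  | zero => exact ⟨0, 0, by simp⟩
  | add x y _ _ hx hy =>
    obtain ⟨p, q, rfl⟩ := hx
    obtain ⟨p', q', rfl⟩ := hy
    exact ⟨p + p', q + q', by simp only [map_add, smul_add]; abel⟩
  | smul k x _ hx =>
    obtain ⟨p, q, rfl⟩ := hx
    have hinv := A.base.inv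
    let c : F₀ := ⟨(k + σ k) / 2, (A.fixed _).1 (by rw [map_div₀, map_add, hinv, map_ofNat, add_comm])⟩
    let d : F₀ := ⟨θ⁻¹ * ((k - σ k) / 2), (A.fixed _).1 (by
      rw [map_mul, map_inv₀, map_div₀, map_sub, hinv, map_ofNat, A.tsig, inv_neg]; ring)⟩
    let δ : F₀ := ⟨θ * θ, A.sq_mem⟩
    refine ⟨c • p + (δ * d) • q, d • p + c • q, ?_⟩
    have hk : k = (c : F) + θ * (d : F) := by
      show k = (k + σ k) / 2 + θ * (θ⁻¹ * ((k - σ k) / 2))
      rw [mul_inv_cancel_left₀ A.tne]
      have := A.two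
      field_simp
      ring
    rw [hk]
    simp only [map_add, A.inc_smul, MulMemClass.coe_mul, show (δ : F) = θ * θ from rfl]
    module

/-- the form on two decomposed vectors -/
theorem form_parts (p q p' q' : V₀) :
    B (inc p + θ • inc q) (inc p' + θ • inc q') =
      θ * ((polar Q₀ p p' : F₀) - θ * θ * (polar Q₀ q q' : F₀)) +
        θ * θ * ((polar Q₀ p q' : F₀) - (polar Q₀ q p' : F₀)) := by
  simp only [map_add, LinearMap.add_apply, bilin_smul_left, bilin_smul_right, A.bval, A.tsig]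
  ring

theorem orth_parts {p q p' q' : V₀} (h : B (inc p + θ • inc q) (inc p' + θ • inc q') = 0) :
    ((polar Q₀ p p' : F₀) : F) = θ * θ * (polar Q₀ q q' : F₀) ∧ polar Q₀ p q' = polar Q₀ q p' := by
  rw [A.form_parts] at h
  have hX : θ * ((((polar Q₀ p p' : F₀) : F) - θ * θ * (polar Q₀ q q' : F₀)) +
      θ * (((polar Q₀ p q' : F₀) : F) - (polar Q₀ q p' : F₀))) = 0 := by linear_combination h
  obtain ⟨h1, h2⟩ := A.parts_zero (sub_mem (polar Q₀ p p').2 (mul_mem A.sq_mem (polar Q₀ q q').2))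
    (sub_mem (polar Q₀ p q').2 (polar Q₀ q p').2) (by
      exact (mul_eq_zero.1 hX).resolve_left A.tne)
  exact ⟨sub_eq_zero.1 h1, Subtype.ext (sub_eq_zero.1 h2)⟩

end SymRat

namespace SymCtx

variable {M : Subgroup (sIsoms B)} (C : SymCtx B Q₀ inc θ M)
include C

/-- a vector orthogonal to the images of all singular neighbours of `v` is on the image of `v` -/
theorem line_of_perp (g : sIsoms B) {v : V₀} (hv : B (inc v) (inc v) = 0) (hv0 : v ≠ 0) {s : V}
    (h : ∀ w, B (inc w) (inc w) = 0 → B (inc v) (inc w) = 0 → B s (g.1 (inc w)) = 0) :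
    ∃ k : F, s = k • g.1 (inc v) := by
  have A := C.base
  have hθ := A.tne
  set z := g.1.symm s
  have hs : g.1 z = s := g.1.apply_symm_apply s
  let K : Submodule F₀ V₀ :=
    { carrier := {w | B (inc w) z = 0}
      add_mem' := fun {a b} ha hb => by
        show B (inc (a + b)) z = 0
        rw [map_add, map_add, LinearMap.add_apply, show B (inc a) z = 0 from ha,
          show B (inc b) z = 0 from hb, add_zero]
      zero_mem' := by show B (inc 0) z = 0; rw [map_zero, map_zero, LinearMap.zero_apply]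
      smul_mem' := fun c a ha => by
        show B (inc (c • a)) z = 0
        rw [A.inc_smul, bilin_smul_left, show B (inc a) z = 0 from ha, mul_zero] }
  have hK : A.perp (({v} : Finset V₀) : Set V₀) ≤ K := A.perp_le_of_iso {v} (by simp) fun w hw hwS => by
    show B (inc w) z = 0
    rw [← sIsoms_map g, hs]
    exact A.base.perp_symm (h w hw (hwS v (by simp)))
  obtain ⟨u, -, -, huv⟩ := A.exists_unit ∅ (by simp) (b := v) (by simpa using hv0)
  refine ⟨θ⁻¹ * B (inc u) z, ?_⟩
  have e : z - (θ⁻¹ * B (inc u) z) • inc v = 0 := A.eq_zero_of_perp fun x => by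
    have hx : x - (⟨_, A.rat' v x⟩ : F₀) • u ∈ A.perp (({v} : Finset V₀) : Set V₀) := by
      intro t ht
      simp only [Finset.coe_singleton, Set.mem_singleton_iff] at ht
      rw [ht, map_sub, map_sub, A.inc_smul, bilin_smul_right, (A.bsymm v u).trans huv]
      field_simp
      ring
    have h0 : B (inc (x - (⟨_, A.rat' v x⟩ : F₀) • u)) z = 0 := hK hx
    rw [map_sub, map_sub, LinearMap.sub_apply, A.inc_smul, bilin_smul_left,
      (A.fixed _).2 (A.rat' v x)] at h0
    rw [map_sub, bilin_smul_right, A.bsymm x v]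
    linear_combination h0
  rw [← map_smul, ← sub_eq_zero.1 e, hs]

/-- Siegel transformations on the orthogonal of a non-degenerate pair of parts -/
theorem core {g : sIsoms B} (hg : g ∈ M) {v : V₀} (hv : B (inc v) (inc v) = 0) (hv0 : v ≠ 0)
    {p q : V₀} (hpq : g.1 (inc v) = inc p + θ • inc q)
    (hP : Nondeg Q₀ (Submodule.span F₀ ({p, q} : Set V₀))) : SKRat inc g := by
  classical
  have A := C.base
  have hB := A.base
  have hθ := A.tne
  have hn := A.dim
  have hn6 := A.six
  set P := Submodule.span F₀ ({p, q} : Set V₀) with hPdef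
  have hPd : Module.finrank F₀ P ≤ 2 := by
    have h := finrank_span_finset_le_card (R := F₀) ({p, q} : Finset V₀)
    have hco : (({p, q} : Finset V₀) : Set V₀) = {p, q} := by simp
    rw [Set.finrank, hco] at h
    exact h.trans Finset.card_le_two
  set W := oPerp Q₀ P
  have hWd : Module.finrank F₀ V₀ ≤ Module.finrank F₀ W + Module.finrank F₀ P := finrank_le_oPerp_add P
  obtain ⟨u, hu, hu0, hQu⟩ := exists_singular_in (Q := Q₀) (W := W) (by omega)
  have hW := nondeg_oPerp A.sep₀ hP
  obtain ⟨z, hz, hzu⟩ : ∃ z ∈ W, polar Q₀ u z ≠ 0 := by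
    by_contra hno
    push Not at hno
    exact hu0 (hW u hu hno)
  obtain ⟨d, hd, hud, hQd⟩ : ∃ d ∈ W, polar Q₀ u d = 0 ∧ Q₀ d ≠ 0 := by
    by_contra hno
    push Not at hno
    have h1 := finrank_le_inf_ker W (Q₀.polarBilin u)
    have h2 := finrank_le_inf_ker (W ⊓ LinearMap.ker (Q₀.polarBilin u)) (Q₀.polarBilin z)
    obtain ⟨d, ⟨⟨hdW, hdu⟩, hdz⟩, hd0⟩ := Submodule.exists_mem_ne_zero_of_ne_bot
      (p := W ⊓ LinearMap.ker (Q₀.polarBilin u) ⊓ LinearMap.ker (Q₀.polarBilin z))
      (fun e => by rw [e, finrank_bot] at h2; omega)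
    have hdu' : polar Q₀ u d = 0 := hdu
    have hdz' : polar Q₀ z d = 0 := hdz
    refine hd0 (hW d hdW fun x hx => ?_)
    set t := polar Q₀ u x / polar Q₀ u z
    have hx' : polar Q₀ u (x - t • z) = 0 := by
      rw [QuadraticMap.polar_sub_right, QuadraticMap.polar_smul_right, smul_eq_mul,
        div_mul_cancel₀ _ hzu, sub_self]
    have hsum : polar Q₀ u (d + (x - t • z)) = 0 := by
      rw [QuadraticMap.polar_add_right, hdu', hx', add_zero]
    have hx'W : x - t • z ∈ W := sub_mem hx (W.smul_mem _ hz)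
    have hp : polar Q₀ d (x - t • z) = 0 := by
      rw [QuadraticMap.polar, hno _ (add_mem hdW hx'W) hsum, hno d hdW hdu', hno _ hx'W hx', sub_zero,
        sub_zero]
    rwa [QuadraticMap.polar_sub_right, QuadraticMap.polar_smul_right, QuadraticMap.polar_comm _ d z,
      hdz', smul_zero, sub_zero] at hp
  have hWa : ∀ x ∈ W, B (inc x) (g.1 (inc v)) = 0 := fun x hx => by
    rw [hpq, map_add, bilin_smul_right, A.bzero_iff.2 (hx p (Submodule.subset_span (by simp))),
      A.bzero_iff.2 (hx q (Submodule.subset_span (by simp))), mul_zero, add_zero]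
  obtain ⟨w, hw, hvw, huw⟩ : ∃ w, B (inc w) (inc w) = 0 ∧ B (inc v) (inc w) = 0 ∧
      B (inc u) (g.1 (inc w)) ≠ 0 := by
    by_contra hno
    push Not at hno
    obtain ⟨k, hk⟩ := C.line_of_perp g hv hv0 (s := inc u) hno
    refine hzu ?_
    have h : B (inc z) (inc u) = 0 := by rw [hk, bilin_smul_right, hWa z hz, mul_zero]
    exact A.bzero_iff.1 (A.inc_symm h)
  set y := θ⁻¹ • g.1 (inc w) with hydef
  have hwθ : B (θ⁻¹ • inc w) (θ⁻¹ • inc w) = 0 := by simp [bilin_smul_left, bilin_smul_right, hw]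
  have hvwθ : B (inc v) (θ⁻¹ • inc w) = 0 := by simp [bilin_smul_right, hvw]
  have ha : B (g.1 (inc v)) (g.1 (inc v)) = 0 := by rw [sIsoms_map, hv]
  have hy : B y y = 0 := by simp [hydef, bilin_smul_left, bilin_smul_right, sIsoms_map, hw]
  have hay : B (g.1 (inc v)) y = 0 := by simp [hydef, bilin_smul_right, sIsoms_map, hvw]
  have hS : sEv B (g.1 (inc v)) y ∈ M := by
    have h := mul_mem (mul_mem hg (C.rt_mem hv hw hvw)) (inv_mem hg)
    rwa [hB.ev_conj g hv hwθ hvwθ, map_smul] at h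
  have hu' := A.iso_iff.2 hQu
  have hS' := C.shrink ha hy hay hS hu' (A.bzero_iff.2 hud) (hWa u hu) (hWa d hd)
  set l := -4 * ((Q₀ d : F₀) : F) * θ⁻¹ * B (inc u) y
  have hl : l ≠ 0 := by
    have h4 : (-4 : F) ≠ 0 := neg_ne_zero.2 (by
      rw [show (4 : F) = 2 * 2 by norm_num]; exact mul_ne_zero A.two A.two)
    refine mul_ne_zero (mul_ne_zero (mul_ne_zero h4 fun e => hQd (Subtype.ext e)) (inv_ne_zero hθ)) ?_
    rw [hydef, bilin_smul_right]
    exact mul_ne_zero (inv_ne_zero hθ) huw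
  have hlu : B (l • inc u) (l • inc u) = 0 := by simp [bilin_smul_left, bilin_smul_right, hu']
  have hau : B (g.1 (inc v)) (l • inc u) = 0 := by
    rw [bilin_smul_right, hB.perp_symm (hWa u hu), mul_zero]
  set r := g.1.symm (l • inc u) with hrdef
  have hgr : g.1 r = l • inc u := g.1.apply_symm_apply _
  have hgv : g⁻¹.1 (g.1 (inc v)) = inc v := g.1.symm_apply_apply _
  have hR : sEv B (inc v) r ∈ M := by
    have h := mul_mem (mul_mem (inv_mem hg) hS') (inv_mem (inv_mem hg))
    rwa [hB.ev_conj g⁻¹ ha hlu hau, hgv] at h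
  have hrr : B r r = 0 := by rw [← sIsoms_map g, hgr, hlu]
  have hvr : B (inc v) r = 0 := by rw [← sIsoms_map g, hgr, hau]
  obtain ⟨ρ, hρ⟩ := C.root_val hv hv0 hrr hvr hR
  have e : g.1 (inc ρ) = (θ * l) • inc u := by
    rw [show inc ρ = θ • r by rw [hρ, smul_smul, mul_inv_cancel₀ hθ, one_smul], map_smul, hgr, smul_smul]
  have hρρ : B (inc ρ) (inc ρ) = 0 := by
    rw [← sIsoms_map g, e, bilin_smul_left, bilin_smul_right, hu', mul_zero, mul_zero]
  refine C.point_rat hg hρρ (fun h0 => ?_) e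
  rw [h0, map_zero, map_zero] at e
  exact A.inc_ne hu0 ((smul_eq_zero.1 e.symm).resolve_left (mul_ne_zero hθ hl))

/-- either the element is rational or the parts of the image are singular and orthogonal -/
theorem parts_singular {g : sIsoms B} (hg : g ∈ M) {v : V₀} (hv : B (inc v) (inc v) = 0) {p q : V₀}
    (hpq : g.1 (inc v) = inc p + θ • inc q) : SKRat inc g ∨ (Q₀ q = 0 ∧ polar Q₀ p q = 0) := by
  have A := C.base
  by_cases hbad : Q₀ q = 0 ∧ polar Q₀ p q = 0
  · exact Or.inr hbad
  left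
  have h := sIsoms_map g (inc v) (inc v)
  rw [hpq, hv] at h
  obtain ⟨hpp, -⟩ := A.orth_parts h
  rw [polar_self_two, polar_self_two] at hpp
  have hv0 : v ≠ 0 := by
    rintro rfl
    rw [map_zero, map_zero] at hpq
    refine hbad ?_
    have hz : ∀ x, polar Q₀ x p = 0 ∧ polar Q₀ x q = 0 := fun x => by
      have e : B (inc x) (inc p + θ • inc q) = 0 := by rw [← hpq, map_zero]
      rw [map_add, bilin_smul_right, A.bval, A.bval,
        show θ * ((polar Q₀ x p : F₀) : F) + θ * (θ * ((polar Q₀ x q : F₀) : F)) =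
          θ * (((polar Q₀ x p : F₀) : F) + θ * ((polar Q₀ x q : F₀) : F)) by ring] at e
      obtain ⟨h1, h2⟩ := A.parts_zero (polar Q₀ x p).2 (polar Q₀ x q).2
        ((mul_eq_zero.1 e).resolve_left A.tne)
      exact ⟨Subtype.ext h1, Subtype.ext h2⟩
    have hq0 : q = 0 := A.sep₀ q fun x => by rw [QuadraticMap.polar_comm]; exact (hz x).2
    subst hq0
    exact ⟨map_zero Q₀, QuadraticMap.polar_zero_right Q₀ p⟩
  refine C.core hg hv hv0 hpq fun x hx hall => ?_
  obtain ⟨s, t, rfl⟩ := Submodule.mem_span_pair.1 hx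
  have h1 := hall p (Submodule.subset_span (by simp))
  have h2 := hall q (Submodule.subset_span (by simp))
  rw [QuadraticMap.polar_add_left, QuadraticMap.polar_smul_left, QuadraticMap.polar_smul_left,
    polar_self_two, QuadraticMap.polar_comm Q₀ q p] at h1
  rw [QuadraticMap.polar_add_left, QuadraticMap.polar_smul_left, QuadraticMap.polar_smul_left,
    polar_self_two] at h2
  simp only [smul_eq_mul] at h1 h2
  set c := polar Q₀ p q
  have e1 : (s : F) * (2 * ((Q₀ p : F₀) : F)) + (t : F) * (c : F) = 0 := congrArg Subtype.val h1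
  have e2 : (s : F) * (c : F) + (t : F) * (2 * ((Q₀ q : F₀) : F)) = 0 := congrArg Subtype.val h2
  have h2c : ((2 : F₀) : F) = 2 := rfl
  simp only [MulMemClass.coe_mul, h2c] at hpp
  set δ := θ * θ
  have hdet : δ * ((2 * (Q₀ q : F₀) : F₀) : F) * ((2 * (Q₀ q : F₀) : F₀) : F) - (c : F) * c ≠ 0 := by
    intro h0
    obtain ⟨hc, hq⟩ := A.sq_ne (x := c) (y := 2 * Q₀ q) (by linear_combination -h0)
    exact hbad ⟨(mul_eq_zero.1 hq).resolve_left A.two', hc⟩
  simp only [MulMemClass.coe_mul, h2c] at hdet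
  have hs : s = 0 := Subtype.ext ((mul_eq_zero.1 (show (s : F) *
      (δ * (2 * (Q₀ q : F₀)) * (2 * (Q₀ q : F₀)) - (c : F) * c) = 0 by
      linear_combination (2 * ((Q₀ q : F₀) : F)) * e1 - (c : F) * e2 - (2 * ((Q₀ q : F₀) : F) * s) * hpp)).resolve_right hdet)
  have ht : t = 0 := Subtype.ext ((mul_eq_zero.1 (show (t : F) *
      (δ * (2 * (Q₀ q : F₀)) * (2 * (Q₀ q : F₀)) - (c : F) * c) = 0 by
      linear_combination (δ * (2 * ((Q₀ q : F₀) : F))) * e2 - (c : F) * e1 + ((c : F) * s) * hpp)).resolve_right hdet)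
  rw [hs, ht, zero_smul, zero_smul, add_zero]

theorem sym_dichotomy {g : sIsoms B} (hg : g ∈ M) : SKRat inc g := by
  have A := C.base
  by_contra hno
  obtain ⟨v, hv, -, hvout⟩ := A.exists_out ∅ (by simp)
  have hv0 : v ≠ 0 := fun e => hvout (e ▸ Submodule.zero_mem _)
  obtain ⟨p, q, hpq⟩ := A.decomp (g.1 (inc v))
  have hperp : ∀ w, B (inc w) (inc w) = 0 → B (inc v) (inc w) = 0 → B (inc p) (g.1 (inc w)) = 0 := by
    intro w hw hvw
    obtain ⟨p', q', hw'⟩ := A.decomp (g.1 (inc w))
    obtain ⟨hq1, hc1⟩ := (C.parts_singular hg hv hpq).resolve_left hno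
    obtain ⟨hq2, hc2⟩ := (C.parts_singular hg hw hw').resolve_left hno
    obtain ⟨hq3, hc3⟩ := (C.parts_singular hg (A.iso_add hv hw hvw) (p := p + p') (q := q + q') (by
      simp only [map_add, smul_add, hpq, hw']; abel)).resolve_left hno
    rw [QuadraticMap.map_add (f := Q₀) q q', hq1, hq2, zero_add, zero_add] at hq3
    rw [QuadraticMap.polar_add_left, QuadraticMap.polar_add_right, QuadraticMap.polar_add_right, hc1, hc2,
      zero_add, add_zero] at hc3
    have h := sIsoms_map g (inc w) (inc v)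
    rw [hpq, hw', hvw] at h
    obtain ⟨hpp, hpq'⟩ := A.orth_parts h
    rw [hq3, show ((0 : F₀) : F) = 0 from rfl, mul_zero] at hpp
    have hpq0 : polar Q₀ p q' = 0 := by
      rw [QuadraticMap.polar_comm Q₀ p' q, ← hpq'] at hc3
      exact (mul_eq_zero.1 (show (2 : F₀) * polar Q₀ p q' = 0 by linear_combination hc3)).resolve_left A.two'
    rw [hw', map_add, bilin_smul_right, A.bval, hpp, A.bzero_iff.2 hpq0]
    simp
  obtain ⟨k, hk⟩ := C.line_of_perp g hv hv0 hperp
  rcases eq_or_ne k 0 with rfl | hk0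
  · rw [zero_smul] at hk
    exact hno (C.point_rat hg hv hv0 (lam := θ) (r := q) (by rw [hpq, hk, zero_add]))
  · exact hno (C.point_rat hg hv hv0 (lam := k⁻¹) (r := p) (by
      rw [hk, smul_smul, inv_mul_cancel₀ hk0, one_smul]))

end SymCtx

end CfsgLib.MaxSub
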