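import Cfsg.Prelude.Def_GeometricClasses
import Cfsg.Agent.S5653
import Cfsg.Agent.S5654
import Cfsg.Agent.S5657
import Cfsg.Agent.S5658
import Cfsg.Agent.S5659
import Cfsg.Agent.S5660
import Cfsg.Agent.Lib.MaxSub.UFrameCoord
import Cfsg.Agent.Lib.MaxSub.TensorUnitary

/-!
Maximal subgroups of `SU₈`: every class except the symplectic-type normaliser.
-/

set_option autoImplicit false
open Cfsg

namespace CfsgLib.MaxSub.SuEight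

/-- the geometric classes of `SU₈` other than the symplectic-type one -/
theorem classes {F : Type*} [Field F] [Fintype F] (q : ℕ) (hF : Fintype.card F = q ^ 2) :
    (∀ W : Submodule F (Fin 8 → F), W ≠ ⊥ → Cfsg.Geo.IsTotallySingularFor (Cfsg.hermForm 8 F q) W → Cfsg.Geo.IsMaximalIn (Cfsg.GU 8 F q ⊓ Cfsg.Geo.specialLinear (Fin 8) F) (Cfsg.Geo.subspaceStabilizer W ⊓ (Cfsg.GU 8 F q ⊓ Cfsg.Geo.specialLinear (Fin 8) F))) ∧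
    (∀ W : Submodule F (Fin 8 → F), W ≠ ⊥ → Cfsg.Geo.IsNondegenerateOn (Cfsg.hermForm 8 F q) W → 2 * Module.finrank F W < 8 → Cfsg.Geo.IsMaximalIn (Cfsg.GU 8 F q ⊓ Cfsg.Geo.specialLinear (Fin 8) F) (Cfsg.Geo.subspaceStabilizer W ⊓ (Cfsg.GU 8 F q ⊓ Cfsg.Geo.specialLinear (Fin 8) F))) ∧
    (∀ D : Fin 8 → Submodule F (Fin 8 → F), Cfsg.Geo.IsNondegenerateMDecomposition (Cfsg.hermForm 8 F q) 1 D → Cfsg.Geo.IsMaximalIn (Cfsg.GU 8 F q ⊓ Cfsg.Geo.specialLinear (Fin 8) F) (Cfsg.Geo.decompositionStabilizer D ⊓ (Cfsg.GU 8 F q ⊓ Cfsg.Geo.specialLinear (Fin 8) F))) ∧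
    (3 ≤ q → ∀ D : Fin 4 → Submodule F (Fin 8 → F), Cfsg.Geo.IsNondegenerateMDecomposition (Cfsg.hermForm 8 F q) 2 D → Cfsg.Geo.IsMaximalIn (Cfsg.GU 8 F q ⊓ Cfsg.Geo.specialLinear (Fin 8) F) (Cfsg.Geo.decompositionStabilizer D ⊓ (Cfsg.GU 8 F q ⊓ Cfsg.Geo.specialLinear (Fin 8) F))) ∧
    (∀ D : Fin 2 → Submodule F (Fin 8 → F), Cfsg.Geo.IsNondegenerateMDecomposition (Cfsg.hermForm 8 F q) 4 D → Cfsg.Geo.IsMaximalIn (Cfsg.GU 8 F q ⊓ Cfsg.Geo.specialLinear (Fin 8) F) (Cfsg.Geo.decompositionStabilizer D ⊓ (Cfsg.GU 8 F q ⊓ Cfsg.Geo.specialLinear (Fin 8) F))) ∧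
    (∀ D : Fin 2 → Submodule F (Fin 8 → F), Cfsg.Geo.IsMDecomposition 4 D → (∀ i, Cfsg.Geo.IsTotallySingularFor (Cfsg.hermForm 8 F q) (D i)) → Cfsg.Geo.IsMaximalIn (Cfsg.GU 8 F q ⊓ Cfsg.Geo.specialLinear (Fin 8) F) (Cfsg.Geo.decompositionStabilizer D ⊓ (Cfsg.GU 8 F q ⊓ Cfsg.Geo.specialLinear (Fin 8) F))) ∧
    (3 ≤ q → ∀ (e : Fin 8 ≃ Fin 2 × Fin 4) (P : Matrix.GeneralLinearGroup (Fin 8) F) (f₁ : (Fin 2 → F) → (Fin 2 → F) → F) (f₂ : (Fin 4 → F) → (Fin 4 → F) → F), Cfsg.Geo.IsUnitaryFormPow q f₁ → Cfsg.Geo.IsUnitaryFormPow q f₂ → Cfsg.Geo.IsTensorFormStructure (fun x : F => x ^ q) (Cfsg.hermForm 8 F q) f₁ f₂ e P → Cfsg.Geo.IsMaximalIn (Cfsg.GU 8 F q ⊓ Cfsg.Geo.specialLinear (Fin 8) F) (Cfsg.Geo.tensorProductSubgroup 2 4 e P ⊓ (Cfsg.GU 8 F q ⊓ Cfsg.Geo.specialLinear (Fin 8) F))) ∧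
    (∀ (F₀ : Subfield F) (r : ℕ) (P : Matrix.GeneralLinearGroup (Fin 8) F), r.Prime → Odd r → Fintype.card F = Nat.card F₀ ^ r → Cfsg.Geo.IsFormRationalStructure (Cfsg.hermForm 8 F q) F₀ 1 P → Cfsg.Geo.IsMaximalIn (Cfsg.GU 8 F q ⊓ Cfsg.Geo.specialLinear (Fin 8) F) (Cfsg.Geo.subfieldSubgroup F₀ P ⊓ (Cfsg.GU 8 F q ⊓ Cfsg.Geo.specialLinear (Fin 8) F))) ∧
    (∀ (F₀ : Subfield F) (P : Matrix.GeneralLinearGroup (Fin 8) F) (ζ : F), Fintype.card F = Nat.card F₀ ^ 2 → ζ ≠ 0 → ζ + ζ ^ q = 0 → Cfsg.Geo.IsFormRationalStructure (Cfsg.hermForm 8 F q) F₀ ζ P → (∀ u : Fin 8 → F, (∀ i, u i ∈ F₀) → (Cfsg.hermForm 8 F q) (Matrix.mulVec (P : Matrix (Fin 8) (Fin 8) F) u) (Matrix.mulVec (P : Matrix (Fin 8) (Fin 8) F) u) = 0) → Cfsg.Geo.IsMaximalIn (Cfsg.GU 8 F q ⊓ Cfsg.Geo.specialLinear (Fin 8) F) (Cfsg.Geo.subfieldSubgroup F₀ P ⊓ (Cfsg.GU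 8 F q ⊓ Cfsg.Geo.specialLinear (Fin 8) F))) ∧
    (Odd q → ∀ (F₀ : Subfield F) (P : Matrix.GeneralLinearGroup (Fin 8) F), Fintype.card F = Nat.card F₀ ^ 2 → Cfsg.Geo.IsFormRationalStructure (Cfsg.hermForm 8 F q) F₀ 1 P → Cfsg.Geo.IsMaximalIn (Cfsg.GU 8 F q ⊓ Cfsg.Geo.specialLinear (Fin 8) F) (Cfsg.Geo.subfieldSubgroup F₀ P ⊓ (Cfsg.GU 8 F q ⊓ Cfsg.Geo.specialLinear (Fin 8) F))) := by
  classical
  exact ⟨fun W h0 hW => Cfsg.Agent.S5653.base 8 q hF (by norm_num) W h0 hW,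
    fun W h0 hW hd => Cfsg.Agent.S5654.base 8 q hF (by norm_num) W h0 hW hd,
    fun D hD => CfsgLib.MaxSub.UFrame.isMaximalIn_decomposition_eight hF rfl (fun h => by omega) hD,
    fun hq D hD => CfsgLib.MaxSub.UFrame.isMaximalIn_decomposition_eight hF rfl (fun h => by omega) hD,
    fun D hD => CfsgLib.MaxSub.UFrame.isMaximalIn_decomposition_eight hF rfl (fun h => by omega) hD,
    fun D hD hts => Cfsg.Agent.S5657.base 8 q hF (by norm_num) 4 rfl D hD hts,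
    fun hq e P f₁ f₂ h₁ h₂ hT => CfsgLib.MaxSub.TensorUnit.tensor_unitary_maximal' hF (by norm_num)
      le_rfl (by norm_num) (fun h => by omega) e P f₁ f₂ h₁ h₂ hT,
    fun F₀ r P hr hro hc hP => Cfsg.Agent.S5658.base 8 q hF (Or.inr (Or.inl rfl)) F₀ r hr hro hc P hP,
    fun F₀ P ζ hc hζ0 hζ hP halt => Cfsg.Agent.S5660.base 8 q hF (by norm_num) (by decide) F₀ hc ζ hζ0 hζ P hP halt,
    fun hodd F₀ P hc hP => Cfsg.Agent.S5659.base 8 q hF (by norm_num) hodd F₀ hc P hP⟩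

end CfsgLib.MaxSub.SuEight
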