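import Cfsg.Agent.Lib.MaxSub.TFormPair
import Cfsg.Agent.Lib.PLocal.DicksonSLTwoCount

/-!
Two square-zero endomorphisms `a, b` in odd characteristic: `⟨1 + a, 1 + b⟩` is a `p`-group or has an
involution (its action on an irreducible section is a subgroup of `SL₂(K)` with two Sylow `p`-subgroups).
-/

set_option autoImplicit false
set_option linter.unusedSectionVars false
set_option linter.style.haveILetI false

namespace CfsgLib.MaxSub.TForm

open Module
open scoped MatrixGroups

variable {F V : Type*} [Field F] [AddCommGroup V] [Module F V]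

/-- the images of all words of a given length in `a` and `b` -/
def lev (a b : Module.End F V) : ℕ → Submodule F V
  | 0 => ⊤
  | k + 1 => (lev a b k).map a ⊔ (lev a b k).map b

namespace SqPair

variable {a b : Module.End F V}

theorem lev_succ_le (k : ℕ) : lev a b (k + 1) ≤ lev a b k := by
  induction k with
  | zero => exact le_top
  | succ k ih => exact sup_le_sup (Submodule.map_mono ih) (Submodule.map_mono ih)

theorem lev_le_range (P : SqPair a b) (i : ℕ) :
    lev a b (1 + 2 * i) ≤ LinearMap.range ((a * b + b * a) ^ i) := by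
  set C := a * b + b * a with hC
  have step : ∀ k, lev a b (k + 1 + 2) ≤ (lev a b (k + 1)).map C := by
    intro k
    induction k with
    | zero =>
        show ((lev a b 1).map a ⊔ (lev a b 1).map b).map a ⊔ ((lev a b 1).map a ⊔ (lev a b 1).map b).map b ≤ _
        simp only [lev, Submodule.map_sup, ← Submodule.map_comp, ← Module.End.mul_eq_comp]
        have e1 : a * (a * a) = 0 := by rw [P.ha, mul_zero]
        have e2 : a * (a * b) = 0 := by rw [← mul_assoc, P.ha, zero_mul]
        have e3 : a * (b * b) = 0 := by rw [P.hb, mul_zero]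
        have e4 : b * (a * a) = 0 := by rw [P.ha, mul_zero]
        have e5 : b * (b * a) = 0 := by rw [← mul_assoc, P.hb, zero_mul]
        have e6 : b * (b * b) = 0 := by rw [P.hb, mul_zero]
        have e7 : a * (b * a) = C * a := P.aba
        have e8 : b * (a * b) = C * b := P.bab
        simp only [mul_assoc, e1, e2, e3, e4, e5, e6, e7, e8, Submodule.map_zero, bot_sup_eq,
          sup_bot_eq, le_refl]
    | succ k ih =>
        show (lev a b (k + 1 + 2)).map a ⊔ (lev a b (k + 1 + 2)).map b ≤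
          ((lev a b (k + 1)).map a ⊔ (lev a b (k + 1)).map b).map C
        refine (sup_le_sup (Submodule.map_mono ih) (Submodule.map_mono ih)).trans ?_
        simp only [Submodule.map_sup, ← Submodule.map_comp, ← Module.End.mul_eq_comp]
        rw [P.cen_C.1, P.cen_C.2]
  have main : lev a b (1 + 2 * i) ≤ (lev a b 1).map (C ^ i) := by
    induction i with
    | zero => simp [Module.End.one_eq_id]
    | succ i ih =>
        have h1 := step (2 * i)
        rw [show 2 * i + 1 + 2 = 1 + 2 * (i + 1) by ring, show 2 * i + 1 = 1 + 2 * i by ring] at h1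
        refine h1.trans ((Submodule.map_mono ih).trans ?_)
        rw [← Submodule.map_comp, ← Module.End.mul_eq_comp, ← pow_succ']
  exact main.trans LinearMap.map_le_range

variable [Finite V]

theorem isPGroup_of_lev {p : ℕ} [Fact p.Prime] [CharP F p] {t u : V ≃ₗ[F] V} (ht : ∀ x, t x = x + a x)
    (hu : ∀ x, u x = x + b x) {m : ℕ} (hm : lev a b m = ⊥) :
    IsPGroup p (Subgroup.closure ({t, u} : Set (V ≃ₗ[F] V))) := by
  haveI : Finite (V ≃ₗ[F] V) := Finite.of_injective _ DFunLike.coe_injective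
  rintro ⟨g, hg⟩
  have key : ∀ k, ∀ x ∈ lev a b k, g x - x ∈ lev a b (k + 1) := by
    rw [← Subgroup.mem_toSubmonoid, Subgroup.closure_toSubmonoid_of_finite] at hg
    induction hg using Submonoid.closure_induction with
    | mem s hs =>
        intro k x hx
        rcases hs with rfl | rfl
        · rw [ht, add_sub_cancel_left]; exact Submodule.mem_sup_left (Submodule.mem_map_of_mem hx)
        · rw [hu, add_sub_cancel_left]; exact Submodule.mem_sup_right (Submodule.mem_map_of_mem hx)
    | one => intro k x _; simp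
    | mul r s _ _ hr hs =>
        intro k x hx
        have h1 := hs k x hx
        have h2 := hr k x hx
        have h3 := lev_succ_le (k + 1) (hr (k + 1) _ h1)
        have e : (r * s) x - x = (r (s x - x) - (s x - x)) + (r x - x) + (s x - x) := by
          rw [LinearEquiv.mul_apply, map_sub]; abel
        rw [e]
        exact add_mem (add_mem h3 h2) h1
  obtain ⟨L, hL⟩ : ∃ L, m ≤ p ^ L :=
    ⟨m, (Nat.lt_pow_self (Fact.out : p.Prime).one_lt).le⟩
  refine ⟨L, Subtype.ext (LinearEquiv.ext fun x => ?_)⟩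
  have hN : ∀ n x, (((g : V →ₗ[F] V) : Module.End F V) - 1) ^ n • x ∈ lev a b n := by
    intro n
    induction n with
    | zero => exact fun x => Submodule.mem_top
    | succ n ih =>
        intro x
        rw [pow_succ', mul_smul]
        exact key n _ (ih x)
  haveI : CharP (Module.End F V) p ∨ Subsingleton V := by
    rcases subsingleton_or_nontrivial V with h | h
    · exact Or.inr h
    · exact Or.inl (charP_of_injective_algebraMap (algebraMap F (Module.End F V)).injective p)
  rcases this with hchar | hsub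
  swap
  · exact Subsingleton.elim _ _
  have hz : (((g : V →ₗ[F] V) : Module.End F V) - 1) ^ p ^ L = 0 := LinearMap.ext fun y => by
    have h4 := hN (p ^ L) y
    have h5 : lev a b (p ^ L) ≤ lev a b m := by
      obtain ⟨d, hd⟩ := Nat.exists_eq_add_of_le hL
      rw [hd]
      clear hd
      induction d with
      | zero => exact le_rfl
      | succ d ih => exact (lev_succ_le _).trans ih
    have := h5 h4
    rw [hm, Submodule.mem_bot] at this
    exact this
  rw [sub_pow_char_pow_of_commute _ _ (Commute.one_right _), one_pow, sub_eq_zero] at hz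
  have e : ∀ n, (((g ^ n : V ≃ₗ[F] V) : V →ₗ[F] V) : Module.End F V) =
      ((g : V →ₗ[F] V) : Module.End F V) ^ n := by
    intro n
    induction n with
    | zero => rfl
    | succ n ih => rw [pow_succ, pow_succ, ← ih]; rfl
  have := LinearMap.congr_fun ((e (p ^ L)).trans hz) x
  simpa using this

set_option maxHeartbeats 1000000 in
theorem two_dvd_card (P : SqPair a b) {p : ℕ} [Fact p.Prime] [CharP F p] [Finite F] (hp : p ≠ 2)
    {t u : V ≃ₗ[F] V} (ht : ∀ x, t x = x + a x) (hu : ∀ x, u x = x + b x)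
    (hG : ¬ IsPGroup p (Subgroup.closure ({t, u} : Set (V ≃ₗ[F] V)))) :
    2 ∣ Nat.card (Subgroup.closure ({t, u} : Set (V ≃ₗ[F] V))) := by
  classical
  haveI : Finite (Module.End F V) := Finite.of_injective _ DFunLike.coe_injective
  set C := a * b + b * a with hC
  obtain ⟨i, k, hik, heq⟩ := Finite.exists_ne_map_eq_of_infinite fun n => C ^ n
  wlog hlt : i < k generalizing i k
  · exact this k i (Ne.symm hik) heq.symm (lt_of_le_of_ne (not_lt.1 hlt) (Ne.symm hik))
  set W := LinearMap.range (C ^ i) with hW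
  have hWinj : ∀ x ∈ W, C x = 0 → x = 0 := by
    rintro _ ⟨y, rfl⟩ hy
    have h1 : (C ^ k) y = (C ^ i) y := LinearMap.congr_fun heq.symm y
    rw [← h1, show k = (k - i - 1) + (1 + i) by omega, pow_add, pow_add, pow_one]
    show (C ^ (k - i - 1)) (C ((C ^ i) y)) = 0
    rw [hy, map_zero]
  have hW0 : W ≠ ⊥ := fun h0 => hG (isPGroup_of_lev (a := a) (b := b) ht hu (m := 1 + 2 * i)
    (le_bot_iff.1 (h0 ▸ P.lev_le_range i)))
  have hinvW : ∀ x ∈ W, a x ∈ W ∧ b x ∈ W := by
    rintro _ ⟨y, rfl⟩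
    have hc : ∀ c : Module.End F V, C * c = c * C → C ^ i * c = c * C ^ i := fun c hc => by
      have : Commute C c := hc
      exact (this.pow_left i)
    exact ⟨⟨a y, LinearMap.congr_fun (hc a P.cen_C.1) y⟩, ⟨b y, LinearMap.congr_fun (hc b P.cen_C.2) y⟩⟩
  haveI : Finite (Submodule F V) := Finite.of_injective _ SetLike.coe_injective
  obtain ⟨S, ⟨⟨hSW, hS0, hSa, hSb⟩, hmin⟩⟩ := Set.Finite.exists_minimal
    (s := {S : Submodule F V | S ≤ W ∧ S ≠ ⊥ ∧ (∀ x ∈ S, a x ∈ S) ∧ ∀ x ∈ S, b x ∈ S}) (Set.toFinite _)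
    ⟨W, le_rfl, hW0, fun x hx => (hinvW x hx).1, fun x hx => (hinvW x hx).2⟩
  let aS : Module.End F S := a.restrict hSa
  let bS : Module.End F S := b.restrict hSb
  let CS : Module.End F S := aS * bS + bS * aS
  have hval : ∀ x : S, ((CS x : S) : V) = C x := fun x => rfl
  have PS : SqPair aS bS :=
    ⟨LinearMap.ext fun x => Subtype.ext (LinearMap.congr_fun P.ha x.1),
     LinearMap.ext fun x => Subtype.ext (LinearMap.congr_fun P.hb x.1)⟩
  let K := Algebra.adjoin F ({CS} : Set (Module.End F S))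
  have hKcen : ∀ r ∈ K, Cen aS bS r := by
    intro r hr
    induction hr using Algebra.adjoin_induction with
    | mem x hx => rw [Set.mem_singleton_iff.1 hx]; exact PS.cen_C
    | algebraMap c => exact ⟨Algebra.commutes c aS, Algebra.commutes c bS⟩
    | add x y _ _ hx hy => exact cen_add hx hy
    | mul x y _ _ hx hy => exact cen_mul hx hy
  have hKinj : ∀ r ∈ K, r ≠ 0 → ∀ x, r x = 0 → x = 0 := by
    intro r hr hr0 x hx
    by_contra hx0
    have hle : S ≤ (LinearMap.ker r).map S.subtype := hmin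
      ⟨(Submodule.map_subtype_le S _).trans hSW,
        fun h0 => hx0 (Subtype.ext (by
          have h1 : S.subtype x ∈ (LinearMap.ker r).map S.subtype := Submodule.mem_map_of_mem hx
          rw [h0, Submodule.mem_bot] at h1
          exact h1)),
        by
          rintro _ ⟨y, hy, rfl⟩
          refine ⟨aS y, ?_, rfl⟩
          show r (aS y) = 0
          rw [show r (aS y) = (r * aS) y from rfl, (hKcen r hr).1]
          show aS (r y) = 0
          rw [LinearMap.mem_ker.1 hy, map_zero],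
        by
          rintro _ ⟨y, hy, rfl⟩
          refine ⟨bS y, ?_, rfl⟩
          show r (bS y) = 0
          rw [show r (bS y) = (r * bS) y from rfl, (hKcen r hr).2]
          show bS (r y) = 0
          rw [LinearMap.mem_ker.1 hy, map_zero]⟩
      (Submodule.map_subtype_le S _)
    refine hr0 (LinearMap.ext fun y => ?_)
    obtain ⟨y', hy', he⟩ := hle y.2
    rw [← Subtype.ext (a1 := y') (a2 := y) he]
    exact hy'
  haveI : Nontrivial S := Submodule.nontrivial_iff_ne_bot.2 hS0
  letI : CommRing K := Algebra.adjoinCommRingOfComm F (by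
    rintro x hx y hy
    rw [Set.mem_singleton_iff.1 hx, Set.mem_singleton_iff.1 hy])
  haveI : NoZeroDivisors K := ⟨fun {x y} hxy => by
    by_contra h
    rw [not_or] at h
    refine h.2 (Subtype.ext (LinearMap.ext fun z => ?_))
    refine hKinj x.1 x.2 (fun e => h.1 (Subtype.ext e)) _ ?_
    exact LinearMap.congr_fun (congrArg Subtype.val hxy) z⟩
  haveI : IsDomain K := NoZeroDivisors.to_isDomain K
  haveI : Finite (Module.End F S) := Finite.of_injective _ DFunLike.coe_injective
  letI : Field K := (Finite.isField_of_domain K).toField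
  haveI : CharP K p := charP_of_injective_algebraMap (algebraMap F K).injective p
  let c : K := ⟨CS, Algebra.subset_adjoin rfl⟩
  obtain ⟨x₀, hx₀⟩ := exists_ne (0 : S)
  have hCSinj : ∀ x, CS x = 0 → x = 0 := fun x hx =>
    Subtype.ext (hWinj _ (hSW x.2) (by rw [← hval, hx]; rfl))
  have hc : c ≠ 0 := fun e => hx₀ (hCSinj x₀ (LinearMap.congr_fun (congrArg Subtype.val e) x₀))
  obtain ⟨v, hv0, hav⟩ : ∃ v : S, v ≠ 0 ∧ aS v = 0 := by
    by_cases h : aS x₀ = 0
    · exact ⟨x₀, hx₀, h⟩
    · exact ⟨aS x₀, h, LinearMap.congr_fun PS.ha x₀⟩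
  have hab : aS (bS v) = CS v := by
    show _ = aS (bS v) + bS (aS v)
    rw [hav, map_zero, add_zero]
  have hind : ∀ r s : K, r.1 v + s.1 (bS v) = 0 → r = 0 ∧ s = 0 := by
    intro r s h
    have h1 := congrArg aS h
    have e1 : aS (r.1 v) = 0 := by
      rw [show aS (r.1 v) = (aS * r.1) v from rfl, ← (hKcen r.1 r.2).1]
      show r.1 (aS v) = 0
      rw [hav, map_zero]
    have e2 : aS (s.1 (bS v)) = (s * c).1 v := by
      rw [show aS (s.1 (bS v)) = (aS * s.1) (bS v) from rfl, ← (hKcen s.1 s.2).1]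
      show s.1 (aS (bS v)) = _
      rw [hab]
      rfl
    rw [map_add, map_zero, e1, e2, zero_add] at h1
    have hs : s = 0 := by
      by_contra hs
      exact hv0 (hKinj _ (s * c).2 (fun e => mul_ne_zero hs hc (Subtype.ext e)) v h1)
    refine ⟨?_, hs⟩
    subst hs
    have h2 : r.1 v = 0 := by simpa using h
    by_contra hr
    exact hv0 (hKinj _ r.2 (fun e => hr (Subtype.ext e)) v h2)
  let Rep : (V ≃ₗ[F] V) × SL(2, K) → Prop := fun gM => ∃ gS : Module.End F S,
    (∀ x : S, (gS x : V) = gM.1 x) ∧ (∀ r : K, gS * r.1 = r.1 * gS) ∧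
      gS v = ((gM.2.1 0 0).1) v + ((gM.2.1 1 0).1) (bS v) ∧
      gS (bS v) = ((gM.2.1 0 1).1) v + ((gM.2.1 1 1).1) (bS v)
  have hRep_t : Rep (t, CfsgLib.PLocal.upU c) := by
    refine ⟨1 + aS, fun x => (ht x.1).symm, fun r => ?_, ?_, ?_⟩
    · rw [add_mul, mul_add, one_mul, mul_one, (hKcen r.1 r.2).1]
    · simp [CfsgLib.PLocal.upU, hav]
    · simp [CfsgLib.PLocal.upU, hab, c]
      abel
  have hRep_u : Rep (u, CfsgLib.PLocal.loL (1 : K)) := by
    refine ⟨1 + bS, fun x => (hu x.1).symm, fun r => ?_, ?_, ?_⟩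
    · rw [add_mul, mul_add, one_mul, mul_one, (hKcen r.1 r.2).2]
    · simp [CfsgLib.PLocal.loL]
    · have : bS (bS v) = 0 := LinearMap.congr_fun PS.hb v
      simp [CfsgLib.PLocal.loL, this]
  haveI : Finite (V ≃ₗ[F] V) := Finite.of_injective _ DFunLike.coe_injective
  haveI : Finite SL(2, K) := inferInstance
  let Γ := Subgroup.closure ({(t, CfsgLib.PLocal.upU c), (u, CfsgLib.PLocal.loL (1 : K))} :
    Set ((V ≃ₗ[F] V) × SL(2, K)))
  have hRep : ∀ gM ∈ Γ, Rep gM := by
    intro gM hgM
    rw [← Subgroup.mem_toSubmonoid, Subgroup.closure_toSubmonoid_of_finite] at hgM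
    induction hgM using Submonoid.closure_induction with
    | mem x hx => rcases hx with rfl | rfl <;> assumption
    | one => exact ⟨1, fun x => rfl, fun r => by rw [one_mul, mul_one], by simp, by simp⟩
    | mul x y _ _ hx hy =>
        obtain ⟨g₁, hg₁, hk₁, hv₁, hw₁⟩ := hx
        obtain ⟨g₂, hg₂, hk₂, hv₂, hw₂⟩ := hy
        have comm : ∀ (r : K) (z : S), g₁ (r.1 z) = r.1 (g₁ z) := fun r z =>
          LinearMap.congr_fun (hk₁ r) z
        have cc : ∀ (r s : K) (z : S), r.1 (s.1 z) = s.1 (r.1 z) := fun r s z =>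
          LinearMap.congr_fun (congrArg Subtype.val (mul_comm r s)) z
        refine ⟨g₁ * g₂, fun z => ?_, fun r => by rw [mul_assoc, hk₂, ← mul_assoc, hk₁, mul_assoc], ?_, ?_⟩
        · show (g₁ (g₂ z) : V) = x.1 (y.1 z)
          rw [hg₁, hg₂]
        · show g₁ (g₂ v) = _
          rw [hv₂, map_add, comm, comm, hv₁, hw₁]
          simp only [map_add, Prod.snd_mul, Matrix.SpecialLinearGroup.coe_mul, Matrix.mul_apply,
            Fin.sum_univ_two, AddMemClass.coe_add, MulMemClass.coe_mul, LinearMap.add_apply,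
            Module.End.mul_apply]
          simp only [cc (x.2.1 0 0), cc (x.2.1 0 1), cc (x.2.1 1 0), cc (x.2.1 1 1)]
          abel
        · show g₁ (g₂ (bS v)) = _
          rw [hw₂, map_add, comm, comm, hv₁, hw₁]
          simp only [map_add, Prod.snd_mul, Matrix.SpecialLinearGroup.coe_mul, Matrix.mul_apply,
            Fin.sum_univ_two, AddMemClass.coe_add, MulMemClass.coe_mul, LinearMap.add_apply,
            Module.End.mul_apply]
          simp only [cc (x.2.1 0 0), cc (x.2.1 0 1), cc (x.2.1 1 0), cc (x.2.1 1 1)]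
          abel
  let πG := MonoidHom.fst (V ≃ₗ[F] V) SL(2, K)
  let πM := MonoidHom.snd (V ≃ₗ[F] V) SL(2, K)
  have hGimg : Γ.map πG = Subgroup.closure ({t, u} : Set (V ≃ₗ[F] V)) := by
    rw [MonoidHom.map_closure]; simp [πG, Set.image_pair]
  have hker : ∀ gM ∈ Γ, gM.1 = 1 → gM.2 = 1 := by
    intro gM hgM h1
    obtain ⟨gS, hgS, -, hv, hw⟩ := hRep gM hgM
    have hone : ∀ x, gS x = x := fun x => Subtype.ext (by rw [hgS, h1]; rfl)
    rw [hone] at hv hw
    have k1 := hind (gM.2.1 0 0 - 1) (gM.2.1 1 0) (by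
      simp only [AddSubgroupClass.coe_sub, OneMemClass.coe_one, LinearMap.sub_apply, Module.End.one_apply]
      rw [sub_add_eq_add_sub, ← hv, sub_self])
    have k2 := hind (gM.2.1 0 1) (gM.2.1 1 1 - 1) (by
      simp only [AddSubgroupClass.coe_sub, OneMemClass.coe_one, LinearMap.sub_apply, Module.End.one_apply]
      rw [← add_sub_assoc, ← hw, sub_self])
    exact CfsgLib.PLocal.sl2_ext (sub_eq_zero.1 k1.1) k2.1 k1.2 (sub_eq_zero.1 k2.2)
  have hcard : Nat.card (Γ.map πG) = Nat.card Γ := by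
    refine (Nat.card_congr (Equiv.ofBijective (fun x : Γ => (⟨πG x.1, Subgroup.mem_map_of_mem _ x.2⟩ :
      Γ.map πG)) ⟨fun x y h => ?_, fun ⟨y, hy⟩ => ?_⟩)).symm
    · have h1 : x.1.1 = y.1.1 := congrArg Subtype.val h
      have h2 := hker _ (mul_mem x.2 (inv_mem y.2)) (by simp [h1])
      exact Subtype.ext (Prod.ext h1 (mul_inv_eq_one.1 h2))
    · obtain ⟨x, hx, rfl⟩ := hy; exact ⟨⟨x, hx⟩, rfl⟩
  have hdvd : Nat.card (Γ.map πM) ∣ Nat.card Γ := Subgroup.card_map_dvd _ _
  suffices 2 ∣ Nat.card (Γ.map πM) by rw [← hGimg, hcard]; exact this.trans hdvd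
  set H := Γ.map πM with hH
  have hup : CfsgLib.PLocal.upU c ∈ H := ⟨_, Subgroup.subset_closure (Set.mem_insert _ _), rfl⟩
  have hlo : CfsgLib.PLocal.loL (1 : K) ∈ H :=
    ⟨_, Subgroup.subset_closure (Set.mem_insert_of_mem _ rfl), rfl⟩
  have hpow : ∀ x : K, CfsgLib.PLocal.upU x ^ p = 1 ∧ CfsgLib.PLocal.loL x ^ p = 1 := fun x => by
    rw [CfsgLib.PLocal.upU_pow, CfsgLib.PLocal.loL_pow, CharP.cast_eq_zero, zero_mul]
    exact ⟨CfsgLib.PLocal.upU_zero, CfsgLib.PLocal.loL_zero⟩
  have hsyl : 1 < Nat.card (Sylow p H) := by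
    by_contra hle
    haveI : Subsingleton (Sylow p H) := Finite.card_le_one_iff_subsingleton.1 (not_lt.1 hle)
    have hz : ∀ (w : SL(2, K)) (hw : w ∈ H), w ^ p = 1 → ∀ P : Sylow p H, (⟨w, hw⟩ : H) ∈ (P : Subgroup H) := by
      intro w hw hwp P
      have hpg : IsPGroup p (Subgroup.zpowers (⟨w, hw⟩ : H)) := by
        intro z
        obtain ⟨n, hn⟩ := Subgroup.mem_zpowers_iff.1 z.2
        refine ⟨1, Subtype.ext ?_⟩
        rw [pow_one, SubmonoidClass.coe_pow, ← hn, ← zpow_natCast, ← zpow_mul, mul_comm n, zpow_mul, zpow_natCast]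
        simp [Subtype.ext_iff, hwp]
      obtain ⟨Q, hQ⟩ := hpg.exists_le_sylow
      rw [Subsingleton.elim P Q]
      exact hQ (Subgroup.mem_zpowers _)
    obtain ⟨P⟩ := (inferInstance : Nonempty (Sylow p H))
    obtain ⟨n, hn⟩ := P.2 ⟨_, mul_mem (hz _ hup (hpow c).1 P) (hz _ hlo (hpow 1).2 P)⟩
    have hn' : (CfsgLib.PLocal.upU c * CfsgLib.PLocal.loL (1 : K)) ^ p ^ n = 1 :=
      congrArg (fun w : (P : Subgroup H) => ((w : H) : SL(2, K))) hn
    have h1 : (((CfsgLib.PLocal.upU c * CfsgLib.PLocal.loL (1 : K) : SL(2, K)) :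
        Matrix (Fin 2) (Fin 2) K) - 1) ^ p ^ n = 0 := by
      rw [sub_pow_char_pow_of_commute _ _ (Commute.one_right _), one_pow,
        ← Matrix.SpecialLinearGroup.coe_pow, hn']
      simp
    have h3 := (Matrix.isNilpotent_trace_of_isNilpotent ⟨_, h1⟩).eq_zero
    simp [Matrix.trace_fin_two, CfsgLib.PLocal.upU_coe, CfsgLib.PLocal.loL_coe, Matrix.mul_fin_two] at h3
    exact hc (by linear_combination h3)
  obtain ⟨φ, hφ, hφH⟩ := CfsgLib.PLocal.exists_slTwo_le_of_two_sylow hp H hsyl
  haveI : Fact (2 < p) := ⟨lt_of_le_of_ne (Fact.out : p.Prime).two_le (Ne.symm hp)⟩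
  have h2 : orderOf (φ (-1)) = 2 := by
    rw [orderOf_injective φ hφ, orderOf_eq_prime (p := 2) (by simp)]
    intro h
    have h' := congrArg (fun w : SL(2, ZMod p) => (w : Matrix (Fin 2) (Fin 2) (ZMod p)) 0 0) h
    simp at h'
    exact ZMod.neg_one_ne_one h'
  have h3 := orderOf_dvd_natCard (⟨φ (-1), hφH ⟨_, rfl⟩⟩ : H)
  rwa [Subgroup.orderOf_mk, h2] at h3

end SqPair

end CfsgLib.MaxSub.TForm
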