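import Cfsg.Agent.Lib.Classical.ExcIsoMinusSix
import Cfsg.Agent.Lib.MaxSub.OLinesEven

/-!
The action of `SU_4(q)` on the six-dimensional space of minus type, as a map into the isometry group.
-/

set_option autoImplicit false
set_option linter.unusedSectionVars false

namespace CfsgLib.MaxSub.SuFour

open Matrix CfsgLib.Classical CfsgLib.Geom
open scoped commutatorElement

set_option maxHeartbeats 800000 in
/-- `SU_4(q)` covers `Ω⁻_6(q)` twice. -/
theorem exists_rho {F K : Type*} [Field F] [Fintype F] [Field K] [Fintype K] {q : ℕ}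
    (hF : Fintype.card F = q) (hK : Fintype.card K = q ^ 2) (h2 : (2 : F) ≠ 0) (a b : F)
    (hab : ∀ z₁ z₂ : F, z₁ ^ 2 + a * z₁ * z₂ + b * z₂ ^ 2 = 0 → z₁ = 0 ∧ z₂ = 0) :
    ∃ ρ : Cfsg.SU 4 K q →* quadIsoms (qfMinus 2 F a b),
      ρ.range = commutator (quadIsoms (qfMinus 2 F a b)) ∧
      ∀ s : Cfsg.SU 4 K q, ρ s = 1 ↔ ((s.1 : Matrix (Fin 4) (Fin 4) K) = 1 ∨
        (s.1 : Matrix (Fin 4) (Fin 4) K) = -1) := by
  obtain ⟨ι, θ, hfix, hfixed, htr, hnorm, hne⟩ := exists_quadratic_ext hF hK a b hab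
  let _ : Algebra F K := ι.toAlgebra
  obtain ⟨X, hXinj, hXreal, hsurj, hpf⟩ := exists_real_param hF hK a b hab θ hfix htr hnorm hne
  have hQ := qfMinus_sep (F := F) 2 hab
  obtain ⟨π, hπ⟩ := X.exists_leftInverse_of_injective (LinearMap.ker_eq_bot.2 hXinj)
  have hπX : ∀ v, π (X v) = v := fun v => LinearMap.congr_fun hπ v
  have hXπ : ∀ A, IsRealAlt (qFrob hK) A → X (π A) = A := by
    intro A hA
    obtain ⟨v, hv⟩ := hsurj A hA
    rw [← hv, hπX]
  have hσg : ∀ s : Cfsg.SU 4 K q, (s.1 : Matrix (Fin 4) (Fin 4) K).map (qFrob hK) =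
      ((s.1⁻¹ : Matrix.SpecialLinearGroup (Fin 4) K) : Matrix (Fin 4) (Fin 4) K)ᵀ := by
    intro s
    have h1 : (s.1 : Matrix (Fin 4) (Fin 4) K) *
        ((s.1⁻¹ : Matrix.SpecialLinearGroup (Fin 4) K) : Matrix (Fin 4) (Fin 4) K) = 1 := by
      rw [← Matrix.SpecialLinearGroup.coe_mul, mul_inv_cancel, Matrix.SpecialLinearGroup.coe_one]
    calc (s.1 : Matrix (Fin 4) (Fin 4) K).map (qFrob hK)
        = ((s.1 : Matrix (Fin 4) (Fin 4) K) *
            ((s.1⁻¹ : Matrix.SpecialLinearGroup (Fin 4) K) : Matrix (Fin 4) (Fin 4) K))ᵀ *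
            (s.1 : Matrix (Fin 4) (Fin 4) K).map (qFrob hK) := by
          rw [h1, Matrix.transpose_one, Matrix.one_mul]
      _ = _ := by
          rw [Matrix.transpose_mul, Matrix.mul_assoc, (mem_su_iff hK s.1).1 s.2, Matrix.mul_one]
  have hreal : ∀ (s : Cfsg.SU 4 K q) (A : Matrix (Fin 4) (Fin 4) K), IsRealAlt (qFrob hK) A →
      IsRealAlt (qFrob hK) ((s.1 : Matrix (Fin 4) (Fin 4) K) * A * (s.1 : Matrix (Fin 4) (Fin 4) K)ᵀ) := by
    intro s A hA
    refine ⟨hA.1.conj _, ?_⟩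
    rw [star4_conj s.1 hA.1, Matrix.map_mul, Matrix.map_mul, hA.2, Matrix.transpose_map, hσg,
      Matrix.transpose_transpose]
  let ρ : Cfsg.SU 4 K q →* quadIsoms (qfMinus 2 F a b) := quadHom (qfMinus 2 F a b)
    (fun s => π ∘ₗ LinearMap.mulLeft F (s.1 : Matrix (Fin 4) (Fin 4) K) ∘ₗ
      LinearMap.mulRight F (s.1 : Matrix (Fin 4) (Fin 4) K)ᵀ ∘ₗ X)
    (fun v => by simp [hπX])
    (fun s t v => by
      simp only [LinearMap.comp_apply, LinearMap.mulLeft_apply, LinearMap.mulRight_apply,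
        ← Matrix.mul_assoc]
      rw [hXπ _ (hreal t _ (hXreal _)), Subgroup.coe_mul,
        Matrix.SpecialLinearGroup.coe_mul, Matrix.transpose_mul]
      simp only [Matrix.mul_assoc])
    (fun s v => by
      apply (algebraMap F K).injective
      simp only [LinearMap.comp_apply, LinearMap.mulLeft_apply, LinearMap.mulRight_apply,
        ← Matrix.mul_assoc]
      rw [hpf, hpf, hXπ _ (hreal s _ (hXreal _)),
        pf4_conj s.1 (hXreal _).1])
  have hscal : ∀ s ∈ ρ.ker, ∃ r : K, r * r = 1 ∧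
      (s.1 : Matrix (Fin 4) (Fin 4) K) = r • (1 : Matrix (Fin 4) (Fin 4) K) := by
    intro s hs
    have hfixA : ∀ A, IsRealAlt (qFrob hK) A →
        (s.1 : Matrix (Fin 4) (Fin 4) K) * A * (s.1 : Matrix (Fin 4) (Fin 4) K)ᵀ = A := by
      intro A hA
      have h := congrArg (fun k : quadIsoms (qfMinus 2 F a b) => X (k.1 (π A))) (MonoidHom.mem_ker.1 hs)
      simp only [ρ, quadHom_apply, LinearMap.comp_apply, LinearMap.mulLeft_apply, LinearMap.mulRight_apply,
        ← Matrix.mul_assoc, hXπ A hA, Subgroup.coe_one, LinearEquiv.coe_one, id_eq] at h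
      rwa [hXπ _ (hreal s A hA)] at h
    refine scalar_of_conj_single (by simp) s.1 fun A hA => ?_
    obtain ⟨R, hR⟩ : ∃ R : K → Matrix (Fin 4) (Fin 4) K,
        R = fun m => m • A + qFrob hK m • (star4 A).map (qFrob hK) := ⟨_, rfl⟩
    have hRreal : ∀ m, IsRealAlt (qFrob hK) (R m) := fun m =>
      hR ▸ isRealAlt_combination (qFrob_qFrob hK) hA m
    have hcomb : A = (θ - qFrob hK θ)⁻¹ • (R θ - qFrob hK θ • R 1) := by
      rw [hR]
      simp only [map_one, one_smul, smul_add]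
      rw [add_sub_add_right_eq_sub, ← sub_smul, inv_smul_smul₀ (sub_ne_zero.2 (Ne.symm hne))]
    conv_rhs => rw [hcomb]
    conv_lhs => rw [hcomb]
    simp only [Matrix.mul_smul, Matrix.smul_mul, Matrix.mul_sub, Matrix.sub_mul, hfixA _ (hRreal θ),
      hfixA _ (hRreal 1)]
  have hperf : commutator (Cfsg.SU 4 K q) = ⊤ := by
    have h32 : ¬ ((4 : ℕ) = 3 ∧ q = 2) := fun h => absurd h.1 (by norm_num)
    have h := commutator_utGroup (isHermSpace_hermB hK 4) (by simp) (herm_h32 hK (by norm_num) h32)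
    let E := suEquiv hK (by norm_num : 3 ≤ 4) h32
    rw [commutator_def, ← Subgroup.map_top_of_surjective E.symm.toMonoidHom E.symm.surjective,
      ← Subgroup.map_commutator, ← commutator_def, h]
  have hH : Nat.card (Cfsg.SU 4 K q) = q ^ 6 * ((q ^ 2 - 1) * (q ^ 3 + 1) * (q ^ 4 - 1)) := by
    refine Nat.eq_of_mul_eq_mul_left (show 0 < q + 1 by omega) ?_
    rw [card_su_mul hK (by norm_num), card_gu hK]
    simp only [Finset.prod_range_succ, Finset.range_zero, Finset.prod_empty, one_mul]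
    norm_num [Nat.even_iff]
    ring
  have hO : Nat.card (quadIsoms (qfMinus 2 F a b)) = 2 * Nat.card (Cfsg.SU 4 K q) := by
    rw [card_qfMinus_isoms hab 2, hH, hF, Finset.prod_range_succ, Finset.prod_range_one]
    ring
  have hle : ρ.range ≤ commutator _ := commutator_eq_range_le ρ hperf
  obtain ⟨hk, -⟩ := card_le_of_scalar ρ.ker (fun s => (s.1 : Matrix (Fin 4) (Fin 4) K))
    (Subtype.val_injective.comp Subtype.val_injective) hscal
  refine ⟨ρ, ?_, fun s => ⟨fun hs => ?_, fun hs => ?_⟩⟩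
  · haveI := CfsgLib.MaxSub.OLines.finite_quadIsoms (Pi.basisFun F ((Fin 2 ⊕ Fin 2) ⊕ Fin 2))
      (Q := qfMinus 2 F a b)
    refine Subgroup.eq_of_le_of_card_ge hle ?_
    have hidx := commutator_quadIsoms_index (qfMinus 2 F a b)
    rw [omega_index_odd _ hQ h2 (by simp)] at hidx
    have hi := Subgroup.card_mul_index (commutator (quadIsoms (qfMinus 2 F a b)))
    rw [hidx, hO] at hi
    have hH' : Nat.card (Cfsg.SU 4 K q) = Nat.card ρ.range * Nat.card ρ.ker := by
      rw [Subgroup.card_eq_card_quotient_mul_card_subgroup ρ.ker,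
        Nat.card_congr (QuotientGroup.quotientKerEquivRange ρ).toEquiv]
    have hmul : Nat.card ρ.range * Nat.card ρ.ker ≤ Nat.card ρ.range * 2 := Nat.mul_le_mul_left _ hk
    omega
  · obtain ⟨r, hr, hm⟩ := hscal s (MonoidHom.mem_ker.2 hs)
    rcases mul_self_eq_one_iff.1 hr with rfl | rfl
    · exact Or.inl (by rw [hm, one_smul])
    · exact Or.inr (by rw [hm, neg_smul, one_smul])
  · refine quadIsoms_ext _ fun v => ?_
    simp only [ρ, quadHom_apply, LinearMap.comp_apply, LinearMap.mulLeft_apply, LinearMap.mulRight_apply]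
    rcases hs with hs | hs <;> rw [hs] <;> simp [hπX]

end CfsgLib.MaxSub.SuFour
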