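import Cfsg.Agent.Lib.MaxSub.FourCover
import Cfsg.Agent.Lib.MaxSub.SuFourMap

/-!
The normaliser of a group of symplectic type of order 64 is maximal in `SU_4(p)`, `p ≡ 3 (mod 4)`.
-/

set_option autoImplicit false
set_option linter.unusedSectionVars false

namespace CfsgLib.MaxSub.SuFour

open scoped MatrixGroups
open Cfsg.Geo Matrix CfsgLib.Classical CfsgLib.Geom CfsgLib.MaxSub.SymFour

variable {F : Type*} [Field F] [Fintype F]

/-- determinant-one isometries as the special unitary group -/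
def toSU (q : ℕ) : (Cfsg.GU 4 F q ⊓ specialLinear (Fin 4) F : Subgroup (GL (Fin 4) F)) →* Cfsg.SU 4 F q where
  toFun g := ⟨⟨((g : GL (Fin 4) F) : Matrix (Fin 4) (Fin 4) F), SlFour.Sympl.mem_SL'.1 g.2.2⟩, g.2.1⟩
  map_one' := Subtype.ext (Subtype.ext rfl)
  map_mul' _ _ := Subtype.ext (Subtype.ext rfl)

theorem toSU_surjective (q : ℕ) : Function.Surjective (toSU (F := F) q) := fun s =>
  ⟨⟨Matrix.SpecialLinearGroup.toGL s.1, s.2, SlFour.Sympl.mem_SL'.2 s.1.2⟩, Subtype.ext (Subtype.ext rfl)⟩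

theorem neg_one_not_square {p : ℕ} [Fact p.Prime] (hp4 : p % 4 = 3) (z₁ z₂ : ZMod p)
    (h : z₁ ^ 2 + 0 * z₁ * z₂ + 1 * z₂ ^ 2 = 0) : z₁ = 0 ∧ z₂ = 0 := by
  rcases eq_or_ne z₂ 0 with rfl | hz
  · simpa using h
  · refine absurd hp4 (ZMod.exists_sq_eq_neg_one_iff.1 ⟨z₁ / z₂, ?_⟩)
    field_simp
    linear_combination -h

/-- The normaliser of a group of symplectic type is maximal in `SU_4(p)`, `p ≡ 3 (mod 4)`. -/
theorem sympType_maximal_four (q : ℕ) (hF : Fintype.card F = q ^ 2) (p : ℕ) (R : Subgroup (GL (Fin 4) F))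
    (hp : p.Prime) (hqp : q = p) (hp4 : p % 4 = 3) (hs : IsSymplecticTypeGroup 2 R)
    (hirr : ActsAbsolutelyIrreducibly (matrixSet R)) (hRU : R ≤ Cfsg.GU 4 F q) (h64 : Nat.card R = 64)
    (hz : Nat.card (Subgroup.center R) = 4) :
    IsMaximalIn (Cfsg.GU 4 F q ⊓ specialLinear (Fin 4) F)
      (subgroupNormalizer R ⊓ (Cfsg.GU 4 F q ⊓ specialLinear (Fin 4) F)) := by
  classical
  subst hqp
  haveI : Fact q.Prime := ⟨hp⟩
  have hq2 : q ≠ 2 := by omega
  haveI hchar : CharP F q := by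
    obtain ⟨r, hr⟩ := CharP.exists F
    haveI := hr
    obtain ⟨n, hrp, hn⟩ := FiniteField.card F r
    have : r = q := (Nat.prime_dvd_prime_iff_eq hrp hp).1
      (hrp.dvd_of_dvd_pow (n := 2) (by rw [← hF, hn]; exact dvd_pow_self r n.ne_zero))
    exact this ▸ hr
  have h2 : (2 : F) ≠ 0 := Ring.two_ne_zero (by rwa [ringChar.eq F q])
  have h20 : (2 : ZMod q) ≠ 0 := Ring.two_ne_zero (by rwa [ZMod.ringChar_zmod_n])
  have hP : Pauli R := Pauli.of_sympType (Fintype.card_fin 4) h2 hs hirr (Or.inl ⟨h64, hz⟩)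
  have hle : R ≤ Cfsg.GU 4 F q ⊓ specialLinear (Fin 4) F := le_inf hRU (SlFour.Sympl.le_SL hP hz)
  obtain ⟨ρ, hrange, hker⟩ := exists_rho (F := ZMod q) (K := F) (ZMod.card q) hF h20 0 1
    (neg_one_not_square hp4)
  obtain ⟨phi, hphi⟩ : ∃ phi, phi = ρ.comp (toSU q) := ⟨_, rfl⟩
  have C : FourCover.Cover phi := by
    refine ⟨?_, fun g => ?_⟩
    · rw [hphi, MonoidHom.range_comp, MonoidHom.range_eq_top.2 (toSU_surjective q), ← MonoidHom.range_eq_map,
        hrange]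
    · rw [hphi, MonoidHom.comp_apply, hker]
      constructor <;> rintro (h | h)
      · exact Or.inl (Units.ext h)
      · exact Or.inr (Units.ext h)
      · exact Or.inl (by show ((g : GL (Fin 4) F) : Matrix (Fin 4) (Fin 4) F) = 1; rw [h, Units.val_one])
      · exact Or.inr (by show ((g : GL (Fin 4) F) : Matrix (Fin 4) (Fin 4) F) = -1; rw [h, Units.val_neg, Units.val_one])
  exact C.sympType_maximal (by rw [ZMod.card]; exact hp) h20 (by simp)
    (qfMinus_sep (F := ZMod q) 2 (neg_one_not_square hp4)) hP h64 hle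

end CfsgLib.MaxSub.SuFour
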