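import Cfsg.Agent.Lib.MaxSub.UExtRoot
import Mathlib.FieldTheory.Finite.Basic
import Mathlib.RingTheory.Norm.Basic

/-!
Two-dimensional Hermitian spaces over the extension: all isotropic vectors are full centres.

The special unitary group of the plane has several orbits on isotropic vectors, one for each class
of scalars modulo the fixed field. A twist by a determinant of norm one gives an anisotropic full
centre; differences with it make the set of full classes invariant under more than half of all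
scalars.
-/

set_option autoImplicit false
set_option linter.unusedSectionVars false
set_option linter.unusedVariables false

namespace CfsgLib.MaxSub.UExt

variable {F K V : Type*} [Field F] [Field K] [Algebra F K] [AddCommGroup V] [Module K V]
  [Module F V] [IsScalarTower F K V]

namespace Ctx

variable [Finite F] [Finite K] [Module.Finite K V] [Module.Finite F K]
  {φ : V → V → K} {J : K ≃+* K} {σ : F ≃+* F} {τ : K →ₗ[F] F} {M : Subgroup (V ≃ₗ[F] V)}

theorem exists_fixed_decomp (C : Ctx φ J σ τ M) {ξ : F} (hξ : σ ξ ≠ ξ) (x : K) :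
    ∃ a b : K, J a = a ∧ J b = b ∧ x = a + ξ • b := by
  have hd : ξ - σ ξ ≠ 0 := sub_ne_zero.2 (Ne.symm hξ)
  obtain ⟨b, hb⟩ : ∃ b, b = (ξ - σ ξ)⁻¹ • (x - J x) := ⟨_, rfl⟩
  have hJb : J b = b := by
    rw [hb, C.J_smul, map_sub, C.invol, map_inv₀, map_sub, C.sigma_invol,
      show σ ξ - ξ = -(ξ - σ ξ) by ring, inv_neg, neg_smul, ← smul_neg, neg_sub]
  refine ⟨x - ξ • b, b, ?_, hJb, by rw [sub_add_cancel]⟩
  rw [map_sub, C.J_smul, hJb]
  have e : (ξ - σ ξ) • b = x - J x := by rw [hb, smul_inv_smul₀ hd]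
  linear_combination (norm := module) e

theorem card_fixed (C : Ctx φ J σ τ M) :
    Nat.card {x : K | J x = x} * Nat.card {x : K | J x = x} = Nat.card K := by
  obtain ⟨ξ, hξ⟩ := C.exists_ne_fixed
  rw [← Nat.card_prod]
  refine Nat.card_congr (Equiv.ofBijective (fun p => (p.1 : K) + ξ • (p.2 : K)) ⟨?_, ?_⟩)
  · rintro ⟨⟨a, ha⟩, ⟨b, hb⟩⟩ ⟨⟨a', ha'⟩, ⟨b', hb'⟩⟩ h
    dsimp only at h
    have ha : J a = a := ha
    have hb : J b = b := hb
    have ha' : J a' = a' := ha'
    have hb' : J b' = b' := hb'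
    have h' := congrArg J h
    rw [map_add, map_add, C.J_smul, C.J_smul, ha, hb, ha', hb'] at h'
    have hbb : b = b' := by
      refine smul_right_injective K (sub_ne_zero.2 (Ne.symm hξ)) ?_
      show (ξ - σ ξ) • b = (ξ - σ ξ) • b'
      linear_combination (norm := module) h - h'
    subst hbb
    simp only [add_left_inj] at h
    subst h
    rfl
  · intro x
    obtain ⟨a, b, ha, hb, rfl⟩ := C.exists_fixed_decomp hξ x
    exact ⟨⟨⟨a, ha⟩, ⟨b, hb⟩⟩, rfl⟩

/-- a scalar with a non-scalar twist of norm one -/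
theorem exists_twist (C : Ctx φ J σ τ M)
    (hr : 5 ≤ Module.finrank F K ∨ (Module.finrank F K = 3 ∧ 9 ≤ Nat.card F)) :
    ∃ a : K, a ≠ 0 ∧ Algebra.norm F (a / J a) = 1 ∧ ∀ t : F, algebraMap F K t ≠ a / J a := by
  classical
  haveI : Fintype F := Fintype.ofFinite F
  haveI : Fintype K := Fintype.ofFinite K
  have hQ : 1 < Fintype.card F := Fintype.one_lt_card
  obtain ⟨Q, hQd⟩ : ∃ Q, Q = Fintype.card F := ⟨_, rfl⟩
  obtain ⟨e₀, he0, heK, het⟩ : ∃ e, 0 < e ∧ (Q - 1) * e * ((Q - 1) * e) < Fintype.card K ∧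
      ∀ t : F, t ≠ 0 → t ^ Module.finrank F K = 1 → t ^ e = 1 := by
    rw [Module.card_eq_pow_finrank (K := F) (V := K), ← hQd]
    rcases hr with hr | ⟨hr, hQ9⟩
    · refine ⟨Q - 1, by omega, ?_, fun t ht _ => by rw [hQd]; exact FiniteField.pow_card_sub_one_eq_one t ht⟩
      have h4 : Q ^ 4 < Q ^ Module.finrank F K := Nat.pow_lt_pow_right (by omega) (by omega)
      refine lt_of_le_of_lt ?_ h4
      rw [show Q ^ 4 = Q * Q * (Q * Q) by ring]
      gcongr <;> omega
    · rw [Nat.card_eq_fintype_card, ← hQd] at hQ9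
      refine ⟨3, by omega, ?_, fun t _ ht => by rwa [hr] at ht⟩
      rw [hr]
      obtain ⟨P, rfl⟩ : ∃ P, Q = P + 1 := ⟨Q - 1, by omega⟩
      rw [Nat.add_sub_cancel]
      nlinarith
  obtain ⟨m, hm⟩ : ∃ m, m = (Q - 1) * e₀ := ⟨_, rfl⟩
  have hm0 : 0 < m := by rw [hm]; exact Nat.mul_pos (by omega) he0
  obtain ⟨g, hg0, hg⟩ : ∃ g : K, g ≠ 0 ∧ (g / J g) ^ m ≠ 1 := by
    by_contra hall
    simp only [not_exists, not_and, not_not] at hall
    have hmem : ∀ x ∈ (Finset.univ : Finset K),
        x ^ m ∈ (Finset.univ.filter fun y : K => J y = y) := by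
      intro x _
      rw [Finset.mem_filter]
      refine ⟨Finset.mem_univ _, ?_⟩
      rcases eq_or_ne x 0 with rfl | hx
      · simp [zero_pow hm0.ne']
      have h1 := hall x hx
      rw [div_pow, div_eq_one_iff_eq (pow_ne_zero _ (J.map_ne_zero_iff.2 hx))] at h1
      rw [map_pow]; exact h1.symm
    have h := Finset.card_le_mul_card_image_of_maps_to hmem m fun y _ => by
      refine le_trans (Finset.card_le_card fun x hx => ?_) (le_trans
        (Multiset.toFinset_card_le (Polynomial.nthRoots m y))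
        (Polynomial.card_nthRoots m y))
      rw [Finset.mem_filter] at hx
      rw [Multiset.mem_toFinset, Polynomial.mem_nthRoots hm0]
      exact hx.2
    have hA : (Finset.univ.filter fun y : K => J y = y).card = Nat.card {x : K | J x = x} := by
      rw [Nat.card_eq_fintype_card, Fintype.card_subtype]
      rfl
    rw [Finset.card_univ, hA] at h
    have hsq := C.card_fixed
    rw [Nat.card_eq_fintype_card (α := K)] at hsq
    have h1 : Fintype.card K * Fintype.card K ≤ m * m * Fintype.card K :=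
      calc Fintype.card K * Fintype.card K
          ≤ (m * Nat.card {x : K | J x = x}) * (m * Nat.card {x : K | J x = x}) :=
            Nat.mul_le_mul h h
        _ = m * m * (Nat.card {x : K | J x = x} * Nat.card {x : K | J x = x}) := by ring
        _ = _ := by rw [hsq]
    have h2 : Fintype.card K ≤ m * m := Nat.le_of_mul_le_mul_right h1 Fintype.card_pos
    rw [← hm] at heK
    omega
  obtain ⟨η, hη⟩ : ∃ η, η = g / J g := ⟨_, rfl⟩
  have hJg : J g ≠ 0 := J.map_ne_zero_iff.2 hg0
  have hη0 : η ≠ 0 := by rw [hη]; exact div_ne_zero hg0 hJg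
  have hdiv : g / g ^ Q / J (g / g ^ Q) = η / η ^ Q := by
    rw [hη, map_div₀, map_pow, div_pow]
    field_simp
  have hnorm : ∀ x : K, Algebra.norm F (x ^ Q) = Algebra.norm F x := fun x => by
    have := Algebra.norm_eq_of_algEquiv (FiniteField.frobeniusAlgEquivOfAlgebraic F K) x
    rwa [FiniteField.coe_frobeniusAlgEquivOfAlgebraic, ← hQd] at this
  refine ⟨g / g ^ Q, div_ne_zero hg0 (pow_ne_zero _ hg0), ?_, fun t ht => hg ?_⟩
  · have e : η = η / η ^ Q * η ^ Q := (div_mul_cancel₀ _ (pow_ne_zero _ hη0)).symm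
    have h1 := congrArg (Algebra.norm F) e
    rw [map_mul, hnorm] at h1
    rw [hdiv]
    exact (mul_eq_right₀ (Algebra.norm_ne_zero_iff.2 hη0)).1 h1.symm
  · have ht0 : t ≠ 0 := by
      rintro rfl
      rw [map_zero, hdiv] at ht
      exact div_ne_zero hη0 (pow_ne_zero _ hη0) ht.symm
    have hN : Algebra.norm F (η / η ^ Q) = 1 := by
      have e : η = η / η ^ Q * η ^ Q := (div_mul_cancel₀ _ (pow_ne_zero _ hη0)).symm
      have h1 := congrArg (Algebra.norm F) e
      rw [map_mul, hnorm] at h1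
      exact (mul_eq_right₀ (Algebra.norm_ne_zero_iff.2 hη0)).1 h1.symm
    rw [← hdiv, ← ht, Algebra.norm_algebraMap] at hN
    have h1 : (η / η ^ Q) ^ e₀ = 1 := by
      rw [← hdiv, ← ht, ← map_pow, het t ht0 hN, map_one]
    rw [div_pow, div_eq_one_iff_eq (pow_ne_zero _ (pow_ne_zero _ hη0)), ← pow_mul] at h1
    rw [← hη, hm]
    have e : Q * e₀ = (Q - 1) * e₀ + e₀ := by
      conv_lhs => rw [show Q = Q - 1 + 1 by omega, Nat.add_mul, one_mul]
    rw [e, pow_add] at h1
    exact (mul_eq_right₀ (pow_ne_zero _ hη0)).1 h1.symm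

/-- coordinates in a hyperbolic pair -/
theorem pair_eq (C : Ctx φ J σ τ M) (h2 : Module.finrank K V = 2) {e f : V} (he : φ e e = 0)
    (hf : φ f f = 0) (hef : φ e f = 1) (x : V) : x = φ x f • e + φ x e • f := by
  have hfe : φ f e = 1 := by rw [C.herm, hef, map_one]
  have hli : LinearIndependent K ![e, f] := by
    rw [LinearIndependent.pair_iff]
    intro s t hst
    have h1 := congrArg (φ · f) hst
    have h3 := congrArg (φ · e) hst
    simp only [C.add_left, C.smul_left, C.zero_left, he, hf, hef, hfe, mul_one, mul_zero, add_zero,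
      zero_add] at h1 h3
    exact ⟨h1, h3⟩
  have htop : Submodule.span K (Set.range ![e, f]) = ⊤ :=
    hli.span_eq_top_of_card_eq_finrank (by rw [Fintype.card_fin, h2])
  have hx : x ∈ Submodule.span K (Set.range ![e, f]) := by rw [htop]; trivial
  rw [Matrix.range_cons, Matrix.range_cons, Matrix.range_empty, Set.union_empty,
    Set.singleton_union, Submodule.mem_span_pair] at hx
  obtain ⟨s, t, rfl⟩ := hx
  simp only [C.add_left, C.smul_left, he, hf, hef, hfe, mul_one, mul_zero, add_zero, zero_add]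

/-- diagonal elements -/
theorem exists_diag (C : Ctx φ J σ τ M) (h2 : Module.finrank K V = 2) {e f : V} (he : φ e e = 0)
    (hf : φ f f = 0) (hef : φ e f = 1) {a : K} (ha : a ≠ 0)
    (hN : Algebra.norm F (a / J a) = 1) :
    ∃ g : V ≃ₗ[K] V, g.restrictScalars F ∈ M ∧ g e = a • e ∧ g f = (J a)⁻¹ • f := by
  have hfe : φ f e = 1 := by rw [C.herm, hef, map_one]
  have hJa : J a ≠ 0 := J.map_ne_zero_iff.2 ha
  let L : V →ₗ[K] V := (C.lin f).smulRight (a • e) + (C.lin e).smulRight ((J a)⁻¹ • f)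
  have hL : ∀ x, L x = φ x f • a • e + φ x e • (J a)⁻¹ • f := fun x => rfl
  have hiso : ∀ x y, φ (L x) (L y) = φ x y := by
    intro x y
    conv_rhs => rw [C.pair_eq h2 he hf hef x, C.pair_eq h2 he hf hef y]
    simp only [hL, C.add_left, C.add_right, C.smul_left, C.smul_right, he, hf, hef, hfe, map_inv₀,
      C.invol]
    field_simp
    ring
  have hinj : Function.Injective L := fun x y h => by
    rw [← sub_eq_zero]
    refine C.nondeg _ fun w => ?_
    rw [← hiso, map_sub, h, sub_self, C.zero_left]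
  have hli : LinearIndependent K ![e, f] := by
    rw [LinearIndependent.pair_iff]
    intro s t hst
    have h1 := congrArg (φ · f) hst
    have h3 := congrArg (φ · e) hst
    simp only [C.add_left, C.smul_left, C.zero_left, he, hf, hef, hfe, mul_one, mul_zero, add_zero,
      zero_add] at h1 h3
    exact ⟨h1, h3⟩
  let B : Module.Basis (Fin 2) K V := basisOfLinearIndependentOfCardEqFinrank hli
    (by rw [Fintype.card_fin, h2])
  have hB : ∀ i, B i = ![e, f] i := fun i => by simp [B]
  have hLe : L e = a • e := by rw [hL, hef, he, one_smul, zero_smul, add_zero]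
  have hLf : L f = (J a)⁻¹ • f := by rw [hL, hf, hfe, one_smul, zero_smul, zero_add]
  let g : V ≃ₗ[K] V :=
    LinearEquiv.ofBijective L ⟨hinj, LinearMap.injective_iff_surjective.1 hinj⟩
  refine ⟨g, C.mem g hiso ?_, hLe, hLf⟩
  have hdet : LinearMap.det (g : V →ₗ[K] V) = a / J a := by
    have hd : LinearMap.det L = a / J a := by
      rw [← LinearMap.det_toMatrix B]
      have hM : LinearMap.toMatrix B B L = Matrix.diagonal ![a, (J a)⁻¹] := by
        refine Matrix.ext fun i j => ?_
        rw [LinearMap.toMatrix_apply]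
        have : L (B j) = ![a, (J a)⁻¹] j • B j := by
          rw [hB]
          fin_cases j
          · simpa using hLe
          · simpa using hLf
        rw [this, map_smul, B.repr_self, Finsupp.smul_single, smul_eq_mul, mul_one,
          Finsupp.single_apply, Matrix.diagonal_apply]
        split_ifs with h1 h3 h3 <;> first | rfl | (subst h1; rfl) | exact absurd h1.symm h3 |
          exact absurd h3.symm h1
      rw [hM, Matrix.det_diagonal, Fin.prod_univ_two]
      simp [div_eq_mul_inv]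
    exact hd
  rw [hdet, hN]

theorem fullU_scale (C : Ctx φ J σ τ M) {u : V} (hu : φ u u = 0) (h : FullU φ σ τ M u) {l : K}
    (hl : J l = l) (hl0 : l ≠ 0) : FullU φ σ τ M (l • u) := by
  rcases eq_or_ne u 0 with rfl | hu0
  · rwa [smul_zero]
  obtain ⟨g, hg, hgu⟩ := C.exists_scale hu hu0 hl hl0
  have := C.fullU_move h hg
  rwa [LinearEquiv.restrictScalars_apply, hgu] at this

/-- a full anisotropic centre moves to all vectors `e + b f` of the same norm -/
theorem fullU_norm (C : Ctx φ J σ τ M) (h2 : Module.finrank K V = 2) {e f : V} (he : φ e e = 0)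
    (hf : φ f f = 0) (hef : φ e f = 1) {z : V} (hz : FullU φ σ τ M z) (hz0 : φ z z ≠ 0) {b : K}
    (hb : b + J b = φ z z) : FullU φ σ τ M (e + b • f) := by
  have hfe : φ f e = 1 := by rw [C.herm, hef, map_one]
  have he0 : e ≠ 0 := fun h => zero_ne_one (α := K) (by rw [← hef, h, C.zero_left])
  obtain ⟨c₀, hc₀, hc⟩ := C.exists_skew
  obtain ⟨c, hcd⟩ : ∃ c, c = algebraMap F K c₀ := ⟨_, rfl⟩
  have hJc : J c = -c := by rw [hcd, C.J_algebraMap, eq_neg_of_add_eq_zero_right hc, map_neg]
  have hc0 : c ≠ 0 := by rw [hcd]; exact (map_ne_zero _).2 hc₀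
  obtain ⟨N, hN⟩ : ∃ N, N = φ z z := ⟨_, rfl⟩
  have hnorm : ∀ α β : K, φ (α • e + β • f) (α • e + β • f) = α * J β + β * J α := fun α β => by
    simp only [C.add_left, C.add_right, C.smul_left, C.smul_right, he, hf, hef, hfe]
    ring
  have key : ∀ α β : K, FullU φ σ τ M (α • e + β • f) → α * J β + β * J α = N →
      β + J β ≠ 0 → FullU φ σ τ M (e + b • f) := by
    intro α β hfull hn hp
    rw [← hN] at hb hz0
    have hJN : J N = N := by rw [hN, C.self_fixed]
    obtain ⟨p, hpd⟩ : ∃ p, p = (β + J β) / N := ⟨_, rfl⟩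
    obtain ⟨q, hqd⟩ : ∃ q, q = (J α - α) / N := ⟨_, rfl⟩
    have hJp : J p = p := by rw [hpd, map_div₀, map_add, C.invol, hJN, add_comm]
    have hp0 : p ≠ 0 := by rw [hpd]; exact div_ne_zero hp hz0
    have hJq : J q = -q := by rw [hqd, map_div₀, map_sub, C.invol, hJN, ← neg_div, neg_sub]
    have hpq : p * α + q * β = 1 := by
      rw [hpd, hqd]
      field_simp
      linear_combination hn
    obtain ⟨g, hg, hge⟩ := C.exists_scale he he0 hJp hp0
    have hiso := C.phi_iso hg
    have hgfe : φ (g f) e = p⁻¹ := by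
      have h1 := hiso f e
      rw [hge, C.smul_right, hJp, hfe] at h1
      exact eq_inv_of_mul_eq_one_right h1
    have hgff : φ (g f) (g f) = 0 := by rw [hiso, hf]
    obtain ⟨a₀, ha₀⟩ : ∃ a₀, a₀ = φ (g f) f := ⟨_, rfl⟩
    have hgf : g f = a₀ • e + p⁻¹ • f := by
      rw [ha₀, ← hgfe]; exact C.pair_eq h2 he hf hef _
    have hJa₀ : J a₀ = -a₀ := by
      rw [hgf, hnorm, map_inv₀, hJp, mul_comm a₀, ← mul_add, mul_eq_zero] at hgff
      exact eq_neg_of_add_eq_zero_right (hgff.resolve_left (inv_ne_zero hp0))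
    have h1 := C.fullU_move hfull hg
    rw [LinearEquiv.restrictScalars_apply, map_add, map_smul, map_smul, hge, hgf] at h1
    obtain ⟨t, ht, htx⟩ := C.exists_T he (a := (q - a₀) * p) (by
      rw [map_mul, map_sub, hJq, hJa₀, hJp]; ring)
    have h3 := C.fullU_move h1 ht
    rw [LinearEquiv.restrictScalars_apply, htx] at h3
    obtain ⟨b', hb'⟩ : ∃ b', b' = β * p⁻¹ := ⟨_, rfl⟩
    have e3 : φ (α • p • e + β • (a₀ • e + p⁻¹ • f)) e = β * p⁻¹ := by
      simp only [C.add_left, C.smul_left, he, hfe]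
      ring
    rw [e3, show α • p • e + β • (a₀ • e + p⁻¹ • f) + ((q - a₀) * p * (β * p⁻¹)) • e =
        (p * α + q * β) • e + b' • f by
      rw [hb', show (q - a₀) * p * (β * p⁻¹) = (q - a₀) * β by field_simp]
      module, hpq, one_smul] at h3
    have hb'N : b' + J b' = N := by
      have hpne := hp
      rw [hb', hpd, map_mul, map_inv₀, ← hpd, hJp, ← add_mul, hpd, inv_div, mul_div_assoc',
        mul_div_cancel_left₀ _ hpne]
    obtain ⟨t', ht', ht'x⟩ := C.exists_T hf (a := b - b') (by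
      rw [map_sub]; linear_combination hb - hb'N)
    have h4 := C.fullU_move h3 ht'
    rw [LinearEquiv.restrictScalars_apply, ht'x, C.add_left, C.smul_left, hef, hf, mul_zero,
      add_zero, mul_one, add_assoc, ← add_smul, add_sub_cancel] at h4
    exact h4
  obtain ⟨α, hα⟩ : ∃ α, α = φ z f := ⟨_, rfl⟩
  obtain ⟨β, hβ⟩ : ∃ β, β = φ z e := ⟨_, rfl⟩
  have hzd : z = α • e + β • f := by rw [hα, hβ]; exact C.pair_eq h2 he hf hef z
  have hn : α * J β + β * J α = N := by rw [← hnorm, ← hzd, hN]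
  rw [hzd] at hz
  by_cases hp : β + J β = 0
  swap
  · exact key α β hz hn hp
  have hJβ : J β = -β := eq_neg_of_add_eq_zero_right hp
  obtain ⟨t, ht, htx⟩ := C.exists_T hf (a := c) (by rw [hJc, add_neg_cancel])
  have h1 := C.fullU_move hz ht
  rw [LinearEquiv.restrictScalars_apply, htx, C.add_left, C.smul_left, C.smul_left, hef, hf,
    mul_one, mul_zero, add_zero, add_assoc, ← add_smul] at h1
  refine key α (β + c * α) h1 ?_ fun h => hz0 ?_
  · rw [map_add, map_mul, hJc]; linear_combination hn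
  · rw [map_add, map_mul, hJc, hJβ] at h
    have : J α = α := by
      have h' : c * (α - J α) = 0 := by linear_combination h
      exact (sub_eq_zero.1 ((mul_eq_zero.1 h').resolve_left hc0)).symm
    rw [← hN, ← hn, this, hJβ]
    ring

/-- in a plane over an extension of degree at least five, isotropic vectors are full centres -/
theorem fullU_two (C : Ctx φ J σ τ M) (h2 : Module.finrank K V = 2)
    (hr : 5 ≤ Module.finrank F K ∨ (Module.finrank F K = 3 ∧ 9 ≤ Nat.card F)) (hg : ∃ g ∈ M, ¬ KSemi K g) (u : V) (hu : φ u u = 0) :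
    FullU φ σ τ M u := by
  classical
  haveI : Fintype F := Fintype.ofFinite F
  obtain ⟨v, hv0, hv, hI⟩ := C.exists_line hg
  obtain ⟨w, hw0, hww, hW⟩ := C.exists_fullU hv0 hv hI
  rcases eq_or_ne u 0 with rfl | hu0
  · exact fun c _ => ⟨1, one_mem M, fun z => by simp⟩
  obtain ⟨c₀, hc₀, hc⟩ := C.exists_skew
  obtain ⟨c, hcd⟩ : ∃ c, c = algebraMap F K c₀ := ⟨_, rfl⟩
  have hJc : J c = -c := by rw [hcd, C.J_algebraMap, eq_neg_of_add_eq_zero_right hc, map_neg]
  have hc0 : c ≠ 0 := by rw [hcd]; exact (map_ne_zero _).2 hc₀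
  have flip : ∀ {e f : V}, φ e e = 0 → φ f f = 0 → φ e f = 1 →
      ∃ g : V ≃ₗ[K] V, g.restrictScalars F ∈ M ∧ g e = c • f := by
    intro e f he hf hef
    exact C.exists_step he (by rw [C.smul_left, C.smul_right, hf, mul_zero, mul_zero])
      (by rw [C.smul_right, hef, mul_one, hJc]; exact neg_ne_zero.2 hc0)
      (by rw [C.smul_right, hef, mul_one, C.invol, hJc, neg_add_cancel])
  -- a full anisotropic centre
  obtain ⟨f₀, hf₀, hwf⟩ := C.exists_partner hww hw0
  obtain ⟨a, ha, haN, hat⟩ := C.exists_twist hr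
  obtain ⟨h, hh, -, hhf⟩ := C.exists_diag h2 hww hf₀ hwf ha haN
  obtain ⟨k, hk⟩ : ∃ k, k = c / J a := ⟨_, rfl⟩
  have hJa : J a ≠ 0 := J.map_ne_zero_iff.2 ha
  have hk0 : k ≠ 0 := by rw [hk]; exact div_ne_zero hc0 hJa
  have hJk : J k / k = -(J a / a) := by
    rw [hk, map_div₀, C.invol, hJc]; field_simp
  have hkJ : k + J k ≠ 0 := fun e => hat 1 (by
    have : J k = -k := eq_neg_of_add_eq_zero_right e
    rw [this, neg_div, div_self hk0, neg_inj, eq_comm, div_eq_one_iff_eq ha] at hJk
    rw [map_one, hJk, div_self ha])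
  obtain ⟨β, hβJ, hβ0, hβt⟩ : ∃ β : K, J β = β ∧ τ ((k + J k) * β) = 0 ∧ τ (k * β) ≠ 0 := by
    by_contra hall
    simp only [not_exists, not_and, not_not] at hall
    obtain ⟨ξ, hξ⟩ := C.exists_ne_fixed
    have hJs : J (k + J k) = k + J k := by rw [map_add, C.invol, add_comm]
    have hW : ∀ x, τ ((k + J k) * x) = 0 → τ (k * x) = 0 := by
      intro x hx
      obtain ⟨p, q, hp, hq, rfl⟩ := C.exists_fixed_decomp hξ x
      have hx' := congrArg σ hx
      rw [← C.tau_J, map_mul, hJs, map_add J, C.J_smul, hp, hq, map_zero] at hx'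
      rw [mul_add, mul_smul_comm, map_add, map_smul, smul_eq_mul] at hx hx'
      have hq0 : τ ((k + J k) * q) = 0 :=
        (mul_eq_zero.1 (show (ξ - σ ξ) * τ ((k + J k) * q) = 0 by
          linear_combination hx - hx')).resolve_left (sub_ne_zero.2 (Ne.symm hξ))
      have hp0 : τ ((k + J k) * p) = 0 := by linear_combination hx - ξ * hq0
      rw [mul_add, mul_smul_comm, map_add, map_smul, hall p hp hp0, hall q hq hq0, smul_zero,
        add_zero]
    obtain ⟨x₀, hx₀⟩ : ∃ x₀, τ ((k + J k) * x₀) ≠ 0 := by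
      by_contra h0
      simp only [not_exists, not_not] at h0
      exact hkJ (C.tau_inj fun s => by rw [mul_zero, map_zero, mul_comm, h0])
    obtain ⟨μ, hμ⟩ : ∃ μ, μ = τ (k * x₀) / τ ((k + J k) * x₀) := ⟨_, rfl⟩
    have hkμ : k = μ • (k + J k) := C.tau_inj fun s => by
      have h1 := hW (s - (τ ((k + J k) * s) / τ ((k + J k) * x₀)) • x₀) (by
        rw [mul_sub, mul_smul_comm, map_sub, map_smul, smul_eq_mul, div_mul_cancel₀ _ hx₀,
          sub_self])
      rw [mul_sub, mul_smul_comm, map_sub, map_smul, smul_eq_mul, sub_eq_zero] at h1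
      rw [mul_smul_comm, map_smul, smul_eq_mul, mul_comm s, h1, hμ, mul_comm s]
      ring
    have hμ0 : μ ≠ 0 := fun e => hk0 (by rw [hkμ, e, zero_smul])
    have hJk' : J k = σ μ • (k + J k) := by
      conv_lhs => rw [hkμ, C.J_smul, hJs]
    refine hat (-(μ / σ μ)) ?_
    have h1 : J k / k = algebraMap F K (σ μ / μ) := by
      rw [map_div₀]
      conv_lhs => rw [hJk', Algebra.smul_def]; arg 2; rw [hkμ, Algebra.smul_def]
      rw [mul_div_mul_right _ _ hkJ]
    rw [hJk, neg_eq_iff_eq_neg] at h1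
    rw [map_neg, map_div₀, ← inv_div (J a), h1, map_div₀, inv_neg, inv_div]
  obtain ⟨g₀, hg₀, hg₀w⟩ := flip hww hf₀ hwf
  have hY : FullU φ σ τ M ((β * k) • f₀) := by
    have h1 := C.fullU_move hW hg₀
    rw [LinearEquiv.restrictScalars_apply, hg₀w] at h1
    have h3 := C.fullU_move (C.fullU_scale (by
      rw [C.smul_left, C.smul_right, hf₀, mul_zero, mul_zero]) h1 hβJ fun e => hβt (by
        rw [e, mul_zero, map_zero])) hh
    rwa [LinearEquiv.restrictScalars_apply, map_smul, map_smul, hhf, smul_smul, smul_smul,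
      show β * c * (J a)⁻¹ = β * k by rw [hk, div_eq_mul_inv, mul_assoc]] at h3
  obtain ⟨z, hzd⟩ : ∃ z, z = w + (β * k) • f₀ := ⟨_, rfl⟩
  have hzN : φ z z = β * (k + J k) := by
    simp only [hzd, C.add_left, C.add_right, C.smul_left, C.smul_right, hww, hf₀, hwf,
      C.herm f₀ w, map_one, map_mul, hβJ]
    ring
  have hZ : FullU φ σ τ M z := by
    rw [hzd]
    refine C.fullU_add (by rw [hww, map_zero])
      (by rw [C.smul_left, C.smul_right, hf₀, mul_zero, mul_zero, map_zero]) ?_ ?_ hW hY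
    · rw [C.smul_left, C.herm f₀ w, hwf, map_one, mul_one, mul_comm]; exact hβt
    · rw [← hzd, hzN, mul_comm]; exact hβ0
  have hz0 : φ z z ≠ 0 := by
    rw [hzN]
    exact mul_ne_zero (fun e => hβt (by rw [e, mul_zero, map_zero])) hkJ
  have hzτ : τ (φ z z) = 0 := by rw [hzN, mul_comm]; exact hβ0
  -- the classes on a line
  obtain ⟨e, hee, hue⟩ := C.exists_partner hu hu0
  have heu : φ e u = 1 := by rw [C.herm, hue, map_one]
  let H : Set K := {m | m ≠ 0 ∧ FullU φ σ τ M (m • u)}
  obtain ⟨m₀, hm₀⟩ : ∃ m₀, m₀ ∈ H := by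
    by_cases hwu : φ w u = 0
    · have hd := C.pair_eq h2 hee hu heu w
      rw [hwu, zero_smul, zero_add] at hd
      exact ⟨φ w e, fun h0 => hw0 (by rw [hd, h0, zero_smul]), by rwa [← hd]⟩
    · obtain ⟨g, hg, hgw⟩ := C.exists_step (v := J (c / φ w u) • u) hww
        (by rw [C.smul_left, C.smul_right, hu, mul_zero, mul_zero])
        (by rw [C.smul_right, C.invol, div_mul_cancel₀ _ hwu]; exact hc0)
        (by rw [C.smul_right, C.invol, div_mul_cancel₀ _ hwu, hJc, add_neg_cancel])
      have h1 := C.fullU_move hW hg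
      rw [LinearEquiv.restrictScalars_apply, hgw] at h1
      exact ⟨_, J.map_ne_zero_iff.2 (div_ne_zero hc0 hwu), h1⟩
  let B : Set K := {b | b + J b = φ z z ∧ τ b ≠ 0}
  have hBJ : ∀ b ∈ B, J b ∈ B := fun b ⟨h1, h3⟩ =>
    ⟨by rw [C.invol, add_comm]; exact h1, fun h => h3 (σ.injective (by rw [← C.tau_J, h, map_zero]))⟩
  have hBne : ∀ b ∈ B, b ≠ 0 := fun b hb h0 => hb.2 (by rw [h0, map_zero])
  have step : ∀ b ∈ B, ∀ m ∈ H, c * J b / J m ∈ H := by
    rintro b ⟨hb, hbτ⟩ m ⟨hm0, hm⟩
    have hb0 : b ≠ 0 := fun h0 => hbτ (by rw [h0, map_zero])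
    have hJm : J m ≠ 0 := J.map_ne_zero_iff.2 hm0
    obtain ⟨μ, hμ⟩ : ∃ μ, μ = J b / J m := ⟨_, rfl⟩
    have hμe : φ (μ • e) (μ • e) = 0 := by rw [C.smul_left, C.smul_right, hee, mul_zero, mul_zero]
    have hνu : φ ((m / b) • u) ((m / b) • u) = 0 := by
      rw [C.smul_left, C.smul_right, hu, mul_zero, mul_zero]
    have hμν : φ (μ • e) ((m / b) • u) = 1 := by
      have hJb : J b ≠ 0 := J.map_ne_zero_iff.2 hb0
      rw [C.smul_left, C.smul_right, heu, hμ, map_div₀]
      field_simp
    have h1 := C.fullU_norm h2 hμe hνu hμν hZ hz0 hb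
    rw [smul_smul b, mul_div_cancel₀ _ hb0] at h1
    have hmu : φ (m • u) (m • u) = 0 := by rw [C.smul_left, C.smul_right, hu, mul_zero, mul_zero]
    have h3 := C.fullU_scale hmu hm (l := -1) (by rw [map_neg, map_one]) (by norm_num)
    rw [neg_one_smul] at h3
    have hy : φ (-(m • u)) (-(m • u)) = 0 := by
      rw [← neg_smul, C.smul_left, C.smul_right, hu, mul_zero, mul_zero]
    have e1 : φ (-(m • u)) (μ • e + m • u) = -b := by
      rw [← neg_smul, C.smul_left, C.add_right, C.smul_right, C.smul_right, hue, hu, hμ,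
        map_div₀, C.invol, C.invol]
      field_simp
      ring
    have hsum : φ (μ • e + m • u) (μ • e + m • u) = φ z z := by
      rw [← hb, hμ]
      simp only [C.add_left, C.add_right, C.smul_left, C.smul_right, hee, hu, heu, hue, map_div₀,
        C.invol]
      field_simp
      ring
    have h5 := C.fullU_add (x := μ • e + m • u) (y := -(m • u)) (by rw [hsum, hzτ])
      (by rw [hy, map_zero]) (by rw [e1, map_neg, neg_ne_zero]; exact hbτ)
      (by rw [add_neg_cancel_right, hμe, map_zero]) h1 h3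
    rw [add_neg_cancel_right] at h5
    obtain ⟨g, hg, hge⟩ := flip hee hu heu
    have h6 := C.fullU_move h5 hg
    rw [LinearEquiv.restrictScalars_apply, map_smul, hge, smul_smul, hμ] at h6
    refine ⟨div_ne_zero (mul_ne_zero hc0 (J.map_ne_zero_iff.2 hb0)) hJm, ?_⟩
    rwa [mul_comm, mul_div_assoc'] at h6
  -- the scalars keeping the full classes
  let G : Subgroup Kˣ :=
    { carrier := {x | ∀ m, (x : K) * m ∈ H ↔ m ∈ H}
      one_mem' := fun m => by simp
      mul_mem' := fun {x y} hx hy m => by rw [Units.val_mul, mul_assoc, hx, hy]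
      inv_mem' := fun {x} hx m => by rw [← hx, Units.mul_inv_cancel_left] }
  have hG : ∀ x : Kˣ, (∀ m ∈ H, (x : K) * m ∈ H) → x ∈ G := by
    intro x hx m
    refine ⟨fun hm => ?_, hx m⟩
    have hsurj : (fun m => (x : K) * m) '' H = H :=
      Set.eq_of_subset_of_ncard_le (Set.image_subset_iff.2 fun m hm => hx m hm)
        (Set.ncard_image_of_injective H (mul_right_injective₀ x.ne_zero)).ge (Set.toFinite _)
    rw [← hsurj] at hm
    obtain ⟨m', hm', he'⟩ := hm
    rwa [← mul_right_injective₀ x.ne_zero he']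
  have hfix : ∀ x : Kˣ, J x = x → x ∈ G := fun x hx => hG x fun m hm =>
    ⟨mul_ne_zero x.ne_zero hm.1, by
      rw [mul_smul]
      exact C.fullU_scale (by rw [C.smul_left, C.smul_right, hu, mul_zero, mul_zero]) hm.2 hx
        x.ne_zero⟩
  have hrat : ∀ b ∈ B, ∀ b' ∈ B, ∀ x : Kˣ, (x : K) = b / b' → x ∈ G := by
    intro b hb b' hb' x hx
    have h1 : -x ∈ G := by
      refine hG _ fun m hm => ?_
      have h := step _ (hBJ b hb) _ (step b' hb' m hm)
      rw [C.invol, map_div₀, map_mul, C.invol, C.invol, hJc] at h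
      rw [Units.val_neg, hx]
      have hb0 := hBne b' hb'
      have hm0 := hm.1
      convert h using 1
      field_simp
    have := G.mul_mem (hfix (-1) (by simp)) h1
    rwa [neg_one_mul, neg_neg] at this
  -- counting
  obtain ⟨b₁, hb₁⟩ := C.exists_trace (C.self_fixed z)
  let Fx : AddSubgroup K :=
    { carrier := {x | J x = x}
      add_mem' := fun {x y} (hx : J x = x) (hy : J y = y) => show J (x + y) = x + y by
        rw [map_add, hx, hy]
      zero_mem' := map_zero J
      neg_mem' := fun {x} (hx : J x = x) => show J (-x) = -x by rw [map_neg, hx] }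
  let S0 : AddSubgroup K := Fx ⊓ τ.toAddMonoidHom.ker
  obtain ⟨A, hA⟩ : ∃ A, A = Nat.card Fx := ⟨_, rfl⟩
  obtain ⟨D, hD⟩ : ∃ D, D = Nat.card S0 := ⟨_, rfl⟩
  have hA2 : A * A = Nat.card K := by rw [hA]; exact C.card_fixed
  have hDA : D ∣ A := by rw [hD, hA]; exact AddSubgroup.card_dvd_of_le inf_le_left
  have hDlt : D < A := by
    rw [hD, hA, ← SetLike.coe_sort_coe, ← SetLike.coe_sort_coe, Nat.card_coe_set_eq,
      Nat.card_coe_set_eq]
    refine Set.ncard_lt_ncard ⟨fun x hx => hx.1, fun hle => ?_⟩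
    refine C.tau (LinearMap.ext fun x => ?_)
    exact C.top_of_fixed (W := LinearMap.ker τ) (fun a ha => (hle ha).2) x
  let bb : K → K := fun x => b₁ + c₀ • x
  have hbb : ∀ x ∈ Fx, bb x + J (bb x) = φ z z := fun x (hx : J x = x) => by
    simp only [bb, map_add, C.J_smul, hx, eq_neg_of_add_eq_zero_right hc]
    linear_combination (norm := module) hb₁
  let Good : Set K := {x | J x = x ∧ bb x ∈ B}
  have hGood : A ≤ Good.ncard + D := by
    let Bad : Set K := {x | J x = x ∧ τ (bb x) = 0}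
    have hsub : (Fx : Set K) ⊆ Good ∪ Bad := fun x hx => by
      by_cases h : τ (bb x) = 0
      · exact Or.inr ⟨hx, h⟩
      · exact Or.inl ⟨hx, hbb x hx, h⟩
    have hbad : Bad.ncard ≤ D := by
      rcases Bad.eq_empty_or_nonempty with h0 | ⟨x₁, hx₁, hx₁t⟩
      · rw [h0, Set.ncard_empty]; exact Nat.zero_le _
      rw [hD, ← SetLike.coe_sort_coe, Nat.card_coe_set_eq]
      refine Set.ncard_le_ncard_of_injOn (fun x => x - x₁) ?_
        (fun _ _ _ _ h => sub_left_inj.1 h) (Set.toFinite _)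
      rintro x ⟨hx, hxt⟩
      refine ⟨show J (x - x₁) = x - x₁ by rw [map_sub, hx, hx₁], show τ (x - x₁) = 0 from ?_⟩
      simp only [bb, map_add, map_smul, smul_eq_mul] at hxt hx₁t
      refine (mul_eq_zero.1 (?_ : c₀ * τ (x - x₁) = 0)).resolve_left hc₀
      rw [map_sub]; linear_combination hxt - hx₁t
    have h1 := (Set.ncard_le_ncard hsub (Set.toFinite _)).trans (Set.ncard_union_le Good Bad)
    rw [hA, ← SetLike.coe_sort_coe, Nat.card_coe_set_eq]
    omega
  obtain ⟨x₂, hx₂⟩ : Good.Nonempty := Set.nonempty_of_ncard_ne_zero (by omega)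
  have hcount : (A - 1) * Good.ncard ≤ Nat.card G := by
    let κs : Set K := (Fx : Set K) \ {0}
    have hκ : κs.ncard = A - 1 := by
      rw [Set.ncard_sdiff_singleton_of_mem Fx.zero_mem, hA, ← SetLike.coe_sort_coe, Nat.card_coe_set_eq]
    rw [← hκ, ← Set.ncard_prod, ← Nat.card_coe_set_eq]
    have hb2 := hBne _ hx₂.2
    refine Nat.card_le_card_of_injective (fun p => (⟨Units.mk0 (p.1.1 * (bb p.1.2 / bb x₂))
      (mul_ne_zero (fun h => p.2.1.2 h) (div_ne_zero (hBne _ p.2.2.2) hb2)), ?_⟩ : G)) ?_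
    · rw [show Units.mk0 (p.1.1 * (bb p.1.2 / bb x₂)) _ =
        Units.mk0 p.1.1 (fun h => p.2.1.2 h) *
          Units.mk0 (bb p.1.2 / bb x₂) (div_ne_zero (hBne _ p.2.2.2) hb2) from Units.ext rfl]
      exact G.mul_mem (hfix _ p.2.1.1) (hrat _ p.2.2.2 _ hx₂.2 _ rfl)
    · rintro ⟨⟨κ, x⟩, ⟨hκ₁, hκ0⟩, hx, hxB⟩ ⟨⟨κ', x'⟩, ⟨hκ₁', hκ0'⟩, hx', hxB'⟩ h
      have h := congrArg (fun g : G => ((g : Kˣ) : K)) h
      simp only [Units.val_mk0] at h
      rw [← mul_div_assoc, ← mul_div_assoc, div_left_inj' hb2] at h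
      have hκJ : J κ = κ := hκ₁
      have hκJ' : J κ' = κ' := hκ₁'
      have h' := congrArg J h
      rw [map_mul, map_mul, hκJ, hκJ'] at h'
      have hs : κ * φ z z = κ' * φ z z :=
        calc κ * φ z z = κ * (bb x + J (bb x)) := by rw [hbb x hx]
          _ = κ' * (bb x' + J (bb x')) := by linear_combination h + h'
          _ = κ' * φ z z := by rw [hbb x' hx']
      have hκκ := mul_right_cancel₀ hz0 hs
      subst hκκ
      have hxx := add_left_cancel (mul_left_cancel₀ hκ0 h)
      have := smul_right_injective K hc₀ hxx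
      subst this
      rfl
  have hKu : Nat.card Kˣ = (A - 1) * (A + 1) := by
    rw [Nat.card_units, ← hA2, mul_comm (A - 1), ← Nat.sq_sub_sq, sq, one_pow]
  have hA4 : 4 ≤ A := by
    have h1 : 4 * 4 ≤ Nat.card K := by
      rw [Module.natCard_eq_pow_finrank (K := F) (V := K)]
      calc 4 * 4 ≤ 2 ^ 5 := by norm_num
        _ ≤ Nat.card F ^ Module.finrank F K := by
          rcases hr with hr | ⟨hr, hQ⟩
          · exact (Nat.pow_le_pow_left Finite.one_lt_card 5).trans (Nat.pow_le_pow_right Finite.one_lt_card.le hr)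
          · rw [hr]; exact le_trans (by norm_num) (Nat.pow_le_pow_left hQ 3)
    by_contra hlt
    have : A * A < 4 * 4 := Nat.mul_lt_mul'' (by omega) (by omega)
    omega
  have hGtop : G = ⊤ := by
    refine Subgroup.index_eq_one.1 ?_
    have hd := G.card_mul_index
    have hdpos : G.index ≠ 0 := Subgroup.index_ne_zero_of_finite
    rw [hKu] at hd
    by_contra hne
    have h1 : (A - 1) * (Good.ncard * G.index) ≤ (A - 1) * (A + 1) := by
      rw [← hd, ← mul_assoc]; exact Nat.mul_le_mul_right _ hcount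
    have h3 := Nat.le_of_mul_le_mul_left h1 (by omega)
    obtain ⟨q, hq⟩ := hDA
    have hq2 : 2 ≤ q := by
      rcases q with _ | _ | q
      · omega
      · omega
      · omega
    have hD2 : D * 2 ≤ A := by rw [hq]; exact Nat.mul_le_mul_left _ hq2
    rcases le_or_gt 3 G.index with h | h
    · have : Good.ncard * 3 ≤ Good.ncard * G.index := Nat.mul_le_mul_left _ h
      omega
    have hi : G.index = 2 := by omega
    rw [hi] at hd h3
    -- then `A` is odd and `D` is at most a third of it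
    have hodd : A % 2 = 1 := by
      rcases Nat.mod_two_eq_zero_or_one A with h | h
      · have h1 : ((A - 1) * (A + 1)) % 2 = 1 := by
          rw [Nat.mul_mod, show (A - 1) % 2 = 1 by omega, show (A + 1) % 2 = 1 by omega]
        omega
      · exact h
    have hq3 : 3 ≤ q := by
      by_contra hlt
      have : q = 2 := by omega
      rw [hq, this] at hodd
      omega
    have hD3 : D * 3 ≤ A := by rw [hq]; exact Nat.mul_le_mul_left _ hq3
    omega
  have hmem : (Units.mk0 m₀ hm₀.1)⁻¹ ∈ G := by rw [hGtop]; trivial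
  have h1 := (hmem m₀).2 hm₀
  rw [Units.val_inv_eq_inv_val, Units.val_mk0, inv_mul_cancel₀ hm₀.1] at h1
  simpa using h1.2

/-- every isotropic vector of the trace form is a full centre, also in a plane -/
theorem fullU_all_two (C : Ctx φ J σ τ M)
    (h : 3 ≤ Module.finrank K V ∨ 5 ≤ Module.finrank F K ∨ (Module.finrank F K = 3 ∧ 9 ≤ Nat.card F))
    (hg : ∃ g ∈ M, ¬ KSemi K g)
    (x : V) (hx : τ (φ x x) = 0) : FullU φ σ τ M x := by
  by_cases h3 : 3 ≤ Module.finrank K V
  · exact C.fullU_all h3 hg x hx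
  · have := C.two_le
    exact C.fullU_of_isotropic (C.fullU_two (by omega) (h.resolve_left h3) hg) x hx

end Ctx

end CfsgLib.MaxSub.UExt
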