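import Cfsg.Agent.Lib.MaxSub.ExtMain
import Cfsg.Agent.Lib.MaxSub.UExtTwo
import Cfsg.Agent.Lib.MaxSub.HermFull
import Cfsg.Agent.Lib.MaxSub.BlockMono
import Cfsg.Agent.Lib.Classical.Preserving
import Cfsg.Prelude.Def_GeometricClasses

/-!
Matrix form: the normaliser in the special unitary group of a subfield of the matrix algebra
closed under adjoints, of odd prime degree `r` with `3 * r ≤ n`, or `5 ≤ r` with `2 * r ≤ n`, is
maximal.
-/

set_option autoImplicit false
set_option linter.unusedSectionVars false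
set_option linter.style.haveILetI false

namespace CfsgLib.MaxSub.UExt

open Matrix CfsgLib.MaxSub CfsgLib.MaxSub.DecompMax
open scoped MatrixGroups
open CfsgLib.Classical (glLin glLin_apply)

variable {F : Type*} [Field F] [Fintype F] {n q r : ℕ}

/-- the facts, with the field acting on the vectors -/
theorem extension_maximal_aux {L : Type*} [Field L] [Algebra F L] [Finite L]
    [Module L (Fin n → F)] [IsScalarTower F L (Fin n → F)] (hF : Fintype.card F = q ^ 2)
    (hr : r.Prime) (hr3 : 3 ≤ r) (hk : (3 * r ≤ n ∨ (5 ≤ r ∧ 2 * r ≤ n)) ∨ (r = 3 ∧ n = 6 ∧ 3 ≤ q))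
    (K : Subalgebra F (Matrix (Fin n) (Fin n) F)) (ι : L → Matrix (Fin n) (Fin n) F)
    (hι : ∀ k, ι k ∈ K) (hιinj : Function.Injective ι) (hιsurj : ∀ a ∈ K, ∃ k, ι k = a)
    (hsmul : ∀ (k : L) (x : Fin n → F), k • x = ι k *ᵥ x)
    (hfr : Module.finrank F L = r)
    (hac : Cfsg.Geo.IsAdjointClosedFor (Cfsg.hermForm n F q) K) :
    Cfsg.Geo.IsMaximalIn (Cfsg.GU n F q ⊓ Cfsg.Geo.specialLinear (Fin n) F)
      (Cfsg.Geo.subalgebraNormalizer K ⊓ (Cfsg.GU n F q ⊓ Cfsg.Geo.specialLinear (Fin n) F)) := by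
  classical
  haveI : Module.Finite F L := Module.Finite.of_finite
  haveI : Module.Finite L (Fin n → F) := Module.Finite.of_finite
  have hf := isUnitaryForm_hermForm hF n
  -- semilinear maps are the normaliser
  have hiff : ∀ g : GL (Fin n) F,
      g ∈ Cfsg.Geo.subalgebraNormalizer K ↔ KSemi L (glLin g) := by
    intro g
    constructor
    · intro hg k
      obtain ⟨k', hk'⟩ := hιsurj _ ((hg (ι k)).mp (hι k))
      refine ⟨k', fun x => ?_⟩
      rw [glLin_apply, glLin_apply, hsmul, hsmul, mulVec_mulVec, mulVec_mulVec]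
      rw [hk', mul_assoc _ _ (g : Matrix (Fin n) (Fin n) F), ← Units.val_mul,
        inv_mul_cancel, Units.val_one, mul_one]
    · intro hg
      have hmem : ∀ k : L, (g : Matrix (Fin n) (Fin n) F) * ι k *
          ((g⁻¹ : GL (Fin n) F) : Matrix (Fin n) (Fin n) F) ∈ K := by
        intro k
        obtain ⟨k', hk'⟩ := hg k
        have : (g : Matrix (Fin n) (Fin n) F) * ι k = ι k' * g := by
          refine Matrix.ext_of_mulVec_single fun i => ?_
          have := hk' (Pi.single i 1)
          rw [glLin_apply, glLin_apply, hsmul, hsmul, mulVec_mulVec, mulVec_mulVec] at this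
          exact this
        rw [this, mul_assoc, ← Units.val_mul, mul_inv_cancel, Units.val_one, mul_one]
        exact hι k'
      choose f hf using fun k => hιsurj _ (hmem k)
      have hinj : Function.Injective f := by
        intro a b hab
        have := congrArg ι hab
        rw [hf, hf] at this
        apply hιinj
        have := congrArg (fun z => ((g⁻¹ : GL (Fin n) F) : Matrix _ _ F) *
          z * (g : Matrix (Fin n) (Fin n) F)) this
        simpa [mul_assoc] using this
      intro k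
      refine ⟨fun hk => ?_, fun hk => ?_⟩
      · obtain ⟨k₀, rfl⟩ := hιsurj k hk
        exact hmem k₀
      · obtain ⟨k₁, hk₁⟩ := hιsurj _ hk
        obtain ⟨k₀, rfl⟩ := Finite.surjective_of_injective hinj k₁
        rw [hf] at hk₁
        have := congrArg (fun z => ((g⁻¹ : GL (Fin n) F) : Matrix _ _ F) *
          z * (g : Matrix (Fin n) (Fin n) F)) hk₁
        simp [mul_assoc] at this
        exact this ▸ hι k₀
  -- the involution of the field
  have hadj : ∀ k : L, ∃ k' : L, ∀ u v,
      Cfsg.hermForm n F q (k • u) v = Cfsg.hermForm n F q u (k' • v) := by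
    intro k
    obtain ⟨b, hb, hkb⟩ := hac _ (hι k)
    obtain ⟨k', rfl⟩ := hιsurj b hb
    exact ⟨k', fun u v => by rw [hsmul, hsmul]; exact hkb u v⟩
  choose j hj using hadj
  obtain ⟨w, hw⟩ : ∃ w : Fin n → F, w ≠ 0 :=
    ⟨Pi.single ⟨0, by omega⟩ 1, by simp⟩
  have huniq : ∀ a b : L, (∀ u v, Cfsg.hermForm n F q u (a • v) = Cfsg.hermForm n F q u (b • v)) →
      a = b := by
    intro a b h
    refine smul_left_injective L hw ?_
    show a • w = b • w
    refine hDual_injective hf (funext fun i => ?_)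
    exact h _ w
  let J : L ≃+* L :=
    { toFun := j
      invFun := j
      left_inv := fun k => huniq _ _ fun u v => by
        rw [← hj, hf.herm, ← hj, ← hf.herm]
      right_inv := fun k => huniq _ _ fun u v => by
        rw [← hj, hf.herm, ← hj, ← hf.herm]
      map_mul' := fun a b => huniq _ _ fun u v => by
        rw [← hj, mul_smul (j a), ← hj a, ← hj b, smul_smul, mul_comm b a]
      map_add' := fun a b => huniq _ _ fun u v => by
        rw [← hj, add_smul, add_smul, herm_add_right hf, hf.add_left, hj, hj] }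
  have hJ : ∀ k u v, Cfsg.hermForm n F q (k • u) v = Cfsg.hermForm n F q u (J k • v) := hj
  have hJinv : ∀ k, J (J k) = k := fun k => J.left_inv k
  have hJalg : ∀ c : F, J (algebraMap F L c) = algebraMap F L (qConj hF c) := fun c =>
    huniq _ _ fun u v => by
      rw [← hJ, algebraMap_smul, algebraMap_smul, hf.smul_left, herm_smul_right hf, qConj_qConj]
  have hJsmul : ∀ (c : F) (x : L), J (c • x) = qConj hF c • J x := fun c x => by
    rw [Algebra.smul_def, map_mul, hJalg, ← Algebra.smul_def]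
  -- a functional commuting with the involutions
  obtain ⟨τ₀, hτ₀, -⟩ := exists_dual_one (K := F) (V := L) (p := ⊥) (x := (1 : L)) (by simp)
  let mk : (L →ₗ[F] F) → (L →ₗ[F] F) := fun l =>
    { toFun := fun x => l x + qConj hF (l (J x))
      map_add' := fun x y => by simp only [map_add]; ring
      map_smul' := fun c x => by
        simp only [hJsmul, map_smul, smul_eq_mul, map_mul, qConj_qConj, RingHom.id_apply]
        ring }
  have hmk : ∀ l x, mk l (J x) = qConj hF (mk l x) := fun l x => by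
    show l (J x) + qConj hF (l (J (J x))) = qConj hF (l x + qConj hF (l (J x)))
    rw [hJinv, map_add, qConj_qConj, add_comm]
  obtain ⟨τ, hτ, hτJ⟩ : ∃ τ : L →ₗ[F] F, τ ≠ 0 ∧ ∀ x, τ (J x) = qConj hF (τ x) := by
    by_cases h : mk τ₀ = 0
    swap
    · exact ⟨mk τ₀, h, hmk τ₀⟩
    obtain ⟨ξ, hξ⟩ : ∃ ξ : F, qConj hF ξ ≠ ξ := by
      by_contra hall
      simp only [not_exists, not_not] at hall
      exact hf.ne_refl (RingEquiv.ext hall)
    refine ⟨mk (ξ • τ₀), fun h' => hξ ?_, hmk _⟩
    have e1 : τ₀ 1 + qConj hF (τ₀ (J 1)) = 0 := LinearMap.congr_fun h 1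
    have e2 : ξ * τ₀ 1 + qConj hF (ξ * τ₀ (J 1)) = 0 := LinearMap.congr_fun h' 1
    rw [map_one J, hτ₀, map_one (qConj hF)] at e1
    rw [map_one J, hτ₀, mul_one] at e2
    linear_combination e2 - ξ * e1
  have hinjτ : ∀ a b : L, (∀ s, τ (s * a) = τ (s * b)) → a = b := by
    intro a b h
    by_contra hne
    refine hτ (LinearMap.ext fun x => ?_)
    have := h (x * (a - b)⁻¹)
    rw [← sub_eq_zero, ← map_sub, ← mul_sub, inv_mul_cancel_right₀ (sub_ne_zero.2 hne)] at this
    exact this
  -- the form over the field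
  choose ψ hψ using fun v : Fin n → F => exists_lift_functional (K := L) hτ
    ({ toFun := fun x => Cfsg.hermForm n F q x v
       map_add' := fun a b => hf.add_left a b v
       map_smul' := fun c a => hf.smul_left c a v } : (Fin n → F) →ₗ[F] F)
  have hψ' : ∀ v (s : L) x, τ (s * ψ v x) = Cfsg.hermForm n F q (s • x) v := fun v s x => hψ v s x
  obtain ⟨φ, hφdef⟩ : ∃ φ : (Fin n → F) → (Fin n → F) → L, φ = fun x v => ψ v x := ⟨_, rfl⟩
  have hφ : ∀ x v, τ (φ x v) = Cfsg.hermForm n F q x v := fun x v => by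
    have := hψ' v 1 x
    rw [one_mul, one_smul] at this
    rw [hφdef]; exact this
  have hherm : ∀ v w, φ v w = J (φ w v) := fun v w => hinjτ _ _ fun s => by
    rw [hφdef]
    show τ (s * ψ w v) = τ (s * J (ψ v w))
    rw [← hJinv s, ← map_mul, hτJ, hψ', hψ', hJinv, ← hf.herm, ← hJinv s, ← hJ, hJinv]
  have hnd : ∀ v, (∀ w, φ v w = 0) → v = 0 := fun v h => by
    by_contra hv
    obtain ⟨x, hx⟩ := (hf.nondegenerate v hv).2
    exact hx (by rw [← hφ, h, map_zero])
  have hrank : 2 ≤ Module.finrank L (Fin n → F) ∧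
      (3 ≤ Module.finrank L (Fin n → F) ∨ 5 ≤ Module.finrank F L ∨ (Module.finrank F L = 3 ∧ 9 ≤ Nat.card F)) := by
    have h1 := Module.finrank_mul_finrank F L (Fin n → F)
    rw [hfr, Module.finrank_fin_fun] at h1
    rw [hfr]
    refine ⟨?_, ?_⟩
    · by_contra hlt
      have : r * Module.finrank L (Fin n → F) ≤ r * 1 := Nat.mul_le_mul_left r (by omega)
      omega
    · rcases hk with hk | ⟨hr3', -, hq3⟩
      · by_contra hlt
        rw [not_or, not_or] at hlt
        have : r * Module.finrank L (Fin n → F) ≤ r * 2 := Nat.mul_le_mul_left r (by omega)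
        omega
      · exact Or.inr (Or.inr ⟨hr3', by rw [Nat.card_eq_fintype_card, hF]; nlinarith⟩)
  set S : Subgroup (GL (Fin n) F) := Cfsg.GU n F q ⊓ Cfsg.Geo.specialLinear (Fin n) F with hS
  have mkCtx : ∀ M : Subgroup (GL (Fin n) F), Cfsg.Geo.subalgebraNormalizer K ⊓ S ≤ M → M ≤ S →
      Ctx φ J (qConj hF) τ (M.map (glLin (ι := Fin n) (F := F)).toMonoidHom) := by
    intro M hHM hMS
    refine
      { add_left := fun x y v => by simp [hφdef]
        smul_left := fun c x v => by simp [hφdef]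
        herm := hherm
        nondeg := hnd
        invol := hJinv
        J_algebraMap := hJalg
        tau_J := hτJ
        σ_ne := hf.ne_refl
        tau := hτ
        iso := ?_
        mem := fun h hh hdet => ?_
        prime := by rw [hfr]; exact hr
        three_le := by rw [hfr]; exact hr3
        two_le := by have := hrank.1; omega }
    · rintro g' ⟨g₀, hg₀, rfl⟩ u v
      rw [hφ, hφ]
      exact (hMS hg₀).1 u v
    · refine ⟨glLin.symm (h.restrictScalars F), hHM ⟨?_, ?_, ?_⟩, glLin.apply_symm_apply _⟩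
      · show glLin.symm (h.restrictScalars F) ∈ Cfsg.Geo.subalgebraNormalizer K
        rw [hiff, MulEquiv.apply_symm_apply]
        exact fun k => ⟨k, fun x => h.map_smul k x⟩
      · intro u v
        show Cfsg.hermForm n F q
          (((glLin.symm (h.restrictScalars F) : GL (Fin n) F) : Matrix _ _ F) *ᵥ u)
          (((glLin.symm (h.restrictScalars F) : GL (Fin n) F) : Matrix _ _ F) *ᵥ v) = _
        rw [← glLin_apply, ← glLin_apply, MulEquiv.apply_symm_apply, ← hφ, ← hφ,
          LinearEquiv.restrictScalars_apply, LinearEquiv.restrictScalars_apply, hh]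
      · show glLin.symm (h.restrictScalars F) ∈ Cfsg.Geo.specialLinear (Fin n) F
        rw [mem_sl_iff, ← LinearMap.det_toLin']
        have e : Matrix.toLin' ((glLin.symm (h.restrictScalars F) : GL (Fin n) F) :
            Matrix (Fin n) (Fin n) F) = (h : (Fin n → F) →ₗ[L] (Fin n → F)).restrictScalars F := by
          refine LinearMap.ext fun x => ?_
          rw [Matrix.toLin'_apply, ← glLin_apply, MulEquiv.apply_symm_apply]
          rfl
        rw [e, LinearMap.det_restrictScalars, hdet]
  have hn4 : 4 ≤ n := by omega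
  refine ⟨lt_of_le_of_ne inf_le_right fun heq => ?_, fun M hHM hMS => ?_⟩
  · -- strictness
    have C := mkCtx _ le_rfl inf_le_right
    obtain ⟨v, hv0, hv⟩ := C.exists_isotropic
    have hiso : ∀ a b : L, Cfsg.hermForm n F q (a • v) (b • v) = 0 := fun a b => by
      rw [← hφ, C.smul_left, C.smul_right, hv, mul_zero, mul_zero, map_zero]
    have hvv : Cfsg.hermForm n F q v v = 0 := by simpa using hiso 1 1
    obtain ⟨k, hk⟩ : ∃ k : L, k ∉ (⊥ : Subalgebra F L) := by
      by_contra hall
      simp only [not_exists, not_not] at hall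
      have : (⊥ : Subalgebra F L) = ⊤ := eq_top_iff.mpr fun x _ => hall x
      rw [Subalgebra.bot_eq_top_iff_finrank_eq_one, hfr] at this
      omega
    obtain ⟨c, hc0, hc⟩ := exists_trace_zero hf
    have hdot : (c • hDual (Cfsg.hermForm n F q) v) ⬝ᵥ v = 0 := by
      rw [smul_dotProduct, hDual_dot hf, hvv, smul_zero]
    have hmem := uTv_mem_su hF hvv hc hdot
    rw [← hS, ← heq] at hmem
    obtain ⟨k', hk'⟩ := (hiff _).mp hmem.1 k
    simp only [glLin_apply, coe_tvGL, uTv_mulVec hf] at hk'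
    have h1 := hk' v
    rw [hvv, mul_zero, zero_smul, add_zero] at h1
    have hkv : Cfsg.hermForm n F q (k • v) v = 0 := by simpa using hiso k 1
    rw [hkv, mul_zero, zero_smul, add_zero] at h1
    have hkk : k = k' := smul_left_injective L hv0 h1
    subst hkk
    obtain ⟨x, hx⟩ := (hf.nondegenerate v hv0).1
    have h2 := hk' x
    rw [smul_add, add_right_inj, smul_comm k (c * Cfsg.hermForm n F q x v)] at h2
    refine hk ?_
    rw [Algebra.mem_bot]
    refine ⟨c * Cfsg.hermForm n F q (k • x) v / (c * Cfsg.hermForm n F q x v),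
      smul_left_injective L hv0 ?_⟩
    show algebraMap F L _ • v = k • v
    rw [algebraMap_smul, div_eq_inv_mul, ← smul_smul, h2, inv_smul_smul₀ (mul_ne_zero hc0 hx)]
  · -- maximality
    by_cases hMN : M ≤ Cfsg.Geo.subalgebraNormalizer K
    · exact Or.inl (le_antisymm (le_inf hMN hMS) hHM)
    refine Or.inr (le_antisymm hMS ?_)
    obtain ⟨g, hgM, hgN⟩ := SetLike.not_le_iff_exists.mp hMN
    have C := mkCtx M hHM hMS
    have hex : ∃ g' ∈ M.map (glLin (ι := Fin n) (F := F)).toMonoidHom, ¬ KSemi L g' :=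
      ⟨glLin g, ⟨g, hgM, rfl⟩, fun h => hgN ((hiff g).mpr h)⟩
    refine su_le_of_uFull hF hn4 fun v hv => ⟨hv, fun c hc => ⟨?_, ?_⟩⟩
    · rw [smul_dotProduct, hDual_dot hf, hv, smul_zero]
    · obtain ⟨g', ⟨g₀, hg₀, rfl⟩, hgx⟩ := C.fullU_all_two hrank.2 hex v (by rw [hφ, hv]) c hc
      refine ⟨g₀, hg₀, Matrix.ext_of_mulVec_single fun i => ?_⟩
      rw [uTv_mulVec hf, ← glLin_apply, ← hφ]
      exact hgx _

/-- the field structure on a field subalgebra lives on this copy -/
def MatFieldU (K : Subalgebra F (Matrix (Fin n) (Fin n) F)) : Type _ := ↥K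

/-- the normaliser in `SU` of an adjoint closed subfield of odd prime degree `r` is maximal
when the dimension over the subfield is at least three, or two with `5 ≤ r` or `3 ≤ q` -/
theorem extension_maximal_gen (hF : Fintype.card F = q ^ 2) (hr : r.Prime) (hro : Odd r)
    (hk : (3 * r ≤ n ∨ (5 ≤ r ∧ 2 * r ≤ n)) ∨ (r = 3 ∧ n = 6 ∧ 3 ≤ q)) (K : Subalgebra F (Matrix (Fin n) (Fin n) F))
    (hK : Cfsg.Geo.IsFieldSubalgebra r K)
    (hac : Cfsg.Geo.IsAdjointClosedFor (Cfsg.hermForm n F q) K) :
    Cfsg.Geo.IsMaximalIn (Cfsg.GU n F q ⊓ Cfsg.Geo.specialLinear (Fin n) F)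
      (Cfsg.Geo.subalgebraNormalizer K ⊓ (Cfsg.GU n F q ⊓ Cfsg.Geo.specialLinear (Fin n) F)) := by
  have hr3 : 3 ≤ r := by
    have := hr.two_le
    rcases hro with ⟨k, hk⟩
    omega
  haveI : Nonempty (Fin n) := ⟨⟨0, by omega⟩⟩
  have hFd : IsField K :=
    { exists_pair_ne := ⟨0, 1, zero_ne_one⟩
      mul_comm := fun x y => Subtype.ext (hK.comm x x.2 y y.2)
      mul_inv_cancel := fun {a} ha => by
        obtain ⟨y, hy, hxy⟩ := hK.inv a a.2 fun e => ha (Subtype.ext e)
        exact ⟨⟨y, hy⟩, Subtype.ext hxy⟩ }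
  letI : Field (MatFieldU K) := hFd.toField
  letI : Algebra F (MatFieldU K) := (inferInstance : Algebra F ↥K)
  letI : Module (MatFieldU K) (Fin n → F) := Module.compHom (Fin n → F)
    (((Matrix.toLinAlgEquiv' : Matrix (Fin n) (Fin n) F ≃ₐ[F] _).toRingEquiv.toRingHom.comp
      K.val.toRingHom : ↥K →+* Module.End F (Fin n → F)) :
      MatFieldU K →+* Module.End F (Fin n → F))
  have : Finite (MatFieldU K) := (inferInstance : Finite ↥K)
  have : IsScalarTower F (MatFieldU K) (Fin n → F) := ⟨fun c k x => by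
    show (c • (k : ↥K) : ↥K).1 *ᵥ x = c • ((k : ↥K).1 *ᵥ x)
    exact Matrix.smul_mulVec c (k : ↥K).1 x⟩
  exact extension_maximal_aux (L := MatFieldU K) hF hr hr3 hk K (fun k => (k : ↥K).1)
    (fun k => (k : ↥K).2) (fun a b h => Subtype.ext h) (fun a ha => ⟨(⟨a, ha⟩ : ↥K), rfl⟩)
    (fun k x => rfl) hK.finrank_eq hac

/-- the normaliser in `SU` of an adjoint closed subfield of odd prime degree `r` is maximal
when the dimension over the subfield is at least three, or two with `5 ≤ r` -/
theorem extension_maximal' (hF : Fintype.card F = q ^ 2) (hr : r.Prime) (hro : Odd r)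
    (hk : 3 * r ≤ n ∨ (5 ≤ r ∧ 2 * r ≤ n)) (K : Subalgebra F (Matrix (Fin n) (Fin n) F))
    (hK : Cfsg.Geo.IsFieldSubalgebra r K)
    (hac : Cfsg.Geo.IsAdjointClosedFor (Cfsg.hermForm n F q) K) :
    Cfsg.Geo.IsMaximalIn (Cfsg.GU n F q ⊓ Cfsg.Geo.specialLinear (Fin n) F)
      (Cfsg.Geo.subalgebraNormalizer K ⊓ (Cfsg.GU n F q ⊓ Cfsg.Geo.specialLinear (Fin n) F)) :=
  extension_maximal_gen hF hr hro (Or.inl hk) K hK hac

/-- the normaliser in `SU` of an adjoint closed subfield of odd prime degree `r` is maximal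
when the dimension over the subfield is at least three -/
theorem extension_maximal (hF : Fintype.card F = q ^ 2) (hr : r.Prime) (hro : Odd r)
    (hk : 3 * r ≤ n) (K : Subalgebra F (Matrix (Fin n) (Fin n) F))
    (hK : Cfsg.Geo.IsFieldSubalgebra r K)
    (hac : Cfsg.Geo.IsAdjointClosedFor (Cfsg.hermForm n F q) K) :
    Cfsg.Geo.IsMaximalIn (Cfsg.GU n F q ⊓ Cfsg.Geo.specialLinear (Fin n) F)
      (Cfsg.Geo.subalgebraNormalizer K ⊓ (Cfsg.GU n F q ⊓ Cfsg.Geo.specialLinear (Fin n) F)) :=
  extension_maximal' hF hr hro (Or.inl hk) K hK hac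

end CfsgLib.MaxSub.UExt
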