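import Cfsg.Agent.Lib.MaxSub.HermFull
import Cfsg.Agent.Lib.Geom.SpinorNorm
import Cfsg.Agent.Lib.Geom.FiniteField

/-!
A rational structure on the four-dimensional hermitian space, given by its conjugation: frames and unipotent
elements attached to isotropic vectors.
-/

set_option autoImplicit false
set_option linter.unusedSectionVars false

namespace CfsgLib.MaxSub.SuReal

open Matrix
open scoped MatrixGroups

variable {F : Type*} [Field F] [Fintype F]


/-- the action on vectors -/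
abbrev ap (g : (GL (Fin 4) F)) (x : (Fin 4 → F)) : (Fin 4 → F) := (g : (Matrix (Fin 4) (Fin 4) F)) *ᵥ x

theorem ap_mul (g h : (GL (Fin 4) F)) (x : (Fin 4 → F)) : ap (g * h) x = ap g (ap h x) := by
  simp only [ap, Units.val_mul, mulVec_mulVec]

theorem ap_one (x : (Fin 4 → F)) : ap (1 : (GL (Fin 4) F)) x = x := by simp only [ap, Units.val_one, one_mulVec]

theorem ap_inv (g : (GL (Fin 4) F)) (x : (Fin 4 → F)) : ap g (ap g⁻¹ x) = x := mulVec_mulVec_inv g x

theorem inv_ap (g : (GL (Fin 4) F)) (x : (Fin 4 → F)) : ap g⁻¹ (ap g x) = x := inv_mulVec_mulVec g x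

theorem ap_ext {g h : (GL (Fin 4) F)} (e : ∀ x, ap g x = ap h x) : g = h :=
  Units.ext (Matrix.ext_of_mulVec_single fun i => e (Pi.single i 1))

theorem ap_add (g : (GL (Fin 4) F)) (x y : (Fin 4 → F)) : ap g (x + y) = ap g x + ap g y := mulVec_add _ _ _

theorem ap_sub (g : (GL (Fin 4) F)) (x y : (Fin 4 → F)) : ap g (x - y) = ap g x - ap g y := mulVec_sub _ _ _

theorem ap_smul (g : (GL (Fin 4) F)) (c : F) (x : (Fin 4 → F)) : ap g (c • x) = c • ap g x := mulVec_smul _ _ _

theorem ap_ne_zero (g : (GL (Fin 4) F)) {x : (Fin 4 → F)} (h : x ≠ 0) : ap g x ≠ 0 := fun e => h (by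
  rw [← inv_ap g x, e]; exact mulVec_zero _)

/-- a hermitian space with a compatible conjugation -/
structure RS (σ : F ≃+* F) (f : (Fin 4 → F) → (Fin 4 → F) → F) (C : (Fin 4 → F) → (Fin 4 → F)) (q : ℕ) : Prop where
  form : Cfsg.Geo.IsUnitaryForm σ f
  c_add : ∀ x y, C (x + y) = C x + C y
  c_smul : ∀ (a : F) x, C (a • x) = σ a • C x
  c_inv : ∀ x, C (C x) = x
  c_form : ∀ x y, f (C x) (C y) = σ (f x y)
  c_det : ∀ g h : (GL (Fin 4) F), (∀ x, ap h x = C (ap g (C x))) → (h : (Matrix (Fin 4) (Fin 4) F)).det = σ (g : (Matrix (Fin 4) (Fin 4) F)).det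
  two : (2 : F) ≠ 0
  card : Fintype.card F = q ^ 2
  pow : ∀ x, σ x = x ^ q
  five : 5 ≤ q

variable {σ : F ≃+* F} {f : (Fin 4 → F) → (Fin 4 → F) → F} {C : (Fin 4 → F) → (Fin 4 → F)} {q : ℕ}

/-- isometries of determinant one -/
def InS (f : (Fin 4 → F) → (Fin 4 → F) → F) (g : (GL (Fin 4) F)) : Prop := (∀ x y, f (ap g x) (ap g y) = f x y) ∧ (g : (Matrix (Fin 4) (Fin 4) F)).det = 1

/-- commuting with the conjugation up to a scalar -/
def Com (C : (Fin 4 → F) → (Fin 4 → F)) (g : (GL (Fin 4) F)) : Prop := ∃ c : F, c ≠ 0 ∧ ∀ x, C (c • ap g x) = c • ap g (C x)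

theorem InS.mul {g h : (GL (Fin 4) F)} (hg : InS f g) (hh : InS f h) : InS f (g * h) :=
  ⟨fun x y => by rw [ap_mul, ap_mul, hg.1, hh.1], by rw [Units.val_mul, det_mul, hg.2, hh.2, one_mul]⟩

namespace RS

variable (R : RS σ f C q)
include R

theorem add_left (x y z : (Fin 4 → F)) : f (x + y) z = f x z + f y z := R.form.add_left x y z
theorem add_right (x y z : (Fin 4 → F)) : f x (y + z) = f x y + f x z := herm_add_right R.form x y z
theorem smul_left (c : F) (x y : (Fin 4 → F)) : f (c • x) y = c * f x y := R.form.smul_left c x y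
theorem smul_right (c : F) (x y : (Fin 4 → F)) : f x (c • y) = σ c * f x y := herm_smul_right R.form c x y
theorem zero_left (x : (Fin 4 → F)) : f 0 x = 0 := herm_zero_left R.form x
theorem zero_right (x : (Fin 4 → F)) : f x 0 = 0 := herm_zero_right R.form x
theorem neg_left (x y : (Fin 4 → F)) : f (-x) y = -f x y := by rw [← neg_one_smul F, R.smul_left, neg_one_mul]
theorem neg_right (x y : (Fin 4 → F)) : f x (-y) = -f x y := by
  rw [← neg_one_smul F, R.smul_right, map_neg, map_one, neg_one_mul]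
theorem sub_left (x y z : (Fin 4 → F)) : f (x - y) z = f x z - f y z := by
  rw [sub_eq_add_neg, R.add_left, R.neg_left, ← sub_eq_add_neg]
theorem sub_right (x y z : (Fin 4 → F)) : f x (y - z) = f x y - f x z := by
  rw [sub_eq_add_neg, R.add_right, R.neg_right, ← sub_eq_add_neg]
theorem perp_symm {x y : (Fin 4 → F)} (h : f x y = 0) : f y x = 0 := herm_eq_zero_comm R.form h

theorem ss (a : F) : σ (σ a) = a := R.form.involutive a

theorem eq_zero_of_perp {z : (Fin 4 → F)} (h : ∀ x, f x z = 0) : z = 0 := by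
  by_contra hz
  obtain ⟨⟨x, hx⟩, -⟩ := R.form.nondegenerate z hz
  exact hx (h x)

theorem c_sub (x y : (Fin 4 → F)) : C (x - y) = C x - C y := by
  have h := R.c_add (x - y) y
  rw [sub_add_cancel] at h
  rw [h]; abel

theorem c_zero : C 0 = 0 := by
  have := R.c_smul 0 0
  rwa [zero_smul, map_zero, zero_smul] at this

theorem fx_smul {x : (Fin 4 → F)} (hx : C x = x) {a : F} (ha : σ a = a) : C (a • x) = a • x := by
  rw [R.c_smul, hx, ha]

theorem fx_add {x y : (Fin 4 → F)} (hx : C x = x) (hy : C y = y) : C (x + y) = x + y := by rw [R.c_add, hx, hy]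

theorem fx_sub {x y : (Fin 4 → F)} (hx : C x = x) (hy : C y = y) : C (x - y) = x - y := by rw [R.c_sub, hx, hy]

theorem real {x y : (Fin 4 → F)} (hx : C x = x) (hy : C y = y) : σ (f x y) = f x y := by
  rw [← R.c_form, hx, hy]

theorem symm {x y : (Fin 4 → F)} (hx : C x = x) (hy : C y = y) : f y x = f x y := by
  rw [R.form.herm y x, R.real hx hy]

theorem half {a : F} (h : σ a = a) : σ (a / 2) = a / 2 := by rw [map_div₀, map_ofNat, h]

theorem exists_theta : ∃ θ : F, θ ≠ 0 ∧ σ θ = -θ := by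
  obtain ⟨a, ha⟩ : ∃ a, σ a ≠ a := by
    by_contra hno
    push Not at hno
    exact R.form.ne_refl (RingEquiv.ext hno)
  exact ⟨a - σ a, sub_ne_zero.2 (Ne.symm ha), by rw [map_sub, R.ss, neg_sub]⟩

/-- both parts of a vector are fixed by the conjugation -/
theorem decomp (x : (Fin 4 → F)) {θ : F} (h0 : θ ≠ 0) (hθ : σ θ = -θ) :
    ∃ p r, C p = p ∧ C r = r ∧ x = p + θ • r := by
  refine ⟨(2 : F)⁻¹ • (x + C x), (2 * θ)⁻¹ • (x - C x), ?_, ?_, ?_⟩
  · rw [R.c_smul, R.c_add, R.c_inv, map_inv₀, map_ofNat, add_comm]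
  · rw [R.c_smul, R.c_sub, R.c_inv, map_inv₀, map_mul, map_ofNat, hθ, mul_neg, inv_neg, neg_smul, ← smul_neg,
      neg_sub]
  · rw [smul_smul, show θ * (2 * θ)⁻¹ = (2 : F)⁻¹ by field_simp, ← smul_add,
      show x + C x + (x - C x) = (2 : F) • x by rw [two_smul]; abel, inv_smul_smul₀ R.two]

theorem exists_pair {z : (Fin 4 → F)} (hz : z ≠ 0) : ∃ x, C x = x ∧ f x z ≠ 0 := by
  by_contra hno
  push Not at hno
  obtain ⟨θ, hθ0, hθ⟩ := R.exists_theta
  refine hz (R.eq_zero_of_perp fun x => ?_)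
  obtain ⟨p, r, hp, hr, rfl⟩ := R.decomp x hθ0 hθ
  rw [R.add_left, R.smul_left, hno p hp, hno r hr, mul_zero, add_zero]

/-- a line stable under the conjugation has a fixed vector -/
theorem exists_fx_multiple {z : (Fin 4 → F)} {l : F} (h : C z = l • z) : ∃ m : F, m ≠ 0 ∧ C (m • z) = m • z := by
  obtain ⟨θ, hθ0, hθ⟩ := R.exists_theta
  by_cases hl : 1 + l = 0
  · refine ⟨θ, hθ0, ?_⟩
    rw [R.c_smul, h, hθ, smul_smul, eq_neg_of_add_eq_zero_right hl]
    congr 1; ring
  · refine ⟨1 + l, hl, ?_⟩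
    have e : (1 + l) • z = z + C z := by rw [h, add_smul, one_smul]
    rw [e, R.c_add, R.c_inv, add_comm]

/-- a nonzero projection commuting with the conjugation has an anisotropic fixed value -/
theorem exists_aniso (P : (Fin 4 → F) →ₗ[F] (Fin 4 → F)) (hC : ∀ x, C x = x → C (P x) = P x)
    (hadj : ∀ x y, f (P x) y = f (P x) (P y)) (hne : ∃ x, P x ≠ 0) :
    ∃ x, C x = x ∧ f (P x) (P x) ≠ 0 := by
  by_contra hno
  push Not at hno
  obtain ⟨x, hx⟩ := hne
  have h0 : ∀ a b, C a = a → C b = b → f (P a) (P b) = 0 := fun a b ha hb => by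
    have h := hno (a + b) (R.fx_add ha hb)
    rw [map_add, R.add_left, R.add_right, R.add_right, hno a ha, hno b hb, R.symm (hC a ha) (hC b hb), zero_add,
      add_zero] at h
    exact (mul_eq_zero.1 (show (2 : F) * f (P a) (P b) = 0 by linear_combination h)).resolve_left R.two
  obtain ⟨θ, hθ0, hθ⟩ := R.exists_theta
  refine hx (R.eq_zero_of_perp fun y => R.perp_symm ?_)
  obtain ⟨p, r, hp, hr, rfl⟩ := R.decomp x hθ0 hθ
  obtain ⟨p', r', hp', hr', rfl⟩ := R.decomp y hθ0 hθ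
  rw [hadj]
  simp only [map_add, map_smul, R.add_left, R.add_right, R.smul_left, R.smul_right, h0 p p' hp hp',
    h0 p r' hp hr', h0 r p' hr hp', h0 r r' hr hr', mul_zero, add_zero]

theorem exists_notMem_span (S : Finset (Fin 4 → F)) (hS : S.card ≤ 3) : ∃ x, x ∉ Submodule.span F (S : Set (Fin 4 → F)) := by
  by_contra hno
  push Not at hno
  have h := finrank_span_finset_le_card (R := F) S
  rw [Set.finrank, (Submodule.eq_top_iff').2 hno, finrank_top, Module.finrank_fin_fun] at h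
  omega

theorem sub_perp {a : (Fin 4 → F)} (ha : f a a ≠ 0) (x : (Fin 4 → F)) : f (x - (f x a / f a a) • a) a = 0 := by
  rw [R.sub_left, R.smul_left, div_mul_cancel₀ _ ha, sub_self]

/-- there is a fixed isotropic vector -/
theorem exists_iso : ∃ u, C u = u ∧ u ≠ 0 ∧ f u u = 0 := by
  classical
  obtain ⟨a, hac, ha⟩ := R.exists_aniso LinearMap.id (fun x h => h) (fun x y => rfl) (by
    obtain ⟨x, hx⟩ := R.exists_notMem_span ∅ (by simp)
    exact ⟨x, fun h => hx (by rw [show x = 0 from h]; exact Submodule.zero_mem _)⟩)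
  simp only [LinearMap.id_apply] at ha
  have haa : σ (f a a) = f a a := R.real hac hac
  obtain ⟨P, hP⟩ : ∃ P : (Fin 4 → F) →ₗ[F] (Fin 4 → F), ∀ x, P x = x - (f x a / f a a) • a := by
    refine ⟨{ toFun := fun x => x - (f x a / f a a) • a, map_add' := fun x y => ?_, map_smul' := fun c x => ?_ },
      fun x => rfl⟩
    · simp only [R.add_left, add_div, add_smul]; abel
    · simp only [R.smul_left, mul_div_assoc, mul_smul, smul_sub, RingHom.id_apply]
  have hPa : ∀ x, f (P x) a = 0 := fun x => hP x ▸ R.sub_perp ha x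
  obtain ⟨b, hbc, hb⟩ := R.exists_aniso P (fun x hx => by
      rw [hP]; exact R.fx_sub hx (R.fx_smul hac (by rw [map_div₀, R.real hx hac, haa])))
    (fun x y => by rw [hP y, R.sub_right, R.smul_right, hPa, mul_zero, sub_zero]) (by
      obtain ⟨x, hx⟩ := R.exists_notMem_span {a} (by simp)
      refine ⟨x, fun h => hx ?_⟩
      rw [hP, sub_eq_zero] at h
      rw [h]
      exact Submodule.smul_mem _ _ (Submodule.subset_span (by simp)))
  obtain ⟨b', hb'⟩ : ∃ b', b' = P b := ⟨_, rfl⟩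
  rw [← hb'] at hb
  have hba : f b' a = 0 := hb' ▸ hPa b
  have hbc' : C b' = b' := by
    rw [hb', hP]; exact R.fx_sub hbc (R.fx_smul hac (by rw [map_div₀, R.real hbc hac, haa]))
  have hbb : σ (f b' b') = f b' b' := R.real hbc' hbc'
  obtain ⟨P₂, hP₂⟩ : ∃ P₂ : (Fin 4 → F) →ₗ[F] (Fin 4 → F), ∀ x, P₂ x = P x - (f (P x) b' / f b' b') • b' := by
    refine ⟨{ toFun := fun x => P x - (f (P x) b' / f b' b') • b', map_add' := fun x y => ?_,
              map_smul' := fun c x => ?_ }, fun x => rfl⟩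
    · simp only [map_add, R.add_left, add_div, add_smul]; abel
    · simp only [map_smul, R.smul_left, mul_div_assoc, mul_smul, smul_sub, RingHom.id_apply]
  have h2a : ∀ x, f (P₂ x) a = 0 := fun x => by rw [hP₂, R.sub_left, R.smul_left, hPa, hba, mul_zero, sub_zero]
  have h2b : ∀ x, f (P₂ x) b' = 0 := fun x => hP₂ x ▸ R.sub_perp hb (P x)
  obtain ⟨c, hcc, hc⟩ := R.exists_aniso P₂ (fun x hx => by
      have hPx : C (P x) = P x := by
        rw [hP]; exact R.fx_sub hx (R.fx_smul hac (by rw [map_div₀, R.real hx hac, haa]))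
      rw [hP₂]; exact R.fx_sub hPx (R.fx_smul hbc' (by rw [map_div₀, R.real hPx hbc', hbb])))
    (fun x y => by
      rw [hP₂ y, hP y, R.sub_right, R.sub_right, R.smul_right, R.smul_right, h2a, h2b, mul_zero, mul_zero,
        sub_zero, sub_zero]) (by
      obtain ⟨x, hx⟩ := R.exists_notMem_span {a, b'} (Finset.card_le_two.trans (by norm_num))
      refine ⟨x, fun h => hx ?_⟩
      rw [hP₂, hP, sub_eq_zero, sub_eq_iff_eq_add] at h
      rw [h]
      exact Submodule.add_mem _ (Submodule.smul_mem _ _ (Submodule.subset_span (by simp)))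
        (Submodule.smul_mem _ _ (Submodule.subset_span (by simp))))
  obtain ⟨c', hc'⟩ : ∃ c', c' = P₂ c := ⟨_, rfl⟩
  rw [← hc'] at hc
  have hcc' : C c' = c' := by
    have hPx : C (P c) = P c := by
      rw [hP]; exact R.fx_sub hcc (R.fx_smul hac (by rw [map_div₀, R.real hcc hac, haa]))
    rw [hc', hP₂]; exact R.fx_sub hPx (R.fx_smul hbc' (by rw [map_div₀, R.real hPx hbc', hbb]))
  obtain ⟨K, hK⟩ : ∃ K : Subfield F, ∀ x, x ∈ K ↔ σ x = x :=
    ⟨RingHom.eqLocusField σ.toRingHom (RingHom.id F), fun x => Iff.rfl⟩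
  haveI : Fintype K := Fintype.ofFinite K
  obtain ⟨x, y, hxy⟩ := CfsgLib.Geom.exists_binary_eq (F := K) (a := ⟨f a a, (hK _).2 haa⟩)
    (b := ⟨f b' b', (hK _).2 hbb⟩) (fun h => R.two (congrArg Subtype.val h))
    (fun h => ha (congrArg Subtype.val h)) (fun h => hb (congrArg Subtype.val h))
    ⟨-f c' c', (hK _).2 (by rw [map_neg, R.real hcc' hcc'])⟩
  have hx : σ (x : F) = x := (hK _).1 x.2
  have hy : σ (y : F) = y := (hK _).1 y.2
  have hca : f c' a = 0 := hc' ▸ h2a c
  have hcb : f c' b' = 0 := hc' ▸ h2b c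
  refine ⟨(x : F) • a + (y : F) • b' + c', R.fx_add (R.fx_add (R.fx_smul hac hx) (R.fx_smul hbc' hy)) hcc',
    fun h => hc ?_, ?_⟩
  · have := congrArg (fun w => f w c') h
    simpa only [R.add_left, R.smul_left, R.perp_symm hca, R.perp_symm hcb, mul_zero, zero_add, R.zero_left] using this
  · have e := congrArg Subtype.val hxy
    simp only [R.add_left, R.add_right, R.smul_left, R.smul_right, hba, R.perp_symm hba, hca, hcb,
      R.perp_symm hca, R.perp_symm hcb, hx, hy]
    simp at e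
    linear_combination e

end RS

/-- a fixed frame at an isotropic vector -/
structure Fr (f : (Fin 4 → F) → (Fin 4 → F) → F) (C : (Fin 4 → F) → (Fin 4 → F)) (u v e₁ e₂ : (Fin 4 → F)) : Prop where
  cu : C u = u
  cv : C v = v
  c1 : C e₁ = e₁
  c2 : C e₂ = e₂
  uu : f u u = 0
  vv : f v v = 0
  uv : f u v = 1
  vu : f v u = 1
  u1 : f u e₁ = 0
  i1u : f e₁ u = 0
  v1 : f v e₁ = 0
  i1v : f e₁ v = 0
  u2 : f u e₂ = 0
  i2u : f e₂ u = 0
  v2 : f v e₂ = 0
  i2v : f e₂ v = 0
  i12 : f e₁ e₂ = 0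
  i21 : f e₂ e₁ = 0
  q1 : f e₁ e₁ ≠ 0
  q2 : f e₂ e₂ ≠ 0

theorem Fr.decomp {u v e₁ e₂ : (Fin 4 → F)} (fr : Fr f C u v e₁ e₂) (R : RS σ f C q) (x : (Fin 4 → F)) :
    x = f x v • u + f x u • v + (f x e₁ / f e₁ e₁) • e₁ + (f x e₂ / f e₂ e₂) • e₂ := by
  obtain ⟨b, hb⟩ : ∃ b : Fin 4 → (Fin 4 → F), b = ![u, v, e₁, e₂] := ⟨_, rfl⟩
  have hval : ∀ (g : Fin 4 → F) (z : (Fin 4 → F)),
      f (∑ i, g i • b i) z = g 0 * f u z + g 1 * f v z + g 2 * f e₁ z + g 3 * f e₂ z := fun g z => by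
    rw [hb, Fin.sum_univ_four]
    simp only [R.add_left, R.smul_left, Matrix.cons_val]
  have hli : LinearIndependent F b := by
    rw [Fintype.linearIndependent_iff]
    intro g hg
    have h : ∀ z, g 0 * f u z + g 1 * f v z + g 2 * f e₁ z + g 3 * f e₂ z = 0 := fun z => by
      rw [← hval, hg, R.zero_left]
    have h0 := h v
    have h1 := h u
    have h2 := h e₁
    have h3 := h e₂
    simp only [fr.uu, fr.vv, fr.uv, fr.vu, fr.u1, fr.i1u, fr.v1, fr.i1v, fr.u2, fr.i2u, fr.v2, fr.i2v, fr.i12,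
      fr.i21, mul_zero, mul_one, add_zero, zero_add, mul_eq_zero, fr.q1, fr.q2, or_false] at h0 h1 h2 h3
    intro i
    fin_cases i <;> assumption
  let B := basisOfLinearIndependentOfCardEqFinrank hli (by simp [Module.finrank_fintype_fun_eq_card])
  have hx : x = ∑ i, B.repr x i • b i := by
    conv_lhs => rw [← B.sum_repr x]
    simp [B]
  obtain ⟨g, hg⟩ : ∃ g : Fin 4 → F, ∀ i, g i = B.repr x i := ⟨fun i => B.repr x i, fun i => rfl⟩
  simp only [← hg] at hx
  have e0 := hval g v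
  have e1 := hval g u
  have e2 := hval g e₁
  have e3 := hval g e₂
  rw [← hx] at e0 e1 e2 e3
  simp only [fr.uu, fr.vv, fr.uv, fr.vu, fr.u1, fr.i1u, fr.v1, fr.i1v, fr.u2, fr.i2u, fr.v2, fr.i2v, fr.i12,
    fr.i21, mul_zero, mul_one, add_zero, zero_add] at e0 e1 e2 e3
  rw [e0, e1, e2, e3, mul_div_cancel_right₀ _ fr.q1, mul_div_cancel_right₀ _ fr.q2]
  conv_lhs => rw [hx, hb, Fin.sum_univ_four]
  simp only [Matrix.cons_val]

namespace RS

variable (R : RS σ f C q)
include R

/-- frames exist at every fixed isotropic vector -/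
theorem exists_frame {u : (Fin 4 → F)} (hu : C u = u) (hu0 : u ≠ 0) (huu : f u u = 0) :
    ∃ v e₁ e₂, Fr f C u v e₁ e₂ := by
  classical
  obtain ⟨z, hz, hzu⟩ := R.exists_pair hu0
  obtain ⟨z', hz'⟩ : ∃ z', z' = (f z u)⁻¹ • z := ⟨_, rfl⟩
  have hz'c : C z' = z' := hz' ▸ R.fx_smul hz (by rw [map_inv₀, R.real hz hu])
  have hz'u : f z' u = 1 := by rw [hz', R.smul_left, inv_mul_cancel₀ hzu]
  have hre : σ (f z' z' / 2) = f z' z' / 2 := R.half (R.real hz'c hz'c)
  obtain ⟨v, hv⟩ : ∃ v, v = z' - (f z' z' / 2) • u := ⟨_, rfl⟩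
  have hvc : C v = v := hv ▸ R.fx_sub hz'c (R.fx_smul hu hre)
  have hvu : f v u = 1 := by rw [hv, R.sub_left, R.smul_left, huu, mul_zero, sub_zero, hz'u]
  have huv : f u v = 1 := by rw [R.symm hvc hu, hvu]
  have hvv : f v v = 0 := by
    rw [hv, R.sub_left, R.sub_right, R.sub_right, R.smul_left, R.smul_right, R.smul_right, R.smul_left, huu,
      hre, hz'u, R.symm hz'c hu, hz'u]
    field_simp [R.two]
    ring
  obtain ⟨P, hP⟩ : ∃ P : (Fin 4 → F) →ₗ[F] (Fin 4 → F), ∀ x, P x = x - f x v • u - f x u • v := by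
    refine ⟨{ toFun := fun x => x - f x v • u - f x u • v, map_add' := fun x y => ?_,
              map_smul' := fun c x => ?_ }, fun x => rfl⟩
    · simp only [R.add_left, add_smul]; abel
    · simp only [R.smul_left, mul_smul, smul_sub, RingHom.id_apply]
  have hPu : ∀ x, f (P x) u = 0 := fun x => by
    rw [hP, R.sub_left, R.sub_left, R.smul_left, R.smul_left, huu, hvu]; ring
  have hPv : ∀ x, f (P x) v = 0 := fun x => by
    rw [hP, R.sub_left, R.sub_left, R.smul_left, R.smul_left, hvv, huv]; ring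
  have hPc : ∀ x, C x = x → C (P x) = P x := fun x hx => by
    rw [hP]; exact R.fx_sub (R.fx_sub hx (R.fx_smul hu (R.real hx hvc))) (R.fx_smul hvc (R.real hx hu))
  obtain ⟨a, hac, ha⟩ := R.exists_aniso P hPc (fun x y => by
      rw [hP y, R.sub_right, R.sub_right, R.smul_right, R.smul_right, hPu, hPv, mul_zero, mul_zero, sub_zero,
        sub_zero]) (by
      obtain ⟨x, hx⟩ := R.exists_notMem_span {u, v} (Finset.card_le_two.trans (by norm_num))
      refine ⟨x, fun h => hx ?_⟩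
      rw [hP, sub_eq_zero, sub_eq_iff_eq_add'] at h
      rw [h]
      exact Submodule.add_mem _ (Submodule.smul_mem _ _ (Submodule.subset_span (by simp)))
        (Submodule.smul_mem _ _ (Submodule.subset_span (by simp))))
  obtain ⟨e₁, he₁⟩ : ∃ e₁, e₁ = P a := ⟨_, rfl⟩
  rw [← he₁] at ha
  have h1c : C e₁ = e₁ := he₁ ▸ hPc a hac
  obtain ⟨P₂, hP₂⟩ : ∃ P₂ : (Fin 4 → F) →ₗ[F] (Fin 4 → F), ∀ x, P₂ x = P x - (f (P x) e₁ / f e₁ e₁) • e₁ := by
    refine ⟨{ toFun := fun x => P x - (f (P x) e₁ / f e₁ e₁) • e₁, map_add' := fun x y => ?_,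
              map_smul' := fun c x => ?_ }, fun x => rfl⟩
    · simp only [map_add, R.add_left, add_div, add_smul]; abel
    · simp only [map_smul, R.smul_left, mul_div_assoc, mul_smul, smul_sub, RingHom.id_apply]
  have h1u : f e₁ u = 0 := he₁ ▸ hPu a
  have h1v : f e₁ v = 0 := he₁ ▸ hPv a
  have h2u : ∀ x, f (P₂ x) u = 0 := fun x => by rw [hP₂, R.sub_left, R.smul_left, hPu, h1u, mul_zero, sub_zero]
  have h2v : ∀ x, f (P₂ x) v = 0 := fun x => by rw [hP₂, R.sub_left, R.smul_left, hPv, h1v, mul_zero, sub_zero]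
  have h21 : ∀ x, f (P₂ x) e₁ = 0 := fun x => hP₂ x ▸ R.sub_perp ha (P x)
  have h2c : ∀ x, C x = x → C (P₂ x) = P₂ x := fun x hx => by
    rw [hP₂]
    exact R.fx_sub (hPc x hx) (R.fx_smul h1c (by rw [map_div₀, R.real (hPc x hx) h1c, R.real h1c h1c]))
  obtain ⟨b, hbc, hb⟩ := R.exists_aniso P₂ h2c (fun x y => by
      rw [hP₂ y, hP y, R.sub_right, R.sub_right, R.sub_right, R.smul_right, R.smul_right, R.smul_right, h2u, h2v,
        h21, mul_zero, mul_zero, mul_zero, sub_zero, sub_zero, sub_zero]) (by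
      obtain ⟨x, hx⟩ := R.exists_notMem_span {u, v, e₁} Finset.card_le_three
      refine ⟨x, fun h => hx ?_⟩
      rw [hP₂, hP, sub_eq_zero, sub_eq_iff_eq_add', sub_eq_iff_eq_add'] at h
      rw [h]
      exact Submodule.add_mem _ (Submodule.smul_mem _ _ (Submodule.subset_span (by simp)))
        (Submodule.add_mem _ (Submodule.smul_mem _ _ (Submodule.subset_span (by simp)))
          (Submodule.smul_mem _ _ (Submodule.subset_span (by simp)))))
  exact ⟨v, e₁, P₂ b,
    { cu := hu, cv := hvc, c1 := h1c, c2 := h2c b hbc, uu := huu, vv := hvv, uv := huv, vu := hvu,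
      u1 := R.perp_symm h1u, i1u := h1u, v1 := R.perp_symm h1v, i1v := h1v,
      u2 := R.perp_symm (h2u b), i2u := h2u b, v2 := R.perp_symm (h2v b), i2v := h2v b,
      i12 := R.perp_symm (h21 b), i21 := h21 b, q1 := ha, q2 := hb }⟩

end RS

/-- the matrix `x ↦ x + f(x,u) y + (s f(x,u) - f(x,y)) u` -/
def eMat (f : (Fin 4 → F) → (Fin 4 → F) → F) (u y : (Fin 4 → F)) (s : F) : (Matrix (Fin 4) (Fin 4) F) :=
  1 + vecMulVec y (hDual f u) + vecMulVec u (s • hDual f u - hDual f y)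

theorem eMat_mulVec (R : RS σ f C q) (u y : (Fin 4 → F)) (s : F) (x : (Fin 4 → F)) :
    eMat f u y s *ᵥ x = x + f x u • y + (s * f x u - f x y) • u := by
  rw [eMat, add_mulVec, add_mulVec, one_mulVec, vecMulVec_mulVec, vecMulVec_mulVec, sub_dotProduct,
    smul_dotProduct, hDual_dot R.form, hDual_dot R.form, smul_eq_mul]
  simp only [op_smul_eq_smul]

theorem eMat_mul (R : RS σ f C q) {u y y' : (Fin 4 → F)} (huu : f u u = 0) (huy : f u y = 0) (hyu : f y' u = 0) (s s' : F) :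
    eMat f u y s * eMat f u y' s' = eMat f u (y + y') (s + s' - f y' y) := by
  refine Matrix.ext_of_mulVec_single fun i => ?_
  rw [← mulVec_mulVec, eMat_mulVec R, eMat_mulVec R, eMat_mulVec R]
  simp only [R.add_left, R.add_right, R.smul_left, huu, huy, hyu, mul_zero, add_zero]
  module

theorem eMat_zero (R : RS σ f C q) (u : (Fin 4 → F)) : eMat f u 0 0 = 1 := by
  refine Matrix.ext_of_mulVec_single fun i => ?_
  rw [eMat_mulVec R, one_mulVec, R.zero_right]
  module

theorem eMat_det (R : RS σ f C q) {u y : (Fin 4 → F)} (huu : f u u = 0) (huy : f u y = 0) (s : F) :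
    (eMat f u y s).det = 1 := by
  obtain ⟨A, hA⟩ : ∃ A : Matrix (Fin 4) (Fin 2) F, A = Matrix.of fun i j => ![y i, u i] j := ⟨_, rfl⟩
  obtain ⟨B, hB⟩ : ∃ B : Matrix (Fin 2) (Fin 4) F, B = Matrix.of ![hDual f u, s • hDual f u - hDual f y] :=
    ⟨_, rfl⟩
  have e : eMat f u y s = 1 + A * B := by
    ext i j
    simp [eMat, hA, hB, Matrix.mul_apply, Fin.sum_univ_two, vecMulVec_apply, add_assoc]
  rw [e, Matrix.det_one_add_mul_comm]
  have hyu : f y u = 0 := R.perp_symm huy
  have h : B * A = !![f y u, f u u; s * f y u - f y y, s * f u u - f u y] := by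
    ext i j
    fin_cases i <;> fin_cases j <;>
      simp [hA, hB, Matrix.mul_apply, ← hDual_dot R.form, dotProduct, Finset.mul_sum, sub_mul, mul_assoc]
  rw [h, Matrix.det_fin_two]
  simp [huu, huy, hyu]

/-- the unipotent element -/
def eGL (R : RS σ f C q) (u y : (Fin 4 → F)) (s : F) (huu : f u u = 0) (huy : f u y = 0) : (GL (Fin 4) F) where
  val := eMat f u y s
  inv := eMat f u (-y) (-s - f y y)
  val_inv := by
    rw [eMat_mul R huu huy (by rw [R.neg_left, R.perp_symm huy, neg_zero]), R.neg_left, add_neg_cancel,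
      show s + (-s - f y y) - -f y y = 0 by ring, eMat_zero R]
  inv_val := by
    rw [eMat_mul R huu (by rw [R.neg_right, huy, neg_zero]) (R.perp_symm huy), R.neg_right, neg_add_cancel,
      show -s - f y y + s - -f y y = 0 by ring, eMat_zero R]

theorem eGL_apply (R : RS σ f C q) {u y : (Fin 4 → F)} (s : F) (huu : f u u = 0) (huy : f u y = 0) (x : (Fin 4 → F)) :
    ap (eGL R u y s huu huy) x = x + f x u • y + (s * f x u - f x y) • u := eMat_mulVec R u y s x

theorem eGL_inS (R : RS σ f C q) {u y : (Fin 4 → F)} {s : F} (huu : f u u = 0) (huy : f u y = 0)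
    (hs : s + σ s = -f y y) : InS f (eGL R u y s huu huy) := by
  refine ⟨fun a b => ?_, eMat_det R huu huy s⟩
  rw [eGL_apply, eGL_apply]
  simp only [R.add_left, R.add_right, R.smul_left, R.smul_right, huu, huy, R.perp_symm huy, map_sub, map_mul]
  rw [R.form.herm u b, R.form.herm y b]
  linear_combination (f a u * σ (f b u)) * hs

end CfsgLib.MaxSub.SuReal
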