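import Cfsg.Agent.Lib.MaxSub.SuRealPair

/-!
The counting argument: an element outside the rational group sends some rational point into the perp of
another, since otherwise too many totally isotropic lines would be in general position to a rational point.
-/

set_option autoImplicit false
set_option linter.unusedSectionVars false

namespace CfsgLib.MaxSub.SuReal

open Matrix
open scoped MatrixGroups

variable {F : Type*} [Field F] [Fintype F]
variable {σ : F ≃+* F} {f : (Fin 4 → F) → (Fin 4 → F) → F} {C : (Fin 4 → F) → (Fin 4 → F)} {q : ℕ}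
variable {M : Subgroup (GL (Fin 4) F)}

namespace RS

variable (R : RS σ f C q)
include R

theorem card_fixed : Nat.card {x : F // σ x = x} = q := by
  obtain ⟨θ, hθ0, hθ⟩ := R.exists_theta
  have hb : Function.Bijective (fun p : {x : F // σ x = x} × {x : F // σ x = x} => (p.1 : F) + θ * (p.2 : F)) := by
    refine ⟨fun a b h => ?_, fun x => ?_⟩
    · simp only at h
      have h' := congrArg σ h
      simp only [map_add, map_mul, hθ, a.1.2, a.2.2, b.1.2, b.2.2] at h'
      have h1 : (2 : F) * ((a.1 : F) - b.1) = 0 := by linear_combination h + h'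
      have h2 : (2 * θ) * ((a.2 : F) - b.2) = 0 := by linear_combination h - h'
      exact Prod.ext (Subtype.ext (sub_eq_zero.1 ((mul_eq_zero.1 h1).resolve_left R.two)))
        (Subtype.ext (sub_eq_zero.1 ((mul_eq_zero.1 h2).resolve_left (mul_ne_zero R.two hθ0))))
    · refine ⟨(⟨(x + σ x) / 2, R.half (by rw [map_add, R.ss, add_comm])⟩,
        ⟨(x - σ x) / (2 * θ), ?_⟩), ?_⟩
      · rw [map_div₀, map_sub, R.ss, map_mul, hθ, map_ofNat, mul_neg, div_neg, ← neg_div, neg_sub]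
      · show (x + σ x) / 2 + θ * ((x - σ x) / (2 * θ)) = x
        field_simp [R.two]
        ring
  have h := Nat.card_eq_of_bijective _ hb
  rw [Nat.card_prod, Nat.card_eq_fintype_card (α := F), R.card] at h
  nlinarith

theorem card_anti_le : Nat.card {x : F // σ x = -x} ≤ q := by
  obtain ⟨θ, hθ0, hθ⟩ := R.exists_theta
  refine le_trans (Nat.card_le_card_of_injective (fun x : {x : F // σ x = -x} =>
    (⟨(x : F) / θ, by rw [map_div₀, x.2, hθ, neg_div_neg_eq]⟩ : {x : F // σ x = x})) fun a b h =>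
      Subtype.ext ((div_left_inj' hθ0).1 (congrArg Subtype.val h))) R.card_fixed.le

theorem card_norm_le (c : F) : Nat.card {η : F // η * σ η = c} ≤ q + 1 := by
  classical
  rw [Nat.card_eq_fintype_card, Fintype.card_subtype]
  refine le_trans (Finset.card_le_card (t := (Polynomial.nthRoots (q + 1) c).toFinset) fun η hη => ?_)
    (le_trans (Multiset.toFinset_card_le _) (Polynomial.card_nthRoots _ _))
  rw [Finset.mem_filter] at hη
  rw [Multiset.mem_toFinset, Polynomial.mem_nthRoots (Nat.succ_pos q), pow_succ', ← R.pow]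
  exact hη.2

theorem card_norm_nonreal {c : F} (hc : c ≠ 0) (hcs : σ c = c) :
    q - 1 ≤ Nat.card {η : F // η * σ η = c ∧ σ η ≠ η} := by
  classical
  obtain ⟨θ, hθ0, hθ⟩ := R.exists_theta
  obtain ⟨η₀, hη₀⟩ := exists_norm_eq R.form hcs
  have hη0 : η₀ ≠ 0 := fun h => hc (by rw [← hη₀, h, zero_mul])
  have hne : ∀ t : {x : F // σ x = x}, (t : F) - θ ≠ 0 ∧ (t : F) + θ ≠ 0 := fun t =>
    ⟨fun h => by
      have e := congrArg σ h
      rw [map_sub, t.2, hθ, map_zero] at e
      exact mul_ne_zero R.two hθ0 (by linear_combination e - h),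
    fun h => by
      have e := congrArg σ h
      rw [map_add, t.2, hθ, map_zero] at e
      exact mul_ne_zero R.two hθ0 (by linear_combination h - e)⟩
  let w : Option {x : F // σ x = x} → {η : F // η * σ η = c} := fun o => o.elim ⟨η₀, hη₀⟩ fun t =>
    ⟨η₀ * (((t : F) + θ) / ((t : F) - θ)), by
      rw [map_mul, map_div₀, map_add, map_sub, t.2, hθ, sub_neg_eq_add, ← sub_eq_add_neg, ← hη₀]
      field_simp [(hne t).1, (hne t).2]⟩
  have hinj : Function.Injective w := by
    rintro (_ | a) (_ | b) h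
    · rfl
    · have e : η₀ = η₀ * (((b : F) + θ) / ((b : F) - θ)) := congrArg Subtype.val h
      field_simp [(hne b).1] at e
      exact (mul_ne_zero R.two hθ0 (by linear_combination -e)).elim
    · have e : η₀ * (((a : F) + θ) / ((a : F) - θ)) = η₀ := congrArg Subtype.val h
      field_simp [(hne a).1] at e
      exact (mul_ne_zero R.two hθ0 (by linear_combination e)).elim
    · have e : η₀ * (((a : F) + θ) / ((a : F) - θ)) = η₀ * (((b : F) + θ) / ((b : F) - θ)) :=
        congrArg Subtype.val h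
      field_simp [(hne a).1, (hne b).1] at e
      refine congrArg some (Subtype.ext (sub_eq_zero.1
        ((mul_eq_zero.1 ?_).resolve_left (mul_ne_zero R.two hθ0))))
      linear_combination -e
  have h1 := Nat.card_le_card_of_injective w hinj
  rw [Nat.card_eq_fintype_card, Fintype.card_option, ← Nat.card_eq_fintype_card, R.card_fixed,
    Nat.card_eq_fintype_card, Fintype.card_subtype] at h1
  rw [Nat.card_eq_fintype_card, Fintype.card_subtype, ← Finset.filter_filter]
  have h2 := Finset.card_filter_add_card_filter_not (s := Finset.univ.filter fun η : F => η * σ η = c)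
    (fun η => σ η ≠ η)
  have h3 : ((Finset.univ.filter fun η : F => η * σ η = c).filter fun η => ¬ σ η ≠ η).card ≤ 2 := by
    refine le_trans (Finset.card_le_card (t := (Polynomial.nthRoots 2 c).toFinset) fun η hη => ?_)
      (le_trans (Multiset.toFinset_card_le _) (Polynomial.card_nthRoots _ _))
    simp only [Finset.mem_filter, not_not] at hη
    rw [Multiset.mem_toFinset, Polynomial.mem_nthRoots (by norm_num), sq]
    rw [hη.2] at hη
    exact hη.1.2
  omega

end RS

/-- first vector of the normal form of a line -/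
def lineD (u e₁ e₂ : Fin 4 → F) (α η : F) : Fin 4 → F := α • u + e₁ + η • e₂

/-- second vector of the normal form of a line -/
def lineZ (σ : F ≃+* F) (f : (Fin 4 → F) → (Fin 4 → F) → F) (u v e₂ : Fin 4 → F) (α η j : F) : Fin 4 → F :=
  v + σ (-α / (η * f e₂ e₂)) • e₂ +
    (j - σ (-α / (η * f e₂ e₂)) * (-α / (η * f e₂ e₂)) * f e₂ e₂ / 2) • u

namespace Fr

variable {u v e₁ e₂ : Fin 4 → F}

theorem line_ti (fr : Fr f C u v e₁ e₂) (R : RS σ f C q) {α η j : F}
    (hη : η * σ η = -f e₁ e₁ / f e₂ e₂) (hj : σ j = -j) (p r p' r' : F) :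
    f (p • lineD u e₁ e₂ α η + r • lineZ σ f u v e₂ α η j)
      (p' • lineD u e₁ e₂ α η + r' • lineZ σ f u v e₂ α η j) = 0 := by
  have hη0 : η ≠ 0 := fun h => by
    rw [h, zero_mul, eq_comm, neg_div, neg_eq_zero] at hη
    exact div_ne_zero fr.q1 fr.q2 hη
  have hB : σ (f e₂ e₂) = f e₂ e₂ := R.real fr.c2 fr.c2
  obtain ⟨γ, hγ⟩ : ∃ γ, γ = -α / (η * f e₂ e₂) := ⟨_, rfl⟩
  have hαγ : α = -(γ * η * f e₂ e₂) := by
    rw [hγ]; field_simp [fr.q2]
  have hN : f e₁ e₁ + η * σ η * f e₂ e₂ = 0 := by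
    rw [hη]; field_simp [fr.q2]; ring
  have hdd : f (lineD u e₁ e₂ α η) (lineD u e₁ e₂ α η) = 0 := by
    simp only [lineD, R.add_left, R.add_right, R.smul_left, R.smul_right, fr.uu, fr.u1, fr.u2, fr.i1u, fr.i2u,
      fr.i12, fr.i21]
    linear_combination hN
  have hdz : f (lineD u e₁ e₂ α η) (lineZ σ f u v e₂ α η j) = 0 := by
    simp only [lineD, lineZ, ← hγ, R.add_left, R.add_right, R.smul_left, R.smul_right, R.ss, fr.uu, fr.uv,
      fr.u1, fr.u2, fr.i1u, fr.i2u, fr.i1v, fr.i2v, fr.i12]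
    linear_combination hαγ
  have hzz : f (lineZ σ f u v e₂ α η j) (lineZ σ f u v e₂ α η j) = 0 := by
    simp only [lineZ, ← hγ, R.add_left, R.add_right, R.smul_left, R.smul_right, R.ss, fr.vv, fr.uu, fr.vu,
      fr.uv, fr.v2, fr.i2v, fr.u2, fr.i2u, map_sub, map_div₀, map_mul, map_ofNat, hB, hj]
    field_simp [R.two]
    ring
  simp only [R.add_left, R.add_right, R.smul_left, R.smul_right, hdd, hdz, R.perp_symm hdz, hzz, mul_zero,
    add_zero]

theorem exists_line (fr : Fr f C u v e₁ e₂) (R : RS σ f C q) {a c : Fin 4 → F} (haa : f a a = 0)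
    (hac : f a c = 0) (hcc : f c c = 0) (hau : f a u ≠ 0) (hind : ∀ t : F, c ≠ t • a) :
    ∃ α η j : F, η * σ η = -f e₁ e₁ / f e₂ e₂ ∧ σ j = -j ∧
      (∃ p r : F, a = p • lineD u e₁ e₂ α η + r • lineZ σ f u v e₂ α η j) ∧
      (∃ p r : F, c = p • lineD u e₁ e₂ α η + r • lineZ σ f u v e₂ α η j) := by
  obtain ⟨a', ha'⟩ : ∃ a', a' = (f a u)⁻¹ • a := ⟨_, rfl⟩
  have ha'u : f a' u = 1 := by rw [ha', R.smul_left, inv_mul_cancel₀ hau]
  have ha'a : f a' a' = 0 := by rw [ha', R.smul_left, R.smul_right, haa, mul_zero, mul_zero]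
  have ha'c : f a' c = 0 := by rw [ha', R.smul_left, hac, mul_zero]
  obtain ⟨c', hc'⟩ : ∃ c', c' = c - f c u • a' := ⟨_, rfl⟩
  have hc'u : f c' u = 0 := by rw [hc', R.sub_left, R.smul_left, ha'u, mul_one, sub_self]
  have hc'a : f c' a' = 0 := by rw [hc', R.sub_left, R.smul_left, R.perp_symm ha'c, ha'a, mul_zero, sub_zero]
  have hc'c : f c' c' = 0 := by
    rw [hc', R.sub_left, R.sub_right, R.sub_right, R.smul_left, R.smul_left, R.smul_right, R.smul_right, hcc,
      ha'a, ha'c, R.perp_symm ha'c]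
    ring
  have hdec : c' = f c' v • u + (f c' e₁ / f e₁ e₁) • e₁ + (f c' e₂ / f e₂ e₂) • e₂ := by
    conv_lhs => rw [fr.decomp R c', hc'u, zero_smul, add_zero]
  obtain ⟨δ, hδ⟩ : ∃ δ, δ = f c' e₁ / f e₁ e₁ := ⟨_, rfl⟩
  rw [← hδ] at hdec
  obtain ⟨ε, hε⟩ : ∃ ε, ε = f c' e₂ / f e₂ e₂ := ⟨_, rfl⟩
  rw [← hε] at hdec
  have hnorm : δ * σ δ * f e₁ e₁ + ε * σ ε * f e₂ e₂ = 0 := by
    have e := hc'c
    rw [hdec] at e
    simp only [R.add_left, R.add_right, R.smul_left, R.smul_right, fr.uu, fr.u1, fr.u2, fr.i1u, fr.i2u, fr.i12,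
      fr.i21] at e
    linear_combination e
  have hδ0 : δ ≠ 0 := fun h => by
    rw [h, zero_mul, zero_mul, zero_add] at hnorm
    have hε0 : ε = 0 := by
      rcases mul_eq_zero.1 ((mul_eq_zero.1 hnorm).resolve_right fr.q2) with h' | h'
      · exact h'
      · exact (map_eq_zero σ).1 h'
    rw [h, hε0, zero_smul, zero_smul, add_zero, add_zero] at hdec
    have e := hc'a
    rw [hdec, R.smul_left, R.form.herm u a', ha'u, map_one, mul_one] at e
    rw [e, zero_smul, hc', sub_eq_zero, ha', smul_smul] at hdec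
    exact hind _ hdec
  obtain ⟨η, hη⟩ : ∃ η, η = ε / δ := ⟨_, rfl⟩
  obtain ⟨α, hα⟩ : ∃ α, α = f c' v / δ := ⟨_, rfl⟩
  have hηN : η * σ η = -f e₁ e₁ / f e₂ e₂ := by
    rw [hη, map_div₀]
    field_simp [fr.q2, hδ0, (map_ne_zero σ).2 hδ0]
    linear_combination hnorm
  have hη0 : η ≠ 0 := fun h => by
    rw [h, zero_mul, eq_comm, neg_div, neg_eq_zero] at hηN
    exact div_ne_zero fr.q1 fr.q2 hηN
  have hd : c' = δ • lineD u e₁ e₂ α η := by
    rw [lineD, smul_add, smul_add, smul_smul, smul_smul, hα, hη, mul_div_cancel₀ _ hδ0, mul_div_cancel₀ _ hδ0]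
    exact hdec
  obtain ⟨p, hp⟩ : ∃ p, p = f a' e₁ / f e₁ e₁ := ⟨_, rfl⟩
  obtain ⟨z, hz⟩ : ∃ z, z = a' - p • lineD u e₁ e₂ α η := ⟨_, rfl⟩
  have hDu : f (lineD u e₁ e₂ α η) u = 0 := by
    simp only [lineD, R.add_left, R.smul_left, fr.uu, fr.i1u, fr.i2u, mul_zero, add_zero]
  have hzu : f z u = 1 := by rw [hz, R.sub_left, R.smul_left, ha'u, hDu, mul_zero, sub_zero]
  have hz1 : f z e₁ = 0 := by
    rw [hz, R.sub_left, R.smul_left, hp]
    simp only [lineD, R.add_left, R.smul_left, fr.u1, fr.i21, mul_zero, add_zero, zero_add]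
    rw [div_mul_cancel₀ _ fr.q1, sub_self]
  have hDa : f (lineD u e₁ e₂ α η) a' = 0 := by
    have e := hc'a
    rw [hd, R.smul_left] at e
    exact (mul_eq_zero.1 e).resolve_left hδ0
  have hDD : f (lineD u e₁ e₂ α η) (lineD u e₁ e₂ α η) = 0 := by
    have e := hc'c
    rw [hd, R.smul_left, R.smul_right, ← mul_assoc] at e
    exact (mul_eq_zero.1 e).resolve_left (mul_ne_zero hδ0 ((map_ne_zero σ).2 hδ0))
  have hzz : f z z = 0 := by
    rw [hz, R.sub_left, R.sub_right, R.sub_right, R.smul_left, R.smul_left, R.smul_right, R.smul_right, ha'a,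
      hDa, R.perp_symm hDa, hDD]
    ring
  have hDz : f (lineD u e₁ e₂ α η) z = 0 := by
    rw [hz, R.sub_right, R.smul_right, hDa, hDD, mul_zero, sub_zero]
  obtain ⟨γ, hγ⟩ : ∃ γ, γ = f z e₂ / f e₂ e₂ := ⟨_, rfl⟩
  have hzdec : z = f z v • u + v + γ • e₂ := by
    conv_lhs => rw [fr.decomp R z, hzu, hz1, zero_div, zero_smul, add_zero, one_smul, ← hγ]
  have hγ' : γ = σ (-α / (η * f e₂ e₂)) := by
    have e := hDz
    rw [hzdec] at e
    simp only [lineD, R.add_left, R.add_right, R.smul_left, R.smul_right, fr.uu, fr.uv, fr.i1u, fr.i2u, fr.i1v,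
      fr.i2v, fr.u2, fr.i12] at e
    have e' : σ γ = -α / (η * f e₂ e₂) := by
      rw [eq_div_iff (mul_ne_zero hη0 fr.q2)]
      linear_combination e
    rw [← e', R.ss]
  have hB : σ (f e₂ e₂) = f e₂ e₂ := R.real fr.c2 fr.c2
  obtain ⟨j, hj⟩ : ∃ j, j = f z v + γ * σ γ * f e₂ e₂ / 2 := ⟨_, rfl⟩
  have hjσ : σ j = -j := by
    have e := hzz
    rw [hzdec] at e
    simp only [R.add_left, R.add_right, R.smul_left, R.smul_right, fr.uu, fr.vv, fr.uv, fr.vu, fr.i2u, fr.i2v,
      fr.u2, fr.v2] at e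
    rw [hj, map_add, map_div₀, map_mul, map_mul, R.ss, hB, map_ofNat]
    field_simp [R.two]
    linear_combination 2 * e
  have hzL : z = lineZ σ f u v e₂ α η j := by
    conv_lhs => rw [hzdec]
    rw [lineZ, ← hγ', show -α / (η * f e₂ e₂) = σ γ by rw [hγ', R.ss], hj, add_sub_cancel_right]
    abel
  have ha : a' = p • lineD u e₁ e₂ α η + lineZ σ f u v e₂ α η j := by rw [← hzL, hz]; abel
  refine ⟨α, η, j, hηN, hjσ, ⟨f a u * p, f a u, ?_⟩, ⟨δ + f c u * p, f c u, ?_⟩⟩
  · rw [mul_smul, ← smul_add, ← ha, ha', smul_inv_smul₀ hau]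
  · calc c = c' + f c u • a' := by rw [hc']; abel
      _ = _ := by rw [hd, ha]; module

end Fr

namespace RS

variable (R : RS σ f C q)
include R

/-- an element outside gives a pair -/
theorem pair_of_outside (S : Sub f C M) (NT : NoTv f C M) {g : GL (Fin 4) F} (hg : g ∈ M)
    (hgc : ¬ Com C g) : Pair f C M := by
  classical
  by_contra hno
  obtain ⟨u₀, hu₀, hu₀0, hu₀u⟩ := R.exists_iso
  obtain ⟨v, e₁, e₂, fr⟩ := R.exists_frame hu₀ hu₀0 hu₀u
  obtain ⟨u, rfl⟩ : ∃ u, u = u₀ := ⟨_, rfl⟩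
  have hu : IsPt f C u := fr.pt R
  let K := {x : F // σ x = x}
  let w : K × K → Fin 4 → F := fun p => Fr.wv e₁ e₂ (p.1 : F) (p.2 : F)
  have hw : ∀ p, C (w p) = w p := fun p => fr.wv_fix R p.1.2 p.2.2
  have hwu : ∀ p, f u (w p) = 0 := fun p => (fr.wv_eval R _ _).2.1
  have hwn : ∀ p, -f (w p) (w p) / 2 + σ (-f (w p) (w p) / 2) = -f (w p) (w p) := fun p => R.half_trace (hw p)
  choose E hES hEC hE using fun p => R.exists_EU hu.cu (hw p) hu.uu (hwu p)
  have hgiso : Isom f g := (S.inS g hg).isom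
  -- images of the two vectors spanning the base lines
  have hEv : ∀ p, ap (E p) v = v + w p + (-f (w p) (w p) / 2) • u := fun p => by
    rw [hE p, fr.vu, (fr.wv_eval R _ _).2.2.1, one_smul, mul_one, sub_zero]
  have hEpt : ∀ p, IsPt f C (ap (E p) v) := fun p => by
    refine ⟨?_, ap_ne_zero _ fun h => one_ne_zero (α := F) (by rw [← fr.vu, h, R.zero_left]), ?_⟩
    · rw [hEv]
      exact R.fx_add (R.fx_add fr.cv (hw p)) (R.fx_smul hu.cu (R.half (by rw [map_neg, R.real (hw p) (hw p)])))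
    · rw [(hES p).isom, fr.vv]
  have hEξ : ∀ p (η : F), ap (E p) (e₁ + η • e₂) = e₁ + η • e₂ + (-f (e₁ + η • e₂) (w p)) • u := fun p η => by
    have h0 : f (e₁ + η • e₂) u = 0 := by rw [R.add_left, R.smul_left, fr.i1u, fr.i2u, mul_zero, add_zero]
    rw [hE p, h0, mul_zero, zero_sub, zero_smul, add_zero]
  obtain ⟨c₀, hc₀⟩ : ∃ c₀, c₀ = -f e₁ e₁ / f e₂ e₂ := ⟨_, rfl⟩
  have hξ : ∀ η : F, η * σ η = c₀ → f (e₁ + η • e₂) (e₁ + η • e₂) = 0 ∧ f v (e₁ + η • e₂) = 0 := fun η hη => by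
    refine ⟨?_, ?_⟩
    · simp only [R.add_left, R.add_right, R.smul_left, R.smul_right, fr.i12, fr.i21]
      have : f e₁ e₁ + η * σ η * f e₂ e₂ = 0 := by rw [hη, hc₀]; field_simp [fr.q2]; ring
      linear_combination this
    · rw [R.add_right, R.smul_right, fr.v1, fr.v2, mul_zero, add_zero]
  let N' := {η : F // η * σ η = c₀ ∧ σ η ≠ η}
  let P : (K × K) × (K × K) × N' → Fin 4 → F := fun i => ap (E i.1) (ap g (ap (E i.2.1) v))
  let Q : (K × K) × (K × K) × N' → Fin 4 → F := fun i =>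
    ap (E i.1) (ap g (ap (E i.2.1) (e₁ + (i.2.2 : F) • e₂)))
  have hall : ∀ i, ∃ α η j : F, η * σ η = c₀ ∧ σ j = -j ∧
      (∃ p r : F, P i = p • lineD u e₁ e₂ α η + r • lineZ σ f u v e₂ α η j) ∧
      (∃ p r : F, Q i = p • lineD u e₁ e₂ α η + r • lineZ σ f u v e₂ α η j) := fun i => by
    obtain ⟨h1, h2⟩ := hξ i.2.2 i.2.2.2.1
    rw [hc₀]
    refine fr.exists_line R ?_ ?_ ?_ (fun h => ?_) fun t ht => ?_
    · show f (ap (E i.1) _) (ap (E i.1) _) = 0
      rw [(hES _).isom, hgiso, (hES _).isom, fr.vv]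
    · show f (ap (E i.1) _) (ap (E i.1) _) = 0
      rw [(hES _).isom, hgiso, (hES _).isom, h2]
    · show f (ap (E i.1) _) (ap (E i.1) _) = 0
      rw [(hES _).isom, hgiso, (hES _).isom, h1]
    · have e : f (ap g (ap (E i.2.1) v)) u = 0 := by
        rw [← (hES i.1).isom (ap g _) u, (hE i.1).fix R hu.uu (hwu _)]
        exact h
      exact hno ⟨g, hg, hgc, u, _, hu, hEpt _, R.perp_symm e⟩
    · have e : e₁ + (i.2.2 : F) • e₂ = t • v := by
        have e := congrArg (fun x => ap (E i.2.1)⁻¹ (ap g⁻¹ (ap (E i.1)⁻¹ x))) ht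
        simpa only [P, Q, ap_smul, inv_ap] using e
      have e' := congrArg (fun x => f x e₁) e
      simp only [R.add_left, R.smul_left, fr.i21, fr.v1, mul_zero, add_zero] at e'
      exact fr.q1 e'
  choose α η j hη hj hP hQ using hall
  have hinj : Function.Injective fun i =>
      ((α i, ⟨η i, hη i⟩, ⟨j i, hj i⟩) : F × {η : F // η * σ η = c₀} × {x : F // σ x = -x}) := by
    rintro ⟨s, y, x⟩ ⟨s', y', x'⟩ h
    simp only [Prod.mk.injEq, Subtype.mk.injEq] at h
    obtain ⟨h1, h2, h3⟩ := h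
    have hti : ∀ A B, (∃ p r : F, A = p • lineD u e₁ e₂ (α ⟨s, y, x⟩) (η ⟨s, y, x⟩) +
          r • lineZ σ f u v e₂ (α ⟨s, y, x⟩) (η ⟨s, y, x⟩) (j ⟨s, y, x⟩)) →
        (∃ p r : F, B = p • lineD u e₁ e₂ (α ⟨s', y', x'⟩) (η ⟨s', y', x'⟩) +
          r • lineZ σ f u v e₂ (α ⟨s', y', x'⟩) (η ⟨s', y', x'⟩) (j ⟨s', y', x'⟩)) → f A B = 0 := by
      rintro A B ⟨p, r, rfl⟩ ⟨p', r', rfl⟩
      rw [← h1, ← h2, ← h3]
      exact fr.line_ti R (hc₀ ▸ hη _) (hj _) p r p' r'
    have hss : s = s' := by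
      obtain ⟨d, hd⟩ : ∃ d : K × K, d = (⟨s'.1.1 - s.1.1, by rw [map_sub, s.1.2, s'.1.2]⟩,
          ⟨s'.2.1 - s.2.1, by rw [map_sub, s.2.2, s'.2.2]⟩) := ⟨_, rfl⟩
      have hsum : w s + w d = w s' := by simp only [w, hd, Fr.wv]; module
      have hEd : E s * E d = E s' := by
        have e := (hE s).mul R (hE d) hu.uu (hwu s) (R.perp_symm (hwu d))
        rw [hsum] at e
        have hval : -f (w s) (w s) / 2 + -f (w d) (w d) / 2 - f (w d) (w s) = -f (w s') (w s') / 2 := by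
          rw [← hsum, R.add_left, R.add_right, R.add_right, R.symm (hw s) (hw d)]
          field_simp [R.two]
          ring
        rw [hval] at e
        exact e.uniq (hE s')
      by_contra hne
      obtain ⟨k, hk⟩ : ∃ k, k = g⁻¹ * E d * g := ⟨_, rfl⟩
      have hkE : IsE f k (ap g⁻¹ u) (ap g⁻¹ (w d)) (-f (w d) (w d) / 2) := by
        have e := (hE d).conj (h := g⁻¹) hgiso.inv
        rwa [inv_inv, ← hk] at e
      have hkM : k ∈ M := hk ▸ mul_mem (mul_mem (inv_mem hg) (S.mem _ (hES d) (hEC d))) hg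
      have hz : f (ap (E y) v) (ap k (ap (E y') v)) = 0 := by
        have e : f (P ⟨s, y, x⟩) (P ⟨s', y', x'⟩) = 0 := hti _ _ (hP _) (hP _)
        have e2 : P ⟨s', y', x'⟩ = ap (E s) (ap g (ap k (ap (E y') v))) := by
          simp only [P, hk, ap_mul, ap_inv, ← hEd]
        rw [e2, (hES s).isom, hgiso] at e
        exact e
      have hkc : Com C k := by
        by_contra hkc
        exact hno ⟨k, hkM, hkc, _, _, hEpt y, hEpt y', hz⟩
      refine hno (R.free S NT hg hgc hu (hwu d) (fun t ht => ?_) hkE hkc).2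
      have e1 := congrArg (fun x => f x e₁) ht
      have e2 := congrArg (fun x => f x e₂) ht
      simp only [w, hd, Fr.wv, R.add_left, R.smul_left, fr.u1, fr.u2, fr.i12, fr.i21, mul_zero, add_zero,
        zero_add, mul_eq_zero, fr.q1, fr.q2, or_false, sub_eq_zero] at e1 e2
      exact hne (Prod.ext (Subtype.ext e1.symm) (Subtype.ext e2.symm))
    subst hss
    obtain ⟨hx1, hx2⟩ := hξ x x.2.1
    have hred : ∀ A B, f (ap (E s) (ap g A)) (ap (E s) (ap g B)) = f A B := fun A B => by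
      rw [(hES s).isom, hgiso]
    have hQP : f (ap (E y) (e₁ + (x : F) • e₂)) (ap (E y') v) = 0 := by
      have e : f (Q ⟨s, y, x⟩) (P ⟨s, y', x'⟩) = 0 := hti _ _ (hQ _) (hP _)
      exact (hred _ _).symm.trans e
    have hQQ : f (ap (E y) (e₁ + (x : F) • e₂)) (ap (E y') (e₁ + (x' : F) • e₂)) = 0 := by
      have e : f (Q ⟨s, y, x⟩) (Q ⟨s, y', x'⟩) = 0 := hti _ _ (hQ _) (hQ _)
      exact (hred _ _).symm.trans e
    have hyy : y = y' := by
      rw [hEξ, hEv] at hQP
      simp only [w, Fr.wv, R.add_left, R.add_right, R.smul_left, R.smul_right, y.1.2, y.2.2, y'.1.2, y'.2.2,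
        fr.uu, fr.uv, fr.u1, fr.u2, fr.i1u, fr.i2u, fr.i1v, fr.i2v, fr.i12, fr.i21, mul_zero, add_zero,
        zero_add, mul_one] at hQP
      have e : ((y'.1 : F) - y.1) * f e₁ e₁ + (x : F) * (((y'.2 : F) - y.2) * f e₂ e₂) = 0 := by
        linear_combination hQP
      have e' := congrArg σ e
      rw [map_add, map_mul, map_mul, map_mul, map_sub, map_sub, y.1.2, y.2.2, y'.1.2, y'.2.2,
        R.real fr.c1 fr.c1, R.real fr.c2 fr.c2, map_zero] at e'
      have h4 : ((x : F) - σ (x : F)) * (((y'.2 : F) - y.2) * f e₂ e₂) = 0 := by linear_combination e - e'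
      have h5 := (mul_eq_zero.1 h4).resolve_left (sub_ne_zero.2 (Ne.symm x.2.2))
      rw [h5, mul_zero, add_zero] at e
      exact Prod.ext (Subtype.ext (sub_eq_zero.1 ((mul_eq_zero.1 e).resolve_right fr.q1)).symm)
        (Subtype.ext (sub_eq_zero.1 ((mul_eq_zero.1 h5).resolve_right fr.q2)).symm)
    subst hyy
    have hxx : (x : F) = x' := by
      rw [(hES y).isom] at hQQ
      simp only [R.add_left, R.add_right, R.smul_left, R.smul_right, fr.i12, fr.i21, mul_zero, add_zero,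
        zero_add] at hQQ
      have hN : f e₁ e₁ + (x : F) * σ (x : F) * f e₂ e₂ = 0 := by
        rw [x.2.1, hc₀]; field_simp [fr.q2]; ring
      have h6 : ((x : F) * f e₂ e₂) * (σ (x' : F) - σ (x : F)) = 0 := by linear_combination hQQ - hN
      have hx0 : (x : F) * f e₂ e₂ ≠ 0 := mul_ne_zero (fun h => x.2.2 (by rw [h, map_zero])) fr.q2
      exact (σ.injective (sub_eq_zero.1 ((mul_eq_zero.1 h6).resolve_left hx0))).symm
    rw [Subtype.ext hxx]
  have hcard := Nat.card_le_card_of_injective _ hinj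
  simp only [Nat.card_prod] at hcard
  have hK : Nat.card K = q := R.card_fixed
  have hN' : q - 1 ≤ Nat.card N' := R.card_norm_nonreal (hc₀ ▸ div_ne_zero (neg_ne_zero.2 fr.q1) fr.q2)
    (by rw [hc₀, map_div₀, map_neg, R.real fr.c1 fr.c1, R.real fr.c2 fr.c2])
  have hb1 := R.card_norm_le c₀
  have hb2 := R.card_anti_le
  rw [Nat.card_eq_fintype_card (α := F), R.card, hK] at hcard
  have h5 := R.five
  have e1 : q * q * (q * q) * (q - 1) ≤ q ^ 2 * ((q + 1) * q) :=
    le_trans (by rw [mul_assoc]; exact Nat.mul_le_mul_left _ (Nat.mul_le_mul_left _ hN'))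
      (hcard.trans (Nat.mul_le_mul_left _ (Nat.mul_le_mul hb1 hb2)))
  obtain ⟨t, rfl⟩ : ∃ t, q = t + 5 := ⟨q - 5, by omega⟩
  rw [show t + 5 - 1 = t + 4 by omega] at e1
  have hpos : 0 < (t + 5) * (t + 5) * (t + 5) := by positivity
  nlinarith

end RS

end CfsgLib.MaxSub.SuReal
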