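import Cfsg.Agent.Lib.MaxSub.SuRealPairFalse

/-!
A subgroup of `SU_4` properly above the rational group contains all unitary transvections.
-/

set_option autoImplicit false
set_option linter.unusedSectionVars false

namespace CfsgLib.MaxSub.SuReal

open Matrix
open scoped MatrixGroups

variable {F : Type*} [Field F] [Fintype F]
variable {σ : F ≃+* F} {f : (Fin 4 → F) → (Fin 4 → F) → F} {C : (Fin 4 → F) → (Fin 4 → F)} {q : ℕ}
variable {M : Subgroup (GL (Fin 4) F)}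

namespace RS

variable (R : RS σ f C q)
include R

theorem tv_add {u : Fin 4 → F} (huu : f u u = 0) {k k' : F} (h : Tv f M u k) (h' : Tv f M u k') :
    Tv f M u (k + k') := by
  obtain ⟨g, hg, hgE⟩ := h
  obtain ⟨g', hg', hgE'⟩ := h'
  have e := hgE.mul R hgE' huu (R.zero_right u) (R.zero_left u)
  rw [add_zero, R.zero_left, sub_zero] at e
  exact ⟨_, mul_mem hg hg', e⟩

/-- one transvection at a rational point gives all of them -/
theorem tv_all (S : Sub f C M) {u : Fin 4 → F} (hu : IsPt f C u) {k : F} (hk0 : k ≠ 0) (hk : Tv f M u k)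
    {k' : F} (hk' : k' + σ k' = 0) : Tv f M u k' := by
  obtain ⟨g, hg, hgE⟩ := hk
  have hks : k + σ k = 0 := hgE.trace R (S.inS g hg).isom hu.uu hu.ne
  obtain ⟨K, hK⟩ : ∃ K : Subfield F, ∀ x, x ∈ K ↔ σ x = x :=
    ⟨RingHom.eqLocusField σ.toRingHom (RingHom.id F), fun x => Iff.rfl⟩
  haveI : Fintype K := Fintype.ofFinite K
  obtain ⟨a, b, hab⟩ := CfsgLib.Geom.exists_binary_eq (F := K) (a := 1) (b := 1)
    (fun h => R.two (congrArg Subtype.val h)) one_ne_zero one_ne_zero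
    ⟨k' / k, (hK _).2 (by
      rw [map_div₀, eq_neg_of_add_eq_zero_right hk', eq_neg_of_add_eq_zero_right hks, neg_div_neg_eq])⟩
  have hsq : ∀ r : F, σ r = r → Tv f M u (r * r * k) := fun r hr => by
    rcases eq_or_ne r 0 with rfl | hr0
    · refine ⟨1, one_mem M, fun x => ?_⟩
      rw [ap_one, R.zero_right]; module
    obtain ⟨v, e₁, e₂, fr⟩ := R.exists_frame' hu
    obtain ⟨t, htS, htC, htu, -⟩ := R.exists_torus fr hr0 hr
    have e := hgE.conj htS.isom
    rw [htu, show ap t (0 : Fin 4 → F) = 0 from Matrix.mulVec_zero _] at e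
    have e' := e.scale R
    rw [smul_zero, hr] at e'
    exact ⟨_, mul_mem (mul_mem (S.mem t htS htC) hg) (inv_mem (S.mem t htS htC)), e'⟩
  have e := R.tv_add hu.uu (hsq a ((hK _).1 a.2)) (hsq b ((hK _).1 b.2))
  have hv : (a : F) * a + (b : F) * b = k' / k := by
    have := congrArg Subtype.val hab
    simpa using this
  rwa [← add_mul, hv, div_mul_cancel₀ _ hk0] at e

/-- all rational points are full once one has a transvection -/
theorem uFull_pt (S : Sub f C M) {u₀ : Fin 4 → F} (hu₀ : IsPt f C u₀) {k : F} (hk0 : k ≠ 0)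
    (hk : Tv f M u₀ k) {u : Fin 4 → F} (hu : IsPt f C u) : UFull σ f M u := by
  obtain ⟨t, htS, htC, htu⟩ := R.trans hu₀ hu
  refine ⟨hu.uu, fun c hc => ⟨by rw [smul_dotProduct, hDual_dot R.form, hu.uu, smul_zero], ?_⟩⟩
  obtain ⟨g, hg, hgE⟩ := R.tv_all S hu₀ hk0 hk hc
  have e := hgE.conj htS.isom
  rw [htu, show ap t (0 : Fin 4 → F) = 0 from Matrix.mulVec_zero _] at e
  refine ⟨_, mul_mem (mul_mem (S.mem t htS htC) hg) (inv_mem (S.mem t htS htC)),
    Matrix.ext_of_mulVec_single fun i => ?_⟩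
  rw [uTv_mulVec R.form]
  refine (e _).trans ?_
  rw [R.zero_right, smul_zero, add_zero, sub_zero]

/-- every isotropic vector outside the perp of a rational point is full -/
theorem uFull_nonorth (S : Sub f C M) (hfull : ∀ p, IsPt f C p → UFull σ f M p) {u v e₁ e₂ : Fin 4 → F}
    (fr : Fr f C u v e₁ e₂) {z : Fin 4 → F} (hzz : f z z = 0) (hzu : f z u = 1) : UFull σ f M z := by
  classical
  obtain ⟨θ, hθ0, hθ⟩ := R.exists_theta
  have hA : σ (f e₁ e₁) = f e₁ e₁ := R.real fr.c1 fr.c1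
  have hB : σ (f e₂ e₂) = f e₂ e₂ := R.real fr.c2 fr.c2
  obtain ⟨Z, hZ⟩ : ∃ Z : F → F → F → Fin 4 → F, ∀ a b s, Z a b s = v + Fr.wv e₁ e₂ a b + s • u :=
    ⟨_, fun _ _ _ => rfl⟩
  obtain ⟨n, hn⟩ : ∃ n : F → F → F, ∀ a b, n a b = a * σ a * f e₁ e₁ + b * σ b * f e₂ e₂ :=
    ⟨_, fun _ _ => rfl⟩
  have hnr : ∀ a b, σ (n a b) = n a b := fun a b => by
    rw [hn]; simp only [map_add, map_mul, R.ss, hA, hB]; ring
  have hZZ : ∀ a b s a' b' s', f (Z a b s) (Z a' b' s') =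
      s + σ s' + (a * σ a' * f e₁ e₁ + b * σ b' * f e₂ e₂) := fun a b s a' b' s' => by
    rw [hZ, hZ, ← fr.wv_form R]
    simp only [R.add_left, R.add_right, R.smul_left, R.smul_right, fr.vv, fr.uu, fr.uv, fr.vu,
      (fr.wv_eval R a b).1, (fr.wv_eval R a b).2.2.2, (fr.wv_eval R a' b').2.1, (fr.wv_eval R a' b').2.2.1]
    ring
  have hZu : ∀ a b s, f (Z a b s) u = 1 := fun a b s => by
    rw [hZ, R.add_left, R.add_left, R.smul_left, fr.vu, fr.uu, (fr.wv_eval R a b).1]; ring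
  obtain ⟨D, hD⟩ : ∃ D : F → F → Prop, ∀ a b, D a b ↔ ∀ s, f (Z a b s) (Z a b s) = 0 → UFull σ f M (Z a b s) :=
    ⟨_, fun _ _ => Iff.rfl⟩
  have hindep : ∀ a b s₀, UFull σ f M (Z a b s₀) → D a b := fun a b s₀ h => (hD a b).2 fun s hs => by
    have h0 := h.1
    rw [hZZ] at h0 hs
    obtain ⟨hd, g, hg, hgv⟩ := (hfull u (fr.pt R)).2 (s - s₀) (by rw [map_sub]; linear_combination hs - h0)
    have e := h.conj R.form hg (S.inS g hg).isom
    rw [hgv, uTv_mulVec R.form, hZu, mul_one] at e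
    convert e using 1
    rw [hZ, hZ]; module
  haveI : NeZero (2 : F) := ⟨R.two⟩
  have hreal : ∀ a b, σ a = a → σ b = b → D a b := fun a b ha hb => by
    refine hindep a b (-n a b / 2) (hfull _ ⟨?_, fun h => ?_, ?_⟩)
    · rw [hZ]
      exact R.fx_add (R.fx_add fr.cv (fr.wv_fix R ha hb)) (R.fx_smul fr.cu (R.half (by rw [map_neg, hnr])))
    · have := hZu a b (-n a b / 2)
      rw [h, R.zero_left] at this
      exact zero_ne_one this
    · rw [hZZ, R.half (a := -n a b) (by rw [map_neg, hnr]), add_halves, hn]; ring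
  have hcomb : ∀ a₁ b₁ a₂ b₂ t, D a₁ b₁ → D a₂ b₂ → σ t ≠ t → n (a₁ - a₂) (b₁ - b₂) ≠ 0 →
      D ((1 - t) * a₂ + t * a₁) ((1 - t) * b₂ + t * b₁) := fun a₁ b₁ a₂ b₂ t h1 h2 ht hQ0 => by
    obtain ⟨G, hG⟩ : ∃ G, G = a₂ * σ a₁ * f e₁ e₁ + b₂ * σ b₁ * f e₂ e₂ := ⟨_, rfl⟩
    obtain ⟨Q, hQ⟩ : ∃ Q, Q = n (a₁ - a₂) (b₁ - b₂) := ⟨_, rfl⟩
    rw [← hQ] at hQ0
    have hQG : G + σ G = n a₁ b₁ + n a₂ b₂ - Q := by
      rw [hQ, hG, hn, hn, hn]; simp only [map_add, map_sub, map_mul, R.ss, hA, hB]; ring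
    obtain ⟨μ, hμ⟩ : ∃ μ, μ = (1 - t) * σ t := ⟨_, rfl⟩
    have hμd : μ - σ μ ≠ 0 := by
      intro h
      refine ht ?_
      rw [hμ, map_mul, map_sub, map_one, R.ss] at h
      linear_combination h
    obtain ⟨ξ, hξ⟩ : ∃ ξ, ξ = Q / 2 * ((μ + σ μ) / (μ - σ μ)) := ⟨_, rfl⟩
    have hQr : σ Q = Q := hQ ▸ hnr _ _
    have hξs : σ ξ = -ξ := by
      rw [hξ, map_mul, map_div₀, map_div₀, map_ofNat, hQr, map_add, map_sub, R.ss, ← neg_sub μ (σ μ), div_neg,
        mul_neg, add_comm (σ μ)]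
    obtain ⟨i, hi⟩ : ∃ i, i = (G - σ G) / 2 - ξ := ⟨_, rfl⟩
    have his : σ i = -i := by
      rw [hi, map_sub, map_div₀, map_sub, R.ss, map_ofNat, hξs]; ring
    obtain ⟨s₁, hs₁⟩ : ∃ s₁, s₁ = -n a₁ b₁ / 2 + i := ⟨_, rfl⟩
    obtain ⟨s₂, hs₂⟩ : ∃ s₂, s₂ = -n a₂ b₂ / 2 := ⟨_, rfl⟩
    have hs₁' : σ s₁ = -n a₁ b₁ / 2 - i := by
      rw [hs₁, map_add, R.half (a := -n a₁ b₁) (by rw [map_neg, hnr]), his]; ring
    have hs₂' : σ s₂ = s₂ := hs₂ ▸ R.half (by rw [map_neg, hnr])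
    have z1 : f (Z a₁ b₁ s₁) (Z a₁ b₁ s₁) = 0 := by
      rw [hZZ, hs₁', hs₁, ← hn]; linear_combination -(add_halves (n a₁ b₁))
    have z2 : f (Z a₂ b₂ s₂) (Z a₂ b₂ s₂) = 0 := by
      rw [hZZ, hs₂', hs₂, ← hn]; linear_combination -(add_halves (n a₂ b₂))
    have hc : f (Z a₂ b₂ s₂) (Z a₁ b₁ s₁) = -Q / 2 + ξ := by
      rw [hZZ, hs₁', ← hG, hs₂, hi]
      field_simp [R.two]
      linear_combination hQG
    have hc0 : -Q / 2 + ξ ≠ 0 := fun h => by
      have e := congrArg σ h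
      rw [map_add, R.half (a := -Q) (by rw [map_neg, hQr]), hξs, map_zero] at e
      field_simp [R.two] at h e
      exact hQ0 ((mul_eq_zero.1 (show (2 : F) * Q = 0 by linear_combination -(h + e))).resolve_left R.two)
    have ht1 : (1 - t) ≠ 0 := fun h => ht (by rw [← sub_eq_zero.1 h, map_one])
    have ht0 : t ≠ 0 := fun h => ht (by rw [h, map_zero])
    have hxy : f ((1 - t) • Z a₂ b₂ s₂) (t • Z a₁ b₁ s₁) = μ * (-Q / 2 + ξ) := by
      rw [R.smul_left, R.smul_right, hc, hμ]; ring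
    have hsum : f ((1 - t) • Z a₂ b₂ s₂ + t • Z a₁ b₁ s₁) ((1 - t) • Z a₂ b₂ s₂ + t • Z a₁ b₁ s₁) = 0 := by
      rw [R.add_left, R.add_right, R.add_right, hxy, R.form.herm (t • Z a₁ b₁ s₁) ((1 - t) • Z a₂ b₂ s₂), hxy,
        R.smul_left, R.smul_right, z2, R.smul_left, R.smul_right, z1, map_mul, map_add, map_div₀, map_neg, hQr,
        map_ofNat, hξs, hξ]
      field_simp [R.two, hμd]
      ring
    have h := UFull.add R.form (((hD _ _).1 h2 _ z2).smul R.form (1 - t)) (((hD _ _).1 h1 _ z1).smul R.form t)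
      (by rw [hxy]; exact mul_ne_zero (hμ ▸ mul_ne_zero ht1 ((map_ne_zero σ).2 ht0)) hc0) hsum
    refine hindep _ _ ((1 - t) * s₂ + t * s₁) ?_
    convert h using 1
    rw [hZ, hZ, hZ, Fr.wv, Fr.wv, Fr.wv]; module
  have hax1 : ∀ a, D a 0 := fun a => by
    by_cases ha : σ a = a
    · exact hreal a 0 ha (map_zero σ)
    · have e := hcomb 1 0 0 0 a (hreal _ _ (map_one σ) (map_zero σ)) (hreal _ _ (map_zero σ) (map_zero σ)) ha
        (by rw [hn, map_sub, map_one, map_zero, sub_self, map_zero, zero_mul, zero_mul, add_zero, sub_zero, one_mul,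
          one_mul]; exact fr.q1)
      simpa using e
  have hax2 : ∀ b, D 0 b := fun b => by
    by_cases hb : σ b = b
    · exact hreal 0 b (map_zero σ) hb
    · have e := hcomb 0 1 0 0 b (hreal _ _ (map_zero σ) (map_one σ)) (hreal _ _ (map_zero σ) (map_zero σ)) hb
        (by rw [hn, map_sub, map_sub, map_one, map_zero, sub_self, zero_mul, zero_mul, zero_add, sub_zero, one_mul,
          one_mul]; exact fr.q2)
      simpa using e
  have hall : ∀ p r, D p r := fun p r => by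
    rcases eq_or_ne p 0 with rfl | hp
    · exact hax2 r
    rcases eq_or_ne r 0 with rfl | hr
    · exact hax1 p
    have hnon : ∀ s : F, σ s = s → σ (s + θ) ≠ s + θ ∧ (s + θ) ≠ 0 ∧ 1 - (s + θ) ≠ 0 := fun s hs => by
      have h1 : σ (s + θ) ≠ s + θ := fun h => mul_ne_zero R.two hθ0 (by
        rw [map_add, hs, hθ] at h; linear_combination -h)
      exact ⟨h1, fun h => h1 (by rw [h, map_zero]), fun h => h1 (by rw [← sub_eq_zero.1 h, map_one])⟩
    obtain ⟨s, hs, hsQ⟩ : ∃ s : F, σ s = s ∧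
        n (0 - p / (1 - (s + θ))) (r / (s + θ) - 0) ≠ 0 := by
      by_contra hno
      push Not at hno
      have key : ∀ s : F, σ s = s →
          p * σ p * f e₁ e₁ * ((s + θ) * (s - θ)) + r * σ r * f e₂ e₂ * ((1 - s - θ) * (1 - s + θ)) = 0 := by
        intro s hs
        have e := hno s hs
        obtain ⟨-, h2, h3⟩ := hnon s hs
        have h2' : σ (s + θ) = s - θ := by rw [map_add, hs, hθ, sub_eq_add_neg]
        have h3' : σ (1 - (s + θ)) = 1 - s + θ := by rw [map_sub, map_one, h2']; ring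
        have h2n : s - θ ≠ 0 := h2' ▸ (map_ne_zero σ).2 h2
        have h3n : 1 - s + θ ≠ 0 := h3' ▸ (map_ne_zero σ).2 h3
        rw [hn, sub_zero, zero_sub, map_neg, map_div₀, map_div₀, h2', h3'] at e
        field_simp [h2, h3, h2n, h3n] at e
        linear_combination e
      have k1 := key 1 (map_one σ)
      have k2 := key (-1) (by rw [map_neg, map_one])
      refine mul_ne_zero (mul_ne_zero (mul_ne_zero hr ((map_ne_zero σ).2 hr)) fr.q2)
        (mul_ne_zero R.two R.two) ?_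
      linear_combination k2 - k1
    obtain ⟨h1, h2, h3⟩ := hnon s hs
    have e := hcomb 0 (r / (s + θ)) (p / (1 - (s + θ))) 0 (s + θ) (hax2 _) (hax1 _) h1 hsQ
    rwa [mul_zero, add_zero, mul_zero, zero_add, mul_div_cancel₀ _ h3, mul_div_cancel₀ _ h2] at e
  obtain ⟨a, b, s, hz⟩ : ∃ a b s, z = Z a b s := ⟨f z e₁ / f e₁ e₁, f z e₂ / f e₂ e₂, f z v, by
    rw [hZ, Fr.wv]
    conv_lhs => rw [fr.decomp R z, hzu, one_smul]
    abel⟩
  rw [hz] at hzz ⊢
  exact (hD a b).1 (hall a b) s hzz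

theorem exists_pt_nonorth {z : Fin 4 → F} (hz : z ≠ 0) : ∃ p, IsPt f C p ∧ f z p ≠ 0 := by
  obtain ⟨u, hu, hu0, huu⟩ := R.exists_iso
  obtain ⟨v, e₁, e₂, fr⟩ := R.exists_frame hu hu0 huu
  by_cases h1 : f z u = 0
  swap
  · exact ⟨u, fr.pt R, h1⟩
  by_cases h2 : f z v = 0
  swap
  · exact ⟨v, ⟨fr.cv, fun h => h2 (by rw [h, R.zero_right]), fr.vv⟩, h2⟩
  obtain ⟨e, hec, hue, hve, hze⟩ : ∃ e, C e = e ∧ f u e = 0 ∧ f v e = 0 ∧ f z e ≠ 0 := by
    by_contra hno
    push Not at hno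
    refine hz ?_
    rw [fr.eq_of_perp R h1 (hno e₁ fr.c1 fr.u1 fr.v1) (hno e₂ fr.c2 fr.u2 fr.v2), h2, zero_smul]
  obtain ⟨g, hgS, hgC, hg⟩ := R.exists_EU hu hec huu hue
  have hgv : ap g v = v + e + (-f e e / 2) • u := by
    rw [hg, fr.vu, hve, one_smul, mul_one, sub_zero]
  refine ⟨ap g v, ⟨?_, ap_ne_zero _ fun h => one_ne_zero (α := F) (by rw [← fr.vu, h, R.zero_left]), ?_⟩, ?_⟩
  · rw [hgv]; exact R.fx_add (R.fx_add fr.cv hec) (R.fx_smul hu (R.half (by rw [map_neg, R.real hec hec])))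
  · rw [hgS.isom, fr.vv]
  · rw [hgv, R.add_right, R.add_right, R.smul_right, h1, h2, mul_zero, add_zero, zero_add]; exact hze

/-- a subgroup with an element outside the rational group has all transvections -/
theorem uFull_of_outside (S : Sub f C M) {g : GL (Fin 4) F} (hg : g ∈ M) (hgc : ¬ Com C g)
    (z : Fin 4 → F) (hzz : f z z = 0) : UFull σ f M z := by
  have hex : ∃ u, IsPt f C u ∧ ∃ k, Tv f M u k ∧ k ≠ 0 := by
    by_contra hno
    have NT : NoTv f C M := fun u hu k hk => by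
      by_contra hk0
      exact hno ⟨u, hu, k, hk, hk0⟩
    exact R.pair_false S NT (R.pair_of_outside S NT hg hgc)
  obtain ⟨u₀, hu₀, k, hk, hk0⟩ := hex
  have hfull : ∀ p, IsPt f C p → UFull σ f M p := fun p hp => R.uFull_pt S hu₀ hk0 hk hp
  rcases eq_or_ne z 0 with rfl | hz
  · exact uFull_zero R.form
  obtain ⟨u, hu, hzu⟩ := R.exists_pt_nonorth hz
  obtain ⟨v, e₁, e₂, fr⟩ := R.exists_frame' hu
  have h := R.uFull_nonorth S hfull fr (z := (f z u)⁻¹ • z)
    (by rw [R.smul_left, R.smul_right, hzz, mul_zero, mul_zero]) (by rw [R.smul_left, inv_mul_cancel₀ hzu])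
  have h' := h.smul R.form (f z u)
  rwa [smul_inv_smul₀ hzu] at h'

/-- some special isometry is not rational -/
theorem exists_outside : ∃ g, InS f g ∧ ¬ Com C g := by
  obtain ⟨u, hu, hu0, huu⟩ := R.exists_iso
  obtain ⟨v, e₁, e₂, fr⟩ := R.exists_frame hu hu0 huu
  obtain ⟨θ, hθ0, hθ⟩ := R.exists_theta
  obtain ⟨g, hg⟩ := R.exists_E (u := u) (y := 0) θ huu (R.zero_right u)
  refine ⟨g, hg.inS R huu (R.zero_right u) (by rw [R.zero_left, neg_zero, hθ, add_neg_cancel]), ?_⟩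
  rintro ⟨c, hc, hcc⟩
  have e1 := hcc u
  rw [hg.fix R huu (R.zero_right u), hu, R.c_smul, hu, hg.fix R huu (R.zero_right u)] at e1
  have hcs : σ c = c := smul_left_injective F hu0 e1
  have e2 := hcc v
  rw [hg, fr.cv, hg, fr.vu, R.zero_right, smul_zero, add_zero, mul_one, sub_zero, R.c_smul, hcs, R.c_add,
    R.c_smul, fr.cv, hu, hθ] at e2
  have e3 : v + (-θ) • u = v + θ • u := smul_right_injective _ hc e2
  have e4 : -θ = θ := smul_left_injective F hu0 (add_left_cancel e3)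
  exact mul_ne_zero R.two hθ0 (by linear_combination -e4)

end RS

end CfsgLib.MaxSub.SuReal
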