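import Cfsg.Agent.Lib.MaxSub.SuRealUnip

/-!
A subgroup of `SU_4` above the rational group without transvections at rational points: stabilisers of
rational points are rational, and some element outside sends a rational point into the perp of another one.
-/

set_option autoImplicit false
set_option linter.unusedSectionVars false

namespace CfsgLib.MaxSub.SuReal

open Matrix
open scoped MatrixGroups

variable {F : Type*} [Field F] [Fintype F]
variable {σ : F ≃+* F} {f : (Fin 4 → F) → (Fin 4 → F) → F} {C : (Fin 4 → F) → (Fin 4 → F)} {q : ℕ}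
variable {M : Subgroup (GL (Fin 4) F)}

/-- a subgroup of `SU` above the rational group -/
structure Sub (f : (Fin 4 → F) → (Fin 4 → F) → F) (C : (Fin 4 → F) → (Fin 4 → F))
    (M : Subgroup (GL (Fin 4) F)) : Prop where
  mem : ∀ g, InS f g → Com C g → g ∈ M
  inS : ∀ g ∈ M, InS f g

/-- `M` contains the transvection with centre `u` and parameter `k` -/
def Tv (f : (Fin 4 → F) → (Fin 4 → F) → F) (M : Subgroup (GL (Fin 4) F)) (u : Fin 4 → F) (k : F) : Prop :=
  ∃ g ∈ M, IsE f g u 0 k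

/-- a nonzero fixed isotropic vector -/
structure IsPt (f : (Fin 4 → F) → (Fin 4 → F) → F) (C : (Fin 4 → F) → (Fin 4 → F)) (u : Fin 4 → F) : Prop where
  cu : C u = u
  ne : u ≠ 0
  uu : f u u = 0

/-- no transvection at a fixed isotropic vector -/
def NoTv (f : (Fin 4 → F) → (Fin 4 → F) → F) (C : (Fin 4 → F) → (Fin 4 → F))
    (M : Subgroup (GL (Fin 4) F)) : Prop :=
  ∀ u, IsPt f C u → ∀ k, Tv f M u k → k = 0

/-- an element outside sends a fixed isotropic vector into the perp of another one -/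
def Pair (f : (Fin 4 → F) → (Fin 4 → F) → F) (C : (Fin 4 → F) → (Fin 4 → F))
    (M : Subgroup (GL (Fin 4) F)) : Prop :=
  ∃ m ∈ M, ¬ Com C m ∧ ∃ u u', IsPt f C u ∧ IsPt f C u' ∧ f u (ap m u') = 0

namespace Fr

variable {u v e₁ e₂ : Fin 4 → F}

theorem u_ne (fr : Fr f C u v e₁ e₂) (R : RS σ f C q) : u ≠ 0 := fun h => one_ne_zero (α := F) (by
  rw [← fr.uv, h, R.zero_left])

theorem pt (fr : Fr f C u v e₁ e₂) (R : RS σ f C q) : IsPt f C u := ⟨fr.cu, fr.u_ne R, fr.uu⟩

theorem eq_of_perp (fr : Fr f C u v e₁ e₂) (R : RS σ f C q) {x : Fin 4 → F} (hu : f x u = 0)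
    (h1 : f x e₁ = 0) (h2 : f x e₂ = 0) : x = f x v • u := by
  conv_lhs => rw [fr.decomp R x, hu, h1, h2, zero_div, zero_div, zero_smul, zero_smul, zero_smul]
  abel

/-- combinations of the two anisotropic vectors -/
def wv (e₁ e₂ : Fin 4 → F) (a b : F) : Fin 4 → F := a • e₁ + b • e₂

theorem wv_eval (fr : Fr f C u v e₁ e₂) (R : RS σ f C q) (a b : F) :
    f (wv e₁ e₂ a b) u = 0 ∧ f u (wv e₁ e₂ a b) = 0 ∧ f v (wv e₁ e₂ a b) = 0 ∧ f (wv e₁ e₂ a b) v = 0 := by
  refine ⟨?_, ?_, ?_, ?_⟩ <;>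
    simp only [wv, R.add_left, R.add_right, R.smul_left, R.smul_right, fr.u1, fr.i1u, fr.u2, fr.i2u, fr.v1,
      fr.i1v, fr.v2, fr.i2v, mul_zero, add_zero]

theorem wv_form (fr : Fr f C u v e₁ e₂) (R : RS σ f C q) (a b c d : F) :
    f (wv e₁ e₂ a b) (wv e₁ e₂ c d) = a * σ c * f e₁ e₁ + b * σ d * f e₂ e₂ := by
  simp only [wv, R.add_left, R.add_right, R.smul_left, R.smul_right, fr.i12, fr.i21]
  ring

theorem wv_fix (fr : Fr f C u v e₁ e₂) (R : RS σ f C q) {a b : F} (ha : σ a = a) (hb : σ b = b) :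
    C (wv e₁ e₂ a b) = wv e₁ e₂ a b := R.fx_add (R.fx_smul fr.c1 ha) (R.fx_smul fr.c2 hb)

end Fr

namespace RS

variable (R : RS σ f C q)
include R

theorem exists_frame' {u : Fin 4 → F} (hu : IsPt f C u) : ∃ v e₁ e₂, Fr f C u v e₁ e₂ :=
  R.exists_frame hu.cu hu.ne hu.uu

/-- two elements of the unipotent group with the same vector part differ by a transvection -/
theorem quot_tv {g g' : GL (Fin 4) F} {u y : Fin 4 → F} {s s' : F} (hg : g ∈ M) (hg' : g' ∈ M)
    (h : IsE f g u y s) (h' : IsE f g' u y s') (huu : f u u = 0) (hyu : f y u = 0) :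
    Tv f M u (s - s') := by
  obtain ⟨t, ht⟩ := R.exists_E (u := u) (y := 0) (s - s') huu (R.zero_right u)
  have e := ht.mul R h' huu (R.zero_right u) hyu
  rw [zero_add, R.zero_right, sub_zero, sub_add_cancel] at e
  refine ⟨t, ?_, ht⟩
  rw [show t = g * g'⁻¹ from eq_mul_inv_of_mul_eq (e.uniq h)]
  exact mul_mem hg (inv_mem hg')

/-- an element of `M` fixing a rational point is rational -/
theorem stab (S : Sub f C M) (NT : NoTv f C M) {m : GL (Fin 4) F} (hm : m ∈ M) {u : Fin 4 → F} {l : F}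
    (hu : IsPt f C u) (hl : ap m u = l • u) : Com C m := by
  obtain ⟨v, e₁, e₂, fr⟩ := R.exists_frame' hu
  have hiso : Isom f m := (S.inS m hm).isom
  have hl0 : l ≠ 0 := fun h => ap_ne_zero m hu.ne (by rw [hl, h, zero_smul])
  obtain ⟨c, hc⟩ : ∃ c, c = σ l := ⟨_, rfl⟩
  have hc0 : c ≠ 0 := hc ▸ (map_ne_zero σ).2 hl0
  have hcl : σ (c * l) = c * l := by rw [hc, map_mul, R.ss, mul_comm]
  have hcu : ∀ x, f (c • ap m x) u = f x u := fun x => by
    have e := hiso x u
    rw [hl, R.smul_right] at e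
    rw [R.smul_left, hc, e]
  have key : ∀ y, C y = y → f u y = 0 → C (c • ap m y) = c • ap m y := fun y hy huy => by
    obtain ⟨g, hgS, hgC, hg⟩ := R.exists_EU hu.cu hy hu.uu huy
    obtain ⟨x, hx⟩ : ∃ x, x = m * g * m⁻¹ := ⟨_, rfl⟩
    have hxM : x ∈ M := hx ▸ mul_mem (mul_mem hm (S.mem g hgS hgC)) (inv_mem hm)
    obtain ⟨Y, hY⟩ : ∃ Y, Y = c • ap m y := ⟨_, rfl⟩
    have hxE : IsE f x u Y (l * σ l * (-f y y / 2)) := by
      have e := hg.conj (h := m) hiso
      rw [hl, ← hx] at e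
      rw [hY, hc]
      exact e.scale R
    have hYu : f Y u = 0 := hY ▸ (hcu y).trans (R.perp_symm huy)
    have hre : ∀ e, C e = e → f u e = 0 → σ (f Y e) = f Y e := fun e he hue => by
      obtain ⟨g', hgS', hgC', hg'⟩ := R.exists_EU hu.cu he hu.uu hue
      have hg'M := S.mem g' hgS' hgC'
      have e1 := hxE.mul R hg' hu.uu (R.perp_symm hYu) (R.perp_symm hue)
      have e2 := hg'.mul R hxE hu.uu hue hYu
      rw [add_comm e Y] at e2
      have hk := NT u hu _ (R.quot_tv (M := M) (mul_mem hxM hg'M) (mul_mem hg'M hxM) e1 e2 hu.uu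
        (by rw [R.add_left, hYu, R.perp_symm hue, add_zero]))
      rw [← R.form.herm e Y]
      linear_combination -hk
    obtain ⟨a, ha⟩ : ∃ a, a = f Y e₁ / f e₁ e₁ := ⟨_, rfl⟩
    obtain ⟨b, hb⟩ : ∃ b, b = f Y e₂ / f e₂ e₂ := ⟨_, rfl⟩
    obtain ⟨ρ, hρ⟩ : ∃ ρ, ρ = f Y v := ⟨_, rfl⟩
    obtain ⟨w, hw⟩ : ∃ w, w = Fr.wv e₁ e₂ a b := ⟨_, rfl⟩
    have hwc : C w = w := hw ▸ fr.wv_fix R
      (by rw [ha, map_div₀, hre e₁ fr.c1 fr.u1, R.real fr.c1 fr.c1])
      (by rw [hb, map_div₀, hre e₂ fr.c2 fr.u2, R.real fr.c2 fr.c2])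
    have hwu : f w u = 0 := hw ▸ (fr.wv_eval R a b).1
    have hYw : Y = w + ρ • u := by
      conv_lhs => rw [fr.decomp R Y, hYu, zero_smul, ← ha, ← hb, ← hρ]
      rw [hw, Fr.wv]; abel
    have hn : f w w = l * σ l * f y y := by
      have e : f Y Y = l * σ l * f y y := by
        rw [hY, R.smul_left, R.smul_right, hiso, hc, R.ss]; ring
      rw [← e, hYw]
      simp only [R.add_left, R.add_right, R.smul_left, R.smul_right, hu.uu, hwu, R.perp_symm hwu, mul_zero,
        add_zero]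
    obtain ⟨g', hgS', hgC', hg'⟩ := R.exists_EU hu.cu hwc hu.uu (R.perp_symm hwu)
    rw [hYw] at hxE
    have hk := NT u hu _ (R.quot_tv hxM (S.mem g' hgS' hgC') (hxE.shift R) hg' hu.uu hwu)
    rw [hn] at hk
    have hρ' : σ ρ = ρ := by linear_combination -hk
    rw [← hY, hYw]
    exact R.fx_add hwc (R.fx_smul hu.cu hρ')
  have k1 := key e₁ fr.c1 fr.u1
  have k2 := key e₂ fr.c2 fr.u2
  obtain ⟨z, hz⟩ : ∃ z, z = c • ap m v := ⟨_, rfl⟩
  have hzu : f z u = 1 := by rw [hz, hcu, fr.vu]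
  have hzz : f z z = 0 := by rw [hz, R.smul_left, R.smul_right, hiso, fr.vv, mul_zero, mul_zero]
  have hdu : f (C z - z) u = 0 := by
    rw [R.sub_left, hzu]
    nth_rewrite 1 [← hu.cu]
    rw [R.c_form, hzu, map_one, sub_self]
  have hde : ∀ e, C (c • ap m e) = c • ap m e → f v e = 0 → f (C z - z) (ap m e) = 0 := fun e he hve => by
    have h0 : f z (c • ap m e) = 0 := by
      rw [hz, R.smul_left, R.smul_right, hiso, hve, mul_zero, mul_zero]
    have h1 : f (C z) (c • ap m e) = 0 := by rw [← he, R.c_form, h0, map_zero]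
    have h2 : f (C z - z) (c • ap m e) = 0 := by rw [R.sub_left, h0, h1, sub_zero]
    rw [R.smul_right] at h2
    exact (mul_eq_zero.1 h2).resolve_left ((map_ne_zero σ).2 hc0)
  have hpull : ∀ x, f (ap m⁻¹ (C z - z)) x = f (C z - z) (ap m x) := fun x => by
    rw [← hiso (ap m⁻¹ (C z - z)) x, ap_inv]
  have hd0 := fr.eq_of_perp R (x := ap m⁻¹ (C z - z))
    (by rw [hpull, hl, R.smul_right, hdu, mul_zero])
    (by rw [hpull]; exact hde e₁ k1 fr.v1) (by rw [hpull]; exact hde e₂ k2 fr.v2)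
  obtain ⟨ρ, hρ⟩ : ∃ ρ, C z = z + ρ • u := by
    refine ⟨f (ap m⁻¹ (C z - z)) v * l, ?_⟩
    have e := congrArg (ap m) hd0
    rw [ap_inv, ap_smul, hl, smul_smul] at e
    rw [← e]; abel
  have hρσ : ρ + σ ρ = 0 := by
    have e := R.c_form z z
    rw [hρ, hzz, map_zero, R.add_left, R.add_right, R.add_right, R.smul_left, R.smul_left, R.smul_right,
      R.smul_right, hzz, hu.uu, hzu, R.form.herm u z, hzu, map_one] at e
    linear_combination e
  obtain ⟨h, hh⟩ := R.exists_E (u := u) (y := 0) (ρ / 2) hu.uu (R.zero_right u)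
  have hhS : InS f h := hh.inS R hu.uu (R.zero_right u) (by
    rw [R.zero_left, neg_zero, map_div₀, map_ofNat, ← add_div, hρσ, zero_div])
  have hap : ∀ x, ap h x = x + (ρ / 2 * f x u) • u := fun x => by
    rw [hh, R.zero_right, smul_zero, add_zero, sub_zero]
  have hcom : Com C (h * m) := by
    refine R.com_of_frame fr hc0 ?_ ?_ ?_ ?_
    · rw [ap_mul, hl, ap_smul, hap, hu.uu, mul_zero, zero_smul, add_zero, smul_smul]
      exact R.fx_smul hu.cu hcl
    · rw [ap_mul, ← ap_smul, ← hz, hap, hzu, mul_one, R.c_add, R.c_smul, hu.cu, hρ, add_assoc, ← add_smul]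
      congr 2
      rw [map_div₀, map_ofNat]
      field_simp [R.two]
      linear_combination hρσ
    · rw [ap_mul, ← ap_smul, hap, hcu, fr.i1u, mul_zero, zero_smul, add_zero, k1]
    · rw [ap_mul, ← ap_smul, hap, hcu, fr.i2u, mul_zero, zero_smul, add_zero, k2]
  have hhm : h * m ∈ M := S.mem _ (hhS.mul (S.inS m hm)) hcom
  have h0 := NT u hu _ ⟨h, by simpa using mul_mem hhm (inv_mem hm), hh⟩
  have h1 : h = 1 := ap_ext fun x => by rw [hap, h0, zero_mul, zero_smul, add_zero, ap_one]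
  rwa [h1, one_mul] at hcom

theorem trans_nonorth {u u' : Fin 4 → F} (hu : IsPt f C u) (hu' : IsPt f C u') (h : f u u' ≠ 0) :
    ∃ g, InS f g ∧ Com C g ∧ ap g u = u' := by
  have hs : f u' u = f u u' := R.symm hu.cu hu'.cu
  have hac : C (u - u') = u - u' := R.fx_sub hu.cu hu'.cu
  have haa : f (u - u') (u - u') = -2 * f u u' := by
    rw [R.sub_left, R.sub_right, R.sub_right, hu.uu, hu'.uu, hs]; ring
  obtain ⟨a, ha1, ha2, ha3, ha4⟩ := R.exists_refl hac (by rw [haa]; exact mul_ne_zero (neg_ne_zero.2 R.two) h)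
  obtain ⟨v, e₁, e₂, fr⟩ := R.exists_frame' hu'
  obtain ⟨b, hb1, hb2, hb3, hb4⟩ := R.exists_refl fr.c1 fr.q1
  refine ⟨b * a, ⟨hb1.mul ha1, by rw [Units.val_mul, Matrix.det_mul, ha2, hb2]; ring⟩, R.com_mul hb3 ha3, ?_⟩
  have e : ap a u = u' := by
    rw [ha4, haa, R.sub_right, hu.uu,
      show 2 * (0 - f u u') / (-2 * f u u') = 1 by field_simp [R.two]; ring, one_smul]
    abel
  rw [ap_mul, e, hb4, fr.u1, mul_zero, zero_div, zero_smul, sub_zero]

/-- the rational group is transitive on rational isotropic vectors -/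
theorem trans {u u' : Fin 4 → F} (hu : IsPt f C u) (hu' : IsPt f C u') :
    ∃ g, InS f g ∧ Com C g ∧ ap g u = u' := by
  by_cases h : f u u' = 0
  swap
  · exact R.trans_nonorth hu hu' h
  obtain ⟨w, hw, h1, h2⟩ : ∃ w, IsPt f C w ∧ f w u ≠ 0 ∧ f w u' ≠ 0 := by
    obtain ⟨v, e₁, e₂, fr⟩ := R.exists_frame' hu
    have hv : IsPt f C v := ⟨fr.cv, fun h => one_ne_zero (α := F) (by rw [← fr.vu, h, R.zero_left]), fr.vv⟩
    by_cases hv' : f v u' = 0
    swap
    · exact ⟨v, hv, by rw [fr.vu]; exact one_ne_zero, hv'⟩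
    obtain ⟨e, hec, heu, hev, he'⟩ : ∃ e, C e = e ∧ f e u = 0 ∧ f e v = 0 ∧ f e u' ≠ 0 := by
      by_contra hno
      push Not at hno
      refine hu'.ne ?_
      rw [fr.eq_of_perp R (x := u') (R.perp_symm h) (R.perp_symm (hno e₁ fr.c1 fr.i1u fr.i1v))
        (R.perp_symm (hno e₂ fr.c2 fr.i2u fr.i2v)), R.perp_symm hv', zero_smul]
    obtain ⟨w, hw⟩ : ∃ w, w = v + e - (f e e / 2) • u := ⟨_, rfl⟩
    have hwu : f w u = 1 := by
      rw [hw, R.sub_left, R.add_left, R.smul_left, fr.vu, heu, fr.uu, mul_zero]; ring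
    refine ⟨w, ⟨?_, fun h0 => one_ne_zero (α := F) (by rw [← hwu, h0, R.zero_left]), ?_⟩,
      by rw [hwu]; exact one_ne_zero, ?_⟩
    · rw [hw]; exact R.fx_sub (R.fx_add fr.cv hec) (R.fx_smul fr.cu (R.half (R.real hec hec)))
    · rw [hw]
      simp only [R.sub_left, R.sub_right, R.add_left, R.add_right, R.smul_left, R.smul_right, fr.vv, fr.uu,
        fr.vu, fr.uv, heu, R.perp_symm heu, hev, R.perp_symm hev, R.half (R.real hec hec)]
      field_simp [R.two]
      ring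
    · rw [hw, R.sub_left, R.add_left, R.smul_left, hv', h, mul_zero, sub_zero, zero_add]
      exact he'
  obtain ⟨g, hg1, hg2, hg3⟩ := R.trans_nonorth hu hw fun e => h1 (R.perp_symm e)
  obtain ⟨g', hg1', hg2', hg3'⟩ := R.trans_nonorth hw hu' h2
  exact ⟨g' * g, hg1'.mul hg1, R.com_mul hg2' hg2, by rw [ap_mul, hg3, hg3']⟩

/-- outside elements send no rational point to a rational point -/
theorem not_map (S : Sub f C M) (NT : NoTv f C M) {m : GL (Fin 4) F} (hm : m ∈ M) (hmc : ¬ Com C m)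
    {u u' : Fin 4 → F} (hu : IsPt f C u) (hu' : IsPt f C u') (l : F) : ap m u ≠ l • u' := fun hl => by
  obtain ⟨g, hgS, hgC, hg⟩ := R.trans hu' hu
  have h := R.stab S NT (mul_mem (S.mem g hgS hgC) hm) hu (l := l) (by rw [ap_mul, hl, ap_smul, hg])
  exact hmc (by simpa using R.com_mul (R.com_inv hgC) h)

/-- a conjugate of a rational unipotent element by an outside element is rational only in a special case -/
theorem free (S : Sub f C M) (NT : NoTv f C M) {m : GL (Fin 4) F} (hm : m ∈ M) (hmc : ¬ Com C m)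
    {u y : Fin 4 → F} (hu : IsPt f C u) (huy : f u y = 0) (hny : ∀ t : F, y ≠ t • u)
    {k : GL (Fin 4) F} {s : F} (hk : IsE f k (ap m⁻¹ u) (ap m⁻¹ y) s) (hkc : Com C k) :
    f y y = 0 ∧ Pair f C M := by
  have hiso : Isom f m⁻¹ := ((S.inS m hm).isom).inv
  obtain ⟨a, ha⟩ : ∃ a, a = ap m⁻¹ u := ⟨_, rfl⟩
  obtain ⟨b, hb⟩ : ∃ b, b = ap m⁻¹ y := ⟨_, rfl⟩
  rw [← ha, ← hb] at hk
  have haa : f a a = 0 := by rw [ha, hiso, hu.uu]
  have hab : f a b = 0 := by rw [ha, hb, hiso, huy]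
  have hba : f b a = 0 := R.perp_symm hab
  have hbb : f b b = f y y := by rw [hb, hiso]
  have ha0 : a ≠ 0 := ha ▸ ap_ne_zero _ hu.ne
  obtain ⟨c, hc, hcc⟩ := hkc
  obtain ⟨X, hX⟩ : ∃ X, X = C a := ⟨_, rfl⟩
  have hX0 : X ≠ 0 := fun h => ha0 (by rw [← R.c_inv a, ← hX, h, R.c_zero])
  have hcs : σ c = c := by
    have e := hcc a
    rw [R.c_smul, hk.fix R haa hab, ← hX] at e
    by_contra hne
    have hd : σ c - c ≠ 0 := sub_ne_zero.2 hne
    have e' : (σ c - c) • X = (c * f X a) • b + (c * (s * f X a - f X b)) • a := by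
      rw [sub_smul, e, hk]; module
    have h1 := congrArg (fun x => f x a) e'
    simp only [R.add_left, R.smul_left, hba, haa, mul_zero, add_zero] at h1
    have hXa : f X a = 0 := (mul_eq_zero.1 h1).resolve_left hd
    have h2 := congrArg (fun x => f x b) e'
    simp only [R.add_left, R.smul_left, hab, hXa, mul_zero, zero_mul, add_zero] at h2
    have hXb : f X b = 0 := (mul_eq_zero.1 h2).resolve_left hd
    rw [hXa, hXb, mul_zero, mul_zero, sub_zero, mul_zero, zero_smul, zero_smul, add_zero] at e'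
    exact hX0 ((smul_eq_zero.1 e').resolve_left hd)
  have hcomm : ∀ x, C (ap k x) = ap k (C x) := fun x => by
    have e := hcc x
    rw [R.c_smul, hcs] at e
    exact smul_right_injective _ hc e
  obtain ⟨x, hxc, hxa⟩ := R.exists_pair ha0
  obtain ⟨n, hn⟩ : ∃ n, n = ap k x - x := ⟨_, rfl⟩
  have hnc : C n = n := by rw [hn, R.c_sub, hcomm, hxc]
  obtain ⟨t, hnt⟩ : ∃ t, n = f x a • b + t • a := ⟨s * f x a - f x b, by rw [hn, hk]; abel⟩
  have hnmap : ap m n = f x a • y + t • u := by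
    rw [hnt, ap_add, ap_smul, ap_smul, ha, hb, ap_inv, ap_inv]
  by_cases hyy : f y y = 0
  · refine ⟨hyy, m, hm, hmc, u, n, hu, ⟨hnc, fun h0 => ?_, ?_⟩, ?_⟩
    · refine hny (-(f x a)⁻¹ * t) ?_
      have e : f x a • y + t • u = 0 := by rw [← hnmap, h0]; exact Matrix.mulVec_zero _
      calc y = (f x a)⁻¹ • (f x a • y) := (inv_smul_smul₀ hxa y).symm
        _ = _ := by rw [eq_neg_of_add_eq_zero_left e, smul_neg, smul_smul, ← neg_smul, neg_mul]
    · rw [hnt]
      simp only [R.add_left, R.add_right, R.smul_left, R.smul_right, haa, hab, hba, hbb, hyy, mul_zero,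
        add_zero]
    · rw [hnmap, R.add_right, R.smul_right, R.smul_right, huy, hu.uu, mul_zero, mul_zero, add_zero]
  · exfalso
    have e : ap k n - n = (-(f x a * f y y)) • a := by
      rw [hk, hnt]
      simp only [R.add_left, R.smul_left, haa, hab, hba, hbb, mul_zero, add_zero]
      module
    refine R.not_map S NT hm hmc (u := ap k n - n) (u' := u) ⟨?_, ?_, ?_⟩ hu (-(f x a * f y y)) ?_
    · rw [R.c_sub, hcomm, hnc]
    · rw [e]; exact smul_ne_zero (neg_ne_zero.2 (mul_ne_zero hxa hyy)) ha0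
    · rw [e, R.smul_left, R.smul_right, haa, mul_zero, mul_zero]
    · rw [e, ap_smul, ha, ap_inv]

end RS

end CfsgLib.MaxSub.SuReal
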