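import Cfsg.Agent.Lib.MaxSub.SuRealCount

/-!
Without transvections no element outside sends a rational point into the perp of a rational point: the
subgroup would act on a totally isotropic line with too many rational elements.
-/

set_option autoImplicit false
set_option linter.unusedSectionVars false

namespace CfsgLib.MaxSub.SuReal

open Matrix
open scoped MatrixGroups

variable {F : Type*} [Field F] [Fintype F]
variable {σ : F ≃+* F} {f : (Fin 4 → F) → (Fin 4 → F) → F} {C : (Fin 4 → F) → (Fin 4 → F)} {q : ℕ}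
variable {M : Subgroup (GL (Fin 4) F)}

namespace RS

variable (R : RS σ f C q)
include R

/-- the image point is not on a rational line through the first point -/
theorem sing_false (S : Sub f C M) (NT : NoTv f C M) {m : GL (Fin 4) F} (hm : m ∈ M) (hmc : ¬ Com C m)
    {u u' y : Fin 4 → F} (hu : IsPt f C u) (hu' : IsPt f C u') (hy : IsPt f C y) (huy : f u y = 0)
    (hny : ∀ t : F, y ≠ t • u) {p r : F} (hw : ap m u' = p • u + r • y) : False := by
  classical
  have hyu : f y u = 0 := R.perp_symm huy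
  have hiso : Isom f m := (S.inS m hm).isom
  obtain ⟨v', x, x', fr'⟩ := R.exists_frame' hu'
  let K := {a : F // σ a = a}
  have hxj : ∀ j : K, C ((j : F) • x) = (j : F) • x ∧ f u' ((j : F) • x) = 0 := fun j =>
    ⟨R.fx_smul fr'.c1 j.2, by rw [R.smul_right, fr'.u1, mul_zero]⟩
  choose E hES hEC hE using fun j => R.exists_EU hu'.cu (hxj j).1 hu'.uu (hxj j).2
  let t : K → GL (Fin 4) F := fun j => m * E j * m⁻¹
  let pt : Option K → Fin 4 → F := fun o => o.elim u fun k => y + (k : F) • u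
  have hpt : ∀ o, IsPt f C (pt o) ∧ f (pt o) (ap m u') = 0 ∧ ∃ a b : F, pt o = a • u + b • y := by
    intro o
    have hz : ∀ a b : F, f (a • u + b • y) (ap m u') = 0 := fun a b => by
      rw [hw]
      simp only [R.add_left, R.add_right, R.smul_left, R.smul_right, hu.uu, hy.uu, huy, hyu, mul_zero, add_zero]
    cases o with
    | none =>
      refine ⟨hu, ?_, 1, 0, by rw [one_smul, zero_smul, add_zero]; rfl⟩
      show f u (ap m u') = 0
      simpa using hz 1 0
    | some k =>
      have e : pt (some k) = (k : F) • u + (1 : F) • y := by rw [one_smul, add_comm]; rfl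
      refine ⟨⟨R.fx_add hy.cu (R.fx_smul hu.cu k.2), fun h => ?_, ?_⟩, by rw [e]; exact hz _ _, _, _, e⟩
      · exact hny (-(k : F)) (by rw [neg_smul]; exact eq_neg_of_add_eq_zero_left h)
      · rw [e]
        simp only [R.add_left, R.add_right, R.smul_left, R.smul_right, hu.uu, hy.uu, huy, hyu, mul_zero, add_zero]
  have himg : ∀ i : K × Option K, ∃ a b : F,
      ap (t i.1) (pt i.2) = a • u + b • y ∧ (b = 0 → a ≠ 0) := by
    rintro ⟨j, o⟩
    obtain ⟨hP, hPw, a, b, hab⟩ := hpt o
    have hT : IsE f (t j) (ap m u') (ap m ((j : F) • x)) (-f ((j : F) • x) ((j : F) • x) / 2) :=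
      (hE j).conj hiso
    obtain ⟨l, hl⟩ : ∃ l, l = f (pt o) (ap m ((j : F) • x)) := ⟨_, rfl⟩
    have e : ap (t j) (pt o) = (a - l * p) • u + (b - l * r) • y := by
      rw [hT, hPw, mul_zero, zero_sub, zero_smul, add_zero, ← hl, hw, hab]
      module
    refine ⟨_, _, e, fun hb ha => ap_ne_zero (t j) hP.ne ?_⟩
    show ap (t j) (pt o) = 0
    rw [e, ha, hb, zero_smul, zero_smul, add_zero]
  choose a b hab hne using himg
  let code : K × Option K → Option F := fun i => if b i = 0 then none else some (a i / b i)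
  have hinj : Function.Injective code := by
    rintro ⟨j, o⟩ ⟨j', o'⟩ h
    obtain ⟨μ, hμ⟩ : ∃ μ : F, ap (t j) (pt o) = μ • ap (t j') (pt o') := by
      have e1 := hab (j, o)
      have e2 := hab (j', o')
      simp only [code] at h
      simp only at e1 e2
      rw [e1, e2]
      split_ifs at h with h1 h2 h2
      · refine ⟨a (j, o) / a (j', o'), ?_⟩
        simp only [h1, h2, zero_smul, add_zero, smul_smul, div_mul_cancel₀ _ (hne (j', o') h2)]
      · refine ⟨b (j, o) / b (j', o'), ?_⟩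
        have e3 : a (j, o) / b (j, o) = a (j', o') / b (j', o') := Option.some.inj h
        rw [smul_add, smul_smul, smul_smul, div_mul_cancel₀ _ h2]
        congr 2
        field_simp at e3 ⊢
        linear_combination e3
    obtain ⟨d, hd⟩ : ∃ d : K, (d : F) = (j : F) - j' := ⟨⟨_, by rw [map_sub, j.2, j'.2]⟩, rfl⟩
    have hEd : E j' * E d = E j := by
      have e := (hE j').mul R (hE d) hu'.uu (hxj j').2 (R.perp_symm (hxj d).2)
      have hv : ((j' : F) • x) + ((d : F) • x) = (j : F) • x := by rw [hd]; module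
      have hval : -f ((j' : F) • x) ((j' : F) • x) / 2 + -f ((d : F) • x) ((d : F) • x) / 2 -
          f ((d : F) • x) ((j' : F) • x) = -f ((j : F) • x) ((j : F) • x) / 2 := by
        simp only [R.smul_left, R.smul_right, j.2, j'.2, d.2]
        rw [hd]
        field_simp [R.two]
        ring
      rw [hv, hval] at e
      exact e.uniq (hE j)
    obtain ⟨k, hk⟩ : ∃ k, k = m * E d * m⁻¹ := ⟨_, rfl⟩
    have hkM : k ∈ M := hk ▸ mul_mem (mul_mem hm (S.mem _ (hES d) (hEC d))) (inv_mem hm)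
    have hkE : IsE f k (ap m⁻¹⁻¹ u') (ap m⁻¹⁻¹ ((d : F) • x)) (-f ((d : F) • x) ((d : F) • x) / 2) := by
      rw [inv_inv, hk]; exact (hE d).conj hiso
    have htk : t j' * k = t j := by rw [hk]; simp only [t, ← hEd]; group
    have hkp : ap k (pt o) = μ • pt o' := by
      have e := congrArg (ap (t j')⁻¹) hμ
      rwa [← htk, ap_mul, inv_ap, ap_smul, inv_ap] at e
    by_cases hd0 : (d : F) = 0
    · have hjj : j = j' := Subtype.ext (sub_eq_zero.1 (hd ▸ hd0))
      subst hjj
      have e : pt o = μ • pt o' := by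
        have e := congrArg (ap (t j)⁻¹) hμ
        rwa [inv_ap, ap_smul, inv_ap] at e
      have hindep : ∀ a b : F, a • u + b • y = 0 → a = 0 ∧ b = 0 := fun a b h0 => by
        have hb : b = 0 := by
          by_contra hb
          refine hny (-b⁻¹ * a) ?_
          calc y = b⁻¹ • (b • y) := (inv_smul_smul₀ hb y).symm
            _ = _ := by rw [eq_neg_of_add_eq_zero_right h0, smul_neg, smul_smul, ← neg_smul, neg_mul]
        rw [hb, zero_smul, add_zero] at h0
        exact ⟨(smul_eq_zero.1 h0).resolve_right hu.ne, hb⟩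
      rcases o with _ | k₁ <;> rcases o' with _ | k₂
      · rfl
      · have e' := (hindep (1 - μ * k₂) (-μ) (by
          have : u - μ • (y + (k₂ : F) • u) = 0 := sub_eq_zero.2 e
          rw [← this]; module))
        obtain ⟨e1, e2⟩ := e'
        rw [neg_eq_zero] at e2
        rw [e2, zero_mul, sub_zero] at e1
        exact absurd e1 one_ne_zero
      · have e' := (hindep ((k₁ : F) - μ) 1 (by
          have : y + (k₁ : F) • u - μ • u = 0 := sub_eq_zero.2 e
          rw [← this]; module))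
        exact absurd e'.2 one_ne_zero
      · obtain ⟨e1, e2⟩ := hindep ((k₁ : F) - μ * k₂) (1 - μ) (by
          have : y + (k₁ : F) • u - μ • (y + (k₂ : F) • u) = 0 := sub_eq_zero.2 e
          rw [← this]; module)
        rw [sub_eq_zero] at e2
        rw [← e2, one_mul, sub_eq_zero] at e1
        rw [Subtype.ext e1]
    · exfalso
      by_cases hkc : Com C k
      · refine hd0 ?_
        have h0 := (R.free S NT (inv_mem hm) (fun hc => hmc (by simpa using R.com_inv hc)) hu' (hxj d).2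
          (fun s hs => ?_) hkE hkc).1
        · rw [R.smul_left, R.smul_right, d.2, ← mul_assoc] at h0
          exact mul_self_eq_zero.1 ((mul_eq_zero.1 h0).resolve_right fr'.q1)
        · have e := congrArg (fun z => f z x) hs
          simp only [R.smul_left, fr'.u1, mul_zero] at e
          exact hd0 ((mul_eq_zero.1 e).resolve_right fr'.q1)
      · exact R.not_map S NT hkM hkc (hpt o).1 (hpt o').1 μ hkp
  have hcard := Nat.card_le_card_of_injective code hinj
  rw [Nat.card_prod, Nat.card_eq_fintype_card (α := Option F), Fintype.card_option, R.card,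
    Nat.card_eq_fintype_card (α := Option K), Fintype.card_option, ← Nat.card_eq_fintype_card, R.card_fixed]
    at hcard
  have := R.five
  nlinarith

/-- all transvections of the line of the pair fixing the first point -/
theorem shift_mem (S : Sub f C M) (NT : NoTv f C M) {m : GL (Fin 4) F} (hm : m ∈ M) (hmc : ¬ Com C m)
    {u u' : Fin 4 → F} (hu : IsPt f C u) (hu' : IsPt f C u') (h : f u (ap m u') = 0) (b : F) :
    ∃ g ∈ M, ap g u = u ∧ ap g (ap m u') = ap m u' + b • u := by
  classical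
  obtain ⟨v, e₁, e₂, fr⟩ := R.exists_frame' hu
  obtain ⟨w, hw⟩ : ∃ w, w = ap m u' := ⟨_, rfl⟩
  rw [← hw] at h ⊢
  have hwu : f w u = 0 := R.perp_symm h
  have hdec : w = f w v • u + (f w e₁ / f e₁ e₁) • e₁ + (f w e₂ / f e₂ e₂) • e₂ := by
    conv_lhs => rw [fr.decomp R w, hwu, zero_smul, add_zero]
  let K := {a : F // σ a = a}
  let φ : K × K → F := fun p => f w (Fr.wv e₁ e₂ (p.1 : F) (p.2 : F))
  have hinj : Function.Injective φ := by
    intro p p' hpp
    by_contra hne
    obtain ⟨d₁, hd₁⟩ : ∃ d, d = (p.1 : F) - p'.1 := ⟨_, rfl⟩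
    obtain ⟨d₂, hd₂⟩ : ∃ d, d = (p.2 : F) - p'.2 := ⟨_, rfl⟩
    have h1 : σ d₁ = d₁ := by rw [hd₁, map_sub, p.1.2, p'.1.2]
    have h2 : σ d₂ = d₂ := by rw [hd₂, map_sub, p.2.2, p'.2.2]
    obtain ⟨y, hy⟩ : ∃ y, y = Fr.wv e₁ e₂ d₁ d₂ := ⟨_, rfl⟩
    have hyc : C y = y := hy ▸ fr.wv_fix R h1 h2
    have huy : f u y = 0 := hy ▸ (fr.wv_eval R d₁ d₂).2.1
    have hwy : f w y = 0 := by
      have e : f w (Fr.wv e₁ e₂ (p.1 : F) (p.2 : F)) = f w (Fr.wv e₁ e₂ (p'.1 : F) (p'.2 : F)) := hpp
      have e2 : y = Fr.wv e₁ e₂ (p.1 : F) (p.2 : F) - Fr.wv e₁ e₂ (p'.1 : F) (p'.2 : F) := by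
        rw [hy, hd₁, hd₂, Fr.wv, Fr.wv, Fr.wv]; module
      rw [e2, R.sub_right, e, sub_self]
    have hny : ∀ t : F, y ≠ t • u := fun t ht => by
      have e1 := congrArg (fun x => f x e₁) ht
      have e2 := congrArg (fun x => f x e₂) ht
      simp only [hy, Fr.wv, R.add_left, R.smul_left, fr.u1, fr.u2, fr.i12, fr.i21, mul_zero, add_zero, zero_add,
        mul_eq_zero, fr.q1, fr.q2, or_false] at e1 e2
      rw [hd₁, sub_eq_zero] at e1
      rw [hd₂, sub_eq_zero] at e2
      exact hne (Prod.ext (Subtype.ext e1) (Subtype.ext e2))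
    by_cases hyy : f y y = 0
    · have e := hwy
      rw [hdec] at e
      obtain ⟨β₁, hβ₁⟩ : ∃ β, β = f w e₁ / f e₁ e₁ := ⟨_, rfl⟩
      obtain ⟨β₂, hβ₂⟩ : ∃ β, β = f w e₂ / f e₂ e₂ := ⟨_, rfl⟩
      rw [← hβ₁, ← hβ₂] at e hdec
      have hq := hyy
      simp only [hy, Fr.wv, R.add_left, R.add_right, R.smul_left, R.smul_right, h1, h2, fr.u1, fr.u2, fr.i12,
        fr.i21, mul_zero, add_zero, zero_add] at e hq
      have hd10 : d₁ ≠ 0 := fun h0 => by
        rw [h0, zero_mul, zero_add, ← mul_assoc, mul_eq_zero, mul_self_eq_zero] at hq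
        exact hny 0 (by rw [hy, h0, hq.resolve_right fr.q2, Fr.wv, zero_smul, zero_smul, zero_smul, add_zero])
      have hcr : β₁ * d₂ = β₂ * d₁ := by
        refine sub_eq_zero.1 ((mul_eq_zero.1 (?_ : (d₁ * f e₁ e₁) * (β₁ * d₂ - β₂ * d₁) = 0)).resolve_left
          (mul_ne_zero hd10 fr.q1))
        linear_combination d₂ * e - β₂ * hq
      have hu'w : ap m u' = f w v • u + (β₁ / d₁) • y := by
        rw [← hw]
        conv_lhs => rw [hdec]
        rw [hy, Fr.wv, smul_add, smul_smul, smul_smul, div_mul_cancel₀ _ hd10,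
          show β₁ / d₁ * d₂ = β₂ by rw [div_mul_eq_mul_div, hcr, mul_div_cancel_right₀ _ hd10]]
        abel
      exact R.sing_false S NT hm hmc hu hu' ⟨hyc, fun h0 => hny 0 (by rw [h0, zero_smul]), hyy⟩ huy hny hu'w
    · obtain ⟨g, hgS, hgC, hg⟩ := R.exists_EU hu.cu hyc hu.uu huy
      obtain ⟨k, hk⟩ : ∃ k, k = m⁻¹ * g * m := ⟨_, rfl⟩
      have hkM : k ∈ M := hk ▸ mul_mem (mul_mem (inv_mem hm) (S.mem g hgS hgC)) hm
      have hku : ap k u' = (1 : F) • u' := by
        have e : ap g w = w := by rw [hg, hwu, hwy, mul_zero, sub_zero, zero_smul, zero_smul, add_zero, add_zero]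
        rw [hk, ap_mul, ap_mul, ← hw, e, hw, inv_ap, one_smul]
      have hkE : IsE f k (ap m⁻¹ u) (ap m⁻¹ y) (-f y y / 2) := by
        have e := hg.conj (h := m⁻¹) ((S.inS m hm).isom).inv
        rwa [inv_inv, ← hk] at e
      exact hyy (R.free S NT hm hmc hu huy hny hkE (R.stab S NT hkM hu' hku)).1
  have hbij : Function.Bijective φ := (Fintype.bijective_iff_injective_and_card _).2 ⟨hinj, by
    rw [Fintype.card_prod, ← Nat.card_eq_fintype_card, R.card_fixed, R.card, sq]⟩
  obtain ⟨p, hp⟩ := hbij.2 (-b)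
  obtain ⟨g, hgS, hgC, hg⟩ := R.exists_EU hu.cu (fr.wv_fix R p.1.2 p.2.2) hu.uu (fr.wv_eval R _ _).2.1
  refine ⟨g, S.mem g hgS hgC, hg.fix R hu.uu (fr.wv_eval R _ _).2.1, ?_⟩
  rw [hg, hwu, show f w (Fr.wv e₁ e₂ (p.1 : F) (p.2 : F)) = -b from hp, zero_smul, add_zero, mul_zero,
    zero_sub, neg_neg]

/-- no element outside sends a rational point into the perp of a rational point -/
theorem pair_false (S : Sub f C M) (NT : NoTv f C M) : ¬ Pair f C M := by
  classical
  rintro ⟨m, hm, hmc, u, u', hu, hu', h⟩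
  obtain ⟨w, hw⟩ : ∃ w, w = ap m u' := ⟨_, rfl⟩
  have hiso : Isom f m := (S.inS m hm).isom
  have up : ∀ b : F, ∃ g ∈ M, ap g u = u ∧ ap g w = w + b • u := fun b =>
    hw ▸ R.shift_mem S NT hm hmc hu hu' h b
  have down : ∀ b : F, ∃ g ∈ M, ap g w = w ∧ ap g u = u + b • w := fun b => by
    obtain ⟨g, hg, h1, h2⟩ := R.shift_mem S NT (inv_mem hm) (fun hc => hmc (by simpa using R.com_inv hc)) hu' hu
      (by rw [← hiso, ap_inv]; exact R.perp_symm h) b
    refine ⟨m * g * m⁻¹, mul_mem (mul_mem hm hg) (inv_mem hm), ?_, ?_⟩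
    · rw [ap_mul, ap_mul, hw, inv_ap, h1]
    · rw [ap_mul, ap_mul, h2, ap_add, ap_smul, ap_inv, ← hw]
  have hreal : ∀ a : F, a ≠ 0 → σ (a ^ 4) = a ^ 4 := fun a ha => by
    obtain ⟨g₁, hg₁, h1w, h1u⟩ := down 1
    obtain ⟨g₂, hg₂, h2u, h2w⟩ := up (a - 1)
    obtain ⟨g₃, hg₃, h3w, h3u⟩ := down (-1 / a)
    obtain ⟨g, hg⟩ : ∃ g, g = g₃ * g₂ * g₁ := ⟨_, rfl⟩
    have hgM : g ∈ M := hg ▸ mul_mem (mul_mem hg₃ hg₂) hg₁
    have hgu : ap g u = a • u := by
      rw [hg, ap_mul, ap_mul, h1u, one_smul, ap_add, h2u, h2w, ap_add, ap_add, ap_smul, h3u, h3w]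
      match_scalars <;> field_simp <;> ring
    obtain ⟨c, hc, hcc⟩ := R.stab S NT hgM hu hgu
    have h1 : σ (c * a) = c * a := by
      have e := hcc u
      rw [hu.cu, hgu, smul_smul, R.c_smul, hu.cu] at e
      exact smul_left_injective F hu.ne e
    have h4 := R.det_scalar hc hcc
    rw [(S.inS g hgM).2, mul_one] at h4
    refine mul_left_cancel₀ (pow_ne_zero 4 hc) ?_
    calc c ^ 4 * σ (a ^ 4) = σ ((c * a) ^ 4) := by rw [mul_pow, map_mul, h4]
      _ = c ^ 4 * a ^ 4 := by rw [map_pow, h1, mul_pow]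
  obtain ⟨t, hq⟩ : ∃ t, q = t + 5 := ⟨q - 5, by have := R.five; omega⟩
  have hcard : (Finset.univ.erase (0 : F)).card ≤ 4 * (t + 4) := by
    refine le_trans (Finset.card_le_card (t := (Polynomial.nthRoots (4 * (t + 4)) (1 : F)).toFinset)
      fun a ha => ?_) (le_trans (Multiset.toFinset_card_le _) (Polynomial.card_nthRoots _ _))
    have ha0 : a ≠ 0 := (Finset.mem_erase.1 ha).1
    have e := hreal a ha0
    rw [R.pow, ← pow_mul] at e
    rw [Multiset.mem_toFinset, Polynomial.mem_nthRoots (by omega)]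
    refine mul_left_cancel₀ (pow_ne_zero 4 ha0) ?_
    rw [← pow_add, mul_one, show 4 + 4 * (t + 4) = 4 * q by omega, e]
  rw [Finset.card_erase_of_mem (Finset.mem_univ _), Finset.card_univ, R.card, hq] at hcard
  have : (t + 5) ^ 2 ≤ 4 * (t + 4) + 1 := by omega
  nlinarith

end RS

end CfsgLib.MaxSub.SuReal
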