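import Cfsg.Agent.Lib.MaxSub.SuRealBase

/-!
Elements of the four-dimensional unitary group next to a rational structure: the calculus of unipotent
elements, reflections, and torus elements.
-/

set_option autoImplicit false
set_option linter.unusedSectionVars false

namespace CfsgLib.MaxSub.SuReal

open Matrix
open scoped MatrixGroups

variable {F : Type*} [Field F] [Fintype F]
variable {σ : F ≃+* F} {f : (Fin 4 → F) → (Fin 4 → F) → F} {C : (Fin 4 → F) → (Fin 4 → F)} {q : ℕ}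

/-- isometries -/
def Isom (f : (Fin 4 → F) → (Fin 4 → F) → F) (g : GL (Fin 4) F) : Prop :=
  ∀ x y, f (ap g x) (ap g y) = f x y

theorem Isom.mul {g h : GL (Fin 4) F} (hg : Isom f g) (hh : Isom f h) : Isom f (g * h) := fun x y => by
  rw [ap_mul, ap_mul, hg, hh]

theorem Isom.inv {g : GL (Fin 4) F} (hg : Isom f g) : Isom f g⁻¹ := fun x y => by
  rw [← hg (ap g⁻¹ x) (ap g⁻¹ y), ap_inv, ap_inv]

theorem InS.isom {g : GL (Fin 4) F} (hg : InS f g) : Isom f g := hg.1

/-- `g` is the unipotent map `x ↦ x + f(x,u) y + (s f(x,u) - f(x,y)) u` -/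
def IsE (f : (Fin 4 → F) → (Fin 4 → F) → F) (g : GL (Fin 4) F) (u y : Fin 4 → F) (s : F) : Prop :=
  ∀ x, ap g x = x + f x u • y + (s * f x u - f x y) • u

theorem IsE.uniq {g g' : GL (Fin 4) F} {u y : Fin 4 → F} {s : F} (h : IsE f g u y s) (h' : IsE f g' u y s) :
    g = g' :=
  ap_ext fun x => by rw [h, h']

theorem IsE.conj {g h : GL (Fin 4) F} {u y : Fin 4 → F} {s : F} (hg : IsE f g u y s) (hh : Isom f h) :
    IsE f (h * g * h⁻¹) (ap h u) (ap h y) s := fun x => by
  have hu : f (ap h⁻¹ x) u = f x (ap h u) := by rw [← hh (ap h⁻¹ x) u, ap_inv]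
  have hy : f (ap h⁻¹ x) y = f x (ap h y) := by rw [← hh (ap h⁻¹ x) y, ap_inv]
  rw [ap_mul, ap_mul, hg, ap_add, ap_add, ap_smul, ap_smul, ap_inv, hu, hy]

namespace RS

variable (R : RS σ f C q)
include R

theorem com_mul {g h : GL (Fin 4) F} (hg : Com C g) (hh : Com C h) : Com C (g * h) := by
  obtain ⟨c, hc, hgc⟩ := hg
  obtain ⟨d, hd, hhd⟩ := hh
  refine ⟨c * d, mul_ne_zero hc hd, fun x => ?_⟩
  rw [ap_mul, ap_mul, mul_smul, ← ap_smul g d, hgc, hhd, ap_smul, smul_smul]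

theorem com_inv {g : GL (Fin 4) F} (hg : Com C g) : Com C g⁻¹ := by
  obtain ⟨c, hc, hgc⟩ := hg
  refine ⟨c⁻¹, inv_ne_zero hc, fun x => ?_⟩
  have h := hgc (ap g⁻¹ x)
  rw [ap_inv, R.c_smul] at h
  have h1 := congrArg (ap g⁻¹) h
  rw [ap_smul, ap_smul, inv_ap] at h1
  have hsc : σ c ≠ 0 := (map_ne_zero σ).2 hc
  rw [R.c_smul, map_inv₀]
  refine smul_right_injective (Fin 4 → F) (mul_ne_zero hc hsc) ?_
  show (c * σ c) • ((σ c)⁻¹ • C (ap g⁻¹ x)) = (c * σ c) • (c⁻¹ • ap g⁻¹ (C x))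
  rw [smul_smul, smul_smul, show c * σ c * (σ c)⁻¹ = c by field_simp,
    show c * σ c * c⁻¹ = σ c by field_simp, h1]

theorem com_of_one {g : GL (Fin 4) F} (h : ∀ x, C (ap g x) = ap g (C x)) : Com C g :=
  ⟨1, one_ne_zero, fun x => by rw [one_smul, one_smul, h]⟩

/-- commuting with the conjugation can be checked on a fixed frame -/
theorem com_of_frame {u v e₁ e₂ : Fin 4 → F} (fr : Fr f C u v e₁ e₂) {g : GL (Fin 4) F} {c : F} (hc : c ≠ 0)
    (hu : C (c • ap g u) = c • ap g u) (hv : C (c • ap g v) = c • ap g v)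
    (h1 : C (c • ap g e₁) = c • ap g e₁) (h2 : C (c • ap g e₂) = c • ap g e₂) : Com C g := by
  refine ⟨c, hc, fun x => ?_⟩
  have e := fr.decomp R x
  obtain ⟨a, b, p, r, rfl⟩ : ∃ a b p r, x = a • u + b • v + p • e₁ + r • e₂ := ⟨_, _, _, _, e⟩
  have hC : C (a • u + b • v + p • e₁ + r • e₂) = σ a • u + σ b • v + σ p • e₁ + σ r • e₂ := by
    rw [R.c_add, R.c_add, R.c_add, R.c_smul a, R.c_smul b, R.c_smul p, R.c_smul r, fr.cu, fr.cv, fr.c1, fr.c2]
  rw [hC]
  simp only [ap_add, ap_smul, smul_add, smul_comm c, R.c_add, R.c_smul a, R.c_smul b, R.c_smul p, R.c_smul r,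
    hu, hv, h1, h2]

theorem det_scalar {g : GL (Fin 4) F} {c : F} (hc : c ≠ 0)
    (h : ∀ x, C (c • ap g x) = c • ap g (C x)) :
    σ (c ^ 4 * (g : Matrix (Fin 4) (Fin 4) F).det) = c ^ 4 * (g : Matrix (Fin 4) (Fin 4) F).det := by
  obtain ⟨g', hg'⟩ : ∃ g' : GL (Fin 4) F,
      (g' : Matrix (Fin 4) (Fin 4) F) = c • (g : Matrix (Fin 4) (Fin 4) F) :=
    ⟨⟨c • (g : Matrix (Fin 4) (Fin 4) F), c⁻¹ • ((g⁻¹ : GL (Fin 4) F) : Matrix (Fin 4) (Fin 4) F),
      by rw [smul_mul_smul_comm, mul_inv_cancel₀ hc, one_smul, ← Units.val_mul, mul_inv_cancel, Units.val_one],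
      by rw [smul_mul_smul_comm, inv_mul_cancel₀ hc, one_smul, ← Units.val_mul, inv_mul_cancel, Units.val_one]⟩,
      rfl⟩
  have hap : ∀ x, ap g' x = c • ap g x := fun x => by rw [ap, hg', smul_mulVec]
  have := R.c_det g' g' fun x => by rw [hap, hap, h, R.c_inv]
  rw [hg', Matrix.det_smul, Fintype.card_fin] at this
  exact this.symm

end RS

namespace IsE

variable {g g' : GL (Fin 4) F} {u y y' : Fin 4 → F} {s s' : F}

theorem scale (R : RS σ f C q) {l : F} (h : IsE f g (l • u) y s) : IsE f g u (σ l • y) (l * σ l * s) := fun x => by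
  rw [h, R.smul_right, R.smul_right, R.ss]
  module

theorem shift (R : RS σ f C q) {r : F} (h : IsE f g u (y + r • u) s) : IsE f g u y (s + r - σ r) := fun x => by
  rw [h, R.add_right, R.smul_right]
  module

theorem mul (R : RS σ f C q) (h : IsE f g u y s) (h' : IsE f g' u y' s') (huu : f u u = 0) (huy : f u y = 0)
    (hyu : f y' u = 0) : IsE f (g * g') u (y + y') (s + s' - f y' y) := fun x => by
  rw [ap_mul, h, h']
  simp only [R.add_left, R.add_right, R.smul_left, huu, huy, hyu, mul_zero, add_zero]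
  module

theorem inS (R : RS σ f C q) (h : IsE f g u y s) (huu : f u u = 0) (huy : f u y = 0)
    (hs : s + σ s = -f y y) : InS f g := by
  have e : g = eGL R u y s huu huy := h.uniq fun x => eGL_apply R s huu huy x
  rw [e]; exact eGL_inS R huu huy hs

theorem com (R : RS σ f C q) (h : IsE f g u y s) (hu : C u = u) (hy : C y = y) (hs : σ s = s) : Com C g :=
  R.com_of_one fun x => by
    have hxu : f (C x) u = σ (f x u) := by rw [← R.c_form, hu]
    have hxy : f (C x) y = σ (f x y) := by rw [← R.c_form, hy]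
    rw [h, h, R.c_add, R.c_add, R.c_smul, R.c_smul, hu, hy, map_sub, map_mul, hs, hxu, hxy]

theorem fix (R : RS σ f C q) (h : IsE f g u y s) (huu : f u u = 0) (huy : f u y = 0) : ap g u = u := by
  rw [h, huu, huy, mul_zero, sub_zero, zero_smul, zero_smul, add_zero, add_zero]

theorem trace (R : RS σ f C q) {k : F} (h : IsE f g u 0 k) (hg : Isom f g) (huu : f u u = 0) (hu : u ≠ 0) :
    k + σ k = 0 := by
  obtain ⟨x, hx⟩ : ∃ x, f x u ≠ 0 := by
    by_contra hno
    push Not at hno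
    exact hu (R.eq_zero_of_perp hno)
  have e := hg x x
  rw [h, R.zero_right, smul_zero, add_zero, sub_zero, R.add_left, R.add_right, R.add_right, R.smul_left,
    R.smul_left, R.smul_right, R.smul_right, huu, mul_zero, mul_zero, add_zero, R.form.herm u x, map_mul] at e
  refine (mul_eq_zero.1 (?_ : (k + σ k) * (f x u * σ (f x u)) = 0)).resolve_right
    (mul_ne_zero hx ((map_ne_zero σ).2 hx))
  linear_combination e

end IsE

namespace RS

variable (R : RS σ f C q)
include R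

theorem exists_E {u y : Fin 4 → F} (s : F) (huu : f u u = 0) (huy : f u y = 0) :
    ∃ g, IsE f g u y s := ⟨eGL R u y s huu huy, fun x => eGL_apply R s huu huy x⟩

theorem half_trace {y : Fin 4 → F} (hy : C y = y) :
    (-f y y / 2) + σ (-f y y / 2) = -f y y := by
  haveI : NeZero (2 : F) := ⟨R.two⟩
  rw [R.half (a := -f y y) (by rw [map_neg, R.real hy hy]), add_halves]

/-- the rational unipotent element attached to `u` and `y` -/
theorem exists_EU {u y : Fin 4 → F} (hu : C u = u) (hy : C y = y) (huu : f u u = 0) (huy : f u y = 0) :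
    ∃ g, InS f g ∧ Com C g ∧ IsE f g u y (-f y y / 2) := by
  obtain ⟨g, hg⟩ := R.exists_E (-f y y / 2) huu huy
  exact ⟨g, hg.inS R huu huy (R.half_trace hy), hg.com R hu hy (R.half (by rw [map_neg, R.real hy hy])), hg⟩

/-- reflections in fixed anisotropic vectors -/
theorem exists_refl {a : Fin 4 → F} (ha : C a = a) (haa : f a a ≠ 0) :
    ∃ g : GL (Fin 4) F, Isom f g ∧ (g : Matrix (Fin 4) (Fin 4) F).det = -1 ∧ Com C g ∧
      ∀ x, ap g x = x - (2 * f x a / f a a) • a := by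
  obtain ⟨k, hk⟩ : ∃ k, k = -2 / f a a := ⟨_, rfl⟩
  obtain ⟨A, hA⟩ : ∃ A, A = 1 + vecMulVec a (k • hDual f a) := ⟨_, rfl⟩
  have hap : ∀ x, A *ᵥ x = x - (2 * f x a / f a a) • a := fun x => by
    rw [hA, add_mulVec, one_mulVec, vecMulVec_mulVec, smul_dotProduct, hDual_dot R.form, smul_eq_mul,
      op_smul_eq_smul, sub_eq_add_neg, ← neg_smul, hk]
    congr 2
    ring
  have hAA : A * A = 1 := by
    refine Matrix.ext_of_mulVec_single fun i => ?_
    rw [← mulVec_mulVec, hap, hap, one_mulVec, R.sub_left, R.smul_left, div_mul_cancel₀ _ haa, sub_sub,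
      ← add_smul]
    convert sub_zero (Pi.single i (1 : F) : Fin 4 → F) using 2
    rw [show ∀ t : F, 2 * t / f a a + 2 * (t - 2 * t) / f a a = 0 from fun t => by ring, zero_smul]
  have hsr : σ (f a a) = f a a := R.real ha ha
  refine ⟨⟨A, A, hAA, hAA⟩, fun x y => ?_, ?_, R.com_of_one fun x => ?_, hap⟩
  · show f (A *ᵥ x) (A *ᵥ y) = f x y
    rw [hap, hap, R.sub_left, R.sub_right, R.sub_right, R.smul_left, R.smul_right, R.smul_left, R.smul_right,
      map_div₀, map_mul, map_ofNat, hsr, ← R.form.herm a y]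
    field_simp
    ring
  · show A.det = -1
    rw [hA, Matrix.vecMulVec_eq (Fin 1), Matrix.det_one_add_replicateCol_mul_replicateRow, smul_dotProduct,
      hDual_dot R.form, smul_eq_mul, hk, div_mul_cancel₀ _ haa]
    ring
  · show C (A *ᵥ x) = A *ᵥ C x
    have hxa : f (C x) a = σ (f x a) := by rw [← R.c_form, ha]
    rw [hap, hap, R.c_sub, R.c_smul, ha, map_div₀, map_mul, map_ofNat, hsr, hxa]

/-- the torus element of a frame -/
theorem exists_torus {u v e₁ e₂ : Fin 4 → F} (fr : Fr f C u v e₁ e₂) {r : F} (hr : r ≠ 0) (hrr : σ r = r) :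
    ∃ g, InS f g ∧ Com C g ∧ ap g u = r • u ∧ ap g v = r⁻¹ • v ∧ ap g e₁ = e₁ ∧ ap g e₂ = e₂ := by
  obtain ⟨A, hA⟩ : ∃ A : F → Matrix (Fin 4) (Fin 4) F, ∀ r, A r =
      1 + vecMulVec u ((r - 1) • hDual f v) + vecMulVec v ((r⁻¹ - 1) • hDual f u) :=
    ⟨_, fun _ => rfl⟩
  have hap : ∀ r x, A r *ᵥ x = x + ((r - 1) * f x v) • u + ((r⁻¹ - 1) * f x u) • v := fun r x => by
    rw [hA, add_mulVec, add_mulVec, one_mulVec, vecMulVec_mulVec, vecMulVec_mulVec, smul_dotProduct,
      smul_dotProduct, hDual_dot R.form, hDual_dot R.form, smul_eq_mul, smul_eq_mul]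
    simp only [op_smul_eq_smul]
  have hmul : ∀ r : F, r ≠ 0 → A r * A r⁻¹ = 1 := fun r hr => by
    refine Matrix.ext_of_mulVec_single fun i => ?_
    rw [← mulVec_mulVec, hap, hap, one_mulVec]
    simp only [R.add_left, R.smul_left, fr.uu, fr.vv, fr.uv, fr.vu, mul_zero, mul_one, add_zero, inv_inv]
    generalize (Pi.single i (1 : F) : Fin 4 → F) = x
    match_scalars <;> field_simp <;> ring
  refine ⟨⟨A r, A r⁻¹, hmul r hr, by simpa using hmul r⁻¹ (inv_ne_zero hr)⟩, ⟨fun x y => ?_, ?_⟩,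
    R.com_of_one fun x => ?_, ?_, ?_, ?_, ?_⟩
  · show f (A r *ᵥ x) (A r *ᵥ y) = f x y
    rw [hap, hap]
    simp only [R.add_left, R.add_right, R.smul_left, R.smul_right, fr.uu, fr.vv, fr.uv, fr.vu, mul_zero,
      mul_one, add_zero, zero_add, map_mul, map_sub, map_one, map_inv₀, hrr, ← R.form.herm v y,
      ← R.form.herm u y]
    field_simp
    ring
  · show (A r).det = 1
    obtain ⟨P, hP⟩ : ∃ P : Matrix (Fin 4) (Fin 2) F, P = Matrix.of fun i j => ![u i, v i] j := ⟨_, rfl⟩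
    obtain ⟨Q, hQ⟩ : ∃ Q : Matrix (Fin 2) (Fin 4) F,
        Q = Matrix.of ![(r - 1) • hDual f v, (r⁻¹ - 1) • hDual f u] := ⟨_, rfl⟩
    have e : A r = 1 + P * Q := by
      ext i j
      simp [hA, hP, hQ, Matrix.mul_apply, Fin.sum_univ_two, vecMulVec_apply, add_assoc, mul_left_comm]
    have h : Q * P = !![(r - 1) * f u v, (r - 1) * f v v; (r⁻¹ - 1) * f u u, (r⁻¹ - 1) * f v u] := by
      ext i j
      fin_cases i <;> fin_cases j <;>
        simp [hP, hQ, Matrix.mul_apply, ← hDual_dot R.form, dotProduct, Finset.mul_sum, mul_assoc]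
    rw [e, Matrix.det_one_add_mul_comm, h, Matrix.det_fin_two]
    simp [fr.uu, fr.vv, fr.uv, fr.vu, hr]
  · show C (A r *ᵥ x) = A r *ᵥ C x
    have hxu : f (C x) u = σ (f x u) := by rw [← R.c_form, fr.cu]
    have hxv : f (C x) v = σ (f x v) := by rw [← R.c_form, fr.cv]
    rw [hap, hap, R.c_add, R.c_add, R.c_smul, R.c_smul, fr.cu, fr.cv, hxu, hxv]
    simp only [map_mul, map_sub, map_one, map_inv₀, hrr]
  · show A r *ᵥ u = r • u
    rw [hap, fr.uu, fr.uv]; module
  · show A r *ᵥ v = r⁻¹ • v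
    rw [hap, fr.vv, fr.vu]; module
  · show A r *ᵥ e₁ = e₁
    rw [hap, fr.i1u, fr.i1v]; module
  · show A r *ᵥ e₂ = e₂
    rw [hap, fr.i2u, fr.i2v]; module

end RS

end CfsgLib.MaxSub.SuReal
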