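import Cfsg.Agent.Lib.MaxSub.SympTypeFourGroup

/-!
Groups with squares and commutators equal to signs and sixteen cosets of the centre, acting absolutely
irreducibly on a four-dimensional space, and the elements of prime order normalising them.
-/

set_option autoImplicit false
set_option linter.unusedSectionVars false
set_option linter.style.haveILetI false

namespace CfsgLib.MaxSub.SymFour

open scoped MatrixGroups
open Cfsg.Geo Matrix

variable {ι : Type} [Fintype ι] [DecidableEq ι] {F : Type*} [Field F]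

local notation "Mι" => Matrix ι ι F

/-- The properties of a group of symplectic type of degree four that are used. -/
structure Pauli (R : Subgroup (GL ι F)) : Prop where
  dim : Fintype.card ι = 4
  two : (2 : F) ≠ 0
  irr : ∀ M : Mι, (∀ y ∈ R, M * (y : Mι) = (y : Mι) * M) → ∃ c : F, M = c • (1 : Mι)
  quot : Nat.card (R ⧸ Subgroup.center R) = 16
  negMem : (-1 : GL ι F) ∈ R
  sq : ∀ y ∈ R, y * y = 1 ∨ y * y = -1
  comm : ∀ x ∈ R, ∀ y ∈ R, x * y = y * x ∨ x * y = -(y * x)

theorem eq_one_or_neg_one_of_sq {z : GL ι F} {a : F} (ha : (z : Mι) = a • (1 : Mι)) (h : z * z = 1) :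
    z = 1 ∨ z = -1 := by
  have h1 : (z : Mι) * (z : Mι) = 1 := by rw [← Units.val_mul, h, Units.val_one]
  rw [ha, Matrix.smul_mul, Matrix.mul_smul, Matrix.one_mul, smul_smul] at h1
  rcases isEmpty_or_nonempty ι with hι | hι
  · exact Or.inl (Units.ext (Subsingleton.elim _ _))
  obtain ⟨i⟩ := hι
  have h2 := congrFun (congrFun h1 i) i
  simp only [Matrix.smul_apply, Matrix.one_apply_eq, smul_eq_mul, mul_one] at h2
  rcases mul_self_eq_one_iff.1 h2 with rfl | rfl
  · exact Or.inl (Units.ext (by rw [ha, one_smul, Units.val_one]))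
  · exact Or.inr (Units.ext (by rw [ha, neg_smul, one_smul, Units.val_neg, Units.val_one]))

theorem neg_one_ne_one (h2 : (2 : F) ≠ 0) [Nonempty ι] : (-1 : GL ι F) ≠ 1 := fun h => by
  obtain ⟨i⟩ := ‹Nonempty ι›
  have h' := congrArg (fun u : GL ι F => (u : Mι) i i) h
  simp only [Units.val_neg, Units.val_one, Matrix.neg_apply, Matrix.one_apply_eq] at h'
  exact h2 (by linear_combination -h')

/-- A group of symplectic type of order `2⁶` with centre of order four, or of order `2⁵` with centre of order two. -/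
theorem Pauli.of_sympType {R : Subgroup (GL ι F)} (dim : Fintype.card ι = 4) (two : (2 : F) ≠ 0)
    (hs : IsSymplecticTypeGroup 2 R) (hirr : ActsAbsolutelyIrreducibly (matrixSet R))
    (h : (Nat.card R = 2 ^ 6 ∧ Nat.card (Subgroup.center R) = 4) ∨
      (Nat.card R = 2 ^ 5 ∧ Nat.card (Subgroup.center R) = 2)) : Pauli R := by
  haveI : Nonempty ι := Fintype.card_pos_iff.1 (by omega)
  haveI : Finite R := Nat.finite_of_card_ne_zero (by rcases h with h | h <;> omega)
  have hscal : ∀ M : Mι, (∀ y ∈ R, M * (y : Mι) = (y : Mι) * M) → ∃ c : F, M = c • (1 : Mι) :=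
    fun M hM => hirr.2 M fun s hs => by obtain ⟨y, hy, rfl⟩ := hs; exact hM y hy
  have hexp : ∀ y : R, y ^ 4 = 1 := fun y => by
    have := Monoid.pow_exponent_eq_one y
    rw [hs.exponent_eq] at this
    simpa using this
  have hle := commutator_le_center hexp hs.cyclic_of_characteristic
    (by rcases h with h | h
        · exact Or.inl h.2
        · exact Or.inr ⟨by rw [h.1]; norm_num, h.2⟩)
  have hzscal : ∀ z : R, z ∈ Subgroup.center R → ∃ c : F, ((z : GL ι F) : Mι) = c • (1 : Mι) := fun z hz =>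
    hscal _ fun y hy => congrArg (fun u : R => ((u : GL ι F) : Mι)) (Subgroup.mem_center_iff.1 hz ⟨y, hy⟩).symm
  have hcom : ∀ x y : R, x * y = y * x ∨ ((x * y : R) : GL ι F) = -((y * x : R) : GL ι F) := by
    intro x y
    obtain ⟨c, hc⟩ : ∃ c, c = x * y * x⁻¹ * y⁻¹ := ⟨_, rfl⟩
    have hcz : c ∈ Subgroup.center R :=
      hc ▸ hle (Subgroup.commutator_mem_commutator (Subgroup.mem_top x) (Subgroup.mem_top y))
    have hxy : x * y = c * (y * x) := by rw [hc]; group
    have h6 : c ^ 2 = 1 := by
      have e := CfsgLib.Aschbacher.mul_pow_of_central (x := y) (y := x) (c := c)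
        (fun w => (Subgroup.mem_center_iff.1 hcz w).symm) hxy 4
      rw [hexp, hexp, hexp, mul_one, mul_one] at e
      have : c ^ 6 = 1 := by rw [show (6 : ℕ) = Nat.choose 4 2 from rfl, ← e]
      rw [show (6 : ℕ) = 4 + 2 from rfl, pow_add, hexp, one_mul] at this
      exact this
    obtain ⟨a, ha⟩ := hzscal c hcz
    rcases eq_one_or_neg_one_of_sq ha (by rw [← Subgroup.coe_mul, ← pow_two, h6, Subgroup.coe_one]) with e | e
    · exact Or.inl (by rw [hxy, show c = 1 from Subtype.ext e, one_mul])
    · exact Or.inr (by rw [hxy]; simp only [Subgroup.coe_mul, e, neg_one_mul])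
  have hsq : ∀ y : R, (y : GL ι F) * (y : GL ι F) = 1 ∨ (y : GL ι F) * (y : GL ι F) = -1 := by
    intro y
    have hz : y * y ∈ Subgroup.center R := by
      rw [Subgroup.mem_center_iff]
      intro w
      apply Subtype.ext
      rcases hcom w y with e | e
      · rw [← mul_assoc, e, mul_assoc, e, mul_assoc]
      · simp only [Subgroup.coe_mul] at e ⊢
        rw [← mul_assoc, e, neg_mul, mul_assoc, e, mul_neg, neg_neg, mul_assoc]
    obtain ⟨a, ha⟩ := hzscal _ hz
    refine eq_one_or_neg_one_of_sq (z := (y : GL ι F) * (y : GL ι F)) (a := a) ha ?_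
    have := congrArg (fun u : R => (u : GL ι F)) (hexp y)
    simpa [pow_succ, mul_assoc] using this
  refine ⟨dim, two, hscal, ?_, ?_, fun y hy => hsq ⟨y, hy⟩, fun x hx y hy => ?_⟩
  · have := Subgroup.card_mul_index (Subgroup.center R)
    rw [Subgroup.index_eq_card] at this
    rcases h with h | h <;> rw [h.1, h.2] at this <;> omega
  · by_contra hneg
    have hab : ∀ x : R, x ∈ Subgroup.center R := fun x => Subgroup.mem_center_iff.2 fun y => by
      rcases hcom y x with e | e
      · exact e
      · refine (hneg ?_).elim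
        have : (-1 : GL ι F) = ((y * x * (x * y)⁻¹ : R) : GL ι F) := by
          rw [Subgroup.coe_mul, e, Subgroup.coe_inv, neg_mul, mul_inv_cancel]
        rw [this]
        exact SetLike.coe_mem _
    have e : Subgroup.center R = ⊤ := eq_top_iff.2 fun x _ => hab x
    rcases h with h | h <;> rw [e, Subgroup.card_top, h.1] at h <;> simp at h
  · rcases hcom ⟨x, hx⟩ ⟨y, hy⟩ with e | e
    · exact Or.inl (congrArg Subtype.val e)
    · exact Or.inr e

variable {R : Subgroup (GL ι F)} (hR : Pauli R)
include hR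

theorem Pauli.ne : (-1 : GL ι F) ≠ 1 := by
  haveI : Nonempty ι := Fintype.card_pos_iff.1 (by rw [hR.dim]; norm_num)
  exact neg_one_ne_one hR.two

theorem Pauli.nonempty : Nonempty ι := Fintype.card_pos_iff.1 (by rw [hR.dim]; norm_num)

theorem Pauli.finite_quot : Finite (R ⧸ Subgroup.center R) :=
  Nat.finite_of_card_ne_zero (by rw [hR.quot]; norm_num)

theorem Pauli.center_iff (y : R) :
    y ∈ Subgroup.center R ↔ ∃ c : F, ((y : GL ι F) : Mι) = c • (1 : Mι) := by
  constructor
  · exact fun hy => hR.irr _ fun w hw =>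
      congrArg (fun u : R => ((u : GL ι F) : Mι)) (Subgroup.mem_center_iff.1 hy ⟨w, hw⟩).symm
  · rintro ⟨c, hc⟩
    refine Subgroup.mem_center_iff.2 fun w => Subtype.ext (Units.ext ?_)
    simp [hc]

theorem Pauli.exists_anti (y : R) (hy : y ∉ Subgroup.center R) :
    ∃ w ∈ R, w * (y : GL ι F) = -((y : GL ι F) * w) := by
  rw [Subgroup.mem_center_iff] at hy
  push Not at hy
  obtain ⟨w, hw⟩ := hy
  exact ⟨w, w.2, (hR.comm w w.2 y y.2).resolve_left fun e => hw (Subtype.ext e)⟩

theorem Pauli.trace_zero {y : GL ι F} (hy : y ∈ R) (hns : ∀ c : F, (y : Mι) ≠ c • (1 : Mι)) :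
    (y : Mι).trace = 0 := by
  obtain ⟨w, -, hw⟩ := hR.exists_anti ⟨y, hy⟩ (fun h => by
    obtain ⟨c, hc⟩ := (hR.center_iff _).1 h; exact hns c hc)
  have h1 : ((w : Mι) * (y : Mι) * ((w⁻¹ : GL ι F) : Mι)).trace = (y : Mι).trace := Matrix.trace_units_conj w _
  rw [← Units.val_mul, hw, Units.val_neg, Units.val_mul, neg_mul, Matrix.trace_neg, mul_assoc,
    Units.mul_inv, mul_one] at h1
  exact (mul_eq_zero.1 (show (2 : F) * (y : Mι).trace = 0 by linear_combination -h1)).resolve_left hR.two

theorem Pauli.linearIndependent :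
    LinearIndependent F (fun Q : R ⧸ Subgroup.center R => (((Q.out : R) : GL ι F) : Mι)) := by
  haveI := hR.nonempty
  refine CfsgLib.Aschbacher.linearIndependent_reps fun x hx y hy => ?_
  rcases hR.comm x hx y hy with e | e
  · rw [e, show y * x * x⁻¹ * y⁻¹ = 1 by group]; exact one_mem _
  · rw [e, neg_mul, neg_mul, show y * x * x⁻¹ * y⁻¹ = 1 by group, mem_scalars_iff]
    exact ⟨-1, by simp⟩

/-- The basis of the matrix algebra made of representatives of the cosets of the centre. -/
noncomputable def Pauli.basis : Module.Basis (R ⧸ Subgroup.center R) F Mι :=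
  Module.Basis.mk hR.linearIndependent (by
    haveI := hR.finite_quot
    letI := Fintype.ofFinite (R ⧸ Subgroup.center R)
    exact (hR.linearIndependent.span_eq_top_of_card_eq_finrank' (by
      rw [← Nat.card_eq_fintype_card, hR.quot, Module.finrank_matrix, Module.finrank_self, hR.dim])).ge)

theorem Pauli.basis_apply (Q : R ⧸ Subgroup.center R) :
    hR.basis Q = (((Q.out : R) : GL ι F) : Mι) := by
  rw [Pauli.basis]
  exact Module.Basis.mk_apply _ _ Q

/-- Every element is a nonzero multiple of the representative of its coset. -/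
theorem Pauli.rep_mul (y : R) : ∃ c : F, c ≠ 0 ∧ ((y : GL ι F) : Mι) = c • hR.basis (QuotientGroup.mk y) := by
  obtain ⟨Q, hQ⟩ : ∃ Q, Q = (QuotientGroup.mk y : R ⧸ Subgroup.center R) := ⟨_, rfl⟩
  rw [← hQ, hR.basis_apply]
  have hz : Q.out⁻¹ * y ∈ Subgroup.center R := QuotientGroup.eq.1 ((Quotient.out_eq Q).trans hQ)
  obtain ⟨c, hc⟩ := (hR.center_iff _).1 hz
  have e : ((y : GL ι F) : Mι) = c • (((Q.out : R) : GL ι F) : Mι) := by
    rw [show y = Q.out * (Q.out⁻¹ * y) by group, Subgroup.coe_mul, Units.val_mul, hc]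
    simp
  haveI := hR.nonempty
  exact ⟨c, fun h0 => (y : GL ι F).ne_zero (by rw [e, h0, zero_smul]), e⟩

end CfsgLib.MaxSub.SymFour
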