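import Cfsg.Agent.Lib.Aschbacher.SympType

/-!
A group of symplectic type acting absolutely irreducibly on a four-dimensional space: squares and
commutators are signs, and the sixteen cosets of the centre form a basis of the matrix algebra.
-/

set_option autoImplicit false
set_option linter.unusedSectionVars false
set_option linter.style.haveILetI false

namespace CfsgLib.MaxSub.SymFour

open scoped MatrixGroups commutatorElement
open Cfsg.Geo

/-- A normal subgroup of a `p`-group other than the trivial one contains a central element other than one. -/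
theorem exists_central_of_normal {Q : Type*} [Group Q] [Finite Q] {p : ℕ} [Fact p.Prime]
    (hQ : IsPGroup p Q) (N : Subgroup Q) [N.Normal] (hN : N ≠ ⊥) :
    ∃ a ∈ N, a ∈ Subgroup.center Q ∧ a ≠ 1 := by
  letI : MulAction Q N := MulAction.compHom _ (MulAut.conjNormal (H := N))
  have hone : (1 : N) ∈ MulAction.fixedPoints Q N := fun g => by
    show MulAut.conjNormal g (1 : N) = 1
    exact map_one _
  obtain ⟨k, hk, hcard⟩ := (hQ.to_subgroup N).nontrivial_iff_card.1
    ((Subgroup.nontrivial_iff_ne_bot N).2 hN)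
  have hdvd : p ∣ Nat.card N := hcard ▸ dvd_pow_self p hk.ne'
  obtain ⟨b, hb, hne⟩ := hQ.exists_fixed_point_of_prime_dvd_card_of_fixed_point (α := N) hdvd hone
  refine ⟨b, b.2, Subgroup.mem_center_iff.2 fun g => ?_, fun h => hne (Subtype.ext h.symm)⟩
  have h1 := congrArg Subtype.val (hb g)
  change (MulAut.conjNormal g b : Q) = (b : Q) at h1
  rw [MulAut.conjNormal_apply] at h1
  exact mul_inv_eq_iff_eq_mul.1 h1

theorem card_commutator_le_two {Q : Type*} [Group Q] [Finite Q] (hQ : Nat.card Q = 8) :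
    Nat.card (commutator Q) ≤ 2 := by
  have hp : IsPGroup 2 Q := IsPGroup.of_card (n := 3) (by rw [hQ]; norm_num)
  haveI : Nontrivial Q := Finite.one_lt_card_iff_nontrivial.1 (by omega)
  obtain ⟨j, hj0, hj⟩ := (hp.to_subgroup (Subgroup.center Q)).nontrivial_iff_card.1 hp.center_nontrivial
  have hmul := Subgroup.card_mul_index (Subgroup.center Q)
  rw [hQ, hj, Subgroup.index_eq_card] at hmul
  have hj3 : j ≤ 3 := by
    have : 2 ^ j ∣ 2 ^ 3 := ⟨_, hmul.symm⟩
    exact (Nat.pow_dvd_pow_iff_le_right (by norm_num)).1 this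
  have hcase : Nat.card (Q ⧸ Subgroup.center Q) = 4 ∧ Nat.card (Subgroup.center Q) = 2 ∨
      Nat.card (Q ⧸ Subgroup.center Q) ≤ 2 := by
    rw [hj]
    interval_cases j
    · left; exact ⟨by omega, by norm_num⟩
    · right; omega
    · right; omega
  rcases hcase with ⟨h4, h2⟩ | h2
  · have hc : ∀ a b : Q ⧸ Subgroup.center Q, a * b = b * a :=
      IsPGroup.commutative_of_card_eq_prime_sq (p := 2) (by rw [h4]; norm_num)
    refine le_trans (Subgroup.card_le_of_le ?_) h2.le
    rw [commutator_def, Subgroup.commutator_le]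
    intro a _ b _
    rw [← QuotientGroup.eq_one_iff, ← QuotientGroup.mk'_apply, map_commutatorElement]
    exact commutatorElement_eq_one_iff_mul_comm.2 (hc _ _)
  · haveI : IsCyclic (Q ⧸ Subgroup.center Q) := by
      rcases Nat.lt_or_ge (Nat.card (Q ⧸ Subgroup.center Q)) 2 with h | h
      · haveI : Subsingleton (Q ⧸ Subgroup.center Q) :=
          (Finite.card_le_one_iff_subsingleton).1 (by omega)
        infer_instance
      · exact isCyclic_of_prime_card (p := 2) (le_antisymm h2 h)
    have hab := commutative_of_cyclic_center_quotient (QuotientGroup.mk' (Subgroup.center Q))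
      (by rw [QuotientGroup.ker_mk'])
    have : commutator Q = ⊥ := by
      rw [commutator_def, eq_bot_iff, Subgroup.commutator_le]
      intro a _ b _
      exact Subgroup.mem_bot.2 (commutatorElement_eq_one_iff_mul_comm.2 (hab a b))
    rw [this]
    simp

/-- In a group of exponent dividing four, order at most 64 by the square of centre, all characteristic
abelian subgroups cyclic, commutators are central. -/
theorem commutator_le_center {R : Type*} [Group R] [Finite R]
    (hexp : ∀ y : R, y ^ 4 = 1) (hchar : ∀ A : Subgroup R, A.Characteristic → IsMulCommutative A → IsCyclic A)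
    (h : Nat.card (Subgroup.center R) = 4 ∨ (Nat.card R = 32 ∧ Nat.card (Subgroup.center R) = 2)) :
    commutator R ≤ Subgroup.center R := by
  classical
  have hp : IsPGroup 2 R := fun y => ⟨2, hexp y⟩
  have h4 : ∀ A : Subgroup R, IsCyclic A → Nat.card A ∣ 4 := by
    intro A hA
    obtain ⟨g, hg⟩ := hA.exists_generator
    rw [← orderOf_eq_card_of_forall_mem_zpowers hg]
    exact orderOf_dvd_of_pow_eq_one (Subtype.ext (hexp g))
  obtain ⟨Z2, hZ2⟩ : ∃ Z2, Z2 = (Subgroup.center (R ⧸ Subgroup.center R)).comap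
      (QuotientGroup.mk' (Subgroup.center R)) := ⟨_, rfl⟩
  have hZ2c : Z2.Characteristic := hZ2 ▸ Subgroup.Characteristic.comap_quotient_mk Subgroup.centerCharacteristic
  have hzle : Subgroup.center R ≤ Z2 := fun x hx => by
    rw [hZ2, Subgroup.mem_comap]
    rw [show QuotientGroup.mk' (Subgroup.center R) x = 1 from (QuotientGroup.eq_one_iff x).2 hx]
    exact one_mem _
  have hmemZ2 : ∀ g ∈ Z2, ∀ x : R, g * x * g⁻¹ * x⁻¹ ∈ Subgroup.center R := by
    intro g hg x
    rw [hZ2, Subgroup.mem_comap, Subgroup.mem_center_iff] at hg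
    rw [← QuotientGroup.eq_one_iff]
    have := hg (QuotientGroup.mk' (Subgroup.center R) x)
    change ((g * x * g⁻¹ * x⁻¹ : R) : R ⧸ Subgroup.center R) = 1
    rw [QuotientGroup.mk_mul, QuotientGroup.mk_mul, QuotientGroup.mk_mul, QuotientGroup.mk_inv, QuotientGroup.mk_inv]
    simp only [QuotientGroup.mk'_apply] at this
    rw [← this]
    group
  have hcz : commutator R ⊔ Subgroup.center R ≤ Subgroup.centralizer (Z2 : Set R) := by
    refine sup_le ?_ (Subgroup.center_le_centralizer _)
    rw [commutator_def, Subgroup.commutator_le]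
    intro a _ b _
    rw [Subgroup.mem_centralizer_iff]
    intro g hg
    obtain ⟨φ, hφ⟩ : ∃ φ : R →* Subgroup.center R, ∀ x, (φ x : R) = g * x * g⁻¹ * x⁻¹ := by
      refine ⟨MonoidHom.mk' (fun x => ⟨g * x * g⁻¹ * x⁻¹, hmemZ2 g hg x⟩) fun x y => Subtype.ext ?_, fun x => rfl⟩
      show g * (x * y) * g⁻¹ * (x * y)⁻¹ = (g * x * g⁻¹ * x⁻¹) * (g * y * g⁻¹ * y⁻¹)
      have hc := Subgroup.mem_center_iff.1 (hmemZ2 g hg y) x
      calc g * (x * y) * g⁻¹ * (x * y)⁻¹
          = g * x * g⁻¹ * (g * y * g⁻¹ * y⁻¹) * x⁻¹ := by group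
        _ = g * x * g⁻¹ * (x⁻¹ * (x * (g * y * g⁻¹ * y⁻¹)) * x⁻¹) := by group
        _ = g * x * g⁻¹ * (x⁻¹ * ((g * y * g⁻¹ * y⁻¹) * x) * x⁻¹) := by rw [hc]
        _ = _ := by group
    have h1 : φ ⁅a, b⁆ = 1 := by
      rw [map_commutatorElement]
      exact commutatorElement_eq_one_iff_mul_comm.2 (Subtype.ext (Subgroup.mem_center_iff.1 (φ b).2 _))
    have h2 := congrArg Subtype.val h1
    rw [hφ, OneMemClass.coe_one] at h2
    exact mul_inv_eq_one.1 (by rw [← h2]; group)
  obtain ⟨A, hA⟩ : ∃ A, A = (commutator R ⊔ Subgroup.center R) ⊓ Z2 := ⟨_, rfl⟩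
  have hsupc : (commutator R ⊔ Subgroup.center R).Characteristic := by
    haveI : (commutator R).Characteristic := Subgroup.commutator_characteristic (⊤ : Subgroup R) ⊤
    haveI : (Subgroup.center R).Characteristic := Subgroup.centerCharacteristic
    exact Subgroup.characteristic_iff_map_eq.2 fun φ => by
      rw [Subgroup.map_sup, Subgroup.characteristic_iff_map_eq.1 inferInstance φ,
        Subgroup.characteristic_iff_map_eq.1 inferInstance φ]
  have hAc : A.Characteristic := hA ▸ Subgroup.characteristic_iff_comap_eq.2 (fun φ => by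
    rw [Subgroup.comap_inf, Subgroup.characteristic_iff_comap_eq.1 hsupc φ,
      Subgroup.characteristic_iff_comap_eq.1 hZ2c φ])
  have hAab : IsMulCommutative A := ⟨⟨fun a b => Subtype.ext <| by
    have ha : (a : R) ∈ (commutator R ⊔ Subgroup.center R) ⊓ Z2 := hA.le a.2
    have hb : (b : R) ∈ (commutator R ⊔ Subgroup.center R) ⊓ Z2 := hA.le b.2
    exact (Subgroup.mem_centralizer_iff.1 (hcz ha.1) b hb.2).symm⟩⟩
  have hZA : Subgroup.center R ≤ A := hA ▸ le_inf le_sup_right hzle
  have hA4 : Nat.card A ≤ 4 := Nat.le_of_dvd (by norm_num) (h4 A (hchar A hAc hAab))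
  by_contra hcon
  obtain ⟨u₀, hu₀A, hu₀Z⟩ : ∃ a ∈ A, a ∉ Subgroup.center R := by
    obtain ⟨N, hN⟩ : ∃ N, N = (commutator R).map (QuotientGroup.mk' (Subgroup.center R)) := ⟨_, rfl⟩
    haveI : N.Normal := hN ▸ Subgroup.Normal.map inferInstance _ (QuotientGroup.mk'_surjective _)
    have hNb : N ≠ ⊥ := fun hb => hcon (by
      rw [hN, Subgroup.map_eq_bot_iff, QuotientGroup.ker_mk'] at hb
      exact hb)
    obtain ⟨q, hqN, hqc, hq1⟩ := exists_central_of_normal (hp.to_quotient _) N hNb
    rw [hN] at hqN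
    obtain ⟨a, ha, rfl⟩ := hqN
    refine ⟨a, ?_, fun h => hq1 ((QuotientGroup.eq_one_iff a).2 h)⟩
    rw [hA]
    exact ⟨Subgroup.mem_sup_left ha, by rw [hZ2]; exact hqc⟩
  have hlt : Nat.card (Subgroup.center R) < Nat.card A := by
    refine lt_of_le_of_ne (Subgroup.card_le_of_le hZA) fun e => hu₀Z ?_
    have := Subgroup.eq_of_le_of_card_ge hZA e.ge
    rw [this]
    exact hu₀A
  rcases h with h | ⟨hR, hZ⟩
  · omega
  haveI hAcyc : IsCyclic A := hchar A hAc hAab
  have hAcard : Nat.card A = 4 := by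
    have := h4 A hAcyc
    have h3 : Nat.card A ≠ 3 := fun e => by rw [e] at this; norm_num at this
    omega
  haveI := hAc
  -- the centraliser of `A` has index two
  obtain ⟨C, hC⟩ : ∃ C, C = Subgroup.centralizer (A : Set R) := ⟨_, rfl⟩
  obtain ⟨g₀, hg₀⟩ := hAcyc.exists_generator
  obtain ⟨u, hu⟩ : ∃ u : R, u = g₀ := ⟨_, rfl⟩
  have hAu : ∀ a, a ∈ A ↔ ∃ k : ℕ, k < 4 ∧ a = u ^ k := by
    intro a
    constructor
    · intro ha
      obtain ⟨k, hk⟩ := (isOfFinOrder_of_finite g₀).mem_powers_iff_mem_zpowers.2 (hg₀ ⟨a, ha⟩)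
      refine ⟨k % 4, Nat.mod_lt _ (by norm_num), ?_⟩
      have h1 := congrArg Subtype.val hk
      simp only [SubgroupClass.coe_pow] at h1
      rw [← hu] at h1
      rw [← h1]
      exact pow_eq_pow_mod k (hexp u)
    · rintro ⟨k, -, rfl⟩
      exact A.pow_mem (hu ▸ g₀.2) k
  have hu4 : orderOf u = 4 := by
    rw [hu, Subgroup.orderOf_coe, orderOf_eq_card_of_forall_mem_zpowers hg₀, hAcard]
  have hpow : ∀ k, u ^ k = 1 → 4 ∣ k := fun k hk => hu4 ▸ orderOf_dvd_of_pow_eq_one hk
  have hu2 : u ^ 2 ∈ Subgroup.center R := by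
    haveI : Nontrivial (Subgroup.center R) := Finite.one_lt_card_iff_nontrivial.1 (by omega)
    obtain ⟨z, hz⟩ := exists_ne (1 : Subgroup.center R)
    obtain ⟨k, hk, hzk⟩ := (hAu z).1 (hZA z.2)
    have hz2 : (z : R) ^ 2 = 1 := by
      have := pow_card_eq_one' (x := z)
      rw [hZ] at this
      exact congrArg Subtype.val this
    rw [hzk, ← pow_mul] at hz2
    have := hpow _ hz2
    have hk0 : k ≠ 0 := fun h0 => hz (Subtype.ext (by rw [hzk, h0, pow_zero]; rfl))
    obtain rfl : k = 2 := by omega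
    rw [← hzk]; exact z.2
  have huZ : u ∉ Subgroup.center R := fun hcu => hu₀Z (by
    obtain ⟨k, -, rfl⟩ := (hAu u₀).1 hu₀A
    exact Subgroup.pow_mem _ hcu k)
  have hconj : ∀ g : R, g * u * g⁻¹ = u ∨ g * u * g⁻¹ = u ^ 3 := by
    intro g
    obtain ⟨k, hk, e⟩ := (hAu _).1 ((inferInstance : A.Normal).conj_mem u (hu ▸ g₀.2) g)
    have hk2 : k ≠ 0 ∧ k ≠ 2 := by
      constructor
      · rintro rfl
        have h1 : u ^ 1 = 1 := by
          rw [pow_one, show u = g⁻¹ * (g * u * g⁻¹) * g by group, e, pow_zero]; group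
        exact absurd (hpow 1 h1) (by norm_num)
      · rintro rfl
        have h1 : u ^ 1 = u ^ 2 := by
          rw [pow_one]
          calc u = g⁻¹ * (g * u * g⁻¹) * g := by group
            _ = g⁻¹ * (u ^ 2 * g) := by rw [e]; group
            _ = g⁻¹ * (g * u ^ 2) := by rw [Subgroup.mem_center_iff.1 hu2 g]
            _ = u ^ 2 := by group
        have h2 : u ^ 1 = 1 := by
          have := h1
          rw [pow_two, pow_one] at this
          rw [pow_one]
          exact mul_left_cancel (this.symm.trans (mul_one u).symm)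
        exact absurd (hpow 1 h2) (by norm_num)
    have : k = 1 ∨ k = 3 := by omega
    rcases this with rfl | rfl
    · exact Or.inl (by simpa using e)
    · exact Or.inr e
  have hCmem : ∀ g : R, g ∈ C ↔ g * u * g⁻¹ = u := by
    intro g
    rw [hC, Subgroup.mem_centralizer_iff]
    constructor
    · intro h
      rw [← h u (hu ▸ g₀.2), mul_inv_cancel_right]
    · intro h a ha
      obtain ⟨k, -, rfl⟩ := (hAu a).1 ha
      exact (Commute.pow_left (mul_inv_eq_iff_eq_mul.1 h).symm k).eq
  have hCi : C.index = 2 := by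
    obtain ⟨g, hg⟩ : ∃ g, g ∉ C := by
      by_contra hall
      push Not at hall
      exact huZ (Subgroup.mem_center_iff.2 fun g => mul_inv_eq_iff_eq_mul.1 ((hCmem g).1 (hall g)))
    rw [Subgroup.index_eq_two_iff]
    refine ⟨g, fun b => ?_⟩
    have hg' := (hconj g).resolve_left (fun e => hg ((hCmem g).2 e))
    rcases hconj b with hb | hb
    · refine Or.inr ⟨(hCmem b).2 hb, fun hbg => hg ?_⟩
      exact (C.mul_mem_cancel_left ((hCmem b).2 hb)).1 hbg
    · refine Or.inl ⟨(hCmem _).2 ?_, fun hbC => ?_⟩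
      · rw [show b * g * u * (b * g)⁻¹ = b * (g * u * g⁻¹) * b⁻¹ by group, hg', ← conj_pow, hb, ← pow_mul,
          show 3 * 3 = 4 * 2 + 1 by norm_num, pow_succ, pow_mul, hexp, one_pow, one_mul]
      · rw [(hCmem b).1 hbC, show (u ^ 3) = u * u ^ 2 from pow_succ' u 2, left_eq_mul] at hb
        exact absurd (hpow 2 hb) (by norm_num)
  have hC16 : Nat.card C = 16 := by
    have := Subgroup.card_mul_index C
    rw [hCi, hR] at this
    omega
  have hAC : A ≤ C := fun a ha => by
    rw [hC, Subgroup.mem_centralizer_iff]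
    intro b hb
    exact congrArg Subtype.val (hAab.is_comm.comm ⟨b, hb⟩ ⟨a, ha⟩)
  have hCna : ¬ ∀ a ∈ C, ∀ b ∈ C, a * b = b * a := by
    intro hab
    have := h4 C (hchar C (hC ▸ Subgroup.characteristic_centralizer)
      ⟨⟨fun a b => Subtype.ext (hab a a.2 b b.2)⟩⟩)
    rw [hC16] at this
    exact absurd (Nat.le_of_dvd (by norm_num) this) (by norm_num)
  -- squares of elements of `C` lie in the centre
  have hsqC : ∀ a ∈ C, a * a ∈ Subgroup.center R := by
    intro a ha
    have haA : a * a ∈ A := by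
      by_contra hne
      apply hCna
      obtain ⟨AC, hAC'⟩ : ∃ AC, AC = A.subgroupOf C := ⟨_, rfl⟩
      have hAC4 : Nat.card AC = 4 := by
        rw [hAC', Nat.card_congr (Subgroup.subgroupOfEquivOfLe hAC).toEquiv, hAcard]
      haveI : AC.Normal := hAC' ▸ Subgroup.normal_subgroupOf
      have hq : Nat.card (C ⧸ AC) = 4 := by
        have := Subgroup.card_mul_index AC
        rw [hAC4, hC16, Subgroup.index_eq_card] at this
        omega
      haveI : IsCyclic (C ⧸ AC) := by
        refine isCyclic_of_orderOf_eq_card (QuotientGroup.mk (⟨a, ha⟩ : C)) ?_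
        rw [hq]
        refine orderOf_eq_prime_pow (p := 2) (n := 1) ?_ ?_
        · rw [pow_one, ← QuotientGroup.mk_pow, QuotientGroup.eq_one_iff, hAC', Subgroup.mem_subgroupOf,
            SubgroupClass.coe_pow, pow_two]
          exact hne
        · rw [← QuotientGroup.mk_pow, QuotientGroup.eq_one_iff, hAC', Subgroup.mem_subgroupOf,
            SubgroupClass.coe_pow]
          norm_num [hexp]
      intro x hx y hy
      exact congrArg Subtype.val (commutative_of_cyclic_center_quotient (QuotientGroup.mk' AC) (by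
        rw [QuotientGroup.ker_mk', hAC']
        intro z hz
        rw [Subgroup.mem_center_iff]
        intro w
        have hw : (w : R) ∈ Subgroup.centralizer (A : Set R) := hC.le w.2
        rw [Subgroup.mem_centralizer_iff] at hw
        exact Subtype.ext (hw z hz).symm) ⟨x, hx⟩ ⟨y, hy⟩)
    obtain ⟨k, hk, e⟩ := (hAu _).1 haA
    have h1 : u ^ (2 * k) = 1 := by
      rw [mul_comm, pow_mul, ← e, pow_two, ← hexp a]; simp only [pow_succ, pow_zero, one_mul, mul_assoc]
    have := hpow _ h1
    have : k = 0 ∨ k = 2 := by omega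
    rcases this with rfl | rfl
    · rw [e, pow_zero]; exact one_mem _
    · rw [e]; exact hu2
  -- commutators lie in `A`
  have hK : commutator R ⊔ Subgroup.center R ≤ A := by
    obtain ⟨S, hS⟩ : ∃ S, S = commutator R ⊔ A := ⟨_, rfl⟩
    have hSC : S ≤ C := hS ▸ sup_le (fun x hx => by
      haveI : C.Normal := Subgroup.normal_of_index_eq_two hCi
      haveI : Fact (Nat.Prime 2) := ⟨Nat.prime_two⟩
      haveI : IsCyclic (R ⧸ C) := isCyclic_of_prime_card (p := 2) (by rw [← Subgroup.index_eq_card, hCi])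
      have hab : IsMulCommutative (R ⧸ C) := IsCyclic.isMulCommutative
      revert x
      rw [← SetLike.le_def, commutator_def, Subgroup.commutator_le]
      intro a _ b _
      rw [← QuotientGroup.eq_one_iff, ← QuotientGroup.mk'_apply, map_commutatorElement]
      exact commutatorElement_eq_one_iff_mul_comm.2 (hab.is_comm.comm _ _)) hAC
    have hScard : Nat.card S ≤ 8 := by
      have hq8 : Nat.card (R ⧸ A) = 8 := by
        have := Subgroup.card_mul_index A
        rw [hAcard, hR, Subgroup.index_eq_card] at this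
        omega
      have hcq := card_commutator_le_two hq8
      have e1 : S.map (QuotientGroup.mk' A) = commutator (R ⧸ A) := by
        rw [hS, Subgroup.map_sup, show A.map (QuotientGroup.mk' A) = ⊥ from
          (Subgroup.map_eq_bot_iff _).2 (by rw [QuotientGroup.ker_mk']), sup_bot_eq, commutator_def,
          Subgroup.map_commutator, Subgroup.map_top_of_surjective _ (QuotientGroup.mk'_surjective A),
          ← commutator_def]
      have e2 : Nat.card S = A.relIndex S * 4 := by
        rw [← hAcard, ← Nat.card_congr (Subgroup.subgroupOfEquivOfLe (hS ▸ le_sup_right : A ≤ S)).toEquiv]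
        exact (Subgroup.card_mul_index _).symm.trans (mul_comm _ _)
      have e3 : Nat.card (S.map (QuotientGroup.mk' A)) = A.relIndex S := by
        rw [← Subgroup.relIndex_bot_left, ← Subgroup.relIndex_comap, MonoidHom.comap_bot,
          QuotientGroup.ker_mk']
      rw [e2, ← e3, e1]
      omega
    have hSc : IsMulCommutative S := by
      haveI : (A.subgroupOf S).Normal := Subgroup.normal_subgroupOf
      haveI : IsCyclic (S ⧸ A.subgroupOf S) := by
        have hm := Subgroup.card_mul_index (A.subgroupOf S)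
        rw [Nat.card_congr (Subgroup.subgroupOfEquivOfLe (hS ▸ le_sup_right : A ≤ S)).toEquiv, hAcard,
          Subgroup.index_eq_card] at hm
        rcases Nat.lt_or_ge (Nat.card (S ⧸ A.subgroupOf S)) 2 with h | h
        · haveI : Subsingleton (S ⧸ A.subgroupOf S) := (Finite.card_le_one_iff_subsingleton).1 (by omega)
          infer_instance
        · exact isCyclic_of_prime_card (p := 2) (by omega)
      refine ⟨⟨commutative_of_cyclic_center_quotient (QuotientGroup.mk' (A.subgroupOf S)) ?_⟩⟩
      rw [QuotientGroup.ker_mk']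
      intro z hz
      rw [Subgroup.mem_center_iff]
      intro w
      have hw := hSC w.2
      rw [hC, Subgroup.mem_centralizer_iff] at hw
      exact Subtype.ext (hw z hz).symm
    haveI : (commutator R).Characteristic := Subgroup.commutator_characteristic (⊤ : Subgroup R) ⊤
    have hSchar : S.Characteristic := hS ▸ Subgroup.characteristic_iff_map_eq.2 fun φ => by
      rw [Subgroup.map_sup, Subgroup.characteristic_iff_map_eq.1 inferInstance φ,
        Subgroup.characteristic_iff_map_eq.1 hAc φ]
    have hSle := Nat.le_of_dvd (by norm_num) (h4 S (hchar S hSchar hSc))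
    have e : A = S := Subgroup.eq_of_le_of_card_ge (hS ▸ le_sup_right) (by omega)
    rw [e, hS]
    exact sup_le_sup le_rfl hZA
  have hcomC : ∀ g : R, ∀ a ∈ C, g * a * g⁻¹ * a⁻¹ ∈ Subgroup.center R := by
    intro g a ha
    have hm : g * a * g⁻¹ * a⁻¹ ∈ A :=
      hK (Subgroup.mem_sup_left (Subgroup.commutator_mem_commutator (Subgroup.mem_top g) (Subgroup.mem_top a)))
    obtain ⟨k, hk, e⟩ := (hAu _).1 hm
    have hcom : Commute (u ^ k) a := Commute.pow_left (mul_inv_eq_iff_eq_mul.1 ((hCmem a).1 ha)).symm k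
    have hga : g * a * g⁻¹ = u ^ k * a := mul_inv_eq_iff_eq_mul.1 e
    have hfix : (u ^ k * a) * (u ^ k * a) = a * a := by
      rw [← hga, show g * a * g⁻¹ * (g * a * g⁻¹) = g * (a * a) * g⁻¹ by group,
        Subgroup.mem_center_iff.1 (hsqC a ha) g, mul_inv_cancel_right]
    rw [← pow_two, hcom.mul_pow, ← pow_two a, mul_eq_right, ← pow_mul] at hfix
    have := hpow _ hfix
    have : k = 0 ∨ k = 2 := by omega
    rcases this with rfl | rfl
    · rw [e, pow_zero]; exact one_mem _
    · rw [e]; exact hu2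
  apply hcon
  rw [commutator_def, Subgroup.commutator_le]
  intro g _ h _
  show g * h * g⁻¹ * h⁻¹ ∈ _
  by_cases hh : h ∈ C
  · exact hcomC g h hh
  by_cases hg : g ∈ C
  · have := (Subgroup.center R).inv_mem (hcomC h g hg)
    rwa [show (h * g * h⁻¹ * g⁻¹)⁻¹ = g * h * g⁻¹ * h⁻¹ by group] at this
  have hgh : g⁻¹ * h ∈ C := by
    rw [Subgroup.mul_mem_iff_of_index_two hCi, inv_mem_iff]
    simp [hg, hh]
  have hz := hcomC g _ hgh
  obtain ⟨a, ha⟩ : ∃ a, a = g⁻¹ * h := ⟨_, rfl⟩
  rw [← ha] at hz
  have hz' := Subgroup.mem_center_iff.1 hz g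
  obtain rfl : h = g * a := by rw [ha]; group
  rw [show g * (g * a) * g⁻¹ * (g * a)⁻¹ = g * (g * a * g⁻¹ * a⁻¹) * g⁻¹ by group, hz', mul_inv_cancel_right]
  exact hz

end CfsgLib.MaxSub.SymFour
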