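import Cfsg.Agent.Lib.MaxSub.SkewInvol
import Cfsg.Agent.Lib.MaxSub.OrthSingRad

/-!
Symmetric rational structures inside Hermitian spaces (as skew forms): overgroups of the orthogonal group.
-/

set_option autoImplicit false
set_option linter.unusedSectionVars false

namespace CfsgLib.MaxSub

open CfsgLib.Classical CfsgLib.Geom
open QuadraticMap (polar)

variable {F V V₀ : Type*} [Field F] {σ : F →+* F} {F₀ : Subfield F} [AddCommGroup V] [Module F V]
  [AddCommGroup V₀] [Module F₀ V₀]

/-- `inc` is a rational structure on which the form is `θ` times a symmetric one. -/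
structure SymRat (B : V →ₛₗ[σ] V →ₗ[F] F) (Q₀ : QuadraticForm F₀ V₀) (inc : V₀ →+ V) (θ : F) : Prop where
  base : IsSkew B
  inc_smul : ∀ (c : F₀) (x : V₀), inc (c • x) = (c : F) • inc x
  inj : Function.Injective inc
  span : Submodule.span F (Set.range inc) = ⊤
  bval : ∀ x y, B (inc x) (inc y) = θ * ((polar Q₀ x y : F₀) : F)
  fixed : ∀ x, σ x = x ↔ x ∈ F₀
  tsig : σ θ = -θ
  tne : θ ≠ 0
  two : (2 : F) ≠ 0
  dim : Module.finrank F₀ V₀ = Module.finrank F V
  six : 6 ≤ Module.finrank F V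
  ring : ∀ L : Subring F, (∀ x ∈ F₀, x ∈ L) → ∀ c ∈ L, c ∉ F₀ → ∀ x, x ∈ L

namespace SymRat

variable {B : V →ₛₗ[σ] V →ₗ[F] F} {Q₀ : QuadraticForm F₀ V₀} {inc : V₀ →+ V} {θ : F}
  (A : SymRat B Q₀ inc θ)
include A

theorem bsymm (x y : V₀) : B (inc x) (inc y) = B (inc y) (inc x) := by
  rw [A.bval, A.bval, QuadraticMap.polar_comm]

theorem two' : (2 : F₀) ≠ 0 := fun h => A.two (show ((2 : F₀) : F) = 0 by rw [h]; rfl)

theorem bzero_iff {x y : V₀} : B (inc x) (inc y) = 0 ↔ polar Q₀ x y = 0 := by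
  rw [A.bval, mul_eq_zero, or_iff_right A.tne, ZeroMemClass.coe_eq_zero]

theorem iso_iff {x : V₀} : B (inc x) (inc x) = 0 ↔ Q₀ x = 0 := by
  rw [A.bzero_iff, polar_self_two, mul_eq_zero, or_iff_right A.two']

theorem bval_eq_iff {x y : V₀} : B (inc x) (inc y) = θ ↔ polar Q₀ x y = 1 := by
  rw [A.bval]
  exact ⟨fun h => Subtype.ext (mul_left_cancel₀ A.tne (h.trans (mul_one θ).symm)), fun h => by
    rw [h, OneMemClass.coe_one, mul_one]⟩

theorem inc_ne {x : V₀} (h : x ≠ 0) : inc x ≠ 0 := fun e => h (A.inj (e.trans inc.map_zero.symm))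

theorem rat' (x y : V₀) : θ⁻¹ * B (inc x) (inc y) ∈ F₀ := by
  rw [A.bval, inv_mul_cancel_left₀ A.tne]; exact SetLike.coe_mem _

theorem eq_zero_of_perp {z : V} (h : ∀ x, B (inc x) z = 0) : z = 0 := by
  refine A.base.sep z fun y => ?_
  let S : Submodule F V :=
    { carrier := {y | B y z = 0}
      add_mem' := fun {a b} ha hb => by
        show B (a + b) z = 0
        rw [map_add, LinearMap.add_apply, show B a z = 0 from ha, show B b z = 0 from hb, add_zero]
      zero_mem' := by show B 0 z = 0; rw [map_zero, LinearMap.zero_apply]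
      smul_mem' := fun k a ha => by
        show B (k • a) z = 0
        rw [bilin_smul_left, show B a z = 0 from ha, mul_zero] }
  have hle : Submodule.span F (Set.range inc) ≤ S := Submodule.span_le.2 (by rintro _ ⟨x, rfl⟩; exact h x)
  exact hle (show y ∈ Submodule.span F (Set.range inc) by rw [A.span]; trivial)

theorem inc_symm {x y : V₀} (h : B (inc x) (inc y) = 0) : B (inc y) (inc x) = 0 := A.base.perp_symm h

theorem iso_smul {z : V₀} (h : B (inc z) (inc z) = 0) (k : F₀) : B (inc (k • z)) (inc (k • z)) = 0 := by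
  rw [A.inc_smul, bilin_smul_left, bilin_smul_right, h, mul_zero, mul_zero]

theorem iso_add {x y : V₀} (hx : B (inc x) (inc x) = 0) (hy : B (inc y) (inc y) = 0)
    (hxy : B (inc x) (inc y) = 0) : B (inc (x + y)) (inc (x + y)) = 0 := by
  simp [map_add, hx, hy, hxy, A.inc_symm hxy]

/-- the orthogonal in the rational structure of a set -/
def perp (S : Set V₀) : Submodule F₀ V₀ where
  carrier := {x | ∀ s ∈ S, B (inc s) (inc x) = 0}
  add_mem' {x y} hx hy := fun s hs => by rw [map_add, map_add, hx s hs, hy s hs, add_zero]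
  zero_mem' := fun s _ => by rw [map_zero, map_zero]
  smul_mem' c x hx := fun s hs => by rw [A.inc_smul, bilin_smul_right, hx s hs, mul_zero]

variable [Finite F] [FiniteDimensional F₀ V₀] [FiniteDimensional F V]

theorem sep₀ : ∀ x, (∀ y, polar Q₀ x y = 0) → x = 0 := fun x hx =>
  A.inj ((A.eq_zero_of_perp fun y => A.bzero_iff.2 (by rw [QuadraticMap.polar_comm]; exact hx y)).trans
    inc.map_zero.symm)

theorem dual_rat {z : V} (h : ∀ x, θ⁻¹ * B (inc x) z ∈ F₀) : ∃ z₀, inc z₀ = z := by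
  let b := Module.finBasis F₀ V₀
  let f : V₀ →ₗ[F₀] F₀ :=
    { toFun := fun x => ⟨_, h x⟩
      map_add' := fun x y => Subtype.ext (by simp [map_add, mul_add])
      map_smul' := fun c x => Subtype.ext (by
        simp only [A.inc_smul, bilin_smul_left, (A.fixed _).2 c.2, RingHom.id_apply, smul_eq_mul,
          MulMemClass.coe_mul]
        ring) }
  have hinj : Function.Injective (QuadraticMap.polarBilin Q₀) := by
    rw [← LinearMap.ker_eq_bot, LinearMap.ker_eq_bot']
    exact fun x hx => A.sep₀ x fun y => LinearMap.congr_fun hx y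
  obtain ⟨z₀, hz₀⟩ := (LinearMap.injective_iff_surjective_of_finrank_eq_finrank
    Subspace.dual_finrank_eq.symm).1 hinj f
  refine ⟨z₀, sub_eq_zero.1 (A.eq_zero_of_perp fun x => ?_)⟩
  have e : ((polar Q₀ z₀ x : F₀) : F) = θ⁻¹ * B (inc x) z := congrArg Subtype.val (LinearMap.congr_fun hz₀ x)
  rw [map_sub, A.bval, QuadraticMap.polar_comm, e, mul_inv_cancel_left₀ A.tne, sub_self]

theorem mem_perp_iff {S : Set V₀} {x : V₀} : x ∈ A.perp S ↔ x ∈ qPerp Q₀ S :=
  ⟨fun h s hs => A.bzero_iff.1 (A.inc_symm (h s hs)), fun h s hs => A.inc_symm (A.bzero_iff.2 (h s hs))⟩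

/-- isotropic vectors span the orthogonal of a small set -/
theorem perp_le_of_iso (S : Finset V₀) (hS : S.card ≤ 1) {P : Submodule F₀ V₀}
    (hP : ∀ x, B (inc x) (inc x) = 0 → x ∈ A.perp (S : Set V₀) → x ∈ P) :
    A.perp (S : Set V₀) ≤ P := by
  have := A.dim
  have := A.six
  intro x hx
  exact qPerp_le_of_singular A.sep₀ S (by omega)
    (fun z hz hQz => hP z (A.iso_iff.2 hQz) (A.mem_perp_iff.2 hz)) (A.mem_perp_iff.1 hx)

/-- isotropic vectors span the orthogonal of a hyperbolic pair -/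
theorem perp_pair_le {e f : V₀} (hef : B (inc e) (inc f) ≠ 0) (he : B (inc e) (inc e) = 0)
    (hf : B (inc f) (inc f) = 0) {P : Submodule F₀ V₀}
    (hP : ∀ x, B (inc x) (inc x) = 0 → x ∈ A.perp ({e, f} : Set V₀) → x ∈ P) :
    A.perp ({e, f} : Set V₀) ≤ P := by
  classical
  have := A.dim
  have := A.six
  have hco : (({e, f} : Finset V₀) : Set V₀) = {e, f} := by simp
  rw [← hco] at hP ⊢
  have hbot : ((Submodule.span F₀ (({e, f} : Finset V₀) : Set V₀)).comap
      (qPerp Q₀ (({e, f} : Finset V₀) : Set V₀)).subtype) = ⊥ := by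
    rw [Submodule.eq_bot_iff]
    rintro ⟨x, hxp⟩ hx
    refine Subtype.ext ?_
    show x = 0
    rw [Submodule.mem_comap, Submodule.subtype_apply] at hx
    have hx' : x ∈ Submodule.span F₀ ({e, f} : Set V₀) := by simpa [hco] using hx
    obtain ⟨a, b, rfl⟩ := Submodule.mem_span_pair.1 hx'
    have h1 := A.mem_perp_iff.2 hxp e (by simp)
    have h2 := A.mem_perp_iff.2 hxp f (by simp)
    have hfe : B (inc f) (inc e) ≠ 0 := by rwa [A.bsymm]
    simp only [map_add, A.inc_smul, bilin_smul_right, he, hf, mul_zero, zero_add, add_zero, mul_eq_zero,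
      hef, hfe, or_false] at h1 h2
    rw [show a = 0 from Subtype.ext h2, show b = 0 from Subtype.ext h1, zero_smul, zero_smul, add_zero]
  intro x hx
  exact qPerp_le_of_singular_rad A.sep₀ _ (by rw [hbot, finrank_bot]; have := Finset.card_le_two (a := e) (b := f); omega)
    (fun z hz hQz => hP z (A.iso_iff.2 hQz) (A.mem_perp_iff.2 hz)) (A.mem_perp_iff.1 hx)

/-- an isotropic vector orthogonal to a small set, outside its span -/
theorem exists_out (S : Finset V₀) (hS : S.card ≤ 1) :
    ∃ z, B (inc z) (inc z) = 0 ∧ (∀ s ∈ S, B (inc s) (inc z) = 0) ∧ z ∉ Submodule.span F₀ (S : Set V₀) := by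
  by_contra hno
  push Not at hno
  have := A.dim
  have := A.six
  have h1 := Submodule.finrank_mono (qPerp_le_of_singular A.sep₀ S (by omega)
    fun x hx hQx => hno x (A.iso_iff.2 hQx) fun s hs => A.mem_perp_iff.2 hx s hs)
  have h2 := finrank_span_finset_le_card (R := F₀) S
  have h3 := finrank_le_finrank_qPerp_add (Q := Q₀) S
  simp only [Set.finrank] at h2
  omega

/-- a common neighbour of two non-orthogonal isotropic points -/
theorem exists_common {e f : V₀} (hef : B (inc e) (inc f) ≠ 0) (he : B (inc e) (inc e) = 0)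
    (hf : B (inc f) (inc f) = 0) :
    ∃ z, B (inc z) (inc z) = 0 ∧ z ≠ 0 ∧ B (inc e) (inc z) = 0 ∧ B (inc f) (inc z) = 0 := by
  classical
  by_contra hno
  push Not at hno
  have := A.dim
  have := A.six
  have h1 := Submodule.finrank_mono (A.perp_pair_le hef he hf (P := ⊥) fun x hx hxS => by
    rw [Submodule.mem_bot]
    by_contra hx0
    exact hno x hx hx0 (hxS e (by simp)) (hxS f (by simp)))
  rw [finrank_bot] at h1
  have h3 := finrank_le_finrank_qPerp_add (Q := Q₀) ({e, f} : Finset V₀)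
  have h4 := Submodule.finrank_mono (show qPerp Q₀ (({e, f} : Finset V₀) : Set V₀) ≤
    A.perp ({e, f} : Set V₀) from fun x hx => by
      rw [Finset.coe_insert, Finset.coe_singleton] at hx; exact A.mem_perp_iff.2 hx)
  have := Finset.card_le_two (a := e) (b := f)
  omega

/-- an isotropic vector orthogonal to a small set paired with a further vector -/
theorem exists_unit (S : Finset V₀) (hS : S.card ≤ 1) {b : V₀} (hb : b ∉ Submodule.span F₀ (S : Set V₀)) :
    ∃ z, B (inc z) (inc z) = 0 ∧ (∀ s ∈ S, B (inc s) (inc z) = 0) ∧ B (inc z) (inc b) = θ := by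
  have := A.dim
  have := A.six
  obtain ⟨z, hz, hzS, hzb⟩ := exists_singular_pair A.sep₀ S (by omega) hb
  refine ⟨(polar Q₀ z b)⁻¹ • z, A.iso_iff.2 (by rw [quad_smul, hz, mul_zero]), fun s hs => ?_, ?_⟩
  · rw [A.bzero_iff, QuadraticMap.polar_smul_right, QuadraticMap.polar_comm _ s z, hzS s hs, smul_zero]
  · rw [A.bval_eq_iff, QuadraticMap.polar_smul_left, smul_eq_mul, inv_mul_cancel₀ hzb]

/-- a non-singular vector orthogonal to two -/
theorem exists_nonsing_perp (r q : V₀) :
    ∃ d, Q₀ d ≠ 0 ∧ polar Q₀ r d = 0 ∧ polar Q₀ q d = 0 := by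
  classical
  by_contra hno
  push Not at hno
  have := A.dim
  have := A.six
  have h3 := finrank_le_finrank_qPerp_add (Q := Q₀) ({r, q} : Finset V₀)
  have := Finset.card_le_two (a := r) (b := q)
  set T := qPerp Q₀ (({r, q} : Finset V₀) : Set V₀)
  have hT : ∀ x ∈ T, Q₀ x = 0 := fun x hx => by
    by_contra h0
    exact hno x h0 (by rw [QuadraticMap.polar_comm]; exact hx r (by simp))
      (by rw [QuadraticMap.polar_comm]; exact hx q (by simp))
  have hTT : ∀ x ∈ T, ∀ y ∈ T, polar Q₀ x y = 0 := fun x hx y hy => by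
    rw [QuadraticMap.polar, hT x hx, hT y hy, hT _ (add_mem hx hy), sub_zero, sub_zero]
  -- a totally singular subspace has dimension at most half
  let L : V₀ →ₗ[F₀] Module.Dual F₀ T :=
    { toFun := fun z => (QuadraticMap.polarBilin Q₀ z).comp T.subtype
      map_add' := fun a b => by ext; simp
      map_smul' := fun c a => by ext; simp }
  have hLT : T ≤ LinearMap.ker L := fun x hx => by
    rw [LinearMap.mem_ker]; ext ⟨y, hy⟩; simpa [L] using hTT x hx y hy
  have hsurj : Function.Surjective L := by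
    intro φ
    obtain ⟨ψ, hψ⟩ := Subspace.dualRestrict_surjective (W := T) φ
    have hinj : Function.Injective (QuadraticMap.polarBilin Q₀) := by
      rw [← LinearMap.ker_eq_bot, LinearMap.ker_eq_bot']
      exact fun x hx => A.sep₀ x fun y => LinearMap.congr_fun hx y
    obtain ⟨z, hz⟩ := (LinearMap.injective_iff_surjective_of_finrank_eq_finrank
      Subspace.dual_finrank_eq.symm).1 hinj ψ
    exact ⟨z, by rw [← hψ, ← hz]; rfl⟩
  have h1 := L.finrank_range_add_finrank_ker
  have h2 := Submodule.finrank_mono hLT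
  rw [LinearMap.range_eq_top.2 hsurj, finrank_top, Subspace.dual_finrank_eq] at h1
  omega

/-- the rational root element -/
theorem rt_apply {v w : V₀} (hv : B (inc v) (inc v) = 0) (hw : B (inc w) (inc w) = 0)
    (hvw : B (inc v) (inc w) = 0) (x : V) :
    (sEv B (inc v) (θ⁻¹ • inc w)).1 x =
      x - (θ⁻¹ * B (inc w) x) • inc v + (θ⁻¹ * B (inc v) x) • inc w := by
  rw [A.base.ev_apply hv (by rw [bilin_smul_left, bilin_smul_right, hw, mul_zero, mul_zero])
    (by rw [bilin_smul_right, hvw, mul_zero]), bilin_smul_left, map_inv₀, A.tsig]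
  module

end SymRat

/-- a proper overgroup of the rational orthogonal group -/
structure SymCtx (B : V →ₛₗ[σ] V →ₗ[F] F) (Q₀ : QuadraticForm F₀ V₀) (inc : V₀ →+ V) (θ : F)
    (M : Subgroup (sIsoms B)) : Prop where
  base : SymRat B Q₀ inc θ
  lift : ∀ g₀ ∈ commutator (quadIsoms Q₀), ∃ g ∈ M, SMap inc g (g₀.1 : V₀ →ₗ[F₀] V₀)
  proper : ¬ ∀ x k, B x x = 0 → σ k = k → sTv B x k ∈ M

namespace SymCtx

variable [Finite F] [FiniteDimensional F₀ V₀] [FiniteDimensional F V]
variable {B : V →ₛₗ[σ] V →ₗ[F] F} {Q₀ : QuadraticForm F₀ V₀} {inc : V₀ →+ V} {θ : F}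
  {M : Subgroup (sIsoms B)} (C : SymCtx B Q₀ inc θ M)
include C

theorem rt_mem {v w : V₀} (hv : B (inc v) (inc v) = 0) (hw : B (inc w) (inc w) = 0)
    (hvw : B (inc v) (inc w) = 0) : sEv B (inc v) (θ⁻¹ • inc w) ∈ M := by
  have A := C.base
  have hQv := A.iso_iff.1 hv
  have hQvw := A.bzero_iff.1 hvw
  obtain ⟨g, hg, hgJ⟩ := C.lift _ (OrthSub.siegel_mem_commutator A.sep₀
    (by have := A.dim; have := A.six; omega) v w)
  convert hg using 1
  refine sIsoms_ext fun x => LinearMap.congr_fun (f := (sEv B (inc v) (θ⁻¹ • inc w)).1.toLinearMap)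
    (g := g.1.toLinearMap) (LinearMap.ext_on A.span ?_) x
  rintro _ ⟨z, rfl⟩
  show (sEv B (inc v) (θ⁻¹ • inc w)).1 (inc z) = g.1 (inc z)
  rw [hgJ, show ((siegel Q₀ v w).1 : V₀ →ₗ[F₀] V₀) z = (siegel Q₀ v w).1 z from rfl,
    siegel_apply Q₀ hQv hQvw, A.iso_iff.1 hw, zero_mul, add_zero, A.rt_apply hv hw hvw, A.bval, A.bval,
    inv_mul_cancel_left₀ A.tne, inv_mul_cancel_left₀ A.tne, map_sub, map_add, A.inc_smul, A.inc_smul]
  abel

/-- the lift of a rational Siegel transformation -/
theorem siegel_lift {u d : V₀} (hu : B (inc u) (inc u) = 0) (hud : B (inc u) (inc d) = 0) :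
    ∃ h ∈ M, ∀ x, h.1 x = x + (θ⁻¹ * B (inc u) x) • inc d -
      (θ⁻¹ * B (inc d) x + ((Q₀ d : F₀) : F) * (θ⁻¹ * B (inc u) x)) • inc u := by
  have A := C.base
  obtain ⟨g, hg, hgJ⟩ := C.lift _ (OrthSub.siegel_mem_commutator A.sep₀
    (by have := A.dim; have := A.six; omega) u d)
  refine ⟨g, hg, fun x => ?_⟩
  let L : V →ₗ[F] V := LinearMap.id + (θ⁻¹ • B (inc u)).smulRight (inc d) -
    (θ⁻¹ • B (inc d) + ((Q₀ d : F₀) : F) • (θ⁻¹ • B (inc u))).smulRight (inc u)
  have hL : g.1.toLinearMap = L := LinearMap.ext_on A.span (by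
    rintro _ ⟨z, rfl⟩
    show g.1 (inc z) = L (inc z)
    rw [hgJ, show ((siegel Q₀ u d).1 : V₀ →ₗ[F₀] V₀) z = (siegel Q₀ u d).1 z from rfl,
      siegel_apply Q₀ (A.iso_iff.1 hu) (A.bzero_iff.1 hud)]
    simp only [L, LinearMap.sub_apply, LinearMap.add_apply, LinearMap.id_apply, LinearMap.smulRight_apply,
      LinearMap.smul_apply, smul_eq_mul, A.bval, inv_mul_cancel_left₀ A.tne, map_sub, map_add, A.inc_smul,
      AddMemClass.coe_add, MulMemClass.coe_mul])
  exact LinearMap.congr_fun hL x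

/-- moving an isotropic point to a neighbour -/
theorem exists_move {w p : V₀} (hw : B (inc w) (inc w) = 0) (hp : B (inc p) (inc p) = 0)
    (hwp : B (inc w) (inc p) = 0) (hw0 : w ≠ 0) (hout : p ∉ Submodule.span F₀ {w}) :
    ∃ T ∈ M, T.1 (inc w) = inc p := by
  have A := C.base
  set r := p - w with hr
  have hrr : B (inc r) (inc r) = 0 := by
    simp [hr, map_sub, hw, hp, hwp, A.inc_symm hwp]
  have hrw : B (inc r) (inc w) = 0 := by simp [hr, map_sub, hw, A.inc_symm hwp]
  have hwout : w ∉ Submodule.span F₀ {r} := fun hm => by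
    obtain ⟨s, hs⟩ := Submodule.mem_span_singleton.1 hm
    rcases eq_or_ne s 0 with rfl | hs0
    · exact hw0 (by rw [← hs, zero_smul])
    refine hout (Submodule.mem_span_singleton.2 ⟨s⁻¹ + 1, ?_⟩)
    nth_rw 1 [← hs]
    rw [smul_smul, add_mul, inv_mul_cancel₀ hs0, one_mul, add_smul, one_smul, hs, hr]
    abel
  obtain ⟨u, hu, huS, huw⟩ := A.exists_unit {r} (by simp) (b := w) (by simpa using hwout)
  have hur : B (inc u) (inc r) = 0 := A.inc_symm (huS r (by simp))
  refine ⟨_, C.rt_mem hu hrr hur, ?_⟩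
  rw [A.rt_apply hu hrr hur, hrw, huw, inv_mul_cancel₀ A.tne, hr, map_sub]
  simp

/-- a transvection scalar moves to a neighbour -/
theorem tv_move {w p : V₀} (hw : B (inc w) (inc w) = 0) (hp : B (inc p) (inc p) = 0)
    (hwp : B (inc w) (inc p) = 0) (hw0 : w ≠ 0) (hout : p ∉ Submodule.span F₀ {w}) {k : F} (hk : σ k = k)
    (h : sTv B (inc w) k ∈ M) : sTv B (inc p) k ∈ M := by
  obtain ⟨T, hT, hTw⟩ := C.exists_move hw hp hwp hw0 hout
  rw [← hTw, ← C.base.base.tv_conj T hw hk]
  exact mul_mem (mul_mem hT h) (inv_mem hT)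

/-- transvections give root elements -/
theorem ev_of_tv {v z : V₀} (hv : B (inc v) (inc v) = 0) (hz : B (inc z) (inc z) = 0)
    (hvz : B (inc v) (inc z) = 0) {k : F} (hk : σ k = k) (h1 : sTv B (inc (v + z)) k ∈ M)
    (h2 : sTv B (inc v) k ∈ M) (h3 : sTv B (inc z) k ∈ M) : sEv B (inc v) (k • inc z) ∈ M := by
  have A := C.base
  have hB := A.base
  have hvz' : B (inc (v + z)) (inc (v + z)) = 0 := A.iso_add hv hz hvz
  have hkz : B (k • inc z) (k • inc z) = 0 := by simp [bilin_smul_left, bilin_smul_right, hz]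
  have e : sEv B (inc v) (k • inc z) = sTv B (inc (v + z)) k * (sTv B (inc v) k)⁻¹ * (sTv B (inc z) k)⁻¹ := by
    rw [hB.tv_neg hv hk, hB.tv_neg hz hk]
    refine sIsoms_ext fun x => ?_
    have hk' : σ (-k) = -k := by rw [map_neg, hk]
    rw [hB.ev_apply hv hkz (by rw [bilin_smul_right, hvz, mul_zero])]
    simp only [Subgroup.coe_mul, LinearEquiv.mul_apply, hB.tv_apply hvz' hk, hB.tv_apply hv hk',
      hB.tv_apply hz hk']
    simp only [map_add, LinearMap.add_apply, bilin_smul_left, bilin_smul_right, hk, hv, hz, hvz,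
      A.inc_symm hvz]
    module
  rw [e]
  exact mul_mem (mul_mem h1 (inv_mem h2)) (inv_mem h3)

/-- a root element on rational vectors has an anti-fixed scalar -/
theorem scalar_mem {v w : V₀} (hv : B (inc v) (inc v) = 0) (hw : B (inc w) (inc w) = 0)
    (hvw : B (inc v) (inc w) = 0) (hv0 : v ≠ 0) (hind : w ∉ Submodule.span F₀ {v}) {l : F}
    (h : sEv B (inc v) (l • inc w) ∈ M) : σ l = -l := by
  classical
  have A := C.base
  have hB := A.base
  by_contra hl
  have hiso : ∀ (k : F) {z : V₀}, B (inc z) (inc z) = 0 → B (k • inc z) (k • inc z) = 0 := fun k z hz => by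
    rw [bilin_smul_left, bilin_smul_right, hz, mul_zero, mul_zero]
  have hperp : ∀ (k : F) {v z : V₀}, B (inc v) (inc z) = 0 → B (inc v) (k • inc z) = 0 := fun k v z hz => by
    rw [bilin_smul_right, hz, mul_zero]
  have h2 := A.two
  have hsplit : ∀ a : F, σ ((a + σ a) / 2) = (a + σ a) / 2 ∧
      σ (θ * ((a - σ a) / 2)) = θ * ((a - σ a) / 2) ∧
      a = (a + σ a) / 2 + θ⁻¹ * (θ * ((a - σ a) / 2)) := fun a => by
    refine ⟨?_, ?_, ?_⟩
    · rw [map_div₀, map_add, hB.inv, map_ofNat, add_comm]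
    · rw [map_mul, map_div₀, map_sub, hB.inv, map_ofNat, A.tsig]; ring
    · rw [inv_mul_cancel_left₀ A.tne]; field_simp; ring
  obtain ⟨hc, hd, hcd⟩ := hsplit l
  set c := (l + σ l) / 2
  have hc0 : c ≠ 0 := fun e => hl (eq_neg_of_add_eq_zero_right ((div_eq_zero_iff.1 e).resolve_right h2))
  let cc : F₀ := ⟨c, (A.fixed c).1 hc⟩
  let dd : F₀ := ⟨_, (A.fixed _).1 hd⟩
  set w' := cc • w with hw'def
  have hw' : B (inc w') (inc w') = 0 := A.iso_smul hw _
  have hvw' : B (inc v) (inc w') = 0 := by rw [hw'def, A.inc_smul, bilin_smul_right, hvw, mul_zero]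
  have hw'out : w' ∉ Submodule.span F₀ {v} := fun hm =>
    hind ((Submodule.smul_mem_iff _ (fun e : cc = 0 => hc0 (congrArg Subtype.val e))).1 hm)
  have hX : sEv B (inc v) (inc w') ∈ M := by
    have hdw : B (inc v) (inc (dd • w)) = 0 := by rw [A.inc_smul, bilin_smul_right, hvw, mul_zero]
    have hww : B (inc w') (θ⁻¹ • inc (dd • w)) = 0 := by
      simp [hw'def, A.inc_smul, bilin_smul_left, bilin_smul_right, hw]
    rw [show l • inc w = inc w' + θ⁻¹ • inc (dd • w) by
      rw [hw'def, A.inc_smul, A.inc_smul, smul_smul, ← add_smul]; exact congrArg (· • inc w) hcd,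
      hB.ev_add hv hw' (hiso _ (A.iso_smul hw _)) hvw' (hperp _ hdw) hww] at h
    exact (Subgroup.mul_mem_cancel_right M (C.rt_mem hv (A.iso_smul hw _) hdw)).1 h
  have hv' : v ∉ Submodule.span F₀ {w'} := not_mem_span_symm hv0 hw'out
  -- transvections at `w'`
  have hw'full : ∀ k, σ k = k → sTv B (inc w') k ∈ M := by
    intro k hk
    obtain ⟨u, hu, huS, huv⟩ := A.exists_unit {w'} (by simp) (b := v) (by simpa using hv')
    let s : F₀ := ⟨k / 2, (A.fixed _).1 (by rw [map_div₀, hk, map_ofNat])⟩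
    have hz : B (inc (s • w')) (inc (s • w')) = 0 := A.iso_smul hw' _
    have huz : B (inc u) (inc (s • w')) = 0 := by
      rw [A.inc_smul, bilin_smul_right, A.inc_symm (huS w' (by simp)), mul_zero]
    have hT := C.rt_mem hu hz huz
    set T := sEv B (inc u) (θ⁻¹ • inc (s • w'))
    have hTv : T.1 (inc v) = inc v + (k / 2) • inc w' := by
      rw [A.rt_apply hu hz huz, huv, inv_mul_cancel₀ A.tne, A.inc_smul s w', bilin_smul_left,
        A.inc_symm hvw']
      simp [s]
    have hTw : T.1 (inc w') = inc w' := by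
      rw [A.rt_apply hu hz huz, A.inc_symm (huS w' (by simp)), A.inc_smul s w', bilin_smul_left, hw']
      simp
    have h1 := mul_mem (mul_mem hT hX) (inv_mem hT)
    rw [hB.ev_conj _ hv hw' hvw', hTv, hTw] at h1
    have e : sEv B (inc v + (k / 2) • inc w') (inc w') = sEv B (inc v) (inc w') * sTv B (inc w') k := by
      refine sIsoms_ext fun x => ?_
      have hk2 : σ (k / 2) = k / 2 := by rw [map_div₀, hk, map_ofNat]
      have hvs : B (inc v + (k / 2) • inc w') (inc v + (k / 2) • inc w') = 0 := by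
        simp [map_add, bilin_smul_left, bilin_smul_right, hv, hw', hvw', A.inc_symm hvw']
      rw [hB.ev_apply hvs hw' (by simp [map_add, bilin_smul_left, hw', hvw']), Subgroup.coe_mul,
        LinearEquiv.mul_apply, hB.tv_apply hw' hk, hB.ev_apply hv hw' hvw']
      simp only [map_add, LinearMap.add_apply, bilin_smul_left, bilin_smul_right, hk2, hw', hvw', mul_zero,
        add_zero]
      have h2k : (k / 2) • inc w' + (k / 2) • inc w' = k • inc w' := by
        rw [← add_smul]; congr 1; field_simp; ring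
      linear_combination (norm := module) (B (inc w') x) • h2k
    rw [e] at h1
    exact (Subgroup.mul_mem_cancel_left M hX).1 h1
  have hw'0 : w' ≠ 0 := fun e => hw'out (e ▸ Submodule.zero_mem _)
  have hfix : ∀ v, B (inc v) (inc v) = 0 → v ≠ 0 → ∀ k, σ k = k → sTv B (inc v) k ∈ M := by
    intro p hp hp0 k hk
    have near : ∀ {a b : V₀}, B (inc a) (inc a) = 0 → B (inc b) (inc b) = 0 → B (inc a) (inc b) = 0 →
        a ≠ 0 → (∀ k, σ k = k → sTv B (inc a) k ∈ M) → ∀ k, σ k = k → sTv B (inc b) k ∈ M := by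
      intro a b ha hb hab ha0 hall k hk
      by_cases hin : b ∈ Submodule.span F₀ {a}
      · obtain ⟨t, rfl⟩ := Submodule.mem_span_singleton.1 hin
        rw [A.inc_smul, hB.tv_smul ha _ hk]
        exact hall _ (by rw [map_mul, map_mul, hB.inv, hk, mul_comm (σ (t : F))])
      · exact C.tv_move ha hb hab ha0 hin hk (hall k hk)
    by_cases hwp : B (inc w') (inc p) = 0
    · exact near hw' hp hwp hw'0 hw'full k hk
    obtain ⟨z, hz, hz0, hwz, hpz⟩ := A.exists_common hwp hw' hp
    exact near hz hp (A.inc_symm hpz) hz0 (near hw' hz hwz hw'0 hw'full) k hk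
  have hall : ∀ a : F, ∀ v z, B (inc v) (inc v) = 0 → v ≠ 0 → B (inc z) (inc z) = 0 →
      B (inc v) (inc z) = 0 → z ∉ Submodule.span F₀ {v} → sEv B (inc v) (a • inc z) ∈ M := by
    intro a v z hv hv0 hz hvz hzv
    obtain ⟨hc, hd, hcd⟩ := hsplit a
    have hz0 : z ≠ 0 := fun e => hzv (e ▸ Submodule.zero_mem _)
    have hsum0 : v + z ≠ 0 := fun e => hzv (by
      rw [eq_neg_of_add_eq_zero_right e]; exact neg_mem (Submodule.mem_span_singleton_self v))
    let d₁ : F₀ := ⟨_, (A.fixed _).1 hd⟩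
    have hdz : B (inc v) (inc (d₁ • z)) = 0 := by rw [A.inc_smul, bilin_smul_right, hvz, mul_zero]
    rw [show a • inc z = ((a + σ a) / 2) • inc z + θ⁻¹ • inc (d₁ • z) by
      rw [A.inc_smul, smul_smul, ← add_smul]; exact congrArg (· • inc z) hcd,
      hB.ev_add hv (hiso _ hz) (hiso _ (A.iso_smul hz _)) (hperp _ hvz) (hperp _ hdz)
        (by simp [A.inc_smul, bilin_smul_left, bilin_smul_right, hz])]
    exact mul_mem (C.ev_of_tv hv hz hvz hc (hfix _ (A.iso_add hv hz hvz) hsum0 _ hc) (hfix v hv hv0 _ hc)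
      (hfix z hz hz0 _ hc)) (C.rt_mem hv (A.iso_smul hz _) hdz)
  refine C.proper fun x k hx hk => ?_
  rcases eq_or_ne x 0 with rfl | hx0
  · rw [show sTv B (0 : V) k = 1 from sIsoms_ext fun y => by
      rw [hB.tv_apply (by simp) hk]; simp]
    exact one_mem M
  -- a rational isotropic point not orthogonal to `x`
  obtain ⟨e, he, hex⟩ : ∃ e, B (inc e) (inc e) = 0 ∧ B (inc e) x ≠ 0 := by
    by_contra hno
    push Not at hno
    let P : Submodule F₀ V₀ :=
      { carrier := {z | B (inc z) x = 0}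
        add_mem' := fun {a b} ha hb => by
          show B (inc (a + b)) x = 0
          rw [map_add, map_add, LinearMap.add_apply, show B (inc a) x = 0 from ha,
            show B (inc b) x = 0 from hb, add_zero]
        zero_mem' := by show B (inc 0) x = 0; rw [map_zero, map_zero, LinearMap.zero_apply]
        smul_mem' := fun c a ha => by
          show B (inc (c • a)) x = 0
          rw [A.inc_smul, bilin_smul_left, show B (inc a) x = 0 from ha, mul_zero] }
    exact hx0 (A.eq_zero_of_perp fun z => A.perp_le_of_iso ∅ (by simp) (P := P)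
      (fun w hw _ => hno w hw) (show z ∈ A.perp ((∅ : Finset V₀) : Set V₀) from fun s hs => absurd hs (by simp)))
  have he0 : e ≠ 0 := fun h => hex (by rw [h, map_zero, map_zero, LinearMap.zero_apply])
  let Full : V → Prop := fun y => B y y = 0 ∧ ∀ k, σ k = k → sTv B y k ∈ M
  have fconj : ∀ {g : sIsoms B}, g ∈ M → ∀ {y}, Full y → Full (g.1 y) := fun {g} hg {y} hy =>
    ⟨by rw [sIsoms_map, hy.1], fun k hk => by
      rw [← hB.tv_conj g hy.1 hk]; exact mul_mem (mul_mem hg (hy.2 k hk)) (inv_mem hg)⟩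
  have fsmul : ∀ {y}, Full y → ∀ a : F, Full (a • y) := fun {y} hy a =>
    ⟨by rw [bilin_smul_left, bilin_smul_right, hy.1, mul_zero, mul_zero], fun k hk => by
      rw [hB.tv_smul hy.1 a hk]; exact hy.2 _ (by rw [map_mul, map_mul, hB.inv, hk, mul_comm (σ a)])⟩
  obtain ⟨e', he', -, he'e⟩ := A.exists_unit ∅ (by simp) (b := e) (by simpa using he0)
  have hee' : B (inc e) (inc e') = θ := (A.bsymm _ _).trans he'e
  have hθ := A.tne
  have hee'ne : B (inc e) (inc e') ≠ 0 := by rw [hee']; exact hθ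
  -- normalise
  let P₁ : V := θ⁻¹ • inc e'
  have hP₁ : B (inc e) P₁ = 1 := by
    show B (inc e) (θ⁻¹ • inc e') = 1
    rw [bilin_smul_right, hee', inv_mul_cancel₀ hθ]
  have hP₁full : Full P₁ := fsmul ⟨he', hfix e' he' (fun h => by
    rw [h, map_zero, map_zero, LinearMap.zero_apply] at he'e; exact hθ he'e.symm)⟩ _
  set x' := (B (inc e) x)⁻¹ • x with hx'def
  have hx' : B (inc e) x' = 1 := by rw [bilin_smul_right, inv_mul_cancel₀ hex]
  have hx'iso : B x' x' = 0 := by rw [bilin_smul_left, bilin_smul_right, hx, mul_zero, mul_zero]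
  -- translations orthogonal to `e` and `e'`
  let O : Submodule F V :=
    { carrier := {d | ∀ a : F, ∀ y, B (inc e) y = 1 → B (inc e') y = B (inc e') y → Full y →
        ∃ γ : F, B (inc e) (y + a • d + γ • inc e) = 1 ∧ Full (y + a • d + γ • inc e)}
      add_mem' := fun {d d'} hd hd' a y hy _ hf => by
        obtain ⟨γ, h1, h2⟩ := hd a y hy rfl hf
        obtain ⟨γ', h1', h2'⟩ := hd' a _ h1 rfl h2
        refine ⟨γ + γ', ?_⟩
        rw [show y + a • (d + d') + (γ + γ') • inc e = y + a • d + γ • inc e + a • d' + γ' • inc e by module]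
        exact ⟨h1', h2'⟩
      zero_mem' := fun a y hy _ hf => ⟨0, by simp [hy], by simpa using hf⟩
      smul_mem' := fun c d hd a y hy _ hf => by
        rw [smul_smul]; exact hd (a * c) y hy rfl hf }
  have hgen : ∀ z, B (inc z) (inc z) = 0 → B (inc e) (inc z) = 0 → B (inc e') (inc z) = 0 → inc z ∈ O := by
    intro z hz hez he'z a y hy _ hf
    have hzv : z ∉ Submodule.span F₀ {e} ∨ inc z = 0 := by
      by_cases h : z ∈ Submodule.span F₀ {e}
      · right
        obtain ⟨s, rfl⟩ := Submodule.mem_span_singleton.1 h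
        rw [A.inc_smul, bilin_smul_right, he'e] at he'z
        rw [A.inc_smul, (mul_eq_zero.1 he'z).resolve_right hθ, zero_smul]
      · exact Or.inl h
    rcases hzv with hzv | h0
    · have hT := hall a e z he he0 hz hez hzv
      refine ⟨B (a • inc z) y, ?_⟩
      have h' := fconj hT hf
      rw [hB.ev_apply he (hiso a hz) (hperp a hez), hy, one_smul,
        show y + B (a • inc z) y • inc e + a • inc z = y + a • inc z + B (a • inc z) y • inc e by abel] at h'
      refine ⟨?_, h'⟩
      simp [map_add, bilin_smul_right, hy, hez, he]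
    · exact ⟨0, by simp [h0, hy], by simpa [h0] using hf⟩
  have hrat : ∀ z, B (inc e) (inc z) = 0 → B (inc e') (inc z) = 0 → inc z ∈ O := by
    intro z h1 h2
    let P : Submodule F₀ V₀ :=
      { carrier := {z | inc z ∈ O}
        add_mem' := fun {a b} ha hb => by show inc (a + b) ∈ O; rw [map_add]; exact add_mem ha hb
        zero_mem' := by show inc 0 ∈ O; rw [map_zero]; exact O.zero_mem
        smul_mem' := fun c a ha => by show inc (c • a) ∈ O; rw [A.inc_smul]; exact O.smul_mem _ ha }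
    refine A.perp_pair_le hee'ne he he' (P := P)
      (fun w hw hwS => hgen w hw (hwS e (by simp)) (hwS e' (by simp))) ?_
    intro s hs
    simp only [Set.mem_insert_iff, Set.mem_singleton_iff] at hs
    rcases hs with rfl | rfl <;> assumption
  have hd : x' - P₁ - (θ⁻¹ * B (inc e') (x' - P₁)) • inc e ∈ O := by
    let T : V →ₗ[F] V := LinearMap.id - (θ⁻¹ • B (inc e)).smulRight (inc e') - (θ⁻¹ • B (inc e')).smulRight (inc e)
    have hle : Submodule.span F (Set.range inc) ≤ O.comap T := by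
      refine Submodule.span_le.2 ?_
      rintro _ ⟨w, rfl⟩
      show T (inc w) ∈ O
      rw [show T (inc w) = inc (w - (⟨_, A.rat' e w⟩ : F₀) • e' - (⟨_, A.rat' e' w⟩ : F₀) • e) by
        simp [T, map_sub, A.inc_smul]]
      refine hrat _ ?_ ?_ <;> simp [map_sub, A.inc_smul, bilin_smul_right, hee', he, he', he'e] <;>
        field_simp <;> ring
    have h := hle (show x' - P₁ ∈ Submodule.span F (Set.range inc) by rw [A.span]; trivial)
    have h0 : B (inc e) (x' - P₁) = 0 := by rw [map_sub, hx', hP₁, sub_self]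
    rw [Submodule.mem_comap, show T (x' - P₁) = x' - P₁ - (θ⁻¹ * B (inc e') (x' - P₁)) • inc e by
      simp only [T, LinearMap.sub_apply, LinearMap.id_apply, LinearMap.smulRight_apply, LinearMap.smul_apply,
        smul_eq_mul, h0, mul_zero, zero_smul, sub_zero]] at h
    exact h
  obtain ⟨γ, hγ1, hγ⟩ := hd 1 P₁ hP₁ rfl hP₁full
  set δ := γ - θ⁻¹ * B (inc e') (x' - P₁)
  set y := P₁ + (1 : F) • (x' - P₁ - (θ⁻¹ * B (inc e') (x' - P₁)) • inc e) + γ • inc e with hydef
  have hy : y = x' + δ • inc e := by rw [hydef]; module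
  have hδ : σ δ = δ := by
    have h := hγ.1
    rw [hy] at h
    simp only [map_add, LinearMap.add_apply, bilin_smul_right, bilin_smul_left, hx'iso, hx', he,
      hB.skew (inc e) x', map_one] at h
    linear_combination h
  have hf := fconj (g := sTv B (inc e) (-δ)) (hfix e he he0 _ (by rw [map_neg, hδ])) hγ
  rw [hB.tv_apply he (by rw [map_neg, hδ]), hγ1, mul_one, hy,
    show x' + δ • inc e + (-δ) • inc e = x' by module] at hf
  have hfin := fsmul hf (B (inc e) x)
  rw [hx'def, smul_smul, mul_inv_cancel₀ hex, one_smul] at hfin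
  exact hfin.2 k hk

/-- there is no transvection at a rational point -/
theorem no_tv {v : V₀} (hv : B (inc v) (inc v) = 0) (hv0 : v ≠ 0) {k : F} (hk : σ k = k)
    (h : sTv B (inc v) k ∈ M) : k = 0 := by
  have A := C.base
  obtain ⟨z, hz, hzS, hzout⟩ := A.exists_out {v} (by simp)
  simp only [Finset.coe_singleton] at hzout
  have hvz : B (inc v) (inc z) = 0 := hzS v (by simp)
  have h1 := C.tv_move hv hz hvz hv0 hzout hk h
  have h3 := C.tv_move hv (A.iso_add hv hz hvz) (by rw [map_add, map_add, hv, hvz, add_zero]) hv0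
    (fun hm => hzout ((Submodule.add_mem_iff_right _ (Submodule.mem_span_singleton_self v)).1 hm)) hk h
  have e := C.scalar_mem hv hz hvz hv0 hzout (C.ev_of_tv hv hz hvz hk h3 h h1)
  rw [hk] at e
  exact (mul_eq_zero.1 (show (2 : F) * k = 0 by linear_combination e)).resolve_left A.two

/-- Siegel transformations fixing the centre cut down a root element -/
theorem shrink {a y : V} (ha : B a a = 0) (hy : B y y = 0) (hay : B a y = 0) (h : sEv B a y ∈ M)
    {u d : V₀} (hu : B (inc u) (inc u) = 0) (hud : B (inc u) (inc d) = 0) (hau : B (inc u) a = 0)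
    (had : B (inc d) a = 0) :
    sEv B a ((-4 * ((Q₀ d : F₀) : F) * θ⁻¹ * B (inc u) y) • inc u) ∈ M := by
  have A := C.base
  have hB := A.base
  have hud' : B (inc u) (inc (-d)) = 0 := by rw [map_neg, map_neg, hud, neg_zero]
  obtain ⟨h₁, hh₁, e₁⟩ := C.siegel_lift hu hud
  obtain ⟨h₂, hh₂, e₂⟩ := C.siegel_lift hu hud'
  have hfa : h₁.1 a = a ∧ h₂.1 a = a := by
    constructor
    · rw [e₁, hau, had]; simp
    · rw [e₂, hau, map_neg, map_neg, LinearMap.neg_apply, had]; simp
  have hy₁ : B (h₁.1 y) (h₁.1 y) = 0 := by rw [sIsoms_map, hy]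
  have hy₂ : B (h₂.1 y) (h₂.1 y) = 0 := by rw [sIsoms_map, hy]
  have hay₁ : B a (h₁.1 y) = 0 := by
    have e := sIsoms_map h₁ y a; rw [hfa.1, hay] at e; exact e
  have hay₂ : B a (h₂.1 y) = 0 := by
    have e := sIsoms_map h₂ y a; rw [hfa.2, hay] at e; exact e
  have hm₁ : sEv B a (h₁.1 y) ∈ M := by
    have h' := mul_mem (mul_mem hh₁ h) (inv_mem hh₁)
    rwa [hB.ev_conj _ ha hy hay, hfa.1] at h'
  have hm₂ : sEv B a (h₂.1 y) ∈ M := by
    have h' := mul_mem (mul_mem hh₂ h) (inv_mem hh₂)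
    rwa [hB.ev_conj _ ha hy hay, hfa.2] at h'
  have hny : B (-y) (-y) = 0 := by simp [hy]
  have hany : B a (-y) = 0 := by simp [hay]
  have hneg : sEv B a (-y) ∈ M := by
    have e : sEv B a y * sEv B a (-y) = 1 := by
      rw [← hB.ev_add ha hy hny hay hany (by simp [hy]), add_neg_cancel, hB.ev_zero ha]
    rw [← inv_eq_of_mul_eq_one_right e]
    exact inv_mem h
  have hmem := mul_mem (mul_mem (mul_mem hm₁ hm₂) (mul_mem hneg hneg))
    (mul_mem (mul_mem hm₂ hm₁) (mul_mem hneg hneg))
  convert hmem using 1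
  refine sIsoms_ext fun x => ?_
  set q₀ : F := ((Q₀ d : F₀) : F)
  set β := B (inc u) y
  set l : F := -4 * q₀ * θ⁻¹ * β
  have hlu : B (l • inc u) (l • inc u) = 0 := by simp [bilin_smul_left, bilin_smul_right, hu]
  have hau' : B a (l • inc u) = 0 := by simp [bilin_smul_right, hB.perp_symm hau]
  set y₁ := h₁.1 y
  set y₂ := h₂.1 y
  have hsum : y₁ + y₂ = (2 : F) • y + (l / 2) • inc u := by
    simp only [y₁, y₂, e₁, e₂, map_neg, QuadraticMap.map_neg, LinearMap.neg_apply, l, q₀, β]
    have := A.two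
    match_scalars <;> field_simp <;> ring
  have hq : σ q₀ = q₀ := (A.fixed _).2 (Q₀ d).2
  have hyu : B y (inc u) = -σ β := hB.skew (inc u) y
  have hS : B y₁ y₂ + B y₂ y₁ = B (y₁ + y₂) (y₁ + y₂) := by
    simp only [map_add, LinearMap.add_apply, hy₁, hy₂]; ring
  have hθ := A.tne
  have h2 := A.two
  have hY : B y (y₁ + y₂) = B (y₁ + y₂) y := by
    rw [hsum]
    simp only [map_add, LinearMap.add_apply, bilin_smul_left, bilin_smul_right, hy, hyu, l, β,
      map_mul, map_div₀, map_neg, map_ofNat, map_inv₀, A.tsig, hq]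
    field_simp
  have hκ : B y₁ y₂ + B y₂ y₁ + 4 * B (y₁ + y₂) (-y) = 0 := by
    rw [hS, hsum]
    simp only [map_add, map_neg, LinearMap.add_apply, bilin_smul_left, bilin_smul_right, hy, hu, hyu, l, β,
      map_mul, map_div₀, map_neg, map_ofNat, map_inv₀, A.tsig, hq]
    field_simp
    ring
  simp only [Subgroup.coe_mul, LinearEquiv.mul_apply, hB.ev_apply ha hy₁ hay₁, hB.ev_apply ha hy₂ hay₂,
    hB.ev_apply ha hny hany, hB.ev_apply ha hlu hau', map_add, map_neg, LinearMap.neg_apply, bilin_smul_right,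
    ha, hay, hay₁, hay₂, hy, hy₁, hy₂, hB.perp_symm hay, hB.perp_symm hay₁, hB.perp_symm hay₂]
  have hl2 : l • inc u = (2 : F) • (y₁ + y₂) - (4 : F) • y := by
    rw [hsum]; have := A.two; match_scalars <;> field_simp <;> ring
  rw [hl2]
  simp only [map_add, map_sub, map_neg, LinearMap.add_apply, LinearMap.sub_apply, LinearMap.neg_apply,
    bilin_smul_left, map_ofNat] at hκ hY ⊢
  linear_combination (norm := module) (-2 * B a x) • hκ • a + (2 * B a x) • hY • a

/-- a root element with rational centre has a rational second vector -/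
theorem root_val {r : V₀} {y : V} (hr : B (inc r) (inc r) = 0) (hr0 : r ≠ 0) (hy : B y y = 0)
    (hry : B (inc r) y = 0) (h : sEv B (inc r) y ∈ M) : ∃ ρ, y = θ⁻¹ • inc ρ := by
  have A := C.base
  have hB := A.base
  have hθ := A.tne
  let K : Submodule F₀ V₀ :=
    { carrier := {z | B (inc z) y ∈ F₀}
      add_mem' := fun {p q} hp hq => by
        show B (inc (p + q)) y ∈ F₀
        rw [map_add, map_add, LinearMap.add_apply]; exact add_mem hp hq
      zero_mem' := by show B (inc 0) y ∈ F₀; rw [map_zero, map_zero, LinearMap.zero_apply]; exact zero_mem _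
      smul_mem' := fun c p hp => by
        show B (inc (c • p)) y ∈ F₀
        rw [A.inc_smul, bilin_smul_left, (A.fixed _).2 c.2]; exact mul_mem c.2 hp }
  have hK : A.perp (({r} : Finset V₀) : Set V₀) ≤ K := A.perp_le_of_iso {r} (by simp) fun q hq hqS => by
    have hrq : B (inc r) (inc q) = 0 := hqS r (by simp)
    show B (inc q) y ∈ F₀
    by_cases hin : q ∈ Submodule.span F₀ {r}
    · obtain ⟨s, rfl⟩ := Submodule.mem_span_singleton.1 hin
      rw [A.inc_smul, bilin_smul_left, hry, mul_zero]; exact zero_mem _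
    obtain ⟨d, hd, hrd, hqd⟩ := A.exists_nonsing_perp r q
    have hl := C.scalar_mem hr hq hrq hr0 hin (C.shrink hr hy hry h hq (A.bzero_iff.2 hqd)
      (A.inc_symm hrq) (A.inc_symm (A.bzero_iff.2 hrd)))
    rw [← A.fixed]
    rw [map_mul, map_mul, map_mul, map_neg, map_ofNat, (A.fixed _).2 (Q₀ d).2, map_inv₀, A.tsig] at hl
    have h4 : (4 : F) ≠ 0 := by
      rw [show (4 : F) = 2 * 2 by norm_num]; exact mul_ne_zero A.two A.two
    have hq0 : ((Q₀ d : F₀) : F) ≠ 0 := fun e => hd (Subtype.ext e)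
    exact mul_left_cancel₀ (mul_ne_zero (mul_ne_zero h4 hq0) (inv_ne_zero hθ))
      (by linear_combination hl)
  obtain ⟨r', -, -, hr'r⟩ := A.exists_unit ∅ (by simp) (b := r) (by simpa using hr0)
  set c := θ⁻¹ * B (inc r') y
  obtain ⟨ρ, hρ⟩ := A.dual_rat (z := θ • (y - c • inc r)) fun z => by
    have hz : z - (⟨_, A.rat' r z⟩ : F₀) • r' ∈ A.perp (({r} : Finset V₀) : Set V₀) := by
      intro s hs
      simp only [Finset.coe_singleton, Set.mem_singleton_iff] at hs
      rw [hs, map_sub, map_sub, A.inc_smul, bilin_smul_right, (A.bsymm r r').trans hr'r]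
      field_simp
      ring
    have h : B (inc (z - (⟨_, A.rat' r z⟩ : F₀) • r')) y ∈ F₀ := hK hz
    rw [map_sub, map_sub, LinearMap.sub_apply, A.inc_smul, bilin_smul_left,
      (A.fixed _).2 (A.rat' r z)] at h
    convert h using 1
    rw [bilin_smul_right, inv_mul_cancel_left₀ hθ, map_sub, bilin_smul_right, A.bsymm z r]
    show B (inc z) y - θ⁻¹ * B (inc r') y * B (inc r) (inc z) =
      B (inc z) y - θ⁻¹ * B (inc r) (inc z) * B (inc r') y
    ring
  -- the component along the centre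
  have hy' : y = θ⁻¹ • inc ρ + c • inc r := by
    rw [hρ, smul_smul, inv_mul_cancel₀ hθ, one_smul, sub_add_cancel]
  have hrρ : B (inc r) (inc ρ) = 0 := by
    rw [hρ, bilin_smul_right, map_sub, bilin_smul_right, hry, hr, mul_zero, sub_zero, mul_zero]
  have hρρ : B (inc ρ) (inc ρ) = 0 := by
    rw [hρ]
    simp [map_sub, bilin_smul_left, bilin_smul_right, hy, hr, hry, hB.perp_symm hry]
  have hk : σ (c + σ c) = c + σ c := by rw [map_add, hB.inv, add_comm]
  have htv : sTv B (inc r) (c + σ c) ∈ M := by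
    have e : sEv B (inc r) y = sEv B (inc r) (θ⁻¹ • inc ρ) * sTv B (inc r) (c + σ c) := by
      refine sIsoms_ext fun x => ?_
      rw [hB.ev_apply hr hy hry, Subgroup.coe_mul, LinearEquiv.mul_apply, hB.tv_apply hr hk,
        hB.ev_apply hr (by simp [bilin_smul_left, bilin_smul_right, hρρ]) (by simp [bilin_smul_right, hrρ]),
        hy']
      simp only [map_add, LinearMap.add_apply, bilin_smul_left, bilin_smul_right, hr, A.inc_symm hrρ, mul_zero,
        add_zero]
      module
    rw [e] at h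
    exact (Subgroup.mul_mem_cancel_left M (C.rt_mem hr hρρ hrρ)).1 h
  have hc := C.no_tv hr hr0 hk htv
  have hcF : σ (θ * c) = θ * c := by
    rw [map_mul, A.tsig]; linear_combination -θ * hc
  refine ⟨ρ + (⟨θ * c, (A.fixed _).1 hcF⟩ : F₀) • r, ?_⟩
  rw [map_add, A.inc_smul, smul_add, smul_smul, inv_mul_cancel_left₀ hθ, hy']

theorem point_rat {g : sIsoms B} (hg : g ∈ M) {v : V₀} (hv : B (inc v) (inc v) = 0) (hv0 : v ≠ 0)
    {lam : F} {r : V₀} (hgv : g.1 (inc v) = lam • inc r) : SKRat inc g := by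
  classical
  have A := C.base
  have hB := A.base
  let G : V₀ → Prop := fun p => ∃ (k : F) (r : V₀), g.1 (inc p) = k • inc r
  have nz : ∀ {p : V₀} {k : F} {r : V₀}, p ≠ 0 → g.1 (inc p) = k • inc r → k ≠ 0 ∧ r ≠ (0 : V₀) := by
    intro p k r hp h
    have hne : g.1 (inc p) ≠ 0 := fun e => A.inc_ne hp (g.1.injective (e.trans (map_zero g.1).symm))
    exact ⟨fun e => hne (by rw [h, e, zero_smul]), fun e => hne (by rw [h, e, map_zero, smul_zero])⟩
  have step : ∀ v p, B (inc v) (inc v) = 0 → v ≠ 0 → G v → B (inc p) (inc p) = 0 → p ≠ 0 →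
      B (inc v) (inc p) = 0 → G p := by
    rintro v p hv hv0 ⟨k, r, hr⟩ hp hp0 hvp
    obtain ⟨hk, hr0⟩ := nz hv0 hr
    have hrr : B (inc r) (inc r) = 0 := by
      have h := sIsoms_map g (inc v) (inc v)
      rw [hr, bilin_smul_left, bilin_smul_right, hv] at h
      exact ((mul_eq_zero.1 ((mul_eq_zero.1 h).resolve_left
        (fun e => hk ((map_eq_zero σ).1 e)))).resolve_left hk)
    have hθ := A.tne
    have hσk : σ k ≠ 0 := fun e => hk ((map_eq_zero σ).1 e)
    set b := θ⁻¹ • g.1 (inc p) with hbdef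
    set y := σ k • b with hydef
    clear_value y
    have hpp : B (θ⁻¹ • inc p) (θ⁻¹ • inc p) = 0 := by simp [bilin_smul_left, bilin_smul_right, hp]
    have hvpp : B (inc v) (θ⁻¹ • inc p) = 0 := by simp [bilin_smul_right, hvp]
    have hb : B b b = 0 := by simp [hbdef, bilin_smul_left, bilin_smul_right, sIsoms_map, hp]
    have hrb : B (inc r) b = 0 := by
      have h := sIsoms_map g (inc p) (inc v)
      rw [hr, bilin_smul_left, hvp] at h
      rw [hbdef, bilin_smul_right, (mul_eq_zero.1 h).resolve_left hσk, mul_zero]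
    have hyy : B y y = 0 := by simp [hydef, bilin_smul_left, bilin_smul_right, hb]
    have hry : B (inc r) y = 0 := by simp [hydef, bilin_smul_right, hrb]
    have hS : sEv B (inc r) y ∈ M := by
      have h := mul_mem (mul_mem hg (C.rt_mem hv hp hvp)) (inv_mem hg)
      rwa [hB.ev_conj g hv hpp hvpp, hr, map_smul, ← hbdef, hB.ev_smul hrr hb hrb, ← hydef] at h
    obtain ⟨ρ, hρ⟩ := C.root_val hrr hr0 hyy hry hS
    refine ⟨(σ k)⁻¹, ρ, ?_⟩
    rw [hydef, hbdef, smul_smul] at hρ
    have e := congrArg (fun z => θ • z) hρ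
    simp only [smul_smul] at e
    rw [mul_inv_cancel₀ hθ, one_smul, show θ * (σ k * θ⁻¹) = σ k by field_simp] at e
    rw [← e, smul_smul, inv_mul_cancel₀ hσk, one_smul]
  have hG : ∀ p, B (inc p) (inc p) = 0 → p ≠ 0 → G p := by
    intro p hp hp0
    by_cases hvp : B (inc v) (inc p) = 0
    · exact step v p hv hv0 ⟨lam, r, hgv⟩ hp hp0 hvp
    obtain ⟨q, hq, hq0, hvq, hpq⟩ := A.exists_common hvp hv hp
    exact step q p hq hq0 (step v q hv hv0 ⟨lam, r, hgv⟩ hq hq0 hvq) hp hp0 (A.inc_symm hpq)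
  obtain ⟨k, r', hr'⟩ := hG v hv hv0
  obtain ⟨hk, -⟩ := nz hv0 hr'
  set c := σ k
  refine ⟨c, fun e => hk ((map_eq_zero σ).1 e), ?_⟩
  let P : Submodule F₀ V₀ :=
    { carrier := {z | ∃ y, c • g.1 (inc z) = inc y}
      add_mem' := by
        rintro a b ⟨y, hy⟩ ⟨y', hy'⟩
        exact ⟨y + y', by rw [map_add, map_add, smul_add, hy, hy', map_add]⟩
      zero_mem' := ⟨0, by simp⟩
      smul_mem' := by
        rintro s a ⟨y, hy⟩
        exact ⟨s • y, by rw [A.inc_smul, map_smul, smul_comm, hy, A.inc_smul]⟩ }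
  have hnon : ∀ b, B (inc b) (inc b) = 0 → B (inc v) (inc b) ≠ 0 → b ∈ P := by
    intro b hb hvb
    have hb0 : b ≠ 0 := fun e => hvb (by rw [e, map_zero, map_zero])
    obtain ⟨k', s, hs⟩ := hG b hb hb0
    obtain ⟨hk', -⟩ := nz hb0 hs
    have h := sIsoms_map g (inc b) (inc v)
    rw [hr', hs, bilin_smul_left, bilin_smul_right] at h
    have hne : B (inc r') (inc s) ≠ 0 := fun e => hvb (by rw [← h, e, mul_zero, mul_zero])
    have hm : c * k' ∈ F₀ := by
      rw [show c * k' = (θ⁻¹ * B (inc v) (inc b)) / (θ⁻¹ * B (inc r') (inc s)) by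
        rw [eq_div_iff (mul_ne_zero (inv_ne_zero A.tne) hne), ← h]; ring]
      exact div_mem (A.rat' _ _) (A.rat' _ _)
    exact ⟨(⟨_, hm⟩ : F₀) • s, by rw [hs, smul_smul, A.inc_smul]⟩
  have hperp : ∀ b, B (inc b) (inc b) = 0 → B (inc v) (inc b) = 0 → b ∉ Submodule.span F₀ {v} → b ∈ P := by
    intro b hb hvb hbout
    obtain ⟨a, ha, haS, hav⟩ := A.exists_unit {b} (by simp) (b := v) (by
      simpa using not_mem_span_symm hv0 hbout)
    have hba : B (inc b) (inc a) = 0 := haS b (by simp)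
    have hva : B (inc v) (inc a) = θ := (A.bsymm _ _).trans hav
    have h1 := hnon a ha (by rw [hva]; exact A.tne)
    have h2 := hnon (b + a) (A.iso_add hb ha hba) (by rw [map_add, map_add, hvb, hva, zero_add]; exact A.tne)
    simpa using sub_mem h2 h1
  have hiso : ∀ b, B (inc b) (inc b) = 0 → b ∈ P := by
    intro b hb
    by_cases hvb : B (inc v) (inc b) = 0
    swap
    · exact hnon b hb hvb
    by_cases hbout : b ∈ Submodule.span F₀ {v}
    · obtain ⟨s, rfl⟩ := Submodule.mem_span_singleton.1 hbout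
      refine P.smul_mem s ?_
      obtain ⟨q, hq, hqS, hqout⟩ := A.exists_out {v} (by simp)
      simp only [Finset.coe_singleton] at hqout
      have hvq : B (inc v) (inc q) = 0 := hqS v (by simp)
      have h1 := hperp q hq hvq hqout
      have h2 := hperp (v + q) (A.iso_add hv hq hvq) (by rw [map_add, map_add, hv, hvq, add_zero])
        fun hm => hqout (by simpa using sub_mem hm (Submodule.mem_span_singleton_self v))
      simpa using sub_mem h2 h1
    · exact hperp b hb hvb hbout
  intro z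
  exact A.perp_le_of_iso ∅ (by simp) (P := P) (fun b hb _ => hiso b hb)
    (show z ∈ A.perp ((∅ : Finset V₀) : Set V₀) from fun s hs => absurd hs (by simp))

end SymCtx

end CfsgLib.MaxSub
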