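import Cfsg.Agent.Lib.MaxSub.SympTypeFourPoly
import Cfsg.Agent.Lib.KnownB.SSMatrix

/-!
Block diagonal models of elements of small order of `GL₄`, and elements of nonsquare determinant
centralising them.
-/

set_option autoImplicit false
set_option linter.unusedSectionVars false

namespace CfsgLib.MaxSub.SymFour

open Matrix
open scoped MatrixGroups

variable {F : Type*} [Field F]

local notation "M2" => Matrix (Fin 2) (Fin 2) F
local notation "M4" => Matrix (Fin 4) (Fin 4) F

/-- Two blocks along the diagonal. -/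
def bd (A B : Matrix (Fin 2) (Fin 2) F) : Matrix (Fin 4) (Fin 4) F :=
  Matrix.reindexAlgEquiv F F (finSumFinEquiv : Fin 2 ⊕ Fin 2 ≃ Fin 4) (fromBlocks A 0 0 B)

theorem bd_mul (A B A' B' : M2) : bd A B * bd A' B' = bd (A * A') (B * B') := by
  rw [bd, bd, bd, ← map_mul, fromBlocks_multiply]; simp

theorem bd_one : bd (1 : M2) 1 = (1 : M4) := by rw [bd, fromBlocks_one, map_one]

theorem bd_smul (c : F) (A B : M2) : c • bd A B = bd (c • A) (c • B) := by
  rw [bd, bd, ← map_smul, fromBlocks_smul]; simp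

theorem bd_add (A B A' B' : M2) : bd A B + bd A' B' = bd (A + A') (B + B') := by
  rw [bd, bd, bd, ← map_add, fromBlocks_add]; simp

theorem bd_sub (A B A' B' : M2) : bd A B - bd A' B' = bd (A - A') (B - B') := by
  rw [sub_eq_iff_eq_add, bd_add]; simp

theorem bd_pow (A B : M2) (k : ℕ) : bd A B ^ k = bd (A ^ k) (B ^ k) := by
  induction k with
  | zero => simp [bd_one]
  | succ k ih => rw [pow_succ, ih, bd_mul, pow_succ, pow_succ]

theorem bd_det (A B : M2) : (bd A B).det = A.det * B.det := by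
  rw [bd, Matrix.reindexAlgEquiv_apply, Matrix.det_reindex_self, det_fromBlocks_zero₁₂]

theorem bd_trace (A B : M2) : (bd A B).trace = A.trace + B.trace := by
  rw [bd, Matrix.reindexAlgEquiv_apply, Matrix.reindex_apply]
  simp only [Matrix.trace, Matrix.diag_apply, Matrix.submatrix_apply]
  rw [← Equiv.sum_comp (finSumFinEquiv : Fin 2 ⊕ Fin 2 ≃ Fin 4)]
  simp [Fintype.sum_sum_type, Matrix.trace]

theorem bd_charpoly (A B : M2) : (bd A B).charpoly = A.charpoly * B.charpoly := by
  rw [bd, Matrix.reindexAlgEquiv_apply, Matrix.charpoly_reindex, charpoly_fromBlocks_zero₁₂]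

theorem bd_map {K : Type*} [Field K] (σ : F →+* K) (A B : M2) : (bd A B).map σ = bd (A.map σ) (B.map σ) := by
  ext i j
  simp only [bd, Matrix.reindexAlgEquiv_apply, Matrix.reindex_apply, Matrix.map_apply, Matrix.submatrix_apply]
  rcases (finSumFinEquiv : Fin 2 ⊕ Fin 2 ≃ Fin 4).symm i with a | a <;>
    rcases (finSumFinEquiv : Fin 2 ⊕ Fin 2 ≃ Fin 4).symm j with b | b <;> simp

theorem bd_transpose (A B : M2) : (bd A B)ᵀ = bd Aᵀ Bᵀ := by
  rw [bd, bd, Matrix.reindexAlgEquiv_apply, Matrix.reindexAlgEquiv_apply, Matrix.transpose_reindex,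
    fromBlocks_transpose]
  simp

theorem bd_inj {A B A' B' : M2} (h : bd A B = bd A' B') : A = A' ∧ B = B' := by
  have := (Matrix.reindexAlgEquiv F F (finSumFinEquiv : Fin 2 ⊕ Fin 2 ≃ Fin 4)).injective h
  rw [fromBlocks_inj] at this
  exact ⟨this.1, this.2.2.2⟩

theorem sq_fin_two (A : M2) : A * A = A.trace • A - A.det • (1 : M2) := by
  rw [Matrix.eta_fin_two A]
  ext i j
  fin_cases i <;> fin_cases j <;> simp [Matrix.trace_fin_two, Matrix.det_fin_two] <;> ring

theorem cube_fin_two {A : M2} (ht : A.trace = -1) (hd : A.det = 1) : A ^ 3 = 1 := by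
  have h := sq_fin_two A
  rw [ht, hd, one_smul, neg_one_smul] at h
  rw [pow_succ, pow_two, h, sub_mul, neg_mul, h, one_mul]
  abel

theorem five_fin_two {A : M2} {s : F} (hs : s * s + s - 1 = 0) (ht : A.trace = s) (hd : A.det = 1) :
    A ^ 5 = 1 := by
  have h := sq_fin_two A
  rw [ht, hd, one_smul] at h
  have e3 : A ^ 3 = (s * s - 1) • A - s • (1 : M2) := by
    rw [pow_succ, pow_two, h, sub_mul, smul_mul_assoc, h, one_mul]
    module
  rw [show (5 : ℕ) = 3 + 2 from rfl, pow_add, e3, pow_two, h]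
  simp only [sub_mul, mul_sub, smul_mul_assoc, mul_smul_comm, one_mul, mul_one, h, smul_sub, smul_smul]
  match_scalars
  · linear_combination (s * s - s - 1) * hs
  · linear_combination (-s + 1) * hs

theorem det_lin (A : M2) (a b : F) :
    (a • (1 : M2) + b • A).det = a * a + a * b * A.trace + b * b * A.det := by
  rw [Matrix.det_fin_two, Matrix.det_fin_two, Matrix.trace_fin_two]
  simp
  ring

theorem exists_quad [Fintype F] (h2 : (2 : F) ≠ 0) (h3 : (3 : F) ≠ 0) (e : F) :
    ∃ a b : F, a * a - a * b + b * b = e := by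
  classical
  have hodd : Fintype.card F % 2 = 1 :=
    FiniteField.odd_card_of_char_ne_two fun h => h2 (by haveI := ringChar.of_eq h; exact CharTwo.two_eq_zero)
  obtain ⟨X, Y, hXY⟩ := FiniteField.exists_root_sum_quadratic
    (f := Polynomial.X ^ 2 - Polynomial.C (4 * e)) (g := Polynomial.C (3 : F) * Polynomial.X ^ 2)
    (Polynomial.degree_X_pow_sub_C (by norm_num) _) (by rw [Polynomial.degree_C_mul_X_pow 2 h3]; rfl) hodd
  simp only [Polynomial.eval_sub, Polynomial.eval_pow, Polynomial.eval_X, Polynomial.eval_C, Polynomial.eval_mul] at hXY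
  refine ⟨(X + Y) / 2, Y, ?_⟩
  field_simp
  linear_combination hXY

/-- A unit from a matrix of nonzero determinant. -/
noncomputable def ofDet {n : ℕ} (A : Matrix (Fin n) (Fin n) F) (h : A.det ≠ 0) : GL (Fin n) F :=
  Matrix.GeneralLinearGroup.mkOfDetNeZero A h

theorem ofDet_coe {n : ℕ} (A : Matrix (Fin n) (Fin n) F) (h : A.det ≠ 0) :
    ((ofDet A h : GL (Fin n) F) : Matrix (Fin n) (Fin n) F) = A := rfl

theorem gl_conj_of_charpoly [Fintype F] (p : ℕ) [Fact p.Prime] [CharP F p] {y t : GL (Fin 4) F} {m : ℕ}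
    (hm : m.Coprime p) (hy : (y : M4) ^ m = 1) (ht : (t : M4) ^ m = 1)
    (hc : (y : M4).charpoly = (t : M4).charpoly) : IsConj y t := by
  refine KnownB.SSClass.gl_isConj_of_charpoly p ?_ ?_ hc
  all_goals refine Nat.Coprime.coprime_dvd_left (orderOf_dvd_of_pow_eq_one (n := m) (Units.ext ?_)) hm
  · rw [Units.val_pow_eq_pow_val, hy, Units.val_one]
  · rw [Units.val_pow_eq_pow_val, ht, Units.val_one]

/-- A cyclic group of even order: a nonsquare generates modulo fourth powers. -/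
theorem exists_pow_mul_four [Fintype F] {δ : F} (hδ : δ ≠ 0) (hns : ¬ IsSquare δ) {e : F} (he : e ≠ 0) :
    ∃ (j : ℕ) (a : F), a ≠ 0 ∧ e = δ ^ j * a ^ 4 := by
  obtain ⟨g, hg⟩ := IsCyclic.exists_generator (α := Fˣ)
  obtain ⟨o, ho⟩ := (Subgroup.mem_zpowers_iff.1 (hg (Units.mk0 δ hδ)))
  obtain ⟨m, hm⟩ := (Subgroup.mem_zpowers_iff.1 (hg (Units.mk0 e he)))
  have hoddo : Odd o := by
    rw [← Int.not_even_iff_odd]
    rintro ⟨c, rfl⟩
    refine hns ⟨((g ^ c : Fˣ) : F), ?_⟩
    have := congrArg (fun u : Fˣ => (u : F)) ho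
    simp only [_root_.zpow_add, Units.val_mul, Units.val_mk0] at this
    exact this.symm
  obtain ⟨j, hj⟩ : ∃ j : ℕ, (4 : ℤ) ∣ m - o * j := by
    refine ⟨((o * m) % 4).toNat, ?_⟩
    rw [Int.toNat_of_nonneg (Int.emod_nonneg _ (by norm_num))]
    obtain ⟨c, rfl⟩ := hoddo
    have h := Int.mul_ediv_add_emod ((2 * c + 1) * m) 4
    refine ⟨-(c * c + c) * m + (2 * c + 1) * (((2 * c + 1) * m) / 4), ?_⟩
    linear_combination (-(2 * c + 1)) * h
  obtain ⟨c, hc⟩ := hj
  refine ⟨j, ((g ^ c : Fˣ) : F), Units.ne_zero _, ?_⟩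
  have he' : Units.mk0 e he = (Units.mk0 δ hδ) ^ j * (g ^ c) ^ 4 := by
    rw [← hm, ← ho, ← zpow_natCast (g ^ o) j, ← _root_.zpow_mul, ← zpow_natCast (g ^ c) 4, ← _root_.zpow_mul,
      ← _root_.zpow_add]
    congr 1
    push_cast
    linear_combination hc
  have := congrArg (fun u : Fˣ => (u : F)) he'
  simpa using this

end CfsgLib.MaxSub.SymFour
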