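import Cfsg.Agent.Lib.MaxSub.SympTypeFourBasic

/-!
Elements of odd prime order normalising a group of symplectic type of degree four: the number of fixed
cosets of the centre is the product of the traces of the element and of its inverse.
-/

set_option autoImplicit false
set_option linter.unusedSectionVars false
set_option linter.style.haveILetI false

namespace CfsgLib.MaxSub.SymFour

open scoped MatrixGroups
open Cfsg.Geo Matrix CfsgLib.Aschbacher

variable {ι : Type} [Fintype ι] [DecidableEq ι] {F : Type*} [Field F]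

local notation "Mι" => Matrix ι ι F

variable {R : Subgroup (GL ι F)}

theorem mem_normalizer {x : GL ι F} :
    x ∈ subgroupNormalizer R ↔ ∀ y, y ∈ R ↔ x * y * x⁻¹ ∈ R :=
  Subgroup.mem_normalizer_iff

/-- Conjugation by a normalising element. -/
def conjR (x : GL ι F) (hx : x ∈ subgroupNormalizer R) : R ≃* R where
  toFun y := ⟨x * y * x⁻¹, (mem_normalizer.1 hx y).1 y.2⟩
  invFun y := ⟨x⁻¹ * y * x, (mem_normalizer.1 hx _).2 (by
    rw [show x * (x⁻¹ * (y : GL ι F) * x) * x⁻¹ = y by group]; exact y.2)⟩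
  left_inv y := Subtype.ext (by simp [mul_assoc])
  right_inv y := Subtype.ext (by simp [mul_assoc])
  map_mul' a b := Subtype.ext (by simp [mul_assoc])

/-- The action of a normalising element on the cosets of the centre. -/
def tau (x : GL ι F) (hx : x ∈ subgroupNormalizer R) : R ⧸ Subgroup.center R ≃* R ⧸ Subgroup.center R :=
  QuotientGroup.congr _ _ (conjR x hx) (Subgroup.characteristic_iff_map_eq.1 Subgroup.centerCharacteristic _)

theorem tau_mk (x : GL ι F) (hx : x ∈ subgroupNormalizer R) (y : R) :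
    tau x hx (QuotientGroup.mk y) = QuotientGroup.mk (conjR x hx y) := QuotientGroup.congr_mk _ _ _ _ _

/-- The cosets of the centre fixed by a normalising element. -/
def fixed (x : GL ι F) (hx : x ∈ subgroupNormalizer R) : Subgroup (R ⧸ Subgroup.center R) :=
  MonoidHom.eqLocus (tau x hx).toMonoidHom (MonoidHom.id _)

theorem card_fixed_modEq {α : Type*} [Finite α] (σ : Equiv.Perm α) {r : ℕ} [Fact r.Prime] (h : σ ^ r = 1) :
    Nat.card {a // σ a = a} ≡ Nat.card α [MOD r] := by
  classical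
  haveI := Fintype.ofFinite α
  have := Equiv.Perm.card_compl_support_modEq (n := 1) (σ := σ) (by rwa [pow_one] : σ ^ r ^ 1 = 1)
  rw [Nat.card_eq_fintype_card, Nat.card_eq_fintype_card, Fintype.card_subtype]
  convert this using 2
  ext a
  simp

theorem tau_pow_mk (x : GL ι F) (hx : x ∈ subgroupNormalizer R) (j : ℕ) (y : R) :
    ((tau x hx).toEquiv ^ j) (QuotientGroup.mk y) =
      QuotientGroup.mk ⟨x ^ j * y * (x ^ j)⁻¹,
        (mem_normalizer.1 (Subgroup.pow_mem _ hx j) y).1 y.2⟩ := by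
  induction j with
  | zero => simp
  | succ j ih =>
    rw [pow_succ', Equiv.Perm.mul_apply, ih]
    show tau x hx _ = _
    rw [tau_mk]
    congr 1
    exact Subtype.ext (by simp [conjR, pow_succ', mul_assoc])

theorem tau_pow_eq_one (x : GL ι F) (hx : x ∈ subgroupNormalizer R) {r : ℕ}
    (hr : ∃ z : F, ((x ^ r : GL ι F) : Mι) = z • (1 : Mι)) : (tau x hx).toEquiv ^ r = 1 := by
  obtain ⟨z, hz⟩ := hr
  refine Equiv.ext fun Q => ?_
  obtain ⟨y, rfl⟩ := QuotientGroup.mk_surjective Q
  rw [tau_pow_mk, Equiv.Perm.one_apply]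
  congr 1
  refine Subtype.ext (mul_inv_eq_iff_eq_mul.2 (Units.ext ?_))
  rw [Units.val_mul, Units.val_mul, hz]
  simp

variable (hR : Pauli R)
include hR

theorem Pauli.card_fixed_dvd (x : GL ι F) (hx : x ∈ subgroupNormalizer R) : Nat.card (fixed x hx) ∣ 16 :=
  hR.quot ▸ Subgroup.card_subgroup_dvd_card _

theorem Pauli.card_fixed_mod (x : GL ι F) (hx : x ∈ subgroupNormalizer R) {r : ℕ} [Fact r.Prime]
    (hr : ∃ z : F, ((x ^ r : GL ι F) : Mι) = z • (1 : Mι)) : Nat.card (fixed x hx) ≡ 16 [MOD r] := by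
  haveI := hR.finite_quot
  have := card_fixed_modEq _ (tau_pow_eq_one x hx hr)
  rwa [hR.quot] at this

/-- An element of odd order centralises each element whose coset it fixes. -/
theorem Pauli.commute_of_fixed {x : GL ι F} (hx : x ∈ subgroupNormalizer R) {r : ℕ} (hodd : Odd r)
    (hr : x ^ r = 1) (y : R) (hy : tau x hx (QuotientGroup.mk y) = QuotientGroup.mk y) :
    x * (y : GL ι F) * x⁻¹ = y := by
  rw [tau_mk] at hy
  have hz := QuotientGroup.eq.1 hy.symm
  obtain ⟨a, ha⟩ := (hR.center_iff _).1 hz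
  obtain ⟨z, hzdef⟩ : ∃ z : GL ι F, z = ((y⁻¹ * conjR x hx y : R) : GL ι F) := ⟨_, rfl⟩
  rw [← hzdef] at ha
  have e : x * (y : GL ι F) * x⁻¹ = (y : GL ι F) * z := by
    rw [hzdef, Subgroup.coe_mul, Subgroup.coe_inv, mul_inv_cancel_left]; rfl
  have hzc : ∀ w : GL ι F, z * w = w * z := fun w => Units.ext (by simp [ha])
  have hz2 : z * z = 1 := by
    have h1 : x * ((y : GL ι F) * y) * x⁻¹ = (y : GL ι F) * y := by
      rcases hR.sq y y.2 with h | h <;> rw [h]
      · simp
      · rw [mul_neg_one, neg_mul, mul_inv_cancel]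
    have h2 : x * ((y : GL ι F) * y) * x⁻¹ = (y : GL ι F) * y * (z * z) := by
      rw [show x * ((y : GL ι F) * y) * x⁻¹ = (x * y * x⁻¹) * (x * y * x⁻¹) by group, e,
        mul_assoc, ← mul_assoc z, hzc]
      simp [mul_assoc]
    rw [h2, mul_eq_left] at h1
    exact h1
  have hj : ∀ j : ℕ, x ^ j * (y : GL ι F) * (x ^ j)⁻¹ = (y : GL ι F) * z ^ j := by
    intro j
    induction j with
    | zero => simp
    | succ j ih =>
      have hcz : ∀ k : ℕ, ∀ w : GL ι F, z ^ k * w = w * z ^ k := fun k w => (Commute.pow_left (hzc w) k).eq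
      calc x ^ (j + 1) * (y : GL ι F) * (x ^ (j + 1))⁻¹
          = x * (x ^ j * (y : GL ι F) * (x ^ j)⁻¹) * x⁻¹ := by group
        _ = x * (y : GL ι F) * (z ^ j * x⁻¹) := by rw [ih]; group
        _ = (x * (y : GL ι F) * x⁻¹) * z ^ j := by rw [hcz]; group
        _ = _ := by rw [e, mul_assoc, ← pow_succ']
  have h3 := hj r
  rw [hr, one_mul, inv_one, mul_one, left_eq_mul] at h3
  obtain ⟨k, rfl⟩ := hodd
  rw [pow_succ, pow_mul, pow_two, hz2, one_pow, one_mul] at h3
  rw [e, h3, mul_one]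

theorem Pauli.scalar_of_fixed_all {x : GL ι F} (hx : x ∈ subgroupNormalizer R) {r : ℕ} (hodd : Odd r)
    (hr : x ^ r = 1) (h : Nat.card (fixed x hx) = 16) : ∃ c : F, (x : Mι) = c • (1 : Mι) := by
  haveI := hR.finite_quot
  have htop : fixed x hx = ⊤ := Subgroup.eq_top_of_card_eq _ (h.trans hR.quot.symm)
  refine hR.irr _ fun y hy => ?_
  have hm : (QuotientGroup.mk (⟨y, hy⟩ : R) : R ⧸ Subgroup.center R) ∈ fixed x hx := htop ▸ Subgroup.mem_top _
  have := hR.commute_of_fixed hx hodd hr ⟨y, hy⟩ hm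
  exact congrArg Units.val (mul_inv_eq_iff_eq_mul.1 this)

theorem Pauli.cj_basis (x : GL ι F) (hx : x ∈ subgroupNormalizer R) (Q : R ⧸ Subgroup.center R) :
    ∃ c : F, c ≠ 0 ∧ cj x (hR.basis Q) = c • hR.basis (tau x hx Q) := by
  obtain ⟨c, hc, e⟩ := hR.rep_mul (conjR x hx Q.out)
  refine ⟨c, hc, ?_⟩
  rw [← tau_mk, QuotientGroup.out_eq'] at e
  rw [← e, hR.basis_apply, cj_coe]
  rfl

/-- The number of fixed cosets is `tr x * tr x⁻¹`. -/
theorem Pauli.card_fixed_eq_trace {x : GL ι F} (hx : x ∈ subgroupNormalizer R) {r : ℕ} (hodd : Odd r)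
    (hr : x ^ r = 1) :
    (Nat.card (fixed x hx) : F) = (x : Mι).trace * ((x⁻¹ : GL ι F) : Mι).trace := by
  classical
  haveI := hR.finite_quot
  letI := Fintype.ofFinite (R ⧸ Subgroup.center R)
  have h1 := LinearMap.trace_eq_matrix_trace F hR.basis (cj x).toLinearMap
  have h2 := LinearMap.trace_eq_matrix_trace F (Matrix.stdBasis F ι ι) (cj x).toLinearMap
  rw [h1, Matrix.trace, Matrix.trace] at h2
  have e1 : ∀ Q, Matrix.diag (LinearMap.toMatrix hR.basis hR.basis (cj x).toLinearMap) Q =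
      if tau x hx Q = Q then 1 else 0 := by
    intro Q
    obtain ⟨c, hc, e⟩ := hR.cj_basis x hx Q
    rw [Matrix.diag_apply, LinearMap.toMatrix_apply]
    show hR.basis.repr (cj x (hR.basis Q)) Q = _
    by_cases h : tau x hx Q = Q
    · have hfix := hR.commute_of_fixed hx hodd hr Q.out (by rwa [QuotientGroup.out_eq'])
      rw [if_pos h, hR.basis_apply, cj_coe, hfix, ← hR.basis_apply, Module.Basis.repr_self,
        Finsupp.single_eq_same]
    · rw [if_neg h, e, map_smul, Module.Basis.repr_self, Finsupp.smul_apply,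
        Finsupp.single_eq_of_ne (Ne.symm h), smul_zero]
  have e2 : ∀ a : ι × ι, Matrix.diag (LinearMap.toMatrix (Matrix.stdBasis F ι ι) (Matrix.stdBasis F ι ι)
      (cj x).toLinearMap) a = (x : Mι) a.1 a.1 * ((x⁻¹ : GL ι F) : Mι) a.2 a.2 := by
    rintro ⟨i, j⟩
    rw [Matrix.diag_apply, LinearMap.toMatrix_apply, Matrix.stdBasis_eq_single]
    simp [Matrix.stdBasis, cj, Matrix.mul_apply, Matrix.single_apply, ite_and, Finset.sum_mul]
  simp only [e1, e2, Finset.sum_boole, Fintype.sum_prod_type, ← Finset.mul_sum, ← Finset.sum_mul] at h2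
  rw [Matrix.trace, Matrix.trace]
  simp only [Matrix.diag_apply]
  rw [← h2, Nat.card_eq_fintype_card]
  congr 1
  rw [Fintype.card_subtype]
  congr 1
  exact Finset.filter_congr (fun Q _ => Iff.rfl)

end CfsgLib.MaxSub.SymFour
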