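import Mathlib

/-!
Identities in an algebra containing anticommuting square roots of plus or minus one.
-/

set_option autoImplicit false
set_option linter.unusedSectionVars false

namespace CfsgLib.MaxSub.SymFour

variable {F : Type*} [Field F] {A : Type*} [Ring A] [Algebra F A]

/-- The element `(-1 + a + b + ab) / 2`. -/
def hur (F : Type*) [Field F] {A : Type*} [Ring A] [Algebra F A] (a b : A) : A :=
  (2 : F)⁻¹ • (-1 + a + b + a * b)

/-- The element `(-1 - a - b - ab) / 2`. -/
def hurInv (F : Type*) [Field F] {A : Type*} [Ring A] [Algebra F A] (a b : A) : A :=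
  (2 : F)⁻¹ • (-1 - a - b - a * b)

variable {a b : A} (ha : a * a = -1) (hb : b * b = -1) (hba : b * a = -(a * b))

theorem quat_rules (ha : a * a = -1) (hb : b * b = -1) (hba : b * a = -(a * b)) (X : A) :
    a * (a * X) = -X ∧ b * (b * X) = -X ∧ b * (a * X) = -(a * (b * X)) := by
  refine ⟨?_, ?_, ?_⟩ <;> simp [← mul_assoc, ha, hb, hba]

theorem half_half (h2 : (2 : F) ≠ 0) : (2 : F)⁻¹ * (2 : F)⁻¹ * 4 = 1 := by
  field_simp
  norm_num

include ha hb hba

theorem hur_sq (h2 : (2 : F) ≠ 0) : hur F a b * hur F a b = hurInv F a b := by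
  have r1 := fun X => (quat_rules ha hb hba X).1
  have r2 := fun X => (quat_rules ha hb hba X).2.1
  have r3 := fun X => (quat_rules ha hb hba X).2.2
  simp only [hur, hurInv, smul_mul_smul_comm, add_mul, mul_add, neg_mul, mul_neg, one_mul, mul_one, neg_neg,
    mul_assoc, ha, hb, hba, r1, r2, r3]
  match_scalars <;> field_simp <;> ring

theorem hur_mul_hurInv (h2 : (2 : F) ≠ 0) : hur F a b * hurInv F a b = 1 := by
  have r1 := fun X => (quat_rules ha hb hba X).1
  have r2 := fun X => (quat_rules ha hb hba X).2.1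
  have r3 := fun X => (quat_rules ha hb hba X).2.2
  simp only [hur, hurInv, smul_mul_smul_comm, add_mul, mul_add, mul_sub, sub_mul, neg_mul, mul_neg, one_mul, mul_one,
    neg_neg, mul_assoc, ha, hb, hba, r1, r2, r3]
  match_scalars <;> field_simp <;> ring

theorem hur_cube (h2 : (2 : F) ≠ 0) : hur F a b ^ 3 = 1 := by
  rw [pow_succ', pow_two, hur_sq ha hb hba h2, hur_mul_hurInv ha hb hba h2]

theorem hur_conj (h2 : (2 : F) ≠ 0) :
    hur F a b * a * hurInv F a b = a * b ∧ hur F a b * b * hurInv F a b = a := by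
  have r1 := fun X => (quat_rules ha hb hba X).1
  have r2 := fun X => (quat_rules ha hb hba X).2.1
  have r3 := fun X => (quat_rules ha hb hba X).2.2
  constructor <;>
  · simp only [hur, hurInv, smul_mul_assoc, mul_smul_comm, smul_smul, add_mul, mul_add, mul_sub, sub_mul, neg_mul,
      mul_neg, one_mul, mul_one, neg_neg, mul_assoc, ha, hb, hba, r1, r2, r3]
    match_scalars <;> field_simp <;> ring

omit ha hb hba in
theorem hur_commute {c : A} (hca : c * a = a * c) (hcb : c * b = b * c) : c * hur F a b = hur F a b * c := by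
  simp only [hur, mul_smul_comm, smul_mul_assoc, mul_add, add_mul, mul_neg, neg_mul, one_mul, mul_one]
  rw [hca, hcb, show c * (a * b) = a * b * c by rw [← mul_assoc, hca, mul_assoc, hcb, mul_assoc]]

omit ha hb hba in
/-- The controlled sign `(1 + A + B - AB) / 2`. -/
def cz (F : Type*) [Field F] {A : Type*} [Ring A] [Algebra F A] (a b : A) : A :=
  (2 : F)⁻¹ • (1 + a + b - a * b)

omit ha hb hba in
theorem cz_props (h2 : (2 : F) ≠ 0) (ha : a * a = 1) (hb : b * b = 1) (hba : b * a = a * b) :
    cz F a b * cz F a b = 1 ∧ cz F a b * a = a * cz F a b ∧ cz F a b * b = b * cz F a b ∧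
      ∀ c, c * a = -(a * c) → c * b = b * c → cz F a b * c * cz F a b = b * c := by
  have r1 : ∀ X, a * (a * X) = X := fun X => by rw [← mul_assoc, ha, one_mul]
  have r2 : ∀ X, b * (b * X) = X := fun X => by rw [← mul_assoc, hb, one_mul]
  have r3 : ∀ X, b * (a * X) = a * (b * X) := fun X => by rw [← mul_assoc, hba, mul_assoc]
  refine ⟨?_, ?_, ?_, fun c hca hcb => ?_⟩
  · simp only [cz, smul_mul_smul_comm, add_mul, mul_add, mul_sub, sub_mul, one_mul, mul_one,
      mul_assoc, ha, hb, hba, r1, r2, r3]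
    match_scalars <;> field_simp <;> ring
  · simp only [cz, smul_mul_assoc, mul_smul_comm, add_mul, mul_add, mul_sub, sub_mul, one_mul, mul_one,
      mul_assoc, hba, r1]
  · simp only [cz, smul_mul_assoc, mul_smul_comm, add_mul, mul_add, mul_sub, sub_mul, one_mul, mul_one,
      mul_assoc, hba, hb, r3]
  · have r4 : ∀ X, c * (a * X) = -(a * (c * X)) := fun X => by rw [← mul_assoc, hca, neg_mul, mul_assoc]
    have r5 : ∀ X, c * (b * X) = b * (c * X) := fun X => by rw [← mul_assoc, hcb, mul_assoc]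
    simp only [cz, smul_mul_assoc, mul_smul_comm, smul_smul, add_mul, mul_add, mul_sub, sub_mul, one_mul,
      mul_one, neg_mul, mul_neg, neg_neg, mul_assoc, ha, hb, hba, hca, hcb, r1, r2, r3, r4, r5]
    match_scalars <;> field_simp <;> ring

omit ha hb hba in
/-- `1 + ab` for anticommuting involutions `a`, `b` exchanges them up to sign. -/
theorem rot_props (ha : a * a = 1) (hb : b * b = 1) (hba : b * a = -(a * b)) :
    (1 + a * b) * (1 - a * b) = (2 : A) ∧ (1 - a * b) * (1 + a * b) = (2 : A) ∧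
      (1 + a * b) * a * (1 - a * b) = -((2 : A) * b) ∧ (1 + a * b) * b * (1 - a * b) = (2 : A) * a ∧
      ∀ c, c * a = -(a * c) → c * b = -(b * c) → (1 + a * b) * c * (1 - a * b) = (2 : A) * c := by
  have r1 : ∀ X, a * (a * X) = X := fun X => by rw [← mul_assoc, ha, one_mul]
  have r2 : ∀ X, b * (b * X) = X := fun X => by rw [← mul_assoc, hb, one_mul]
  have r3 : ∀ X, b * (a * X) = -(a * (b * X)) := fun X => by rw [← mul_assoc, hba, neg_mul, mul_assoc]
  refine ⟨?_, ?_, ?_, ?_, fun c hca hcb => ?_⟩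
  · simp only [add_mul, mul_sub, one_mul, mul_one, neg_mul, mul_neg, neg_neg, mul_assoc,
      ha, hb, hba, r1, r2, r3, ← one_add_one_eq_two]
    abel
  · simp only [mul_add, sub_mul, one_mul, mul_one, neg_mul, mul_neg, neg_neg, mul_assoc,
      ha, hb, hba, r1, r2, r3, ← one_add_one_eq_two]
    abel
  · simp only [add_mul, mul_sub, one_mul, mul_one, neg_mul, mul_neg, neg_neg, mul_assoc,
      ha, hb, hba, r1, r2, r3, ← one_add_one_eq_two]
    abel
  · simp only [add_mul, mul_sub, one_mul, mul_one, neg_mul, mul_neg, neg_neg, mul_assoc,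
      ha, hb, hba, r1, r2, r3, ← one_add_one_eq_two]
    abel
  have r4 : ∀ X, c * (a * X) = -(a * (c * X)) := fun X => by rw [← mul_assoc, hca, neg_mul, mul_assoc]
  have r5 : ∀ X, c * (b * X) = -(b * (c * X)) := fun X => by rw [← mul_assoc, hcb, neg_mul, mul_assoc]
  simp only [add_mul, mul_sub, mul_one, one_mul, neg_mul, mul_neg, neg_neg, mul_assoc, hca, hcb, hba, r1, r2, r3,
    r4, r5, ← one_add_one_eq_two]
  abel

end CfsgLib.MaxSub.SymFour
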