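import Cfsg.Agent.Lib.MaxSub.SympTypeFourFrame
import Cfsg.Agent.Lib.MaxSub.SympTypeFourQuat
import Cfsg.Agent.Lib.MaxSub.SympTypeFourFixed

/-!
Elements of orders two, three and five normalising a group of symplectic type of degree four, written in
the group algebra of a frame.
-/

set_option autoImplicit false
set_option linter.unusedSectionVars false
set_option linter.style.haveILetI false

namespace CfsgLib.MaxSub.SymFour

open scoped MatrixGroups
open Cfsg.Geo Matrix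

variable {ι : Type} [Fintype ι] [DecidableEq ι] {F : Type*} [Field F]

local notation "Mι" => Matrix ι ι F
local notation "G" => GL ι F

/-- An anti-automorphism semilinear over `σ`. -/
structure Anti (σ : F →+* F) (st : Matrix ι ι F → Matrix ι ι F) : Prop where
  add : ∀ X Y, st (X + Y) = st X + st Y
  mul : ∀ X Y, st (X * Y) = st Y * st X
  smul : ∀ (c : F) X, st (c • X) = σ c • st X
  one : st 1 = 1

theorem Anti.neg {σ : F →+* F} {st : Matrix ι ι F → Matrix ι ι F} (h : Anti σ st) (X : Matrix ι ι F) : st (-X) = -st X := by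
  rw [← neg_one_smul F X, h.smul, map_neg, map_one, neg_one_smul]

theorem Anti.sub {σ : F →+* F} {st : Matrix ι ι F → Matrix ι ι F} (h : Anti σ st) (X Y : Matrix ι ι F) : st (X - Y) = st X - st Y := by
  rw [sub_eq_add_neg, h.add, h.neg, ← sub_eq_add_neg]

theorem mat_rel {a b : G} (h : a * b = -(b * a)) : (a : Mι) * (b : Mι) = -((b : Mι) * (a : Mι)) := by
  rw [← Units.val_mul, h, Units.val_neg, Units.val_mul]

theorem mat_rel' {a b : G} (h : a * b = b * a) : (a : Mι) * (b : Mι) = (b : Mι) * (a : Mι) := by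
  rw [← Units.val_mul, h, Units.val_mul]

variable {R : Subgroup (GL ι F)} (hR : Pauli R) {e : Fin 4 → GL ι F} (he : Frame R e)
include hR he

theorem Pauli.frame_ne (i : Fin 4) (c : F) : ((e i : G) : Mι) ≠ c • (1 : Mι) := by
  haveI := hR.nonempty
  exact ne_scalar_of_anti hR.two (he.anti (i + 1) i (by fin_cases i <;> decide)) c

theorem Pauli.frame_mem_normalizer {y : G} (hy : y ∈ R) : y ∈ subgroupNormalizer R :=
  Subgroup.le_normalizer hy

/-- The element of order five modulo scalars. -/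
theorem Pauli.five_target :
    ∃ t ∈ subgroupNormalizer R, (∃ c : F, (t : Mι) ^ 5 = c • (1 : Mι)) ∧ (∀ c : F, (t : Mι) ≠ c • (1 : Mι)) ∧
      ∀ (σ : F →+* F) (st : Mι → Mι), Anti σ st → (∀ i, st (e i : Mι) = e i) → st (t : Mι) * (t : Mι) = 1 := by
  haveI := hR.nonempty
  have a : ∀ i j, i ≠ j → e i * e j = -(e j * e i) := he.anti
  obtain ⟨P, hP⟩ : ∃ P, P = e 0 * e 1 * e 2 * e 3 := ⟨_, rfl⟩
  have hPa : ∀ i, P * e i = -(e i * P) := by
    intro i
    rw [hP]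
    fin_cases i
    · exact comm_mul_anti (anti_mul_anti (comm_mul_anti rfl (a 1 0 (by decide))) (a 2 0 (by decide))) (a 3 0 (by decide))
    · exact comm_mul_anti (anti_mul_anti (anti_mul_comm (a 0 1 (by decide)) rfl) (a 2 1 (by decide))) (a 3 1 (by decide))
    · exact comm_mul_anti (comm_mul (anti_mul_anti (a 0 2 (by decide)) (a 1 2 (by decide))) rfl) (a 3 2 (by decide))
    · exact anti_mul_comm (comm_mul_anti (anti_mul_anti (a 0 3 (by decide)) (a 1 3 (by decide))) (a 2 3 (by decide))) rfl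
  have hP2 : P * P = 1 := by
    have h23 : (e 2 * e 3) * (e 2 * e 3) = -1 := by
      rw [mul_assoc, ← mul_assoc (e 3), a 3 2 (by decide), neg_mul, mul_assoc, he.sq, mul_one, mul_neg, he.sq]
    have h1 : (e 2 * e 3) * e 1 = e 1 * (e 2 * e 3) := anti_mul_anti (a 2 1 (by decide)) (a 3 1 (by decide))
    have h123 : (e 1 * (e 2 * e 3)) * (e 1 * (e 2 * e 3)) = -1 := by
      rw [mul_assoc, ← mul_assoc (e 2 * e 3), h1, mul_assoc, h23, ← mul_assoc, he.sq, one_mul]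
    have h0 : (e 1 * (e 2 * e 3)) * e 0 = -(e 0 * (e 1 * (e 2 * e 3))) :=
      anti_mul_comm (a 1 0 (by decide)) (anti_mul_anti (a 2 0 (by decide)) (a 3 0 (by decide)))
    rw [hP, show e 0 * e 1 * e 2 * e 3 = e 0 * (e 1 * (e 2 * e 3)) by simp [mul_assoc], mul_assoc,
      ← mul_assoc (e 1 * (e 2 * e 3)), h0, neg_mul, mul_assoc (e 0), h123, mul_neg_one, neg_neg, he.sq]
  obtain ⟨f, hf⟩ : ∃ f : Fin 5 → G, f = ![e 0, e 1, e 2, e 3, P] := ⟨_, rfl⟩
  have f0 : f 0 = e 0 := by rw [hf]; rfl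
  have f1 : f 1 = e 1 := by rw [hf]; rfl
  have f2 : f 2 = e 2 := by rw [hf]; rfl
  have f3 : f 3 = e 3 := by rw [hf]; rfl
  have f4 : f 4 = P := by rw [hf]; rfl
  have hfR : ∀ i, f i ∈ R := by
    intro i
    fin_cases i <;> rw [hf] <;> first
      | exact he.mem _
      | exact hP ▸ R.mul_mem (R.mul_mem (R.mul_mem (he.mem 0) (he.mem 1)) (he.mem 2)) (he.mem 3)
  have hfsq : ∀ i, (f i : Mι) * (f i : Mι) = 1 := by
    intro i
    rw [← Units.val_mul, ← Units.val_one]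
    congr 1
    fin_cases i <;> rw [hf] <;> first
      | exact he.sq _
      | exact hP2
  have hfa : ∀ i j, i ≠ j → (f i : Mι) * (f j : Mι) = -((f j : Mι) * (f i : Mι)) := by
    intro i j hij
    refine mat_rel ?_
    fin_cases i <;> fin_cases j <;> rw [hf] <;> first
      | exact absurd rfl hij
      | exact a _ _ (by decide)
      | exact hPa _
      | exact anti_symm (hPa _)
  have h2 := hR.two
  -- the rotations
  have hU : ∀ j k : Fin 5, j ≠ k → ∃ u : G, (u : Mι) = 1 + (f j : Mι) * (f k : Mι) ∧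
      u * f j * u⁻¹ = -f k ∧ u * f k * u⁻¹ = f j ∧ ∀ l, l ≠ j → l ≠ k → u * f l * u⁻¹ = f l := by
    intro j k hjk
    obtain ⟨r1, r2, -, -, -⟩ := rot_props (hfsq j) (hfsq k) (hfa k j hjk.symm)
    have e2 : (2 : Mι) = (2 : F) • 1 := by
      rw [← one_add_one_eq_two, ← one_add_one_eq_two, add_smul, one_smul]
    obtain ⟨u, hu⟩ : ∃ u : G, (u : Mι) = 1 + (f j : Mι) * (f k : Mι) :=
      ⟨⟨1 + (f j : Mι) * (f k : Mι), (2 : F)⁻¹ • (1 - (f j : Mι) * (f k : Mι)),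
        by rw [mul_smul_comm, r1, e2, smul_smul, inv_mul_cancel₀ h2, one_smul],
        by rw [smul_mul_assoc, r2, e2, smul_smul, inv_mul_cancel₀ h2, one_smul]⟩, rfl⟩
    refine ⟨u, hu, ?_, ?_, fun l hlj hlk => ?_⟩ <;>
      (rw [mul_inv_eq_iff_eq_mul]; apply Units.ext; simp only [Units.val_mul, Units.val_neg, hu, add_mul, mul_add,
        one_mul, mul_one, neg_mul, mul_neg, neg_add_rev, mul_assoc])
    · rw [hfa k j hjk.symm, mul_neg, ← mul_assoc, hfsq, one_mul, ← mul_assoc (f k : Mι), hfa k j hjk.symm, neg_mul,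
        mul_assoc, hfsq, mul_one, neg_neg]
    · rw [hfsq k, mul_one, ← mul_assoc, hfsq j, one_mul]
      abel
    · rw [hfa k l hlk.symm, mul_neg, ← mul_assoc, hfa j l hlj.symm, neg_mul, neg_neg, mul_assoc]
  obtain ⟨u01, hu01, a0, a1, ax⟩ := hU 0 1 (by decide)
  obtain ⟨u12, hu12, b1, b2, bx⟩ := hU 1 2 (by decide)
  obtain ⟨u23, hu23, c2, c3, cx⟩ := hU 2 3 (by decide)
  obtain ⟨u34, hu34, d3, d4, dx⟩ := hU 3 4 (by decide)
  obtain ⟨s, hs⟩ : ∃ s : G, (s : Mι) = (4 : F)⁻¹ • (1 : Mι) := by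
    have h4 : (4 : F) ≠ 0 := by
      rw [show (4 : F) = 2 * 2 by norm_num]; exact mul_ne_zero h2 h2
    exact ⟨⟨(4 : F)⁻¹ • 1, (4 : F) • 1, by rw [smul_mul_smul_comm, inv_mul_cancel₀ h4, one_mul, one_smul],
      by rw [smul_mul_smul_comm, mul_inv_cancel₀ h4, one_mul, one_smul]⟩, rfl⟩
  have hsc : ∀ w : G, s * w * s⁻¹ = w := fun w => by
    rw [mul_inv_eq_iff_eq_mul]; exact Units.ext (by simp [hs])
  obtain ⟨x, hx⟩ : ∃ x, x = s * (u01 * (u12 * (u23 * u34))) := ⟨_, rfl⟩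
  have hcomp : ∀ w, x * w * x⁻¹ = s * (u01 * (u12 * (u23 * (u34 * w * u34⁻¹) * u23⁻¹) * u12⁻¹) * u01⁻¹) * s⁻¹ := by
    intro w; rw [hx]; simp [_root_.mul_inv_rev, mul_assoc]
  have neg_conj : ∀ u w : G, u * (-w) * u⁻¹ = -(u * w * u⁻¹) := fun u w => by rw [mul_neg, neg_mul]
  have m0 : x * f 0 * x⁻¹ = -f 1 := by
    rw [hcomp, dx 0 (by decide) (by decide), cx 0 (by decide) (by decide), bx 0 (by decide) (by decide), a0, hsc]
  have m1 : x * f 1 * x⁻¹ = -f 2 := by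
    rw [hcomp, dx 1 (by decide) (by decide), cx 1 (by decide) (by decide), b1, neg_conj,
      ax 2 (by decide) (by decide), hsc]
  have m2 : x * f 2 * x⁻¹ = -f 3 := by
    rw [hcomp, dx 2 (by decide) (by decide), c2, neg_conj, bx 3 (by decide) (by decide), neg_conj,
      ax 3 (by decide) (by decide), hsc]
  have m3 : x * f 3 * x⁻¹ = -f 4 := by
    rw [hcomp, d3, neg_conj, cx 4 (by decide) (by decide), neg_conj, bx 4 (by decide) (by decide), neg_conj,
      ax 4 (by decide) (by decide), hsc]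
  have m4 : x * f 4 * x⁻¹ = f 0 := by
    rw [hcomp, d4, c3, b2, a1, hsc]
  refine ⟨x, ?_, ?_, ?_, ?_⟩
  · refine hR.mem_normalizer_of_frame he fun i => ?_
    have hn : ∀ j, -f j ∈ R := fun j => by rw [← neg_one_mul]; exact R.mul_mem hR.negMem (hfR j)
    fin_cases i
    · rw [show (⟨0, _⟩ : Fin 4) = 0 from rfl, ← f0, m0]; exact hn 1
    · rw [show (⟨1, _⟩ : Fin 4) = 1 from rfl, ← f1, m1]; exact hn 2
    · rw [show (⟨2, _⟩ : Fin 4) = 2 from rfl, ← f2, m2]; exact hn 3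
    · rw [show (⟨3, _⟩ : Fin 4) = 3 from rfl, ← f3, m3]; exact hn 4
  · obtain ⟨c, hc⟩ := hR.commute_of_frame he (t := x ^ 5) fun i => by
      rw [← mul_inv_eq_iff_eq_mul]
      have step : ∀ w, x ^ 5 * w * (x ^ 5)⁻¹ = x * (x * (x * (x * (x * w * x⁻¹) * x⁻¹) * x⁻¹) * x⁻¹) * x⁻¹ := by
        intro w; simp [pow_succ', _root_.mul_inv_rev, mul_assoc]
      rw [step]
      fin_cases i
      · rw [show (⟨0, _⟩ : Fin 4) = 0 from rfl, ← f0, m0, neg_conj, m1, neg_neg, m2, neg_conj, m3, neg_neg, m4]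
      · rw [show (⟨1, _⟩ : Fin 4) = 1 from rfl, ← f1, m1, neg_conj, m2, neg_neg, m3, neg_conj, m4, neg_conj, m0, neg_neg]
      · rw [show (⟨2, _⟩ : Fin 4) = 2 from rfl, ← f2, m2, neg_conj, m3, neg_neg, m4, m0, neg_conj, m1, neg_neg]
      · rw [show (⟨3, _⟩ : Fin 4) = 3 from rfl, ← f3, m3, neg_conj, m4, neg_conj, m0, neg_neg, m1, neg_conj, m2, neg_neg]
    exact ⟨c, by rw [← Units.val_pow_eq_pow_val, hc]⟩
  · intro c hc
    have hx0 : x * f 0 * x⁻¹ = f 0 := by rw [mul_inv_eq_iff_eq_mul]; exact Units.ext (by simp [hc])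
    rw [m0] at hx0
    have h := a 0 1 (by decide)
    rw [← f0, ← f1, ← hx0, neg_mul, mul_neg, neg_neg] at h
    have h1 : (-1 : G) * (f 1 * f 1) = 1 * (f 1 * f 1) := by rw [neg_one_mul, one_mul]; exact h
    exact hR.ne (mul_right_cancel h1)
  · intro σ st hst hste
    have hstf : ∀ i, st (f i : Mι) = f i := by
      intro i
      fin_cases i <;> rw [hf] <;> try exact hste _
      show st (P : Mι) = (P : Mι)
      rw [hP]
      simp only [Units.val_mul, hst.mul, hste]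
      rw [← Units.val_mul, ← Units.val_mul, ← Units.val_mul, ← Units.val_mul, ← Units.val_mul, ← Units.val_mul]
      congr 1
      rw [← mul_assoc, ← mul_assoc, a 3 2 (by decide)]
      rw [neg_mul, neg_mul, mul_assoc (e 2 * e 3) (e 1), a 1 0 (by decide), mul_neg, neg_neg, mul_assoc (e 0 * e 1)]
      exact (comm_mul (e := e 2 * e 3)
        (anti_mul_anti (a 2 0 (by decide)) (a 3 0 (by decide))).symm
        (anti_mul_anti (a 2 1 (by decide)) (a 3 1 (by decide))).symm).symm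
    have key : ∀ (j k : Fin 5) (u : G), j ≠ k → (u : Mι) = 1 + (f j : Mι) * (f k : Mι) →
        ∀ X, st (u : Mι) * ((u : Mι) * X) = (2 : F) • X := by
      intro j k u hjk hu X
      obtain ⟨-, r2, -, -, -⟩ := rot_props (hfsq j) (hfsq k) (hfa k j hjk.symm)
      rw [← mul_assoc, hu, hst.add, hst.one, hst.mul, hstf, hstf, hfa k j hjk.symm, ← sub_eq_add_neg, r2,
        ← one_add_one_eq_two (R := F), add_smul, one_smul, two_mul]
    rw [hx]
    simp only [Units.val_mul, hs, smul_mul_assoc, one_mul, hst.smul, hst.mul, mul_smul_comm, smul_smul,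
      mul_assoc, map_inv₀, map_ofNat]
    rw [key 0 1 _ (by decide) hu01, mul_smul_comm, mul_smul_comm, mul_smul_comm,
      key 1 2 _ (by decide) hu12, mul_smul_comm, mul_smul_comm,
      key 2 3 _ (by decide) hu23, mul_smul_comm]
    have k34 := key 3 4 _ (by decide) hu34 1
    rw [mul_one] at k34
    rw [k34]
    simp only [smul_smul]
    rw [show (4 : F)⁻¹ * (4 : F)⁻¹ * (2 * (2 * (2 * 2))) = ((4 : F) * 4)⁻¹ * (4 * 4) by
      rw [mul_inv]; norm_num, inv_mul_cancel₀ (by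
      rw [show (4 : F) = 2 * 2 by norm_num]; exact mul_ne_zero (mul_ne_zero h2 h2) (mul_ne_zero h2 h2)), one_smul]

variable {iu : GL ι F} (hiR : iu ∈ R) (hi : iu * iu = -1) {ci : F} (hci : (iu : Matrix ι ι F) = ci • (1 : Matrix ι ι F))
include hiR hi hci

/-- The data of two commuting pairs of anticommuting elements. -/
theorem Pauli.pairs :
    ∃ X Y Z : G, X ∈ R ∧ Y ∈ R ∧ Z ∈ R ∧ Z = iu * (e 0 * e 1) ∧ X = Z * e 2 ∧ Y = Z * e 3 ∧ Z * Z = 1 ∧ X * X = 1 ∧ Y * Y = 1 ∧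
      Y * X = -(X * Y) ∧ X * e 0 = e 0 * X ∧ X * e 1 = e 1 * X ∧ Y * e 0 = e 0 * Y ∧ Y * e 1 = e 1 * Y := by
  have a : ∀ i j, i ≠ j → e i * e j = -(e j * e i) := he.anti
  have hic : ∀ w : G, iu * w = w * iu := fun w => Units.ext (by simp [hci])
  obtain ⟨Z, hZ⟩ : ∃ Z, Z = iu * (e 0 * e 1) := ⟨_, rfl⟩
  have hZR : Z ∈ R := hZ ▸ R.mul_mem hiR (R.mul_mem (he.mem 0) (he.mem 1))
  have hab : (e 0 * e 1) * (e 0 * e 1) = -1 := by
    rw [mul_assoc, ← mul_assoc (e 1), a 1 0 (by decide), neg_mul, mul_assoc, he.sq, mul_one, mul_neg, he.sq]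
  have hZ2 : Z * Z = 1 := by
    rw [hZ, mul_assoc, ← mul_assoc (e 0 * e 1), ← hic, mul_assoc iu (e 0 * e 1), hab, mul_neg_one, mul_neg, hi, neg_neg]
  have z0 : Z * e 0 = -(e 0 * Z) := by
    rw [hZ]; exact comm_mul_anti (hic _) (comm_mul_anti rfl (a 1 0 (by decide)))
  have z1 : Z * e 1 = -(e 1 * Z) := by
    rw [hZ]; exact comm_mul_anti (hic _) (anti_mul_comm (a 0 1 (by decide)) rfl)
  have zk : ∀ k, k ≠ 0 → k ≠ 1 → Z * e k = e k * Z := fun k h0 h1 => by
    rw [hZ]; exact comm_mul (hic _) (anti_mul_anti (a 0 k h0.symm) (a 1 k h1.symm))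
  have sq' : ∀ k, k ≠ 0 → k ≠ 1 → (Z * e k) * (Z * e k) = 1 := fun k h0 h1 => by
    rw [mul_assoc, ← mul_assoc (e k), ← zk k h0 h1, mul_assoc Z (e k), he.sq, mul_one, hZ2]
  refine ⟨Z * e 2, Z * e 3, Z, R.mul_mem hZR (he.mem 2), R.mul_mem hZR (he.mem 3), hZR, hZ, rfl, rfl, hZ2,
    sq' 2 (by decide) (by decide), sq' 3 (by decide) (by decide), ?_,
    anti_mul_anti z0 (a 2 0 (by decide)), anti_mul_anti z1 (a 2 1 (by decide)),
    anti_mul_anti z0 (a 3 0 (by decide)), anti_mul_anti z1 (a 3 1 (by decide))⟩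
  exact comm_mul_anti (comm_mul (e := Z) rfl (zk 3 (by decide) (by decide)).symm |> fun h =>
    (comm_mul (e := Z) rfl (zk 2 (by decide) (by decide)).symm).symm)
    (anti_symm (comm_mul_anti (zk 3 (by decide) (by decide)) (a 2 3 (by decide))))

/-- An involution of trace two. -/
theorem Pauli.cz_target :
    ∃ t ∈ subgroupNormalizer R, (t : Mι) ^ 2 = 1 ∧ (t : Mι).trace = 2 ∧ (∀ c : F, (t : Mι) ≠ c • (1 : Mι)) ∧
      ∀ (σ : F →+* F) (st : Mι → Mι), Anti σ st → (∀ i, st (e i : Mι) = e i) → σ ci = -ci →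
        st (t : Mι) * (t : Mι) = 1 := by
  haveI := hR.nonempty
  have a : ∀ i j, i ≠ j → e i * e j = -(e j * e i) := he.anti
  have h2 := hR.two
  obtain ⟨X, Y, Z, hXR, hYR, hZR, hZ, hX, hY, hZ2, hX2, hY2, hYX, x0, x1, y0, y1⟩ := hR.pairs he hiR hi hci
  have toM : ∀ {u v : G}, u = v → (u : Mι) = (v : Mι) := fun h => by rw [h]
  have sqM : ∀ {u : G}, u * u = 1 → (u : Mι) * (u : Mι) = 1 := fun h => by rw [← Units.val_mul, h, Units.val_one]
  obtain ⟨p1, p2, p3, p4⟩ := cz_props (F := F) h2 (sqM (he.sq 0)) (sqM hX2) (mat_rel' x0)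
  obtain ⟨-, -, -, q4⟩ := cz_props (F := F) h2 (sqM hX2) (sqM (he.sq 0)) (mat_rel' x0.symm)
  obtain ⟨t, ht⟩ : ∃ t : G, (t : Mι) = cz F (e 0 : Mι) (X : Mι) := ⟨⟨_, _, p1, p1⟩, rfl⟩
  have htinv : ((t⁻¹ : G) : Mι) = cz F (e 0 : Mι) (X : Mι) := by
    rw [← mul_one ((t⁻¹ : G) : Mι), ← p1, ← mul_assoc, ← ht, Units.inv_mul, one_mul]
  have hconj : ∀ u : G, ((t * u * t⁻¹ : G) : Mι) = cz F (e 0 : Mι) (X : Mι) * (u : Mι) * cz F (e 0 : Mι) (X : Mι) := by
    intro u; rw [Units.val_mul, Units.val_mul, htinv, ht]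
  have c0 : t * e 0 * t⁻¹ = e 0 := Units.ext (by rw [hconj, p2, mul_assoc, p1, mul_one])
  have cX : t * X * t⁻¹ = X := Units.ext (by rw [hconj, p3, mul_assoc, p1, mul_one])
  have c1 : t * e 1 * t⁻¹ = X * e 1 := Units.ext (by
    rw [hconj, p4 _ (mat_rel (a 1 0 (by decide))) (mat_rel' x1.symm), Units.val_mul])
  have cY : t * Y * t⁻¹ = e 0 * Y := Units.ext (by
    rw [hconj, show cz F (e 0 : Mι) (X : Mι) = cz F (X : Mι) (e 0 : Mι) by
      simp only [cz]; rw [mat_rel' x0]; congr 1; abel, q4 _ (mat_rel hYX) (mat_rel' y0), Units.val_mul])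
  have ci' : t * iu * t⁻¹ = iu := by rw [mul_inv_eq_iff_eq_mul]; exact Units.ext (by simp [hci])
  have cZ : t * Z * t⁻¹ = iu * (e 0 * (X * e 1)) := by
    rw [hZ, show t * (iu * (e 0 * e 1)) * t⁻¹ = (t * iu * t⁻¹) * ((t * e 0 * t⁻¹) * (t * e 1 * t⁻¹)) by group,
      ci', c0, c1]
  have hts : ∀ c : F, (t : Mι) ≠ c • (1 : Mι) := fun c hc => by
    have h : t * e 1 * t⁻¹ = e 1 := by rw [mul_inv_eq_iff_eq_mul]; exact Units.ext (by simp [hc])
    rw [c1, mul_eq_right] at h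
    rw [h] at hYX
    simp only [mul_one, one_mul] at hYX
    exact hR.ne (mul_right_cancel (b := Y) (by rw [neg_one_mul, one_mul]; exact hYX.symm))
  refine ⟨t, hR.mem_normalizer_of_frame he fun i => ?_, ?_, ?_, hts, ?_⟩
  · fin_cases i
    · rw [show (⟨0, _⟩ : Fin 4) = 0 from rfl, c0]; exact he.mem 0
    · rw [show (⟨1, _⟩ : Fin 4) = 1 from rfl, c1]; exact R.mul_mem hXR (he.mem 1)
    · rw [show (⟨2, _⟩ : Fin 4) = 2 from rfl, show e 2 = Z * X by rw [hX, ← mul_assoc, hZ2, one_mul],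
        show t * (Z * X) * t⁻¹ = (t * Z * t⁻¹) * (t * X * t⁻¹) by group, cX, cZ]
      exact R.mul_mem (R.mul_mem hiR (R.mul_mem (he.mem 0) (R.mul_mem hXR (he.mem 1)))) hXR
    · rw [show (⟨3, _⟩ : Fin 4) = 3 from rfl, show e 3 = Z * Y by rw [hY, ← mul_assoc, hZ2, one_mul],
        show t * (Z * Y) * t⁻¹ = (t * Z * t⁻¹) * (t * Y * t⁻¹) by group, cY, cZ]
      exact R.mul_mem (R.mul_mem hiR (R.mul_mem (he.mem 0) (R.mul_mem hXR (he.mem 1)))) (R.mul_mem (he.mem 0) hYR)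
  · rw [pow_two, ht, p1]
  · have t0 : ((e 0 : G) : Mι).trace = 0 := trace_of_anti h2 (w := e 1) (mat_rel (a 1 0 (by decide)))
    have tX : ((X : G) : Mι).trace = 0 := trace_of_anti h2 (w := Y) (mat_rel hYX)
    have tp : ((e 0 : Mι) * (X : Mι)).trace = 0 := by
      rw [← Units.val_mul]
      exact trace_of_anti h2 (w := e 1) (mat_rel (anti_symm (anti_mul_comm (a 0 1 (by decide)) x1)))
    rw [ht, cz, Matrix.trace_smul, Matrix.trace_sub, Matrix.trace_add, Matrix.trace_add, Matrix.trace_one,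
      t0, tX, tp, hR.dim, smul_eq_mul]
    field_simp
    norm_num
  · intro σ st hst hste hσ
    have hiu : st (iu : Mι) = -(iu : Mι) := by rw [hci, hst.smul, hst.one, hσ, neg_smul]
    have hstZ : st (Z : Mι) = (Z : Mι) := by
      rw [hZ, Units.val_mul, Units.val_mul, hst.mul, hst.mul, hste, hste, hiu, ← Units.val_mul, ← Units.val_neg,
        ← Units.val_mul, ← Units.val_mul, ← Units.val_mul]
      congr 1
      rw [a 1 0 (by decide), neg_mul_neg]
      exact (Units.ext (by simp [hci]) : iu * (e 0 * e 1) = (e 0 * e 1) * iu).symm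
    have hstX : st (X : Mι) = (X : Mι) := by
      rw [hX, Units.val_mul, hst.mul, hste, hstZ, ← Units.val_mul, ← Units.val_mul]
      congr 1
      rw [hZ]
      exact (comm_mul (Units.ext (by simp [hci]) : iu * e 2 = e 2 * iu)
        (anti_mul_anti (a 0 2 (by decide)) (a 1 2 (by decide)))).symm
    have hstt : st (t : Mι) = (t : Mι) := by
      rw [ht, cz, hst.smul, map_inv₀, map_ofNat, hst.sub, hst.add, hst.add, hst.one, hst.mul, hste, hstX,
        mat_rel' x0]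
    rw [hstt, ht, p1]

/-- Two elements of order three, of traces minus two and one. -/
theorem Pauli.three_targets :
    ∃ t ∈ subgroupNormalizer R, ∃ t' ∈ subgroupNormalizer R,
      ((t : Mι) ^ 3 = 1 ∧ (t : Mι).trace = -2 ∧ ∀ c : F, (t : Mι) ≠ c • (1 : Mι)) ∧
      ((t' : Mι) ^ 3 = 1 ∧ (t' : Mι).trace = 1 ∧ ∀ c : F, (t' : Mι) ≠ c • (1 : Mι)) ∧
      ∀ (σ : F →+* F) (st : Mι → Mι), Anti σ st → (∀ i, st (e i : Mι) = e i) → σ ci = -ci →
        st (t : Mι) * (t : Mι) = 1 ∧ st (t' : Mι) * (t' : Mι) = 1 := by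
  haveI := hR.nonempty
  have a : ∀ i j, i ≠ j → e i * e j = -(e j * e i) := he.anti
  have h2 := hR.two
  have hic : ∀ w : G, iu * w = w * iu := fun w => Units.ext (by simp [hci])
  obtain ⟨X, Y, Z, hXR, hYR, hZR, hZ, hX, hY, hZ2, hX2, hY2, hYX, x0, x1, y0, y1⟩ := hR.pairs he hiR hi hci
  obtain ⟨A, hA⟩ : ∃ A, A = iu * e 0 := ⟨_, rfl⟩
  obtain ⟨B, hB⟩ : ∃ B, B = iu * e 1 := ⟨_, rfl⟩
  obtain ⟨C, hC⟩ : ∃ C, C = iu * X := ⟨_, rfl⟩
  obtain ⟨D, hD⟩ : ∃ D, D = iu * Y := ⟨_, rfl⟩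
  have hAR : A ∈ R := hA ▸ R.mul_mem hiR (he.mem 0)
  have hBR : B ∈ R := hB ▸ R.mul_mem hiR (he.mem 1)
  have hCR : C ∈ R := hC ▸ R.mul_mem hiR hXR
  have hDR : D ∈ R := hD ▸ R.mul_mem hiR hYR
  have hneg : ∀ w ∈ R, -w ∈ R := fun w hw => by rw [← neg_one_mul]; exact R.mul_mem hR.negMem hw
  have isq : ∀ w : G, w * w = 1 → ((iu * w : G) : Mι) * ((iu * w : G) : Mι) = -1 := fun w hw => by
    rw [← Units.val_mul, mul_assoc, ← mul_assoc w, ← hic w, mul_assoc iu w, hw, mul_one, hi, Units.val_neg, Units.val_one]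
  have iswap : ∀ u v : G, u * v = v * u → (iu * u) * (iu * v) = (iu * v) * (iu * u) := fun u v h =>
    comm_mul (comm_mul (e := iu) rfl (hic u).symm |> fun _ => (hic _))
      ((comm_mul (e := u) (hic u) h.symm).symm)
  have ianti : ∀ u v : G, u * v = -(v * u) → (iu * u) * (iu * v) = -((iu * v) * (iu * u)) := fun u v h =>
    comm_mul_anti (hic _) (anti_symm (comm_mul_anti (hic u) (anti_symm h)))
  have hA2 := isq _ (he.sq 0)
  have hB2 := isq _ (he.sq 1)
  have hC2 := isq _ hX2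
  have hD2 := isq _ hY2
  rw [← hA] at hA2; rw [← hB] at hB2; rw [← hC] at hC2; rw [← hD] at hD2
  have hBA : B * A = -(A * B) := by rw [hA, hB]; exact ianti _ _ (a 1 0 (by decide))
  have hDC : D * C = -(C * D) := by rw [hC, hD]; exact ianti _ _ hYX
  have hCA : C * A = A * C := by rw [hC, hA]; exact iswap _ _ x0
  have hCB : C * B = B * C := by rw [hC, hB]; exact iswap _ _ x1
  have hDA : D * A = A * D := by rw [hD, hA]; exact iswap _ _ y0
  have hDB : D * B = B * D := by rw [hD, hB]; exact iswap _ _ y1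
  have build : ∀ a₀ b₀ : G, a₀ ∈ R → b₀ ∈ R → (a₀ : Mι) * a₀ = -1 → (b₀ : Mι) * b₀ = -1 → b₀ * a₀ = -(a₀ * b₀) →
      ∃ h : G, (h : Mι) = hur F (a₀ : Mι) (b₀ : Mι) ∧ (h : Mι) ^ 3 = 1 ∧
        h * a₀ * h⁻¹ = a₀ * b₀ ∧ h * b₀ * h⁻¹ = a₀ ∧ ((h⁻¹ : G) : Mι) = hurInv F (a₀ : Mι) (b₀ : Mι) ∧
        ∀ c : G, c * a₀ = a₀ * c → c * b₀ = b₀ * c → h * c * h⁻¹ = c := by
    intro a₀ b₀ _ _ ha hb hba
    have hba' := mat_rel hba
    have m1 := hur_mul_hurInv ha hb hba' h2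
    have m2 := mul_eq_one_comm.1 m1
    obtain ⟨h, hh, hh'⟩ : ∃ h : G, (h : Mι) = hur F (a₀ : Mι) (b₀ : Mι) ∧
        ((h⁻¹ : G) : Mι) = hurInv F (a₀ : Mι) (b₀ : Mι) := ⟨⟨_, _, m1, m2⟩, rfl, rfl⟩
    obtain ⟨k1, k2⟩ := hur_conj ha hb hba' h2
    refine ⟨h, hh, by rw [hh, hur_cube ha hb hba' h2], Units.ext ?_, Units.ext ?_, hh', fun c hca hcb => ?_⟩
    · rw [Units.val_mul, Units.val_mul, hh, hh', k1, Units.val_mul]
    · rw [Units.val_mul, Units.val_mul, hh, hh', k2]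
    · rw [mul_inv_eq_iff_eq_mul]
      apply Units.ext
      rw [Units.val_mul, Units.val_mul, hh]
      exact (hur_commute (mat_rel' hca) (mat_rel' hcb)).symm
  obtain ⟨h, hh, hh3, hhA, hhB, hhi, hhc⟩ := build A B hAR hBR hA2 hB2 hBA
  obtain ⟨k, hk, hk3, hkC, hkD, hki, hkc⟩ := build C D hCR hDR hC2 hD2 hDC
  have hinv : ∀ (w : G), w = iu * iu * (-w) := fun w => by rw [hi, neg_mul_neg, one_mul]
  have e0 : e 0 = -(iu * A) := by rw [hA, ← mul_assoc, hi, neg_one_mul, neg_neg]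
  have e1 : e 1 = -(iu * B) := by rw [hB, ← mul_assoc, hi, neg_one_mul, neg_neg]
  have eX : X = -(iu * C) := by rw [hC, ← mul_assoc, hi, neg_one_mul, neg_neg]
  have eY : Y = -(iu * D) := by rw [hD, ← mul_assoc, hi, neg_one_mul, neg_neg]
  have e2 : e 2 = Z * X := by rw [hX, ← mul_assoc, hZ2, one_mul]
  have e3 : e 3 = Z * Y := by rw [hY, ← mul_assoc, hZ2, one_mul]
  have norm : ∀ g : G, g * A * g⁻¹ ∈ R → g * B * g⁻¹ ∈ R → g * C * g⁻¹ ∈ R → g * D * g⁻¹ ∈ R →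
      g ∈ subgroupNormalizer R := by
    intro g gA gB gC gD
    have hg : g * iu * g⁻¹ = iu := by rw [mul_inv_eq_iff_eq_mul]; exact (hic g).symm
    have hm : ∀ w, g * w * g⁻¹ ∈ R → g * (-(iu * w)) * g⁻¹ ∈ R := fun w hw => by
      rw [mul_neg, neg_mul, show g * (iu * w) * g⁻¹ = (g * iu * g⁻¹) * (g * w * g⁻¹) by group, hg]
      exact hneg _ (R.mul_mem hiR hw)
    have g0 : g * e 0 * g⁻¹ ∈ R := e0 ▸ hm A gA
    have g1 : g * e 1 * g⁻¹ ∈ R := e1 ▸ hm B gB
    have gX : g * X * g⁻¹ ∈ R := eX ▸ hm C gC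
    have gY : g * Y * g⁻¹ ∈ R := eY ▸ hm D gD
    have gZ : g * Z * g⁻¹ ∈ R := by
      rw [hZ, show g * (iu * (e 0 * e 1)) * g⁻¹ = (g * iu * g⁻¹) * ((g * e 0 * g⁻¹) * (g * e 1 * g⁻¹)) by group, hg]
      exact R.mul_mem hiR (R.mul_mem g0 g1)
    refine hR.mem_normalizer_of_frame he fun i => ?_
    fin_cases i
    · exact g0
    · exact g1
    · rw [show (⟨2, _⟩ : Fin 4) = 2 from rfl, e2, show g * (Z * X) * g⁻¹ = (g * Z * g⁻¹) * (g * X * g⁻¹) by group]
      exact R.mul_mem gZ gX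
    · rw [show (⟨3, _⟩ : Fin 4) = 3 from rfl, e3, show g * (Z * Y) * g⁻¹ = (g * Z * g⁻¹) * (g * Y * g⁻¹) by group]
      exact R.mul_mem gZ gY
  have hN : h ∈ subgroupNormalizer R :=
    norm h (hhA ▸ R.mul_mem hAR hBR) (hhB ▸ hAR) (by rw [hhc C hCA hCB]; exact hCR)
      (by rw [hhc D hDA hDB]; exact hDR)
  have kN : k ∈ subgroupNormalizer R :=
    norm k (by rw [hkc A hCA.symm hDA.symm]; exact hAR) (by rw [hkc B hCB.symm hDB.symm]; exact hBR)
      (hkC ▸ R.mul_mem hCR hDR) (hkD ▸ hCR)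
  have hkh : k * h * k⁻¹ = h := by
    rw [mul_inv_eq_iff_eq_mul]
    apply Units.ext
    rw [Units.val_mul, Units.val_mul, hh]
    refine hur_commute ?_ ?_
    · exact (mat_rel' (mul_inv_eq_iff_eq_mul.1 (hkc A hCA.symm hDA.symm)))
    · exact (mat_rel' (mul_inv_eq_iff_eq_mul.1 (hkc B hCB.symm hDB.symm)))
  have hkh' : h * k = k * h := (mul_inv_eq_iff_eq_mul.1 hkh).symm
  have tz : ∀ {w y : G}, w * y = -(y * w) → (y : Mι).trace = 0 := fun h => trace_of_anti h2 (mat_rel h)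
  have hAB_B : B * (A * B) = -((A * B) * B) := by rw [← mul_assoc, hBA, neg_mul]
  have trh : (h : Mι).trace = -2 := by
    rw [hh, hur, Matrix.trace_smul, Matrix.trace_add, Matrix.trace_add, Matrix.trace_add, Matrix.trace_neg,
      Matrix.trace_one, tz hBA, tz (anti_symm hBA), ← Units.val_mul, tz hAB_B, hR.dim, smul_eq_mul]
    field_simp
    norm_num
  have hCD_D : D * (C * D) = -((C * D) * D) := by rw [← mul_assoc, hDC, neg_mul]
  have trk : ((h * k : G) : Mι).trace = 1 := by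
    have hb : ∀ y : G, B * y = y * B → A * y = y * A →
        (((A * y : G) : Mι).trace = 0 ∧ ((B * y : G) : Mι).trace = 0 ∧ ((A * B * y : G) : Mι).trace = 0) := fun y hy hy' =>
      ⟨tz (anti_symm (anti_mul_comm (anti_symm hBA) hy.symm)), tz (anti_symm (anti_mul_comm hBA hy'.symm)),
        tz (anti_symm (anti_mul_comm (anti_symm hAB_B) hy.symm))⟩
    obtain ⟨c1, c2, c3⟩ := hb C hCB.symm hCA.symm
    obtain ⟨d1, d2, d3⟩ := hb D hDB.symm hDA.symm
    obtain ⟨f1, f2, f3⟩ := hb (C * D) (comm_mul hCB hDB).symm (comm_mul hCA hDA).symm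
    simp only [Units.val_mul] at c1 c2 c3 d1 d2 d3 f1 f2 f3
    have sA := tz hBA; have sB := tz (anti_symm hBA); have sAB := tz hAB_B
    have sC := tz hDC; have sD := tz (anti_symm hDC); have sCD := tz hCD_D
    simp only [Units.val_mul] at sAB sCD
    rw [Units.val_mul, hh, hk]
    simp only [hur, smul_mul_smul_comm, Matrix.trace_smul, add_mul, mul_add, neg_mul, mul_neg, one_mul, mul_one,
      neg_neg, Matrix.trace_add, Matrix.trace_neg, Matrix.trace_one, hR.dim, smul_eq_mul,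
      c1, c2, c3, d1, d2, d3, f1, f2, f3, sA, sB, sAB, sC, sD, sCD]
    field_simp
    norm_num
  refine ⟨h, hN, h * k, (subgroupNormalizer R).mul_mem hN kN, ⟨hh3, trh, fun c hc => ?_⟩,
    ⟨?_, trk, fun c hc => ?_⟩, ?_⟩
  · have e : h * A * h⁻¹ = A := by rw [mul_inv_eq_iff_eq_mul]; exact Units.ext (by simp [hc])
    rw [hhA, mul_eq_left] at e
    rw [e] at hBA
    simp only [one_mul, mul_one] at hBA
    exact hR.ne (mul_right_cancel (b := A) (by rw [neg_one_mul, one_mul]; exact hBA.symm))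
  · have : (h * k) ^ 3 = 1 := by
      rw [(show Commute h k from hkh').mul_pow, show h ^ 3 = 1 from Units.ext (by rw [Units.val_pow_eq_pow_val, hh3, Units.val_one]),
        show k ^ 3 = 1 from Units.ext (by rw [Units.val_pow_eq_pow_val, hk3, Units.val_one]), one_mul]
    rw [← Units.val_pow_eq_pow_val, this, Units.val_one]
  · have e : (h * k) * A * (h * k)⁻¹ = A := by rw [mul_inv_eq_iff_eq_mul]; exact Units.ext (by simp [hc])
    rw [show h * k * A * (h * k)⁻¹ = h * (k * A * k⁻¹) * h⁻¹ by group, hkc A hCA.symm hDA.symm, hhA, mul_eq_left] at e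
    rw [e] at hBA
    simp only [one_mul, mul_one] at hBA
    exact hR.ne (mul_right_cancel (b := A) (by rw [neg_one_mul, one_mul]; exact hBA.symm))
  · intro σ st hst hste hσ
    have hiu : st (iu : Mι) = -(iu : Mι) := by rw [hci, hst.smul, hst.one, hσ, neg_smul]
    have sti : ∀ w : G, st (w : Mι) = (w : Mι) → st ((iu * w : G) : Mι) = -((iu * w : G) : Mι) := fun w hw => by
      rw [Units.val_mul, hst.mul, hw, hiu, mul_neg, ← Units.val_mul, ← Units.val_mul, hic]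
    have hstZ : st (Z : Mι) = (Z : Mι) := by
      rw [hZ, Units.val_mul, Units.val_mul, hst.mul, hst.mul, hste, hste, hiu, ← Units.val_mul, ← Units.val_neg,
        ← Units.val_mul, ← Units.val_mul, ← Units.val_mul]
      congr 1
      rw [a 1 0 (by decide), neg_mul_neg]
      exact (hic _).symm
    have hstX : ∀ j, j ≠ 0 → j ≠ 1 → st ((Z * e j : G) : Mι) = ((Z * e j : G) : Mι) := fun j h0 h1 => by
      rw [Units.val_mul, hst.mul, hste, hstZ, ← Units.val_mul, ← Units.val_mul]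
      congr 1
      rw [hZ]
      exact (comm_mul (hic _) (anti_mul_anti (a 0 j h0.symm) (a 1 j h1.symm))).symm
    have stA : st (A : Mι) = -(A : Mι) := hA ▸ sti _ (hste 0)
    have stB : st (B : Mι) = -(B : Mι) := hB ▸ sti _ (hste 1)
    have stC : st (C : Mι) = -(C : Mι) := hC ▸ sti _ (hX ▸ hstX 2 (by decide) (by decide))
    have stD : st (D : Mι) = -(D : Mι) := hD ▸ sti _ (hY ▸ hstX 3 (by decide) (by decide))
    have key : ∀ (g : G) (a₀ b₀ : G), (g : Mι) = hur F (a₀ : Mι) (b₀ : Mι) →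
        ((g⁻¹ : G) : Mι) = hurInv F (a₀ : Mι) (b₀ : Mι) → b₀ * a₀ = -(a₀ * b₀) →
        st (a₀ : Mι) = -(a₀ : Mι) → st (b₀ : Mι) = -(b₀ : Mι) → st (g : Mι) = ((g⁻¹ : G) : Mι) := by
      intro g a₀ b₀ hg hg' hba sa sb
      rw [hg, hg', hur, hurInv, hst.smul, map_inv₀, map_ofNat, hst.add, hst.add, hst.add, hst.neg, hst.one,
        hst.mul, sa, sb, neg_mul_neg, mat_rel hba]
      congr 1
      abel
    have sh := key h A B hh hhi hBA stA stB
    have sk := key k C D hk hki hDC stC stD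
    refine ⟨by rw [sh, Units.inv_mul], ?_⟩
    rw [Units.val_mul, hst.mul, sh, sk, mul_assoc, ← mul_assoc (↑h⁻¹ : Mι), Units.inv_mul, one_mul, Units.inv_mul]

end CfsgLib.MaxSub.SymFour
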