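import Cfsg.Agent.Lib.MaxSub.SympTypeFourFixed

/-!
Unipotent elements with square-zero part do not normalise a group of symplectic type of degree four in
characteristic three (rank-one part) or five.
-/

set_option autoImplicit false
set_option linter.unusedSectionVars false
set_option linter.style.haveILetI false

namespace CfsgLib.MaxSub.SymFour

open scoped MatrixGroups
open Cfsg.Geo Matrix CfsgLib.Aschbacher

variable {ι : Type} [Fintype ι] [DecidableEq ι] {F : Type*} [Field F]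

local notation "Mι" => Matrix ι ι F

variable {R : Subgroup (GL ι F)} (hR : Pauli R) {x : GL ι F} (hx : x ∈ subgroupNormalizer R)

theorem pow_of_sq_zero {N : Mι} (hN : N * N = 0) (hxN : (x : Mι) = 1 + N) (j : ℕ) :
    ((x ^ j : GL ι F) : Mι) = 1 + (j : F) • N ∧ (((x ^ j)⁻¹ : GL ι F) : Mι) = 1 - (j : F) • N := by
  have h1 : ((x ^ j : GL ι F) : Mι) = 1 + (j : F) • N := by
    induction j with
    | zero => simp
    | succ j ih =>
      rw [pow_succ, Units.val_mul, ih, hxN, Nat.cast_succ, add_smul, one_smul]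
      simp [mul_add, add_mul, hN, Matrix.smul_mul, add_assoc, add_left_comm, add_comm]
  refine ⟨h1, ?_⟩
  calc (((x ^ j)⁻¹ : GL ι F) : Mι)
      = (((x ^ j)⁻¹ : GL ι F) : Mι) * (((x ^ j : GL ι F) : Mι) * (1 - (j : F) • N)) := by
        rw [h1]
        simp [mul_sub, add_mul, hN, Matrix.smul_mul, Matrix.mul_smul]
    _ = 1 - (j : F) • N := by rw [← mul_assoc, Units.inv_mul, one_mul]

theorem cj_pow_of_sq_zero {N : Mι} (hN : N * N = 0) (hxN : (x : Mι) = 1 + N) (j : ℕ) (M : Mι) :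
    cj (x ^ j) M = M + (j : F) • (N * M - M * N) - ((j : F) * (j : F)) • (N * M * N) := by
  obtain ⟨h1, h2⟩ := pow_of_sq_zero hN hxN j
  show ((x ^ j : GL ι F) : Mι) * M * (((x ^ j)⁻¹ : GL ι F) : Mι) = _
  rw [h1, h2]
  simp only [add_mul, mul_sub, one_mul, mul_one, Matrix.smul_mul, Matrix.mul_smul, smul_sub, smul_smul, smul_add]
  abel

include hR

theorem Pauli.repr_cj_pow (Q : R ⧸ Subgroup.center R) (j : ℕ) :
    ∃ c : F, c ≠ 0 ∧ cj (x ^ j) (hR.basis Q) = c • hR.basis (((tau x hx).toEquiv ^ j) Q) := by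
  obtain ⟨c, hc, e⟩ := hR.cj_basis (x ^ j) (Subgroup.pow_mem _ hx j) Q
  refine ⟨c, hc, ?_⟩
  rw [e]
  congr 2
  obtain ⟨y, rfl⟩ := QuotientGroup.mk_surjective Q
  rw [tau_mk, tau_pow_mk]
  rfl

include hx

theorem tau_orbit_injective {r : ℕ} [Fact r.Prime] (hr : x ^ r = 1) {Q : R ⧸ Subgroup.center R}
    (hQ : tau x hx Q ≠ Q) {i j : ℕ} (hi : i < r) (hj : j < r)
    (h : ((tau x hx).toEquiv ^ i) Q = ((tau x hx).toEquiv ^ j) Q) : i = j := by
  obtain ⟨τ, hτ⟩ : ∃ τ : Equiv.Perm (R ⧸ Subgroup.center R), τ = (tau x hx).toEquiv := ⟨_, rfl⟩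
  rw [← hτ] at h
  have hτr : τ ^ r = 1 := hτ ▸ tau_pow_eq_one x hx ⟨1, by rw [hr, one_smul, Units.val_one]⟩
  wlog hij : i ≤ j generalizing i j
  · exact (this hj hi h.symm (le_of_not_ge hij)).symm
  by_contra hne
  obtain ⟨d, rfl⟩ : ∃ d, j = i + d := ⟨j - i, by omega⟩
  rw [pow_add, Equiv.Perm.mul_apply] at h
  have hd : (τ ^ d) Q = Q := ((τ ^ i).injective h).symm
  have hr' : (τ ^ r) Q = Q := by rw [hτr]; rfl
  have hp : Function.IsPeriodicPt τ d Q := by
    show τ^[d] Q = Q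
    rwa [← Equiv.Perm.coe_pow]
  have hp' : Function.IsPeriodicPt τ r Q := by
    show τ^[r] Q = Q
    rwa [← Equiv.Perm.coe_pow]
  have h1 := hp.gcd hp'
  rw [Nat.coprime_iff_gcd_eq_one.1 (Nat.Coprime.symm ((Fact.out : r.Prime).coprime_iff_not_dvd.2 fun hdv =>
    absurd (Nat.le_of_dvd (by omega) hdv) (by omega)))] at h1
  refine hQ ?_
  rw [hτ] at h1
  exact h1

/-- In characteristic five. -/
theorem Pauli.false_of_unipotent_five (h5 : (5 : F) = 0) {N : Mι} (hN : N * N = 0) (hN0 : N ≠ 0)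
    (hxN : (x : Mι) = 1 + N) : False := by
  haveI : Fact (Nat.Prime 5) := ⟨by norm_num⟩
  haveI := hR.finite_quot
  have hx5 : x ^ 5 = 1 := Units.ext (by
    rw [(pow_of_sq_zero hN hxN 5).1]; simp [h5])
  by_cases hall : ∀ Q, tau x hx Q = Q
  · obtain ⟨c, hc⟩ := hR.scalar_of_fixed_all hx (by decide) hx5 (by
      rw [show fixed x hx = ⊤ from eq_top_iff.2 fun Q _ => hall Q, Subgroup.card_top, hR.quot])
    have hN' : N = (c - 1) • (1 : Mι) := by rw [sub_smul, one_smul, ← hc, hxN, add_sub_cancel_left]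
    haveI := hR.nonempty
    obtain ⟨i⟩ := hR.nonempty
    have := congrFun (congrFun hN i) i
    rw [hN'] at this
    simp at this
    exact hN0 (by rw [hN', this, zero_smul])
  push Not at hall
  obtain ⟨Q, hQ⟩ := hall
  obtain ⟨c, hc⟩ : ∃ c : ℕ → F, ∀ j, c j ≠ 0 ∧
      cj (x ^ j) (hR.basis Q) = c j • hR.basis (((tau x hx).toEquiv ^ j) Q) := by
    choose c h using hR.repr_cj_pow hx Q
    exact ⟨c, h⟩
  obtain ⟨f, hf⟩ : ∃ f : ℕ → Mι, ∀ j, f j = cj (x ^ j) (hR.basis Q) := ⟨_, fun j => rfl⟩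
  have hid : f 3 - (3 : F) • f 2 + (3 : F) • f 1 - f 0 = 0 := by
    simp only [hf, cj_pow_of_sq_zero hN hxN]
    push_cast
    module
  have h0 := congrArg (fun M => hR.basis.repr M (((tau x hx).toEquiv ^ 0) Q)) hid
  have hz : ∀ j, 0 < j → j < 5 → hR.basis.repr (f j) (((tau x hx).toEquiv ^ 0) Q) = 0 := by
    intro j hj hj5
    rw [hf, (hc j).2, map_smul, Module.Basis.repr_self, Finsupp.smul_apply,
      Finsupp.single_eq_of_ne fun e => hj.ne (tau_orbit_injective hR hx hx5 hQ (by norm_num) hj5 e), smul_zero]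
  simp only [map_sub, map_add, map_smul, map_zero, Finsupp.sub_apply, Finsupp.add_apply, Finsupp.smul_apply,
    hz 3 (by norm_num) (by norm_num), hz 2 (by norm_num) (by norm_num), hz 1 (by norm_num) (by norm_num),
    Finsupp.coe_zero, Pi.zero_apply, smul_zero, sub_zero, zero_add, zero_sub, neg_eq_zero] at h0
  rw [hf, (hc 0).2, map_smul, Module.Basis.repr_self, Finsupp.smul_apply, Finsupp.single_eq_same,
    smul_eq_mul, mul_one] at h0
  exact (hc 0).1 h0

/-- In characteristic three, with a part of rank one. -/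
theorem Pauli.false_of_unipotent_three (h3 : (3 : F) = 0) {N : Mι} (hN : N * N = 0) (hN0 : N ≠ 0)
    (hrank : ∀ M : Mι, ∃ μ : F, N * M * N = μ • N)
    (hxN : (x : Mι) = 1 + N) : False := by
  haveI : Fact (Nat.Prime 3) := ⟨by norm_num⟩
  haveI := hR.finite_quot
  classical
  have hx3 : x ^ 3 = 1 := Units.ext (by
    rw [(pow_of_sq_zero hN hxN 3).1]; simp [h3])
  obtain ⟨τ, hτ⟩ : ∃ τ : Equiv.Perm (R ⧸ Subgroup.center R), τ = (tau x hx).toEquiv := ⟨_, rfl⟩
  obtain ⟨orb, horb⟩ : ∃ orb : R ⧸ Subgroup.center R → Finset (R ⧸ Subgroup.center R),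
      ∀ Q, orb Q = {(τ ^ 0) Q, (τ ^ 1) Q, (τ ^ 2) Q} := ⟨_, fun Q => rfl⟩
  have key : ∀ Q, tau x hx Q ≠ Q →
      hR.basis.repr N Q ≠ 0 ∧ ∀ Q', Q' ∉ orb Q → hR.basis.repr N Q' = 0 := by
    intro Q hQ
    obtain ⟨c, hc⟩ : ∃ c : ℕ → F, ∀ j, c j ≠ 0 ∧
        cj (x ^ j) (hR.basis Q) = c j • hR.basis ((τ ^ j) Q) := by
      choose c h using hR.repr_cj_pow hx Q
      exact ⟨c, hτ ▸ h⟩
    obtain ⟨f, hf⟩ : ∃ f : ℕ → Mι, ∀ j, f j = cj (x ^ j) (hR.basis Q) := ⟨_, fun j => rfl⟩
    obtain ⟨μ, hμ⟩ := hrank (hR.basis Q)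
    have hid : f 0 + f 1 + f 2 = μ • N := by
      simp only [hf, cj_pow_of_sq_zero hN hxN, hμ]
      have e : ∀ v : Mι, (3 : F) • v = 0 := fun v => by rw [h3, zero_smul]
      push_cast
      refine sub_eq_zero.1 (Eq.trans ?_
        (e (hR.basis Q + (N * hR.basis Q - hR.basis Q * N) - (2 : F) • μ • N)))
      module
    have hr : ∀ Q', hR.basis.repr (f 0 + f 1 + f 2) Q' =
        (if (τ ^ 0) Q = Q' then c 0 else 0) + (if (τ ^ 1) Q = Q' then c 1 else 0) +
          (if (τ ^ 2) Q = Q' then c 2 else 0) := by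
      intro Q'
      simp only [hf, (hc _).2, map_add, map_smul, Module.Basis.repr_self, Finsupp.add_apply, Finsupp.smul_apply,
        Finsupp.single_apply, smul_eq_mul, mul_ite, mul_one, mul_zero]
    simp only [hid, map_smul, Finsupp.smul_apply, smul_eq_mul] at hr
    have hne : ∀ i, 0 < i → i < 3 → (τ ^ i) Q ≠ Q := by
      intro i hi hi3 e
      have := tau_orbit_injective hR hx hx3 hQ hi3 (show 0 < 3 by norm_num) (by rw [← hτ, e]; rfl)
      omega
    have h0 := hr Q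
    rw [pow_zero, Equiv.Perm.one_apply, if_pos rfl, if_neg (hne 1 (by norm_num) (by norm_num)),
      if_neg (hne 2 (by norm_num) (by norm_num)), add_zero, add_zero] at h0
    have hμ0 : μ ≠ 0 := fun h => (hc 0).1 (by rw [← h0, h, zero_mul])
    refine ⟨fun h => (hc 0).1 (by rw [← h0, h, mul_zero]), fun Q' hQ' => ?_⟩
    have h1 := hr Q'
    rw [horb] at hQ'
    simp only [Finset.mem_insert, Finset.mem_singleton, not_or] at hQ'
    rw [if_neg (Ne.symm hQ'.1), if_neg (Ne.symm hQ'.2.1), if_neg (Ne.symm hQ'.2.2), add_zero, add_zero] at h1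
    exact (mul_eq_zero.1 h1).resolve_left hμ0
  have hcase : ∀ Q, tau x hx Q ≠ Q → ∀ Q', tau x hx Q' ≠ Q' → Q' ∈ orb Q := by
    intro Q hQ Q' hQ'
    by_contra h
    exact (key Q' hQ').1 ((key Q hQ).2 Q' h)
  have hns : ∀ c : F, (x : Mι) ≠ c • (1 : Mι) := by
    intro c hc
    have hN' : N = (c - 1) • (1 : Mι) := by rw [sub_smul, one_smul, ← hc, hxN, add_sub_cancel_left]
    obtain ⟨i⟩ := hR.nonempty
    have := congrFun (congrFun hN i) i
    rw [hN'] at this
    simp at this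
    exact hN0 (by rw [hN', this, zero_smul])
  have hd := hR.card_fixed_dvd x hx
  have h16 : Nat.card (fixed x hx) ≠ 16 := fun h =>
    let ⟨c, hc⟩ := hR.scalar_of_fixed_all hx (by decide) hx3 h; hns c hc
  have hle : 13 ≤ Nat.card (fixed x hx) := by
    letI := Fintype.ofFinite (R ⧸ Subgroup.center R)
    have hcompl : (Finset.univ.filter fun Q => ¬ tau x hx Q = Q).card ≤ 3 := by
      rcases (Finset.univ.filter fun Q => ¬ tau x hx Q = Q).eq_empty_or_nonempty with h | ⟨Q, hQ⟩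
      · rw [h]; simp
      · refine le_trans (Finset.card_le_card fun Q' hQ' => hcase Q (Finset.mem_filter.1 hQ).2 Q'
          (Finset.mem_filter.1 hQ').2) ?_
        rw [horb]
        exact Finset.card_le_three
    have htot := Finset.card_filter_add_card_filter_not (s := (Finset.univ : Finset (R ⧸ Subgroup.center R)))
      (fun Q => tau x hx Q = Q)
    rw [Finset.card_univ, ← Nat.card_eq_fintype_card, hR.quot] at htot
    have : Nat.card (fixed x hx) = (Finset.univ.filter fun Q => tau x hx Q = Q).card := by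
      rw [Nat.card_eq_fintype_card]
      exact Fintype.card_of_subtype _ fun Q => by simp [fixed]; rfl
    omega
  have := Nat.le_of_dvd (by norm_num) hd
  interval_cases h : Nat.card (fixed x hx) <;> omega

end CfsgLib.MaxSub.SymFour
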