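import Cfsg.Agent.Lib.MaxSub.SympTypeFourExclude
import Cfsg.Agent.Lib.MaxSub.SympTypeFourUnipotent
import Cfsg.Agent.Lib.MaxSub.SympTypeFourTarget
import Cfsg.Agent.Lib.MaxSub.SympTypeFourModels

/-!
Common steps in deciding which elements of prime order fix a point on the cosets of the normaliser of a
group of symplectic type of degree four.
-/

set_option autoImplicit false
set_option linter.unusedSectionVars false
set_option linter.style.haveILetI false

namespace CfsgLib.MaxSub.SymFour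

open scoped MatrixGroups
open Cfsg.Geo Matrix

variable {ι : Type} [Fintype ι] [DecidableEq ι] {F : Type*} [Field F]

local notation "Mι" => Matrix ι ι F

theorem orderOf_cast_five (p : ℕ) : orderOf (p : ZMod 5) = 4 ↔ p % 5 = 2 ∨ p % 5 = 3 := by
  have hc : (p : ZMod 5) = ((p % 5 : ℕ) : ZMod 5) := by rw [ZMod.natCast_mod]
  rw [hc]
  have h5 : p % 5 < 5 := Nat.mod_lt _ (by norm_num)
  have h2 : orderOf ((2 : ℕ) : ZMod 5) = 4 :=
    orderOf_eq_prime_pow (p := 2) (n := 1) (by decide) (by decide)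
  have h3 : orderOf ((3 : ℕ) : ZMod 5) = 4 :=
    orderOf_eq_prime_pow (p := 2) (n := 1) (by decide) (by decide)
  have h0 : orderOf ((0 : ℕ) : ZMod 5) = 0 := by
    rw [orderOf_eq_zero_iff, isOfFinOrder_iff_pow_eq_one]
    rintro ⟨n, hn, h⟩
    rw [Nat.cast_zero, zero_pow hn.ne'] at h
    exact absurd h (by decide)
  have h1 : orderOf ((1 : ℕ) : ZMod 5) = 1 := by rw [Nat.cast_one, orderOf_one]
  have h4 : orderOf ((4 : ℕ) : ZMod 5) = 2 := orderOf_eq_prime (by decide) (by decide)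
  interval_cases h : p % 5 <;> simp only [h0, h1, h2, h3, h4] <;> norm_num

theorem isSquare_zmod_five : ∀ r : ℕ, r < 5 → (IsSquare ((r : ℕ) : ZMod 5) ↔ (r = 0 ∨ r = 1 ∨ r = 4)) := by
  decide

theorem isSquare_five_iff {p : ℕ} [Fact p.Prime] (hp : p ≠ 2) :
    IsSquare (5 : ZMod p) ↔ (p % 5 = 0 ∨ p % 5 = 1 ∨ p % 5 = 4) := by
  haveI : Fact (Nat.Prime 5) := ⟨by norm_num⟩
  have h := ZMod.exists_sq_eq_prime_iff_of_mod_four_eq_one (p := 5) (q := p) (by norm_num) hp
  rw [show ((5 : ℕ) : ZMod p) = 5 from Nat.cast_ofNat, show (p : ZMod 5) = ((p % 5 : ℕ) : ZMod 5) by rw [ZMod.natCast_mod]] at h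
  rw [← h]
  have h5 : p % 5 < 5 := Nat.mod_lt _ (by norm_num)
  exact isSquare_zmod_five _ h5

theorem scalar_mem_normalizer {R : Subgroup (GL ι F)} {s : GL ι F} {c : F}
    (hs : (s : Mι) = c • (1 : Mι)) : s ∈ subgroupNormalizer R := by
  refine mem_normalizer.2 fun y => ?_
  rw [show s * y * s⁻¹ = y by rw [mul_inv_eq_iff_eq_mul]; exact Units.ext (by simp [hs])]

theorem exists_scalar_unit {c : F} (hc : c ≠ 0) : ∃ s : GL ι F, (s : Mι) = c • (1 : Mι) :=
  ⟨⟨c • 1, c⁻¹ • 1, by rw [smul_mul_smul_comm, mul_inv_cancel₀ hc, one_mul, one_smul],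
    by rw [smul_mul_smul_comm, inv_mul_cancel₀ hc, one_mul, one_smul]⟩, rfl⟩

/-- A scalar of multiplicative order four in `R`. -/
theorem Pauli.exists_iu {R : Subgroup (GL ι F)} (hR : Pauli R) (hz : Nat.card (Subgroup.center R) = 4) :
    ∃ iu ∈ R, iu * iu = -1 ∧ ∃ ci : F, ci * ci = -1 ∧ (iu : Mι) = ci • (1 : Mι) := by
  classical
  haveI := hR.nonempty
  by_contra hcon
  push Not at hcon
  obtain ⟨i⟩ := hR.nonempty
  have hz2 : ∀ z : Subgroup.center R, ((z : R) : GL ι F) = 1 ∨ ((z : R) : GL ι F) = -1 := by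
    intro z
    obtain ⟨c, hc⟩ := (hR.center_iff _).1 z.2
    rcases hR.sq _ (z : R).2 with h | h
    · exact eq_one_or_neg_one_of_sq hc h
    · refine absurd hc (hcon _ (z : R).2 h c ?_)
      have h1 := congrArg (fun u : GL ι F => (u : Mι) i i) h
      simp [hc] at h1
      exact h1
  haveI : Finite (Subgroup.center R) := Nat.finite_of_card_ne_zero (by omega)
  have hinj : Function.Injective (fun z : Subgroup.center R => decide (((z : R) : GL ι F) = 1)) := by
    intro a b hab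
    simp only [decide_eq_decide] at hab
    apply Subtype.ext; apply Subtype.ext
    rcases hz2 a with h | h
    · rw [h, hab.1 h]
    · rcases hz2 b with h' | h'
      · rw [h, h'] at hab
        exact absurd (hab.2 rfl) hR.ne
      · rw [h, h']
  have := Nat.card_le_card_of_injective _ hinj
  rw [hz] at this
  simp at this

theorem trace_conj_eq (g x : GL ι F) : ((g⁻¹ * x * g : GL ι F) : Mι).trace = (x : Mι).trace := by
  rw [Units.val_mul, Units.val_mul, Matrix.trace_mul_comm, ← mul_assoc, Units.mul_inv, one_mul]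

/-- What normalising conjugates give. -/
theorem conj_data {R : Subgroup (GL ι F)} {x g : GL ι F} (hg : g⁻¹ * x * g ∈ subgroupNormalizer R)
    (hns : ∀ c : F, (x : Mι) ≠ c • (1 : Mι)) {r : ℕ} (hr : x ^ r = 1) :
    ∃ y ∈ subgroupNormalizer R, y ^ r = 1 ∧ (∀ c : F, (y : Mι) ≠ c • (1 : Mι)) ∧
      (y : Mι).trace = (x : Mι).trace ∧ ((y⁻¹ : GL ι F) : Mι).trace = ((x⁻¹ : GL ι F) : Mι).trace := by
  refine ⟨g⁻¹ * x * g, hg, ?_, fun c hc => hns c ?_, trace_conj_eq g x, ?_⟩
  · have e : ∀ k : ℕ, (g⁻¹ * x * g) ^ k = g⁻¹ * x ^ k * g := by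
      intro k
      induction k with
      | zero => simp
      | succ k ih => rw [pow_succ, ih, pow_succ]; group
    rw [e, hr]; simp
  · rw [show x = g * (g⁻¹ * x * g) * g⁻¹ by group, Units.val_mul, Units.val_mul, hc]
    simp
  · rw [show (g⁻¹ * x * g)⁻¹ = g⁻¹ * x⁻¹ * g by group]
    exact trace_conj_eq g x⁻¹

/-- A conjugator of determinant one from a centralising element of nonsquare determinant. -/
theorem exists_SL_conj [Fintype F] {y t u : GL (Fin 4) F} (h : IsConj y t) (hu : u * y = y * u)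
    (hns : ¬ IsSquare ((u : Matrix (Fin 4) (Fin 4) F).det)) :
    ∃ g ∈ specialLinear (Fin 4) F, g⁻¹ * y * g = t := by
  obtain ⟨c, hc⟩ := isConj_iff.1 h
  have hc0 : (c : Matrix (Fin 4) (Fin 4) F).det ≠ 0 := c.isUnit.map Matrix.detMonoidHom |>.ne_zero
  have hu0 : (u : Matrix (Fin 4) (Fin 4) F).det ≠ 0 := u.isUnit.map Matrix.detMonoidHom |>.ne_zero
  obtain ⟨j, a, ha, e⟩ := exists_pow_mul_four hu0 hns hc0
  obtain ⟨s, hs⟩ := exists_scalar_unit (ι := Fin 4) ha
  obtain ⟨v, hv⟩ : ∃ v, v = u ^ j * s := ⟨_, rfl⟩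
  have hvy : v * y = y * v := by
    rw [hv, mul_assoc, show s * y = y * s from Units.ext (by simp [hs]), ← mul_assoc,
      (show Commute u y from hu).pow_left j, mul_assoc]
  refine ⟨v * c⁻¹, ?_, ?_⟩
  · rw [specialLinear, MonoidHom.mem_ker]
    refine Units.ext ?_
    show ((v * c⁻¹ : GL (Fin 4) F) : Matrix (Fin 4) (Fin 4) F).det = 1
    have hinv : ((c⁻¹ : GL (Fin 4) F) : Matrix (Fin 4) (Fin 4) F).det * (c : Matrix (Fin 4) (Fin 4) F).det = 1 := by
      rw [← Matrix.det_mul, Units.inv_mul, Matrix.det_one]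
    rw [hv, Units.val_mul, Units.val_mul, Units.val_pow_eq_pow_val, hs, Matrix.det_mul, Matrix.det_mul,
      Matrix.det_pow, Matrix.det_smul, Matrix.det_one, mul_one, Fintype.card_fin, ← e, mul_comm, hinv]
  · rw [_root_.mul_inv_rev, inv_inv, ← hc]
    rw [show c * v⁻¹ * y * (v * c⁻¹) = c * (v⁻¹ * (y * v)) * c⁻¹ by group, ← hvy, inv_mul_cancel_left]

/-- Transferring a centralising element along a conjugation. -/
theorem exists_centralizer {y D u₀ : GL ι F} (h : IsConj y D) (hu : u₀ * D = D * u₀) :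
    ∃ u : GL ι F, u * y = y * u ∧ (u : Mι).det = (u₀ : Mι).det := by
  obtain ⟨c, hc⟩ := isConj_iff.1 h
  refine ⟨c⁻¹ * u₀ * c, ?_, ?_⟩
  · have hy : y = c⁻¹ * D * c := by rw [← hc]; group
    rw [hy]
    calc c⁻¹ * u₀ * c * (c⁻¹ * D * c) = c⁻¹ * (u₀ * D) * c := by group
      _ = c⁻¹ * (D * u₀) * c := by rw [hu]
      _ = _ := by group
  · rw [Units.val_mul, Units.val_mul, Matrix.det_mul, Matrix.det_mul, mul_right_comm, ← Matrix.det_mul,
      Units.inv_mul, Matrix.det_one, one_mul]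

end CfsgLib.MaxSub.SymFour
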