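import Cfsg.Agent.Lib.MaxSub.SympTypeFourFixed

/-!
Which elements of odd prime order can normalise a group of symplectic type of degree four.
-/

set_option autoImplicit false
set_option linter.unusedSectionVars false
set_option linter.style.haveILetI false

namespace CfsgLib.MaxSub.SymFour

open scoped MatrixGroups
open Cfsg.Geo Matrix CfsgLib.Aschbacher

variable {ι : Type} [Fintype ι] [DecidableEq ι] {F : Type*} [Field F]

local notation "Mι" => Matrix ι ι F

variable {R : Subgroup (GL ι F)} (hR : Pauli R) {x : GL ι F} (hx : x ∈ subgroupNormalizer R)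
include hR hx

theorem Pauli.card_fixed_cases (hns : ∀ c : F, (x : Mι) ≠ c • (1 : Mι)) {r : ℕ} [Fact r.Prime]
    (hodd : Odd r) (hr : x ^ r = 1) :
    Nat.card (fixed x hx) ∈ ({1, 2, 4, 8} : Finset ℕ) ∧ Nat.card (fixed x hx) ≡ 16 [MOD r] := by
  have hd := hR.card_fixed_dvd x hx
  have h16 : Nat.card (fixed x hx) ≠ 16 := fun h =>
    let ⟨c, hc⟩ := hR.scalar_of_fixed_all hx hodd hr h; hns c hc
  refine ⟨?_, hR.card_fixed_mod x hx ⟨1, by rw [hr, one_smul, Units.val_one]⟩⟩
  have hle := Nat.le_of_dvd (by norm_num) hd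
  interval_cases h : Nat.card (fixed x hx) <;> simp_all

/-- An element of order five has `tr x * tr x⁻¹ = 1`. -/
theorem Pauli.trace_five (hns : ∀ c : F, (x : Mι) ≠ c • (1 : Mι)) (hr : x ^ 5 = 1) :
    (x : Mι).trace * ((x⁻¹ : GL ι F) : Mι).trace = 1 := by
  haveI : Fact (Nat.Prime 5) := ⟨by norm_num⟩
  obtain ⟨h1, h2⟩ := hR.card_fixed_cases hx hns (by decide) hr
  rw [← hR.card_fixed_eq_trace hx (by decide) hr]
  simp only [Finset.mem_insert, Finset.mem_singleton] at h1
  rcases h1 with h | h | h | h <;> rw [h] at h2 ⊢ <;> simp [Nat.ModEq] at h2 ⊢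

theorem Pauli.card_fixed_three (hns : ∀ c : F, (x : Mι) ≠ c • (1 : Mι)) (hr : x ^ 3 = 1) :
    Nat.card (fixed x hx) = 1 ∨ Nat.card (fixed x hx) = 4 := by
  haveI : Fact (Nat.Prime 3) := ⟨by norm_num⟩
  obtain ⟨h1, h2⟩ := hR.card_fixed_cases hx hns (by decide) hr
  simp only [Finset.mem_insert, Finset.mem_singleton] at h1
  rcases h1 with h | h | h | h <;> rw [h] at h2 ⊢ <;> simp [Nat.ModEq] at h2 ⊢

/-- An element of order three has `tr x * tr x⁻¹` equal to one or four. -/
theorem Pauli.trace_three (hns : ∀ c : F, (x : Mι) ≠ c • (1 : Mι)) (hr : x ^ 3 = 1) :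
    (x : Mι).trace * ((x⁻¹ : GL ι F) : Mι).trace = 1 ∨ (x : Mι).trace * ((x⁻¹ : GL ι F) : Mι).trace = 4 := by
  rw [← hR.card_fixed_eq_trace hx (by decide) hr]
  rcases hR.card_fixed_three hx hns hr with h | h <;> rw [h] <;> simp

/-- With six cosets of involutions, an element of order three fixes four cosets. -/
theorem Pauli.trace_three_six (hz : ∀ z : R, z ∈ Subgroup.center R → (z : GL ι F) * z = 1)
    (h6 : Nat.card {Q : R ⧸ Subgroup.center R // ((Q.out : R) : GL ι F) * (Q.out : R) = 1} = 6)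
    (hns : ∀ c : F, (x : Mι) ≠ c • (1 : Mι)) (hr : x ^ 3 = 1) :
    (x : Mι).trace * ((x⁻¹ : GL ι F) : Mι).trace = 4 := by
  haveI : Fact (Nat.Prime 3) := ⟨by norm_num⟩
  haveI := hR.finite_quot
  rw [← hR.card_fixed_eq_trace hx (by decide) hr]
  rcases hR.card_fixed_three hx hns hr with h | h
  swap
  · rw [h]; norm_num
  exfalso
  have hinv : ∀ Q : R ⧸ Subgroup.center R,
      ((((tau x hx).toEquiv Q).out : R) : GL ι F) * (((tau x hx).toEquiv Q).out : R) = 1 ↔
        ((Q.out : R) : GL ι F) * (Q.out : R) = 1 := by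
    intro Q
    obtain ⟨Q', hQ'⟩ : ∃ Q', Q' = (tau x hx).toEquiv Q := ⟨_, rfl⟩
    rw [← hQ']
    have e : (QuotientGroup.mk (conjR x hx Q.out) : R ⧸ Subgroup.center R) = Q' := by
      rw [← tau_mk, QuotientGroup.out_eq', hQ']; rfl
    obtain ⟨z, hzz, hzc⟩ : ∃ z : R, z ∈ Subgroup.center R ∧ Q'.out * z = conjR x hx Q.out :=
      ⟨_, QuotientGroup.eq.1 ((Quotient.out_eq Q').trans e.symm), mul_inv_cancel_left _ _⟩
    have h1 : (Q'.out * Q'.out : R) = conjR x hx (Q.out * Q.out) := by
      rw [map_mul, ← hzc, show Q'.out * z * (Q'.out * z) = Q'.out * Q'.out * (z * z) by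
        rw [mul_assoc, ← mul_assoc z, ← Subgroup.mem_center_iff.1 hzz Q'.out]; simp [mul_assoc],
        show z * z = 1 from Subtype.ext (hz z hzz), mul_one]
    constructor
    · intro h2
      have h3 : (Q'.out * Q'.out : R) = 1 := Subtype.ext h2
      rw [h1, map_eq_one_iff _ (conjR x hx).injective] at h3
      exact congrArg Subtype.val h3
    · intro h2
      have h3 : (Q.out * Q.out : R) = 1 := Subtype.ext h2
      rw [h3, map_one] at h1
      exact congrArg Subtype.val h1
  obtain ⟨σ, hσ⟩ : ∃ σ, σ = Equiv.Perm.subtypePerm (tau x hx).toEquiv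
      (p := fun Q => ((Q.out : R) : GL ι F) * (Q.out : R) = 1) hinv := ⟨_, rfl⟩
  have hpow : σ ^ 3 = 1 := by
    rw [hσ, Equiv.Perm.subtypePerm_pow]
    refine Equiv.ext fun Q => Subtype.ext ?_
    show ((tau x hx).toEquiv ^ _ : Equiv.Perm (R ⧸ Subgroup.center R)) Q.1 = Q.1
    rw [tau_pow_eq_one x hx ⟨1, by rw [hr, one_smul, Units.val_one]⟩]
    rfl
  have hm := card_fixed_modEq σ hpow
  have hval : ∀ a, (σ a).1 = tau x hx a.1 := fun a => by rw [hσ]; rfl
  rw [h6] at hm
  have hle : Nat.card {a // σ a = a} ≤ 1 := by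
    rw [← h]
    refine Nat.card_le_card_of_injective
      (fun a => (⟨a.1.1, show tau x hx a.1.1 = a.1.1 by
        exact (hval a.1).symm.trans (congrArg Subtype.val a.2)⟩ : fixed x hx)) fun a b hab => ?_
    exact Subtype.ext (Subtype.ext (congrArg (fun u : fixed x hx => (u : R ⧸ Subgroup.center R)) hab))
  have hone : ((1 : R ⧸ Subgroup.center R).out : GL ι F) * ((1 : R ⧸ Subgroup.center R).out : R) = 1 := by
    refine hz _ ?_
    rw [← QuotientGroup.eq_one_iff, QuotientGroup.out_eq']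
  have hpos : 0 < Nat.card {a // σ a = a} := by
    haveI : Nonempty {a // σ a = a} := ⟨⟨⟨1, hone⟩, Subtype.ext ((hval _).trans (map_one (tau x hx)))⟩⟩
    exact Nat.card_pos
  rw [Nat.ModEq] at hm
  omega

/-- An element of prime order at least seven that normalises is scalar. -/
theorem Pauli.scalar_of_seven_le {r : ℕ} [Fact r.Prime] (h7 : 7 ≤ r) (hr : x ^ r = 1) :
    ∃ c : F, (x : Mι) = c • (1 : Mι) := by
  by_contra hns
  push Not at hns
  haveI := hR.finite_quot
  have hodd : Odd r := (Fact.out : r.Prime).odd_of_ne_two (by omega)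
  obtain ⟨h1, h2⟩ := hR.card_fixed_cases hx hns hodd hr
  simp only [Finset.mem_insert, Finset.mem_singleton] at h1
  rw [Nat.modEq_iff_dvd' (by omega)] at h2
  have hk2 : Nat.card (fixed x hx) = 2 ∧ r = 7 := by
    have hle := Nat.le_of_dvd (by omega) h2
    have hp := (Fact.out : r.Prime)
    rcases h1 with h | h | h | h <;> rw [h] at h2 hle <;> interval_cases r <;>
      first
        | omega
        | (norm_num at hp)
  obtain ⟨hk, rfl⟩ := hk2
  obtain ⟨Q₀, hQ₀, hQ₁⟩ : ∃ Q ∈ fixed x hx, Q ≠ 1 := by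
    haveI : Nontrivial (fixed x hx) := Finite.one_lt_card_iff_nontrivial.1 (by omega)
    obtain ⟨a, ha⟩ := exists_ne (1 : fixed x hx)
    exact ⟨a, a.2, fun h => ha (Subtype.ext h)⟩
  have hu : Q₀.out ∉ Subgroup.center R := fun h => hQ₁ (by
    rw [← QuotientGroup.out_eq' Q₀]; exact (QuotientGroup.eq_one_iff _).2 h)
  obtain ⟨u, hud⟩ : ∃ u, u = Q₀.out := ⟨_, rfl⟩
  rw [← hud] at hu
  have hfix : x * (u : GL ι F) * x⁻¹ = u :=
    hR.commute_of_fixed hx hodd hr u (by rw [hud, QuotientGroup.out_eq']; exact hQ₀)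
  obtain ⟨D, hD⟩ : ∃ D, D = (Subgroup.centralizer {u}).map (QuotientGroup.mk' (Subgroup.center R)) := ⟨_, rfl⟩
  have hanti : ∀ a : R, u * a = a * u ∨ ((u * a : R) : GL ι F) = -((a * u : R) : GL ι F) := fun a =>
    (hR.comm u u.2 a a.2).imp Subtype.ext id
  have hDi : D.index = 2 := by
    rw [hD, Subgroup.index_map_eq _ (QuotientGroup.mk'_surjective _)
      (by rw [QuotientGroup.ker_mk']; exact Subgroup.center_le_centralizer _), Subgroup.index_eq_two_iff]
    obtain ⟨w, hwR, hw⟩ := hR.exists_anti u hu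
    refine ⟨⟨w, hwR⟩, fun b => ?_⟩
    simp only [Subgroup.mem_centralizer_singleton_iff]
    have hw' : ∀ c : GL ι F, c * (u * w) = -(c * (w * u)) := fun c => by rw [hw, mul_neg, neg_neg]
    rcases hanti b with hb | hb
    · refine Or.inr ⟨hb.symm, fun hbw => ?_⟩
      have e := congrArg Subtype.val hbw
      have e' := congrArg Subtype.val hb
      simp only [Subgroup.coe_mul] at e e'
      rw [mul_assoc, hw, mul_neg, ← mul_assoc, ← e', mul_assoc] at e
      have h1 : (-1 : GL ι F) * ((u : GL ι F) * ((b : GL ι F) * w)) = 1 * ((u : GL ι F) * ((b : GL ι F) * w)) := by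
        rw [neg_one_mul, one_mul]; exact e
      exact hR.ne (mul_right_cancel h1)
    · refine Or.inl ⟨?_, fun hbC => ?_⟩
      · apply Subtype.ext
        simp only [Subgroup.coe_mul] at hb ⊢
        rw [mul_assoc, hw, mul_neg, ← mul_assoc, ← mul_assoc, hb, neg_mul]
      · have e := congrArg Subtype.val hbC
        simp only [Subgroup.coe_mul] at e hb
        rw [e] at hb
        have h1 : (-1 : GL ι F) * ((u : GL ι F) * b) = 1 * ((u : GL ι F) * b) := by
          rw [neg_one_mul, one_mul]; exact hb.symm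
        exact hR.ne (mul_right_cancel h1)
  have hinv : ∀ Q, ((tau x hx).toEquiv Q ∉ D) ↔ Q ∉ D := by
    intro Q
    obtain ⟨a, rfl⟩ := QuotientGroup.mk_surjective Q
    have key : ∀ b : R, (QuotientGroup.mk b : R ⧸ Subgroup.center R) ∈ D ↔ b * u = u * b := fun b => by
      rw [hD, ← QuotientGroup.mk'_apply, ← Subgroup.mem_comap,
        Subgroup.comap_map_eq_self (by rw [QuotientGroup.ker_mk']; exact Subgroup.center_le_centralizer _),
        Subgroup.mem_centralizer_singleton_iff]
    show tau x hx _ ∉ D ↔ _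
    rw [tau_mk, key, key]
    have hcu : conjR x hx u = u := Subtype.ext hfix
    constructor
    · intro h ha
      exact h (by rw [← hcu, ← map_mul, ← map_mul, ha])
    · intro h ha
      exact h ((conjR x hx).injective (by rw [map_mul, map_mul, hcu, ha]))
  obtain ⟨σ, hσ⟩ : ∃ σ, σ = Equiv.Perm.subtypePerm (tau x hx).toEquiv (p := fun Q => Q ∉ D) hinv := ⟨_, rfl⟩
  have hpow : σ ^ 7 = 1 := by
    rw [hσ, Equiv.Perm.subtypePerm_pow]
    refine Equiv.ext fun Q => Subtype.ext ?_
    show ((tau x hx).toEquiv ^ _ : Equiv.Perm (R ⧸ Subgroup.center R)) Q.1 = Q.1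
    rw [tau_pow_eq_one x hx ⟨1, by rw [hr, one_smul, Units.val_one]⟩]
    rfl
  have hm := card_fixed_modEq σ hpow
  have hval : ∀ a, (σ a).1 = tau x hx a.1 := fun a => by rw [hσ]; rfl
  have hfixD : ∀ Q, Q ∈ fixed x hx → Q ∈ D := by
    intro Q hQ
    by_contra hQD
    have hne : Q ≠ 1 := fun h => hQD (h ▸ one_mem _)
    have hQ₀D : Q₀ ∈ D := by
      rw [← QuotientGroup.out_eq' Q₀, ← hud, hD]
      exact ⟨u, Subgroup.mem_centralizer_singleton_iff.2 rfl, rfl⟩
    have : Q = Q₀ := by
      by_contra hne'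
      classical
      have hc : ({1, Q₀, Q} : Finset (R ⧸ Subgroup.center R)).card = 3 := by
        rw [Finset.card_eq_three]
        exact ⟨1, Q₀, Q, Ne.symm hQ₁, Ne.symm hne, Ne.symm hne', rfl⟩
      have hle : (({1, Q₀, Q} : Finset (R ⧸ Subgroup.center R))).card ≤ Nat.card (fixed x hx) := by
        show _ ≤ Nat.card ((fixed x hx : Subgroup (R ⧸ Subgroup.center R)) : Set (R ⧸ Subgroup.center R))
        rw [Nat.card_coe_set_eq, ← Set.ncard_coe_finset]
        refine Set.ncard_le_ncard ?_ (Set.toFinite _)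
        intro a ha
        simp only [Finset.coe_insert, Finset.coe_singleton, Set.mem_insert_iff, Set.mem_singleton_iff] at ha
        rcases ha with rfl | rfl | rfl
        · exact one_mem _
        · exact hQ₀
        · exact hQ
      omega
    exact hQD (this ▸ hQ₀D)
  have h0 : Nat.card {a // σ a = a} = 0 := by
    rw [Nat.card_eq_zero]
    refine Or.inl ⟨fun a => a.1.2 (hfixD _ ?_)⟩
    exact (hval a.1).symm.trans (congrArg Subtype.val a.2)
  have h8 : Nat.card {Q : R ⧸ Subgroup.center R // Q ∉ D} = 8 := by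
    classical
    letI := Fintype.ofFinite (R ⧸ Subgroup.center R)
    have hDc := Subgroup.card_mul_index D
    rw [hDi, hR.quot] at hDc
    rw [Nat.card_eq_fintype_card, Fintype.card_subtype_compl, ← Nat.card_eq_fintype_card,
      ← Nat.card_eq_fintype_card, hR.quot]
    have : Nat.card {Q // Q ∈ D} = Nat.card D := rfl
    omega
  rw [h0, h8] at hm
  simp [Nat.ModEq] at hm

end CfsgLib.MaxSub.SymFour
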