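import Cfsg.Agent.Lib.MaxSub.SympTypeFourBasic

/-!
Four pairwise anticommuting involutions in a group of symplectic type of degree four.
-/

set_option autoImplicit false
set_option linter.unusedSectionVars false
set_option linter.style.haveILetI false

namespace CfsgLib.MaxSub.SymFour

open scoped MatrixGroups
open Cfsg.Geo Matrix

variable {ι : Type} [Fintype ι] [DecidableEq ι] {F : Type*} [Field F]

local notation "Mι" => Matrix ι ι F
local notation "G" => GL ι F

/-- A trace vanishes when the matrix anticommutes with an invertible one. -/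
theorem trace_of_anti (h2 : (2 : F) ≠ 0) {w : G} {y : Mι} (h : (w : Mι) * y = -(y * (w : Mι))) : y.trace = 0 := by
  have h1 : ((w : Mι) * y * ((w⁻¹ : G) : Mι)).trace = y.trace := Matrix.trace_units_conj w _
  rw [h, neg_mul, Matrix.trace_neg, mul_assoc, Units.mul_inv, mul_one] at h1
  exact (mul_eq_zero.1 (show (2 : F) * y.trace = 0 by linear_combination -h1)).resolve_left h2

theorem ne_scalar_of_anti [Nonempty ι] (h2 : (2 : F) ≠ 0) {w y : G} (h : w * y = -(y * w)) (c : F) :
    (y : Mι) ≠ c • (1 : Mι) := by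
  intro hc
  have e : w * y = y * w := Units.ext (by simp [hc])
  rw [e] at h
  refine neg_one_ne_one (ι := ι) h2 ?_
  have h1 : (-1 : G) * (y * w) = 1 * (y * w) := by rw [neg_one_mul, one_mul]; exact h.symm
  exact mul_right_cancel h1

theorem comm_mul {a b e : G} (ha : a * e = e * a) (hb : b * e = e * b) : (a * b) * e = e * (a * b) := by
  rw [mul_assoc, hb, ← mul_assoc, ha, mul_assoc]

theorem anti_mul_comm {a b e : G} (ha : a * e = -(e * a)) (hb : b * e = e * b) :
    (a * b) * e = -(e * (a * b)) := by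
  rw [mul_assoc, hb, ← mul_assoc, ha, neg_mul, mul_assoc]

theorem comm_mul_anti {a b e : G} (ha : a * e = e * a) (hb : b * e = -(e * b)) :
    (a * b) * e = -(e * (a * b)) := by
  rw [mul_assoc, hb, mul_neg, ← mul_assoc, ha, mul_assoc]

theorem anti_mul_anti {a b e : G} (ha : a * e = -(e * a)) (hb : b * e = -(e * b)) :
    (a * b) * e = e * (a * b) := by
  rw [mul_assoc, hb, mul_neg, ← mul_assoc, ha, neg_mul, neg_neg, mul_assoc]

theorem anti_symm {a b : G} (h : a * b = -(b * a)) : b * a = -(a * b) := by rw [h, neg_neg]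

/-- Four pairwise anticommuting involutions of `R`. -/
structure Frame (R : Subgroup (GL ι F)) (e : Fin 4 → GL ι F) : Prop where
  mem : ∀ i, e i ∈ R
  sq : ∀ i, e i * e i = 1
  anti : ∀ i j, i ≠ j → e i * e j = -(e j * e i)

variable {R : Subgroup (GL ι F)} (hR : Pauli R)
include hR

theorem Pauli.exists_noncentral : ∃ y : R, y ∉ Subgroup.center R := by
  by_contra h
  push Not at h
  have := hR.quot
  rw [show Subgroup.center R = ⊤ from eq_top_iff.2 fun y _ => h y, ← Subgroup.index_eq_card,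
    Subgroup.index_top] at this
  omega

theorem Pauli.not_center_of_anti {w y : G} (hy : y ∈ R) (h : w * y = -(y * w)) :
    (⟨y, hy⟩ : R) ∉ Subgroup.center R := fun hc => by
  haveI := hR.nonempty
  obtain ⟨c, hc⟩ := (hR.center_iff _).1 hc
  exact ne_scalar_of_anti hR.two h c hc

/-- Scaling to an involution keeping all signs. -/
theorem Pauli.exists_invol {iu : G} (hiR : iu ∈ R) (hi : iu * iu = -1) (hic : ∀ w : G, iu * w = w * iu)
    {y : G} (hy : y ∈ R) :
    ∃ y' ∈ R, y' * y' = 1 ∧ (∀ w : G, (y * w = w * y → y' * w = w * y') ∧ (y * w = -(w * y) → y' * w = -(w * y'))) := by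
  rcases hR.sq y hy with h | h
  · exact ⟨y, hy, h, fun w => ⟨id, id⟩⟩
  · refine ⟨iu * y, R.mul_mem hiR hy, ?_, fun w => ⟨fun e => comm_mul (hic w) e, fun e => comm_mul_anti (hic w) e⟩⟩
    rw [mul_assoc, ← mul_assoc y, ← hic y, mul_assoc iu y, ← mul_assoc, hi, h, neg_mul_neg, one_mul]

theorem Pauli.exists_frame_of_i (hi : ∃ iu ∈ R, iu * iu = -1 ∧ ∀ w : G, iu * w = w * iu) :
    ∃ e : Fin 4 → G, Frame R e := by
  classical
  obtain ⟨iu, hiR, hi, hic⟩ := hi
  obtain ⟨y₀, hy₀⟩ := hR.exists_noncentral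
  obtain ⟨e1, he1R, he1, he1s⟩ := hR.exists_invol hiR hi hic y₀.2
  obtain ⟨w₀, hw₀R, hw₀⟩ := hR.exists_anti y₀ hy₀
  have hw₁ : w₀ * e1 = -(e1 * w₀) := anti_symm ((he1s w₀).2 (anti_symm hw₀))
  obtain ⟨e2, he2R, he2, he2s⟩ := hR.exists_invol hiR hi hic hw₀R
  have h21 : e2 * e1 = -(e1 * e2) := (he2s e1).2 hw₁
  have h12 : e1 * e2 = -(e2 * e1) := anti_symm h21
  -- move an element into the centraliser of `e1`, `e2`
  have hadj : ∀ y ∈ R, ∃ m ∈ R, (m = 1 ∨ m = e1 ∨ m = e2 ∨ m = e2 * e1) ∧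
      (y * m) * e1 = e1 * (y * m) ∧ (y * m) * e2 = e2 * (y * m) := by
    intro y hy
    rcases hR.comm y hy e1 he1R with a1 | a1 <;> rcases hR.comm y hy e2 he2R with a2 | a2
    · exact ⟨1, R.one_mem, Or.inl rfl, by simpa using a1, by simpa using a2⟩
    · exact ⟨e1, he1R, Or.inr (Or.inl rfl), comm_mul a1 rfl, anti_mul_anti a2 h12⟩
    · exact ⟨e2, he2R, Or.inr (Or.inr (Or.inl rfl)), anti_mul_anti a1 h21, comm_mul a2 rfl⟩
    · refine ⟨e2 * e1, R.mul_mem he2R he1R, Or.inr (Or.inr (Or.inr rfl)), ?_, ?_⟩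
      · exact anti_mul_anti a1 (anti_mul_comm h21 rfl)
      · exact anti_mul_anti a2 (comm_mul_anti rfl h12)
  obtain ⟨w, hwR, hwnc, hw1, hw2⟩ : ∃ w, ∃ hw : w ∈ R, (⟨w, hw⟩ : R) ∉ Subgroup.center R ∧
      w * e1 = e1 * w ∧ w * e2 = e2 * w := by
    by_contra hcon
    push Not at hcon
    haveI := hR.finite_quot
    obtain ⟨L, hL⟩ : ∃ L : Finset (R ⧸ Subgroup.center R),
        L = ({1, (QuotientGroup.mk (⟨e1, he1R⟩ : R))⁻¹, (QuotientGroup.mk (⟨e2, he2R⟩ : R))⁻¹,
          (QuotientGroup.mk (⟨e2 * e1, R.mul_mem he2R he1R⟩ : R))⁻¹} : Finset (R ⧸ Subgroup.center R)) := ⟨_, rfl⟩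
    have hall : ∀ Q : R ⧸ Subgroup.center R, Q ∈ L := by
      intro Q
      obtain ⟨⟨y, hy⟩, rfl⟩ := QuotientGroup.mk_surjective Q
      obtain ⟨m, hm, hm4, h1, h2⟩ := hadj y hy
      have hc : (⟨y * m, R.mul_mem hy hm⟩ : R) ∈ Subgroup.center R := by
        by_contra hn
        exact hcon _ (R.mul_mem hy hm) hn h1 h2
      have hQ : (QuotientGroup.mk (⟨y, hy⟩ : R) : R ⧸ Subgroup.center R) * QuotientGroup.mk (⟨m, hm⟩ : R) = 1 := by
        rw [← QuotientGroup.mk_mul]; exact (QuotientGroup.eq_one_iff _).2 hc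
      rw [eq_inv_of_mul_eq_one_left hQ, hL]
      rcases hm4 with rfl | rfl | rfl | rfl
      · rw [show (⟨1, hm⟩ : R) = 1 from rfl, QuotientGroup.mk_one, inv_one]; simp
      all_goals simp
    letI := Fintype.ofFinite (R ⧸ Subgroup.center R)
    have h16 := hR.quot
    rw [Nat.card_eq_fintype_card, ← Finset.card_univ] at h16
    have := Finset.card_le_card (s := Finset.univ) (t := L) fun Q _ => hall Q
    have h4 : L.card ≤ 4 := hL ▸ Finset.card_le_four
    omega
  obtain ⟨y, hyR, hy⟩ := hR.exists_anti ⟨w, hwR⟩ hwnc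
  obtain ⟨m, hmR, hm4, hv1, hv2⟩ := hadj y hyR
  have hmw : m * w = w * m := by
    rcases hm4 with rfl | rfl | rfl | rfl
    · simp
    · exact hw1.symm
    · exact hw2.symm
    · exact comm_mul hw2.symm hw1.symm
  have hvw : (y * m) * w = -(w * (y * m)) := anti_mul_comm hy hmw
  obtain ⟨v, hvd⟩ : ∃ v, v = y * m := ⟨_, rfl⟩
  have hvR : v ∈ R := hvd ▸ R.mul_mem hyR hmR
  rw [← hvd] at hv1 hv2 hvw
  obtain ⟨e3, he3R, he3, he3s⟩ := hR.exists_invol hiR hi hic (R.mul_mem hwR (R.mul_mem he1R he2R))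
  obtain ⟨e4, he4R, he4, he4s⟩ := hR.exists_invol hiR hi hic (R.mul_mem hvR (R.mul_mem he1R he2R))
  have ha1 : e1 * e2 * e1 = -(e1 * (e1 * e2)) := comm_mul_anti rfl h21
  have ha2 : e1 * e2 * e2 = -(e2 * (e1 * e2)) := anti_mul_comm h12 rfl
  have h31 := (he3s e1).2 (comm_mul_anti hw1 ha1)
  have h32 := (he3s e2).2 (comm_mul_anti hw2 ha2)
  have h41 := (he4s e1).2 (comm_mul_anti hv1 ha1)
  have h42 := (he4s e2).2 (comm_mul_anti hv2 ha2)
  have h34 : e3 * e4 = -(e4 * e3) := by
    refine (he3s e4).2 (anti_symm ((he4s (w * (e1 * e2))).2 (anti_symm ?_)))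
    have hs : (e1 * e2) * v = v * (e1 * e2) := comm_mul hv1.symm hv2.symm
    have hs2 : (e1 * e2) * w = w * (e1 * e2) := comm_mul hw1.symm hw2.symm
    refine anti_symm (anti_mul_comm (e := w * (e1 * e2)) ?_ ?_)
    · exact anti_symm (anti_mul_comm (e := v) (anti_symm hvw) hs)
    · exact (comm_mul (e := e1 * e2) hs2.symm rfl).symm
  refine ⟨![e1, e2, e3, e4], ?_, ?_, ?_⟩
  · intro i; fin_cases i <;> assumption
  · intro i; fin_cases i <;> assumption
  · intro i j hij
    fin_cases i <;> fin_cases j <;> first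
      | exact absurd rfl hij
      | assumption
      | exact anti_symm (by assumption)

/-- The commutation signs with a frame determine an element up to a scalar. -/
theorem Pauli.frame_generates {e : Fin 4 → G} (he : Frame R e) (S : Subgroup G) (hS : ∀ i, e i ∈ S)
    (hZ : ∀ z : R, z ∈ Subgroup.center R → (z : G) ∈ S) : R ≤ S := by
  classical
  haveI := hR.nonempty
  haveI := hR.finite_quot
  obtain ⟨χ, hχ⟩ : ∃ χ : G → Fin 4 → Bool, ∀ y i, χ y i = decide (y * e i ≠ e i * y) := ⟨_, fun _ _ => rfl⟩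
  have hne : ∀ a b : G, a * b = -(b * a) → a * b ≠ b * a := fun a b h h' => by
    rw [h'] at h
    have h1 : (-1 : G) * (b * a) = 1 * (b * a) := by rw [neg_one_mul, one_mul]; exact h.symm
    exact hR.ne (mul_right_cancel h1)
  have hmul : ∀ a b : G, a ∈ R → b ∈ R → ∀ i, χ (a * b) i = (χ a i != χ b i) := by
    intro a b ha hb i
    simp only [hχ]
    rcases hR.comm a ha (e i) (he.mem i) with h1 | h1 <;> rcases hR.comm b hb (e i) (he.mem i) with h2 | h2
    · simp [h1, h2, comm_mul h1 h2]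
    · simp [h1, hne _ _ h2, hne _ _ (comm_mul_anti h1 h2)]
    · simp [h2, hne _ _ h1, hne _ _ (anti_mul_comm h1 h2)]
    · simp [hne _ _ h1, hne _ _ h2, anti_mul_anti h1 h2]
  have heχ : ∀ j i, χ (e j) i = decide (j ≠ i) := by
    intro j i
    rw [hχ]
    by_cases h : j = i
    · subst h; simp
    · simp [h, hne _ _ (he.anti j i h)]
  obtain ⟨u, hu⟩ : ∃ u : Fin 4 → G, u = ![e 1 * e 2 * e 3, e 0 * e 2 * e 3, e 0 * e 1 * e 3, e 0 * e 1 * e 2] :=
    ⟨_, rfl⟩
  have huS : ∀ k, u k ∈ R ⊓ S := fun k => by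
    have hm : ∀ i, e i ∈ R ⊓ S := fun i => ⟨he.mem i, hS i⟩
    fin_cases k <;> rw [hu] <;> exact mul_mem (mul_mem (hm _) (hm _)) (hm _)
  have huχ : ∀ k i, χ (u k) i = decide (k = i) := by
    intro k i
    fin_cases k <;> rw [hu] <;> fin_cases i <;> simp [hmul, he.mem, heχ, R.mul_mem]
  have hone : ∀ i, χ 1 i = false := fun i => by simp [hχ]
  intro y hy
  obtain ⟨w, hw, hwχ⟩ : ∃ w ∈ R ⊓ S, ∀ i, χ w i = χ y i := by
    refine ⟨(if χ y 0 then u 0 else 1) * (if χ y 1 then u 1 else 1) * (if χ y 2 then u 2 else 1) *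
      (if χ y 3 then u 3 else 1), ?_, fun i => ?_⟩
    · refine mul_mem (mul_mem (mul_mem ?_ ?_) ?_) ?_ <;> (split; exacts [huS _, one_mem _])
    · have hm : ∀ k, (if χ y k then u k else 1) ∈ R := fun k => by split; exacts [(huS k).1, one_mem _]
      have hif : ∀ k, χ (if χ y k then u k else 1) i = (χ y k && decide (k = i)) := fun k => by
        cases χ y k <;> simp [huχ, hone]
      rw [hmul _ _ (mul_mem (mul_mem (hm 0) (hm 1)) (hm 2)) (hm 3), hmul _ _ (mul_mem (hm 0) (hm 1)) (hm 2),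
        hmul _ _ (hm 0) (hm 1), hif, hif, hif, hif]
      fin_cases i <;> simp
  -- the quotient of `y` by the word commutes with the frame, hence is central
  obtain ⟨d, hd⟩ : ∃ d, d = y * w⁻¹ := ⟨_, rfl⟩
  have hdR : d ∈ R := hd ▸ R.mul_mem hy (R.inv_mem hw.1)
  have hdχ : ∀ i, χ d i = false := by
    intro i
    have := hmul d w hdR hw.1 i
    rw [hd, inv_mul_cancel_right, hwχ, ← hd] at this
    revert this
    cases χ y i <;> cases χ d i <;> simp
  have hdc : (⟨d, hdR⟩ : R) ∈ Subgroup.center R := by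
    by_contra hnc
    obtain ⟨Q, hQ⟩ : ∃ Q, Q = fun Q' : R ⧸ Subgroup.center R => χ ((Q'.out : R) : G) := ⟨_, rfl⟩
    have hQmk : ∀ a : R, Q (QuotientGroup.mk a) = χ (a : G) := by
      intro a
      obtain ⟨o, ho⟩ : ∃ o : R, o = (QuotientGroup.mk a : R ⧸ Subgroup.center R).out := ⟨_, rfl⟩
      have hz : a⁻¹ * o ∈ Subgroup.center R :=
        QuotientGroup.eq.1 (ho ▸ (Quotient.out_eq (QuotientGroup.mk a : R ⧸ Subgroup.center R)).symm)
      funext i
      rw [hQ]
      show χ ((QuotientGroup.mk a : R ⧸ Subgroup.center R).out : G) i = _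
      rw [← ho, show o = a * (a⁻¹ * o) from (mul_inv_cancel_left a o).symm, Subgroup.coe_mul,
        hmul _ _ a.2 (a⁻¹ * o).2]
      have : χ ((a⁻¹ * o : R) : G) i = false := by
        have := congrArg (fun u : R => (u : G)) (Subgroup.mem_center_iff.1 hz ⟨e i, he.mem i⟩)
        simp only [Subgroup.coe_mul, Subgroup.coe_inv] at this
        simp [hχ, this]
      rw [this]
      simp
    have hsurj : Function.Surjective Q := by
      intro f
      refine ⟨QuotientGroup.mk ⟨(if f 0 then u 0 else 1) * (if f 1 then u 1 else 1) * (if f 2 then u 2 else 1) *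
        (if f 3 then u 3 else 1), ?_⟩, ?_⟩
      · refine mul_mem (mul_mem (mul_mem ?_ ?_) ?_) ?_ <;> (split; exacts [(huS _).1, one_mem _])
      · rw [hQmk]
        funext i
        have hm : ∀ k, (if f k then u k else 1) ∈ R := fun k => by split; exacts [(huS k).1, one_mem _]
        have hif : ∀ k, χ (if f k then u k else 1) i = (f k && decide (k = i)) := fun k => by
          cases f k <;> simp [huχ, hone]
        show χ _ i = _
        rw [hmul _ _ (mul_mem (mul_mem (hm 0) (hm 1)) (hm 2)) (hm 3), hmul _ _ (mul_mem (hm 0) (hm 1)) (hm 2),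
          hmul _ _ (hm 0) (hm 1), hif, hif, hif, hif]
        fin_cases i <;> simp
    letI := Fintype.ofFinite (R ⧸ Subgroup.center R)
    have hbij : Function.Bijective Q :=
      (Fintype.bijective_iff_surjective_and_card Q).2 ⟨hsurj, by
        rw [← Nat.card_eq_fintype_card, hR.quot]; simp⟩
    refine hnc ((QuotientGroup.eq_one_iff _).1 (hbij.1 ?_))
    rw [hQmk, ← QuotientGroup.mk_one, hQmk]
    funext i
    rw [hdχ, OneMemClass.coe_one, hone]
  rw [show y = d * w by rw [hd, inv_mul_cancel_right]]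
  exact S.mul_mem (hZ _ hdc) hw.2

theorem Pauli.commute_of_frame {e : Fin 4 → G} (he : Frame R e) {t : G} (ht : ∀ i, t * e i = e i * t) :
    ∃ c : F, (t : Mι) = c • (1 : Mι) := by
  refine hR.irr _ fun y hy => ?_
  have := hR.frame_generates he (Subgroup.centralizer {t}) (fun i => Subgroup.mem_centralizer_singleton_iff.2 (ht i).symm)
    (fun z hz => Subgroup.mem_centralizer_singleton_iff.2 (by
      obtain ⟨c, hc⟩ := (hR.center_iff z).1 hz
      exact Units.ext (by simp [hc]))) hy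
  exact congrArg Units.val (Subgroup.mem_centralizer_singleton_iff.1 this).symm

theorem Pauli.mem_normalizer_of_frame {e : Fin 4 → G} (he : Frame R e) {t : G}
    (ht : ∀ i, t * e i * t⁻¹ ∈ R) : t ∈ subgroupNormalizer R := by
  haveI : Finite R := by
    haveI : Finite (R ⧸ Subgroup.center R) := hR.finite_quot
    haveI : Finite (Subgroup.center R) := by
      obtain ⟨S, hS⟩ : ∃ S : Set F, S = {c : F | c ^ 4 = 1} := ⟨_, rfl⟩
      have hSf : Finite S := by
        rw [hS]
        exact Set.Finite.to_subtype ((Polynomial.nthRootsFinset 4 (1 : F)).finite_toSet.subset fun c hc => by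
          simpa [Polynomial.mem_nthRootsFinset] using hc)
      haveI := hR.nonempty
      have hex : ∀ z : Subgroup.center R, ∃ c : S, (((z : R) : G) : Mι) = (c : F) • (1 : Mι) := by
        intro z
        obtain ⟨c, hc⟩ := (hR.center_iff _).1 z.2
        refine ⟨⟨c, hS ▸ ?_⟩, hc⟩
        have h4 : (((z : R) : G) : Mι) ^ 4 = 1 := by
          have : ((z : R) : G) ^ 4 = 1 := by
            rcases hR.sq _ (z : R).2 with h | h <;> rw [show 4 = 2 * 2 from rfl, pow_mul, pow_two, pow_two, h] <;> simp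
          rw [← Units.val_pow_eq_pow_val, this, Units.val_one]
        rw [hc, smul_pow, one_pow] at h4
        obtain ⟨i⟩ := hR.nonempty
        have := congrFun (congrFun h4 i) i
        simpa using this
      choose c hc using hex
      exact Finite.of_injective c fun a b hab => Subtype.ext (Subtype.ext (Units.ext (by rw [hc, hc, hab])))
    exact Finite.of_subgroup_quotient (Subgroup.center R)
  have hle : R ≤ R.comap (MulAut.conj t).toMonoidHom := by
    refine hR.frame_generates he _ (fun i => by simpa using ht i) fun z hz => ?_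
    obtain ⟨c, hc⟩ := (hR.center_iff z).1 hz
    rw [Subgroup.mem_comap]
    have hzt : t * (z : G) * t⁻¹ = z := by
      rw [mul_inv_eq_iff_eq_mul]; exact Units.ext (by simp [hc])
    simp [hzt]
  have hmap : R.map (MulAut.conj t).toMonoidHom = R := by
    haveI : Finite (R : Set G) := inferInstanceAs (Finite R)
    refine Subgroup.eq_of_le_of_card_ge (Subgroup.map_le_iff_le_comap.2 hle) ?_
    rw [Nat.card_congr (R.equivMapOfInjective _ (MulAut.conj t).injective).toEquiv.symm]
  refine Subgroup.mem_normalizer_iff.2 fun y => ⟨fun hy => hmap ▸ ⟨y, hy, rfl⟩, fun hy => ?_⟩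
  have : t * y * t⁻¹ ∈ R.map (MulAut.conj t).toMonoidHom := hmap.symm ▸ hy
  obtain ⟨z, hz, hzy⟩ := this
  rwa [← (MulAut.conj t).injective (show MulAut.conj t z = MulAut.conj t y from hzy)]

end CfsgLib.MaxSub.SymFour
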