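import Mathlib

/-!
Characteristic polynomials of elements of small order of `GL₄`.
-/

set_option autoImplicit false
set_option linter.unusedSectionVars false

namespace CfsgLib.MaxSub.SymFour

open Polynomial Matrix

variable {ι : Type} [Fintype ι] [DecidableEq ι] {F : Type*} [Field F]

local notation "Mι" => Matrix ι ι F
local notation "Fb" => AlgebraicClosure F

/-- The roots of the characteristic polynomial in an algebraic closure. -/
noncomputable def rts (M : Mι) : Multiset Fb := (M.map (algebraMap F Fb)).charpoly.roots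

theorem card_rts (M : Mι) : (rts M).card = Fintype.card ι := by
  rw [rts, IsAlgClosed.card_roots_eq_natDegree, Matrix.charpoly_natDegree_eq_dim]

theorem charpoly_eq_of_rts {M M' : Mι} (h : rts M = rts M') : M.charpoly = M'.charpoly := by
  refine Polynomial.map_injective (algebraMap F Fb) (algebraMap F Fb).injective ?_
  rw [← Matrix.charpoly_map, ← Matrix.charpoly_map, (IsAlgClosed.splits (M.map (algebraMap F Fb)).charpoly).eq_prod_roots_of_monic (Matrix.charpoly_monic _),
    (IsAlgClosed.splits (M'.map (algebraMap F Fb)).charpoly).eq_prod_roots_of_monic (Matrix.charpoly_monic _)]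
  rw [rts, rts] at h
  rw [h]

theorem trace_eq_sum_rts (M : Mι) : algebraMap F Fb M.trace = (rts M).sum := by
  rw [rts, ← Matrix.trace_eq_sum_roots_charpoly, AddMonoidHom.map_trace]

theorem det_eq_prod_rts (M : Mι) : algebraMap F Fb M.det = (rts M).prod := by
  rw [rts, ← Matrix.det_eq_prod_roots_charpoly, RingHom.map_det]
  rfl

theorem exists_vec_of_mem_rts {M : Mι} {a : Fb} (h : a ∈ rts M) :
    ∃ v : ι → Fb, v ≠ 0 ∧ M.map (algebraMap F Fb) *ᵥ v = a • v := by
  rw [rts, Polynomial.mem_roots (Matrix.charpoly_monic _).ne_zero] at h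
  rw [Polynomial.IsRoot, Matrix.eval_charpoly] at h
  obtain ⟨v, hv, e⟩ := Matrix.exists_mulVec_eq_zero_iff.2 h
  refine ⟨v, hv, ?_⟩
  rw [Matrix.sub_mulVec, sub_eq_zero] at e
  rw [← e]
  simp

theorem mem_rts_of_vec {M : Mι} {a : Fb} {v : ι → Fb} (hv : v ≠ 0)
    (h : M.map (algebraMap F Fb) *ᵥ v = a • v) : a ∈ rts M := by
  rw [rts, Polynomial.mem_roots (Matrix.charpoly_monic _).ne_zero, Polynomial.IsRoot, Matrix.eval_charpoly,
    ← Matrix.exists_mulVec_eq_zero_iff]
  refine ⟨v, hv, ?_⟩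
  rw [Matrix.sub_mulVec, h]
  simp

theorem pow_mulVec {M : Mι} {a : Fb} {v : ι → Fb}
    (h : M.map (algebraMap F Fb) *ᵥ v = a • v) (k : ℕ) :
    (M ^ k).map (algebraMap F Fb) *ᵥ v = a ^ k • v := by
  induction k with
  | zero => simp
  | succ k ih =>
    rw [pow_succ, Matrix.map_mul, ← Matrix.mulVec_mulVec, h, Matrix.mulVec_smul, ih, smul_smul, pow_succ']

theorem pow_mem_rts {M : Mι} {a : Fb} (h : a ∈ rts M) (k : ℕ) : a ^ k ∈ rts (M ^ k) := by
  obtain ⟨v, hv, e⟩ := exists_vec_of_mem_rts h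
  exact mem_rts_of_vec hv (pow_mulVec e k)

/-- An eigenvalue of a matrix with a scalar power. -/
theorem pow_eq_of_mem_rts {M : Mι} {n : ℕ} {z : F} (hM : M ^ n = z • (1 : Mι)) {a : Fb} (h : a ∈ rts M) :
    a ^ n = algebraMap F Fb z := by
  obtain ⟨v, hv, e⟩ := exists_vec_of_mem_rts h
  have := pow_mulVec e n
  rw [hM, Matrix.map_smul' _ _ _ (map_mul _), Matrix.map_one _ (map_zero _) (map_one _), Matrix.smul_mulVec,
    Matrix.one_mulVec] at this
  obtain ⟨i, hi⟩ := Function.ne_iff.1 hv
  have h2 := congrFun this i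
  simp only [Pi.smul_apply, smul_eq_mul] at h2
  exact (mul_right_cancel₀ hi h2).symm

theorem rts_eq_of_charpoly {M M' : Mι} (h : M.charpoly = M'.charpoly) : rts M = rts M' := by
  rw [rts, rts, Matrix.charpoly_map, Matrix.charpoly_map, h]

/-- A nontrivial element of order prime to the characteristic has an eigenvalue other than one. -/
theorem exists_rts_ne_one [Nonempty ι] {M : Mι} {n : ℕ} (hn : (n : F) ≠ 0) (hM : M ^ n = 1) (h1 : M ≠ 1) :
    ∃ a ∈ rts M, a ≠ 1 := by
  by_contra hall
  push Not at hall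
  apply h1
  have e : M.charpoly = (X - C (1 : F)) ^ Fintype.card ι := by
    refine Polynomial.map_injective (algebraMap F Fb) (algebraMap F Fb).injective ?_
    rw [← Matrix.charpoly_map, (IsAlgClosed.splits (M.map (algebraMap F Fb)).charpoly).eq_prod_roots_of_monic
      (Matrix.charpoly_monic _)]
    have hr : (M.map (algebraMap F Fb)).charpoly.roots = Multiset.replicate (Fintype.card ι) 1 :=
      Multiset.eq_replicate.2 ⟨card_rts M, hall⟩
    rw [hr]
    simp
  obtain ⟨G, hG⟩ : ∃ G : F[X], G = ∑ i ∈ Finset.range n, X ^ i := ⟨_, rfl⟩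
  have hG1 : G.eval 1 ≠ 0 := by simpa [hG, eval_finsetSum] using hn
  have hcop : IsCoprime ((X - C (1 : F)) ^ Fintype.card ι) G := by
    refine IsCoprime.pow_left ((irreducible_X_sub_C (1 : F)).coprime_iff_not_dvd.2 fun hd => hG1 ?_)
    exact (dvd_iff_isRoot.1 hd)
  obtain ⟨a, b, hab⟩ := hcop
  rw [← e] at hab
  have h2 := congrArg (fun f => aeval M f) hab
  simp only [map_add, map_mul, map_one, Matrix.aeval_self_charpoly, mul_zero, zero_add] at h2
  have hg : aeval M G * (M - 1) = 0 := by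
    have : G * (X - C 1) = X ^ n - 1 := by rw [hG, map_one, geom_sum_mul]
    have h3 := congrArg (fun f => aeval M f) this
    simpa [hM] using h3
  have h4 : aeval M b * (aeval M G * (M - 1)) = M - 1 := by rw [← mul_assoc, h2, one_mul]
  rw [hg, mul_zero] at h4
  exact sub_eq_zero.1 h4.symm

theorem pair_of_card_four {S : Multiset Fb} {a b : Fb} (hS : S.card = 4) (ha : a ∈ S) (hb : b ∈ S) (hab : b ≠ a) :
    ∃ μ ν, S = a ::ₘ b ::ₘ μ ::ₘ {ν} := by
  obtain ⟨S₁, rfl⟩ := Multiset.exists_cons_of_mem ha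
  obtain ⟨S₂, rfl⟩ := Multiset.exists_cons_of_mem ((Multiset.mem_cons.1 hb).resolve_left hab)
  simp only [Multiset.card_cons] at hS
  obtain ⟨μ, ν, rfl⟩ := Multiset.card_eq_two.1 (by omega : S₂.card = 2)
  exact ⟨μ, ν, rfl⟩

/-- Elements of order five with Galois-stable eigenvalues have the same characteristic polynomial. -/
theorem five_unique (h4 : Fintype.card ι = 4) (h5 : (5 : F) ≠ 0) {M M' : Mι} (hM : M ^ 5 = 1) (hM1 : M ≠ 1)
    (hMc : (M ^ 2).charpoly = M.charpoly) (hM' : M' ^ 5 = 1) (hM'1 : M' ≠ 1)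
    (hM'c : (M' ^ 2).charpoly = M'.charpoly) : M.charpoly = M'.charpoly ∧ M.det = 1 := by
  classical
  haveI : Nonempty ι := Fintype.card_pos_iff.1 (by omega)
  have key : ∀ N : Mι, N ^ 5 = 1 → N ≠ 1 → (N ^ 2).charpoly = N.charpoly →
      ∃ l : Fb, IsPrimitiveRoot l 5 ∧ rts N = ({l, l ^ 2, l ^ 4, l ^ 3} : Finset Fb).val := by
    intro N hN hN1 hNc
    obtain ⟨l, hl, hl1⟩ := exists_rts_ne_one (n := 5) (by exact_mod_cast h5) hN hN1
    have hl5 : l ^ 5 = 1 := by
      rw [pow_eq_of_mem_rts (z := 1) (by rw [hN, one_smul]) hl, map_one]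
    haveI : Fact (Nat.Prime 5) := ⟨by norm_num⟩
    have hp : IsPrimitiveRoot l 5 := orderOf_eq_prime hl5 hl1 ▸ IsPrimitiveRoot.orderOf l
    refine ⟨l, hp, ?_⟩
    have hsq : ∀ a ∈ rts N, a ^ 2 ∈ rts N := fun a ha => rts_eq_of_charpoly hNc ▸ pow_mem_rts ha 2
    have h2 := hsq l hl
    have h4' : l ^ 4 ∈ rts N := by have := hsq _ h2; rwa [← pow_mul] at this
    have h3 : l ^ 3 ∈ rts N := by
      have := hsq _ h4'
      rwa [← pow_mul, show l ^ (4 * 2) = l ^ 3 by rw [show 4 * 2 = 5 + 3 from rfl, pow_add, hl5, one_mul]] at this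
    have hne : ∀ i j, i < 5 → j < 5 → l ^ i = l ^ j → i = j := fun i j hi hj => hp.pow_inj hi hj
    have hc : ({l, l ^ 2, l ^ 4, l ^ 3} : Finset Fb).card = 4 := by
      rw [Finset.card_eq_four]
      refine ⟨l, l ^ 2, l ^ 4, l ^ 3, ?_, ?_, ?_, ?_, ?_, ?_, rfl⟩
      all_goals intro e
      · exact absurd (hne 1 2 (by norm_num) (by norm_num) (by simpa using e)) (by norm_num)
      · exact absurd (hne 1 4 (by norm_num) (by norm_num) (by simpa using e)) (by norm_num)
      · exact absurd (hne 1 3 (by norm_num) (by norm_num) (by simpa using e)) (by norm_num)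
      · exact absurd (hne 2 4 (by norm_num) (by norm_num) e) (by norm_num)
      · exact absurd (hne 2 3 (by norm_num) (by norm_num) e) (by norm_num)
      · exact absurd (hne 4 3 (by norm_num) (by norm_num) e) (by norm_num)
    refine (Multiset.eq_of_le_of_card_le ((Multiset.le_iff_subset (Finset.nodup _)).2 ?_) ?_).symm
    · intro a ha
      simp only [Finset.mem_val, Finset.mem_insert, Finset.mem_singleton] at ha
      rcases ha with rfl | rfl | rfl | rfl
      · exact hl
      · exact h2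
      · exact h4'
      · exact h3
    · rw [card_rts, h4, Finset.card_val, hc]
  obtain ⟨l, hl, el⟩ := key M hM hM1 hMc
  obtain ⟨m, hm, em⟩ := key M' hM' hM'1 hM'c
  constructor
  · refine charpoly_eq_of_rts ?_
    rw [el, em]
    congr 1
    haveI : NeZero (5 : ℕ) := ⟨by norm_num⟩
    obtain ⟨i, hi, rfl⟩ := hl.eq_pow_of_pow_eq_one hm.pow_eq_one
    have h5' : ∀ a b, a % 5 = b % 5 → l ^ a = l ^ b := fun a b h => by
      rw [pow_eq_pow_mod a hl.pow_eq_one, pow_eq_pow_mod b hl.pow_eq_one, h]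
    interval_cases i
    · exact absurd (by simp : l ^ 0 = 1) (hm.ne_one (by norm_num))
    all_goals ext a; simp only [Finset.mem_insert, Finset.mem_singleton, pow_one, ← pow_mul]
    · norm_num
      rw [h5' 8 3 rfl, h5' 6 1 rfl, pow_one]; tauto
    · norm_num
      rw [h5' 6 1 rfl, h5' 12 2 rfl, h5' 9 4 rfl, pow_one]; tauto
    · norm_num
      rw [h5' 8 3 rfl, h5' 16 1 rfl, h5' 12 2 rfl, pow_one]; tauto
  · apply (algebraMap F Fb).injective
    rw [det_eq_prod_rts, el, map_one]
    have hne : ∀ i j, i < 5 → j < 5 → i ≠ j → l ^ i ≠ l ^ j := fun i j hi hj hij e => hij (hl.pow_inj hi hj e)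
    have e1 : l ∉ ({l ^ 2, l ^ 4, l ^ 3} : Finset Fb) := by
      simp only [Finset.mem_insert, Finset.mem_singleton, not_or]
      refine ⟨?_, ?_, ?_⟩
      all_goals first
        | simpa using hne 1 2 (by norm_num) (by norm_num) (by norm_num)
        | simpa using hne 1 4 (by norm_num) (by norm_num) (by norm_num)
        | simpa using hne 1 3 (by norm_num) (by norm_num) (by norm_num)
    rw [Finset.prod_val, Finset.prod_insert e1, Finset.prod_insert, Finset.prod_insert, Finset.prod_singleton]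
    · simp only [id_eq]
      linear_combination (l ^ 5 + 1) * hl.pow_eq_one
    · simp only [Finset.mem_singleton]; exact hne 4 3 (by norm_num) (by norm_num) (by norm_num)
    · simp only [Finset.mem_insert, Finset.mem_singleton, not_or]
      exact ⟨hne 2 4 (by norm_num) (by norm_num) (by norm_num), hne 2 3 (by norm_num) (by norm_num) (by norm_num)⟩

/-- Elements of order three with Galois-stable eigenvalues are determined by the trace. -/
theorem three_unique (h4 : Fintype.card ι = 4) (h3 : (3 : F) ≠ 0) {M M' : Mι} (hM : M ^ 3 = 1) (hM1 : M ≠ 1)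
    (hMd : M.det = 1) (hMc : (M ^ 2).charpoly = M.charpoly) :
    (M.trace = 1 ∨ M.trace = -2) ∧ (M' ^ 3 = 1 → M' ≠ 1 → M'.det = 1 → (M' ^ 2).charpoly = M'.charpoly →
      M.trace = M'.trace → M.charpoly = M'.charpoly) := by
  classical
  haveI : Nonempty ι := Fintype.card_pos_iff.1 (by omega)
  have key : ∀ N : Mι, N ^ 3 = 1 → N ≠ 1 → N.det = 1 → (N ^ 2).charpoly = N.charpoly →
      ∃ l : Fb, l ^ 3 = 1 ∧ l ≠ 1 ∧
        ((rts N = l ::ₘ l ^ 2 ::ₘ 1 ::ₘ {1} ∧ N.trace = 1) ∨
          (rts N = l ::ₘ l ^ 2 ::ₘ l ::ₘ {l ^ 2} ∧ N.trace = -2)) := by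
    intro N hN hN1 hNd hNc
    obtain ⟨l, hl, hl1⟩ := exists_rts_ne_one (n := 3) (by exact_mod_cast h3) hN hN1
    have hcube : ∀ a ∈ rts N, a ^ 3 = 1 := fun a ha => by
      rw [pow_eq_of_mem_rts (z := 1) (by rw [hN, one_smul]) ha, map_one]
    have hl3 := hcube l hl
    have hl2 : l ^ 2 ∈ rts N := rts_eq_of_charpoly hNc ▸ pow_mem_rts hl 2
    have hlsum : 1 + l + l ^ 2 = 0 :=
      (mul_eq_zero.1 (show (l - 1) * (1 + l + l ^ 2) = 0 by linear_combination hl3)).resolve_left
        (sub_ne_zero.2 hl1)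
    have hl0 : l ≠ 0 := by rintro rfl; simp at hl3
    have hne : l ^ 2 ≠ l := fun e => hl1 (mul_left_cancel₀ hl0 (by linear_combination e))
    obtain ⟨μ, ν, e⟩ := pair_of_card_four ((card_rts N).trans h4) hl hl2 hne
    have hμν : μ * ν = 1 := by
      have := det_eq_prod_rts N
      rw [hNd, map_one, e] at this
      simp only [Multiset.prod_cons, Multiset.prod_singleton] at this
      linear_combination -this - μ * ν * hl3
    have hμ3 := hcube μ (by rw [e]; simp)
    have hμ : μ = 1 ∨ μ = l ∨ μ = l ^ 2 := by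
      have : (μ - 1) * ((μ - l) * (μ - l ^ 2)) = 0 := by
        linear_combination hμ3 + (μ - 1) * hl3 + (μ - μ ^ 2) * hlsum
      rcases mul_eq_zero.1 this with h | h
      · exact Or.inl (sub_eq_zero.1 h)
      · exact Or.inr ((mul_eq_zero.1 h).imp sub_eq_zero.1 sub_eq_zero.1)
    have hν : ν = μ ^ 2 := by linear_combination μ ^ 2 * hμν - ν * hμ3
    have hsum := trace_eq_sum_rts N
    rw [e] at hsum
    simp only [Multiset.sum_cons, Multiset.sum_singleton] at hsum
    refine ⟨l, hl3, hl1, ?_⟩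
    rcases hμ with rfl | rfl | rfl
    · refine Or.inl ⟨by rw [e, hν, one_pow], ?_⟩
      apply (algebraMap F Fb).injective
      rw [hsum, hν, map_one]; linear_combination hlsum
    · refine Or.inr ⟨by rw [e, hν], ?_⟩
      apply (algebraMap F Fb).injective
      rw [hsum, hν, map_neg, map_ofNat]; linear_combination 2 * hlsum
    · refine Or.inr ⟨?_, ?_⟩
      · rw [e, hν, show (l ^ 2) ^ 2 = l by linear_combination l * hl3]
        congr 1
        congr 1
        exact Multiset.cons_swap _ _ 0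
      · apply (algebraMap F Fb).injective
        rw [hsum, hν, map_neg, map_ofNat]; linear_combination 2 * hlsum + l * hl3
  obtain ⟨l, hl3, hl1, hl⟩ := key M hM hM1 hMd hMc
  refine ⟨hl.imp And.right And.right, fun hM' hM'1 hM'd hM'c htr => ?_⟩
  obtain ⟨m, hm3, hm1, hm⟩ := key M' hM' hM'1 hM'd hM'c
  have hne : (1 : F) ≠ -2 := fun e => h3 (by linear_combination e)
  have hlm : m = l ∨ m = l ^ 2 := by
    have hlsum : 1 + l + l ^ 2 = 0 :=
      (mul_eq_zero.1 (show (l - 1) * (1 + l + l ^ 2) = 0 by linear_combination hl3)).resolve_left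
        (sub_ne_zero.2 hl1)
    have : (m - 1) * ((m - l) * (m - l ^ 2)) = 0 := by
      linear_combination hm3 + (m - 1) * hl3 + (m - m ^ 2) * hlsum
    rcases mul_eq_zero.1 this with h | h
    · exact absurd (sub_eq_zero.1 h) hm1
    · exact (mul_eq_zero.1 h).imp sub_eq_zero.1 sub_eq_zero.1
  have hl4 : (l ^ 2) ^ 2 = l := by linear_combination l * hl3
  apply charpoly_eq_of_rts
  rcases hl with ⟨e, t⟩ | ⟨e, t⟩ <;> rcases hm with ⟨e', t'⟩ | ⟨e', t'⟩
  · rw [e, e']
    rcases hlm with rfl | rfl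
    · rfl
    · rw [hl4]; exact Multiset.cons_swap _ _ _
  · exact absurd (t.symm.trans (htr.trans t')) hne
  · exact absurd (t.symm.trans (htr.trans t')) (Ne.symm hne)
  · rw [e, e']
    rcases hlm with rfl | rfl
    · rfl
    · rw [hl4, Multiset.cons_swap]
      congr 2
      exact Multiset.cons_swap _ _ 0

theorem exists_neg_count {s : Fb} {S : Multiset Fb} (h : ∀ a ∈ S, a = s ∨ a = -s) :
    ∃ a b : ℕ, S = Multiset.replicate a s + Multiset.replicate b (-s) ∧ a + b = S.card := by
  induction S using Multiset.induction_on with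
  | empty => exact ⟨0, 0, by simp, by simp⟩
  | cons x S ih =>
    obtain ⟨a, b, e, hab⟩ := ih fun y hy => h y (Multiset.mem_cons_of_mem hy)
    rcases h x (Multiset.mem_cons_self x S) with hx | hx
    · exact ⟨a + 1, b, by rw [hx, e, Multiset.replicate_succ, Multiset.cons_add], by simp [← hab]; omega⟩
    · exact ⟨a, b + 1, by rw [hx, e, Multiset.replicate_succ, Multiset.add_cons], by simp [← hab]; omega⟩

/-- The shape of a four-dimensional matrix whose square is scalar. -/
theorem rts_of_sq (h4 : Fintype.card ι = 4) {M : Mι} {z : F} (hM : M ^ 2 = z • (1 : Mι)) {s : Fb}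
    (hs : s ^ 2 = algebraMap F Fb z) :
    ∃ k : ℕ, k ≤ 4 ∧ rts M = Multiset.replicate k s + Multiset.replicate (4 - k) (-s) ∧
      algebraMap F Fb M.trace = ((k : Fb) - ((4 - k : ℕ) : Fb)) * s ∧
      algebraMap F Fb M.det = (-1) ^ (4 - k) * s ^ 4 := by
  obtain ⟨a, b, e, hab⟩ := exists_neg_count (s := s) (S := rts M) fun x hx =>
    sq_eq_sq_iff_eq_or_eq_neg.1 ((pow_eq_of_mem_rts hM hx).trans hs.symm)
  rw [card_rts, h4] at hab
  obtain rfl : b = 4 - a := by omega
  refine ⟨a, by omega, e, ?_, ?_⟩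
  · rw [trace_eq_sum_rts, e]
    simp only [Multiset.sum_add, Multiset.sum_replicate, nsmul_eq_mul]
    ring
  · rw [det_eq_prod_rts, e, Multiset.prod_add, Multiset.prod_replicate, Multiset.prod_replicate, neg_pow,
      mul_left_comm, ← pow_add, show a + (4 - a) = 4 by omega]

theorem two_ne_map (h2 : (2 : F) ≠ 0) : (2 : Fb) ≠ 0 := fun h =>
  h2 ((algebraMap F Fb).injective (by rw [map_ofNat, map_zero, h]))

/-- A matrix with scalar square and trace zero. -/
theorem sq_scalar_unique (h4 : Fintype.card ι = 4) (h2 : (2 : F) ≠ 0) {M M' : Mι} {z : F} (hz : z ≠ 0)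
    (hM : M ^ 2 = z • (1 : Mι)) (hM0 : M.trace = 0) (hM' : M' ^ 2 = z • (1 : Mι)) (hM'0 : M'.trace = 0) :
    M.charpoly = M'.charpoly := by
  have h2' := two_ne_map h2
  obtain ⟨s, hs⟩ := IsAlgClosed.exists_pow_nat_eq (algebraMap F Fb z) (n := 2) (by norm_num)
  have hs0 : s ≠ 0 := fun h => hz ((algebraMap F Fb).injective (by rw [← hs, h, map_zero]; simp))
  have key : ∀ N : Mι, N ^ 2 = z • (1 : Mι) → N.trace = 0 →
      rts N = Multiset.replicate 2 s + Multiset.replicate 2 (-s) := by
    intro N hN hN0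
    obtain ⟨k, hk, e, htr, -⟩ := rts_of_sq h4 hN hs
    rw [hN0, map_zero] at htr
    have h0 := (mul_eq_zero.1 htr.symm).resolve_right hs0
    interval_cases k
    · norm_num at h0
      exact absurd (show (2 : Fb) * 2 = 0 by linear_combination h0) (mul_ne_zero h2' h2')
    · norm_num at h0
      exact absurd h0 h2'
    · exact e
    · norm_num at h0
      exact absurd h0 h2'
    · norm_num at h0
      exact absurd (show (2 : Fb) * 2 = 0 by linear_combination h0) (mul_ne_zero h2' h2')
  exact charpoly_eq_of_rts ((key M hM hM0).trans (key M' hM' hM'0).symm)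

/-- A nonscalar involution is determined up to similarity by its trace. -/
theorem involution_shape (h4 : Fintype.card ι = 4) (h2 : (2 : F) ≠ 0) {M : Mι} (hM : M ^ 2 = 1)
    (hns : ∀ c : F, M ≠ c • (1 : Mι)) :
    ((M.det = 1 ∧ M.trace = 0) ∨ (M.det = -1 ∧ (M.trace = 2 ∨ M.trace = -2))) ∧
      ∀ M' : Mι, M' ^ 2 = 1 → (∀ c : F, M' ≠ c • (1 : Mι)) → M.trace = M'.trace → M.charpoly = M'.charpoly := by
  haveI : Nonempty ι := Fintype.card_pos_iff.1 (by omega)
  have h2' := two_ne_map h2
  have key : ∀ N : Mι, N ^ 2 = 1 → (∀ c : F, N ≠ c • (1 : Mι)) →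
      ∃ k, (k = 1 ∨ k = 2 ∨ k = 3) ∧ rts N = Multiset.replicate k (1 : Fb) + Multiset.replicate (4 - k) (-1) ∧
        algebraMap F Fb N.trace = (k : Fb) - ((4 - k : ℕ) : Fb) ∧ algebraMap F Fb N.det = (-1) ^ (4 - k) := by
    intro N hN hns
    obtain ⟨k, hk, e, htr, hdet⟩ := rts_of_sq (M := N) h4 (z := (1 : F)) (s := (1 : Fb)) (by rw [hN, one_smul]) (by simp)
    refine ⟨k, ?_, e, by simpa using htr, by simpa using hdet⟩
    obtain ⟨a, ha, ha1⟩ := exists_rts_ne_one (n := 2) (by exact_mod_cast h2) hN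
      (fun h => hns 1 (by rw [h, one_smul]))
    have hN' : (-N) ^ 2 = 1 := by rw [neg_sq, hN]
    obtain ⟨b, hb, hb1⟩ := exists_rts_ne_one (n := 2) (by exact_mod_cast h2) hN'
      (fun h => hns (-1) (by rw [neg_smul, one_smul, ← h, neg_neg]))
    have hk4 : k ≠ 4 := by
      rintro rfl
      rw [e] at ha
      simp at ha
      exact ha1 ha
    have hk0 : k ≠ 0 := by
      rintro rfl
      obtain ⟨v, hv, ev⟩ := exists_vec_of_mem_rts hb
      have : -b ∈ rts N := mem_rts_of_vec hv (by
        rw [neg_smul, ← ev, show (-N).map (algebraMap F Fb) = -(N.map (algebraMap F Fb)) from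
          Matrix.ext fun i j => by simp, Matrix.neg_mulVec, neg_neg])
      rw [e] at this
      simp at this
      exact hb1 this
    omega
  obtain ⟨k, hk, e, htr, hdet⟩ := key M hM hns
  have hinj : ∀ {u v : F}, algebraMap F Fb u = algebraMap F Fb v → u = v := fun h => (algebraMap F Fb).injective h
  refine ⟨?_, fun M' hM' hns' ht => ?_⟩
  · rcases hk with rfl | rfl | rfl
    · refine Or.inr ⟨hinj (by rw [hdet]; norm_num), Or.inr (hinj (by rw [htr, map_neg, map_ofNat]; norm_num))⟩
    · exact Or.inl ⟨hinj (by rw [hdet]; norm_num), hinj (by rw [htr]; norm_num)⟩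
    · refine Or.inr ⟨hinj (by rw [hdet]; norm_num), Or.inl (hinj (by rw [htr, map_ofNat]; norm_num))⟩
  · obtain ⟨k', hk', e', htr', -⟩ := key M' hM' hns'
    rw [ht, htr'] at htr
    have hkk : k = k' := by
      rcases hk with rfl | rfl | rfl <;> rcases hk' with rfl | rfl | rfl <;> norm_num at htr <;>
        first
          | rfl
          | exact absurd htr h2'
          | exact absurd htr.symm h2'
          | exact absurd (show (2 : Fb) * 2 = 0 by linear_combination htr) (mul_ne_zero h2' h2')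
          | exact absurd (show (2 : Fb) * 2 = 0 by linear_combination -htr) (mul_ne_zero h2' h2')
          | exact absurd (show (2 : Fb) = 0 by linear_combination htr) h2'
          | exact absurd (show (2 : Fb) = 0 by linear_combination -htr) h2'
    exact charpoly_eq_of_rts (by rw [e, e', hkk])

/-- A matrix of determinant one whose square is a primitive fourth root of unity. -/
theorem isSquare_of_sq (h4 : Fintype.card ι = 4) (h2 : (2 : F) ≠ 0) {M : Mι} {z : F} (hz : z ^ 2 = -1)
    (hM : M ^ 2 = z • (1 : Mι)) (hd : M.det = 1) : IsSquare z := by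
  obtain ⟨s, hs⟩ := IsAlgClosed.exists_pow_nat_eq (algebraMap F Fb z) (n := 2) (by norm_num)
  obtain ⟨k, hk, -, htr, hdet⟩ := rts_of_sq h4 hM hs
  have hs4 : s ^ 4 = -1 := by
    rw [show (4 : ℕ) = 2 * 2 from rfl, pow_mul, hs, ← map_pow, hz, map_neg, map_one]
  rw [hd, map_one, hs4] at hdet
  have h2' := two_ne_map h2
  have hodd : k = 1 ∨ k = 3 := by
    interval_cases k <;> norm_num at hdet ⊢
    all_goals exact absurd (show (2 : Fb) = 0 by linear_combination hdet) h2'
  refine ⟨M.trace / 2, ?_⟩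
  apply (algebraMap F Fb).injective
  rw [map_mul, map_div₀, map_ofNat, htr, ← hs]
  rcases hodd with rfl | rfl <;> (norm_num; field_simp)

/-- Frobenius acts on characteristic polynomials. -/
theorem charpoly_pow_char (p : ℕ) [Fact p.Prime] [CharP F p] (M : Mι) :
    (M ^ p).charpoly = M.charpoly.map (frobenius F p) := by
  rcases isEmpty_or_nonempty ι with h | h
  · simp [Matrix.charpoly, Matrix.det_isEmpty]
  refine Polynomial.expand_injective (Fact.out : p.Prime).pos ?_
  rw [← Polynomial.map_expand, Polynomial.map_frobenius_expand]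
  unfold Matrix.charpoly
  rw [AlgHom.map_det, ← Matrix.det_pow]
  congr 1
  refine matPolyEquiv.injective ?_
  rw [map_pow, matPolyEquiv_charmatrix, sub_pow_char_of_commute _ (C M).commute_X, ← C_pow]
  exact (id (matPolyEquiv_eq_X_pow_sub_C p M) :)

end CfsgLib.MaxSub.SymFour
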