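import Cfsg.Agent.Lib.MaxSub.SympTypeFourApply
import Cfsg.Agent.Lib.AschSp.SympType
import Cfsg.Agent.Lib.Classical.SemiSymp

/-!
Elements of prime order of `Sp₄(p)` and the normaliser of an extraspecial group of order 32 of minus type.
-/

set_option autoImplicit false
set_option linter.unusedSectionVars false
set_option linter.style.haveILetI false
set_option maxHeartbeats 1000000

namespace CfsgLib.MaxSub.SymFour.Symp

open scoped MatrixGroups
open Cfsg.Geo Matrix CfsgLib.MaxSub.SymFour CfsgLib.AschSp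

variable {F : Type*} [Field F] {p : ℕ}

local notation "ιS" => (Fin 2 ⊕ Fin 2)
local notation "MS" => Matrix (Fin 2 ⊕ Fin 2) (Fin 2 ⊕ Fin 2) F
local notation "M2" => Matrix (Fin 2) (Fin 2) F

theorem anti_adj : Anti (RingHom.id F) (adj (m := 2) (F := F)) where
  add X Y := adj_add X Y
  mul X Y := adj_mul X Y
  smul c X := adj_smul c X
  one := adj_one

theorem mem_sp {g : GL ιS F} : g ∈ Cfsg.spGL 2 F ↔ adj (g : MS) * (g : MS) = 1 :=
  ⟨adj_mul_self_of_mem, mem_spGL_of_adj⟩

theorem adj_blocks (A B C D : M2) :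
    adj (fromBlocks A B C D) = fromBlocks Dᵀ (-Bᵀ) (-Cᵀ) Aᵀ := by
  simp [adj, Matrix.J, fromBlocks_transpose, fromBlocks_multiply, fromBlocks_neg]

theorem trace_adj (a : MS) : (adj a).trace = a.trace := by
  rw [adj, Matrix.trace_neg, Matrix.trace_mul_comm, ← mul_assoc, J_mul_J, neg_one_mul, Matrix.trace_neg, neg_neg,
    Matrix.trace_transpose]

theorem mem_symplecticGroup {g : GL ιS F} (hg : g ∈ Cfsg.spGL 2 F) : (g : MS) ∈ Matrix.symplecticGroup (Fin 2) F := by
  rw [SymplecticGroup.mem_iff']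
  have h := adj_mul_self_of_mem hg
  have h1 := congrArg (Matrix.J (Fin 2) F * ·) h
  simp only [← mul_assoc, J_adj, mul_one] at h1
  exact h1

theorem det_eq_one {g : GL ιS F} (hg : g ∈ Cfsg.spGL 2 F) : (g : MS).det = 1 :=
  SymplecticGroup.det_eq_one (mem_symplecticGroup hg)

theorem scalar_sq {g : GL ιS F} (hg : g ∈ Cfsg.spGL 2 F) {c : F} (hc : (g : MS) = c • (1 : MS)) : c ^ 2 = 1 := by
  have h := adj_mul_self_of_mem hg
  rw [hc, adj_smul, adj_one, smul_mul_smul_comm, one_mul] at h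
  have := congrFun (congrFun h (Sum.inl 0)) (Sum.inl 0)
  simpa [pow_two] using this

theorem scalar_mem {s : GL ιS F} {c : F} (hs : (s : MS) = c • (1 : MS)) (hc : c ^ 2 = 1) : s ∈ Cfsg.spGL 2 F := by
  rw [mem_sp, hs, adj_smul, adj_one, smul_mul_smul_comm, one_mul, ← pow_two, hc, one_smul]

/-- A two-by-two matrix on the first hyperbolic pair. -/
def emb (a b c d : F) : Matrix (Fin 2 ⊕ Fin 2) (Fin 2 ⊕ Fin 2) F :=
  fromBlocks !![a, 0; 0, 1] !![b, 0; 0, 0] !![c, 0; 0, 0] !![d, 0; 0, 1]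

theorem emb_mul (a b c d a' b' c' d' : F) :
    emb a b c d * emb a' b' c' d' = emb (a * a' + b * c') (a * b' + b * d') (c * a' + d * c') (c * b' + d * d') := by
  simp only [emb, fromBlocks_multiply]
  congr 1 <;> ext i j <;> fin_cases i <;> fin_cases j <;> simp

theorem emb_one : emb (1 : F) 0 0 1 = 1 := by
  rw [emb, ← fromBlocks_one]
  congr 1 <;> ext i j <;> fin_cases i <;> fin_cases j <;> simp

theorem emb_adj (a b c d : F) : adj (emb a b c d) = emb d (-b) (-c) a := by
  rw [emb, adj_blocks, emb]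
  congr 1 <;> ext i j <;> fin_cases i <;> fin_cases j <;> simp

theorem emb_trace (a b c d : F) : (emb a b c d).trace = a + d + 2 := by
  simp [emb, Matrix.trace, Fintype.sum_sum_type, Fin.sum_univ_two]; ring

theorem exists_emb {a b c d : F} (h : a * d - b * c = 1) :
    ∃ x : GL ιS F, x ∈ Cfsg.spGL 2 F ∧ (x : MS) = emb a b c d ∧ ((x⁻¹ : GL ιS F) : MS) = emb d (-b) (-c) a := by
  have e1 : emb a b c d * emb d (-b) (-c) a = 1 := by
    rw [emb_mul, ← emb_one]; congr 1 <;> first | linear_combination h | ring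
  have e2 := mul_eq_one_comm.1 e1
  refine ⟨⟨emb a b c d, _, e1, e2⟩, ?_, rfl, rfl⟩
  rw [mem_sp]
  show adj (emb a b c d) * emb a b c d = 1
  rw [emb_adj, e2]

/-- Every element of order `r` has a conjugate in the normaliser. -/
def AllFix (R : Subgroup (GL (Fin 2 ⊕ Fin 2) F)) (r : ℕ) : Prop :=
  ∀ x ∈ Cfsg.spGL 2 F,
    (∃ z : F, ((x ^ r : GL (Fin 2 ⊕ Fin 2) F) : Matrix (Fin 2 ⊕ Fin 2) (Fin 2 ⊕ Fin 2) F) =
      z • (1 : Matrix (Fin 2 ⊕ Fin 2) (Fin 2 ⊕ Fin 2) F)) →
      (∀ z : F, (x : Matrix (Fin 2 ⊕ Fin 2) (Fin 2 ⊕ Fin 2) F) ≠ z • (1 : Matrix (Fin 2 ⊕ Fin 2) (Fin 2 ⊕ Fin 2) F)) →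
      ∃ g ∈ Cfsg.spGL 2 F, g⁻¹ * x * g ∈ subgroupNormalizer R

variable {R : Subgroup (GL (Fin 2 ⊕ Fin 2) F)} (hR : Pauli R) (hRf : R ≤ Cfsg.spGL 2 F)
include hR hRf

theorem adj_rep {y : GL ιS F} (hy : y ∈ R) :
    (y * y = 1 → adj (y : MS) = (y : MS)) ∧ (y * y = -1 → adj (y : MS) = -(y : MS)) := by
  have h := adj_eq_inv_of_mem (hRf hy)
  refine ⟨fun e => ?_, fun e => ?_⟩
  · rw [h, inv_eq_of_mul_eq_one_right e]
  · rw [h, inv_eq_of_mul_eq_one_right (show y * -y = 1 by rw [mul_neg, e, neg_neg]), Units.val_neg]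

/-- Six of the sixteen cosets of the centre consist of involutions. -/
theorem six : Nat.card {Q : R ⧸ Subgroup.center R // ((Q.out : R) : GL ιS F) * (Q.out : R) = 1} = 6 := by
  classical
  haveI := hR.finite_quot
  letI := Fintype.ofFinite (R ⧸ Subgroup.center R)
  have h2 := hR.two
  obtain ⟨P, hP⟩ : ∃ P : R ⧸ Subgroup.center R → Prop,
      P = fun Q => ((Q.out : R) : GL ιS F) * (Q.out : R) = 1 := ⟨_, rfl⟩
  have hli := hR.linearIndependent
  obtain ⟨L6, hL6⟩ : ∃ L : MS →ₗ[F] (Fin 6 → F), ∀ a, L a =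
      ![a (.inl 0) (.inl 0), a (.inl 0) (.inl 1), a (.inl 1) (.inl 0), a (.inl 1) (.inl 1),
        a (.inl 0) (.inr 1), a (.inr 0) (.inl 1)] :=
    ⟨{ toFun := fun a => ![a (.inl 0) (.inl 0), a (.inl 0) (.inl 1), a (.inl 1) (.inl 0), a (.inl 1) (.inl 1),
        a (.inl 0) (.inr 1), a (.inr 0) (.inl 1)]
       map_add' := fun a b => by funext i; fin_cases i <;> simp
       map_smul' := fun c a => by funext i; fin_cases i <;> simp }, fun a => rfl⟩
  obtain ⟨L10, hL10⟩ : ∃ L : MS →ₗ[F] (Fin 10 → F), ∀ a, L a =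
      ![a (.inl 0) (.inl 0), a (.inl 0) (.inl 1), a (.inl 1) (.inl 0), a (.inl 1) (.inl 1),
        a (.inl 0) (.inr 0), a (.inl 0) (.inr 1), a (.inl 1) (.inr 1),
        a (.inr 0) (.inl 0), a (.inr 0) (.inl 1), a (.inr 1) (.inl 1)] :=
    ⟨{ toFun := fun a => ![a (.inl 0) (.inl 0), a (.inl 0) (.inl 1), a (.inl 1) (.inl 0), a (.inl 1) (.inl 1),
        a (.inl 0) (.inr 0), a (.inl 0) (.inr 1), a (.inl 1) (.inr 1),
        a (.inr 0) (.inl 0), a (.inr 0) (.inl 1), a (.inr 1) (.inl 1)]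
       map_add' := fun a b => by funext i; fin_cases i <;> simp
       map_smul' := fun c a => by funext i; fin_cases i <;> simp }, fun a => rfl⟩
  obtain ⟨Sp, hSp⟩ : ∃ S : Submodule F MS, ∀ a, a ∈ S ↔ adj a = a :=
    ⟨{ carrier := {a | adj a = a}
       add_mem' := fun {a b} ha hb => by show adj (a + b) = a + b; rw [adj_add, ha, hb]
       zero_mem' := adj_zero
       smul_mem' := fun c a ha => by show adj (c • a) = c • a; rw [adj_smul, ha] }, fun a => Iff.rfl⟩
  obtain ⟨Sm, hSm⟩ : ∃ S : Submodule F MS, ∀ a, a ∈ S ↔ adj a = -a :=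
    ⟨{ carrier := {a | adj a = -a}
       add_mem' := fun {a b} ha hb => by show adj (a + b) = -(a + b); rw [adj_add, ha, hb, neg_add]
       zero_mem' := by show adj 0 = -0; rw [adj_zero, neg_zero]
       smul_mem' := fun c a ha => by show adj (c • a) = -(c • a); rw [adj_smul, ha, smul_neg] }, fun a => Iff.rfl⟩
  have key : ∀ v : F, v = -v → v = 0 := fun v hv =>
    (mul_eq_zero.1 (show (2 : F) * v = 0 by linear_combination hv)).resolve_left h2
  have inj6 : Disjoint Sp (LinearMap.ker L6) := by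
    rw [Submodule.disjoint_def]
    intro a ha hk
    rw [hSp, ← fromBlocks_toBlocks a, adj_blocks, fromBlocks_inj] at ha
    obtain ⟨h11, h12, h21, -⟩ := ha
    rw [LinearMap.mem_ker, hL6] at hk
    have k0 := congrFun hk 0; have k1 := congrFun hk 1; have k2 := congrFun hk 2
    have k3 := congrFun hk 3; have k4 := congrFun hk 4; have k5 := congrFun hk 5
    simp at k0 k1 k2 k3 k4 k5
    have a00 := congrFun (congrFun h11 0) 0; have a01 := congrFun (congrFun h11 0) 1
    have a10 := congrFun (congrFun h11 1) 0; have a11 := congrFun (congrFun h11 1) 1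
    have b00 := congrFun (congrFun h12 0) 0; have b11 := congrFun (congrFun h12 1) 1
    have b10 := congrFun (congrFun h12 1) 0
    have c00 := congrFun (congrFun h21 0) 0; have c11 := congrFun (congrFun h21 1) 1
    have c10 := congrFun (congrFun h21 1) 0
    simp [toBlocks₁₁, toBlocks₁₂, toBlocks₂₁, toBlocks₂₂] at a00 a01 a10 a11 b00 b11 b10 c00 c11 c10
    have z1 := key _ b00.symm; have z2 := key _ b11.symm; have z3 := key _ c00.symm; have z4 := key _ c11.symm
    ext i j
    rcases i with i | i <;> rcases j with j | j <;> fin_cases i <;> fin_cases j <;> (simp; grind)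
  have inj10 : Disjoint Sm (LinearMap.ker L10) := by
    rw [Submodule.disjoint_def]
    intro a ha hk
    rw [hSm, ← fromBlocks_toBlocks a, adj_blocks, fromBlocks_neg, fromBlocks_inj] at ha
    obtain ⟨h11, h12, h21, -⟩ := ha
    rw [LinearMap.mem_ker, hL10] at hk
    have k0 := congrFun hk 0; have k1 := congrFun hk 1; have k2 := congrFun hk 2
    have k3 := congrFun hk 3; have k4 := congrFun hk 4; have k5 := congrFun hk 5
    have k6 := congrFun hk 6; have k7 := congrFun hk 7; have k8 := congrFun hk 8; have k9 := congrFun hk 9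
    simp at k0 k1 k2 k3 k4 k5 k6 k7 k8 k9
    have a00 := congrFun (congrFun h11 0) 0; have a01 := congrFun (congrFun h11 0) 1
    have a10 := congrFun (congrFun h11 1) 0; have a11 := congrFun (congrFun h11 1) 1
    have b10 := congrFun (congrFun h12 1) 0
    have c10 := congrFun (congrFun h21 1) 0
    simp [toBlocks₁₁, toBlocks₁₂, toBlocks₂₁, toBlocks₂₂] at a00 a01 a10 a11 b10 c10
    ext i j
    rcases i with i | i <;> rcases j with j | j <;> fin_cases i <;> fin_cases j <;> (simp; grind)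
  have hsign : ∀ Q, ¬ P Q → ((Q.out : R) : GL ιS F) * (Q.out : R) = -1 := fun Q hQ =>
    (hR.sq _ (Q.out : R).2).resolve_left (fun h => hQ (hP ▸ h))
  have cp : Fintype.card {Q // P Q} ≤ 6 := by
    have hv : LinearIndependent F fun Q : {Q // P Q} => (((Q.1.out : R) : GL ιS F) : MS) :=
      hli.comp _ Subtype.val_injective
    have := (hv.map (f := L6) (inj6.mono_left (Submodule.span_le.2 (by
      rintro _ ⟨Q, rfl⟩
      exact (hSp _).2 ((adj_rep hR hRf (Q.1.out : R).2).1 ((iff_of_eq (congrFun hP Q.1)).1 Q.2)))))).fintype_card_le_finrank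
    rwa [Module.finrank_fin_fun] at this
  have cm : Fintype.card {Q // ¬ P Q} ≤ 10 := by
    have hv : LinearIndependent F fun Q : {Q // ¬ P Q} => (((Q.1.out : R) : GL ιS F) : MS) :=
      hli.comp _ Subtype.val_injective
    have := (hv.map (f := L10) (inj10.mono_left (Submodule.span_le.2 (by
      rintro _ ⟨Q, rfl⟩
      exact (hSm _).2 ((adj_rep hR hRf (Q.1.out : R).2).2 (hsign _ Q.2)))))).fintype_card_le_finrank
    rwa [Module.finrank_fin_fun] at this
  have htot := Fintype.card_subtype_compl P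
  have h16 := hR.quot
  rw [Nat.card_eq_fintype_card] at h16
  rw [h16] at htot
  show Nat.card {Q : R ⧸ Subgroup.center R // ((Q.out : R) : GL ιS F) * (Q.out : R) = 1} = 6
  rw [Nat.card_congr (Equiv.subtypeEquivRight (p := fun Q => ((Q.out : R) : GL ιS F) * (Q.out : R) = 1) (q := P)
    (fun Q => by rw [hP])), Nat.card_eq_fintype_card]
  omega

theorem center_sq (hz : Nat.card (Subgroup.center R) = 2) :
    ∀ z : R, z ∈ Subgroup.center R → (z : GL ιS F) * z = 1 := by
  intro z hzc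
  have h := pow_card_eq_one' (x := (⟨z, hzc⟩ : Subgroup.center R))
  rw [hz, pow_two] at h
  exact congrArg (fun u : Subgroup.center R => ((u : R) : GL ιS F)) h

theorem exists_frame (hz : Nat.card (Subgroup.center R) = 2) (hm : IsOfMinusType 2 R) :
    ∃ e : Fin 4 → GL ιS F, Frame R e := by
  classical
  haveI := hR.finite_quot
  letI := Fintype.ofFinite (R ⧸ Subgroup.center R)
  obtain ⟨S, hS⟩ : ∃ S : Finset (R ⧸ Subgroup.center R),
      S = (Finset.univ.filter fun Q => ((Q.out : R) : GL ιS F) * (Q.out : R) = 1).erase 1 := ⟨_, rfl⟩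
  have hS4 : 4 ≤ S.card := by
    have h6 := six hR hRf
    rw [Nat.card_eq_fintype_card, Fintype.card_subtype] at h6
    have := Finset.pred_card_le_card_erase
      (s := Finset.univ.filter fun Q : R ⧸ Subgroup.center R => ((Q.out : R) : GL ιS F) * (Q.out : R) = 1) (a := 1)
    rw [h6] at this
    rw [hS]
    omega
  obtain ⟨f⟩ : Nonempty (Fin 4 ↪ S) := Function.Embedding.nonempty_of_card_le (by simpa using hS4)
  obtain ⟨a, ha⟩ : ∃ a : Fin 4 → R, ∀ i, a i = ((f i : R ⧸ Subgroup.center R)).out := ⟨_, fun i => rfl⟩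
  have hmem : ∀ i, (f i : R ⧸ Subgroup.center R) ≠ 1 ∧ (a i : GL ιS F) * (a i : R) = 1 := fun i => by
    have := (f i).2
    simp only [hS, Finset.mem_erase, Finset.mem_filter] at this
    exact ⟨this.1, by rw [ha]; exact this.2.2⟩
  refine ⟨fun i => (a i : GL ιS F), fun i => (a i).2, fun i => (hmem i).2, fun i j hij => ?_⟩
  rcases hR.comm _ (a i).2 _ (a j).2 with hc | hc
  swap
  · exact hc
  exfalso
  obtain ⟨z, hzd⟩ : ∃ z : R, z = ⟨-1, hR.negMem⟩ := ⟨_, rfl⟩
  have hzc : z ∈ Subgroup.center R := (hR.center_iff _).2 ⟨-1, by simp [hzd]⟩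
  obtain ⟨A, hA⟩ : ∃ A, A = Subgroup.closure ({z, a i, a j} : Set R) := ⟨_, rfl⟩
  have hgen : ∀ u ∈ ({z, a i, a j} : Set R), ∀ v ∈ ({z, a i, a j} : Set R), u * v = v * u := by
    have zc : ∀ w : R, z * w = w * z := fun w => (Subgroup.mem_center_iff.1 hzc w).symm
    have hij' : a i * a j = a j * a i := Subtype.ext hc
    intro u hu v hv
    simp only [Set.mem_insert_iff, Set.mem_singleton_iff] at hu hv
    rcases hu with rfl | rfl | rfl <;> rcases hv with rfl | rfl | rfl <;>
      first | rfl | exact zc _ | exact (zc _).symm | exact hij' | exact hij'.symm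
  have hAc : ∀ u ∈ A, ∀ v ∈ A, u * v = v * u := by
    intro u hu v hv
    have hle : A ≤ Subgroup.centralizer (A : Set R) := by
      rw [hA, Subgroup.closure_le, Subgroup.centralizer_closure]
      intro w hw
      exact fun s hs => hgen s hs w hw
    exact Subgroup.mem_centralizer_iff.1 (hle hv) u hu
  have hexp : ∀ u ∈ A, u * u = 1 := by
    intro u hu
    have hu' : u ∈ Subgroup.closure ({z, a i, a j} : Set R) := hA ▸ hu
    induction hu' using Subgroup.closure_induction with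
    | mem w hw =>
      simp only [Set.mem_insert_iff, Set.mem_singleton_iff] at hw
      rcases hw with rfl | rfl | rfl
      · exact Subtype.ext (by simp [hzd])
      · exact Subtype.ext (hmem i).2
      · exact Subtype.ext (hmem j).2
    | one => simp
    | mul v w hv hw ihv ihw =>
      rw [mul_assoc, ← mul_assoc w, hAc w (hA ▸ hw) v (hA ▸ hv), mul_assoc v w w, ihw (hA ▸ hw), mul_one, ihv (hA ▸ hv)]
    | inv v hv ih => rw [← _root_.mul_inv_rev, ih (hA ▸ hv), inv_one]
  have hsmall := hm A ⟨⟨fun u v => Subtype.ext (hAc u u.2 v v.2)⟩⟩ hexp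
  obtain ⟨k, hk⟩ : ∃ k : Fin 4 → R, k = ![1, a i, a j, a i * a j] := ⟨_, rfl⟩
  have hzA : z ∈ A := hA ▸ Subgroup.subset_closure (by simp)
  have hiA : a i ∈ A := hA ▸ Subgroup.subset_closure (by simp)
  have hjA : a j ∈ A := hA ▸ Subgroup.subset_closure (by simp)
  have hkA : ∀ l, k l ∈ A := fun l => by
    rw [hk]; fin_cases l
    · exact one_mem _
    · exact hiA
    · exact hjA
    · exact A.mul_mem hiA hjA
  have hmk : ∀ l, (QuotientGroup.mk (a l) : R ⧸ Subgroup.center R) = f l := fun l => by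
    rw [ha, QuotientGroup.out_eq']
  have hne : (f i : R ⧸ Subgroup.center R) ≠ f j := fun e => hij (f.injective (Subtype.ext e))
  have hprod : (f i : R ⧸ Subgroup.center R) * f j ≠ 1 := fun e => by
    refine hne ?_
    have h2 : (f j : R ⧸ Subgroup.center R) * f j = 1 := by
      rw [← hmk, ← QuotientGroup.mk_mul, show a j * a j = 1 from Subtype.ext (hmem j).2, QuotientGroup.mk_one]
    exact mul_right_cancel (e.trans h2.symm)
  have hQinj : Function.Injective fun l => (QuotientGroup.mk (k l) : R ⧸ Subgroup.center R) := by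
    intro l l' e
    rw [hk] at e
    fin_cases l <;> fin_cases l' <;> first
      | rfl
      | (exfalso; simp [hmk] at e; first
          | exact hij e
          | exact hij e.symm
          | exact (hmem i).1 e
          | exact (hmem i).1 e.symm
          | exact (hmem j).1 e
          | exact (hmem j).1 e.symm
          | exact hne e
          | exact hne e.symm
          | exact hprod e
          | exact hprod e.symm
          | exact (hmem j).1 (mul_eq_left.1 e)
          | exact (hmem j).1 (mul_eq_left.1 e.symm)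
          | exact (hmem i).1 (mul_eq_right.1 e)
          | exact (hmem i).1 (mul_eq_right.1 e.symm))
  obtain ⟨φ, hφ⟩ : ∃ φ : Fin 4 × Bool → A,
      ∀ u, φ u = ⟨(if u.2 then z else 1) * k u.1, A.mul_mem (by split; exacts [hzA, one_mem _]) (hkA _)⟩ :=
    ⟨_, fun u => rfl⟩
  have hφi : Function.Injective φ := by
    intro u v e
    have e' := congrArg Subtype.val e
    simp only [hφ] at e'
    have hl : u.1 = v.1 := by
      refine hQinj ?_
      have := congrArg (fun w : R => (QuotientGroup.mk w : R ⧸ Subgroup.center R)) e'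
      have hz1 : ∀ s : Bool, (QuotientGroup.mk (if s then z else 1) : R ⧸ Subgroup.center R) = 1 := fun s => by
        cases s
        · simp
        · exact (QuotientGroup.eq_one_iff _).2 hzc
      rw [QuotientGroup.mk_mul, QuotientGroup.mk_mul, hz1, hz1, one_mul, one_mul] at this
      exact this
    rw [hl] at e'
    have hs := mul_right_cancel e'
    refine Prod.ext hl ?_
    have hz1 : z ≠ 1 := fun h => hR.ne (by rw [hzd] at h; exact congrArg Subtype.val h)
    rcases u with ⟨_, _ | _⟩ <;> rcases v with ⟨_, _ | _⟩ <;> simp only [Bool.false_eq_true, if_false, if_true] at hs <;>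
      first
        | rfl
        | exact absurd hs hz1
        | exact absurd hs.symm hz1
  haveI : Finite A := Nat.finite_of_card_ne_zero (fun h0 => by
    rcases Nat.card_eq_zero.1 h0 with h | h
    · exact h.elim ⟨1, one_mem _⟩
    · haveI : Finite (Subgroup.center R) := Nat.finite_of_card_ne_zero (by omega)
      haveI : Finite R := Finite.of_subgroup_quotient (Subgroup.center R)
      exact h.not_finite inferInstance)
  have := Nat.card_le_card_of_injective φ hφi
  rw [Nat.card_prod, Nat.card_fin, Nat.card_eq_fintype_card (α := Bool), Fintype.card_bool] at this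
  omega

omit hR hRf in
/-- Elements with the same characteristic polynomial are conjugate in the symplectic group. -/
theorem conj_of_charpoly [Fintype F] [Fact p.Prime] [CharP F p] {y t : GL ιS F} (hy : y ∈ Cfsg.spGL 2 F)
    (ht : t ∈ Cfsg.spGL 2 F) {m : ℕ} (hm : m.Coprime p) (hym : (y : MS) ^ m = 1) (htm : (t : MS) ^ m = 1)
    (hc : (y : MS).charpoly = (t : MS).charpoly) : ∃ g ∈ Cfsg.spGL 2 F, g⁻¹ * y * g = t := by
  let ee : ιS ≃ Fin 4 := finSumFinEquiv
  let re := Matrix.reindexAlgEquiv F F ee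
  let φ : GL ιS F →* GL (Fin 4) F := Units.map re.toMonoidHom
  have hφ : Function.Injective φ := Units.map_injective re.injective
  have hcj : IsConj (φ y) (φ t) := by
    refine gl_conj_of_charpoly p hm ?_ ?_ ?_
    · show (re (y : MS)) ^ m = 1; rw [← map_pow, hym, map_one]
    · show (re (t : MS)) ^ m = 1; rw [← map_pow, htm, map_one]
    · show (Matrix.reindex ee ee (y : MS)).charpoly = (Matrix.reindex ee ee (t : MS)).charpoly
      rw [Matrix.charpoly_reindex, Matrix.charpoly_reindex, hc]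
  obtain ⟨c, hc'⟩ := hcj
  have hMS : IsConj (y : MS) (t : MS) := by
    have h1 := MonoidHom.map_isConj (re.symm.toMonoidHom.comp (Units.coeHom _)) (⟨c, hc'⟩ : IsConj (φ y) (φ t))
    simpa [φ] using h1
  obtain ⟨y', hy'⟩ : ∃ y' : Matrix.symplecticGroup (Fin 2) F, (y' : MS) = y := ⟨⟨_, mem_symplecticGroup hy⟩, rfl⟩
  obtain ⟨t', ht'⟩ : ∃ t' : Matrix.symplecticGroup (Fin 2) F, (t' : MS) = t := ⟨⟨_, mem_symplecticGroup ht⟩, rfl⟩
  have hord : (orderOf y').Coprime p := Nat.Coprime.coprime_dvd_left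
    (orderOf_dvd_of_pow_eq_one (n := m) (Subtype.ext (by
      show ((y' ^ m : Matrix.symplecticGroup (Fin 2) F) : MS) = 1
      rw [SubmonoidClass.coe_pow, hy', hym]))) hm
  obtain ⟨d, hd⟩ := isConj_iff.1 (CfsgLib.Classical.SemiSymp.isConj_of_linear y' t' hord (by rw [hy', ht']; exact hMS))
  obtain ⟨g, hg, hgi⟩ : ∃ g : GL ιS F, (g : MS) = ((d⁻¹ : Matrix.symplecticGroup (Fin 2) F) : MS) ∧
      ((g⁻¹ : GL ιS F) : MS) = (d : MS) :=
    ⟨⟨((d⁻¹ : Matrix.symplecticGroup (Fin 2) F) : MS), (d : MS), by rw [← Submonoid.coe_mul, inv_mul_cancel]; rfl,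
      by rw [← Submonoid.coe_mul, mul_inv_cancel]; rfl⟩, rfl, rfl⟩
  refine ⟨g, ?_, Units.ext ?_⟩
  · intro u v
    show Cfsg.sympForm 2 F ((g : MS) *ᵥ u) ((g : MS) *ᵥ v) = _
    have := (CfsgLib.Classical.SemiSymp.mem_iff_sympB _).1 (d⁻¹).2 u v
    simp only [CfsgLib.Classical.SemiSymp.sympB, Matrix.toLinearMap₂'_apply'] at this
    rw [hg]
    exact this
  · rw [Units.val_mul, Units.val_mul, hg, hgi, ← hy', ← ht', ← hd]
    rfl

variable [Fintype F] [Fact p.Prime] [CharP F p] (hF : Fintype.card F = p) (hodd : Odd p)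
include hF hodd

theorem cast_ne {k : ℕ} (hk : k.Prime) (hne : p ≠ k) : (k : F) ≠ 0 := fun e =>
  hne ((Nat.prime_dvd_prime_iff_eq (Fact.out : p.Prime) hk).1 ((CharP.cast_eq_zero_iff F p k).1 e))

theorem not_fix_of_seven_le {r : ℕ} [Fact r.Prime] (h7 : 7 ≤ r) (hdvd : r ∣ Nat.card (Cfsg.spGL 2 F)) :
    ¬ AllFix R r := by
  intro hfix
  obtain ⟨x, hx⟩ := exists_prime_orderOf_dvd_card' r hdvd
  have hxr : (x : GL ιS F) ^ r = 1 := by
    rw [← SubgroupClass.coe_pow, ← hx, pow_orderOf_eq_one, OneMemClass.coe_one]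
  have hns : ∀ c : F, ((x : GL ιS F) : MS) ≠ c • (1 : MS) := by
    intro c hc
    have h2 := scalar_sq x.2 hc
    have hr' : c ^ r = 1 := by
      have := congrArg (fun u : GL ιS F => (u : MS) (Sum.inl 0) (Sum.inl 0)) hxr
      simp [Units.val_pow_eq_pow_val, hc, smul_pow] at this
      exact this
    obtain ⟨k, hk⟩ := (Fact.out : r.Prime).odd_of_ne_two (by omega)
    rw [hk, pow_succ, pow_mul, h2, one_pow, one_mul] at hr'
    have hx1 : x = 1 := Subtype.ext (Units.ext (by rw [hc, hr', one_smul]; rfl))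
    rw [hx1, orderOf_one] at hx
    omega
  obtain ⟨g, -, hg⟩ := hfix x x.2 ⟨1, by rw [hxr, one_smul, Units.val_one]⟩ hns
  obtain ⟨y, hy, hyr, hyns, -⟩ := conj_data hg hns hxr
  obtain ⟨c, hc⟩ := hR.scalar_of_seven_le hy h7 hyr
  exact hyns c hc

omit hF hodd in
theorem transvection_data {q : ℕ} (hq : (q : F) = 0) (hfix : AllFix R q) :
    ∃ g : GL ιS F, ∃ x : GL ιS F, ∃ N : MS, x ∈ subgroupNormalizer R ∧ N * N = 0 ∧ N ≠ 0 ∧
      (x : MS) = 1 + N ∧ (∀ M : MS, ∃ μ : F, N * M * N = μ • N) ∧ g = g := by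
  obtain ⟨N, hN⟩ : ∃ N : MS, N = Matrix.single (Sum.inl 0) (Sum.inr 0) 1 := ⟨_, rfl⟩
  have hN2 : N * N = 0 := by rw [hN, Matrix.single_mul_single_of_ne]; simp
  have hN0 : N ≠ 0 := fun h => by
    have := congrFun (congrFun h (Sum.inl 0)) (Sum.inr 0)
    simp [hN] at this
  obtain ⟨x, hxS, hx, -⟩ := exists_emb (a := (1 : F)) (b := 1) (c := 0) (d := 1) (by ring)
  have hxN : (x : MS) = 1 + N := by
    rw [hx, hN, emb]
    ext i j
    rcases i with i | i <;> rcases j with j | j <;> fin_cases i <;> fin_cases j <;> simp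
  have hxq : ((x ^ q : GL ιS F) : MS) = (1 : F) • (1 : MS) := by
    rw [(pow_of_sq_zero hN2 hxN q).1]; simp [hq]
  have hns : ∀ c : F, (x : MS) ≠ c • (1 : MS) := fun c hc => by
    rw [hxN, hN] at hc
    have := congrFun (congrFun hc (Sum.inl 0)) (Sum.inr 0)
    simp at this
  obtain ⟨g, -, hg⟩ := hfix x hxS ⟨1, hxq⟩ hns
  refine ⟨g, g⁻¹ * x * g, ((g⁻¹ : GL ιS F) : MS) * N * (g : MS), hg, ?_, ?_, ?_, fun M => ?_, rfl⟩
  · rw [show ((g⁻¹ : GL ιS F) : MS) * N * (g : MS) * (((g⁻¹ : GL ιS F) : MS) * N * (g : MS)) =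
      ((g⁻¹ : GL ιS F) : MS) * N * ((g : MS) * ((g⁻¹ : GL ιS F) : MS)) * (N * (g : MS)) by
        simp only [mul_assoc], Units.mul_inv, mul_one, mul_assoc, ← mul_assoc N, hN2]
    simp
  · intro h
    apply hN0
    calc N = (g : MS) * (((g⁻¹ : GL ιS F) : MS) * N * (g : MS)) * ((g⁻¹ : GL ιS F) : MS) := by
          rw [← mul_assoc, ← mul_assoc, Units.mul_inv, one_mul, mul_assoc, Units.mul_inv, mul_one]
      _ = 0 := by rw [h, mul_zero, zero_mul]
  · rw [Units.val_mul, Units.val_mul, hxN, mul_add, add_mul, mul_one, Units.inv_mul]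
  · refine ⟨((g : MS) * M * ((g⁻¹ : GL ιS F) : MS)) (Sum.inr 0) (Sum.inl 0), ?_⟩
    rw [show ((g⁻¹ : GL ιS F) : MS) * N * (g : MS) * M * (((g⁻¹ : GL ιS F) : MS) * N * (g : MS)) =
      ((g⁻¹ : GL ιS F) : MS) * (N * ((g : MS) * M * ((g⁻¹ : GL ιS F) : MS)) * N) * (g : MS) by
        simp only [mul_assoc], hN, Matrix.single_mul_mul_single, one_mul, mul_one]
    rw [← smul_mul_assoc, ← mul_smul_comm, Matrix.smul_single, smul_eq_mul, mul_one]

theorem not_fix_three (hz : Nat.card (Subgroup.center R) = 2) : ¬ AllFix R 3 := by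
  intro hfix
  rcases eq_or_ne p 3 with rfl | hp
  · have h30 : (3 : F) = 0 := by exact_mod_cast CharP.cast_eq_zero F 3
    obtain ⟨_, x, N, hx, hN, hN0, hxN, hrank, -⟩ := transvection_data hR hRf (q := 3) (by exact_mod_cast h30) hfix
    exact hR.false_of_unipotent_three hx h30 hN hN0 hrank hxN
  · obtain ⟨x, hxS, hx, hxi⟩ := exists_emb (a := (0 : F)) (b := -1) (c := 1) (d := -1) (by ring)
    have hx3 : x ^ 3 = 1 := Units.ext (by
      rw [Units.val_pow_eq_pow_val, hx, pow_succ, pow_two, emb_mul, emb_mul, Units.val_one, ← emb_one]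
      congr 1 <;> ring)
    have hns : ∀ c : F, (x : MS) ≠ c • (1 : MS) := fun c hc => by
      rw [hx] at hc
      have := congrFun (congrFun hc (Sum.inr 0)) (Sum.inl 0)
      simp [emb] at this
    obtain ⟨g, -, hg⟩ := hfix x hxS ⟨1, by rw [hx3, one_smul, Units.val_one]⟩ hns
    obtain ⟨y, hy, hyr, hyns, ht, hti⟩ := conj_data hg hns hx3
    have h := hR.trace_three_six hy (center_sq hR hRf hz) (six hR hRf) hyns hyr
    rw [ht, hti, hx, hxi, emb_trace, emb_trace] at h
    have h30 : (3 : F) ≠ 0 := by exact_mod_cast cast_ne hR hRf hF hodd Nat.prime_three hp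
    exact h30 (by linear_combination -h)

theorem not_fix_five (h5 : ¬ (p % 5 = 2 ∨ p % 5 = 3)) : ¬ AllFix R 5 := by
  intro hfix
  rcases eq_or_ne p 5 with rfl | hp
  · have h50 : (5 : F) = 0 := by exact_mod_cast CharP.cast_eq_zero F 5
    obtain ⟨_, x, N, hx, hN, hN0, hxN, -, -⟩ := transvection_data hR hRf (q := 5) (by exact_mod_cast h50) hfix
    exact hR.false_of_unipotent_five hx h50 hN hN0 hxN
  · have hp2 : p ≠ 2 := fun h => by subst h; exact absurd hodd (by decide)
    have h5' : p % 5 ≠ 0 := fun h => hp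
      ((Nat.prime_dvd_prime_iff_eq (by norm_num) (Fact.out : p.Prime)).1 (Nat.dvd_of_mod_eq_zero h)).symm
    obtain ⟨q0, hq0⟩ := (isSquare_five_iff hp2).2 (show p % 5 = 0 ∨ p % 5 = 1 ∨ p % 5 = 4 by omega)
    obtain ⟨q, hq⟩ : ∃ q : F, q * q = 5 := ⟨ZMod.castHom dvd_rfl F q0, by rw [← map_mul, ← hq0, map_ofNat]⟩
    have h2 := hR.two
    have h50 : (5 : F) ≠ 0 := by exact_mod_cast cast_ne hR hRf hF hodd (by norm_num : Nat.Prime 5) hp
    obtain ⟨s, hsd⟩ : ∃ s : F, s = (q - 1) / 2 := ⟨_, rfl⟩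
    have hs : s * s + s - 1 = 0 := by rw [hsd]; field_simp; linear_combination hq
    obtain ⟨x, hxS, hx, hxi⟩ := exists_emb (a := (0 : F)) (b := -1) (c := 1) (d := s) (by ring)
    have hx5 : x ^ 5 = 1 := Units.ext (by
      rw [Units.val_pow_eq_pow_val, hx, pow_succ, pow_succ, pow_succ, pow_two, emb_mul, emb_mul, emb_mul, emb_mul,
        Units.val_one, ← emb_one]
      congr 1
      · linear_combination (1 - s) * hs
      · linear_combination (-s * s + s + 1) * hs
      · linear_combination (s * s - s - 1) * hs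
      · linear_combination (s ^ 3 - s * s - 2 * s + 1) * hs)
    have hns : ∀ c : F, (x : MS) ≠ c • (1 : MS) := fun c hc => by
      rw [hx] at hc
      have := congrFun (congrFun hc (Sum.inr 0)) (Sum.inl 0)
      simp [emb] at this
    obtain ⟨g, -, hg⟩ := hfix x hxS ⟨1, by rw [hx5, one_smul, Units.val_one]⟩ hns
    obtain ⟨y, hy, hyr, hyns, ht, hti⟩ := conj_data hg hns hx5
    have h1 := hR.trace_five hy hyns hyr
    rw [ht, hti, hx, hxi, emb_trace, emb_trace] at h1
    exact h50 (by linear_combination (-9 : F) * hs + (3 * s - 1) * h1 - (3 * s - 1) * hs)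

theorem frame_fixed (hz : Nat.card (Subgroup.center R) = 2) (hm : IsOfMinusType 2 R) :
    ∃ e : Fin 4 → GL ιS F, Frame R e ∧ ∀ i, adj (e i : MS) = e i := by
  obtain ⟨e, he⟩ := exists_frame hR hRf hz hm
  exact ⟨e, he, fun i => (adj_rep hR hRf (he.mem i)).1 (he.sq i)⟩

theorem fix_two (hz : Nat.card (Subgroup.center R) = 2) (hm : IsOfMinusType 2 R) : AllFix R 2 := by
  intro x hx hz2 hns
  haveI : Fact (Nat.Prime 2) := ⟨Nat.prime_two⟩
  obtain ⟨z, hzx⟩ := hz2
  rw [Units.val_pow_eq_pow_val] at hzx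
  have hz1 : z ^ 2 = 1 := scalar_sq (g := x ^ 2) ((Cfsg.spGL 2 F).pow_mem hx 2)
    (by rw [Units.val_pow_eq_pow_val, hzx])
  have hdet := det_eq_one hx
  obtain ⟨e, he, hea⟩ := frame_fixed hR hRf hF hodd hz hm
  have h4 : Fintype.card ιS = 4 := rfl
  have hp2 : p ≠ 2 := fun h => by subst h; exact absurd hodd (by decide)
  have h20 : (4 : ℕ).Coprime p :=
    ((Nat.coprime_primes Nat.prime_two (Fact.out : p.Prime)).2 (Ne.symm hp2)).pow_left 2
  have hsq4 : ∀ w : MS, w ^ 2 = z • (1 : MS) → w ^ 4 = 1 := fun w hw => by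
    rw [show (4 : ℕ) = 2 * 2 from rfl, pow_mul, hw, smul_pow, one_pow, hz1, one_smul]
  obtain ⟨t, htN, htS, ht2, htt, hxt⟩ : ∃ t ∈ subgroupNormalizer R, t ∈ Cfsg.spGL 2 F ∧
      (t : MS) ^ 2 = z • (1 : MS) ∧ (t : MS).trace = 0 ∧ (x : MS).trace = 0 := by
    rcases sq_eq_one_iff.1 hz1 with rfl | rfl
    · refine ⟨e 0, hR.frame_mem_normalizer he (he.mem 0), hRf (he.mem 0),
        by rw [one_smul, pow_two, ← Units.val_mul, he.sq, Units.val_one],
        hR.trace_zero (he.mem 0) (hR.frame_ne he 0), ?_⟩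
      rw [one_smul] at hzx
      rcases (involution_shape h4 hR.two hzx hns).1 with ⟨-, h⟩ | ⟨h, -⟩
      · exact h
      · exact absurd (h.symm.trans hdet) (fun e => hR.two (by linear_combination -e))
    · have hsq : (e 0 * e 1) * (e 0 * e 1) = -1 := by
        rw [mul_assoc, ← mul_assoc (e 1), he.anti 1 0 (by decide), neg_mul, mul_assoc, he.sq, mul_one, mul_neg, he.sq]
      refine ⟨e 0 * e 1, hR.frame_mem_normalizer he (R.mul_mem (he.mem 0) (he.mem 1)),
        (Cfsg.spGL 2 F).mul_mem (hRf (he.mem 0)) (hRf (he.mem 1)),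
        by rw [pow_two, ← Units.val_mul, hsq, Units.val_neg, Units.val_one, neg_one_smul],
        hR.trace_zero (R.mul_mem (he.mem 0) (he.mem 1))
          (ne_scalar_of_anti hR.two (anti_symm (anti_mul_comm (he.anti 0 1 (by decide)) rfl))), ?_⟩
      have hxi : ((x⁻¹ : GL ιS F) : MS) = -(x : MS) := by
        calc ((x⁻¹ : GL ιS F) : MS) = ((x⁻¹ : GL ιS F) : MS) * (-((x : MS) ^ 2)) := by
              rw [hzx, neg_one_smul, neg_neg, mul_one]
          _ = -(x : MS) := by rw [pow_two, mul_neg, ← mul_assoc, Units.inv_mul, one_mul]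
      have := trace_adj (x : MS)
      rw [adj_eq_inv_of_mem hx, hxi, Matrix.trace_neg] at this
      exact (mul_eq_zero.1 (show (2 : F) * (x : MS).trace = 0 by linear_combination -this)).resolve_left hR.two
  have hz0 : z ≠ 0 := by rintro rfl; norm_num at hz1
  obtain ⟨g, hg, hgt⟩ := conj_of_charpoly (p := p) hx htS h20 (hsq4 _ hzx) (hsq4 _ ht2)
    (sq_scalar_unique h4 hR.two hz0 hzx hxt ht2 htt)
  exact ⟨g, hg, hgt ▸ htN⟩

theorem fix_five (hz : Nat.card (Subgroup.center R) = 2) (hm : IsOfMinusType 2 R)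
    (h5 : p % 5 = 2 ∨ p % 5 = 3) : AllFix R 5 := by
  intro x hx hz5 hns
  haveI : Fact (Nat.Prime 5) := ⟨by norm_num⟩
  obtain ⟨z, hzx⟩ := hz5
  rw [Units.val_pow_eq_pow_val] at hzx
  have hz1 : z ^ 2 = 1 := scalar_sq (g := x ^ 5) ((Cfsg.spGL 2 F).pow_mem hx 5)
    (by rw [Units.val_pow_eq_pow_val, hzx])
  have hz0 : z ≠ 0 := by rintro rfl; norm_num at hz1
  have hp5 : p ≠ 5 := by omega
  have hf5 : (5 : F) ≠ 0 := by exact_mod_cast cast_ne hR hRf hF hodd (by norm_num : Nat.Prime 5) hp5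
  have h50 : (5 : ℕ).Coprime p := (Nat.coprime_primes (by norm_num) (Fact.out : p.Prime)).2 (Ne.symm hp5)
  have h4 : Fintype.card ιS = 4 := rfl
  have facts : ∀ M : MS, M ^ 5 = 1 → (M ^ 2).charpoly = M.charpoly := by
    intro M hM
    have key : ∀ k : ℕ, (M ^ k).charpoly = (M ^ (k * p % 5)).charpoly := fun k => by
      rw [← pow_eq_pow_mod (k * p) hM, pow_mul, ← hF, FiniteField.Matrix.charpoly_pow_card]
    rcases h5 with h | h
    · have := key 1
      rw [pow_one, one_mul, h] at this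
      exact this.symm
    · have e : ∀ k, k * p % 5 = k * 3 % 5 := fun k => by rw [Nat.mul_mod, h]; omega
      have h1 := key 1; have h2 := key 3; have h3 := key 4
      rw [pow_one, e] at h1; rw [e] at h2 h3
      norm_num at h1 h2 h3
      rw [h1, h2, h3]
  obtain ⟨e, he, hea⟩ := frame_fixed hR hRf hF hodd hz hm
  obtain ⟨t, htN, ⟨c, hc⟩, htns, hst⟩ := hR.five_target he
  have htS : t ∈ Cfsg.spGL 2 F := mem_sp.2 (hst _ _ anti_adj hea)
  have hc1 : c ^ 2 = 1 := scalar_sq (g := t ^ 5) ((Cfsg.spGL 2 F).pow_mem htS 5)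
    (by rw [Units.val_pow_eq_pow_val, hc])
  obtain ⟨sw, hsw⟩ := exists_scalar_unit (ι := ιS) hz0
  obtain ⟨sc, hsc⟩ := exists_scalar_unit (ι := ιS) (show c ≠ 0 by rintro rfl; norm_num at hc1)
  have m1 : ((sw * x : GL ιS F) : MS) = z • (x : MS) := by rw [Units.val_mul, hsw, smul_mul_assoc, one_mul]
  have m2 : ((sc * t : GL ιS F) : MS) = c • (t : MS) := by rw [Units.val_mul, hsc, smul_mul_assoc, one_mul]
  have p1 : ((sw * x : GL ιS F) : MS) ^ 5 = 1 := by
    rw [m1, smul_pow, hzx, smul_smul, show z ^ 5 * z = (z ^ 2) ^ 3 by ring, hz1, one_pow, one_smul]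
  have p2 : ((sc * t : GL ιS F) : MS) ^ 5 = 1 := by
    rw [m2, smul_pow, hc, smul_smul, show c ^ 5 * c = (c ^ 2) ^ 3 by ring, hc1, one_pow, one_smul]
  have n1 : ((sw * x : GL ιS F) : MS) ≠ 1 := fun h => hns z (by
    rw [← h, m1, smul_smul, ← pow_two, hz1, one_smul])
  have n2 : ((sc * t : GL ιS F) : MS) ≠ 1 := fun h => htns c (by
    rw [← h, m2, smul_smul, ← pow_two, hc1, one_smul])
  obtain ⟨g, hg, hgt⟩ := conj_of_charpoly (p := p) ((Cfsg.spGL 2 F).mul_mem (scalar_mem hsw hz1) hx)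
    ((Cfsg.spGL 2 F).mul_mem (scalar_mem hsc hc1) htS) h50 p1 p2
    (five_unique h4 hf5 p1 n1 (facts _ p1) p2 n2 (facts _ p2)).1
  refine ⟨g, hg, ?_⟩
  have e1 : g⁻¹ * x * g = sw⁻¹ * (g⁻¹ * (sw * x) * g) := by
    have hcm : sw * g⁻¹ = g⁻¹ * sw := Units.ext (by simp [hsw])
    rw [show g⁻¹ * (sw * x) * g = (g⁻¹ * sw) * (x * g) by group, ← hcm]
    group
  rw [e1, hgt]
  exact (subgroupNormalizer R).mul_mem ((subgroupNormalizer R).inv_mem (scalar_mem_normalizer hsw))
    ((subgroupNormalizer R).mul_mem (scalar_mem_normalizer hsc) htN)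

end CfsgLib.MaxSub.SymFour.Symp
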