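import Cfsg.Agent.Lib.MaxSub.SympTypeFourUnitaryBase

/-!
Elements of prime order of `SU₄(p)`, `p ≡ 3 (mod 4)`, and the normaliser of a group of symplectic type.
-/

set_option autoImplicit false
set_option linter.unusedSectionVars false
set_option linter.style.haveILetI false
set_option maxHeartbeats 1000000

namespace CfsgLib.MaxSub.SymFour.Unitary

open scoped MatrixGroups
open Cfsg.Geo Matrix CfsgLib.MaxSub.SymFour CfsgLib.Classical

variable {F : Type*} [Field F] [Fintype F] {p : ℕ} [Fact p.Prime] [CharP F p]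
  (hF : Fintype.card F = p ^ 2) (hp4 : p % 4 = 3)
  {R : Subgroup (GL (Fin 4) F)} (hR : Pauli R) (hRU : R ≤ Cfsg.GU 4 F p)

local notation "M4" => Matrix (Fin 4) (Fin 4) F

/-- Every element of order `r` has a conjugate in the normaliser. -/
def AllFix (p : ℕ) (R : Subgroup (GL (Fin 4) F)) (r : ℕ) : Prop :=
  ∀ x ∈ Cfsg.GU 4 F p ⊓ specialLinear (Fin 4) F,
    (∃ z : F, ((x ^ r : GL (Fin 4) F) : Matrix (Fin 4) (Fin 4) F) = z • (1 : Matrix (Fin 4) (Fin 4) F)) →
      (∀ z : F, (x : Matrix (Fin 4) (Fin 4) F) ≠ z • (1 : Matrix (Fin 4) (Fin 4) F)) →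
      ∃ g ∈ Cfsg.GU 4 F p ⊓ specialLinear (Fin 4) F, g⁻¹ * x * g ∈ subgroupNormalizer R

omit [Fintype F] [Fact p.Prime] [CharP F p] in
theorem mem_SU {x : GL (Fin 4) F} :
    x ∈ Cfsg.GU 4 F p ⊓ specialLinear (Fin 4) F ↔ x ∈ Cfsg.GU 4 F p ∧ (x : M4).det = 1 := by
  rw [Subgroup.mem_inf, specialLinear, MonoidHom.mem_ker, Units.ext_iff]; rfl

include hF hp4

omit [CharP F p] in
theorem three_le : 3 ≤ p := by
  have := (Fact.out : p.Prime).two_le
  omega

theorem cast_ne {k : ℕ} (hk : k.Prime) (hne : p ≠ k) : (k : F) ≠ 0 := fun e =>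
  hne ((Nat.prime_dvd_prime_iff_eq (Fact.out : p.Prime) hk).1 ((CharP.cast_eq_zero_iff F p k).1 e))

theorem two_ne : (2 : F) ≠ 0 := by
  exact_mod_cast cast_ne hF hp4 Nat.prime_two (by omega)

omit [CharP F p] in
theorem card_sub_one : p ^ 2 - 1 = (p + 1) * (p - 1) ∧ 4 ∣ p + 1 ∧ Fintype.card F % 2 = 1 := by
  refine ⟨sq_sub_one, by omega, ?_⟩
  rw [hF, pow_two, Nat.mul_mod]
  have : p % 2 = 1 := by omega
  rw [this]

theorem qFrob_natCast (k : ℕ) : qFrob hF (k : F) = k := map_natCast _ k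

/-- A square root of five fixed by the field automorphism makes five a square modulo `p`. -/
theorem five_of_fixed {q : F} (hq : q * q = 5) (hfix : qFrob hF q = q) :
    p % 5 = 0 ∨ p % 5 = 1 ∨ p % 5 = 4 := by
  have hp2 : p ≠ 2 := by omega
  refine (isSquare_five_iff hp2).1 ?_
  rcases eq_or_ne (5 : ZMod p) 0 with h | h
  · exact ⟨0, by rw [h, mul_zero]⟩
  rw [ZMod.euler_criterion p h]
  have hq0 : q ≠ 0 := by
    rintro rfl
    apply h
    have h5 : ((5 : ℕ) : F) = 0 := by rw [Nat.cast_ofNat, ← hq, mul_zero]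
    have := (CharP.cast_eq_zero_iff F p 5).1 h5
    exact_mod_cast (CharP.cast_eq_zero_iff (ZMod p) p 5).2 this
  have h1 : q ^ (p - 1) = 1 := by
    refine mul_right_cancel₀ hq0 ?_
    rw [← pow_succ, Nat.sub_add_cancel (Fact.out : p.Prime).pos, one_mul, ← qFrob_apply hF]
    exact hfix
  refine (ZMod.castHom (dvd_refl p) F).injective ?_
  rw [map_pow, map_ofNat, map_one, ← hq, ← pow_two, ← pow_mul, show 2 * (p / 2) = p - 1 by omega, h1]

theorem exists_sqrt_five : ∃ q : F, q * q = 5 := by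
  rcases eq_or_ne (5 : F) 0 with h | h
  · exact ⟨0, by rw [h, mul_zero]⟩
  have h' : (5 : F) ^ (p - 1) = 1 := by
    refine mul_right_cancel₀ h ?_
    rw [← pow_succ, Nat.sub_add_cancel (Fact.out : p.Prime).pos, one_mul, ← qFrob_apply hF, map_ofNat]
  obtain ⟨hc, ⟨k, hk⟩, hodd⟩ := card_sub_one hF hp4
  have hsq : IsSquare (5 : F) := by
    rw [FiniteField.isSquare_iff (fun hh => two_ne hF hp4 (by haveI := ringChar.of_eq hh; exact CharTwo.two_eq_zero)) h,
      show Fintype.card F / 2 = (p - 1) * (2 * k) by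
        have h1 : Fintype.card F = 4 * k * (p - 1) + 1 := by
          rw [← hk, ← hc, hF]
          have := Nat.one_le_pow 2 p (Fact.out : p.Prime).pos
          omega
        rw [h1, mul_comm (p - 1), show 4 * k * (p - 1) = 2 * (2 * k * (p - 1)) by ring]
        omega,
      pow_mul, h', one_pow]
  obtain ⟨q, hq⟩ := hsq
  exact ⟨q, hq.symm⟩

theorem norm_of_pow_four {z : F} (hz : z ^ 4 = 1) : qFrob hF z * z = 1 := by
  obtain ⟨-, ⟨k, hk⟩, -⟩ := card_sub_one hF hp4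
  rw [qFrob_apply, ← pow_succ, hk, pow_mul, hz, one_pow]

omit hp4 in
theorem frob_pow {y : GL (Fin 4) F} (hy : y ∈ Cfsg.GU 4 F p) {r : ℕ} (hr : 1 ≤ r) (hyr : (y : M4) ^ r = 1) (k : ℕ) :
    ((y : M4) ^ (k * p % r)).charpoly = ((y : M4) ^ (k * (r - 1) % r)).charpoly := by
  have h := charpoly_pow_inv hF ((Cfsg.GU 4 F p).pow_mem hy k)
  rw [Units.val_pow_eq_pow_val, ← pow_mul] at h
  rw [← pow_eq_pow_mod (k * p) hyr, h, ← pow_eq_pow_mod (k * (r - 1)) hyr, ← Units.val_pow_eq_pow_val]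
  congr 2
  have hyr' : y ^ r = 1 := Units.ext (by rw [Units.val_pow_eq_pow_val, hyr, Units.val_one])
  refine inv_eq_of_mul_eq_one_left ?_
  rw [← pow_add, show k * (r - 1) + k = r * k by
    obtain ⟨m, rfl⟩ : ∃ m, r = m + 1 := ⟨r - 1, by omega⟩
    simp; ring, pow_mul, hyr', one_pow]

omit hp4 in
theorem three_facts (h3 : p % 3 = 1) {y : GL (Fin 4) F} (hy : y ∈ Cfsg.GU 4 F p) (hy3 : (y : M4) ^ 3 = 1) :
    ((y : M4) ^ 2).charpoly = (y : M4).charpoly ∧ (y : M4).det = 1 := by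
  refine ⟨?_, ?_⟩
  · have := frob_pow hF hy (by norm_num) hy3 1
    rw [one_mul, h3, pow_one] at this
    exact this.symm
  · have hd : (y : M4).det ^ 3 = 1 := by rw [← Matrix.det_pow, hy3, Matrix.det_one]
    have hn := congrArg Matrix.det ((mem_GU hF).1 hy)
    rw [Matrix.det_mul, st_det, Matrix.det_one, qFrob_apply, ← pow_succ, pow_eq_pow_mod _ hd,
      show (p + 1) % 3 = 2 by omega] at hn
    linear_combination hd - (y : M4).det * hn

omit hp4 in
theorem five_facts (h5 : p % 5 = 2 ∨ p % 5 = 3) {y : GL (Fin 4) F} (hy : y ∈ Cfsg.GU 4 F p)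
    (hy5 : (y : M4) ^ 5 = 1) : ((y : M4) ^ 2).charpoly = (y : M4).charpoly := by
  have key := frob_pow hF hy (by norm_num) hy5
  rcases h5 with h | h
  · have := key 3
    rw [Nat.mul_mod, h] at this
    norm_num at this
    exact this.symm
  · have h3 := key 4
    rw [Nat.mul_mod, h] at h3
    norm_num at h3
    exact h3

include hR hRU

theorem not_fix_of_seven_le {r : ℕ} [Fact r.Prime] (h7 : 7 ≤ r)
    (hdvd : r ∣ Nat.card (Cfsg.GU 4 F p ⊓ specialLinear (Fin 4) F : Subgroup (GL (Fin 4) F))) :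
    ¬ AllFix p R r := by
  intro hfix
  obtain ⟨x, hx⟩ := exists_prime_orderOf_dvd_card' r hdvd
  have hxr : (x : GL (Fin 4) F) ^ r = 1 := by
    rw [← SubgroupClass.coe_pow, ← hx, pow_orderOf_eq_one, OneMemClass.coe_one]
  have hns : ∀ c : F, ((x : GL (Fin 4) F) : M4) ≠ c • (1 : M4) := by
    intro c hc
    have h4 : c ^ 4 = 1 := by
      have := (mem_SU.1 x.2).2
      rwa [hc, Matrix.det_smul, Matrix.det_one, mul_one, Fintype.card_fin] at this
    have hr' : c ^ r = 1 := by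
      have := congrArg (fun u : GL (Fin 4) F => (u : M4) 0 0) hxr
      simp [Units.val_pow_eq_pow_val, hc, smul_pow] at this
      exact this
    have hc2 : orderOf c ∣ Nat.gcd 4 r :=
      Nat.dvd_gcd (orderOf_dvd_of_pow_eq_one h4) (orderOf_dvd_of_pow_eq_one hr')
    have hcop : Nat.Coprime 4 r := ((Nat.coprime_primes Nat.prime_two (Fact.out : r.Prime)).2 (by omega)).pow_left 2
    rw [hcop.gcd_eq_one, Nat.dvd_one, orderOf_eq_one_iff] at hc2
    have hx1 : x = 1 := Subtype.ext (Units.ext (by rw [hc, hc2, one_smul]; rfl))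
    rw [hx1, orderOf_one] at hx
    omega
  obtain ⟨g, -, hg⟩ := hfix x x.2 ⟨1, by rw [hxr, one_smul, Units.val_one]⟩ hns
  obtain ⟨y, hy, hyr, hyns, -⟩ := conj_data hg hns hxr
  obtain ⟨c, hc⟩ := hR.scalar_of_seven_le hy h7 hyr
  exact hyns c hc

theorem not_fix_three (hz : Nat.card (Subgroup.center R) = 4) (h1 : p % 3 ≠ 1) : ¬ AllFix p R 3 := by
  intro hfix
  haveI : Fact (Nat.Prime 3) := ⟨by norm_num⟩
  have h2 := two_ne hF hp4
  rcases (show p % 3 = 0 ∨ p % 3 = 2 by omega) with h | h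
  · obtain rfl : p = 3 := ((Nat.prime_dvd_prime_iff_eq Nat.prime_three (Fact.out : p.Prime)).1
      (Nat.dvd_of_mod_eq_zero h)).symm
    have h30 : (3 : F) = 0 := by exact_mod_cast CharP.cast_eq_zero F 3
    obtain ⟨iu, hiR, hi, ci, hci, hiu⟩ := hR.exists_iu hz
    have hσ : qFrob hF ci = -ci := by
      rw [qFrob_apply]; linear_combination ci * hci
    obtain ⟨v, hv⟩ : ∃ v : Fin 4 → F, v = ![1, 1, 1, 0] := ⟨_, rfl⟩
    have hvv : v ⬝ᵥ v = 0 := by rw [hv]; simp [dotProduct, Fin.sum_univ_four]; linear_combination h30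
    have hσv : ∀ i, qFrob hF (v i) = v i := fun i => by rw [hv]; fin_cases i <;> simp
    obtain ⟨N, hN⟩ : ∃ N : M4, N = ci • vecMulVec v v := ⟨_, rfl⟩
    have hNN : ∀ M : M4, N * M * N = (ci * (v ⬝ᵥ M *ᵥ v)) • N := by
      intro M
      rw [hN, smul_mul_assoc, smul_mul_assoc, mul_smul_comm, mul_assoc, Matrix.mul_vecMulVec,
        Matrix.vecMulVec_mul_vecMulVec, vecMulVec_smul, smul_smul, smul_smul, smul_smul]
      congr 1
      ring
    have hN2 : N * N = 0 := by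
      have := hNN 1
      rw [mul_one, one_mulVec, hvv, mul_zero, zero_smul] at this
      exact this
    have hN0 : N ≠ 0 := fun h => by
      have := congrFun (congrFun h 0) 0
      rw [hN] at this
      simp [hv, vecMulVec_apply] at this
      rw [this] at hci
      simp at hci
    have hstN : st hF N = -N := by
      rw [hN, (anti_st hF).smul, hσ, neg_smul]
      congr 2
      ext i j
      simp [st_apply, vecMulVec_apply, hσv, mul_comm]
    obtain ⟨x, hx⟩ : ∃ x : GL (Fin 4) F, (x : M4) = 1 + N :=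
      ⟨⟨1 + N, 1 - N, by simp [mul_sub, add_mul, hN2], by simp [sub_mul, mul_add, hN2]⟩, rfl⟩
    have hxU : x ∈ Cfsg.GU 4 F 3 := by
      rw [mem_GU hF, hx, (anti_st hF).add, (anti_st hF).one, hstN]
      simp [add_mul, mul_add, hN2]
    have hx3 : ((x ^ 3 : GL (Fin 4) F) : M4) = (1 : F) • (1 : M4) := by
      rw [(pow_of_sq_zero hN2 hx 3).1]; simp [h30]
    have hdet : (x : M4).det = 1 := by
      have h3' : (x : M4).det ^ 3 = 1 := by
        rw [← Matrix.det_pow, ← Units.val_pow_eq_pow_val, hx3, one_smul, Matrix.det_one]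
      have hn := congrArg Matrix.det ((mem_GU hF).1 hxU)
      rw [Matrix.det_mul, st_det, Matrix.det_one, qFrob_apply, h3', one_mul] at hn
      exact hn
    have hns : ∀ c : F, (x : M4) ≠ c • (1 : M4) := fun c hc => by
      rw [hx, hN] at hc
      have a := congrFun (congrFun hc 0) 1
      simp [hv, vecMulVec_apply] at a
      rw [a] at hci
      simp at hci
    obtain ⟨g, -, hg⟩ := hfix x (mem_SU.2 ⟨hxU, hdet⟩) ⟨1, hx3⟩ hns
    obtain ⟨N', hN'⟩ : ∃ N', N' = ((g⁻¹ : GL (Fin 4) F) : M4) * N * (g : M4) := ⟨_, rfl⟩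
    refine hR.false_of_unipotent_three hg h30 (N := N') ?_ ?_ (fun M => ?_) ?_
    · rw [hN', show ((g⁻¹ : GL (Fin 4) F) : M4) * N * (g : M4) * (((g⁻¹ : GL (Fin 4) F) : M4) * N * (g : M4)) =
        ((g⁻¹ : GL (Fin 4) F) : M4) * N * ((g : M4) * ((g⁻¹ : GL (Fin 4) F) : M4)) * (N * (g : M4)) by
          simp only [mul_assoc], Units.mul_inv, mul_one, mul_assoc, ← mul_assoc N, hN2]
      simp
    · intro h
      apply hN0
      calc N = (g : M4) * N' * ((g⁻¹ : GL (Fin 4) F) : M4) := by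
            rw [hN', ← mul_assoc, ← mul_assoc, Units.mul_inv, one_mul, mul_assoc, Units.mul_inv, mul_one]
        _ = 0 := by rw [h, mul_zero, zero_mul]
    · refine ⟨ci * (v ⬝ᵥ ((g : M4) * M * ((g⁻¹ : GL (Fin 4) F) : M4)) *ᵥ v), ?_⟩
      rw [hN', show ((g⁻¹ : GL (Fin 4) F) : M4) * N * (g : M4) * M * (((g⁻¹ : GL (Fin 4) F) : M4) * N * (g : M4)) =
        ((g⁻¹ : GL (Fin 4) F) : M4) * (N * ((g : M4) * M * ((g⁻¹ : GL (Fin 4) F) : M4)) * N) * (g : M4) by
          simp only [mul_assoc], hNN]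
      simp [mul_smul_comm, smul_mul_assoc]
    · rw [Units.val_mul, Units.val_mul, hx, mul_add, add_mul, mul_one, Units.inv_mul, ← hN']
  · classical
    obtain ⟨w, hw⟩ := exists_prime_orderOf_dvd_card' (G := Fˣ) 3 (by
      rw [Nat.card_eq_fintype_card, Fintype.card_units, hF, sq_sub_one]
      exact Dvd.dvd.mul_right (Nat.dvd_of_mod_eq_zero (by omega)) _)
    obtain ⟨ω, hω⟩ : ∃ ω : F, ω = (w : F) := ⟨_, rfl⟩
    have hw3 : ω ^ 3 = 1 := by
      rw [hω, ← Units.val_pow_eq_pow_val, ← hw, pow_orderOf_eq_one, Units.val_one]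
    have hω1 : ω ≠ 1 := fun h => by
      rw [show w = 1 from Units.ext (hω ▸ h), orderOf_one] at hw; omega
    have hs : 1 + ω + ω ^ 2 = 0 :=
      (mul_eq_zero.1 (show (ω - 1) * (1 + ω + ω ^ 2) = 0 by linear_combination hw3)).resolve_left (sub_ne_zero.2 hω1)
    have hn : qFrob hF ω * ω = 1 := by
      rw [qFrob_apply, ← pow_succ, pow_eq_pow_mod _ hw3, show (p + 1) % 3 = 0 by omega, pow_zero]
    obtain ⟨x, hx, hxi⟩ : ∃ x : GL (Fin 4) F, (x : M4) = Matrix.diagonal ![ω, ω, ω, 1] ∧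
        ((x⁻¹ : GL (Fin 4) F) : M4) = Matrix.diagonal ![ω ^ 2, ω ^ 2, ω ^ 2, 1] := by
      refine ⟨⟨Matrix.diagonal ![ω, ω, ω, 1], Matrix.diagonal ![ω ^ 2, ω ^ 2, ω ^ 2, 1], ?_, ?_⟩, rfl, rfl⟩ <;>
        (rw [Matrix.diagonal_mul_diagonal, ← Matrix.diagonal_one]; congr 1; funext i; fin_cases i <;>
          simp <;> linear_combination hw3)
    have hxU : x ∈ Cfsg.GU 4 F p := by
      rw [mem_GU hF, hx, st_apply, Matrix.diagonal_map (map_zero _), Matrix.diagonal_transpose,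
        Matrix.diagonal_mul_diagonal, ← Matrix.diagonal_one]
      congr 1; funext i; fin_cases i <;> simp [hn]
    have hx3 : x ^ 3 = 1 := by
      refine Units.ext ?_
      rw [Units.val_pow_eq_pow_val, hx, Matrix.diagonal_pow, Units.val_one, ← Matrix.diagonal_one]
      congr 1; funext i; fin_cases i <;> simp [hw3]
    have hns : ∀ c : F, (x : M4) ≠ c • (1 : M4) := fun c hc => by
      rw [hx] at hc
      have a := congrFun (congrFun hc 0) 0
      have b := congrFun (congrFun hc 3) 3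
      simp at a b
      exact hω1 (a.trans b.symm)
    obtain ⟨g, -, hg⟩ := hfix x (mem_SU.2 ⟨hxU, by
        rw [hx, Matrix.det_diagonal, Fin.prod_univ_four]; simp; linear_combination hw3⟩)
      ⟨1, by rw [hx3, one_smul, Units.val_one]⟩ hns
    obtain ⟨y, hy, hyr, hyns, ht, hti⟩ := conj_data hg hns hx3
    have htr : (y : M4).trace * ((y⁻¹ : GL (Fin 4) F) : M4).trace = 7 := by
      rw [ht, hti, hx, hxi, Matrix.trace_diagonal, Matrix.trace_diagonal, Fin.sum_univ_four, Fin.sum_univ_four]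
      simp
      linear_combination 9 * hw3 + 3 * hs
    have h30 : (3 : F) ≠ 0 := by exact_mod_cast cast_ne hF hp4 Nat.prime_three (by omega)
    rcases hR.trace_three hy hyns hyr with h | h <;> rw [htr] at h
    · exact mul_ne_zero h2 h30 (by linear_combination h)
    · exact h30 (by linear_combination h)

theorem not_fix_five (h5 : ¬ (p % 5 = 2 ∨ p % 5 = 3)) : ¬ AllFix p R 5 := by
  intro hfix
  haveI : Fact (Nat.Prime 5) := ⟨by norm_num⟩
  have h2 := two_ne hF hp4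
  have hp5 : p ≠ 5 := by omega
  have h50 : (5 : F) ≠ 0 := by exact_mod_cast cast_ne hF hp4 (by norm_num : Nat.Prime 5) hp5
  have hp2 : p ≠ 2 := by omega
  have h5' : p % 5 ≠ 0 := fun h => hp5
    ((Nat.prime_dvd_prime_iff_eq (by norm_num) (Fact.out : p.Prime)).1 (Nat.dvd_of_mod_eq_zero h)).symm
  obtain ⟨q0, hq0⟩ := (isSquare_five_iff hp2).2 (show p % 5 = 0 ∨ p % 5 = 1 ∨ p % 5 = 4 by omega)
  obtain ⟨q, hq, hσq⟩ : ∃ q : F, q * q = 5 ∧ qFrob hF q = q := ⟨ZMod.castHom dvd_rfl F q0, by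
    rw [← map_mul, ← hq0, map_ofNat], by rw [qFrob_apply, ← map_pow, ZMod.pow_card]⟩
  obtain ⟨s, hsd⟩ : ∃ s : F, s = (q - 1) / 2 := ⟨_, rfl⟩
  have hs : s * s + s - 1 = 0 := by rw [hsd]; field_simp; linear_combination hq
  have hσs : qFrob hF s = s := by rw [hsd, map_div₀, map_sub, hσq, map_one, map_ofNat]
  obtain ⟨α, hα⟩ : ∃ α : F, α = s / 2 := ⟨_, rfl⟩
  have hσα : qFrob hF α = α := by rw [hα, map_div₀, hσs, map_ofNat]
  obtain ⟨β, hβ⟩ := exists_norm hF (δ := 1 - α * α) (by rw [map_sub, map_one, map_mul, hσα])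
  obtain ⟨B, hB⟩ : ∃ B : Matrix (Fin 2) (Fin 2) F, B = !![α, -qFrob hF β; β, α] := ⟨_, rfl⟩
  obtain ⟨B', hB'⟩ : ∃ B' : Matrix (Fin 2) (Fin 2) F, B' = !![α, qFrob hF β; -β, α] := ⟨_, rfl⟩
  have hBt : B.trace = s := by simp [hB, Matrix.trace_fin_two, hα]; field_simp; ring
  have hBd : B.det = 1 := by simp [hB, Matrix.det_fin_two]; linear_combination hβ
  have hstB : (B.map (qFrob hF))ᵀ = B' := by
    rw [hB, hB']
    ext i j
    fin_cases i <;> fin_cases j <;> simp [hσα, qFrob_qFrob]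
  have m1 : B' * B = 1 := by
    rw [hB, hB']; ext i j; fin_cases i <;> fin_cases j <;> simp <;> first | linear_combination hβ | ring
  have m2 := mul_eq_one_comm.1 m1
  have hB5 := five_fin_two hs hBt hBd
  obtain ⟨x, hx, hxi⟩ : ∃ x : GL (Fin 4) F, (x : M4) = bd B 1 ∧ ((x⁻¹ : GL (Fin 4) F) : M4) = bd B' 1 :=
    ⟨⟨bd B 1, bd B' 1, by rw [bd_mul, m2, one_mul, bd_one], by rw [bd_mul, m1, one_mul, bd_one]⟩, rfl, rfl⟩
  have hxU : x ∈ Cfsg.GU 4 F p := by
    rw [mem_GU hF, hx, st_bd, hstB, bd_mul, m1, Matrix.map_one _ (map_zero _) (map_one _), Matrix.transpose_one,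
      one_mul, bd_one]
  have hx5 : x ^ 5 = 1 := Units.ext (by rw [Units.val_pow_eq_pow_val, hx, bd_pow, hB5, one_pow, bd_one, Units.val_one])
  have hns : ∀ c : F, (x : M4) ≠ c • (1 : M4) := fun c hc => by
    rw [hx, ← bd_one, bd_smul] at hc
    have a := (bd_inj hc).1
    have b := (bd_inj hc).2
    have b' := congrFun (congrFun b 0) 0
    simp at b'
    rw [← b', one_smul] at a
    rw [a, Matrix.trace_one, Fintype.card_fin] at hBt
    push_cast at hBt
    exact h50 (by linear_combination hs + (2 + s + 1) * hBt)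
  obtain ⟨g, -, hg⟩ := hfix x (mem_SU.2 ⟨hxU, by rw [hx, bd_det, hBd, Matrix.det_one, one_mul]⟩)
    ⟨1, by rw [hx5, one_smul, Units.val_one]⟩ hns
  obtain ⟨y, hy, hyr, hyns, ht, hti⟩ := conj_data hg hns hx5
  have h1 := hR.trace_five hy hyns hyr
  rw [ht, hti, hx, hxi, bd_trace, bd_trace, hBt, show B'.trace = s by simp [hB', Matrix.trace_fin_two, hα]; field_simp; ring,
    Matrix.trace_one, Fintype.card_fin, Nat.cast_ofNat] at h1
  exact h50 (by linear_combination (-9 : F) * hs + (3 * s - 1) * h1 - (3 * s - 1) * hs)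

theorem frame_fixed (hz : Nat.card (Subgroup.center R) = 4) :
    ∃ (iu : GL (Fin 4) F) (ci : F) (e : Fin 4 → GL (Fin 4) F), iu ∈ R ∧ iu * iu = -1 ∧ ci * ci = -1 ∧
      (iu : M4) = ci • (1 : M4) ∧ Frame R e ∧ (∀ i, st hF (e i : M4) = e i) ∧ qFrob hF ci = -ci ∧
      qFrob hF ci * ci = 1 := by
  obtain ⟨iu, hiR, hi, ci, hci, hiu⟩ := hR.exists_iu hz
  obtain ⟨e, he⟩ := hR.exists_frame_of_i ⟨iu, hiR, hi, fun v => Units.ext (by simp [hiu])⟩
  have hn : qFrob hF ci * ci = 1 := norm_of_pow_four hF hp4 (by linear_combination (ci * ci - 1) * hci)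
  refine ⟨iu, ci, e, hiR, hi, hci, hiu, he, fun i => ?_, ?_, hn⟩
  · rw [st_eq_inv hF (hRU (he.mem i)), inv_eq_of_mul_eq_one_left (he.sq i)]
  · have hci0 : ci ≠ 0 := by rintro rfl; simp at hci
    refine mul_right_cancel₀ hci0 ?_
    rw [hn]; linear_combination hci

theorem finish {x sw y T u : GL (Fin 4) F} {c : F} (hyd : y = sw * x) (hsw : (sw : M4) = c • (1 : M4))
    (hyU : y ∈ Cfsg.GU 4 F p) (hTU : T ∈ Cfsg.GU 4 F p) (hTN : T ∈ subgroupNormalizer R) (hyT : IsConj y T)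
    (hu : u * y = y * u) (hus : Commute (u : M4) (st hF (u : M4))) (hns : ¬ IsSquare ((u : M4).det)) :
    ∃ g ∈ Cfsg.GU 4 F p ⊓ specialLinear (Fin 4) F, g⁻¹ * x * g ∈ subgroupNormalizer R := by
  obtain ⟨g, hg, hgt⟩ := exists_SU_conj hF hyU hTU hyT hu hus hns
  refine ⟨g, hg, ?_⟩
  have e1 : g⁻¹ * x * g = sw⁻¹ * (g⁻¹ * y * g) := by
    have hc : sw * g⁻¹ = g⁻¹ * sw := Units.ext (by simp [hsw])
    rw [hyd, show g⁻¹ * (sw * x) * g = (g⁻¹ * sw) * (x * g) by group, ← hc]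
    group
  rw [e1, hgt]
  exact (subgroupNormalizer R).mul_mem ((subgroupNormalizer R).inv_mem (scalar_mem_normalizer hsw)) hTN

omit hR hRU in
/-- Transfer of a centralising element along a unitary conjugation. -/
theorem transfer {y D u₀ : GL (Fin 4) F} (hy : y ∈ Cfsg.GU 4 F p) (hD : D ∈ Cfsg.GU 4 F p) (h : IsConj y D)
    (hu : u₀ * D = D * u₀) (hus : Commute (u₀ : M4) (st hF (u₀ : M4))) :
    ∃ u : GL (Fin 4) F, u * y = y * u ∧ Commute (u : M4) (st hF (u : M4)) ∧ (u : M4).det = (u₀ : M4).det := by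
  obtain ⟨⟨c, hcU⟩, hc⟩ := isConj_iff.1 ((SemiUnitary.isConj_iff_gl hF ⟨y, hy⟩ ⟨D, hD⟩).2 h)
  have hc' : c * y * c⁻¹ = D := congrArg Subtype.val hc
  refine ⟨c⁻¹ * u₀ * c, ?_, ?_, ?_⟩
  · rw [show y = c⁻¹ * D * c by rw [← hc']; group]
    calc c⁻¹ * u₀ * c * (c⁻¹ * D * c) = c⁻¹ * (u₀ * D) * c := by group
      _ = c⁻¹ * (D * u₀) * c := by rw [hu]
      _ = _ := by group
  · have hci : st hF (c : M4) = ((c⁻¹ : GL (Fin 4) F) : M4) := st_eq_inv hF hcU
    have hci' : st hF ((c⁻¹ : GL (Fin 4) F) : M4) = (c : M4) := by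
      rw [← hci]; exact SemiUnitary.star'_star' hF _
    simp only [Units.val_mul, (anti_st hF).mul, hci, hci']
    have e : ∀ X Y : M4, ((c⁻¹ : GL (Fin 4) F) : M4) * X * (c : M4) * (((c⁻¹ : GL (Fin 4) F) : M4) * Y * (c : M4)) =
        ((c⁻¹ : GL (Fin 4) F) : M4) * (X * Y) * (c : M4) := fun X Y => by
      rw [show ((c⁻¹ : GL (Fin 4) F) : M4) * X * (c : M4) * (((c⁻¹ : GL (Fin 4) F) : M4) * Y * (c : M4)) =
        ((c⁻¹ : GL (Fin 4) F) : M4) * X * ((c : M4) * ((c⁻¹ : GL (Fin 4) F) : M4)) * (Y * (c : M4)) by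
          simp only [mul_assoc], Units.mul_inv, mul_one]
      simp only [mul_assoc]
    unfold Commute SemiconjBy
    rw [← mul_assoc ((c⁻¹ : GL (Fin 4) F) : M4) (st hF (u₀ : M4)) (c : M4), e, e, hus.eq]
  · rw [Units.val_mul, Units.val_mul, Matrix.det_mul, Matrix.det_mul, mul_right_comm, ← Matrix.det_mul,
      Units.inv_mul, Matrix.det_one, one_mul]

theorem fix_two (hz : Nat.card (Subgroup.center R) = 4) : AllFix p R 2 := by
  intro x hx hz2 hns
  haveI : Fact (Nat.Prime 2) := ⟨Nat.prime_two⟩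
  obtain ⟨z, hzx⟩ := hz2
  obtain ⟨hxU, hdet⟩ := mem_SU.1 hx
  have h2 := two_ne hF hp4
  have hring : ringChar F ≠ 2 := fun h => h2 (by haveI := ringChar.of_eq h; exact CharTwo.two_eq_zero)
  obtain ⟨iu, ci, e, hiR, hi, hci, hiu, he, hste, hσ, hcn⟩ := frame_fixed hF hp4 hR hRU hz
  rw [Units.val_pow_eq_pow_val] at hzx
  have hz4 : z ^ 4 = 1 := by
    have := congrArg Matrix.det hzx
    rwa [Matrix.det_pow, hdet, one_pow, Matrix.det_smul, Matrix.det_one, mul_one, Fintype.card_fin, eq_comm] at this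
  have hz0 : z ≠ 0 := by rintro rfl; norm_num at hz4
  obtain ⟨w, hw, hwn⟩ : ∃ w, z = w * w ∧ qFrob hF w * w = 1 := by
    rcases sq_eq_one_iff.1 (show (z ^ 2) ^ 2 = 1 by rw [← pow_mul]; exact hz4) with h | h
    · rcases sq_eq_one_iff.1 h with h | h
      · exact ⟨1, by rw [h, one_mul], by simp⟩
      · exact ⟨ci, by rw [h, hci], hcn⟩
    · obtain ⟨hc, ⟨k, hk⟩, -⟩ := card_sub_one hF hp4
      obtain ⟨w, hw⟩ : IsSquare z := by
        obtain ⟨m, hm⟩ : ∃ m, p - 1 = 2 * m := ⟨(p - 1) / 2, by omega⟩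
        rw [FiniteField.isSquare_iff hring hz0,
          show Fintype.card F / 2 = 4 * (k * m) by
            have h1 : Fintype.card F = 4 * k * (2 * m) + 1 := by
              rw [← hk, ← hm, ← hc, hF]
              have := Nat.one_le_pow 2 p (Fact.out : p.Prime).pos
              omega
            rw [h1, show 4 * k * (2 * m) = 2 * (4 * (k * m)) by ring]
            omega,
          pow_mul, hz4, one_pow]
      have hw0 : w ≠ 0 := by rintro rfl; simp [hw] at hz0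
      rcases sq_eq_one_iff.1 (show (qFrob hF w * w) ^ 2 = 1 by
        rw [mul_pow, ← map_pow, pow_two w, ← hw]; exact norm_of_pow_four hF hp4 hz4) with hN | hN
      · exact ⟨w, hw, hN⟩
      exfalso
      obtain ⟨sw, hsw⟩ := exists_scalar_unit (ι := Fin 4) (inv_ne_zero hw0)
      have hy2 : (w⁻¹ • (x : M4)) ^ 2 = 1 := by
        rw [smul_pow, hzx, smul_smul, hw, show w⁻¹ ^ 2 * (w * w) = 1 by field_simp, one_smul]
      have hyns : ∀ c : F, w⁻¹ • (x : M4) ≠ c • (1 : M4) := fun c hc => hns (w * c) (by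
        rw [← smul_smul, ← hc, smul_smul, mul_inv_cancel₀ hw0, one_smul])
      have hyd : (w⁻¹ • (x : M4)).det = -1 := by
        rw [Matrix.det_smul, hdet, mul_one, Fintype.card_fin, inv_pow, show w ^ 4 = -1 by rw [← h, hw]; ring]
        norm_num
      have hw' : qFrob hF w⁻¹ = -w := by
        rw [map_inv₀]
        refine inv_eq_of_mul_eq_one_left ?_
        linear_combination -hN
      have htr : qFrob hF (w⁻¹ • (x : M4)).trace = -(w⁻¹ • (x : M4)).trace := by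
        have hxi : ((x⁻¹ : GL (Fin 4) F) : M4) = z⁻¹ • (x : M4) := by
          calc ((x⁻¹ : GL (Fin 4) F) : M4) = ((x⁻¹ : GL (Fin 4) F) : M4) * (z⁻¹ • ((x : M4) ^ 2)) := by
                rw [hzx, smul_smul, inv_mul_cancel₀ hz0, one_smul, mul_one]
            _ = z⁻¹ • (x : M4) := by rw [pow_two, mul_smul_comm, ← mul_assoc, Units.inv_mul, one_mul]
        rw [← st_trace hF, (anti_st hF).smul, st_eq_inv hF hxU, hw', hxi, smul_smul, ← Matrix.trace_neg, ← neg_smul]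
        congr 2
        rw [hw]; field_simp
      rcases (involution_shape (Fintype.card_fin 4) h2 hy2 hyns).1 with ⟨hd1, -⟩ | ⟨-, ht | ht⟩
      · exact h2 (by linear_combination hyd.symm.trans hd1 |>.symm)
      · rw [ht, map_ofNat] at htr
        exact mul_ne_zero h2 h2 (by linear_combination htr)
      · rw [ht, map_neg, map_ofNat] at htr
        exact mul_ne_zero h2 h2 (by linear_combination -htr)
  have hw0 : w ≠ 0 := by rintro rfl; simp at hwn
  obtain ⟨sw, hsw⟩ := exists_scalar_unit (ι := Fin 4) (inv_ne_zero hw0)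
  have hwin : qFrob hF w⁻¹ * w⁻¹ = 1 := by rw [map_inv₀, ← mul_inv, hwn, inv_one]
  obtain ⟨y, hyd⟩ : ∃ y, y = sw * x := ⟨_, rfl⟩
  have hyU : y ∈ Cfsg.GU 4 F p := hyd ▸ (Cfsg.GU 4 F p).mul_mem (scalar_mem_GU hF hsw hwin) hxU
  have hy : (y : M4) = w⁻¹ • (x : M4) := by rw [hyd, Units.val_mul, hsw, smul_mul_assoc, one_mul]
  have hy2 : (y : M4) ^ 2 = 1 := by
    rw [hy, smul_pow, hzx, smul_smul, hw, show w⁻¹ ^ 2 * (w * w) = 1 by field_simp, one_smul]
  have hyns : ∀ c : F, (y : M4) ≠ c • (1 : M4) := fun c hc => hns (w * c) (by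
    rw [← smul_smul, ← hc, hy, smul_smul, mul_inv_cancel₀ hw0, one_smul])
  obtain ⟨hsh, huniq⟩ := involution_shape (Fintype.card_fin 4) h2 hy2 hyns
  have h20 : (2 : ℕ).Coprime p := (Nat.coprime_primes Nat.prime_two (Fact.out : p.Prime)).2 (by omega)
  obtain ⟨t, htN, htU, ht2, htns, htt, T2, hT2, hT2s, hTt⟩ : ∃ t ∈ subgroupNormalizer R, t ∈ Cfsg.GU 4 F p ∧
      (t : M4) ^ 2 = 1 ∧ (∀ c : F, (t : M4) ≠ c • (1 : M4)) ∧ (t : M4).trace = (y : M4).trace ∧
      ∃ T : Matrix (Fin 2) (Fin 2) F, T * T = 1 ∧ (T.map (qFrob hF))ᵀ = T ∧ T.trace = (y : M4).trace := by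
    rcases hsh with ⟨-, h0⟩ | ⟨-, h0⟩
    · refine ⟨e 0, hR.frame_mem_normalizer he (he.mem 0), hRU (he.mem 0),
        by rw [pow_two, ← Units.val_mul, he.sq, Units.val_one],
        hR.frame_ne he 0, ?_, !![1, 0; 0, -1], ?_, ?_, ?_⟩
      · rw [h0]; exact hR.trace_zero (he.mem 0) (hR.frame_ne he 0)
      · ext i j; fin_cases i <;> fin_cases j <;> simp
      · ext i j; fin_cases i <;> fin_cases j <;> simp
      · rw [h0]; simp [Matrix.trace_fin_two]
    · obtain ⟨t, ht, ht2, htt, htns, htst⟩ := hR.cz_target he hiR hi hiu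
      have htU : t ∈ Cfsg.GU 4 F p := (mem_GU hF).2 (htst _ _ (anti_st hF) hste hσ)
      rcases h0 with h0 | h0
      · exact ⟨t, ht, htU, ht2, htns, htt.trans h0.symm, 1, one_mul 1,
          by rw [Matrix.map_one _ (map_zero _) (map_one _), Matrix.transpose_one], by rw [h0]; simp⟩
      · refine ⟨-1 * t, (subgroupNormalizer R).mul_mem (scalar_mem_normalizer (c := -1) (by simp)) ht,
          (Cfsg.GU 4 F p).mul_mem (scalar_mem_GU hF (c := -1) (by simp) (by simp)) htU, ?_, ?_, ?_,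
          -1, by simp, ?_, ?_⟩
        · simp only [neg_one_mul, Units.val_neg, neg_sq, ht2]
        · intro c hc
          refine htns (-c) ?_
          simp only [neg_one_mul, Units.val_neg] at hc
          rw [neg_smul, ← hc, neg_neg]
        · rw [h0, neg_one_mul, Units.val_neg, Matrix.trace_neg, htt]
        · ext i j; fin_cases i <;> fin_cases j <;> simp
        · rw [h0]; simp
  obtain ⟨E, hE, hEs⟩ : ∃ E : Matrix (Fin 2) (Fin 2) F, E = !![1, 0; 0, -1] ∧ (E.map (qFrob hF))ᵀ = E :=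
    ⟨_, rfl, by ext i j; fin_cases i <;> fin_cases j <;> simp⟩
  have hEE : E * E = 1 := by rw [hE]; ext i j; fin_cases i <;> fin_cases j <;> simp
  obtain ⟨D, hD⟩ : ∃ D : GL (Fin 4) F, (D : M4) = bd E T2 := by
    have : bd E T2 * bd E T2 = (1 : M4) := by rw [bd_mul, hT2, hEE, bd_one]
    exact ⟨⟨_, _, this, this⟩, rfl⟩
  have hD2 : (D : M4) ^ 2 = 1 := by rw [hD, pow_two, bd_mul, hT2, hEE, bd_one]
  have hDU : D ∈ Cfsg.GU 4 F p := by rw [mem_GU hF, hD, st_bd, hEs, hT2s, bd_mul, hT2, hEE, bd_one]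
  have hDns : ∀ c : F, (D : M4) ≠ c • (1 : M4) := fun c hc => by
    rw [hD, ← bd_one, bd_smul, hE] at hc
    have a := congrFun (congrFun (bd_inj hc).1 0) 0
    have b := congrFun (congrFun (bd_inj hc).1 1) 1
    simp at a b
    exact h2 (by linear_combination a - b)
  have hyt := gl_conj_of_charpoly p h20 hy2 ht2 (huniq _ ht2 htns htt.symm)
  have hyD := gl_conj_of_charpoly p h20 hy2 hD2 (huniq _ hD2 hDns (by
    rw [hD, bd_trace, hTt, hE]; simp [Matrix.trace_fin_two]))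
  obtain ⟨ν, hν⟩ := FiniteField.exists_nonsquare (F := F) hring
  have hud : (bd !![ν, 0; 0, 1] (1 : Matrix (Fin 2) (Fin 2) F)).det = ν := by
    rw [bd_det]; simp [Matrix.det_fin_two]
  obtain ⟨u₀, hu₀⟩ : ∃ u : GL (Fin 4) F, (u : M4) = bd !![ν, 0; 0, 1] 1 :=
    ⟨ofDet _ (by rw [hud]; rintro rfl; exact hν ⟨0, by simp⟩), ofDet_coe _ _⟩
  have hu₀D : u₀ * D = D * u₀ := by
    apply Units.ext
    rw [Units.val_mul, Units.val_mul, hu₀, hD, bd_mul, bd_mul, one_mul, mul_one, hE]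
    congr 1
    ext i j; fin_cases i <;> fin_cases j <;> simp
  have hu₀s : Commute (u₀ : M4) (st hF (u₀ : M4)) := by
    rw [hu₀, st_bd, Matrix.map_one _ (map_zero _) (map_one _), Matrix.transpose_one,
      show ((!![ν, 0; 0, 1] : Matrix (Fin 2) (Fin 2) F).map (qFrob hF))ᵀ = !![qFrob hF ν, 0; 0, 1] by
        ext i j; fin_cases i <;> fin_cases j <;> simp]
    unfold Commute SemiconjBy
    rw [bd_mul, bd_mul]
    congr 1
    ext i j; fin_cases i <;> fin_cases j <;> simp [mul_comm]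
  obtain ⟨u, huy, hus, hudet⟩ := transfer hF hp4 hyU hDU hyD hu₀D hu₀s
  exact finish hF hp4 hR hRU hyd hsw hyU htU htN hyt huy hus (by rw [hudet, hu₀, hud]; exact hν)

theorem fix_three (hz : Nat.card (Subgroup.center R) = 4) (h3 : p % 3 = 1) : AllFix p R 3 := by
  intro x hx hz3 hns
  haveI : Fact (Nat.Prime 3) := ⟨by norm_num⟩
  obtain ⟨z, hzx⟩ := hz3
  obtain ⟨hxU, hdet⟩ := mem_SU.1 hx
  have h2 := two_ne hF hp4
  have h30' : (3 : F) ≠ 0 := by exact_mod_cast cast_ne hF hp4 Nat.prime_three (by omega)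
  obtain ⟨iu, ci, e, hiR, hi, hci, hiu, he, hste, hσ, hcn⟩ := frame_fixed hF hp4 hR hRU hz
  rw [Units.val_pow_eq_pow_val] at hzx
  have hz4 : z ^ 4 = 1 := by
    have := congrArg Matrix.det hzx
    rwa [Matrix.det_pow, hdet, one_pow, Matrix.det_smul, Matrix.det_one, mul_one, Fintype.card_fin, eq_comm] at this
  have hz0 : z ≠ 0 := by rintro rfl; norm_num at hz4
  obtain ⟨sw, hsw⟩ := exists_scalar_unit (ι := Fin 4) hz0
  obtain ⟨y, hyd⟩ : ∃ y, y = sw * x := ⟨_, rfl⟩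
  have hyU : y ∈ Cfsg.GU 4 F p :=
    hyd ▸ (Cfsg.GU 4 F p).mul_mem (scalar_mem_GU hF hsw (norm_of_pow_four hF hp4 hz4)) hxU
  have hy : (y : M4) = z • (x : M4) := by rw [hyd, Units.val_mul, hsw, smul_mul_assoc, one_mul]
  have hy3 : (y : M4) ^ 3 = 1 := by
    rw [hy, smul_pow, hzx, smul_smul, show z ^ 3 * z = 1 by rw [← pow_succ, hz4], one_smul]
  have hyns : ∀ c : F, (y : M4) ≠ c • (1 : M4) := fun c hc => hns (z⁻¹ * c) (by
    rw [← smul_smul, ← hc, hy, smul_smul, inv_mul_cancel₀ hz0, one_smul])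
  have hy1 : (y : M4) ≠ 1 := fun h => hyns 1 (by rw [h, one_smul])
  have h30 : (3 : ℕ).Coprime p := (Nat.coprime_primes Nat.prime_three (Fact.out : p.Prime)).2 (by omega)
  have h4 : Fintype.card (Fin 4) = 4 := Fintype.card_fin 4
  obtain ⟨hcy, hdy⟩ := three_facts hF h3 hyU hy3
  obtain ⟨hcase, -⟩ := three_unique (M' := (y : M4)) h4 h30' hy3 hy1 hdy hcy
  obtain ⟨t, htN, t', ht'N, ⟨ht3, htt, htns⟩, ⟨ht'3, ht't, ht'ns⟩, hst⟩ := hR.three_targets he hiR hi hiu
  obtain ⟨htst, ht'st⟩ := hst _ _ (anti_st hF) hste hσ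
  have htU : t ∈ Cfsg.GU 4 F p := (mem_GU hF).2 htst
  have ht'U : t' ∈ Cfsg.GU 4 F p := (mem_GU hF).2 ht'st
  obtain ⟨α, hα⟩ : ∃ α : F, α = -1 / 2 := ⟨_, rfl⟩
  have hσα : qFrob hF α = α := by rw [hα, map_div₀, map_neg, map_one, map_ofNat]
  obtain ⟨β, hβ⟩ := exists_norm hF (δ := 1 - α * α) (by rw [map_sub, map_one, map_mul, hσα])
  obtain ⟨C, hC⟩ : ∃ C : Matrix (Fin 2) (Fin 2) F, C = !![α, -qFrob hF β; β, α] := ⟨_, rfl⟩
  obtain ⟨C', hC'⟩ : ∃ C' : Matrix (Fin 2) (Fin 2) F, C' = !![α, qFrob hF β; -β, α] := ⟨_, rfl⟩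
  have hCt : C.trace = -1 := by simp [hC, Matrix.trace_fin_two, hα]; field_simp; norm_num
  have hCd : C.det = 1 := by simp [hC, Matrix.det_fin_two]; linear_combination hβ
  have hstC : (C.map (qFrob hF))ᵀ = C' := by
    rw [hC, hC']; ext i j; fin_cases i <;> fin_cases j <;> simp [hσα, qFrob_qFrob]
  have m1 : C' * C = 1 := by
    rw [hC, hC']; ext i j; fin_cases i <;> fin_cases j <;> simp <;> first | linear_combination hβ | ring
  have hC3 := cube_fin_two hCt hCd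
  have hC2 : C' = C ^ 2 := by
    calc C' = C' * C ^ 3 := by rw [hC3, mul_one]
      _ = C ^ 2 := by rw [pow_succ' C 2, ← mul_assoc, m1, one_mul]
  have conj_to : ∀ t₁ : GL (Fin 4) F, t₁ ∈ Cfsg.GU 4 F p → (t₁ : M4) ^ 3 = 1 →
      (∀ c : F, (t₁ : M4) ≠ c • (1 : M4)) → (t₁ : M4).trace = (y : M4).trace → IsConj y t₁ := by
    intro t₁ hU h₁ hns₁ htr
    obtain ⟨hct, hdt⟩ := three_facts hF h3 hU h₁
    exact gl_conj_of_charpoly p h30 hy3 h₁ ((three_unique h4 h30' hy3 hy1 hdy hcy).2 h₁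
      (fun h => hns₁ 1 (by rw [h, one_smul])) hdt hct htr.symm)
  obtain ⟨T, hTN, hTU, hT, T2, hT2, hT2s, hT2t, hT2C⟩ : ∃ T ∈ subgroupNormalizer R, T ∈ Cfsg.GU 4 F p ∧
      IsConj y T ∧ ∃ T2 : Matrix (Fin 2) (Fin 2) F, T2 ^ 3 = 1 ∧ (T2.map (qFrob hF))ᵀ * T2 = 1 ∧
        T2.trace - 1 = (y : M4).trace ∧ T2 * C = C * T2 := by
    rcases hcase with h | h
    · exact ⟨t', ht'N, ht'U, conj_to t' ht'U ht'3 ht'ns (ht't.trans h.symm), 1, one_pow 3,
        by rw [Matrix.map_one _ (map_zero _) (map_one _), Matrix.transpose_one, one_mul],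
        by rw [h, Matrix.trace_one, Fintype.card_fin]; norm_num, by simp⟩
    · exact ⟨t, htN, htU, conj_to t htU ht3 htns (htt.trans h.symm), C, hC3, by rw [hstC, m1],
        by rw [h, hCt]; norm_num, rfl⟩
  obtain ⟨D, hD⟩ : ∃ D : GL (Fin 4) F, (D : M4) = bd C T2 :=
    ⟨⟨bd C T2, bd (C ^ 2) (T2 ^ 2), by rw [bd_mul, ← pow_succ', ← pow_succ', hC3, hT2, bd_one],
      by rw [bd_mul, ← pow_succ, ← pow_succ, hC3, hT2, bd_one]⟩, rfl⟩
  have hD3 : (D : M4) ^ 3 = 1 := by rw [hD, bd_pow, hC3, hT2, bd_one]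
  have hDU : D ∈ Cfsg.GU 4 F p := by rw [mem_GU hF, hD, st_bd, hstC, bd_mul, m1, hT2s, bd_one]
  have hDns : ∀ c : F, (D : M4) ≠ c • (1 : M4) := fun c hc => by
    rw [hD, ← bd_one, bd_smul] at hc
    have hC1 := (bd_inj hc).1
    rw [hC1, Matrix.trace_smul, Matrix.trace_one, Fintype.card_fin, smul_eq_mul] at hCt
    rw [hC1, Matrix.det_smul, Matrix.det_one, Fintype.card_fin, mul_one] at hCd
    exact h30' (by push_cast at hCt; linear_combination (2 * c - 1) * hCt - 4 * hCd)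
  have hyD := conj_to D hDU hD3 hDns (by rw [hD, bd_trace, hCt, ← hT2t]; ring)
  obtain ⟨ν, hν⟩ := FiniteField.exists_nonsquare (F := F) (fun h => h2 (by
    haveI := ringChar.of_eq h; exact CharTwo.two_eq_zero))
  obtain ⟨a, b, hab⟩ := exists_quad h2 h30' ν
  have hud : (bd (a • (1 : Matrix (Fin 2) (Fin 2) F) + b • C) 1).det = ν := by
    rw [bd_det, det_lin, hCt, hCd, Matrix.det_one]; linear_combination hab
  obtain ⟨u₀, hu₀⟩ : ∃ u : GL (Fin 4) F, (u : M4) = bd (a • (1 : Matrix (Fin 2) (Fin 2) F) + b • C) 1 :=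
    ⟨ofDet _ (by rw [hud]; rintro rfl; exact hν ⟨0, by simp⟩), ofDet_coe _ _⟩
  have hu₀D : u₀ * D = D * u₀ := by
    apply Units.ext
    rw [Units.val_mul, Units.val_mul, hu₀, hD, bd_mul, bd_mul, one_mul, mul_one]
    congr 1
    simp [add_mul, mul_add]
  have hu₀s : Commute (u₀ : M4) (st hF (u₀ : M4)) := by
    have e : ((a • (1 : Matrix (Fin 2) (Fin 2) F) + b • C).map (qFrob hF))ᵀ =
        qFrob hF a • (1 : Matrix (Fin 2) (Fin 2) F) + qFrob hF b • C ^ 2 := by
      rw [← hC2, ← hstC]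
      ext i j
      fin_cases i <;> fin_cases j <;> simp
    rw [hu₀, st_bd, e, Matrix.map_one _ (map_zero _) (map_one _), Matrix.transpose_one]
    unfold Commute SemiconjBy
    rw [bd_mul, bd_mul]
    congr 1
    have hc : Commute (a • (1 : Matrix (Fin 2) (Fin 2) F) + b • C) C :=
      ((Commute.one_left C).smul_left a).add_left ((Commute.refl C).smul_left b)
    exact (((Commute.one_right _).smul_right _).add_right ((hc.pow_right 2).smul_right _)).eq
  obtain ⟨u, huy, hus, hudet⟩ := transfer hF hp4 hyU hDU hyD hu₀D hu₀s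
  exact finish hF hp4 hR hRU hyd hsw hyU hTU hTN hT huy hus (by rw [hudet, hu₀, hud]; exact hν)

theorem fix_five (hz : Nat.card (Subgroup.center R) = 4) (h5 : p % 5 = 2 ∨ p % 5 = 3) : AllFix p R 5 := by
  intro x hx hz5 hns
  haveI : Fact (Nat.Prime 5) := ⟨by norm_num⟩
  obtain ⟨z, hzx⟩ := hz5
  obtain ⟨hxU, hdet⟩ := mem_SU.1 hx
  have h2 := two_ne hF hp4
  have hp5 : p ≠ 5 := by omega
  have hf5 : (5 : F) ≠ 0 := by exact_mod_cast cast_ne hF hp4 (by norm_num : Nat.Prime 5) hp5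
  obtain ⟨iu, ci, e, hiR, hi, hci, hiu, he, hste, hσ, hcn⟩ := frame_fixed hF hp4 hR hRU hz
  rw [Units.val_pow_eq_pow_val] at hzx
  have hz4 : z ^ 4 = 1 := by
    have := congrArg Matrix.det hzx
    rwa [Matrix.det_pow, hdet, one_pow, Matrix.det_smul, Matrix.det_one, mul_one, Fintype.card_fin, eq_comm] at this
  have hz0 : z ≠ 0 := by rintro rfl; norm_num at hz4
  obtain ⟨sw, hsw⟩ := exists_scalar_unit (ι := Fin 4) (inv_ne_zero hz0)
  obtain ⟨y, hyd⟩ : ∃ y, y = sw * x := ⟨_, rfl⟩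
  have hyU : y ∈ Cfsg.GU 4 F p := hyd ▸ (Cfsg.GU 4 F p).mul_mem
    (scalar_mem_GU hF hsw (by rw [map_inv₀, ← mul_inv, norm_of_pow_four hF hp4 hz4, inv_one])) hxU
  have hy : (y : M4) = z⁻¹ • (x : M4) := by rw [hyd, Units.val_mul, hsw, smul_mul_assoc, one_mul]
  have hy5 : (y : M4) ^ 5 = 1 := by
    rw [hy, smul_pow, hzx, smul_smul, show z⁻¹ ^ 5 * z = 1 by
      field_simp; linear_combination -hz4, one_smul]
  have hyns : ∀ c : F, (y : M4) ≠ c • (1 : M4) := fun c hc => hns (z * c) (by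
    rw [← smul_smul, ← hc, hy, smul_smul, mul_inv_cancel₀ hz0, one_smul])
  have hy1 : (y : M4) ≠ 1 := fun h => hyns 1 (by rw [h, one_smul])
  have h50 : (5 : ℕ).Coprime p := (Nat.coprime_primes (by norm_num) (Fact.out : p.Prime)).2 (Ne.symm hp5)
  obtain ⟨t, htN, ⟨c, hc⟩, htns, hst⟩ := hR.five_target he
  have htst := hst _ _ (anti_st hF) hste
  have htU : t ∈ Cfsg.GU 4 F p := (mem_GU hF).2 htst
  have hcn' : qFrob hF c * c = 1 := by
    have h := (mem_GU hF).1 ((Cfsg.GU 4 F p).pow_mem htU 5)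
    rw [Units.val_pow_eq_pow_val, hc, (anti_st hF).smul, (anti_st hF).one, smul_mul_smul_comm, one_mul] at h
    have h' := congrFun (congrFun h 0) 0
    simpa using h'
  have hc0 : c ≠ 0 := by rintro rfl; simp at hcn'
  have hcop : (Nat.card Fˣ).Coprime 5 := by
    classical
    rw [Nat.card_eq_fintype_card, Fintype.card_units, hF, Nat.coprime_comm]
    refine (Nat.Prime.coprime_iff_not_dvd (by norm_num : Nat.Prime 5)).2 fun h => ?_
    have h1 : p ^ 2 % 5 = 4 := by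
      rw [pow_two, Nat.mul_mod]
      rcases h5 with h' | h' <;> rw [h']
    omega
  obtain ⟨l, hl⟩ : ∃ l : F, l ^ 5 = c := by
    obtain ⟨u, hu⟩ := (hcop.pow_left_bijective).2 (Units.mk0 c hc0)
    exact ⟨u, by simp only at hu; rw [← Units.val_pow_eq_pow_val, hu, Units.val_mk0]⟩
  have hl0 : l ≠ 0 := by rintro rfl; simp at hl; exact hc0 hl.symm
  have hln : qFrob hF l * l = 1 := by
    have e1 : (qFrob hF l * l) ^ 5 = 1 := by rw [mul_pow, ← map_pow, hl, hcn']
    have hne : qFrob hF l * l ≠ 0 := fun h => by rw [h] at e1; norm_num at e1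
    have e2 := hcop.pow_left_bijective.1 (a₁ := Units.mk0 _ hne) (a₂ := 1)
      (Units.ext (by simp only [Units.val_pow_eq_pow_val, Units.val_mk0, Units.val_one, one_pow]; exact e1))
    exact congrArg Units.val e2
  obtain ⟨sl, hsl⟩ := exists_scalar_unit (ι := Fin 4) (inv_ne_zero hl0)
  obtain ⟨T, hT⟩ : ∃ T, T = sl * t := ⟨_, rfl⟩
  have hTU : T ∈ Cfsg.GU 4 F p := hT ▸ (Cfsg.GU 4 F p).mul_mem
    (scalar_mem_GU hF hsl (by rw [map_inv₀, ← mul_inv, hln, inv_one])) htU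
  have hTN : T ∈ subgroupNormalizer R := hT ▸ (subgroupNormalizer R).mul_mem (scalar_mem_normalizer hsl) htN
  have hT' : (T : M4) = l⁻¹ • (t : M4) := by rw [hT, Units.val_mul, hsl, smul_mul_assoc, one_mul]
  have hT5 : (T : M4) ^ 5 = 1 := by rw [hT', smul_pow, hc, smul_smul, ← hl,
      show l⁻¹ ^ 5 * l ^ 5 = 1 by rw [← mul_pow, inv_mul_cancel₀ hl0, one_pow], one_smul]
  have hT1 : (T : M4) ≠ 1 := fun h => htns l (by rw [← h, hT', smul_smul, mul_inv_cancel₀ hl0, one_smul])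
  have hcy := five_facts hF h5 hyU hy5
  have hyT := gl_conj_of_charpoly p h50 hy5 hT5
    (five_unique (Fintype.card_fin 4) hf5 hy5 hy1 hcy hT5 hT1 (five_facts hF h5 hTU hT5)).1
  -- a model with two blocks
  obtain ⟨q, hq⟩ := exists_sqrt_five hF hp4
  have hσq : qFrob hF q = -q := by
    rcases mul_self_eq_mul_self_iff.1 (show qFrob hF q * qFrob hF q = q * q by rw [← map_mul, hq, map_ofNat]) with h | h
    · exfalso; have := five_of_fixed hF hp4 hq h; omega
    · exact h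
  obtain ⟨s, hsd⟩ : ∃ s : F, s = (q - 1) / 2 := ⟨_, rfl⟩
  obtain ⟨s', hsd'⟩ : ∃ s : F, s = (-q - 1) / 2 := ⟨_, rfl⟩
  have hs : s * s + s - 1 = 0 := by rw [hsd]; field_simp; linear_combination hq
  have hs' : s' * s' + s' - 1 = 0 := by rw [hsd']; field_simp; linear_combination hq
  have hσs : qFrob hF s = s' := by rw [hsd, hsd', map_div₀, map_sub, hσq, map_one, map_ofNat]
  have hq0 : q ≠ 0 := by rintro rfl; exact hf5 (by simpa using hq.symm)
  have hss : s - s' = q := by rw [hsd, hsd']; field_simp; ring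
  obtain ⟨B, hB⟩ : ∃ B : Matrix (Fin 2) (Fin 2) F, B = !![0, -1; 1, s] := ⟨_, rfl⟩
  obtain ⟨B', hB'⟩ : ∃ B : Matrix (Fin 2) (Fin 2) F, B = !![0, -1; 1, s'] := ⟨_, rfl⟩
  have hBt : B.trace = s := by simp [hB, Matrix.trace_fin_two]
  have hBd : B.det = 1 := by simp [hB, Matrix.det_fin_two]
  have hBt' : B'.trace = s' := by simp [hB', Matrix.trace_fin_two]
  have hBd' : B'.det = 1 := by simp [hB', Matrix.det_fin_two]
  have hB5 := five_fin_two hs hBt hBd
  have hB5' := five_fin_two hs' hBt' hBd'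
  have hD5 : bd B B' ^ 5 = (1 : M4) := by rw [bd_pow, hB5, hB5', bd_one]
  obtain ⟨D, hD⟩ : ∃ D : GL (Fin 4) F, (D : M4) = bd B B' :=
    ⟨⟨bd B B', bd B B' ^ 4, by rw [← pow_succ', hD5], by rw [← pow_succ, hD5]⟩, rfl⟩
  have hD5' : (D : M4) ^ 5 = 1 := by rw [hD, hD5]
  have hD1 : (D : M4) ≠ 1 := fun h => by
    rw [hD, ← bd_one] at h
    have := congrFun (congrFun (bd_inj h).1 1) 0
    simp [hB] at this
  have hsum : s + s' = -1 := by rw [hsd, hsd']; field_simp; ring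
  have hDc : ((D : M4) ^ 2).charpoly = (D : M4).charpoly := by
    have t1 : (B ^ 2).trace = s' := by
      rw [pow_two, sq_fin_two, Matrix.trace_sub, Matrix.trace_smul, Matrix.trace_smul, hBt, hBd, Matrix.trace_one,
        Fintype.card_fin, smul_eq_mul, smul_eq_mul]
      push_cast
      linear_combination hs - hsum
    have t2 : (B' ^ 2).trace = s := by
      rw [pow_two, sq_fin_two, Matrix.trace_sub, Matrix.trace_smul, Matrix.trace_smul, hBt', hBd', Matrix.trace_one,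
        Fintype.card_fin, smul_eq_mul, smul_eq_mul]
      push_cast
      linear_combination hs' - hsum
    rw [hD, bd_pow, bd_charpoly, bd_charpoly, Matrix.charpoly_fin_two, Matrix.charpoly_fin_two, Matrix.charpoly_fin_two,
      Matrix.charpoly_fin_two, t1, t2, hBt, hBt', Matrix.det_pow, Matrix.det_pow, hBd, hBd', one_pow]
    exact mul_comm _ _
  have hyD := gl_conj_of_charpoly p h50 hy5 hD5' (five_unique (Fintype.card_fin 4) hf5 hy5 hy1 hcy hD5' hD1 hDc).1
  obtain ⟨cI, hcI⟩ := isConj_iff.1 hyD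
  have hyeq : (y : M4) = ((cI⁻¹ : GL (Fin 4) F) : M4) * bd B B' * (cI : M4) := by
    rw [← hD, ← Units.val_mul, ← Units.val_mul, ← hcI]; congr 1; group
  obtain ⟨f, hf⟩ : ∃ f : M4 → M4, ∀ M, f M = 1 - q⁻¹ • (M * M - s' • M + 1) := ⟨_, fun _ => rfl⟩
  have hfD : f (bd B B') = bd (1 - B) 1 := by
    rw [hf, bd_mul, ← bd_one, bd_smul, bd_sub, bd_add, bd_smul, bd_sub, sq_fin_two, sq_fin_two B', hBt, hBd, hBt', hBd',
      one_smul]
    congr 1
    · have e1 : s • B - 1 - s' • B + 1 = q • B := by rw [← hss, sub_smul]; abel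
      rw [e1, smul_smul, inv_mul_cancel₀ hq0, one_smul]
    · simp
  have hdetu : (f (y : M4)).det = 2 - s := by
    have hcc : ∀ M : M4, f (((cI⁻¹ : GL (Fin 4) F) : M4) * M * (cI : M4)) = ((cI⁻¹ : GL (Fin 4) F) : M4) * f M * (cI : M4) := by
      intro M
      rw [hf, hf, show ((cI⁻¹ : GL (Fin 4) F) : M4) * M * (cI : M4) * (((cI⁻¹ : GL (Fin 4) F) : M4) * M * (cI : M4)) =
        ((cI⁻¹ : GL (Fin 4) F) : M4) * M * ((cI : M4) * ((cI⁻¹ : GL (Fin 4) F) : M4)) * (M * (cI : M4)) by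
          simp only [mul_assoc], Units.mul_inv, mul_one]
      simp [mul_sub, sub_mul, mul_add, add_mul, mul_assoc, smul_add, smul_sub]
    rw [hyeq, hcc, hfD, Matrix.det_mul, Matrix.det_mul, mul_right_comm, ← Matrix.det_mul, Units.inv_mul,
      Matrix.det_one, one_mul, bd_det, Matrix.det_one, mul_one, hB, Matrix.det_fin_two]
    simp
    ring
  have hnsq : ¬ IsSquare (2 - s) := by
    rintro ⟨v, hv⟩
    have h5v : (v * qFrob hF v) * (v * qFrob hF v) = 5 := by
      have : (2 - s) * (2 - s') = 5 := by rw [hsd, hsd']; field_simp; linear_combination -hq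
      rw [← this, ← hσs, show (2 : F) - qFrob hF s = qFrob hF (2 - s) by rw [map_sub, map_ofNat], hv, map_mul]
      ring
    have := five_of_fixed hF hp4 h5v (by rw [map_mul, qFrob_qFrob, mul_comm])
    omega
  have hu0 : (f (y : M4)).det ≠ 0 := fun h => hnsq ⟨0, by rw [← hdetu, h, mul_zero]⟩
  obtain ⟨u, hu⟩ : ∃ u : GL (Fin 4) F, (u : M4) = f (y : M4) := ⟨ofDet _ hu0, ofDet_coe _ _⟩
  have hcf : ∀ M : M4, Commute M (y : M4) → Commute (f (y : M4)) M := by
    intro M hM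
    rw [hf]
    exact (Commute.one_left M).sub_left ((((hM.symm.mul_left hM.symm).sub_left (hM.symm.smul_left s')).add_left
      (Commute.one_left M)).smul_left _)
  have huy : u * y = y * u := Units.ext (by rw [Units.val_mul, Units.val_mul, hu]; exact (hcf _ (Commute.refl _)).eq)
  have hus : Commute (u : M4) (st hF (u : M4)) := by
    rw [hu]
    refine hcf _ ?_
    have hys : Commute (st hF (y : M4)) (y : M4) := by
      rw [st_eq_inv hF hyU]; exact (by rw [Commute, SemiconjBy, Units.inv_mul, Units.mul_inv])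
    rw [hf, (anti_st hF).sub, (anti_st hF).one, (anti_st hF).smul, (anti_st hF).add, (anti_st hF).sub,
      (anti_st hF).mul, (anti_st hF).smul, (anti_st hF).one]
    exact (Commute.one_left _).sub_left ((((hys.mul_left hys).sub_left (hys.smul_left _)).add_left
      (Commute.one_left _)).smul_left _)
  exact finish hF hp4 hR hRU hyd hsw hyU hTU hTN hyT huy hus (by rw [hu, hdetu]; exact hnsq)

end CfsgLib.MaxSub.SymFour.Unitary
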