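import Cfsg.Agent.Lib.MaxSub.SympTypeFourApply
import Cfsg.Agent.Lib.Classical.SemiUnitary

/-!
Unitary groups of degree four over `F_{p²}`: adjoints, norms and conjugators of determinant one.
-/

set_option autoImplicit false
set_option linter.unusedSectionVars false
set_option linter.style.haveILetI false

namespace CfsgLib.MaxSub.SymFour.Unitary

open scoped MatrixGroups
open Cfsg.Geo Matrix CfsgLib.MaxSub.SymFour CfsgLib.Classical

variable {F : Type*} [Field F] [Fintype F] {p : ℕ} [Fact p.Prime] [CharP F p]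
  (hF : Fintype.card F = p ^ 2)

local notation "M4" => Matrix (Fin 4) (Fin 4) F

/-- The adjoint. -/
noncomputable def st (X : Matrix (Fin 4) (Fin 4) F) : Matrix (Fin 4) (Fin 4) F := SemiUnitary.star' hF X

theorem st_apply (X : M4) : st hF X = (X.map (qFrob hF))ᵀ := rfl

theorem anti_st : Anti (qFrob hF) (st hF) where
  add X Y := map_add (SemiUnitary.star' hF) X Y
  mul X Y := SemiUnitary.star'_mul hF X Y
  smul c X := by ext i j; simp [st_apply]
  one := SemiUnitary.star'_one hF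

theorem mem_GU {g : GL (Fin 4) F} : g ∈ Cfsg.GU 4 F p ↔ st hF (g : M4) * (g : M4) = 1 := by
  rw [SemiUnitary.mem_gu_iff hF]
  constructor <;> intro h
  · have := congrArg (fun X : M4 => X.map (qFrob hF)) h
    simpa only [Matrix.map_mul, ← Matrix.transpose_map, SemiUnitary.map_map, Matrix.map_one _ (map_zero _) (map_one _),
      st_apply] using this
  · have := congrArg (fun X : M4 => X.map (qFrob hF)) h
    simpa only [Matrix.map_mul, ← Matrix.transpose_map, SemiUnitary.map_map, Matrix.map_one _ (map_zero _) (map_one _),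
      st_apply] using this

theorem st_eq_inv {g : GL (Fin 4) F} (hg : g ∈ Cfsg.GU 4 F p) : st hF (g : M4) = ((g⁻¹ : GL (Fin 4) F) : M4) := by
  rw [← mul_one (st hF (g : M4)), ← g.mul_inv, ← mul_assoc, (mem_GU hF).1 hg, one_mul]

theorem st_det (X : M4) : (st hF X).det = qFrob hF X.det := by
  rw [st_apply, Matrix.det_transpose, SemiUnitary.det_map hF]

theorem st_trace (X : M4) : (st hF X).trace = qFrob hF X.trace := by
  rw [st_apply, Matrix.trace_transpose, AddMonoidHom.map_trace]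

theorem st_bd (A B : Matrix (Fin 2) (Fin 2) F) :
    st hF (bd A B) = bd (A.map (qFrob hF))ᵀ (B.map (qFrob hF))ᵀ := by
  rw [st_apply, bd_map, bd_transpose]

theorem scalar_mem_GU {s : GL (Fin 4) F} {c : F} (hs : (s : M4) = c • (1 : M4)) (hc : qFrob hF c * c = 1) :
    s ∈ Cfsg.GU 4 F p := by
  rw [mem_GU hF, hs, (anti_st hF).smul, (anti_st hF).one, smul_mul_smul_comm, hc, one_mul, one_smul]

theorem qFrob_eq_frobenius : qFrob hF = frobenius F p := RingHom.ext fun x => by
  rw [qFrob_apply, frobenius_def]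

include hF in
theorem charpoly_pow_inv {y : GL (Fin 4) F} (hy : y ∈ Cfsg.GU 4 F p) :
    ((y : M4) ^ p).charpoly = ((y⁻¹ : GL (Fin 4) F) : M4).charpoly := by
  rw [← st_eq_inv hF hy, charpoly_pow_char p, st_apply, Matrix.charpoly_transpose, Matrix.charpoly_map,
    qFrob_eq_frobenius hF]

include hF in
/-- In a cyclic group of order `a * b`, the kernel of `a` is the image of `b`. -/
theorem exists_root_of_pow (a b : ℕ) (hab : p ^ 2 - 1 = a * b) (ha : 0 < a) {d : F} (hd : d ^ a = 1) :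
    ∃ e : F, e ≠ 0 ∧ e ^ b = d := by
  classical
  have hd0 : d ≠ 0 := by rintro rfl; rw [zero_pow ha.ne'] at hd; exact zero_ne_one hd
  obtain ⟨g, hg⟩ := IsCyclic.exists_generator (α := Fˣ)
  obtain ⟨m, hm⟩ := (isOfFinOrder_of_finite g).mem_powers_iff_mem_zpowers.2 (hg (Units.mk0 d hd0))
  simp only at hm
  have hN : orderOf g = a * b := by
    rw [orderOf_eq_card_of_forall_mem_zpowers hg, Nat.card_eq_fintype_card, Fintype.card_units, hF, hab]
  have h1 : g ^ (m * a) = 1 := by
    rw [pow_mul, hm]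
    exact Units.ext (by simpa using hd)
  have h2 : a * b ∣ m * a := hN ▸ orderOf_dvd_of_pow_eq_one h1
  have h3 : b ∣ m := by
    rw [mul_comm m a] at h2
    exact Nat.dvd_of_mul_dvd_mul_left ha h2
  obtain ⟨k, rfl⟩ := h3
  refine ⟨((g ^ k : Fˣ) : F), Units.ne_zero _, ?_⟩
  rw [← Units.val_pow_eq_pow_val, ← pow_mul, mul_comm k b, hm, Units.val_mk0]

theorem sq_sub_one : p ^ 2 - 1 = (p + 1) * (p - 1) := by
  obtain ⟨k, hk⟩ : ∃ k, p = k + 1 := ⟨p - 1, by have := (Fact.out : p.Prime).two_le; omega⟩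
  subst hk
  rw [Nat.add_sub_cancel]
  ring_nf
  omega

/-- Norms are surjective onto the fixed field. -/
theorem exists_norm {δ : F} (hδ : qFrob hF δ = δ) : ∃ β : F, qFrob hF β * β = δ := by
  rcases eq_or_ne δ 0 with rfl | h0
  · exact ⟨0, by simp⟩
  have hd : δ ^ (p - 1) = 1 := by
    rw [qFrob_apply] at hδ
    refine mul_right_cancel₀ h0 ?_
    rw [← pow_succ, Nat.sub_add_cancel (Fact.out : p.Prime).pos, hδ, one_mul]
  obtain ⟨e, he0, he⟩ := exists_root_of_pow hF (p - 1) (p + 1) (by rw [sq_sub_one (p := p), mul_comm])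
    (by have := (Fact.out : p.Prime).two_le; omega) hd
  exact ⟨e, by rw [qFrob_apply, ← pow_succ, he]⟩

include hF in
/-- A conjugator in the special unitary group from a centralising element of nonsquare determinant. -/
theorem exists_SU_conj {y t u : GL (Fin 4) F} (hy : y ∈ Cfsg.GU 4 F p) (ht : t ∈ Cfsg.GU 4 F p)
    (h : IsConj y t) (hu : u * y = y * u) (hus : Commute (u : M4) (st hF (u : M4)))
    (hns : ¬ IsSquare ((u : M4).det)) :
    ∃ g ∈ Cfsg.GU 4 F p ⊓ specialLinear (Fin 4) F, g⁻¹ * y * g = t := by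
  obtain ⟨⟨c, hcU⟩, hc⟩ := isConj_iff.1 ((SemiUnitary.isConj_iff_gl hF ⟨y, hy⟩ ⟨t, ht⟩).2 h)
  have hc' : c * y * c⁻¹ = t := congrArg Subtype.val hc
  have hu0 : (u : M4).det ≠ 0 := (u.isUnit.map Matrix.detMonoidHom).ne_zero
  have hdN : qFrob hF (c : M4).det * (c : M4).det = 1 := by
    have := congrArg Matrix.det ((mem_GU hF).1 hcU)
    rwa [Matrix.det_mul, st_det, Matrix.det_one] at this
  -- the determinant as a quotient by the conjugate
  have hd' : (c : M4).det ^ (p + 1) = 1 := by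
    rw [pow_succ, ← qFrob_apply hF]; exact hdN
  obtain ⟨e₀, he₀0, he₀⟩ := exists_root_of_pow hF (p + 1) (p - 1) (sq_sub_one (p := p)) (by omega) hd'
  obtain ⟨j, a, ha, he⟩ := exists_pow_mul_four hu0 hns (inv_ne_zero he₀0)
  obtain ⟨s, hs⟩ := exists_scalar_unit (ι := Fin 4) ha
  obtain ⟨U, hU⟩ : ∃ U, U = u ^ j * s := ⟨_, rfl⟩
  have hUy : U * y = y * U := by
    rw [hU, mul_assoc, show s * y = y * s from Units.ext (by simp [hs]), ← mul_assoc,
      (show Commute u y from hu).pow_left j, mul_assoc]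
  have hUm : (U : M4) = a • (u : M4) ^ j := by
    rw [hU, Units.val_mul, Units.val_pow_eq_pow_val, hs, mul_smul_comm, mul_one]
  have hstpow : ∀ k : ℕ, st hF ((u : M4) ^ k) = st hF (u : M4) ^ k := by
    intro k
    induction k with
    | zero => rw [pow_zero, pow_zero]; exact (anti_st hF).one
    | succ k ih => rw [pow_succ, (anti_st hF).mul, ih, pow_succ']
  have hUs : Commute (U : M4) (st hF (U : M4)) := by
    rw [hUm, (anti_st hF).smul, hstpow]
    exact ((hus.pow_pow j j).smul_left a).smul_right _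
  have hdetU : (U : M4).det = e₀⁻¹ := by
    rw [hUm, Matrix.det_smul, Matrix.det_pow, Fintype.card_fin, he, mul_comm]
  obtain ⟨V, hV⟩ : ∃ V : GL (Fin 4) F, (V : M4) = st hF (U : M4) :=
    ⟨⟨st hF (U : M4), st hF ((U⁻¹ : GL (Fin 4) F) : M4), by rw [← (anti_st hF).mul, Units.inv_mul, (anti_st hF).one],
      by rw [← (anti_st hF).mul, Units.mul_inv, (anti_st hF).one]⟩, rfl⟩
  have hUV : U * V = V * U := Units.ext (by rw [Units.val_mul, Units.val_mul, hV]; exact hUs.eq)
  have hyy : st hF (y : M4) = ((y⁻¹ : GL (Fin 4) F) : M4) := st_eq_inv hF hy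
  have hVy : V * y = y * V := by
    have h1 : y⁻¹ * U = U * y⁻¹ := (Commute.inv_left (show Commute y U from hUy.symm)).eq
    have h2 : ((U * y : GL (Fin 4) F) : M4) = ((y * U : GL (Fin 4) F) : M4) := by rw [hUy]
    have h3 := congrArg (st hF) h2
    rw [Units.val_mul, Units.val_mul, (anti_st hF).mul, (anti_st hF).mul, ← hV, hyy, ← Units.val_mul, ← Units.val_mul] at h3
    have h4 : y⁻¹ * V = V * y⁻¹ := Units.ext h3
    calc V * y = y * (y⁻¹ * V) * y := by group
      _ = y * (V * y⁻¹) * y := by rw [h4]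
      _ = _ := by group
  obtain ⟨v, hv⟩ : ∃ v, v = U * V⁻¹ := ⟨_, rfl⟩
  have hstV : st hF (V : M4) = (U : M4) := by rw [hV]; exact SemiUnitary.star'_star' hF _
  have hvU : v ∈ Cfsg.GU 4 F p := by
    rw [mem_GU hF, hv, Units.val_mul, (anti_st hF).mul, ← hV]
    have hVi : st hF ((V⁻¹ : GL (Fin 4) F) : M4) = ((U⁻¹ : GL (Fin 4) F) : M4) := by
      have e := congrArg (st hF) V.mul_inv
      rw [(anti_st hF).mul, hstV, (anti_st hF).one] at e
      rw [← one_mul ((U⁻¹ : GL (Fin 4) F) : M4), ← e, mul_assoc, Units.mul_inv, mul_one]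
    rw [hVi, ← Units.val_mul, ← Units.val_mul, ← Units.val_mul, ← Units.val_one]
    congr 1
    calc U⁻¹ * V * (U * V⁻¹) = U⁻¹ * (V * U) * V⁻¹ := by group
      _ = U⁻¹ * (U * V) * V⁻¹ := by rw [hUV]
      _ = 1 := by group
  have hvy : v * y = y * v := by
    rw [hv]
    exact ((show Commute U y from hUy).mul_left (show Commute V y from hVy).inv_left).eq
  refine ⟨v * c⁻¹, ⟨(Cfsg.GU 4 F p).mul_mem hvU ((Cfsg.GU 4 F p).inv_mem hcU), ?_⟩, ?_⟩
  · show v * c⁻¹ ∈ specialLinear (Fin 4) F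
    rw [specialLinear, MonoidHom.mem_ker]
    refine Units.ext ?_
    show ((v * c⁻¹ : GL (Fin 4) F) : M4).det = 1
    have hci : ((c⁻¹ : GL (Fin 4) F) : M4).det * (c : M4).det = 1 := by
      rw [← Matrix.det_mul, Units.inv_mul, Matrix.det_one]
    have hVi : ((V⁻¹ : GL (Fin 4) F) : M4).det * (qFrob hF e₀)⁻¹ = 1 := by
      rw [← map_inv₀, ← hdetU, ← st_det, ← hV, ← Matrix.det_mul, Units.inv_mul, Matrix.det_one]
    have hq0 : qFrob hF e₀ ≠ 0 := (map_ne_zero _).2 he₀0
    have hVi' : ((V⁻¹ : GL (Fin 4) F) : M4).det = qFrob hF e₀ := by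
      field_simp at hVi
      exact hVi
    rw [hv, Units.val_mul, Units.val_mul, Matrix.det_mul, Matrix.det_mul, hVi', hdetU]
    have hcd : (c : M4).det * e₀ = qFrob hF e₀ := by
      rw [← he₀, qFrob_apply, ← pow_succ, Nat.sub_add_cancel (Fact.out : p.Prime).pos]
    rw [← hcd]
    field_simp
    linear_combination hci
  · rw [_root_.mul_inv_rev, inv_inv, ← hc']
    rw [show c * v⁻¹ * y * (v * c⁻¹) = c * (v⁻¹ * (y * v)) * c⁻¹ by group, ← hvy, inv_mul_cancel_left]

end CfsgLib.MaxSub.SymFour.Unitary
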