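import Cfsg.Agent.Lib.MaxSub.TFormUnitary

/-!
Tensor products of two Hermitian spaces: one transvection at a pure singular vector spreads to all
singular vectors.
-/

set_option autoImplicit false
set_option linter.unusedSectionVars false
set_option linter.unusedSimpArgs false
set_option linter.unusedVariables false

namespace CfsgLib.MaxSub.TForm

open Module
open CfsgLib.Classical (IsHermSpace exists_isotropic_dual)

variable {F A B V : Type*} [Field F] [AddCommGroup A] [Module F A] [AddCommGroup B] [Module F B]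
  [AddCommGroup V] [Module F V] {σ : F →+* F}

/-- all transvections at the singular vector `ν` are in `H` -/
def FullV (T : Sys F A B V σ) (H : Subgroup (V ≃ₗ[F] V)) (ν : V) : Prop :=
  T.form ν ν = 0 ∧ ∀ k : F, σ k = k → InH H fun x => x + (k * T.form x ν) • ν

/-- `x` is a combination of pure tensors over `S ⊗ B` -/
def InS (T : Sys F A B V σ) (S : Submodule F A) (x : V) : Prop := ∀ b, T.C b x ∈ S

/-- `S` is non-degenerate for `fA` -/
def NDegA (T : Sys F A B V σ) (S : Submodule F A) : Prop :=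
  ∀ y ∈ S, (∀ y' ∈ S, T.fA y y' = 0) → y = 0

namespace UData

variable {T : Sys F A B V σ} {H : Subgroup (V ≃ₗ[F] V)}

theorem conjV (U : UData T H) (x y : V) : σ (T.form x y) = -T.form y x := by
  refine U.good.induction (p := fun x => σ (T.form x y) = -T.form y x) (by simp)
    (fun a b ha hb => by simp only [map_add, LinearMap.add_apply, ha, hb]; ring) (fun a b => ?_) x
  refine U.good.induction (p := fun y => σ (T.form (T.tau a b) y) = -T.form y (T.tau a b)) (by simp)
    (fun u u' hu hu' => by simp only [map_add, LinearMap.add_apply, hu, hu']; ring) (fun a' b' => ?_) y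
  rw [U.good.form_tau, U.good.form_tau, map_mul, U.conjA, U.conjB, mul_neg]

theorem full_conj (U : UData T H) {ν : V} (h : FullV T H ν) {g : V ≃ₗ[F] V} (hg : g ∈ H) :
    FullV T H (g ν) := by
  refine ⟨by rw [U.isom g hg, h.1], fun k hk => ?_⟩
  obtain ⟨t, ht, htx⟩ := h.2 k hk
  refine ⟨g * t * g⁻¹, mul_mem (mul_mem hg ht) (inv_mem hg), fun x => ?_⟩
  show g (t (g⁻¹ x)) = x + (k * T.form x (g ν)) • g ν
  rw [htx, map_add, map_smul, inv_app]
  congr 3
  rw [← U.isom g hg (g⁻¹ x) ν, inv_app]

theorem full_zero (U : UData T H) : FullV T H 0 :=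
  ⟨by simp, fun k _ => ⟨1, one_mem _, fun x => by simp⟩⟩

theorem full_smul (U : UData T H) {ν : V} (h : FullV T H ν) (l : F) : FullV T H (l • ν) := by
  refine ⟨by simp [h.1], fun k hk => ?_⟩
  refine (h.2 (k * (σ l * l)) (by rw [map_mul, map_mul, hk, U.good.invol, mul_comm l])).congr
    fun x => ?_
  simp only [map_smulₛₗ, smul_eq_mul, smul_smul]
  congr 2
  ring

theorem full_step (U : UData T H) {x y : V} (hx : FullV T H x) (hy : FullV T H y) {k : F}
    (hk : σ k = k) : FullV T H (x + (k * T.form x y) • y) := by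
  obtain ⟨t, ht, htx⟩ := hy.2 k hk
  rw [← show t x = x + (k * T.form x y) • y from htx x]
  exact U.full_conj hx ht

theorem full_pull (U : UData T H) {x y : V} {k : F} (hk : σ k = k) (hy : FullV T H y)
    (h : FullV T H (x + (k * T.form x y) • y)) : FullV T H x := by
  have h1 := U.full_step h hy (k := -k) (by rw [map_neg, hk])
  convert h1 using 1
  simp only [map_add, map_smul, LinearMap.add_apply, LinearMap.smul_apply, smul_eq_mul, hy.1]
  module

variable [Finite F] [FiniteDimensional F A] [FiniteDimensional F B]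

/-- one transvection gives all of them at all pure tensors of singular vectors -/
theorem full_pure (U : UData T H) (htv : ¬ NoTv T H) {v : A} (hv : T.fA v v = 0) {z : B}
    (hz : T.fB z z = 0) : FullV T H (T.tau v z) := by
  have hT := U.good
  rcases eq_or_ne v 0 with rfl | hv0
  · rw [map_zero, LinearMap.zero_apply]; exact U.full_zero
  rcases eq_or_ne z 0 with rfl | hz0
  · rw [map_zero]; exact U.full_zero
  simp only [NoTv, not_forall, not_not] at htv
  obtain ⟨z₁, hz₁, hz₁0, v₁, hv₁, hv₁0, k₁, hk₁, hk₁0, hin⟩ := htv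
  have hone : FullV T H (T.tau v₁ z₁) := by
    refine ⟨by rw [hT.form_tau, hv₁, zero_mul], fun k hk => ?_⟩
    rcases eq_or_ne k 0 with rfl | hk0
    · exact ⟨1, one_mem _, fun x => by simp⟩
    obtain ⟨l, hl⟩ := U.norm (k / k₁) (by rw [map_div₀, hk, hk₁])
    have hl0 : l ≠ 0 := fun e => by
      rw [e, mul_zero, eq_comm, div_eq_zero_iff] at hl
      exact hl.elim hk0 hk₁0
    obtain ⟨g, hg, f, hgf, hfz⟩ := U.transB hz₁ hz₁0 (y' := l • z₁) (by simp [hz₁])
      (smul_ne_zero hl0 hz₁0)
    obtain ⟨t, ht, htx⟩ := hin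
    refine ⟨g * t * g⁻¹, mul_mem (mul_mem hg ht) (inv_mem hg), fun x => ?_⟩
    show g (t (g⁻¹ x)) = x + (k * T.form x (T.tau v₁ z₁)) • T.tau v₁ z₁
    rw [htx, map_add, map_smul, inv_app, hgf, hfz, map_smul, smul_smul,
      ← U.isom g hg (g⁻¹ x) (T.tau v₁ z₁), inv_app, hgf, hfz, map_smul, map_smulₛₗ, smul_eq_mul]
    congr 2
    rw [eq_div_iff hk₁0] at hl
    linear_combination T.form x (T.tau v₁ z₁) * hl
  -- all of the second factor
  have hBz : ∀ z, T.fB z z = 0 → z ≠ 0 → FullV T H (T.tau v₁ z) := by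
    intro z hz hz0
    obtain ⟨g, hg, f, hgf, hfz⟩ := U.transB hz₁ hz₁0 hz hz0
    have := U.full_conj hone hg
    rwa [hgf, hfz] at this
  -- non-orthogonal moves in the first factor
  have hmove : ∀ a a', T.fA a a = 0 → T.fA a' a' = 0 → T.fA a a' ≠ 0 →
      FullV T H (T.tau a z) → FullV T H (T.tau a' z) := by
    intro a a' ha ha' hne hfull
    obtain ⟨c, hc⟩ : ∃ c, c = σ (T.fA a a')⁻¹ := ⟨_, rfl⟩
    have hcne : c ≠ 0 := hc ▸ fun e => hne (inv_eq_zero.1 (σ.injective (e.trans (map_zero σ).symm)))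
    have h1 : T.fA a (c • a') = 1 := by
      rw [map_smulₛₗ, smul_eq_mul, hc, U.good.invol, inv_mul_cancel₀ hne]
    have h2 : T.fA (c • a') a = 1 := by rw [← U.conjA, h1, map_one]
    have h3 : T.fA (c • a') (c • a') = 0 := by simp [ha']
    obtain ⟨d, hd0, hd⟩ := U.exists_zero_trace
    have hsd : σ d = -d := by linear_combination hd
    set w := a + d • (c • a') with hw
    have hww : T.fA w w = 0 := by
      simp only [hw, map_add, map_smul, map_smulₛₗ, LinearMap.add_apply, LinearMap.smul_apply,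
        smul_eq_mul, ha, ha', mul_zero, zero_add, add_zero] at h1 h2 ⊢
      linear_combination d * h2 + σ d * h1 + hd
    obtain ⟨g, hg, hga⟩ := U.exists_transA hww (c := d⁻¹) (by
      rw [map_inv₀, hsd, inv_neg, add_neg_cancel])
    obtain ⟨k, hk, hkab⟩ := U.gen_mem' hg
    have h4 := U.full_conj hfull hk
    rw [hkab, hga] at h4
    have h5 : a + (d⁻¹ * T.fA a w) • w = (-(d * c)) • a' := by
      have : T.fA a w = -d := by
        rw [hw, map_add, ha, zero_add, map_smulₛₗ, smul_eq_mul, h1, mul_one, hsd]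
      rw [this, mul_neg, inv_mul_cancel₀ hd0, hw]
      module
    rw [h5, map_smul, LinearMap.smul_apply] at h4
    have := U.full_smul h4 (-(d * c))⁻¹
    rwa [inv_smul_smul₀ (neg_ne_zero.2 (mul_ne_zero hd0 hcne))] at this
  by_cases hne : T.fA v₁ v = 0
  · by_cases hli : LinearIndependent F ![v₁, v]
    · obtain ⟨u, hu, hu1, hu2⟩ := exists_isotropic_dual U.hermA hli hv₁ (U.good.A_flip_zero hne) 1
      have e1 : T.fA u v₁ = 1 := hu1
      have e2 : T.fA u v = 1 := hu2
      refine hmove u v hu hv (by rw [e2]; exact one_ne_zero) (hmove v₁ u hv₁ hu ?_ (hBz z hz hz0))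
      rw [← U.conjA, e1, map_one]; exact one_ne_zero
    · rw [LinearIndependent.pair_iff' hv₁0] at hli
      simp only [not_forall, not_not] at hli
      obtain ⟨l, rfl⟩ := hli
      rw [map_smul, LinearMap.smul_apply]
      exact U.full_smul (hBz z hz hz0) l
  · exact hmove v₁ v hv₁ hv hne (hBz z hz hz0)

/-- the second factor may be arbitrary -/
theorem full_left (U : UData T H) (htv : ¬ NoTv T H) {v : A} (hv : T.fA v v = 0) (b : B) :
    FullV T H (T.tau v b) := by
  have hT := U.good
  rcases eq_or_ne v 0 with rfl | hv0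
  · rw [map_zero, LinearMap.zero_apply]; exact U.full_zero
  by_cases hbb : T.fB b b = 0
  · exact U.full_pure htv hv hbb
  obtain ⟨u, hu, hvu, huv⟩ := U.partnerA hv0 hv
  obtain ⟨d, hd0, hd⟩ := U.exists_zero_trace
  have hB := U.hermB hd0 hd
  obtain ⟨p, hp0, hpb, hpp⟩ := hB.exists_perp_isotropic (k := 1) ![b] (by have := U.dimB; omega)
  replace hpb : T.fB p b = 0 :=
    (mul_eq_zero.1 (show d * T.fB p b = 0 from hpb 0)).resolve_left hd0
  replace hpp : T.fB p p = 0 := (mul_eq_zero.1 (show d * T.fB p p = 0 from hpp)).resolve_left hd0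
  have hbp := hT.B_flip_zero hpb
  have hli : LinearIndependent F ![p, b] := by
    refine (LinearIndependent.pair_iff' hp0).2 fun l hl => hbb ?_
    rw [← hl]; simp [hpp]
  obtain ⟨q, hqq, hqp, hqb⟩ := exists_isotropic_dual hB hli (show d * T.fB p p = 0 by rw [hpp, mul_zero])
    (show d * T.fB b p = 0 by rw [hbp, mul_zero]) 1
  replace hqq : T.fB q q = 0 := (mul_eq_zero.1 (show d * T.fB q q = 0 from hqq)).resolve_left hd0
  replace hqp : d * T.fB q p = 1 := hqp
  replace hqb : d * T.fB q b = 1 := hqb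
  set η := T.fB q p with hη
  set ψ := T.fB q b with hψ
  have hη0 : η ≠ 0 := fun e => by rw [e, mul_zero] at hqp; exact zero_ne_one hqp
  have hψ0 : ψ ≠ 0 := fun e => by rw [e, mul_zero] at hqb; exact zero_ne_one hqb
  obtain ⟨t, ht⟩ := hB.exists_trace (map_one σ)
  have hsn : σ (T.fB b b) = -T.fB b b := U.conjB b b
  have ht0 : t ≠ 0 := fun e => by rw [e, map_zero, add_zero] at ht; exact zero_ne_one ht
  set φ := -(T.fB b b * t) / ψ with hφ
  have hφ0 : φ ≠ 0 := div_ne_zero (neg_ne_zero.2 (mul_ne_zero hbb ht0)) hψ0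
  have hbq : T.fB b q = -σ ψ := by rw [hψ, U.conjB, neg_neg]
  have hw : T.fB (b + φ • q) (b + φ • q) = 0 := by
    simp only [map_add, map_smul, map_smulₛₗ, LinearMap.add_apply, LinearMap.smul_apply, smul_eq_mul,
      hqq, ← hψ, hbq]
    have h1 : φ * ψ = -(T.fB b b * t) := div_mul_cancel₀ _ hψ0
    have h2 : σ φ * σ ψ = T.fB b b * σ t := by
      rw [← map_mul, h1, map_neg, map_mul, hsn]; ring
    linear_combination h1 - h2 - T.fB b b * ht
  have hy0 : FullV T H (T.tau v (b + φ • q)) := U.full_pure htv hv hw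
  have hN : σ (η * σ η)⁻¹ = (η * σ η)⁻¹ := by rw [map_inv₀, map_mul, U.good.invol, mul_comm]
  have hy1 := U.full_step hy0 (U.full_pure htv hu hpp) (map_one σ)
  have hy2 := U.full_step hy1 (U.full_pure htv hv hqq) hN
  have e2 : T.fB p q = -σ η := by rw [hη, U.conjB, neg_neg]
  replace hy2 : FullV T H (T.tau v b + (φ * η) • T.tau u p) := by
    convert hy2 using 1
    have hη1 : σ η ≠ 0 := fun e => hη0 (σ.injective (e.trans (map_zero σ).symm))
    have hs1 : (η * σ η)⁻¹ * (φ * η * -σ η) = -φ := by field_simp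
    simp only [map_add, map_smul, LinearMap.add_apply, LinearMap.smul_apply, smul_eq_mul, hT.form_tau,
      hv, hvu, huv, hbp, ← hη, e2, zero_mul, one_mul, mul_zero, zero_add, hs1]
    module
  -- a last singular vector seeing `b`
  set a := d ^ 2 / (φ * η) with ha
  have ha0 : a ≠ 0 := div_ne_zero (pow_ne_zero _ hd0) (mul_ne_zero hφ0 hη0)
  obtain ⟨s, hss, hsp', hsb'⟩ := exists_isotropic_dual hB hli (show d * T.fB p p = 0 by rw [hpp, mul_zero])
    (show d * T.fB b p = 0 by rw [hbp, mul_zero]) a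
  replace hss : T.fB s s = 0 := (mul_eq_zero.1 (show d * T.fB s s = 0 from hss)).resolve_left hd0
  replace hsp' : d * T.fB s p = 1 := hsp'
  replace hsb' : d * T.fB s b = a := hsb'
  have hσd : σ d = -d := by linear_combination hd
  have hsb0 : T.fB s b ≠ 0 := fun e => ha0 (by rw [← hsb', e, mul_zero])
  have hbs : T.fB b s ≠ 0 := fun e => hsb0 (hT.B_flip_zero e)
  have hreal : φ * η * σ (T.fB b s) * T.fB p s = -1 := by
    have e1 : T.fB s p = d⁻¹ := eq_inv_of_mul_eq_one_right hsp'
    have e2 : T.fB s b = a / d := by rw [eq_div_iff hd0, mul_comm]; exact hsb'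
    rw [hT.skewB s p, hT.skewB s b, e1, e2, map_neg, U.good.invol, map_inv₀, hσd, ha]
    field_simp
  set p' := (φ * η) • p + T.fB b s • s with hp'
  have hp'' : T.fB p' p' = 0 := by
    have h2 : σ (φ * η) * T.fB b s * T.fB s p = 1 := by
      have := congrArg σ hreal
      simp only [map_mul, map_neg, map_one, U.good.invol, U.conjB] at this
      rw [map_mul]
      linear_combination -this
    simp only [hp', map_add, map_smul, map_smulₛₗ, LinearMap.add_apply, LinearMap.smul_apply,
      smul_eq_mul, hpp, hss, map_mul] at h2 ⊢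
    linear_combination hreal + h2
  have hR : T.fB b p' = σ (T.fB b s) * T.fB b s := by simp [hp', hbp]
  have hR0 : T.fB b p' ≠ 0 := by
    rw [hR]
    exact mul_ne_zero (fun e => hbs (σ.injective (e.trans (map_zero σ).symm))) hbs
  have hy3 : FullV T H (T.tau v b + T.tau u p') := by
    convert U.full_step hy2 (U.full_pure htv hu hss) (map_one σ) using 1
    simp only [hp', map_add, map_smul, LinearMap.add_apply, LinearMap.smul_apply, smul_eq_mul,
      hT.form_tau, hvu, hu, one_mul, zero_mul, mul_zero, add_zero]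
    module
  refine U.full_pull (y := T.tau u p') (k := (T.fB b p')⁻¹) ?_ (U.full_pure htv hu hp'') ?_
  · rw [map_inv₀, hR, map_mul, U.good.invol, mul_comm]
  · rwa [hT.form_tau, hvu, one_mul, inv_mul_cancel₀ hR0, one_smul]

/-- a totally singular subspace is totally isotropic -/
theorem iso_sub (U : UData T H) {W : Submodule F A} (h : ∀ y ∈ W, T.fA y y = 0) {y y' : A}
    (hy : y ∈ W) (hy' : y' ∈ W) : T.fA y y' = 0 := by
  by_contra hne
  obtain ⟨t, ht⟩ := U.hermA.exists_trace (map_one σ)
  set l := t / T.fA y' y with hl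
  have h1 : T.fA y' y ≠ 0 := fun e => hne (U.good.A_flip_zero e)
  have h2 := h (y + l • y') (W.add_mem hy (W.smul_mem _ hy'))
  simp only [map_add, map_smul, map_smulₛₗ, LinearMap.add_apply, LinearMap.smul_apply, smul_eq_mul,
    h y hy, h y' hy'] at h2
  have e1 : l * T.fA y' y = t := div_mul_cancel₀ _ h1
  have e2 : σ l * T.fA y y' = σ t := by rw [← e1, map_mul, U.conjA]
  exact one_ne_zero (show (1 : F) = 0 by linear_combination h2 - e1 - e2 - ht)

theorem exists_aniso_in (U : UData T H) {S : Submodule F A} (hS : NDegA T S) (h1 : 1 ≤ finrank F S) :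
    ∃ e ∈ S, T.fA e e ≠ 0 := by
  obtain ⟨y, hy, hy0⟩ := Submodule.exists_mem_ne_zero_of_ne_bot (p := S) fun e => by
    rw [e, finrank_bot] at h1; omega
  by_contra hno
  simp only [not_exists, not_and, not_not] at hno
  exact hy0 (hS y hy fun y' hy' => U.iso_sub hno hy hy')

/-- the orthogonal of `e` in `S` -/
def cut (T : Sys F A B V σ) (S : Submodule F A) (e : A) : Submodule F A :=
  S ⊓ LinearMap.ker (T.fA.flip e)

theorem mem_cut {S : Submodule F A} {e y : A} : y ∈ cut T S e ↔ y ∈ S ∧ T.fA y e = 0 := Iff.rfl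

theorem finrank_cut (U : UData T H) {S : Submodule F A} {e : A} (he : e ∈ S) (hee : T.fA e e ≠ 0) :
    finrank F (cut T S e) + 1 = finrank F S := by
  have hsup : cut T S e ⊔ Submodule.span F {e} = S := by
    refine le_antisymm (sup_le inf_le_left ((Submodule.span_singleton_le_iff_mem _ _).2 he)) fun y hy => ?_
    refine Submodule.mem_sup.2 ⟨y - (T.fA y e / T.fA e e) • e,
      mem_cut.2 ⟨S.sub_mem hy (S.smul_mem _ he), ?_⟩, (T.fA y e / T.fA e e) • e,
      Submodule.smul_mem _ _ (Submodule.mem_span_singleton_self e), sub_add_cancel _ _⟩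
    rw [map_sub, map_smul, LinearMap.sub_apply, LinearMap.smul_apply, smul_eq_mul,
      div_mul_cancel₀ _ hee, sub_self]
  have hinf : cut T S e ⊓ Submodule.span F {e} = ⊥ := by
    refine (Submodule.eq_bot_iff _).2 fun y hy => ?_
    obtain ⟨l, rfl⟩ := Submodule.mem_span_singleton.1 hy.2
    have h1 := (mem_cut.1 hy.1).2
    rw [map_smul, LinearMap.smul_apply, smul_eq_mul, mul_eq_zero] at h1
    rw [h1.resolve_right hee, zero_smul]
  have h := Submodule.finrank_sup_add_finrank_inf_eq (cut T S e) (Submodule.span F {e})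
  rw [hsup, hinf, finrank_bot, finrank_span_singleton (fun e0 => hee (by simp [e0]))] at h
  omega

theorem cut_ndeg (U : UData T H) {S : Submodule F A} (hS : NDegA T S) {e : A} (he : e ∈ S)
    (hee : T.fA e e ≠ 0) : NDegA T (cut T S e) := by
  intro y hy h
  refine hS y (mem_cut.1 hy).1 fun y' hy' => ?_
  have h1 := h (y' - (T.fA y' e / T.fA e e) • e) (mem_cut.2 ⟨S.sub_mem hy' (S.smul_mem _ he), by
    rw [map_sub, map_smul, LinearMap.sub_apply, LinearMap.smul_apply, smul_eq_mul,
      div_mul_cancel₀ _ hee, sub_self]⟩)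
  rwa [map_sub, map_smulₛₗ, smul_eq_mul, (mem_cut.1 hy).2, mul_zero, sub_zero] at h1

/-- a hyperbolic pair inside a non-degenerate subspace -/
theorem pair_in (U : UData T H) {S : Submodule F A} (hS : NDegA T S) (h2 : 2 ≤ finrank F S) :
    ∃ v ∈ S, ∃ u ∈ S, T.fA v v = 0 ∧ T.fA u u = 0 ∧ T.fA v u = 1 ∧ T.fA u v = 1 := by
  obtain ⟨e, he, hee⟩ := U.exists_aniso_in hS (by omega)
  obtain ⟨f, hf, hff⟩ := U.exists_aniso_in (U.cut_ndeg hS he hee) (by
    have := U.finrank_cut he hee; omega)
  obtain ⟨hfS, hfe⟩ := mem_cut.1 hf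
  have hef := U.good.A_flip_zero hfe
  obtain ⟨l, hl⟩ := U.norm (-T.fA e e / T.fA f f) (by rw [map_div₀, map_neg, U.conjA, U.conjA])
  rw [eq_div_iff hff] at hl
  set v := e + l • f with hv
  have hvv : T.fA v v = 0 := by
    simp only [hv, map_add, map_smul, map_smulₛₗ, LinearMap.add_apply, LinearMap.smul_apply,
      smul_eq_mul, hfe, hef]
    linear_combination hl
  have hve : T.fA e v = T.fA e e := by simp [hv, hef]
  set c := (T.fA e e)⁻¹ with hc
  have hcr : σ c = c := by rw [hc, map_inv₀, U.conjA]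
  obtain ⟨t, ht⟩ := U.hermA.exists_trace (a := -T.fA (c • e) (c • e)) (by rw [map_neg, U.conjA])
  have hev : T.fA (c • e) v = 1 := by
    rw [map_smul, LinearMap.smul_apply, smul_eq_mul, hve, hc, inv_mul_cancel₀ hee]
  have hve' : T.fA v (c • e) = 1 := by rw [← U.conjA, hev, map_one]
  have hvS : v ∈ S := S.add_mem he (S.smul_mem _ hfS)
  refine ⟨v, hvS, c • e + t • v, S.add_mem (S.smul_mem _ he) (S.smul_mem _ hvS), hvv, ?_, ?_, ?_⟩
  · simp only [map_add, map_smul, map_smulₛₗ, LinearMap.add_apply, LinearMap.smul_apply,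
      smul_eq_mul, hvv, hve] at hev hve' ⊢
    simp only [map_smul, map_smulₛₗ, LinearMap.smul_apply, smul_eq_mul] at ht
    linear_combination ht + t * hve' + σ t * hev
  · rw [map_add (T.fA v), hve', map_smulₛₗ, hvv, smul_zero, add_zero]
  · rw [map_add T.fA, LinearMap.add_apply, hev, map_smul, LinearMap.smul_apply, hvv, smul_zero, add_zero]

/-- an isotropic vector of `S` not orthogonal to `y` -/
theorem exists_iso_in (U : UData T H) {S : Submodule F A} (hS : NDegA T S) (h2 : 2 ≤ finrank F S)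
    {y : A} (hy : y ∈ S) (hy0 : y ≠ 0) : ∃ a ∈ S, T.fA a a = 0 ∧ T.fA y a ≠ 0 := by
  obtain ⟨v, hv, u, hu, hvv, huu, hvu, huv⟩ := U.pair_in hS h2
  by_cases h1 : T.fA y v = 0
  swap
  · exact ⟨v, hv, hvv, h1⟩
  by_cases h1' : T.fA y u = 0
  swap
  · exact ⟨u, hu, huu, h1'⟩
  obtain ⟨z, hz, hyz⟩ : ∃ z ∈ S, T.fA y z ≠ 0 := by
    by_contra hno
    simp only [not_exists, not_and, not_not] at hno
    exact hy0 (hS y hy hno)
  set z' := z - T.fA z u • v - T.fA z v • u with hz'
  have e1 : T.fA z' v = 0 := by simp [hz', hvv, huv]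
  have e2 : T.fA z' u = 0 := by simp [hz', huu, hvu]
  have e3 : T.fA y z' = T.fA y z := by simp [hz', h1, h1']
  obtain ⟨t, ht⟩ := U.hermA.exists_trace (a := -T.fA z' z') (by rw [map_neg, U.conjA])
  refine ⟨z' + v + t • u, S.add_mem (S.add_mem (S.sub_mem (S.sub_mem hz (S.smul_mem _ hv))
    (S.smul_mem _ hu)) hv) (S.smul_mem _ hu), ?_, by simp [h1, h1', e3, hyz]⟩
  simp only [map_add, map_smul, map_smulₛₗ, LinearMap.add_apply, LinearMap.smul_apply, smul_eq_mul,
    hvv, huu, hvu, huv, e1, e2, U.good.A_flip_zero e1, U.good.A_flip_zero e2]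
  linear_combination ht

/-- a vector of `S` with prescribed norm and value at `c` -/
theorem exists_value (U : UData T H) {S : Submodule F A} (hS : NDegA T S) (h2 : 2 ≤ finrank F S)
    {c : A} (hc : c ∈ S) (hc0 : c ≠ 0) {m : F} (hm : σ m = m) {ζ : F}
    (hζ : finrank F S = 2 → ζ ≠ 0) :
    ∃ t ∈ S, T.fA t t = m ∧ T.fA c t = ζ := by
  obtain ⟨a, ha, -, hca⟩ := U.exists_iso_in hS h2 hc hc0
  by_cases hy : ∃ y ∈ S, T.fA y c = 0 ∧ T.fA y y ≠ 0
  · obtain ⟨y, hy, hyc, hyy⟩ := hy
    have hcy := U.good.A_flip_zero hyc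
    set a' := a - (T.fA a y / T.fA y y) • y with ha'
    have h1 : T.fA c a' = T.fA c a := by simp [ha', hcy]
    have h3 : T.fA a' y = 0 := by
      rw [ha', map_sub, map_smul, LinearMap.sub_apply, LinearMap.smul_apply, smul_eq_mul,
        div_mul_cancel₀ _ hyy, sub_self]
    set t₀ := σ (ζ / T.fA c a) • a' with ht₀
    have h4 : T.fA c t₀ = ζ := by
      rw [ht₀, map_smulₛₗ, smul_eq_mul, U.good.invol, h1, div_mul_cancel₀ _ hca]
    have h5 : T.fA t₀ y = 0 := by simp [ht₀, h3]
    obtain ⟨l, hl⟩ := U.norm ((m - T.fA t₀ t₀) / T.fA y y) (by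
      rw [map_div₀, map_sub, hm, U.conjA, U.conjA])
    rw [eq_div_iff hyy] at hl
    refine ⟨t₀ + l • y, S.add_mem (S.smul_mem _ (S.sub_mem ha (S.smul_mem _ hy))) (S.smul_mem _ hy),
      ?_, by simp [h4, hcy]⟩
    simp only [map_add, map_smul, map_smulₛₗ, LinearMap.add_apply, LinearMap.smul_apply, smul_eq_mul,
      h5, U.good.A_flip_zero h5]
    linear_combination hl
  · simp only [not_exists, not_and, not_not] at hy
    have hcc : T.fA c c = 0 := by
      by_contra hcc
      obtain ⟨y, hy', hyy⟩ := U.exists_aniso_in (U.cut_ndeg hS hc hcc) (by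
        have := U.finrank_cut hc hcc; omega)
      exact hyy (hy y (mem_cut.1 hy').1 (mem_cut.1 hy').2)
    have h2' : finrank F S = 2 := by
      by_contra h3
      -- a vector orthogonal to `c` and to a vector seeing it lies in the radical
      set W := S ⊓ LinearMap.ker (T.fA.flip c) with hW
      have hiso : ∀ w ∈ W, T.fA w w = 0 := fun w hw => hy w hw.1 hw.2
      let L : S →ₗ[F] F × F := ((T.fA.flip c).comp S.subtype).prod ((T.fA.flip a).comp S.subtype)
      obtain ⟨r, hr, hr0⟩ : ∃ r ∈ LinearMap.ker L, r ≠ 0 := by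
        refine Submodule.exists_mem_ne_zero_of_ne_bot fun hk => ?_
        have e1 := L.finrank_range_add_finrank_ker
        have e2 := Submodule.finrank_le (LinearMap.range L)
        rw [hk, finrank_bot] at e1
        simp only [Module.finrank_prod, Module.finrank_self] at e2
        omega
      have hrc : T.fA r c = 0 := congrArg Prod.fst (LinearMap.mem_ker.1 hr)
      have hra : T.fA r a = 0 := congrArg Prod.snd (LinearMap.mem_ker.1 hr)
      refine hr0 (Subtype.ext (hS r r.2 fun y' hy' => ?_))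
      have hac : T.fA a c ≠ 0 := fun e => hca (U.good.A_flip_zero e)
      have e3 := U.iso_sub hiso (y := (r : A)) (y' := y' - (T.fA y' c / T.fA a c) • a) ⟨r.2, hrc⟩
        ⟨S.sub_mem hy' (S.smul_mem _ ha), by
          show T.fA (y' - (T.fA y' c / T.fA a c) • a) c = 0
          rw [map_sub, map_smul, LinearMap.sub_apply, LinearMap.smul_apply, smul_eq_mul,
            div_mul_cancel₀ _ hac, sub_self]⟩
      simpa [hra] using e3
    have hζ0 := hζ h2'
    set t₀ := σ (ζ / T.fA c a) • a with ht₀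
    have h4 : T.fA c t₀ = ζ := by
      rw [ht₀, map_smulₛₗ, smul_eq_mul, U.good.invol, div_mul_cancel₀ _ hca]
    obtain ⟨τ, hτ⟩ := U.hermA.exists_trace (a := m - T.fA t₀ t₀) (by rw [map_sub, hm, U.conjA])
    refine ⟨t₀ + (τ / ζ) • c, S.add_mem (S.smul_mem _ ha) (S.smul_mem _ hc), ?_, by simp [h4, hcc]⟩
    simp only [map_add, map_smul, map_smulₛₗ, LinearMap.add_apply, LinearMap.smul_apply, smul_eq_mul,
      hcc, h4, map_div₀]
    rw [← U.conjA c t₀, h4]
    have hσζ : σ ζ ≠ 0 := fun e => hζ0 (σ.injective (e.trans (map_zero σ).symm))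
    have e1 : τ / ζ * ζ = τ := div_mul_cancel₀ _ hζ0
    have e2 : σ τ / σ ζ * σ ζ = σ τ := div_mul_cancel₀ _ hσζ
    linear_combination hτ + e1 + e2

/-- the inductive step: one more anisotropic direction -/
theorem full_extend (U : UData T H) (htv : ¬ NoTv T H) {S : Submodule F A} (hS : NDegA T S)
    (h2 : 2 ≤ finrank F S) {e : A} (hee : T.fA e e ≠ 0) (he : ∀ y ∈ S, T.fA y e = 0)
    (IH : ∀ x, InS T S x → T.form x x = 0 → FullV T H x)
    {xS : V} (hxS : InS T S xS) {s : B} (hiso : T.form (xS + T.tau e s) (xS + T.tau e s) = 0)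
    (hcond : finrank F S = 2 → T.fA e e * T.fB s s ≠ 1) : FullV T H (xS + T.tau e s) := by
  have hT := U.good
  have horth : ∀ {x : V}, InS T S x → ∀ b, T.form x (T.tau e b) = 0 := fun {x} hx b => by
    rw [hT.form_C, he _ (hx b)]
  have horth' : ∀ {x : V}, InS T S x → ∀ b, T.form (T.tau e b) x = 0 := fun hx b =>
    hT.form_flip_zero (horth hx b)
  have hadd : ∀ {x : V}, InS T S x → ∀ a ∈ S, ∀ (k : F) (b : B), InS T S (x + k • T.tau a b) :=
    fun {x} hx a ha k b b' => by
      rw [map_add, map_smul, hT.C_tau]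
      exact S.add_mem (hx b') (S.smul_mem _ (S.smul_mem _ ha))
  -- the case where the contraction by `s` is non-zero
  have core : ∀ xS s, InS T S xS → T.form (xS + T.tau e s) (xS + T.tau e s) = 0 →
      (finrank F S = 2 → T.fA e e * T.fB s s ≠ 1) → T.C s xS ≠ 0 → FullV T H (xS + T.tau e s) := by
    intro xS s hxS hiso hcond hc
    obtain ⟨t, ht, htt, hct⟩ := U.exists_value hS h2 (hxS s) hc (m := -T.fA e e)
      (by rw [map_neg, U.conjA]) (ζ := 1 - T.fA e e * T.fB s s) fun h => sub_ne_zero.2 (hcond h).symm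
    have hte := he t ht
    have hzero : T.fA (t + e) (t + e) = 0 := by simp [htt, hte, hT.A_flip_zero hte]
    have hR : T.form (xS + T.tau e s) (T.tau (t + e) s) = 1 := by
      simp only [map_add, LinearMap.add_apply, hT.form_tau, horth hxS, hT.form_C xS t, hct,
        hT.A_flip_zero hte]
      ring
    refine U.full_pull (y := T.tau (t + e) s) (k := -1) (by simp) (U.full_left htv hzero s) ?_
    have hx' : xS + T.tau e s + (-1 * T.form (xS + T.tau e s) (T.tau (t + e) s)) • T.tau (t + e) s =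
        xS + (-1 : F) • T.tau t s := by
      rw [hR, mul_one, map_add, LinearMap.add_apply]
      module
    have hI : T.form (xS + T.tau e s + (-1 * T.form (xS + T.tau e s) (T.tau (t + e) s)) •
        T.tau (t + e) s) (xS + T.tau e s + (-1 * T.form (xS + T.tau e s) (T.tau (t + e) s)) •
        T.tau (t + e) s) = 0 := by
      obtain ⟨k, hk, hkx⟩ := (U.full_left htv hzero s).2 (-1) (by simp)
      have := U.isom k hk (xS + T.tau e s) (xS + T.tau e s)
      rwa [hkx, hiso] at this
    rw [hx'] at hI ⊢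
    exact IH _ (hadd hxS t ht _ _) hI
  -- a non-zero `xS`
  have mid : ∀ xS s, InS T S xS → T.form (xS + T.tau e s) (xS + T.tau e s) = 0 →
      (finrank F S = 2 → T.fA e e * T.fB s s ≠ 1) → xS ≠ 0 → FullV T H (xS + T.tau e s) := by
    intro xS s hxS hiso hcond hx0
    rcases eq_or_ne s 0 with rfl | hs0
    · rw [map_zero, add_zero] at hiso ⊢
      exact IH xS hxS hiso
    by_cases hc : T.C s xS = 0
    swap
    · exact core xS s hxS hiso hcond hc
    obtain ⟨b, hb, hbs⟩ : ∃ b, T.C b xS ≠ 0 ∧ T.fB b s ≠ 0 := by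
      obtain ⟨b₁, hb₁⟩ : ∃ b, T.C b xS ≠ 0 := by
        by_contra hno
        simp only [not_exists, not_not] at hno
        exact hx0 (hT.C_nondeg hno)
      obtain ⟨b₂, hb₂⟩ : ∃ b, T.fB b s ≠ 0 := by
        by_contra hno
        simp only [not_exists, not_not] at hno
        exact hs0 (hT.nondegB s fun y => hT.B_flip_zero (hno y))
      by_cases h1 : T.fB b₁ s = 0
      swap
      · exact ⟨b₁, hb₁, h1⟩
      by_cases h2 : T.C b₂ xS = 0
      swap
      · exact ⟨b₂, h2, hb₂⟩
      exact ⟨b₁ + b₂, by simp [hT.C_add, h2, hb₁], by simp [h1, hb₂]⟩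
    obtain ⟨a, ha, haa, hca⟩ := U.exists_iso_in hS h2 (hxS b) hb
    have hφ : T.form (xS + T.tau e s) (T.tau a b) = T.fA (T.C b xS) a := by
      rw [map_add, LinearMap.add_apply, hT.form_C, hT.form_tau, hT.A_flip_zero (he a ha), zero_mul,
        add_zero]
    refine U.full_pull (y := T.tau a b) (k := 1) (map_one σ) (U.full_left htv haa b) ?_
    obtain ⟨k, hk, hkx⟩ := (U.full_left htv haa b).2 1 (map_one σ)
    have hI := U.isom k hk (xS + T.tau e s) (xS + T.tau e s)
    rw [hkx, hiso] at hI
    have hx' : xS + T.tau e s + (1 * T.form (xS + T.tau e s) (T.tau a b)) • T.tau a b =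
        xS + T.fA (T.C b xS) a • T.tau a b + T.tau e s := by
      rw [hφ, one_mul]; abel
    simp only [hx'] at hI
    rw [hx']
    refine core _ s (hadd hxS a ha _ _) hI hcond ?_
    rw [map_add, map_smul, hc, zero_add, hT.C_tau, smul_smul]
    exact smul_ne_zero (mul_ne_zero hca hbs) fun e0 => hca (by simp [e0])
  rcases eq_or_ne xS 0 with rfl | hx0
  swap
  · exact mid xS s hxS hiso hcond hx0
  -- a pure tensor at the new direction
  rcases eq_or_ne s 0 with rfl | hs0
  · rw [map_zero, add_zero]; exact U.full_zero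
  rw [zero_add] at hiso ⊢
  have hss : T.fB s s = 0 := by
    rw [hT.form_tau] at hiso
    exact (mul_eq_zero.1 hiso).resolve_left hee
  obtain ⟨d, hd0, hd⟩ := U.exists_zero_trace
  have hB := U.hermB hd0 hd
  obtain ⟨b, hb1, hbb⟩ := hB.exists_hyperbolic hs0 (show d * T.fB s s = 0 by rw [hss, mul_zero])
  replace hbb : T.fB b b = 0 := (mul_eq_zero.1 (show d * T.fB b b = 0 from hbb)).resolve_left hd0
  have hbs : T.fB b s ≠ 0 := fun e0 => by
    have : d * T.fB b s = 1 := hb1
    rw [e0, mul_zero] at this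
    exact zero_ne_one this
  have hsb : T.fB s b ≠ 0 := fun e0 => hbs (hT.B_flip_zero e0)
  obtain ⟨v, hv, u, hu, hvv, huu, hvu, huv⟩ := U.pair_in hS h2
  obtain ⟨τ, hτ⟩ := U.hermA.exists_trace (a := -T.fA e e) (by rw [map_neg, U.conjA])
  set t := v + τ • u with htdef
  have ht : t ∈ S := S.add_mem hv (S.smul_mem _ hu)
  have htt : T.fA t t = -T.fA e e := by
    simp only [htdef, map_add, map_smul, map_smulₛₗ, LinearMap.add_apply, LinearMap.smul_apply,
      smul_eq_mul, hvv, huu, hvu, huv]
    linear_combination hτ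
  have hte := he t ht
  have hzero : T.fA (t + e) (t + e) = 0 := by simp [htt, hte, hT.A_flip_zero hte]
  set l := T.fA e e * T.fB s b with hl
  have hφ : T.form (T.tau e s) (T.tau (t + e) b) = l := by
    rw [hT.form_tau, map_add, hT.A_flip_zero hte, zero_add]
  refine U.full_pull (y := T.tau (t + e) b) (k := 1) (map_one σ) (U.full_left htv hzero b) ?_
  obtain ⟨k, hk, hkx⟩ := (U.full_left htv hzero b).2 1 (map_one σ)
  have hI := U.isom k hk (T.tau e s) (T.tau e s)
  rw [hkx, hiso] at hI
  have hx' : T.tau e s + (1 * T.form (T.tau e s) (T.tau (t + e) b)) • T.tau (t + e) b =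
      (0 + l • T.tau t b) + T.tau e (s + l • b) := by
    rw [hφ, one_mul]
    simp only [map_add, map_smul, LinearMap.add_apply]
    module
  simp only [hx'] at hI
  rw [hx']
  have hl0 : l ≠ 0 := mul_ne_zero hee hsb
  refine mid _ _ (hadd (fun b' => by rw [map_zero]; exact S.zero_mem) t ht _ _) hI (fun _ => ?_) ?_
  · have : T.fB (s + l • b) (s + l • b) = 0 := by
      simp only [map_add, map_smul, map_smulₛₗ, LinearMap.add_apply, LinearMap.smul_apply, smul_eq_mul,
        hss, hbb, hl, map_mul, U.conjA, U.conjB]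
      ring
    rw [this, mul_zero]; exact zero_ne_one
  · rw [zero_add]
    refine smul_ne_zero hl0 fun e0 => ?_
    have h1 := congrArg (T.C s) e0
    rw [hT.C_tau, map_zero, smul_eq_zero] at h1
    refine h1.elim hbs fun e1 => hee ?_
    simpa [e1, eq_comm] using htt

/-- splitting off one direction -/
theorem split (U : UData T H) {S : Submodule F A} {e : A} (he : e ∈ S) (hee : T.fA e e ≠ 0) {x : V}
    (hx : InS T S x) :
    ∃ xS s, InS T (cut T S e) xS ∧ x = xS + T.tau e s ∧
      T.form x x = T.form xS xS + T.fA e e * T.fB s s := by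
  have hT := U.good
  set s := (T.fA e e)⁻¹ • T.C' e x with hs
  have hmem : InS T (cut T S e) (x - T.tau e s) := fun b => by
    refine mem_cut.2 ⟨?_, ?_⟩
    · rw [map_sub, hT.C_tau]
      exact S.sub_mem (hx b) (S.smul_mem _ he)
    · rw [map_sub, hT.C_tau, map_sub, map_smul, LinearMap.sub_apply, LinearMap.smul_apply, smul_eq_mul,
        hs, map_smul, LinearMap.smul_apply, smul_eq_mul, ← hT.form_C, ← hT.form_C',
        mul_comm _ (T.fA e e), ← mul_assoc, mul_inv_cancel₀ hee, one_mul, sub_self]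
  refine ⟨x - T.tau e s, s, hmem, (sub_add_cancel _ _).symm, ?_⟩
  have h1 : T.form (x - T.tau e s) (T.tau e s) = 0 := by
    rw [hT.form_C, (mem_cut.1 (hmem s)).2]
  conv_lhs => rw [← sub_add_cancel x (T.tau e s)]
  simp only [map_add (T.form), LinearMap.add_apply, map_add (T.form _), hT.form_tau, h1,
    hT.form_flip_zero h1, add_zero, zero_add]

/-- all singular vectors of `S ⊗ B` -/
theorem full_sub (U : UData T H) (htv : ¬ NoTv T H) :
    ∀ (n : ℕ) (S : Submodule F A), NDegA T S → finrank F S = n → 2 ≤ n →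
      ∀ x, InS T S x → T.form x x = 0 → FullV T H x := by
  have hT := U.good
  intro n
  induction n with
  | zero => intro S _ _ h; omega
  | succ n ih =>
  intro S hS hn h2 x hx hxx
  rcases Nat.lt_or_ge n 2 with hn2 | hn2
  · -- a hyperbolic plane
    obtain rfl : n = 1 := by omega
    obtain ⟨v, hv, u, hu, hvv, huu, hvu, huv⟩ := U.pair_in hS (by omega)
    have hexp : ∀ y ∈ S, y = T.fA y u • v + T.fA y v • u := by
      intro y hy
      by_contra hne
      have h0 : y - T.fA y u • v - T.fA y v • u ≠ 0 := by rwa [sub_sub, sub_ne_zero]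
      set r := y - T.fA y u • v - T.fA y v • u with hr
      have hrS : r ∈ S := S.sub_mem (S.sub_mem hy (S.smul_mem _ hv)) (S.smul_mem _ hu)
      have r1 : T.fA r v = 0 := by simp [hr, hvv, huv]
      have r2 : T.fA r u = 0 := by simp [hr, huu, hvu]
      have hli : LinearIndependent F ![(⟨v, hv⟩ : S), ⟨u, hu⟩, ⟨r, hrS⟩] := by
        rw [Fintype.linearIndependent_iff]
        intro g hg i
        rw [Fin.sum_univ_three] at hg
        have hg' : g 0 • v + g 1 • u + g 2 • r = 0 := congrArg Subtype.val hg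
        have a1 : g 1 = 0 := by simpa [hvv, huv, r1] using congrArg (fun a => T.fA a v) hg'
        have a0 : g 0 = 0 := by simpa [huu, hvu, r2] using congrArg (fun a => T.fA a u) hg'
        rw [a0, a1, zero_smul, zero_smul, zero_add, zero_add, smul_eq_zero] at hg'
        fin_cases i
        · exact a0
        · exact a1
        · exact hg'.resolve_right h0
      have := hli.fintype_card_le_finrank
      simp [hn] at this
    set p := T.C' u x with hp
    set r := T.C' v x with hr
    have hxe : x = T.tau v p + T.tau u r := sub_eq_zero.1 (hT.C_nondeg fun b => by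
      rw [map_sub, map_add, hT.C_tau, hT.C_tau, hp, hr, ← hT.form_C', ← hT.form_C', hT.form_C,
        hT.form_C, ← hexp _ (hx b), sub_self])
    rcases eq_or_ne r 0 with hr0 | hr0
    · rw [hxe, hr0, map_zero, add_zero]; exact U.full_left htv hvv p
    rw [hxe] at hxx ⊢
    simp only [map_add, LinearMap.add_apply, hT.form_tau, hvv, huu, hvu, huv, zero_mul, one_mul,
      zero_add, add_zero] at hxx
    have done : ∀ p, T.fB p r ≠ 0 → σ (T.fB p r) = T.fB p r →
        FullV T H (T.tau v p + T.tau u r) := fun p hne hre => by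
      have h1 := U.full_step (U.full_left htv hvv p) (U.full_left htv huu r) (k := (T.fB p r)⁻¹)
        (by rw [map_inv₀, hre])
      rwa [hT.form_tau, hvu, one_mul, inv_mul_cancel₀ hne, one_smul] at h1
    have hre : σ (T.fB p r) = T.fB p r := by rw [U.conjB]; linear_combination -hxx
    rcases ne_or_eq (T.fB p r) 0 with hne | heq
    · exact done p hne hre
    obtain ⟨b, hb⟩ : ∃ b, T.fB r b ≠ 0 := by
      by_contra hno
      simp only [not_exists, not_not] at hno
      exact hr0 (hT.nondegB r hno)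
    refine U.full_pull (y := T.tau v b) (k := 1) (map_one σ) (U.full_left htv hvv b) ?_
    have he : T.tau v p + T.tau u r + (1 * T.form (T.tau v p + T.tau u r) (T.tau v b)) • T.tau v b =
        T.tau v (p + T.fB r b • b) + T.tau u r := by
      simp only [map_add, map_smul, LinearMap.add_apply, hT.form_tau, hvv, huv, zero_mul, one_mul,
        zero_add]
      module
    rw [he]
    have hval : T.fB (p + T.fB r b • b) r = T.fB r b * T.fB b r := by simp [heq]
    refine done _ ?_ ?_
    · rw [hval]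
      exact mul_ne_zero hb fun e0 => hb (hT.B_flip_zero e0)
    · rw [hval, map_mul, U.conjB, U.conjB, neg_mul_neg, mul_comm]
  · -- split off an anisotropic direction
    obtain ⟨e, he, hee, hgood⟩ : ∃ e ∈ S, T.fA e e ≠ 0 ∧ ∀ xS s, InS T (cut T S e) xS →
        x = xS + T.tau e s → T.form x x = T.form xS xS + T.fA e e * T.fB s s →
        finrank F (cut T S e) = 2 → T.fA e e * T.fB s s ≠ 1 := by
      obtain ⟨e₁, he₁, hee₁⟩ := U.exists_aniso_in hS (by omega)
      rcases Nat.lt_or_ge n 3 with hn3 | hn3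
      swap
      · exact ⟨e₁, he₁, hee₁, fun _ _ _ _ _ h => by
          have := U.finrank_cut he₁ hee₁; omega⟩
      -- dimension three
      by_contra hno
      simp only [not_exists, not_and, not_forall, not_not] at hno
      have hS₁ := U.cut_ndeg hS he₁ hee₁
      obtain ⟨e₂, he₂, hee₂⟩ := U.exists_aniso_in hS₁ (by
        have := U.finrank_cut he₁ hee₁; omega)
      have hS₂ := U.cut_ndeg hS₁ he₂ hee₂
      obtain ⟨e₃, he₃, hee₃⟩ := U.exists_aniso_in hS₂ (by
        have := U.finrank_cut he₁ hee₁; have := U.finrank_cut he₂ hee₂; omega)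
      have hzero : cut T (cut T (cut T S e₁) e₂) e₃ = ⊥ := by
        refine Submodule.finrank_eq_zero.1 ?_
        have := U.finrank_cut he₁ hee₁; have := U.finrank_cut he₂ hee₂
        have := U.finrank_cut he₃ hee₃
        omega
      have hval : ∀ e ∈ S, T.fA e e ≠ 0 → T.fA e e * T.fB ((T.fA e e)⁻¹ • T.C' e x)
          ((T.fA e e)⁻¹ • T.C' e x) = 1 := by
        intro e he hee
        obtain ⟨xS, s, hxS, hxe, -, -, h1⟩ := hno e he hee
        have hs : (T.fA e e)⁻¹ • T.C' e x = s := by
          have hC : T.C' e xS = 0 := hT.nondegB _ fun b => by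
            rw [← hT.form_C', hT.form_C, (mem_cut.1 (hxS b)).2]
          rw [hxe, map_add, hC, zero_add, hT.C'_tau, inv_smul_smul₀ hee]
        rw [hs, h1]
      obtain ⟨x₁, s₁, hx₁, hxe₁, hf₁⟩ := U.split he₁ hee₁ hx
      obtain ⟨x₂, s₂, hx₂, hxe₂, hf₂⟩ := U.split he₂ hee₂ hx₁
      obtain ⟨x₃, s₃, hx₃, hxe₃, hf₃⟩ := U.split he₃ hee₃ hx₂
      have hx30 : x₃ = 0 := hT.C_nondeg fun b => by
        have := hx₃ b
        rwa [hzero, Submodule.mem_bot] at this
      obtain ⟨he₂S, he21⟩ := mem_cut.1 he₂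
      obtain ⟨he₃1, he32⟩ := mem_cut.1 he₃
      obtain ⟨he₃S, he31⟩ := mem_cut.1 he₃1
      have key : ∀ {y : V} {e : A} {b : B}, T.C' e (y + T.tau e b) = T.C' e y + T.fA e e • b :=
        fun {y e b} => by rw [map_add, hT.C'_tau]
      have perpC : ∀ {S' : Submodule F A} {y : V} {e : A}, InS T S' y → (∀ a ∈ S', T.fA a e = 0) →
          T.C' e y = 0 := fun {S' y e} hy h => hT.nondegB _ fun b => by
        rw [← hT.form_C', hT.form_C, h _ (hy b)]
      have c1 : T.C' e₁ x = T.fA e₁ e₁ • s₁ := by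
        rw [hxe₁, key, perpC hx₁ (fun a ha => (mem_cut.1 ha).2), zero_add]
      have c2 : T.C' e₂ x = T.fA e₂ e₂ • s₂ := by
        rw [hxe₁, map_add, hT.C'_tau, hT.A_flip_zero he21, zero_smul, add_zero, hxe₂, key,
          perpC hx₂ (fun a ha => (mem_cut.1 ha).2), zero_add]
      have c3 : T.C' e₃ x = T.fA e₃ e₃ • s₃ := by
        rw [hxe₁, map_add, hT.C'_tau, hT.A_flip_zero he31, zero_smul, add_zero, hxe₂, map_add,
          hT.C'_tau, hT.A_flip_zero he32, zero_smul, add_zero, hxe₃, key, hx30, map_zero, zero_add]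
      have v1 := hval e₁ he₁ hee₁
      have v2 := hval e₂ he₂S hee₂
      have v3 := hval e₃ he₃S hee₃
      rw [c1, inv_smul_smul₀ hee₁] at v1
      rw [c2, inv_smul_smul₀ hee₂] at v2
      rw [c3, inv_smul_smul₀ hee₃] at v3
      have h30 : T.form x₃ x₃ = 0 := by simp [hx30]
      have three0 : (3 : F) = 0 := by
        linear_combination hxx - hf₁ - hf₂ - hf₃ - h30 - v1 - v2 - v3
      have two0 : (2 : F) = 0 := by
        have h1 := congrArg σ v1
        rw [map_mul, map_one, U.conjA, U.conjB, mul_neg, v1] at h1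
        linear_combination -h1
      exact one_ne_zero (show (1 : F) = 0 by linear_combination three0 - two0)
    obtain ⟨xS, s, hxS, hxe, hf⟩ := U.split he hee hx
    have hcond := hgood xS s hxS hxe hf
    have hrk := U.finrank_cut he hee
    rw [hxe] at hxx ⊢
    exact U.full_extend htv (U.cut_ndeg hS he hee) (by omega) hee (fun y hy => (mem_cut.1 hy).2)
      (ih _ (U.cut_ndeg hS he hee) (by omega) hn2) hxS hxx hcond

/-- one transvection at a pure singular vector spreads to all singular vectors -/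
theorem full_all (U : UData T H) (htv : ¬ NoTv T H) {x : V} (hx : T.form x x = 0) : FullV T H x :=
  U.full_sub htv (finrank F A) ⊤
    (fun y _ h => U.good.nondegA y fun y' => h y' Submodule.mem_top) (finrank_top F A) U.dimA x
    (fun b => Submodule.mem_top) hx

end UData

end CfsgLib.MaxSub.TForm
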