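import Cfsg.Agent.Lib.MaxSub.TFormMinusSlice

/-!
`O3 ⊗ O4-`: elements acting by signs on the product of two orthogonal frames.
-/

set_option autoImplicit false
set_option linter.unusedSectionVars false
set_option linter.unusedSimpArgs false
set_option linter.unusedVariables false
set_option linter.style.haveILetI false
set_option maxHeartbeats 1000000

namespace CfsgLib.MaxSub.TForm

open Module

variable {F A B V : Type*} [Field F] [AddCommGroup A] [Module F A] [AddCommGroup B] [Module F B]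
  [AddCommGroup V] [Module F V]

theorem sgn_mul (a b : Bool) : sgn F a * sgn F b = sgn F (xor a b) := by
  cases a <;> cases b <;> simp [sgn]

theorem sgn_self (a : Bool) : sgn F a * sgn F a = 1 := by cases a <;> simp [sgn]

theorem sgn_ne_zero (a : Bool) : sgn F a ≠ 0 := fun h => by
  have := sgn_self (F := F) a
  rw [h, zero_mul] at this
  exact zero_ne_one this

theorem sgn_inj (h2 : (2 : F) ≠ 0) {a b : Bool} (h : sgn F a = sgn F b) : a = b := by
  cases a <;> cases b <;> simp [sgn] at h ⊢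
  · exact h2 (by linear_combination h)
  · exact h2 (by linear_combination -h)

/-- the vectors of a product frame -/
def pb (T : Sys F A B V (RingHom.id F)) (a : Fin 3 → A) (l : Fin 4 → B) (p : Fin 3 × Fin 4) : V :=
  T.tau (a p.1) (l p.2)

/-- acting by signs on a product frame -/
def Diag (T : Sys F A B V (RingHom.id F)) (a : Fin 3 → A) (l : Fin 4 → B) (S : Fin 3 → Fin 4 → Bool)
    (g : V ≃ₗ[F] V) : Prop :=
  ∀ i k, g (T.tau (a i) (l k)) = sgn F (S i k) • T.tau (a i) (l k)

/-- `1 ⊗ β` -/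
def PureB (T : Sys F A B V (RingHom.id F)) (g : V ≃ₗ[F] V) (β : B →ₗ[F] B) : Prop :=
  ∀ a b, g (T.tau a b) = T.tau a (β b)

theorem IsFr.linearIndependent {M : Type*} [AddCommGroup M] [Module F M] {f : M →ₗ[F] M →ₗ[F] F} {n : ℕ}
    {a : Fin n → M} (h : IsFr f a) : LinearIndependent F a := by
  classical
  rw [Fintype.linearIndependent_iff]
  intro c hc i
  have e := congrArg (fun x => f x (a i)) hc
  simp only [map_sum, map_smul, LinearMap.sum_apply, LinearMap.smul_apply, smul_eq_mul, map_zero,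
    LinearMap.zero_apply] at e
  rw [Finset.sum_eq_single i (fun j _ hj => by rw [h.orth j i hj, mul_zero]) (by simp)] at e
  exact (mul_eq_zero.1 e).resolve_right (h.aniso i)

theorem IsFr.span_eq_top {M : Type*} [AddCommGroup M] [Module F M] [FiniteDimensional F M]
    {f : M →ₗ[F] M →ₗ[F] F} {n : ℕ} (hn : finrank F M = n) {a : Fin n → M} (h : IsFr f a) :
    Submodule.span F (Set.range a) = ⊤ := by
  rcases Nat.eq_zero_or_pos n with rfl | hp
  · haveI : Subsingleton M := finrank_zero_iff.1 hn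
    exact Subsingleton.elim _ _
  · haveI : Nonempty (Fin n) := ⟨⟨0, hp⟩⟩
    exact h.linearIndependent.span_eq_top_of_card_eq_finrank (by rw [Fintype.card_fin, hn])

/-- an orthogonal frame of common eigenvectors of two commuting involutive isometries -/
theorem SymNd.exists_fr_eig {M : Type*} [AddCommGroup M] [Module F M] [FiniteDimensional F M]
    {f : M →ₗ[F] M →ₗ[F] F} (hS : SymNd f) {α β : M →ₗ[F] M} (hα : ∀ x y, f (α x) (α y) = f x y)
    (hβ : ∀ x y, f (β x) (β y) = f x y) (hα2 : ∀ x, α (α x) = x) (hβ2 : ∀ x, β (β x) = x)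
    (hc : ∀ x, α (β x) = β (α x)) {n : ℕ} (hn : finrank F M = n) :
    ∃ (a : Fin n → M) (ε δ : Fin n → Bool), IsFr f a ∧
      ∀ i, α (a i) = sgn F (ε i) • a i ∧ β (a i) = sgn F (δ i) • a i := by
  classical
  have h2 := hS.two
  suffices key : ∀ (n : ℕ) (S : Submodule F M), NdS f S → finrank F S = n →
      (∀ x ∈ S, α x ∈ S) → (∀ x ∈ S, β x ∈ S) →
      ∃ (a : Fin n → M) (ε δ : Fin n → Bool), (∀ i, a i ∈ S) ∧ IsFr f a ∧
        ∀ i, α (a i) = sgn F (ε i) • a i ∧ β (a i) = sgn F (δ i) • a i by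
    obtain ⟨a, ε, δ, -, h1, h2⟩ := key n ⊤ hS.ndS_top (by rw [finrank_top, hn])
      (fun x _ => Submodule.mem_top) (fun x _ => Submodule.mem_top)
    exact ⟨a, ε, δ, h1, h2⟩
  intro n
  induction n with
  | zero => exact fun S _ _ _ _ => ⟨Fin.elim0, Fin.elim0, Fin.elim0, fun i => i.elim0,
      ⟨fun i => i.elim0, fun i => i.elim0⟩, fun i => i.elim0⟩
  | succ n ih =>
      intro S hnd hd hαS hβS
      have split : ∀ γ : M →ₗ[F] M, (∀ x y, f (γ x) (γ y) = f x y) → (∀ x, γ (γ x) = x) →
          ∀ y, f y y ≠ 0 → ∃ s : Bool, f (y + sgn F s • γ y) (y + sgn F s • γ y) ≠ 0 ∧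
            γ (y + sgn F s • γ y) = sgn F s • (y + sgn F s • γ y) := by
        intro γ hγ hγ2 y hy
        have he : ∀ s : Bool, γ (y + sgn F s • γ y) = sgn F s • (y + sgn F s • γ y) := fun s => by
          rw [map_add, map_smul, hγ2, smul_add, smul_smul, sgn_self, one_smul, add_comm]
        by_cases h : f (y + sgn F false • γ y) (y + sgn F false • γ y) = 0
        · refine ⟨true, fun h' => ?_, he _⟩
          simp only [sgn, cond_true, cond_false, one_smul, neg_smul, map_add, map_neg, LinearMap.add_apply,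
            LinearMap.neg_apply, hγ y y] at h h'
          exact hy ((mul_eq_zero.1 (show (2 : F) * ((2 : F) * f y y) = 0 by
            linear_combination h + h')).resolve_left h2 |> (mul_eq_zero.1 ·) |>.resolve_left h2)
        · exact ⟨false, h, he _⟩
      obtain ⟨y₀, hy₀, hy₀'⟩ := hS.exists_aniso_of_pos hnd (by omega)
      obtain ⟨s, hs, hsα⟩ := split α hα hα2 y₀ hy₀'
      set y₁ := y₀ + sgn F s • α y₀ with hy₁
      have hy₁S : y₁ ∈ S := S.add_mem hy₀ (S.smul_mem _ (hαS _ hy₀))
      obtain ⟨t, ht, htβ⟩ := split β hβ hβ2 y₁ hs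
      set e := y₁ + sgn F t • β y₁ with he
      have heS : e ∈ S := S.add_mem hy₁S (S.smul_mem _ (hβS _ hy₁S))
      have heα : α e = sgn F s • e := by
        rw [he, map_add α y₁, map_smul α, hc y₁, hsα, map_smul β, smul_add (sgn F s) y₁, smul_comm]
      have hnd' := hS.ndS_cut hnd heS ht
      have d1 := SymNd.finrank_cut (f := f) S ![e]
      have hlt : S ⊓ perpV f ![e] < S := lt_of_le_of_ne inf_le_left fun h => ht (by
        have : e ∈ S ⊓ perpV f ![e] := by rw [h]; exact heS
        exact mem_perpV.1 this.2 0)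
      have d2 := Submodule.finrank_lt_finrank_of_lt hlt
      have hinv : ∀ γ : M →ₗ[F] M, (∀ x y, f (γ x) (γ y) = f x y) → (∀ x ∈ S, γ x ∈ S) →
          ∀ b : Bool, γ e = sgn F b • e → ∀ x ∈ S ⊓ perpV f ![e], γ x ∈ S ⊓ perpV f ![e] := by
        intro γ hγ hγS b hb x hx
        refine ⟨hγS x hx.1, mem_perpV.2 fun i => ?_⟩
        fin_cases i
        have h := hγ x e
        rw [hb, map_smul, smul_eq_mul, show f x e = 0 from mem_perpV.1 hx.2 0] at h
        exact (mul_eq_zero.1 h).resolve_left (sgn_ne_zero b)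
      obtain ⟨a, ε, δ, haS, hafr, haeig⟩ := ih (S ⊓ perpV f ![e]) hnd' (by omega)
        (hinv α hα hαS s heα) (hinv β hβ hβS t htβ)
      refine ⟨Fin.cons e a, Fin.cons s ε, Fin.cons t δ, fun i => ?_, ⟨fun i j hij => ?_, fun i => ?_⟩,
        fun i => ?_⟩
      · refine Fin.cases ?_ (fun i => ?_) i
        · exact heS
        · rw [Fin.cons_succ]; exact (haS i).1
      · revert hij
        refine Fin.cases ?_ (fun i => ?_) i <;> refine Fin.cases ?_ (fun j => ?_) j <;> intro hij
        · exact absurd rfl hij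
        · rw [Fin.cons_zero, Fin.cons_succ, hS.symm]; exact mem_perpV.1 (haS j).2 0
        · rw [Fin.cons_zero, Fin.cons_succ]; exact mem_perpV.1 (haS i).2 0
        · rw [Fin.cons_succ, Fin.cons_succ]; exact hafr.orth i j fun h => hij (by rw [h])
      · refine Fin.cases ?_ (fun i => ?_) i
        · exact ht
        · rw [Fin.cons_succ]; exact hafr.aniso i
      · refine Fin.cases ?_ (fun i => ?_) i
        · simp only [Fin.cons_zero]; exact ⟨heα, htβ⟩
        · simp only [Fin.cons_succ]; exact haeig i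

theorem SymNd.exists_fr {M : Type*} [AddCommGroup M] [Module F M] [FiniteDimensional F M]
    {f : M →ₗ[F] M →ₗ[F] F} (hS : SymNd f) {n : ℕ} (hn : finrank F M = n) : ∃ a : Fin n → M, IsFr f a := by
  obtain ⟨a, -, -, h, -⟩ := hS.exists_fr_eig (α := LinearMap.id) (β := LinearMap.id) (fun _ _ => rfl)
    (fun _ _ => rfl) (fun _ => rfl) (fun _ => rfl) (fun _ => rfl) hn
  exact ⟨a, h⟩

namespace MData

variable {T : Sys F A B V (RingHom.id F)} {H : Subgroup (V ≃ₗ[F] V)}
variable [Finite F] [FiniteDimensional F A] [FiniteDimensional F B] [FiniteDimensional F V]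

theorem ext_fr (D : MData T H) {a : Fin 3 → A} {l : Fin 4 → B} (ha : IsFr T.fA a) (hl : IsFr T.fB l)
    {W : Type*} [AddCommGroup W] [Module F W] {f g : V →ₗ[F] W}
    (h : ∀ i k, f (T.tau (a i) (l k)) = g (T.tau (a i) (l k))) : f = g := by
  refine D.ext_tau fun x y => ?_
  have e1 : ∀ i y, f (T.tau (a i) y) = g (T.tau (a i) y) := fun i y =>
    LinearMap.congr_fun (LinearMap.ext_on_range (hl.span_eq_top D.dimB)
      (f := f ∘ₗ T.tau (a i)) (g := g ∘ₗ T.tau (a i)) (h i)) y
  exact LinearMap.congr_fun (LinearMap.ext_on_range (ha.span_eq_top D.dimA)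
    (f := f ∘ₗ T.tau.flip y) (g := g ∘ₗ T.tau.flip y) fun i => e1 i y) x

theorem diag_mul_comm (D : MData T H) {a : Fin 3 → A} {l : Fin 4 → B} (ha : IsFr T.fA a) (hl : IsFr T.fB l)
    {g g' : V ≃ₗ[F] V} {S S' : Fin 3 → Fin 4 → Bool} (h : Diag T a l S g) (h' : Diag T a l S' g') :
    g * g' = g' * g :=
  LinearEquiv.toLinearMap_injective (D.ext_fr ha hl fun i k => by
    show g (g' _) = g' (g _)
    rw [h', h, map_smul, map_smul, h, h', smul_comm])

theorem pb_form (D : MData T H) {a : Fin 3 → A} {l : Fin 4 → B} (ha : IsFr T.fA a) (hl : IsFr T.fB l) :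
    (∀ p q, p ≠ q → T.form (pb T a l p) (pb T a l q) = 0) ∧
      ∀ p, T.form (pb T a l p) (pb T a l p) ≠ 0 := by
  refine ⟨fun p q hpq => ?_, fun p => ?_⟩
  · rw [pb, pb, D.form_tau]
    rcases eq_or_ne p.1 q.1 with h1 | h1
    · rw [hl.orth _ _ fun h2 => hpq (Prod.ext h1 h2), mul_zero]
    · rw [ha.orth _ _ h1, zero_mul]
  · rw [pb, D.form_tau]; exact mul_ne_zero (ha.aniso _) (hl.aniso _)

theorem pb_indep (D : MData T H) {a : Fin 3 → A} {l : Fin 4 → B} (ha : IsFr T.fA a) (hl : IsFr T.fB l) :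
    LinearIndependent F (pb T a l) := by
  classical
  obtain ⟨h0, h1⟩ := D.pb_form ha hl
  rw [Fintype.linearIndependent_iff]
  intro c hc p
  have e := congrArg (fun x => T.form x (pb T a l p)) hc
  simp only [map_sum, map_smul, LinearMap.sum_apply, LinearMap.smul_apply, smul_eq_mul, map_zero,
    LinearMap.zero_apply] at e
  rw [Finset.sum_eq_single p (fun q _ hq => by rw [h0 q p hq, mul_zero]) (by simp)] at e
  exact (mul_eq_zero.1 e).resolve_right (h1 p)

/-- the expansion in a product frame -/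
theorem pb_expand (D : MData T H) {a : Fin 3 → A} {l : Fin 4 → B} (ha : IsFr T.fA a) (hl : IsFr T.fB l)
    (x : V) : x = ∑ p, (T.form x (pb T a l p) / T.form (pb T a l p) (pb T a l p)) • pb T a l p := by
  classical
  obtain ⟨h0, h1⟩ := D.pb_form ha hl
  let f : V →ₗ[F] V := ∑ p, ((T.form (pb T a l p) (pb T a l p))⁻¹ • T.form.flip (pb T a l p)).smulRight
    (pb T a l p)
  have hf : f = LinearMap.id := D.ext_fr ha hl fun i k => by
    show f (pb T a l (i, k)) = pb T a l (i, k)
    simp only [f, LinearMap.sum_apply, LinearMap.smulRight_apply, LinearMap.smul_apply, LinearMap.flip_apply]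
    rw [Finset.sum_eq_single (i, k) (fun q _ hq => by
      rw [h0 (i, k) q hq.symm, smul_zero, zero_smul]) (by simp), smul_eq_mul, inv_mul_cancel₀ (h1 _), one_smul]
  conv_lhs => rw [← LinearMap.id_apply (R := F) x, ← hf]
  simp only [f, LinearMap.sum_apply, LinearMap.smulRight_apply, LinearMap.smul_apply, LinearMap.flip_apply,
    smul_eq_mul]
  exact Finset.sum_congr rfl fun p _ => by rw [div_eq_inv_mul]

/-- intertwined sign elements: classes go to classes -/
theorem map_class (D : MData T H) {g d d' : V ≃ₗ[F] V} (hd' : d' ∈ H) (h : g * d = d' * g)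
    {a a' : Fin 3 → A} {l l' : Fin 4 → B} {S S' : Fin 3 → Fin 4 → Bool} (hS : Diag T a l S d)
    (hS' : Diag T a' l' S' d') {i : Fin 3} {k : Fin 4} {i' : Fin 3} {k' : Fin 4} (hne : S' i' k' ≠ S i k) :
    T.form (g (T.tau (a i) (l k))) (T.tau (a' i') (l' k')) = 0 := by
  set y := g (T.tau (a i) (l k)) with hy
  have e1 : d' y = sgn F (S i k) • y := by
    show (d' * g) (T.tau (a i) (l k)) = _
    rw [← h, LinearEquiv.mul_apply, hS, map_smul]
  have e2 := D.isom d' hd' y (T.tau (a' i') (l' k'))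
  rw [e1, hS'] at e2
  simp only [map_smul, LinearMap.smul_apply, smul_eq_mul] at e2
  rw [← mul_assoc, sgn_mul] at e2
  have hx : xor (S' i' k') (S i k) = true := by
    revert hne; cases S i k <;> cases S' i' k' <;> simp
  rw [hx] at e2
  simp only [sgn, cond_true] at e2
  exact (mul_eq_zero.1 (show (2 : F) * T.form y (T.tau (a' i') (l' k')) = 0 by
    linear_combination -e2)).resolve_left D.symA.two

theorem card_class_le (D : MData T H) {g d d' : V ≃ₗ[F] V} (hd' : d' ∈ H) (h : g * d = d' * g)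
    {a a' : Fin 3 → A} {l l' : Fin 4 → B} (ha : IsFr T.fA a) (hl : IsFr T.fB l) (ha' : IsFr T.fA a')
    (hl' : IsFr T.fB l') {S S' : Fin 3 → Fin 4 → Bool} (hS : Diag T a l S d) (hS' : Diag T a' l' S' d') :
    (Finset.univ.filter fun p : Fin 3 × Fin 4 => S p.1 p.2 = false).card ≤
      (Finset.univ.filter fun p : Fin 3 × Fin 4 => S' p.1 p.2 = false).card := by
  classical
  set s := Finset.univ.filter fun p : Fin 3 × Fin 4 => S p.1 p.2 = false
  set s' := Finset.univ.filter fun p : Fin 3 × Fin 4 => S' p.1 p.2 = false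
  set W : Submodule F V := Submodule.span F ↑(s'.image (pb T a' l'))
  have hmem : ∀ p : s, g (pb T a l p.1) ∈ W := fun p => by
    rw [D.pb_expand ha' hl' (g (pb T a l p.1))]
    refine Submodule.sum_mem _ fun q _ => ?_
    by_cases hq : q ∈ s'
    · exact W.smul_mem _ (Submodule.subset_span (Finset.mem_image_of_mem _ hq))
    · have hp : S p.1.1 p.1.2 = false := (Finset.mem_filter.1 p.2).2
      have hz : T.form (g (pb T a l p.1)) (pb T a' l' q) = 0 := D.map_class hd' h hS hS' (by
        rw [hp]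
        exact fun e => hq (Finset.mem_filter.2 ⟨Finset.mem_univ _, e⟩))
      rw [hz, zero_div, zero_smul]
      exact W.zero_mem
  have hind : LinearIndependent F fun p : s => (⟨g (pb T a l p.1), hmem p⟩ : W) := by
    refine LinearIndependent.of_comp W.subtype ?_
    exact ((D.pb_indep ha hl).comp _ Subtype.val_injective).map' (g : V →ₗ[F] V) (LinearEquiv.ker g)
  have h1 := hind.fintype_card_le_finrank
  rw [Fintype.card_coe] at h1
  have h2 : finrank F W ≤ (s'.image (pb T a' l')).card := finrank_span_finset_le_card _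
  exact h1.trans (h2.trans Finset.card_image_le)

/-- conjugate sign elements have classes of equal size -/
theorem card_class_eq (D : MData T H) {g d d' : V ≃ₗ[F] V} (hd : d ∈ H) (hd' : d' ∈ H) (h : g * d = d' * g)
    {a a' : Fin 3 → A} {l l' : Fin 4 → B} (ha : IsFr T.fA a) (hl : IsFr T.fB l) (ha' : IsFr T.fA a')
    (hl' : IsFr T.fB l') {S S' : Fin 3 → Fin 4 → Bool} (hS : Diag T a l S d) (hS' : Diag T a' l' S' d') :
    (Finset.univ.filter fun p : Fin 3 × Fin 4 => S p.1 p.2 = false).card =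
      (Finset.univ.filter fun p : Fin 3 × Fin 4 => S' p.1 p.2 = false).card := by
  refine le_antisymm (D.card_class_le hd' h ha hl ha' hl' hS hS') (D.card_class_le (g := g⁻¹) hd ?_ ha' hl' ha hl hS' hS)
  calc g⁻¹ * d' = g⁻¹ * (d' * g) * g⁻¹ := by group
    _ = g⁻¹ * (g * d) * g⁻¹ := by rw [h]
    _ = d * g⁻¹ := by group

/-- a vector orthogonal to the other slices lies in a slice -/
theorem mem_slice (D : MData T H) {a : Fin 3 → A} {l : Fin 4 → B} (ha : IsFr T.fA a) (hl : IsFr T.fB l)
    {m : Fin 3} {x : V} (h : ∀ i k, i ≠ m → T.form x (T.tau (a i) (l k)) = 0) :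
    ∃ b, x = T.tau (a m) b := by
  classical
  refine ⟨∑ k, (T.form x (pb T a l (m, k)) / T.form (pb T a l (m, k)) (pb T a l (m, k))) • l k, ?_⟩
  conv_lhs => rw [D.pb_expand ha hl x]
  rw [Fintype.sum_prod_type, Finset.sum_eq_single m (fun i _ hi => Finset.sum_eq_zero fun k _ => by
    rw [show T.form x (pb T a l (i, k)) = 0 from h i k hi, zero_div, zero_smul]) (by simp), map_sum]
  simp [pb]

/-- mapping one slice of a frame to a slice gives purity -/
theorem kron_of_slices (D : MData T H) (hno : NoFrame T H) {g : V ≃ₗ[F] V} (hg : g ∈ H) {a : Fin 3 → A}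
    {l : Fin 4 → B} (ha : IsFr T.fA a) (hl : IsFr T.fB l) {a' : Fin 3 → A} {l' : Fin 4 → B}
    (ha' : IsFr T.fA a') (hl' : IsFr T.fB l') {m m' : Fin 3}
    (h : ∀ k i' k', i' ≠ m' → T.form (g (T.tau (a m) (l k))) (T.tau (a' i') (l' k')) = 0) : IsKron T g := by
  refine D.kron_of_slice hno hg (ha.aniso m) (ha'.aniso m') fun b => ?_
  have hb : b ∈ Submodule.span F (Set.range l) := by rw [hl.span_eq_top D.dimB]; trivial
  induction hb using Submodule.span_induction with
  | mem b hb =>
      obtain ⟨k, rfl⟩ := hb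
      exact D.mem_slice ha' hl' fun i' k' hi' => h k i' k' hi'
  | zero => exact ⟨0, by simp⟩
  | add p q _ _ hp hq =>
      obtain ⟨p', hp'⟩ := hp
      obtain ⟨q', hq'⟩ := hq
      exact ⟨p' + q', by simp [hp', hq']⟩
  | smul c p _ hp =>
      obtain ⟨p', hp'⟩ := hp
      exact ⟨c • p', by simp [hp']⟩

/-- a pure element of order two acts by signs on a product frame -/
theorem pure_invol (D : MData T H) {g : V ≃ₗ[F] V} (hg : g ∈ H) (hk : IsKron T g) (h2 : g * g = 1) :
    ∃ (a : Fin 3 → A) (l : Fin 4 → B) (ε : Fin 3 → Bool) (δ : Fin 4 → Bool), IsFr T.fA a ∧ IsFr T.fB l ∧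
      Diag T a l (fun i k => xor (ε i) (δ k)) g := by
  classical
  obtain ⟨M, f, hgab⟩ := hk
  obtain ⟨a₀, hfr⟩ := D.symA.exists_fr D.dimA
  obtain ⟨l₀, hfl⟩ := D.symB.exists_fr D.dimB
  have h20 := D.symA.two
  have hsq : ∀ a b, T.tau (M (M a)) (f (f b)) = T.tau a b := fun a b => by
    rw [← hgab, ← hgab]; exact LinearEquiv.congr_fun h2 _
  obtain ⟨w, hw⟩ : ∃ w, T.fB (f (f (l₀ 0))) w ≠ 0 := by
    by_contra hh
    push Not at hh
    have h0 : f (f (l₀ 0)) = 0 := D.symB.nondeg _ hh
    have := hsq (a₀ 0) (l₀ 0)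
    rw [h0, map_zero] at this
    have := congrArg (T.form (T.tau (a₀ 0) (l₀ 0))) this
    rw [map_zero, D.form_tau] at this
    exact mul_ne_zero (hfr.aniso 0) (hfl.aniso 0) this.symm
  set c := T.fB (l₀ 0) w / T.fB (f (f (l₀ 0))) w with hcdef
  have hM : ∀ a, M (M a) = c • a := fun a => by
    have := congrArg (T.C w) (hsq a (l₀ 0))
    rw [D.C_tau, D.C_tau] at this
    rw [hcdef, div_eq_inv_mul, ← smul_smul, ← this, inv_smul_smul₀ hw]
  have hc : c ≠ 0 := fun h0 => by
    have := hsq (a₀ 0) (l₀ 0)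
    rw [hM, h0, zero_smul, map_zero, LinearMap.zero_apply] at this
    have := congrArg (T.form (T.tau (a₀ 0) (l₀ 0))) this
    rw [map_zero, D.form_tau] at this
    exact mul_ne_zero (hfr.aniso 0) (hfl.aniso 0) this.symm
  set d := LinearMap.det M with hd
  have hd2 : d * d = c * (c * c) := by
    have e : M * M = c • (1 : Module.End F A) := LinearMap.ext fun a => by simpa using hM a
    have := congrArg LinearMap.det e
    rw [map_mul, LinearMap.det_smul, map_one, mul_one, D.dimA, ← hd] at this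
    rw [this]; ring
  set s := d / c with hsdef
  have hs2 : s * s = c := by
    rw [hsdef, div_mul_div_comm, hd2]; field_simp
  have hs : s ≠ 0 := fun h0 => hc (by rw [← hs2, h0, mul_zero])
  let α : A →ₗ[F] A := s⁻¹ • M
  let β : B →ₗ[F] B := s • f
  have hab : ∀ a b, g (T.tau a b) = T.tau (α a) (β b) := fun a b => by
    simp [hgab, α, β, smul_smul, mul_inv_cancel₀ hs, inv_mul_cancel₀ hs]
  have hα2 : ∀ a, α (α a) = a := fun a => by
    simp only [α, LinearMap.smul_apply, map_smul, hM, smul_smul]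
    rw [← hs2]
    field_simp
    simp
  have ha0ne : a₀ 0 ≠ 0 := fun h0 => hfr.aniso 0 (by simp [h0])
  have hβ2 : ∀ b, β (β b) = b := fun b => D.tau_right_inj ha0ne (by
    have := LinearEquiv.congr_fun h2 (T.tau (a₀ 0) b)
    change g (g _) = _ at this
    rwa [hab, hab, hα2] at this)
  -- similitude factors
  set qa := T.fB (β (l₀ 0)) (β (l₀ 0)) with hqa
  have hiso : ∀ a a' b b', T.fA (α a) (α a') * T.fB (β b) (β b') = T.fA a a' * T.fB b b' := fun a a' b b' => by
    rw [← D.form_tau, ← hab, ← hab, D.isom g hg, D.form_tau]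
  have hqa0 : qa ≠ 0 := fun h0 => by
    have := hiso (a₀ 0) (a₀ 0) (l₀ 0) (l₀ 0)
    rw [← hqa, h0, mul_zero] at this
    exact mul_ne_zero (hfr.aniso 0) (hfl.aniso 0) this.symm
  set μ := T.fB (l₀ 0) (l₀ 0) / qa with hμdef
  have hαμ : ∀ a a', T.fA (α a) (α a') = μ * T.fA a a' := fun a a' => by
    rw [hμdef, div_mul_eq_mul_div, eq_div_iff hqa0, hiso, mul_comm]
  have hμ2 : μ * μ = 1 := by
    have := hαμ (α (a₀ 0)) (α (a₀ 0))
    rw [hα2, hαμ, ← mul_assoc] at this
    exact mul_right_cancel₀ (hfr.aniso 0) (this.symm.trans (one_mul _).symm)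
  have hμ1 : μ = 1 := by
    rcases mul_self_eq_one_iff.1 hμ2 with h | h
    · exact h
    exfalso
    -- `μ = -1`: compare Gram determinants
    let bA := Basis.mk hfr.linearIndependent (hfr.span_eq_top D.dimA).ge
    have e1 : LinearMap.toMatrix₂ bA bA (T.fA.compl₁₂ α α) = -(LinearMap.toMatrix₂ bA bA T.fA) := by
      ext i j
      simp [LinearMap.toMatrix₂_apply, hαμ, h]
    rw [LinearMap.toMatrix₂_compl₁₂ bA bA] at e1
    have hdetα : LinearMap.det α * LinearMap.det α = 1 := by
      have e : α * α = 1 := LinearMap.ext hα2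
      have := congrArg LinearMap.det e
      rwa [map_mul, map_one] at this
    have e2 := congrArg Matrix.det e1
    rw [Matrix.det_mul, Matrix.det_mul, Matrix.det_transpose, LinearMap.det_toMatrix, Matrix.det_neg,
      Fintype.card_fin] at e2
    have hdet0 : (LinearMap.toMatrix₂ bA bA T.fA).det ≠ 0 := by
      have e3 : LinearMap.toMatrix₂ bA bA T.fA = Matrix.diagonal fun i => T.fA (a₀ i) (a₀ i) := by
        ext i j
        rcases eq_or_ne i j with rfl | hij
        · simp [LinearMap.toMatrix₂_apply, bA]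
        · simp [LinearMap.toMatrix₂_apply, bA, hij, hfr.orth i j hij]
      rw [e3, Matrix.det_diagonal]
      exact Finset.prod_ne_zero_iff.2 fun i _ => hfr.aniso i
    exact mul_ne_zero h20 hdet0 (by linear_combination e2 - (LinearMap.toMatrix₂ bA bA T.fA).det * hdetα)
  have hα : ∀ a a', T.fA (α a) (α a') = T.fA a a' := fun a a' => by rw [hαμ, hμ1, one_mul]
  have hβ : ∀ b b', T.fB (β b) (β b') = T.fB b b' := fun b b' => by
    have := hiso (a₀ 0) (a₀ 0) b b'
    rw [hα] at this
    exact mul_left_cancel₀ (hfr.aniso 0) this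
  obtain ⟨a, ε, ε', hafr, hae⟩ := D.symA.exists_fr_eig hα hα hα2 hα2 (fun _ => rfl) D.dimA
  obtain ⟨l, δ, δ', hlfr, hle⟩ := D.symB.exists_fr_eig hβ hβ hβ2 hβ2 (fun _ => rfl) D.dimB
  refine ⟨a, l, ε, δ, hafr, hlfr, fun i k => ?_⟩
  rw [hab, (hae i).1, (hle k).1, map_smul, map_smul, LinearMap.smul_apply, smul_smul, mul_comm, sgn_mul]

end MData

end CfsgLib.MaxSub.TForm
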