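import Cfsg.Agent.Lib.MaxSub.TFormMinusFrame
import Cfsg.Agent.Lib.MaxSub.Rational
import Cfsg.Agent.Lib.Recog.SylowCenters

/-!
`O3 ⊗ O4-`: an overgroup of the pure Eichler elements without Siegel maps at singular pencils is pure, by the
centralisers of involutions.
-/

set_option autoImplicit false
set_option linter.unusedSectionVars false
set_option linter.unusedSimpArgs false
set_option linter.unusedVariables false
set_option linter.style.haveILetI false
set_option maxHeartbeats 1000000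

namespace CfsgLib.MaxSub.TForm

open Module

variable {F A B V : Type*} [Field F] [AddCommGroup A] [Module F A] [AddCommGroup B] [Module F B]
  [AddCommGroup V] [Module F V]

/-- four true-or-false tests single out the signs of an axis -/
theorem sign_axis : ∀ (ε : Fin 3 → Bool) (δ : Fin 4 → Bool),
    (Finset.univ.filter fun p : Fin 3 × Fin 4 => (xor (ε p.1) (δ p.2)) = false).card = 4 →
      ∃ m, ∀ i k, (xor (ε i) (δ k)) = decide (i ≠ m) := by decide

theorem axis_card : ∀ m : Fin 3,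
    (Finset.univ.filter fun p : Fin 3 × Fin 4 => decide (p.1 ≠ m) = false).card = 4 := by decide

theorem sign_nonconst : ∀ ε : Fin 3 → Bool, (∃ i j, ε i ≠ ε j) → ∃ m, ∀ i, i ≠ m → ε i ≠ ε m := by decide

theorem sign_pairs : ∀ δ₀ δ₁ : Fin 4 → Bool,
    (Finset.univ.filter fun p : Fin 3 × Fin 4 => δ₀ p.2 = false).card = 6 →
    (Finset.univ.filter fun p : Fin 3 × Fin 4 => δ₁ p.2 = false).card = 6 →
      (∀ k k', δ₀ k = δ₀ k' → δ₁ k = δ₁ k' → k = k') ∨ ∃ c, ∀ k, δ₁ k = xor (δ₀ k) c := by decide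

theorem sign_rigid : ∀ (μ : Fin 3 → Fin 3) (x y : Bool),
    (∀ i, decide (μ i ≠ 0) = xor (decide (i ≠ 0)) x ∧ decide (μ i ≠ 1) = xor (decide (i ≠ 1)) y) →
      (∀ i, μ i = i) ∧ x = false ∧ y = false := by decide

namespace MData

variable {T : Sys F A B V (RingHom.id F)} {H : Subgroup (V ≃ₗ[F] V)}
variable [Finite F] [FiniteDimensional F A] [FiniteDimensional F B] [FiniteDimensional F V]

theorem kron_mul (D : MData T H) {g g' : V ≃ₗ[F] V} (h : IsKron T g) (h' : IsKron T g') :
    IsKron T (g * g' : V ≃ₗ[F] V) := by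
  obtain ⟨M, f, hf⟩ := h
  obtain ⟨M', f', hf'⟩ := h'
  exact ⟨M ∘ₗ M', f ∘ₗ f', fun a b => by simp [LinearEquiv.mul_apply, hf, hf']⟩

theorem kron_inv (D : MData T H) {g : V ≃ₗ[F] V} (h : IsKron T g) : IsKron T (g⁻¹ : V ≃ₗ[F] V) := by
  haveI : Finite V := Module.finite_of_finite F
  haveI : Finite (V ≃ₗ[F] V) := Finite.of_injective _ DFunLike.coe_injective
  have hpow : ∀ n : ℕ, IsKron T (g ^ n : V ≃ₗ[F] V) := by
    intro n
    induction n with
    | zero => exact ⟨LinearMap.id, LinearMap.id, fun a b => rfl⟩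
    | succ n ih => rw [pow_succ]; exact D.kron_mul ih h
  have h1 : g⁻¹ = g ^ (orderOf g - 1) := by
    refine inv_eq_of_mul_eq_one_right ?_
    rw [← pow_succ', Nat.sub_add_cancel (orderOf_pos g), pow_orderOf_eq_one]
  rw [h1]
  exact hpow _

/-- the reflection-type involutions of the axes -/
theorem axis_elt (D : MData T H) {a : Fin 3 → A} (ha : IsFr T.fA a) (m : Fin 3) :
    ∃ s ∈ H, s * s = 1 ∧ (∀ i b, s (T.tau (a i) b) = T.tau (sgn F (decide (i ≠ m)) • a i) b) ∧
      IsKron T s ∧ ∀ l : Fin 4 → B, Diag T a l (fun i _ => decide (i ≠ m)) s := by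
  obtain ⟨s, hs, hsab⟩ := D.sigma a ha m
  obtain ⟨l₀, hl₀⟩ := D.symB.exists_fr D.dimB
  let bA := Basis.mk ha.linearIndependent (ha.span_eq_top D.dimA).ge
  let α : A →ₗ[F] A := bA.constr F fun i => sgn F (decide (i ≠ m)) • a i
  refine ⟨s, hs, LinearEquiv.toLinearMap_injective (D.ext_fr ha hl₀ fun i k => ?_), hsab,
    ⟨α, LinearMap.id, fun x b => ?_⟩, fun l i k => by rw [hsab]; simp⟩
  · show s (s _) = T.tau (a i) (l₀ k)
    rw [hsab, map_smul, LinearMap.smul_apply, map_smul, hsab, map_smul, LinearMap.smul_apply, smul_smul,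
      sgn_self, one_smul]
  · have hα : ∀ i, α (a i) = sgn F (decide (i ≠ m)) • a i := fun i => by
      have hbi : bA i = a i := Basis.mk_apply _ _ i
      exact (congrArg α hbi.symm).trans (bA.constr_basis F (fun i => sgn F (decide (i ≠ m)) • a i) i)
    exact LinearMap.congr_fun (LinearMap.ext_on_range (ha.span_eq_top D.dimA)
      (f := (s : V →ₗ[F] V) ∘ₗ T.tau.flip b) (g := T.tau.flip b ∘ₗ α) fun i => by
        show s (T.tau (a i) b) = T.tau (α (a i)) b
        rw [hsab, hα]) x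

/-- an element conjugating an axis involution to a pure element is pure -/
theorem kron_of_conj (D : MData T H) (hno : NoFrame T H) {a : Fin 3 → A} (ha : IsFr T.fA a) {m : Fin 3}
    {s : V ≃ₗ[F] V} (hs : s ∈ H) (hs2 : s * s = 1) (hsd : ∀ l : Fin 4 → B, Diag T a l (fun i _ => decide (i ≠ m)) s)
    {g : V ≃ₗ[F] V} (hg : g ∈ H) (hk : IsKron T (g * s * g⁻¹ : V ≃ₗ[F] V)) : IsKron T g := by
  obtain ⟨l, hl⟩ := D.symB.exists_fr D.dimB
  have hd' : g * s * g⁻¹ ∈ H := mul_mem (mul_mem hg hs) (inv_mem hg)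
  obtain ⟨a', l', ε, δ, ha', hl', hdiag⟩ := D.pure_invol hd' hk (by
    rw [show g * s * g⁻¹ * (g * s * g⁻¹) = g * (s * s) * g⁻¹ by group, hs2, mul_one, mul_inv_cancel])
  have h : g * s = g * s * g⁻¹ * g := by group
  have hcard := D.card_class_eq hs hd' h ha hl ha' hl' (hsd l) hdiag
  rw [axis_card m] at hcard
  obtain ⟨m', hm'⟩ := sign_axis ε δ hcard.symm
  refine D.kron_of_slices hno hg ha hl ha' hl' (m := m) (m' := m') fun k i' k' hi' => ?_
  exact D.map_class hd' h (hsd l) hdiag (by simp [hm', hi'])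

/-- centralisers of non-scalar involutions of the first factor are pure -/
theorem kron_of_commA (D : MData T H) (hno : NoFrame T H) {a : Fin 3 → A} {l : Fin 4 → B}
    (ha : IsFr T.fA a) (hl : IsFr T.fB l) {ε : Fin 3 → Bool} (hε : ∃ i j, ε i ≠ ε j) {d g : V ≃ₗ[F] V}
    (hd : d ∈ H) (hdd : Diag T a l (fun i _ => ε i) d) (hg : g ∈ H) (hc : g * d = d * g) : IsKron T g := by
  obtain ⟨m, hm⟩ := sign_nonconst ε hε
  exact D.kron_of_slices hno hg ha hl ha hl (m := m) (m' := m) fun k i' k' hi' =>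
    D.map_class hd hc hdd hdd (hm i' hi')

/-- Burnside: a group of elements whose pure members act by signs is pure -/
theorem kron_of_signs (D : MData T H) (hno : NoFrame T H) {K : Subgroup (V ≃ₗ[F] V)} (hKH : K ≤ H)
    {a : Fin 3 → A} {l : Fin 4 → B} (ha : IsFr T.fA a) (hl : IsFr T.fB l)
    (hsK : ∀ (m : Fin 3) (s : V ≃ₗ[F] V), s ∈ H → Diag T a l (fun i _ => decide (i ≠ m)) s → s ∈ K)
    (hsigns : ∀ n ∈ K, IsKron T n → ∀ i k, n (T.tau (a i) (l k)) = T.tau (a i) (l k) ∨
      n (T.tau (a i) (l k)) = -T.tau (a i) (l k)) :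
    ∀ g ∈ K, IsKron T g := by
  classical
  haveI : Finite V := Module.finite_of_finite F
  haveI : Finite (V ≃ₗ[F] V) := Finite.of_injective _ DFunLike.coe_injective
  haveI : Fact (Nat.Prime 2) := ⟨Nat.prime_two⟩
  choose s hsH hs2 hsab hsk hsd using fun m : Fin 3 => D.axis_elt ha m
  have hsm : ∀ m, s m ∈ K := fun m => hsK m _ (hsH m) (hsd m l)
  let S : Subgroup K :=
    { carrier := {n | IsKron T (n.1 : V ≃ₗ[F] V)}
      one_mem' := ⟨LinearMap.id, LinearMap.id, fun a b => rfl⟩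
      mul_mem' := fun h h' => D.kron_mul h h'
      inv_mem' := fun h => D.kron_inv h }
  have hDiag : ∀ n ∈ S, ∃ σ : Fin 3 → Fin 4 → Bool, Diag T a l σ (n.1 : V ≃ₗ[F] V) := by
    intro n hn
    refine ⟨fun i k => if (n.1 : V ≃ₗ[F] V) (T.tau (a i) (l k)) = T.tau (a i) (l k) then false else true,
      fun i k => ?_⟩
    show _ = sgn F (if _ then false else true) • _
    split
    · rename_i h; rw [h]; simp [sgn]
    · rename_i h; rw [(hsigns n.1 n.2 hn i k).resolve_left h]; simp [sgn]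
  have hScomm : ∀ x ∈ S, ∀ y ∈ S, x * y = y * x := fun x hx y hy => by
    obtain ⟨σ, hσ⟩ := hDiag x hx
    obtain ⟨τ', hτ⟩ := hDiag y hy
    exact Subtype.ext (D.diag_mul_comm ha hl hσ hτ)
  have hS2 : IsPGroup 2 S := fun x => ⟨1, by
    obtain ⟨σ, hσ⟩ := hDiag x x.2
    refine Subtype.ext (Subtype.ext (LinearEquiv.toLinearMap_injective (D.ext_fr ha hl fun i k => ?_)))
    rw [pow_one, pow_two]
    show (x.1.1) ((x.1.1) _) = T.tau (a i) (l k)
    rw [hσ, map_smul, hσ, smul_smul, sgn_self, one_smul]⟩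
  have hnorm : Subgroup.normalizer (S : Set K) ≤ S := fun g hg => by
    have h1 : g * ⟨s 0, hsm 0⟩ * g⁻¹ ∈ S :=
      (Subgroup.mem_normalizer_iff.1 hg ⟨s 0, hsm 0⟩).1 (hsk 0)
    exact D.kron_of_conj hno ha (hsH 0) (hs2 0) (hsd 0) (hKH g.2) h1
  obtain ⟨P, hP⟩ := CfsgLib.Recog.sylow_of_self_normalizing hS2 hnorm
  have hPc : Subgroup.normalizer ((P : Subgroup K) : Set K) ≤ Subgroup.centralizer ((P : Subgroup K) : Set K) := by
    rw [hP]
    exact fun g hg => Subgroup.mem_centralizer_iff.2 fun y hy => hScomm y hy g (hnorm hg)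
  set O := (MonoidHom.transferSylow P hPc).ker with hOdef
  have hcompl : O.IsComplement' (P : Subgroup K) := MonoidHom.ker_transferSylow_isComplement' P hPc
  rw [hP] at hcompl
  have hOcard : ¬ 2 ∣ Nat.card O := MonoidHom.not_dvd_card_ker_transferSylow P hPc
  let e : Fin 3 → K := fun m => ⟨s m, hsm m⟩
  have heS : ∀ m, e m ∈ S := fun m => hsk m
  let E : Subgroup K := Subgroup.closure {e 0, e 1}
  have hES : E ≤ S := (Subgroup.closure_le _).2 (by
    rintro x (rfl | rfl) <;> exact heS _)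
  have he01 : e 0 * e 1 = e 2 := Subtype.ext (LinearEquiv.toLinearMap_injective (D.ext_fr ha hl fun i k => by
    show s 0 (s 1 _) = s 2 _
    rw [hsd 1 l i k, map_smul, hsd 0 l i k, hsd 2 l i k, smul_smul, sgn_mul]
    congr 2
    exact (show ∀ i : Fin 3, xor (decide (i ≠ 1)) (decide (i ≠ 0)) = decide (i ≠ 2) by decide) i))
  have he2 : ∀ m, e m * e m = 1 := fun m => Subtype.ext (hs2 m)
  have hEel : ∀ x ∈ E, x = 1 ∨ ∃ m, x = e m := by
    intro x hx
    induction hx using Subgroup.closure_induction with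
    | mem x hx => rcases hx with rfl | rfl <;> exact Or.inr ⟨_, rfl⟩
    | one => exact Or.inl rfl
    | mul x y _ _ hx hy =>
        rcases hx with rfl | ⟨m, rfl⟩
        · rw [one_mul]; exact hy
        rcases hy with rfl | ⟨m', rfl⟩
        · rw [mul_one]; exact Or.inr ⟨m, rfl⟩
        have h20 : e 2 * e 0 = e 1 := by
          rw [← he01, hScomm _ (mul_mem (heS 0) (heS 1)) _ (heS 0), ← mul_assoc, he2, one_mul]
        have h21 : e 2 * e 1 = e 0 := by rw [← he01, mul_assoc, he2, mul_one]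
        have hc := fun i j => hScomm _ (heS i) _ (heS j)
        fin_cases m <;> fin_cases m'
        · exact Or.inl (he2 0)
        · exact Or.inr ⟨2, he01⟩
        · exact Or.inr ⟨1, (hc 0 2).trans h20⟩
        · exact Or.inr ⟨2, (hc 1 0).trans he01⟩
        · exact Or.inl (he2 1)
        · exact Or.inr ⟨0, (hc 1 2).trans h21⟩
        · exact Or.inr ⟨1, h20⟩
        · exact Or.inr ⟨0, h21⟩
        · exact Or.inl (he2 2)
    | inv x _ hx =>
        rcases hx with rfl | ⟨m, rfl⟩
        · exact Or.inl inv_one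
        · exact Or.inr ⟨m, inv_eq_of_mul_eq_one_right (he2 m)⟩
  have hne : ∀ i j : Fin 3, i ≠ j → e i ≠ e j := fun i j hij h => by
    have h1 := LinearEquiv.congr_fun (congrArg Subtype.val h) (T.tau (a i) (l 0))
    change s i _ = s j _ at h1
    rw [hsd i l i 0, hsd j l i 0] at h1
    have h2 := congrArg (fun x => T.form x (T.tau (a i) (l 0))) h1
    simp only [map_smul, LinearMap.smul_apply, smul_eq_mul] at h2
    have h3 := sgn_inj D.symA.two (mul_right_cancel₀ ((D.pb_form ha hl).2 (i, 0)) h2)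
    simp [hij] at h3
  have hne1 : ∀ i : Fin 3, e i ≠ 1 := fun i h => by
    have h1 := LinearEquiv.congr_fun (congrArg Subtype.val h) (T.tau (a (i + 1)) (l 0))
    change s i _ = T.tau (a (i + 1)) (l 0) at h1
    rw [hsd i l (i + 1) 0] at h1
    have h2 := congrArg (fun x => T.form x (T.tau (a (i + 1)) (l 0))) h1
    simp only [map_smul, LinearMap.smul_apply, smul_eq_mul] at h2
    have h3 : sgn F (decide (i + 1 ≠ i)) = sgn F false :=
      mul_right_cancel₀ ((D.pb_form ha hl).2 (i + 1, 0)) (h2.trans (by simp [sgn, pb]))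
    have h4 := sgn_inj D.symA.two h3
    fin_cases i <;> simp at h4
  have hEnc : ¬ IsCyclic E := fun hc => by
    obtain ⟨g, hg⟩ := hc.exists_generator
    have hg2 : g ^ 2 = 1 := by
      rcases hEel g g.2 with h | ⟨m, h⟩ <;> apply Subtype.ext <;>
        rw [SubmonoidClass.coe_pow, h, OneMemClass.coe_one]
      · exact one_pow 2
      · rw [pow_two]; exact he2 m
    have hle : Nat.card E ≤ 2 := by
      rw [← orderOf_eq_card_of_forall_mem_zpowers hg]
      exact orderOf_le_of_pow_eq_one (by norm_num) hg2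
    have h3 : Nat.card (Fin 3) ≤ Nat.card E := Nat.card_le_card_of_injective
      (![⟨e 0, Subgroup.subset_closure (Set.mem_insert _ _)⟩,
        ⟨e 1, Subgroup.subset_closure (Set.mem_insert_of_mem _ rfl)⟩, 1] : Fin 3 → E) (by
      intro i j hij
      have hij' := congrArg Subtype.val hij
      fin_cases i <;> fin_cases j <;> first | rfl | skip
      · exact absurd hij' (hne 0 1 (by decide))
      · exact absurd hij' (hne1 0)
      · exact absurd hij' (hne 1 0 (by decide))
      · exact absurd hij' (hne1 1)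
      · exact absurd hij'.symm (hne1 0)
      · exact absurd hij'.symm (hne1 1))
    rw [Nat.card_fin] at h3
    omega
  have hEab : IsMulCommutative E :=
    ⟨⟨fun x y => Subtype.ext (hScomm _ (hES x.2) _ (hES y.2))⟩⟩
  have hEn : E ≤ Subgroup.normalizer (O : Set K) := by
    rw [Subgroup.normalizer_eq_top_iff.2 (by rw [hOdef]; infer_instance)]; exact le_top
  have hcop : (Nat.card E).Coprime (Nat.card O) := by
    obtain ⟨n, hn⟩ := IsPGroup.iff_card.1 (hS2.to_le hES)
    rw [hn]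
    exact (Nat.prime_two.coprime_iff_not_dvd.2 hOcard).pow_left n
  have hO : O = ⊥ := by
    rw [← CfsgLib.Coprime.iSup_centralizer_eq hEab hEnc hEn hcop, eq_bot_iff]
    refine iSup_le ?_
    rintro ⟨u, hu, hu1⟩ g ⟨hgO, hgu⟩
    obtain ⟨m, rfl⟩ := (hEel u hu).resolve_left hu1
    have hcomm : g.1 * s m = s m * g.1 :=
      congrArg Subtype.val (Subgroup.mem_centralizer_singleton_iff.1 hgu)
    have hgS : g ∈ S := D.kron_of_commA hno ha hl (ε := fun i => decide (i ≠ m))
      ⟨m, m + 1, by fin_cases m <;> decide⟩ (hsH m) (hsd m l) (hKH g.2) hcomm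
    exact hcompl.disjoint.le_bot ⟨hgO, hgS⟩
  intro g hg
  have htop := hcompl.sup_eq_top
  rw [hO, bot_sup_eq] at htop
  have : (⟨g, hg⟩ : K) ∈ S := by rw [htop]; trivial
  exact this

/-- an element preserving the four blocks `A ⊗ l k` is pure -/
theorem kron_of_blocks (D : MData T H) (hno : NoFrame T H) {l : Fin 4 → B} (hl : IsFr T.fB l)
    {g : V ≃ₗ[F] V} (hg : g ∈ H) (hblock : ∀ k a, ∃ a', g (T.tau a (l k)) = T.tau a' (l k)) :
    IsKron T g := by
  classical
  haveI : Finite V := Module.finite_of_finite F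
  haveI : Finite (V ≃ₗ[F] V) := Finite.of_injective _ DFunLike.coe_injective
  obtain ⟨a₀, ha₀⟩ := D.symA.exists_fr D.dimA
  choose g0 hg0 using fun a => hblock 0 a
  set a : Fin 3 → A := fun i => g0 (a₀ i) with hadef
  have hform : ∀ x y, T.fA (g0 x) (g0 y) = T.fA x y := fun x y => by
    have h := D.isom g hg (T.tau x (l 0)) (T.tau y (l 0))
    rw [hg0, hg0, D.form_tau, D.form_tau] at h
    exact mul_right_cancel₀ (hl.aniso 0) h
  have ha : IsFr T.fA a :=
    ⟨fun i j hij => by rw [hform]; exact ha₀.orth i j hij, fun i => by rw [hform]; exact ha₀.aniso i⟩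
  let P : (V ≃ₗ[F] V) → Prop := fun n => (∀ k x, ∃ x', n (T.tau x (l k)) = T.tau x' (l k)) ∧
    ∀ i, ∃ c : F, n (T.tau (a i) (l 0)) = c • T.tau (a i) (l 0)
  have P1 : P 1 := ⟨fun k x => ⟨x, rfl⟩, fun i => ⟨1, by rw [one_smul]; rfl⟩⟩
  have Pmul : ∀ n n', P n → P n' → P (n * n') := fun n n' h h' => ⟨fun k x => by
      obtain ⟨x', hx'⟩ := h'.1 k x
      obtain ⟨x'', hx''⟩ := h.1 k x'
      exact ⟨x'', by rw [LinearEquiv.mul_apply, hx', hx'']⟩,
    fun i => by
      obtain ⟨c, hc⟩ := h'.2 i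
      obtain ⟨c', hc'⟩ := h.2 i
      exact ⟨c * c', by rw [LinearEquiv.mul_apply, hc, map_smul, hc', smul_smul]⟩⟩
  let K : Subgroup (V ≃ₗ[F] V) :=
    { carrier := {n | n ∈ H ∧ P n}
      one_mem' := ⟨one_mem _, P1⟩
      mul_mem' := fun {n n'} h h' => ⟨mul_mem h.1 h'.1, Pmul n n' h.2 h'.2⟩
      inv_mem' := fun {n} h => ⟨inv_mem h.1, by
        have h1 : n⁻¹ = n ^ (orderOf n - 1) := by
          refine inv_eq_of_mul_eq_one_right ?_
          rw [← pow_succ', Nat.sub_add_cancel (orderOf_pos n), pow_orderOf_eq_one]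
        rw [h1]
        generalize orderOf n - 1 = j
        induction j with
        | zero => exact P1
        | succ j ih => rw [pow_succ]; exact Pmul _ _ ih h.2⟩ }
  have hdiagK : ∀ (S : Fin 3 → Fin 4 → Bool) (n : V ≃ₗ[F] V), n ∈ H → Diag T a l S n → n ∈ K := by
    intro S n hn hd
    refine ⟨hn, fun k x => ?_, fun i => ⟨_, hd i 0⟩⟩
    have hx : x ∈ Submodule.span F (Set.range a) := by rw [ha.span_eq_top D.dimA]; trivial
    induction hx using Submodule.span_induction with
    | mem x hx =>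
        obtain ⟨i, rfl⟩ := hx
        exact ⟨sgn F (S i k) • a i, by rw [hd i k, map_smul, LinearMap.smul_apply]⟩
    | zero => exact ⟨0, by simp⟩
    | add p q _ _ hp hq =>
        obtain ⟨p', hp'⟩ := hp
        obtain ⟨q', hq'⟩ := hq
        exact ⟨p' + q', by simp [hp', hq']⟩
    | smul c p _ hp =>
        obtain ⟨p', hp'⟩ := hp
        exact ⟨c • p', by simp [hp']⟩
  have hsigns : ∀ n ∈ K, IsKron T n → ∀ i k, n (T.tau (a i) (l k)) = T.tau (a i) (l k) ∨
      n (T.tau (a i) (l k)) = -T.tau (a i) (l k) := by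
    rintro n ⟨hn, hblk, hdiag⟩ ⟨M, f, hf⟩ i k
    have hall : ∀ i, ∃ c : F, n (T.tau (a i) (l k)) = c • T.tau (a i) (l k) := by
      intro i
      obtain ⟨c, hc⟩ := hdiag i
      obtain ⟨x', hx'⟩ := hblk k (a i)
      have hc0 : c ≠ 0 := fun h0 => by
        rw [h0, zero_smul, LinearEquiv.map_eq_zero_iff] at hc
        exact (D.pb_form ha hl).2 (i, 0) (by simp [pb, hc])
      rw [hf] at hc
      have hf0 : T.fB (f (l 0)) (l 0) • M (a i) = (c * T.fB (l 0) (l 0)) • a i := by
        have := congrArg (T.C (l 0)) hc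
        rwa [D.C_tau, map_smul, D.C_tau, smul_smul] at this
      have hne : T.fB (f (l 0)) (l 0) ≠ 0 := fun h0 => by
        rw [h0, zero_smul, eq_comm, smul_eq_zero] at hf0
        exact (mul_ne_zero hc0 (hl.aniso 0)) (hf0.resolve_right fun h => ha.aniso i (by simp [h]))
      set κ := (T.fB (f (l 0)) (l 0))⁻¹ * (c * T.fB (l 0) (l 0))
      have hM : M (a i) = κ • a i := by
        rw [← smul_smul, ← hf0, inv_smul_smul₀ hne]
      refine ⟨κ * (T.fB (f (l k)) (l k) / T.fB (l k) (l k)), ?_⟩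
      have h1 := hx'
      rw [hf] at h1
      have h2 := congrArg (T.C (l k)) h1
      rw [D.C_tau, D.C_tau, hM, smul_smul] at h2
      have hx : x' = (T.fB (f (l k)) (l k) * κ / T.fB (l k) (l k)) • a i := by
        rw [div_eq_inv_mul, ← smul_smul, h2, inv_smul_smul₀ (hl.aniso k)]
      rw [hx', hx, map_smul, LinearMap.smul_apply]
      congr 1
      ring
    obtain ⟨c, hc⟩ := hall i
    have h := D.isom n hn (T.tau (a i) (l k)) (T.tau (a i) (l k))
    rw [hc] at h
    simp only [map_smul, LinearMap.smul_apply, smul_eq_mul] at h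
    rw [← mul_assoc] at h
    rcases mul_self_eq_one_iff.1 (mul_right_cancel₀ ((D.pb_form ha hl).2 (i, k))
      (h.trans (one_mul _).symm)) with rfl | rfl
    · exact Or.inl (by rw [hc, one_smul])
    · exact Or.inr (by rw [hc, neg_one_smul])
  have hpure := D.kron_of_signs hno (K := K) (fun n h => h.1) ha hl
    (fun m s hs hd => hdiagK _ s hs hd) hsigns
  obtain ⟨s, hs, hs2, hsab, hsk, hsd⟩ := D.axis_elt ha₀ 0
  refine D.kron_of_conj hno ha₀ hs hs2 hsd hg (hpure _ ⟨mul_mem (mul_mem hg hs) (inv_mem hg), ?_, fun i => ?_⟩)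
  · intro k x
    haveI : Finite A := Module.finite_of_finite F
    choose gk hgk using hblock k
    have hl0 : l k ≠ 0 := fun h => hl.aniso k (by simp [h])
    have hinj : Function.Injective gk := fun p q h => D.tau_left_inj hl0 (g.injective (by rw [hgk, hgk, h]))
    obtain ⟨y, rfl⟩ := (Finite.injective_iff_surjective.1 hinj) x
    obtain ⟨M, f, hf⟩ := hsk
    have hsy : ∃ y', s (T.tau y (l k)) = T.tau y' (l k) := by
      have hy : y ∈ Submodule.span F (Set.range a₀) := by rw [ha₀.span_eq_top D.dimA]; trivial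
      induction hy using Submodule.span_induction with
      | mem y hy => obtain ⟨i, rfl⟩ := hy; exact ⟨_, hsab i (l k)⟩
      | zero => exact ⟨0, by simp⟩
      | add p q _ _ hp hq =>
          obtain ⟨p', hp'⟩ := hp
          obtain ⟨q', hq'⟩ := hq
          exact ⟨p' + q', by simp [hp', hq']⟩
      | smul c p _ hp =>
          obtain ⟨p', hp'⟩ := hp
          exact ⟨c • p', by simp [hp']⟩
    obtain ⟨y', hy'⟩ := hsy
    refine ⟨gk y', ?_⟩
    show g (s (g⁻¹ _)) = _
    rw [← hgk, inv_ap, hy', hgk]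
  · refine ⟨sgn F (decide (i ≠ 0)), ?_⟩
    show g (s (g⁻¹ (T.tau (g0 (a₀ i)) (l 0)))) = _
    rw [← hg0, inv_ap, hsab, map_smul, LinearMap.smul_apply, map_smul]

/-- the centraliser of two commuting pure involutions of full type is pure -/
theorem kron_of_joint (D : MData T H) (hno : NoFrame T H) {a : Fin 3 → A} {l : Fin 4 → B}
    (ha : IsFr T.fA a) (hl : IsFr T.fB l) {δ₀ δ₁ : Fin 4 → Bool}
    (hinj : ∀ k k', δ₀ k = δ₀ k' → δ₁ k = δ₁ k' → k = k') {j₀ j₁ : V ≃ₗ[F] V} (hj₀ : j₀ ∈ H) (hj₁ : j₁ ∈ H)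
    (h₀ : Diag T a l (fun i k => xor (decide (i ≠ 0)) (δ₀ k)) j₀)
    (h₁ : Diag T a l (fun i k => xor (decide (i ≠ 1)) (δ₁ k)) j₁) {g : V ≃ₗ[F] V} (hg : g ∈ H)
    (hc₀ : g * j₀ = j₀ * g) (hc₁ : g * j₁ = j₁ * g) : IsKron T g := by
  classical
  let K : Subgroup (V ≃ₗ[F] V) :=
    { carrier := {n | n ∈ H ∧ n * j₀ = j₀ * n ∧ n * j₁ = j₁ * n}
      one_mem' := ⟨one_mem _, by rw [one_mul, mul_one], by rw [one_mul, mul_one]⟩
      mul_mem' := fun {n n'} h h' => ⟨mul_mem h.1 h'.1,
        (Commute.mul_left (show Commute n j₀ from h.2.1) (show Commute n' j₀ from h'.2.1)).eq,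
        (Commute.mul_left (show Commute n j₁ from h.2.2) (show Commute n' j₁ from h'.2.2)).eq⟩
      inv_mem' := fun {n} h => ⟨inv_mem h.1, (show Commute n j₀ from h.2.1).inv_left.eq,
        (show Commute n j₁ from h.2.2).inv_left.eq⟩ }
  refine D.kron_of_signs hno (K := K) (fun n h => h.1) ha hl
    (fun m s hs hd => ⟨hs, D.diag_mul_comm ha hl hd h₀, D.diag_mul_comm ha hl hd h₁⟩) ?_ g ⟨hg, hc₀, hc₁⟩
  rintro n ⟨hn, hn₀, hn₁⟩ ⟨M, f, hf⟩
  have key : ∀ i k i' k', T.fA (M (a i)) (a i') ≠ 0 → T.fB (f (l k)) (l k') ≠ 0 →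
      xor (decide (i' ≠ 0)) (δ₀ k') = xor (decide (i ≠ 0)) (δ₀ k) ∧
      xor (decide (i' ≠ 1)) (δ₁ k') = xor (decide (i ≠ 1)) (δ₁ k) := by
    intro i k i' k' hA hB
    constructor <;> by_contra hne
    · have h := D.map_class hj₀ hn₀ h₀ h₀ (i := i) (k := k) (i' := i') (k' := k') hne
      rw [hf, D.form_tau] at h
      exact mul_ne_zero hA hB h
    · have h := D.map_class hj₁ hn₁ h₁ h₁ (i := i) (k := k) (i' := i') (k' := k') hne
      rw [hf, D.form_tau] at h
      exact mul_ne_zero hA hB h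
  have hMne : ∀ i, ∃ i', T.fA (M (a i)) (a i') ≠ 0 := fun i => by
    by_contra hh
    push Not at hh
    have h0 : M (a i) = 0 := D.symA.nondeg _ fun y => by
      have hy : y ∈ Submodule.span F (Set.range a) := by rw [ha.span_eq_top D.dimA]; trivial
      induction hy using Submodule.span_induction with
      | mem y hy => obtain ⟨j, rfl⟩ := hy; exact hh j
      | zero => simp
      | add p q _ _ hp hq => rw [map_add, hp, hq, add_zero]
      | smul c p _ hp => rw [map_smul, hp, smul_zero]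
    have := hf (a i) (l 0)
    rw [h0, map_zero, LinearMap.zero_apply, LinearEquiv.map_eq_zero_iff] at this
    exact (D.pb_form ha hl).2 (i, 0) (by simp [pb, this])
  have hfne : ∀ k, ∃ k', T.fB (f (l k)) (l k') ≠ 0 := fun k => by
    by_contra hh
    push Not at hh
    have h0 : f (l k) = 0 := D.symB.nondeg _ fun y => by
      have hy : y ∈ Submodule.span F (Set.range l) := by rw [hl.span_eq_top D.dimB]; trivial
      induction hy using Submodule.span_induction with
      | mem y hy => obtain ⟨j, rfl⟩ := hy; exact hh j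
      | zero => simp
      | add p q _ _ hp hq => rw [map_add, hp, hq, add_zero]
      | smul c p _ hp => rw [map_smul, hp, smul_zero]
    have := hf (a 0) (l k)
    rw [h0, map_zero, LinearEquiv.map_eq_zero_iff] at this
    exact (D.pb_form ha hl).2 (0, k) (by simp [pb, this])
  choose μ hμ using hMne
  choose ν hν using hfne
  have hxor : ∀ p q x y : Bool, xor p x = xor q y → p = xor q (xor x y) := by decide
  have hrig := sign_rigid μ (xor (δ₀ (ν 0)) (δ₀ 0)) (xor (δ₁ (ν 0)) (δ₁ 0)) fun i =>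
    ⟨hxor _ _ _ _ (key i 0 (μ i) (ν 0) (hμ i) (hν 0)).1, hxor _ _ _ _ (key i 0 (μ i) (ν 0) (hμ i) (hν 0)).2⟩
  have hB1 : ∀ k k', T.fB (f (l k)) (l k') ≠ 0 → k' = k := by
    intro k k' hk'
    have h := key 0 k (μ 0) k' (hμ 0) hk'
    rw [hrig.1 0] at h
    exact hinj _ _ (Bool.xor_right_inj.1 h.1) (Bool.xor_right_inj.1 h.2)
  have hA1 : ∀ i i', T.fA (M (a i)) (a i') ≠ 0 → i' = i := by
    intro i i' hi'
    have h := key i 0 i' (ν 0) hi' (hν 0)
    rw [hB1 0 (ν 0) (hν 0)] at h
    have h3 : ∀ i i' : Fin 3, decide (i' ≠ 0) = decide (i ≠ 0) → decide (i' ≠ 1) = decide (i ≠ 1) → i' = i := by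
      decide
    exact h3 i i' (Bool.xor_left_inj.1 h.1) (Bool.xor_left_inj.1 h.2)
  intro i k
  have hexp := D.pb_expand ha hl (n (T.tau (a i) (l k)))
  rw [Finset.sum_eq_single (i, k) (fun p _ hp => by
    have hz : T.form (n (T.tau (a i) (l k))) (pb T a l p) = 0 := by
      rw [pb, hf, D.form_tau]
      rcases eq_or_ne p.1 i with h1 | h1
      · refine mul_eq_zero_of_right _ ?_
        by_contra hB
        exact hp (Prod.ext h1 (hB1 k p.2 hB))
      · refine mul_eq_zero_of_left ?_ _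
        by_contra hA
        exact h1 (hA1 i p.1 hA)
    rw [hz, zero_div, zero_smul]) (by simp)] at hexp
  set c := T.form (n (T.tau (a i) (l k))) (pb T a l (i, k)) / T.form (pb T a l (i, k)) (pb T a l (i, k))
  have h := D.isom n hn (T.tau (a i) (l k)) (T.tau (a i) (l k))
  rw [hexp] at h
  simp only [map_smul, LinearMap.smul_apply, smul_eq_mul] at h
  rw [← mul_assoc] at h
  rcases mul_self_eq_one_iff.1 (mul_right_cancel₀ ((D.pb_form ha hl).2 (i, k))
    (h.trans (one_mul _).symm)) with h' | h'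
  · exact Or.inl (by rw [hexp, h', one_smul]; rfl)
  · exact Or.inr (by rw [hexp, h', neg_one_smul]; rfl)

/-- the step: purity of the centraliser of an involution `1 ⊗ δ` in `K` gives purity of `K` -/
theorem kron_step (D : MData T H) (hno : NoFrame T H) {K : Subgroup (V ≃ₗ[F] V)} (hKH : K ≤ H)
    (hsK : ∀ (a : Fin 3 → A), IsFr T.fA a → ∀ (m : Fin 3) (s : V ≃ₗ[F] V), s ∈ H →
      (∀ i b, s (T.tau (a i) b) = T.tau (sgn F (decide (i ≠ m)) • a i) b) → s ∈ K)
    {l : Fin 4 → B} (hl : IsFr T.fB l) {δ : Fin 4 → Bool}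
    (hδ : (Finset.univ.filter fun p : Fin 3 × Fin 4 => δ p.2 = false).card = 6) {y : V ≃ₗ[F] V}
    (hy : y ∈ K) (hyd : ∀ a k, y (T.tau a (l k)) = T.tau a (sgn F (δ k) • l k))
    (hcent : ∀ g ∈ K, g * y = y * g → IsKron T g) :
    ∀ g ∈ K, IsKron T g := by
  classical
  haveI : Finite V := Module.finite_of_finite F
  haveI : Finite (V ≃ₗ[F] V) := Finite.of_injective _ DFunLike.coe_injective
  intro g hg
  obtain ⟨a, ha⟩ := D.symA.exists_fr D.dimA
  have hydiag : ∀ a' : Fin 3 → A, Diag T a' l (fun _ k => δ k) y := fun a' i k => by rw [hyd, map_smul]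
  have hy2 : y * y = 1 := LinearEquiv.toLinearMap_injective (D.ext_fr ha hl fun i k => by
    show y (y _) = T.tau (a i) (l k)
    rw [hydiag a i k, map_smul, hydiag a i k, smul_smul, sgn_self, one_smul])
  let bB := Basis.mk hl.linearIndependent (hl.span_eq_top D.dimB).ge
  let Dl : B →ₗ[F] B := bB.constr F fun k => sgn F (δ k) • l k
  have hDl : ∀ a b, y (T.tau a b) = T.tau a (Dl b) := fun a b =>
    LinearMap.congr_fun (LinearMap.ext_on_range (hl.span_eq_top D.dimB)
      (f := (y : V →ₗ[F] V) ∘ₗ T.tau a) (g := T.tau a ∘ₗ Dl) fun k => by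
        show y (T.tau a (l k)) = T.tau a (Dl (l k))
        have hbk : bB k = l k := Basis.mk_apply _ _ k
        rw [hyd, (congrArg Dl hbk.symm).trans (bB.constr_basis F (fun k => sgn F (δ k) • l k) k)]) b
  set y' := g * y * g⁻¹ with hy'def
  have hy'K : y' ∈ K := mul_mem (mul_mem hg hy) (inv_mem hg)
  have hy'2 : y' * y' = 1 := by
    rw [hy'def, show g * y * g⁻¹ * (g * y * g⁻¹) = g * (y * y) * g⁻¹ by group, hy2, mul_one, mul_inv_cancel]
  suffices hpure : IsKron T (y' : V ≃ₗ[F] V) by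
    obtain ⟨a', l', ε, δ', ha', hl', hd'⟩ := D.pure_invol (hKH hy'K) hpure hy'2
    obtain ⟨s, hs, hs2, hsab, hsk, hsd⟩ := D.axis_elt ha' 0
    have hsy : s * y' = y' * s := D.diag_mul_comm ha' hl' (hsd l') hd'
    have h1 : IsKron T (g⁻¹ * s * g : V ≃ₗ[F] V) := hcent _
      (mul_mem (mul_mem (inv_mem hg) (hsK a' ha' 0 s hs hsab)) hg) (by
        calc g⁻¹ * s * g * y = g⁻¹ * (s * y') * g := by rw [hy'def]; group
          _ = g⁻¹ * (y' * s) * g := by rw [hsy]
          _ = y * (g⁻¹ * s * g) := by rw [hy'def]; group)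
    have h2 := D.kron_of_conj hno ha' hs hs2 hsd (inv_mem (hKH hg))
      (g := g⁻¹) (by rwa [inv_inv])
    have h3 := D.kron_inv h2
    rwa [inv_inv] at h3
  by_contra hy'k
  have hA : ∀ (a' : Fin 3 → A) (l' : Fin 4 → B) (ε : Fin 3 → Bool), IsFr T.fA a' → IsFr T.fB l' →
      (∃ i j, ε i ≠ ε j) → ∀ d ∈ H, Diag T a' l' (fun i _ => ε i) d → d * y' = y' * d → False :=
    fun a' l' ε ha' hl' hε d hd hdd hc => hy'k (D.kron_of_commA hno ha' hl' hε hd hdd (hKH hy'K) hc.symm)
  have key : ∀ m : Fin 3, ∃ j ∈ H, ∃ β : B →ₗ[F] B,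
      (∀ b b', T.fB (β b) (β b') = T.fB b b') ∧ (∀ b, β (β b) = b) ∧
      (∀ i b, j (T.tau (a i) b) = T.tau (sgn F (decide (i ≠ m)) • a i) (β b)) ∧ j * y' = y' * j ∧
      (∃ s ∈ H, (∀ i b, s (T.tau (a i) b) = T.tau (sgn F (decide (i ≠ m)) • a i) b) ∧
        j ∈ Subgroup.zpowers (s * y')) ∧
      ∀ (l' : Fin 4 → B) (δ' : Fin 4 → Bool), IsFr T.fB l' → (∀ k, β (l' k) = sgn F (δ' k) • l' k) →
        (Finset.univ.filter fun p : Fin 3 × Fin 4 => δ' p.2 = false).card = 6 := by
    intro m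
    obtain ⟨s, hs, hs2, hsab, hsk, hsd⟩ := D.axis_elt ha m
    have hsm := hsK a ha m s hs hsab
    set sK : K := ⟨s, hsm⟩
    set yK : K := ⟨y', hy'K⟩
    have hnc : ¬ IsConj sK yK := fun h => by
      obtain ⟨c, hc⟩ := isConj_iff.1 h
      have hc' : c.1 * s * c.1⁻¹ = y' := congrArg Subtype.val hc
      have h1 : (g⁻¹ * c.1) * s = y * (g⁻¹ * c.1) := by
        calc g⁻¹ * c.1 * s = g⁻¹ * (c.1 * s * c.1⁻¹) * c.1 := by group
          _ = g⁻¹ * (g * y * g⁻¹) * c.1 := by rw [hc']
          _ = y * (g⁻¹ * c.1) := by group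
      have h2 := D.card_class_eq hs (hKH hy) h1 ha hl ha hl (hsd l) (hydiag a)
      rw [axis_card m, hδ] at h2
      omega
    obtain ⟨jK, hjz, hj1, hj2, hjs, hjy, hjc⟩ := exists_commuting_involution sK yK
      (Subtype.ext hs2) (Subtype.ext hy'2) hnc
    set j := jK.1 with hjdef
    have hjs' : j * s = s * j := congrArg Subtype.val hjs.eq
    have hjy' : j * y' = y' * j := congrArg Subtype.val hjy.eq
    have hjH : j ∈ H := hKH jK.2
    have hjk : IsKron T j := D.kron_of_commA hno ha hl (ε := fun i => decide (i ≠ m))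
      ⟨m, m + 1, by fin_cases m <;> decide⟩ hs (hsd l) hjH hjs'
    have hjj : j * j = 1 := congrArg Subtype.val hj2
    have hzp : j ∈ Subgroup.zpowers (s * y') := by
      obtain ⟨n, hn⟩ := Subgroup.mem_zpowers_iff.1 hjz
      exact Subgroup.mem_zpowers_iff.2 ⟨n, by rw [hjdef, ← hn]; rfl⟩
    rcases hjc with hjc | hjc
    · -- `s j` is conjugate to `s`
      exfalso
      obtain ⟨r, hr⟩ := isConj_iff.1 hjc
      have hr' : r.1 * s * r.1⁻¹ = s * j := congrArg Subtype.val hr
      obtain ⟨a', l', ε, δ', ha', hl', hd'⟩ := D.pure_invol (mul_mem hs hjH) (D.kron_mul hsk hjk) (by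
        rw [show s * j * (s * j) = s * (j * s) * j by group, hjs',
          show s * (s * j) * j = s * s * (j * j) by group, hs2, hjj, one_mul])
      have h : r.1 * s = s * j * r.1 := by rw [← hr']; group
      have hcard := D.card_class_eq hs (mul_mem hs hjH) h ha hl ha' hl' (hsd l) hd'
      rw [axis_card m] at hcard
      obtain ⟨m', hm'⟩ := sign_axis ε δ' hcard.symm
      have hsj : Diag T a' l' (fun i _ => decide (i ≠ m')) (s * j) := fun i k => by rw [hd' i k]; beta_reduce; rw [hm']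
      -- in frames common to `s` and `s j`
      have hscomm : (s * j) * s = s * (s * j) := by rw [mul_assoc, hjs']
      obtain ⟨α₁, hα₁⟩ : ∃ α : A →ₗ[F] A, ∀ x b, (s * j) (T.tau x b) = T.tau (α x) b := by
        let bA := Basis.mk ha'.linearIndependent (ha'.span_eq_top D.dimA).ge
        refine ⟨bA.constr F fun i => sgn F (decide (i ≠ m')) • a' i, fun x b => ?_⟩
        refine LinearMap.congr_fun (LinearMap.ext_on_range (ha'.span_eq_top D.dimA)
          (f := ((s * j : V ≃ₗ[F] V) : V →ₗ[F] V) ∘ₗ T.tau.flip b)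
          (g := T.tau.flip b ∘ₗ bA.constr F fun i => sgn F (decide (i ≠ m')) • a' i) fun i => ?_) x
        have hbi : bA i = a' i := Basis.mk_apply _ _ i
        show (s * j) (T.tau (a' i) b) = T.tau _ b
        rw [show (bA.constr F fun i => sgn F (decide (i ≠ m')) • a' i) (a' i) =
          sgn F (decide (i ≠ m')) • a' i from
            (congrArg _ hbi.symm).trans (bA.constr_basis F (fun i => sgn F (decide (i ≠ m')) • a' i) i)]
        exact LinearMap.congr_fun (LinearMap.ext_on_range (hl'.span_eq_top D.dimB)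
          (f := ((s * j : V ≃ₗ[F] V) : V →ₗ[F] V) ∘ₗ T.tau (a' i))
          (g := T.tau (sgn F (decide (i ≠ m')) • a' i)) fun k => by
            show (s * j) (T.tau (a' i) (l' k)) = _
            rw [hsj i k, map_smul, LinearMap.smul_apply]) b
      obtain ⟨Ms, fs, hs0⟩ := hsk
      let bA := Basis.mk ha.linearIndependent (ha.span_eq_top D.dimA).ge
      let α₀ : A →ₗ[F] A := bA.constr F fun i => sgn F (decide (i ≠ m)) • a i
      have hbi : ∀ i, bA i = a i := fun i => Basis.mk_apply _ _ i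
      have hα₀a : ∀ i, α₀ (a i) = sgn F (decide (i ≠ m)) • a i := fun i => by
        exact (congrArg α₀ (hbi i).symm).trans (bA.constr_basis F (fun i => sgn F (decide (i ≠ m)) • a i) i)
      have hα₀ : ∀ x b, s (T.tau x b) = T.tau (α₀ x) b := fun x b =>
        LinearMap.congr_fun (LinearMap.ext_on_range (ha.span_eq_top D.dimA)
          (f := (s : V →ₗ[F] V) ∘ₗ T.tau.flip b) (g := T.tau.flip b ∘ₗ α₀) fun i => by
            show s (T.tau (a i) b) = T.tau (α₀ (a i)) b
            rw [hsab, hα₀a]) x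
      have hl0 : l 0 ≠ 0 := fun h => hl.aniso 0 (by simp [h])
      have iso : ∀ (d : V ≃ₗ[F] V) (α : A →ₗ[F] A), d ∈ H → (∀ x b, d (T.tau x b) = T.tau (α x) b) →
          ∀ x x', T.fA (α x) (α x') = T.fA x x' := fun d α hd hdα x x' => by
        have h := D.isom d hd (T.tau x (l 0)) (T.tau x' (l 0))
        rw [hdα, hdα, D.form_tau, D.form_tau] at h
        exact mul_right_cancel₀ (hl.aniso 0) h
      have inv2 : ∀ (d : V ≃ₗ[F] V) (α : A →ₗ[F] A), d * d = 1 → (∀ x b, d (T.tau x b) = T.tau (α x) b) →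
          ∀ x, α (α x) = x := fun d α hd hdα x => D.tau_left_inj hl0 (by
        rw [← hdα, ← hdα]; exact LinearEquiv.congr_fun hd _)
      have hsj2 : (s * j) * (s * j) = 1 := by
        rw [show s * j * (s * j) = s * (j * s) * j by group, hjs',
          show s * (s * j) * j = s * s * (j * j) by group, hs2, hjj, one_mul]
      obtain ⟨a'', ε₀, ε₁, ha'', he⟩ := D.symA.exists_fr_eig (iso s α₀ hs hα₀) (iso (s * j) α₁ (mul_mem hs hjH) hα₁)
        (inv2 s α₀ hs2 hα₀) (inv2 (s * j) α₁ hsj2 hα₁) (fun x => D.tau_left_inj hl0 (by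
          rw [← hα₀, ← hα₁, ← hα₁, ← hα₀]; exact (LinearEquiv.congr_fun hscomm (T.tau x (l 0))).symm)) D.dimA
      have hd₀ : Diag T a'' l (fun i _ => ε₀ i) s := fun i k => by
        rw [hα₀, (he i).1, map_smul, LinearMap.smul_apply]
      have hd₁ : Diag T a'' l (fun i _ => ε₁ i) (s * j) := fun i k => by
        rw [hα₁, (he i).2, map_smul, LinearMap.smul_apply]
      have c0 := D.card_class_eq hs hs (g := 1) (by rw [one_mul, mul_one]) ha hl ha'' hl (hsd l) hd₀
      have c1 := D.card_class_eq hs (mul_mem hs hjH) h ha hl ha'' hl (hsd l) hd₁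
      rw [axis_card m] at c0 c1
      have hd : Diag T a'' l (fun i _ => xor (ε₀ i) (ε₁ i)) j := fun i k => by
        have e : j = s * (s * j) := by rw [← mul_assoc, hs2, one_mul]
        rw [e, LinearEquiv.mul_apply, hd₁ i k, map_smul, hd₀ i k, smul_smul, mul_comm, sgn_mul]
      have hcases : ∀ ε₀ ε₁ : Fin 3 → Bool,
          (Finset.univ.filter fun p : Fin 3 × Fin 4 => ε₀ p.1 = false).card = 4 →
          (Finset.univ.filter fun p : Fin 3 × Fin 4 => ε₁ p.1 = false).card = 4 →
          (∀ i, ε₀ i = ε₁ i) ∨ ∃ i j, (xor (ε₀ i) (ε₁ i)) ≠ (xor (ε₀ j) (ε₁ j)) := by decide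
      rcases hcases ε₀ ε₁ c0.symm c1.symm with he' | he'
      · refine hj1 (Subtype.ext (LinearEquiv.toLinearMap_injective (D.ext_fr ha'' hl fun i k => ?_)))
        show j (T.tau (a'' i) (l k)) = T.tau (a'' i) (l k)
        rw [hd i k]; beta_reduce; rw [he' i]
        simp [sgn]
      · exact hA a'' l _ ha'' hl he' j hjH hd hjy'
    · -- `s j` is conjugate to `y'`
      have hjc' : IsConj (⟨y, hy⟩ : K) (sK * jK) :=
        (isConj_iff.2 ⟨⟨g, hg⟩, rfl⟩ : IsConj (⟨y, hy⟩ : K) yK).trans hjc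
      obtain ⟨r, hr⟩ := isConj_iff.1 hjc'
      have hr' : r.1 * y * r.1⁻¹ = s * j := congrArg Subtype.val hr
      have hscomm : (s * j) * s = s * (s * j) := by rw [mul_assoc, hjs']
      have hpre : IsKron T (r.1⁻¹ * s * r.1 : V ≃ₗ[F] V) := hcent _
        (mul_mem (mul_mem (inv_mem r.2) hsm) r.2) (by
          calc r.1⁻¹ * s * r.1 * y = r.1⁻¹ * (s * (r.1 * y * r.1⁻¹)) * r.1 := by group
            _ = r.1⁻¹ * (s * j * s) * r.1 := by rw [hr', hscomm]
            _ = r.1⁻¹ * (r.1 * y * r.1⁻¹ * s) * r.1 := by rw [hr']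
            _ = y * (r.1⁻¹ * s * r.1) := by group)
      have hrk : IsKron T (r.1 : V ≃ₗ[F] V) := by
        have h2 := D.kron_of_conj hno ha hs hs2 hsd (inv_mem (hKH r.2)) (g := r.1⁻¹) (by rwa [inv_inv])
        have h3 := D.kron_inv h2
        rwa [inv_inv] at h3
      obtain ⟨M, f, hrab⟩ := hrk
      have hMi : Function.Injective M := (injective_iff_map_eq_zero M).2 fun x hx => by
        have h1 : r.1 (T.tau x (l 0)) = 0 := by rw [hrab, hx, map_zero, LinearMap.zero_apply]
        rw [LinearEquiv.map_eq_zero_iff] at h1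
        exact D.tau_left_inj (fun h => hl.aniso 0 (by simp [h])) (h1.trans (by simp : (0 : V) = T.tau (0 : A) (l 0)))
      have hfi : Function.Injective f := (injective_iff_map_eq_zero f).2 fun b hb => by
        have h1 : r.1 (T.tau (a 0) b) = 0 := by rw [hrab, hb, map_zero]
        rw [LinearEquiv.map_eq_zero_iff, ← map_zero (T.tau (a 0))] at h1
        exact D.tau_right_inj (fun h => ha.aniso 0 (by simp [h])) h1
      let fe : B ≃ₗ[F] B := LinearEquiv.ofInjectiveEndo f hfi
      let β : B →ₗ[F] B := f ∘ₗ Dl ∘ₗ fe.symm.toLinearMap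
      have hβ : ∀ x b, (s * j) (T.tau x b) = T.tau x (β b) := fun x b => by
        obtain ⟨x, rfl⟩ := LinearMap.injective_iff_surjective.1 hMi x
        have h1 : r.1⁻¹ (T.tau (M x) b) = T.tau x (fe.symm b) := r.1.injective (by
          rw [ap_inv, hrab]
          congr 1
          exact (fe.apply_symm_apply b).symm)
        rw [← hr']
        show r.1 (y (r.1⁻¹ _)) = _
        rw [h1, hDl, hrab]
        rfl
      have hsjH : s * j ∈ H := mul_mem hs hjH
      have hsj2 : (s * j) * (s * j) = 1 := by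
        rw [show s * j * (s * j) = s * (j * s) * j by group, hjs',
          show s * (s * j) * j = s * s * (j * j) by group, hs2, hjj, one_mul]
      refine ⟨j, hjH, β, fun b b' => ?_, fun b => D.tau_right_inj (fun h => ha.aniso 0 (by simp [h]))
        (a := a 0) ?_, fun i b => ?_, hjy', ⟨s, hs, hsab, hzp⟩, fun l' δ' hl' hδ' => ?_⟩
      · have h := D.isom _ hsjH (T.tau (a 0) b) (T.tau (a 0) b')
        rw [hβ, hβ, D.form_tau, D.form_tau] at h
        exact mul_left_cancel₀ (ha.aniso 0) h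
      · rw [← hβ, ← hβ]; exact LinearEquiv.congr_fun hsj2 _
      · have e : j = s * (s * j) := by rw [← mul_assoc, hs2, one_mul]
        rw [e, LinearEquiv.mul_apply, hβ, hsab]
      · have h : r.1 * y = s * j * r.1 := by rw [← hr']; group
        have hd' : Diag T a l' (fun _ k => δ' k) (s * j) := fun i k => by rw [hβ, hδ', map_smul]
        rw [← D.card_class_eq (hKH hy) hsjH h ha hl ha hl' (hydiag a) hd', hδ]
  obtain ⟨j₀, hj₀, β₀, hβ₀i, hβ₀2, hj₀ab, hj₀y, ⟨s₀, hs₀, hs₀ab, hz₀⟩, hcard₀⟩ := key 0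
  obtain ⟨j₁, hj₁, β₁, hβ₁i, hβ₁2, hj₁ab, hj₁y, ⟨s₁, hs₁, hs₁ab, hz₁⟩, hcard₁⟩ := key 1
  obtain ⟨l₀, hl₀⟩ := D.symB.exists_fr D.dimB
  have hjs : j₀ * s₁ = s₁ * j₀ := LinearEquiv.toLinearMap_injective (D.ext_fr ha hl₀ fun i k => by
    show j₀ (s₁ _) = s₁ (j₀ _)
    simp only [hs₁ab, hj₀ab, map_smul, LinearMap.smul_apply, smul_smul, mul_comm])
  have hjj : j₀ * j₁ = j₁ * j₀ := by
    obtain ⟨n, hn⟩ := Subgroup.mem_zpowers_iff.1 hz₁
    rw [← hn]
    exact (((show Commute j₀ s₁ from hjs).mul_right (show Commute j₀ y' from hj₀y)).zpow_right n).eq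
  have hββ : ∀ b, β₀ (β₁ b) = β₁ (β₀ b) := fun b => by
    have h := LinearEquiv.congr_fun hjj (T.tau (a 2) b)
    change j₀ (j₁ _) = j₁ (j₀ _) at h
    simp only [hj₁ab, map_smul, LinearMap.smul_apply, hj₀ab, smul_smul] at h
    rw [mul_comm] at h
    exact D.tau_right_inj (fun h0 => ha.aniso 2 (by simp [h0]))
      (smul_right_injective V (mul_ne_zero (sgn_ne_zero _) (sgn_ne_zero _)) h)
  obtain ⟨l', δ₀, δ₁, hl', he⟩ := D.symB.exists_fr_eig hβ₀i hβ₁i hβ₀2 hβ₁2 hββ D.dimB
  have h₀ : Diag T a l' (fun i k => xor (decide (i ≠ 0)) (δ₀ k)) j₀ := fun i k => by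
    rw [hj₀ab, (he k).1, map_smul, map_smul, LinearMap.smul_apply, smul_smul, mul_comm, sgn_mul]
  have h₁ : Diag T a l' (fun i k => xor (decide (i ≠ 1)) (δ₁ k)) j₁ := fun i k => by
    rw [hj₁ab, (he k).2, map_smul, map_smul, LinearMap.smul_apply, smul_smul, mul_comm, sgn_mul]
  rcases sign_pairs δ₀ δ₁ (hcard₀ l' δ₀ hl' fun k => (he k).1) (hcard₁ l' δ₁ hl' fun k => (he k).2) with
    hinj | ⟨c, hc⟩
  · exact hy'k (D.kron_of_joint hno ha hl' hinj hj₀ hj₁ h₀ h₁ (hKH hy'K) hj₀y.symm hj₁y.symm)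
  · refine hA a l' (fun i => xor (xor (decide (i ≠ 0)) (decide (i ≠ 1))) c) ha hl'
      ⟨0, 2, by cases c <;> decide⟩ (j₀ * j₁) (mul_mem hj₀ hj₁) (fun i k => ?_)
      ((show Commute j₀ y' from hj₀y).mul_left (show Commute j₁ y' from hj₁y)).eq
    rw [LinearEquiv.mul_apply, h₁ i k, map_smul, h₀ i k, smul_smul, sgn_mul]
    beta_reduce
    rw [hc k]
    congr 2
    have hb : ∀ p q u v : Bool, xor (xor q (xor u v)) (xor p u) = xor (xor p q) v := by decide
    exact hb _ _ _ _

/-- without Siegel maps at singular pencils everything is pure; `l'` is adapted to `l`: `c` gives the signs of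
`1 ⊗ diag (-1, -1, 1, 1)` of `l` on `l'` -/
theorem kron_all (D : MData T H) (hno : NoFrame T H) {l : Fin 4 → B} (hl : IsFr T.fB l)
    (hval : T.fB (l 0) (l 0) = T.fB (l 1) (l 1)) {l' : Fin 4 → B} (hl' : IsFr T.fB l')
    (hval' : T.fB (l' 0) (l' 0) = T.fB (l' 1) (l' 1)) {c : Fin 4 → Bool}
    (hc : ∀ k, ∀ t ∈ H, (∀ a i, t (T.tau a (l i)) = T.tau a (sgn F (decide (i.val < 2)) • l i)) →
      ∀ a, t (T.tau a (l' k)) = T.tau a (sgn F (c k) • l' k))
    (hinj : ∀ k k', c k = c k' → decide (k.val < 2) = decide (k'.val < 2) → k = k') :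
    ∀ g ∈ H, IsKron T g := by
  classical
  obtain ⟨a, ha⟩ := D.symA.exists_fr D.dimA
  obtain ⟨t, ht, htd⟩ := D.diagB l hl hval
  obtain ⟨x, hxH, hxd⟩ := D.diagB l' hl' hval'
  have htl' : ∀ a k, t (T.tau a (l' k)) = T.tau a (sgn F (c k) • l' k) := fun a k => hc k t ht htd a
  let K : Subgroup (V ≃ₗ[F] V) :=
    { carrier := {n | n ∈ H ∧ Commute n t}
      one_mem' := ⟨one_mem _, Commute.one_left _⟩
      mul_mem' := fun h h' => ⟨mul_mem h.1 h'.1, h.2.mul_left h'.2⟩
      inv_mem' := fun h => ⟨inv_mem h.1, h.2.inv_left⟩ }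
  have hsK : ∀ (a : Fin 3 → A), IsFr T.fA a → ∀ (m : Fin 3) (s : V ≃ₗ[F] V), s ∈ H →
      (∀ i b, s (T.tau (a i) b) = T.tau (sgn F (decide (i ≠ m)) • a i) b) → s ∈ K := fun a' ha' m s hs hsab => by
    refine ⟨hs, D.diag_mul_comm ha' hl (S := fun i _ => decide (i ≠ m))
      (S' := fun _ k => decide (k.val < 2)) (fun i k => ?_) (fun i k => ?_)⟩
    · rw [hsab, map_smul, LinearMap.smul_apply]
    · rw [htd, map_smul]
  have h6 : (Finset.univ.filter fun p : Fin 3 × Fin 4 => decide (p.2.val < 2) = false).card = 6 := by decide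
  have hstep1 : ∀ g ∈ K, IsKron T g := by
    refine D.kron_step hno (fun g h => h.1) hsK hl' h6 (y := x) ⟨hxH, ?_⟩ hxd fun g hg hgx => ?_
    · exact D.diag_mul_comm ha hl' (S := fun _ k => decide (k.val < 2)) (S' := fun _ k => c k)
        (fun i k => by rw [hxd, map_smul]) (fun i k => by rw [htl', map_smul])
    · refine D.kron_of_blocks hno hl' hg.1 fun k z => ?_
      have hz : z ∈ Submodule.span F (Set.range a) := by rw [ha.span_eq_top D.dimA]; trivial
      induction hz using Submodule.span_induction with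
      | mem z hz =>
          obtain ⟨i, rfl⟩ := hz
          refine ⟨∑ i', (T.form (g (T.tau (a i) (l' k))) (pb T a l' (i', k)) /
            T.form (pb T a l' (i', k)) (pb T a l' (i', k))) • a i', ?_⟩
          conv_lhs => rw [D.pb_expand ha hl' (g (T.tau (a i) (l' k)))]
          rw [Fintype.sum_prod_type, map_sum, LinearMap.sum_apply]
          refine Finset.sum_congr rfl fun i' _ => ?_
          rw [Finset.sum_eq_single k (fun k' _ hk' => ?_) (by simp), map_smul, LinearMap.smul_apply]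
          · rfl
          · have hz : T.form (g (T.tau (a i) (l' k))) (pb T a l' (i', k')) = 0 := by
              by_cases h1 : c k' = c k
              · refine D.map_class (S := fun _ k => decide (k.val < 2)) (S' := fun _ k => decide (k.val < 2))
                  hxH hgx (fun i k => by rw [hxd, map_smul]) (fun i k => by rw [hxd, map_smul])
                  fun h2 => hk' (hinj _ _ h1 h2)
              · exact D.map_class (S := fun _ k => c k) (S' := fun _ k => c k) ht hg.2.eq
                  (fun i k => by rw [htl', map_smul]) (fun i k => by rw [htl', map_smul]) h1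
            rw [hz, zero_div, zero_smul]
      | zero => exact ⟨0, by simp⟩
      | add p q _ _ hp hq =>
          obtain ⟨p', hp'⟩ := hp
          obtain ⟨q', hq'⟩ := hq
          exact ⟨p' + q', by simp [hp', hq']⟩
      | smul d p _ hp =>
          obtain ⟨p', hp'⟩ := hp
          exact ⟨d • p', by simp [hp']⟩
  exact fun g hg => D.kron_step hno (K := H) le_rfl (fun _ _ _ s hs _ => hs) hl h6 ht htd
    (fun g hg hgt => hstep1 g ⟨hg, hgt⟩) g hg

end MData

end CfsgLib.MaxSub.TForm
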