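import Cfsg.Agent.Lib.MaxSub.TFormMinusBasic

/-!
`O3 ⊗ O4-`, no Siegel maps at singular pencils: the elements trivial on a singular pencil and on its orthogonal
modulo it act by scalars.
-/

set_option autoImplicit false
set_option linter.unusedSectionVars false
set_option linter.unusedSimpArgs false
set_option linter.unusedVariables false
set_option linter.style.haveILetI false
set_option maxHeartbeats 1000000

namespace CfsgLib.MaxSub.TForm

open Module

variable {F A B V : Type*} [Field F] [AddCommGroup A] [Module F A] [AddCommGroup B] [Module F B]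
  [AddCommGroup V] [Module F V]

/-- a hyperbolic pair and an orthogonal basis of its anisotropic orthogonal -/
structure Hyp (T : Sys F A B V (RingHom.id F)) (z e r₁ r₂ : B) : Prop where
  zz : T.fB z z = 0
  ee : T.fB e e = 0
  ze : T.fB z e = 1
  ez : T.fB e z = 1
  z1 : T.fB r₁ z = 0
  e1 : T.fB r₁ e = 0
  z2 : T.fB r₂ z = 0
  e2 : T.fB r₂ e = 0
  o12 : T.fB r₁ r₂ = 0
  n1 : T.fB r₁ r₁ ≠ 0
  n2 : T.fB r₂ r₂ ≠ 0

/-- trivial on a pencil and on its orthogonal modulo it -/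
def RS (T : Sys F A B V (RingHom.id F)) (z : B) (s : V ≃ₗ[F] V) : Prop :=
  (∀ a, s (T.tau a z) = T.tau a z) ∧ ∀ x, T.C z x = 0 → ∃ a, s x = x + T.tau a z

/-- the action of an element of `RS` on the middle -/
def rsMap (T : Sys F A B V (RingHom.id F)) (e : B) (s : V ≃ₗ[F] V) (b : B) : A →ₗ[F] A :=
  T.C e ∘ₗ ((s : V →ₗ[F] V) - LinearMap.id) ∘ₗ T.tau.flip b

theorem rsMap_apply (T : Sys F A B V (RingHom.id F)) (e : B) (s : V ≃ₗ[F] V) (b : B) (a : A) :
    rsMap T e s b a = T.C e (s (T.tau a b) - T.tau a b) := rfl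

namespace MData

variable {T : Sys F A B V (RingHom.id F)} {H : Subgroup (V ≃ₗ[F] V)}
variable [Finite F] [FiniteDimensional F A] [FiniteDimensional F B] [FiniteDimensional F V]

theorem nonzeroA (D : MData T H) : ∃ a : A, a ≠ 0 :=
  @exists_ne A (Module.nontrivial_of_finrank_pos (R := F) (by rw [D.dimA]; norm_num)) 0

theorem exists_hyp (D : MData T H) {z : B} (hz0 : z ≠ 0) (hz : T.fB z z = 0) :
    ∃ e r₁ r₂, Hyp T z e r₁ r₂ := by
  obtain ⟨e, hee, hze, hez⟩ := D.symB.partner hz0 hz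
  have hnd := D.symB.ndS_perp_pair hz hee hze
  have d2 := le_finrank_perpV (f := T.fB) ![z, e]
  rw [D.dimB] at d2
  obtain ⟨r₁, h1, h11⟩ := D.symB.exists_aniso_of_pos hnd (by omega)
  have d1 := SymNd.finrank_cut (f := T.fB) (perpV T.fB ![z, e]) ![r₁]
  obtain ⟨r₂, h2, h22⟩ := D.symB.exists_aniso_of_pos (D.symB.ndS_cut hnd h1 h11) (by omega)
  exact ⟨e, r₁, r₂, hz, hee, hze, hez, mem_perpV.1 h1 0, mem_perpV.1 h1 1, mem_perpV.1 h2.1 0,
    mem_perpV.1 h2.1 1, by rw [D.symB.symm]; exact mem_perpV.1 h2.2 0, h11, h22⟩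

theorem Hyp.opp (D : MData T H) {z e r₁ r₂ : B} (Y : Hyp T z e r₁ r₂) : Hyp T e z r₁ r₂ :=
  ⟨Y.ee, Y.zz, Y.ez, Y.ze, Y.e1, Y.z1, Y.e2, Y.z2, Y.o12, Y.n1, Y.n2⟩

theorem span_hyp (D : MData T H) {z e r₁ r₂ : B} (Y : Hyp T z e r₁ r₂) :
    Submodule.span F (Set.range ![z, e, r₁, r₂]) = ⊤ := by
  have hs := D.symB.symm
  have hind : LinearIndependent F ![z, e, r₁, r₂] := by
    rw [Fintype.linearIndependent_iff]
    intro c hc
    simp only [Fin.sum_univ_four, Matrix.cons_val_zero, Matrix.cons_val_one, Matrix.cons_val_two,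
      Matrix.cons_val_three, Matrix.head_cons, Matrix.tail_cons] at hc
    have k0 := congrArg (fun x => T.fB x e) hc
    have k1 := congrArg (fun x => T.fB x z) hc
    have k2 := congrArg (fun x => T.fB x r₁) hc
    have k3 := congrArg (fun x => T.fB x r₂) hc
    simp only [map_add, map_smul, LinearMap.add_apply, LinearMap.smul_apply, smul_eq_mul, map_zero,
      LinearMap.zero_apply, Y.zz, Y.ee, Y.ze, Y.ez, Y.z1, Y.e1, Y.z2, Y.e2, hs r₁ z, hs r₁ e, hs r₂ z,
      hs r₂ e, Y.o12, hs r₁ r₂, mul_zero, mul_one, add_zero, zero_add] at k0 k1 k2 k3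
    intro i
    fin_cases i
    · exact k0
    · exact k1
    · exact (mul_eq_zero.1 k2).resolve_right Y.n1
    · exact (mul_eq_zero.1 k3).resolve_right Y.n2
  exact hind.span_eq_top_of_card_eq_finrank (by rw [D.dimB]; rfl)

/-- a vector is determined by four contractions -/
theorem ext4 (D : MData T H) {z e r₁ r₂ : B} (Y : Hyp T z e r₁ r₂) {x : V} (h0 : T.C z x = 0)
    (h1 : T.C e x = 0) (h2 : T.C r₁ x = 0) (h3 : T.C r₂ x = 0) : x = 0 := by
  refine D.eq_zero_of_C fun w => ?_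
  have hw : w ∈ Submodule.span F (Set.range ![z, e, r₁, r₂]) := by rw [D.span_hyp Y]; trivial
  induction hw using Submodule.span_induction with
  | mem w hw =>
      obtain ⟨i, rfl⟩ := hw
      fin_cases i
      exacts [h0, h1, h2, h3]
  | zero => rw [show (0 : B) = (0 : F) • (0 : B) by rw [zero_smul], D.C_smul, zero_smul, LinearMap.zero_apply]
  | add a b _ _ ha hb => rw [D.C_add, LinearMap.add_apply, ha, hb, add_zero]
  | smul c a _ ha => rw [D.C_smul, LinearMap.smul_apply, ha, smul_zero]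

theorem decomp (D : MData T H) {z e r₁ r₂ : B} (Y : Hyp T z e r₁ r₂) (x : V) :
    x = T.tau (T.C e x) z + T.tau (T.C z x) e + T.tau ((T.fB r₁ r₁)⁻¹ • T.C r₁ x) r₁ +
      T.tau ((T.fB r₂ r₂)⁻¹ • T.C r₂ x) r₂ := by
  have hs := D.symB.symm
  refine sub_eq_zero.1 (D.ext4 Y ?_ ?_ ?_ ?_) <;>
    simp [D.C_tau, Y.zz, Y.ee, Y.ze, Y.ez, Y.z1, Y.e1, Y.z2, Y.e2, hs r₁ z, hs r₁ e, hs r₂ z, hs r₂ e,
      Y.o12, hs r₁ r₂, smul_smul, inv_mul_cancel₀ Y.n1, inv_mul_cancel₀ Y.n2, mul_inv_cancel₀ Y.n1,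
      mul_inv_cancel₀ Y.n2]

theorem qLine (D : MData T H) (hno : NoFrame T H) {z : B} (hz0 : z ≠ 0) (hz : T.fB z z = 0)
    {g : V ≃ₗ[F] V} (hg : g ∈ H) (hfix : ∀ x, T.C z x = 0 → g x = x) : g = 1 := by
  obtain ⟨X, hgx⟩ := D.line_form hz0 hz hg hfix
  refine LinearEquiv.ext fun x => ?_
  rw [hgx, fr, hno z hz0 hz X ⟨g, hg, hgx⟩]
  simp

theorem rs_C (D : MData T H) {z : B} {s : V ≃ₗ[F] V} (hs : s ∈ H) (h : RS T z s) (x : V) :
    T.C z (s x) = T.C z x :=
  D.C_eq_of_form fun a => by conv_lhs => rw [← h.1, D.isom s hs]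

theorem rs_perp (D : MData T H) {z e : B} (hze : T.fB z e = 1) {s : V ≃ₗ[F] V} (h : RS T z s) {x : V}
    (hx : T.C z x = 0) : s x = x + T.tau (T.C e (s x - x)) z := by
  obtain ⟨a, ha⟩ := h.2 x hx
  rw [ha, add_sub_cancel_left, D.C_tau, hze, one_smul]

theorem rs_C_mid (D : MData T H) {z e r : B} (hze : T.fB z e = 1) (hr : T.fB r z = 0) {s : V ≃ₗ[F] V}
    (h : RS T z s) {x : V} (hx : T.C z x = 0) : T.C r (s x) = T.C r x := by
  rw [D.rs_perp hze h hx, map_add, D.C_tau, D.symB.symm r z, hr, zero_smul, add_zero]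

/-- two maps trivial on the orthogonal modulo the pencil commute -/
theorem rs_commute (D : MData T H) (hno : NoFrame T H) {z : B} (hz0 : z ≠ 0) (hz : T.fB z z = 0)
    {s t : V ≃ₗ[F] V} (hs : s ∈ H) (ht : t ∈ H) (hS : RS T z s) (hT : RS T z t) (x : V) :
    s (t x) = t (s x) := by
  have hfix : ∀ x, T.C z x = 0 → (s * t * s⁻¹ * t⁻¹) x = x := fun x hx => by
    obtain ⟨y, rfl⟩ := (t * s).surjective x
    show s (t (s⁻¹ (t⁻¹ (t (s y))))) = t (s y)
    rw [inv_ap, inv_ap]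
    have hy : T.C z y = 0 := by
      rw [← D.rs_C hs hS y, ← D.rs_C ht hT (s y)]; exact hx
    obtain ⟨a, ha⟩ := hS.2 y hy
    obtain ⟨a', ha'⟩ := hT.2 y hy
    rw [ha', map_add, hS.1, ha, map_add, hT.1, ha']
    abel
  have h := D.qLine hno hz0 hz (mul_mem (mul_mem (mul_mem hs ht) (inv_mem hs)) (inv_mem ht)) hfix
  have h' : s * t * s⁻¹ * t⁻¹ = 1 := h
  have e : s * t = t * s := by
    calc s * t = s * t * s⁻¹ * t⁻¹ * (t * s) := by group
      _ = t * s := by rw [h', one_mul]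
  exact LinearEquiv.congr_fun e x

theorem eich_rs (D : MData T H) {z r : B} (hz : T.fB z z = 0) (hr : T.fB r z = 0) :
    ∃ k ∈ H, RS T z k ∧ (∀ a b, k (T.tau a b) = T.tau a (eich T.fB z r b)) ∧
      ∀ x, k x = x + T.tau (T.C z x) r - T.tau (T.C r x + (T.fB r r / 2) • T.C z x) z := by
  obtain ⟨k, hk, hkab, hkx⟩ := D.eichB hz hr
  refine ⟨k, hk, ⟨fun a => ?_, fun x hx => ⟨-T.C r x, ?_⟩⟩, hkab, hkx⟩
  · rw [hkx]; simp [D.C_tau, hz, D.symB.symm r z, hr]
  · rw [hkx, hx]; simp [sub_eq_add_neg]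

/-- the middle action of an element of `RS` is the negative of its adjoint part, and symmetric -/
theorem rs_sym (D : MData T H) (hno : NoFrame T H) {z e r : B} (hz : T.fB z z = 0) (hze : T.fB z e = 1)
    (hrz : T.fB r z = 0) (hre : T.fB r e = 0) {s : V ≃ₗ[F] V} (hs : s ∈ H) (hS : RS T z s) :
    (∀ a, rsMap T e s r a = -T.C r (s (T.tau a e))) ∧
      ∀ a a', T.fA (rsMap T e s r a) a' = T.fA a (rsMap T e s r a') := by
  have hz0 : z ≠ 0 := fun h => by rw [h, map_zero] at hze; exact zero_ne_one hze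
  have hzr : T.fB z r = 0 := by rw [D.symB.symm, hrz]
  have her : T.fB e r = 0 := by rw [D.symB.symm, hre]
  have hez : T.fB e z = 1 := by rw [D.symB.symm, hze]
  obtain ⟨k, hk, hK, hkab, hkx⟩ := D.eich_rs hz hrz
  have hL : ∀ a, s (T.tau a r) = T.tau a r + T.tau (rsMap T e s r a) z := fun a =>
    D.rs_perp hze hS (by rw [D.C_tau, hrz, zero_smul])
  have h1 : ∀ a, rsMap T e s r a = -T.C r (s (T.tau a e)) := fun a => by
    have h := D.rs_commute hno hz0 hz hs hk hS hK (T.tau a e)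
    rw [hkx, hkx, D.rs_C hs hS, D.C_tau, D.C_tau, hez, her, one_smul, zero_smul, zero_add, map_sub,
      map_add, hL, hS.1] at h
    have h' := congrArg (T.C e) h
    simp only [map_add, map_sub, map_smul, LinearMap.add_apply, LinearMap.smul_apply, D.C_tau, hze, hre,
      one_smul, zero_smul, add_zero, smul_zero] at h'
    linear_combination (norm := module) h'
  refine ⟨h1, fun a a' => ?_⟩
  have hi := D.isom s hs (T.tau a r) (T.tau a' e)
  rw [hL, map_add, LinearMap.add_apply, D.formV_symm (s (T.tau a' e)) (T.tau a r),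
    D.formV_symm (s (T.tau a' e)) (T.tau (rsMap T e s r a) z), D.form_C, D.form_C, D.rs_C hs hS,
    D.C_tau, hez, one_smul, D.form_tau, hre, mul_zero] at hi
  rw [h1 a', map_neg]
  rw [D.symA.symm a (T.C r (s (T.tau a' e))), D.symA.symm (rsMap T e s r a) a'] at hi
  linear_combination hi

/-- the bracket of the middle actions of two elements of `RS` -/
theorem rs_bracket (D : MData T H) (hno : NoFrame T H) {z e r₁ r₂ : B} (Y : Hyp T z e r₁ r₂)
    {s t : V ≃ₗ[F] V} (hs : s ∈ H) (ht : t ∈ H) (hS : RS T z s) (hT : RS T z t) (a : A) :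
    (T.fB r₁ r₁)⁻¹ • (rsMap T e s r₁ (rsMap T e t r₁ a) - rsMap T e t r₁ (rsMap T e s r₁ a)) +
      (T.fB r₂ r₂)⁻¹ • (rsMap T e s r₂ (rsMap T e t r₂ a) - rsMap T e t r₂ (rsMap T e s r₂ a)) = 0 := by
  have hz0 : z ≠ 0 := fun h => by have := Y.ze; rw [h, map_zero] at this; exact zero_ne_one this
  have key : ∀ u v : V ≃ₗ[F] V, u ∈ H → v ∈ H → RS T z u → RS T z v →
      T.C e (u (v (T.tau a e))) = T.C e (v (T.tau a e)) + T.C e (u (T.tau a e))
        - ((T.fB r₁ r₁)⁻¹ • rsMap T e u r₁ (rsMap T e v r₁ a) +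
          (T.fB r₂ r₂)⁻¹ • rsMap T e u r₂ (rsMap T e v r₂ a)) := by
    intro u v hu hv hU hV
    have hd := D.decomp Y (v (T.tau a e))
    rw [D.rs_C hv hV, D.C_tau, Y.ez, one_smul] at hd
    have hL : ∀ c r, T.fB r z = 0 → u (T.tau c r) = T.tau c r + T.tau (rsMap T e u r c) z := fun c r hr =>
      D.rs_perp Y.ze hU (by rw [D.C_tau, hr, zero_smul])
    have e1 := (D.rs_sym hno Y.zz Y.ze Y.z1 Y.e1 hv hV).1 a
    have e2 := (D.rs_sym hno Y.zz Y.ze Y.z2 Y.e2 hv hV).1 a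
    have hn1 : T.C r₁ (v (T.tau a e)) = -rsMap T e v r₁ a := by rw [e1, neg_neg]
    have hn2 : T.C r₂ (v (T.tau a e)) = -rsMap T e v r₂ a := by rw [e2, neg_neg]
    rw [hn1, hn2] at hd
    conv_lhs => rw [hd]
    rw [map_add u, map_add u, map_add u, hU.1, hL _ _ Y.z1, hL _ _ Y.z2]
    simp only [map_add, map_smul, map_neg, LinearMap.add_apply, LinearMap.smul_apply, LinearMap.neg_apply,
      smul_neg, D.C_tau, Y.ze, Y.ez, Y.e1, Y.e2, one_smul, zero_smul, add_zero, zero_add, smul_zero]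
    module
  have h := congrArg (T.C e) (D.rs_commute hno hz0 Y.zz hs ht hS hT (T.tau a e))
  rw [key s t hs ht hS hT, key t s ht hs hT hS] at h
  linear_combination (norm := module) -h

theorem rs_mul (D : MData T H) {z : B} {s t : V ≃ₗ[F] V} (hs : s ∈ H) (ht : t ∈ H) (hS : RS T z s)
    (hT : RS T z t) : RS T z (s * t) := by
  refine ⟨fun a => by rw [LinearEquiv.mul_apply, hT.1, hS.1], fun x hx => ?_⟩
  obtain ⟨a, ha⟩ := hT.2 x hx
  obtain ⟨a', ha'⟩ := hS.2 x hx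
  exact ⟨a' + a, by rw [LinearEquiv.mul_apply, ha, map_add, hS.1, ha', map_add, LinearMap.add_apply, add_assoc]⟩

theorem rs_inv (D : MData T H) {z : B} {s : V ≃ₗ[F] V} (hS : RS T z s) : RS T z s⁻¹ := by
  refine ⟨fun a => s.injective (by rw [ap_inv, hS.1]), fun x hx => ?_⟩
  obtain ⟨a, ha⟩ := hS.2 x hx
  exact ⟨-a, s.injective (by rw [ap_inv, map_add, ha, map_neg, LinearMap.neg_apply, map_neg, hS.1]; abel)⟩

/-- the middle actions are scalar -/
theorem rs_scalar (D : MData T H) (hno : NoFrame T H) {z e r₁ r₂ : B} (Y : Hyp T z e r₁ r₂)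
    {s₀ : V ≃ₗ[F] V} (hs₀ : s₀ ∈ H) (hS₀ : RS T z s₀) :
    ∃ k₁ k₂ : F, ∀ a, rsMap T e s₀ r₁ a = k₁ • a ∧ rsMap T e s₀ r₂ a = k₂ • a := by
  classical
  by_contra hns
  obtain ⟨v, hv0, hv⟩ := D.symA.exists_iso_top D.dimA_le
  obtain ⟨u, hu, hvu, huv⟩ := D.symA.partner hv0 hv
  have hu0 : u ≠ 0 := fun h => by rw [h, map_zero] at hvu; exact zero_ne_one hvu
  let pr : (V ≃ₗ[F] V) → Module.End F A × Module.End F A := fun s => (rsMap T e s r₁, rsMap T e s r₂)
  have hadd : ∀ s t, s ∈ H → t ∈ H → RS T z s → RS T z t → pr (s * t) = pr s + pr t := by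
    intro s t hs ht hS hT
    have : ∀ r, T.fB r z = 0 → T.fB r e = 0 → rsMap T e (s * t) r = rsMap T e s r + rsMap T e t r := by
      intro r hr hre
      refine LinearMap.ext fun a => ?_
      rw [LinearMap.add_apply, rsMap_apply, rsMap_apply, rsMap_apply, LinearEquiv.mul_apply]
      have hx : T.C z (T.tau a r) = 0 := by rw [D.C_tau, hr, zero_smul]
      conv_lhs => rw [D.rs_perp Y.ze hT hx, map_add s, hS.1]
      simp only [map_add, map_sub, map_zero, LinearMap.add_apply, LinearMap.zero_apply, D.C_tau, Y.ze, hre,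
        one_smul, zero_smul, add_zero, sub_zero]
    exact Prod.ext (this r₁ Y.z1 Y.e1) (this r₂ Y.z2 Y.e2)
  let X : AddSubgroup (Module.End F A × Module.End F A) :=
    { carrier := {P | ∃ s ∈ H, RS T z s ∧ pr s = P}
      zero_mem' := ⟨1, one_mem _, ⟨fun a => rfl, fun x _ => ⟨0, by simp⟩⟩,
        Prod.ext (LinearMap.ext fun a => by simp [pr, rsMap_apply])
          (LinearMap.ext fun a => by simp [pr, rsMap_apply])⟩
      add_mem' := by
        rintro P Q ⟨s, hs, hS, rfl⟩ ⟨t, ht, hT, rfl⟩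
        exact ⟨s * t, mul_mem hs ht, D.rs_mul hs ht hS hT, hadd s t hs ht hS hT⟩
      neg_mem' := by
        rintro P ⟨s, hs, hS, rfl⟩
        refine ⟨s⁻¹, inv_mem hs, D.rs_inv hS, eq_neg_of_add_eq_zero_right ?_⟩
        rw [← hadd s s⁻¹ hs (inv_mem hs) hS (D.rs_inv hS), mul_inv_cancel]
        exact Prod.ext (LinearMap.ext fun a => by simp [pr, rsMap_apply])
          (LinearMap.ext fun a => by simp [pr, rsMap_apply]) }
  let S : AddSubgroup (Module.End F A × Module.End F A) :=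
    { carrier := {P | ∃ k₁ k₂ : F, ∀ a, P.1 a = k₁ • a ∧ P.2 a = k₂ • a}
      zero_mem' := ⟨0, 0, fun a => by simp⟩
      add_mem' := by
        rintro P Q ⟨k, l, h⟩ ⟨k', l', h'⟩
        exact ⟨k + k', l + l', fun a => by simp [(h a).1, (h a).2, (h' a).1, (h' a).2, add_smul]⟩
      neg_mem' := by
        rintro P ⟨k, l, h⟩
        exact ⟨-k, -l, fun a => by simp [(h a).1, (h a).2]⟩ }
  have hconj : ∀ g ∈ egrp T.fA, ∀ P ∈ X,
      ((g.toLinearMap ∘ₗ P.1 ∘ₗ g.symm.toLinearMap, g.toLinearMap ∘ₗ P.2 ∘ₗ g.symm.toLinearMap) :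
        Module.End F A × Module.End F A) ∈ X := by
    rintro g hg P ⟨s, hs, hS, rfl⟩
    obtain ⟨k, hk, hkab⟩ := D.pureA hg
    have hki : ∀ a b, k⁻¹ (T.tau a b) = T.tau (g.symm a) b := fun a b => k.injective (by
      rw [ap_inv, hkab, LinearEquiv.apply_symm_apply])
    refine ⟨k * s * k⁻¹, mul_mem (mul_mem hk hs) (inv_mem hk), ⟨fun a => ?_, fun x hx => ?_⟩, ?_⟩
    · show k (s (k⁻¹ _)) = _
      rw [hki, hS.1, hkab, LinearEquiv.apply_symm_apply]
    · obtain ⟨a, ha⟩ := hS.2 (k⁻¹ x) (by rw [D.C_pureA_inv hkab, hx, map_zero])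
      exact ⟨g a, by show k (s (k⁻¹ x)) = _; rw [ha, map_add, ap_inv, hkab]⟩
    · have : ∀ r, rsMap T e (k * s * k⁻¹) r = g.toLinearMap ∘ₗ rsMap T e s r ∘ₗ g.symm.toLinearMap := fun r =>
        LinearMap.ext fun a => by
          simp only [LinearMap.comp_apply, rsMap_apply, LinearEquiv.coe_coe, LinearEquiv.mul_apply, hki,
            map_sub, D.C_pureA hkab, D.C_tau, map_smul, LinearEquiv.apply_symm_apply]
      exact Prod.ext (this r₁) (this r₂)
  obtain ⟨p, hp⟩ := CharP.exists F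
  haveI := hp
  haveI : Fact p.Prime := ⟨CharP.char_is_prime F p⟩
  haveI : Finite A := Module.finite_of_finite F
  haveI : Finite (Module.End F A) := Finite.of_injective _ DFunLike.coe_injective
  have hrv : ∀ r : perpV T.fA ![v, u], T.fA (r : A) v = 0 := fun r => mem_perpV.1 r.2 0
  choose G hGe hG hGs using fun r : perpV T.fA ![v, u] => D.symA.exists_eich hv (hrv r)
  let ρ : perpV T.fA ![v, u] → (Module.End F A × Module.End F A) →+ (Module.End F A × Module.End F A) :=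
    fun r =>
    { toFun := fun P => ((G r).toLinearMap ∘ₗ P.1 ∘ₗ (G r).symm.toLinearMap,
        (G r).toLinearMap ∘ₗ P.2 ∘ₗ (G r).symm.toLinearMap)
      map_zero' := by simp
      map_add' := fun P Q => by
        refine Prod.ext (LinearMap.ext fun a => ?_) (LinearMap.ext fun a => ?_) <;> simp }
  have hρ : ∀ r P, ρ r P = ((G r).toLinearMap ∘ₗ P.1 ∘ₗ (G r).symm.toLinearMap,
      (G r).toLinearMap ∘ₗ P.2 ∘ₗ (G r).symm.toLinearMap) := fun r P => rfl
  obtain ⟨P, hP, hPS, hfix⟩ := exists_fixed_mod (p := p)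
    (fun w => by rw [← Nat.cast_smul_eq_nsmul F, CharP.cast_eq_zero, zero_smul])
    (fun P => by rw [← Nat.cast_smul_eq_nsmul F, CharP.cast_eq_zero, zero_smul]) ρ
    (fun P => by
      rw [hρ]
      refine Prod.ext (LinearMap.ext fun a => ?_) (LinearMap.ext fun a => ?_) <;>
        simp [hG, hGs, SymNd.eich_zero])
    (fun r s P => by
      rw [hρ, hρ, hρ]
      refine Prod.ext (LinearMap.ext fun a => ?_) (LinearMap.ext fun a => ?_) <;>
      · simp only [LinearMap.comp_apply, LinearEquiv.coe_coe, hG, hGs, Submodule.coe_add, neg_add_rev]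
        rw [D.symA.eich_comp hv (hrv r) (hrv s), D.symA.eich_comp hv (by simp [hrv s]) (by simp [hrv r])])
    X S (fun r P hP => hconj _ (hGe r) P hP)
    (fun r P ⟨k, l, h⟩ => ⟨k, l, fun a => by simp [hρ, (h _).1, (h _).2]⟩)
    (x₀ := pr s₀) ⟨s₀, hs₀, hS₀, rfl⟩ (fun ⟨k, l, h⟩ => hns ⟨k, l, h⟩)
  obtain ⟨s, hs, hS, rfl⟩ := hP
  have hsym : ∀ r, T.fB r z = 0 → T.fB r e = 0 →
      (∀ q : perpV T.fA ![v, u], ∃ l : F, ∀ a,
        G q (rsMap T e s r ((G q).symm a)) - rsMap T e s r a = l • a) →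
      ∃ c t : F, ∀ a, rsMap T e s r a = c • a + (t * T.fA a v) • v := by
    intro r hr hre hq
    refine D.symA.fixed_sym D.dimA_le (fun _ => D.big) hv hu hvu huv (D.rs_sym hno Y.zz Y.ze hr hre hs hS).2
      fun q hqv hqu => ?_
    obtain ⟨q', hq'⟩ : ∃ q' : perpV T.fA ![v, u], (q' : A) = q :=
      ⟨⟨q, mem_perpV.2 fun i => by fin_cases i; exacts [hqv, hqu]⟩, rfl⟩
    obtain ⟨l, hl⟩ := hq q'
    refine ⟨l, fun a => ?_⟩
    have h := hl (G q' a)
    rw [LinearEquiv.symm_apply_apply, hG, hG, hq'] at h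
    exact h
  obtain ⟨c₁, t₁, h1⟩ := hsym r₁ Y.z1 Y.e1 fun q => by
    obtain ⟨k, l, h⟩ := hfix q
    exact ⟨k, fun a => by simpa [hρ, pr] using (h a).1⟩
  obtain ⟨c₂, t₂, h2⟩ := hsym r₂ Y.z2 Y.e2 fun q => by
    obtain ⟨k, l, h⟩ := hfix q
    exact ⟨l, fun a => by simpa [hρ, pr] using (h a).2⟩
  have ht : t₁ ≠ 0 ∨ t₂ ≠ 0 := by
    by_contra hh
    push Not at hh
    exact hPS ⟨c₁, c₂, fun a => ⟨by simp [pr, h1, hh.1], by simp [pr, h2, hh.2]⟩⟩
  obtain ⟨g, hg, c, hc, hgv⟩ := D.symA.exists_move D.dimA_le hv0 hv hu0 hu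
  obtain ⟨t, htH, hT, htp⟩ := hconj g hg _ ⟨s, hs, hS, rfl⟩
  have hg1 : ∀ a, T.fA (g.symm a) v = c * T.fA a u := fun a => by
    rw [← D.symA.egrp_isom hg, LinearEquiv.apply_symm_apply, hgv, map_smul, smul_eq_mul]
  have k1 : ∀ a, rsMap T e t r₁ a = c₁ • a + (t₁ * c * c * T.fA a u) • u := fun a => by
    have := LinearMap.congr_fun (congrArg Prod.fst htp) a
    simp only [pr, LinearMap.comp_apply, LinearEquiv.coe_coe] at this
    rw [this, h1, map_add, map_smul, map_smul, LinearEquiv.apply_symm_apply, hgv, hg1, smul_smul]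
    ring_nf
  have k2 : ∀ a, rsMap T e t r₂ a = c₂ • a + (t₂ * c * c * T.fA a u) • u := fun a => by
    have := LinearMap.congr_fun (congrArg Prod.snd htp) a
    simp only [pr, LinearMap.comp_apply, LinearEquiv.coe_coe] at this
    rw [this, h2, map_add, map_smul, map_smul, LinearEquiv.apply_symm_apply, hgv, hg1, smul_smul]
    ring_nf
  have h := congrArg (fun a => T.fA a u) (D.rs_bracket hno Y hs htH hS hT v)
  simp only [h1, h2, k1, k2, map_add, map_sub, map_smul, map_zero, LinearMap.add_apply, LinearMap.sub_apply,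
    LinearMap.smul_apply, LinearMap.zero_apply, smul_eq_mul, hv, hu, hvu, huv, mul_zero, mul_one, add_zero,
    zero_add, zero_mul] at h
  have hq : (t₁ * t₁ / T.fB r₁ r₁ + t₂ * t₂ / T.fB r₂ r₂) * (c * c) = 0 := by
    linear_combination h
  have hq' := (mul_eq_zero.1 hq).resolve_right (mul_ne_zero hc hc)
  set x := (t₁ / T.fB r₁ r₁) • r₁ + (t₂ / T.fB r₂ r₂) • r₂ with hxdef
  have hxx : T.fB x x = 0 := by
    simp only [hxdef, map_add, map_smul, LinearMap.add_apply, LinearMap.smul_apply, smul_eq_mul, Y.o12,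
      D.symB.symm r₁ r₂, mul_zero, add_zero, zero_add]
    have := Y.n1
    have := Y.n2
    rw [← hq']
    field_simp
  have hzx : T.fB z x = 0 := by simp [hxdef, D.symB.symm r₁ z, Y.z1, D.symB.symm r₂ z, Y.z2]
  have hz0 : z ≠ 0 := fun h => by have := Y.ze; rw [h, map_zero] at this; exact zero_ne_one this
  obtain ⟨k, hk⟩ := Submodule.mem_span_singleton.1 (D.noPlane z x Y.zz hxx hzx hz0)
  have he := congrArg (fun y => T.fB y e) hk
  simp only [hxdef, map_add, map_smul, LinearMap.add_apply, LinearMap.smul_apply, smul_eq_mul, Y.ze,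
    Y.e1, Y.e2, mul_one, mul_zero, add_zero] at he
  rw [he, zero_smul] at hk
  have e1 := congrArg (fun y => T.fB y r₁) hk
  have e2 := congrArg (fun y => T.fB y r₂) hk
  simp only [hxdef, map_add, map_smul, map_zero, LinearMap.zero_apply, LinearMap.add_apply,
    LinearMap.smul_apply, smul_eq_mul, Y.o12, D.symB.symm r₁ r₂, mul_zero, add_zero, zero_add,
    div_mul_cancel₀ _ Y.n1, div_mul_cancel₀ _ Y.n2] at e1 e2
  rcases ht with ht | ht
  · exact ht e1.symm
  · exact ht e2.symm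

/-- an element of `RS` fixing a slice is trivial -/
theorem rs_trivial (D : MData T H) (hno : NoFrame T H) {z e r₁ r₂ : B} (Y : Hyp T z e r₁ r₂)
    {s : V ≃ₗ[F] V} (hs : s ∈ H) (hS : RS T z s) {a₀ : A} (ha₀ : a₀ ≠ 0)
    (hfix : ∀ b, s (T.tau a₀ b) = T.tau a₀ b) : s = 1 := by
  have hz0 : z ≠ 0 := fun h => by have := Y.ze; rw [h, map_zero] at this; exact zero_ne_one this
  obtain ⟨k₁, k₂, hk⟩ := D.rs_scalar hno Y hs hS
  have hk0 : ∀ b, rsMap T e s b a₀ = 0 := fun b => by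
    rw [rsMap_apply, hfix, sub_self, map_zero]
  have h1 : k₁ = 0 := (smul_eq_zero.1 ((hk a₀).1 ▸ hk0 r₁)).resolve_right ha₀
  have h2 : k₂ = 0 := (smul_eq_zero.1 ((hk a₀).2 ▸ hk0 r₂)).resolve_right ha₀
  refine D.qLine hno hz0 Y.zz hs fun x hx => ?_
  have hd := D.decomp Y x
  rw [hx, map_zero, LinearMap.zero_apply, add_zero] at hd
  have hL : ∀ c r, T.fB r z = 0 → s (T.tau c r) = T.tau c r + T.tau (rsMap T e s r c) z := fun c r hr =>
    D.rs_perp Y.ze hS (by rw [D.C_tau, hr, zero_smul])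
  conv_lhs => rw [hd]
  conv_rhs => rw [hd]
  rw [map_add s, map_add s, hS.1, hL _ _ Y.z1, hL _ _ Y.z2, (hk _).1, (hk _).2, h1, h2]
  simp

end MData

end CfsgLib.MaxSub.TForm
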