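import Cfsg.Agent.Lib.MaxSub.TFormMinusPencil
import Cfsg.Agent.Lib.Coprime.Generation
import Cfsg.Agent.Lib.Solvable.Nilpotent

/-!
`O3 ⊗ O4-`, no Siegel maps at singular pencils: the elements fixing an anisotropic slice `a ⊗ B` centralise the
pure Eichler elements, and the elements mapping a slice onto a slice are pure.
-/

set_option autoImplicit false
set_option linter.unusedSectionVars false
set_option linter.unusedSimpArgs false
set_option linter.unusedVariables false
set_option linter.style.haveILetI false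
set_option maxHeartbeats 1000000

namespace CfsgLib.MaxSub.TForm

open Module

variable {F A B V : Type*} [Field F] [AddCommGroup A] [Module F A] [AddCommGroup B] [Module F B]
  [AddCommGroup V] [Module F V]

/-- the members fixing the slice at `a` pointwise -/
def fixA (T : Sys F A B V (RingHom.id F)) (H : Subgroup (V ≃ₗ[F] V)) (a : A) : Subgroup (V ≃ₗ[F] V) where
  carrier := {g | g ∈ H ∧ ∀ b, g (T.tau a b) = T.tau a b}
  one_mem' := ⟨one_mem _, fun b => rfl⟩
  mul_mem' := fun {g g'} hg hg' => ⟨mul_mem hg.1 hg'.1, fun b => by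
    rw [LinearEquiv.mul_apply, hg'.2, hg.2]⟩
  inv_mem' := fun {g} hg => ⟨inv_mem hg.1, fun b => g.injective (by
    rw [MData.ap_inv, hg.2])⟩

namespace MData

variable {T : Sys F A B V (RingHom.id F)} {H : Subgroup (V ≃ₗ[F] V)}
variable [Finite F] [FiniteDimensional F A] [FiniteDimensional F B] [FiniteDimensional F V]

theorem ext_lin (D : MData T H) {g g' : V ≃ₗ[F] V} (h : ∀ a b, g (T.tau a b) = g' (T.tau a b)) : g = g' :=
  LinearEquiv.toLinearMap_injective (D.ext_tau (f := (g : V →ₗ[F] V)) (g := (g' : V →ₗ[F] V)) h)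

theorem eich_self {z r : B} (D : MData T H) (hz : T.fB z z = 0) (hr : T.fB r z = 0) :
    eich T.fB z r z = z := by
  simp [eich_apply, hz, D.symB.symm r z, hr]

theorem eich_shift {z r : B} (D : MData T H) (hz : T.fB z z = 0) (hr : T.fB r z = 0) (c : F) (b : B) :
    eich T.fB z (r + c • z) b = eich T.fB z r b := by
  have h2 := D.symB.two
  simp only [eich_apply, map_add, map_smul, LinearMap.add_apply, LinearMap.smul_apply, smul_eq_mul, hz, hr,
    D.symB.symm r z, mul_zero, add_zero]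
  module

theorem aniso_mid (D : MData T H) {z e r : B} (hz : T.fB z z = 0) (hze : T.fB z e = 1) (hrz : T.fB r z = 0)
    (hre : T.fB r e = 0) (hr0 : r ≠ 0) : T.fB r r ≠ 0 := fun h => by
  have hz0 : z ≠ 0 := fun h => by rw [h, map_zero] at hze; exact zero_ne_one hze
  obtain ⟨c, hc⟩ := Submodule.mem_span_singleton.1
    (D.noPlane z r hz h (by rw [D.symB.symm, hrz]) hz0)
  have h1 : c = 0 := by simpa [← hc, hze] using hre
  exact hr0 (by rw [← hc, h1, zero_smul])

/-- the pure Eichler elements at one hyperbolic pair -/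
def eichSub (D : MData T H) {z e : B} (hz : T.fB z z = 0) : Subgroup (V ≃ₗ[F] V) where
  carrier := {k | k ∈ H ∧ ∃ r, T.fB r z = 0 ∧ T.fB r e = 0 ∧
    ∀ a b, k (T.tau a b) = T.tau a (eich T.fB z r b)}
  one_mem' := ⟨one_mem _, 0, by simp, by simp, fun a b => by rw [SymNd.eich_zero]; rfl⟩
  mul_mem' := by
    rintro k k' ⟨hk, r, h1, h2, h3⟩ ⟨hk', r', h1', h2', h3'⟩
    exact ⟨mul_mem hk hk', r + r', by simp [h1, h1'], by simp [h2, h2'], fun a b => by
      rw [LinearEquiv.mul_apply, h3', h3, D.symB.eich_comp hz h1 h1']⟩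
  inv_mem' := by
    rintro k ⟨hk, r, h1, h2, h3⟩
    refine ⟨inv_mem hk, -r, by simp [h1], by simp [h2], fun a b => k.injective ?_⟩
    rw [ap_inv, h3, D.symB.eich_comp hz h1 (by simp [h1]), add_neg_cancel, SymNd.eich_zero]

theorem mem_eichSub (D : MData T H) {z e : B} {hz : T.fB z z = 0} {k : V ≃ₗ[F] V} :
    k ∈ D.eichSub (e := e) hz ↔ k ∈ H ∧ ∃ r, T.fB r z = 0 ∧ T.fB r e = 0 ∧
      ∀ a b, k (T.tau a b) = T.tau a (eich T.fB z r b) := Iff.rfl

theorem eich_pow (D : MData T H) {z r : B} (hz : T.fB z z = 0) (hr : T.fB r z = 0) {k : V ≃ₗ[F] V}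
    (hk : ∀ a b, k (T.tau a b) = T.tau a (eich T.fB z r b)) (n : ℕ) (a : A) (b : B) :
    (k ^ n) (T.tau a b) = T.tau a (eich T.fB z ((n : F) • r) b) := by
  induction n generalizing b with
  | zero => simp [SymNd.eich_zero]
  | succ n ih =>
      rw [pow_succ, LinearEquiv.mul_apply, hk, ih, D.symB.eich_comp hz (by simp [hr]) hr]
      rw [Nat.cast_succ, add_smul, one_smul]

theorem eich_pow_char (D : MData T H) {z r : B} (hz : T.fB z z = 0) (hr : T.fB r z = 0) {k : V ≃ₗ[F] V}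
    (hk : ∀ a b, k (T.tau a b) = T.tau a (eich T.fB z r b)) (p : ℕ) [CharP F p] : k ^ p = 1 :=
  D.ext_lin fun a b => by rw [D.eich_pow hz hr hk, CharP.cast_eq_zero, zero_smul, SymNd.eich_zero]; rfl

theorem eichSub_comm (D : MData T H) {z e : B} {hz : T.fB z z = 0} :
    IsMulCommutative (D.eichSub (e := e) hz) := by
  refine ⟨⟨fun ⟨k, hk, r, h1, h2, h3⟩ ⟨k', hk', r', h1', h2', h3'⟩ => Subtype.ext (D.ext_lin fun a b => ?_)⟩⟩
  show k (k' _) = k' (k _)
  rw [h3', h3, h3, h3', D.symB.eich_comp hz h1 h1', D.symB.eich_comp hz h1' h1, add_comm]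

theorem eichSub_not_cyclic (D : MData T H) {z e r₁ r₂ : B} (Y : Hyp T z e r₁ r₂) :
    ¬ IsCyclic (D.eichSub (e := e) Y.zz) := by
  classical
  intro hc
  obtain ⟨p, hp⟩ := CharP.exists F
  haveI := hp
  haveI : Fact p.Prime := ⟨CharP.char_is_prime F p⟩
  haveI : Finite V := Module.finite_of_finite F
  haveI : Finite (V ≃ₗ[F] V) := Finite.of_injective _ DFunLike.coe_injective
  obtain ⟨g, hg⟩ := hc.exists_generator
  have hgp : g ^ p = 1 := by
    obtain ⟨hk, r, h1, -, h3⟩ := g.2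
    exact Subtype.ext (by rw [SubmonoidClass.coe_pow, D.eich_pow_char Y.zz h1 h3 p]; rfl)
  have hle : Nat.card (D.eichSub (e := e) Y.zz) ≤ p := by
    rw [← orderOf_eq_card_of_forall_mem_zpowers hg]
    exact orderOf_le_of_pow_eq_one (Fact.out : p.Prime).pos hgp
  have hr : ∀ c d : F, T.fB (c • r₁ + d • r₂) z = 0 ∧ T.fB (c • r₁ + d • r₂) e = 0 := fun c d => by
    simp [Y.z1, Y.z2, Y.e1, Y.e2]
  choose k hk hkab hkx using fun cd : F × F => D.eichB Y.zz (hr cd.1 cd.2).1
  let φ : F × F → D.eichSub (e := e) Y.zz := fun cd =>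
    ⟨k cd, hk cd, _, (hr cd.1 cd.2).1, (hr cd.1 cd.2).2, hkab cd⟩
  obtain ⟨a₀, ha₀⟩ := D.nonzeroA
  have hφ : Function.Injective φ := by
    intro cd cd' h
    have h1 := LinearEquiv.congr_fun (congrArg Subtype.val h) (T.tau a₀ e)
    change k cd _ = k cd' _ at h1
    rw [hkab, hkab] at h1
    have h2 := D.tau_right_inj ha₀ h1
    have e1 := congrArg (fun x => T.fB x r₁) h2
    have e2 := congrArg (fun x => T.fB x r₂) h2
    simp only [eich_apply, map_add, map_sub, map_smul, LinearMap.add_apply, LinearMap.sub_apply,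
      LinearMap.smul_apply, smul_eq_mul, Y.ez, Y.o12, D.symB.symm r₁ r₂, D.symB.symm r₁ z, Y.z1,
      D.symB.symm r₂ z, Y.z2, mul_zero, add_zero, zero_add, sub_zero, one_mul, one_smul] at e1 e2
    refine Prod.ext ?_ ?_
    · exact mul_right_cancel₀ Y.n1 (by linear_combination e1)
    · exact mul_right_cancel₀ Y.n2 (by linear_combination e2)
  have h3 := Nat.card_le_card_of_injective φ hφ
  rw [Nat.card_prod] at h3
  have hpF : p ≤ Nat.card F := by
    cases nonempty_fintype F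
    obtain ⟨n, -, hn⟩ := FiniteField.card F p
    rw [Nat.card_eq_fintype_card, hn]
    exact Nat.le_self_pow n.pos.ne' p
  have h4 : 1 < Nat.card F := Finite.one_lt_card
  nlinarith

/-- commuting with an anisotropic Eichler element forces preserving its pencil -/
theorem pen_of_comm (D : MData T H) {z e r : B} (hz : T.fB z z = 0) (hze : T.fB z e = 1) (hrz : T.fB r z = 0)
    (hre : T.fB r e = 0) (hrr : T.fB r r ≠ 0) {n k : V ≃ₗ[F] V}
    (hkx : ∀ x, k x = x + T.tau (T.C z x) r - T.tau (T.C r x + (T.fB r r / 2) • T.C z x) z)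
    (hc : ∀ x, n (k x) = k (n x)) (a : A) : ∃ a', n (T.tau a z) = T.tau a' z := by
  have hez : T.fB e z = 1 := by rw [D.symB.symm, hze]
  have hzr : T.fB z r = 0 := by rw [D.symB.symm, hrz]
  have key : ∀ y, k (k y - y) - (k y - y) = T.tau (-(T.fB r r) • T.C z y) z := fun y => by
    conv_lhs => arg 1; rw [hkx (k y - y)]
    have e1 : T.C z (k y - y) = 0 := by rw [hkx]; simp [D.C_tau, hz, hrz]
    have e2 : T.C r (k y - y) = T.fB r r • T.C z y := by rw [hkx]; simp [D.C_tau, hzr]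
    rw [e1, e2]
    simp
  set y := T.tau (-(T.fB r r)⁻¹ • a) e with hy
  have h1 : k (k y - y) - (k y - y) = T.tau a z := by
    rw [key, hy, D.C_tau, hez, one_smul, smul_smul, neg_mul_neg, mul_inv_cancel₀ hrr, one_smul]
  refine ⟨-(T.fB r r) • T.C z (n y), ?_⟩
  rw [← h1, ← key]
  simp only [map_sub, hc]

/-- a map preserving a pencil preserves its orthogonal -/
theorem perp_of_pen (D : MData T H) {z : B} (hz0 : z ≠ 0) {n : V ≃ₗ[F] V} (hn : n ∈ H)
    (hpen : ∀ a, ∃ a', n (T.tau a z) = T.tau a' z) :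
    (∀ a, ∃ a', n⁻¹ (T.tau a z) = T.tau a' z) ∧ ∀ x, T.C z x = 0 → T.C z (n x) = 0 := by
  choose X hX using hpen
  have hinj : Function.Injective X := fun a a' h => D.tau_left_inj hz0 (n.injective (by rw [hX, hX, h]))
  haveI : Finite A := Module.finite_of_finite F
  have hsurj := (Finite.injective_iff_surjective (f := X)).1 hinj
  refine ⟨fun a => ?_, fun x hx => D.C_eq_zero fun a => ?_⟩
  · obtain ⟨a', rfl⟩ := hsurj a
    exact ⟨a', by rw [← hX, inv_ap]⟩
  · obtain ⟨a', rfl⟩ := hsurj a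
    rw [← hX, D.isom n hn, D.form_C, hx, map_zero, LinearMap.zero_apply]

/-- conjugation by pure Eichler elements preserves the fixer of a slice -/
theorem fixA_conj (D : MData T H) {a₀ : A} {z r : B} (hz : T.fB z z = 0) (hr : T.fB r z = 0)
    {k n : V ≃ₗ[F] V} (hk : k ∈ H) (hkab : ∀ a b, k (T.tau a b) = T.tau a (eich T.fB z r b))
    (hn : n ∈ fixA T H a₀) : k * n * k⁻¹ ∈ fixA T H a₀ := by
  refine ⟨mul_mem (mul_mem hk hn.1) (inv_mem hk), fun b => ?_⟩
  have hki : k⁻¹ (T.tau a₀ b) = T.tau a₀ (eich T.fB z (-r) b) := k.injective (by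
    rw [ap_inv, hkab, D.symB.eich_comp hz hr (by simp [hr]), add_neg_cancel, SymNd.eich_zero])
  show k (n (k⁻¹ (T.tau a₀ b))) = _
  rw [hki, hn.2, ← hki, ap_inv]

/-- a unipotent isometry of a three-space fixing an anisotropic vector -/
theorem unip_axis (D : MData T H) {α : Module.End F A} (hα : ∀ x y, T.fA (α x) (α y) = T.fA x y) {a : A}
    (ha : T.fA a a ≠ 0) (hfix : α a = a) {N : ℕ} (hN : (α - 1) ^ N = 0) : ∀ x, α x = x := by
  classical
  set M : Module.End F A := α - 1 with hM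
  have hs := D.symA.symm
  have hMx : ∀ x, α x = x + M x := fun x => by simp [hM]
  have hker : ∀ k x, M k = 0 → T.fA (M x) k = 0 := fun k x hk => by
    have h := hα x k
    rw [hMx x, hMx k, hk, add_zero, map_add, LinearMap.add_apply] at h
    linear_combination h
  by_contra hne
  push Not at hne
  obtain ⟨x₀, hx₀⟩ := hne
  have hM0 : M ≠ 0 := fun e => hx₀ (by rw [hMx, e]; simp)
  obtain ⟨m, hm, hm1, hm2⟩ : ∃ m, 1 ≤ m ∧ M ^ (m + 1) = 0 ∧ M ^ m ≠ 0 := by
    have hex : ∃ n, M ^ n = 0 := ⟨N, hN⟩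
    have h0 := Nat.find_spec hex
    have hmin := fun i => Nat.find_min hex (m := i)
    rcases hn : Nat.find hex with _ | _ | n
    · rw [hn, pow_zero] at h0
      exact absurd (by rw [← one_mul M, h0, zero_mul]) hM0
    · rw [hn, pow_one] at h0; exact absurd h0 hM0
    · exact ⟨n + 1, by omega, by rw [hn] at h0; exact h0, hmin _ (by omega)⟩
  obtain ⟨w, hw⟩ : ∃ w, (M ^ m) w ≠ 0 := by
    by_contra hall
    push Not at hall
    exact hm2 (LinearMap.ext hall)
  set z := (M ^ m) w with hz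
  have hMz : M z = 0 := by
    show (M * M ^ m) w = 0
    rw [← pow_succ', hm1]; rfl
  have hMa : M a = 0 := by simp [hM, hfix]
  obtain ⟨m', rfl⟩ : ∃ m', m = m' + 1 := ⟨m - 1, by omega⟩
  have hzr : z = M ((M ^ m') w) := by rw [hz, pow_succ']; rfl
  have hza : T.fA z a = 0 := by rw [hzr]; exact hker a _ hMa
  have hzz : T.fA z z = 0 := by
    conv_lhs => arg 1; rw [hzr]
    exact hker z _ hMz
  obtain ⟨u, huu, hzu, huz⟩ := D.symA.partner hw hzz
  have hind : LinearIndependent F ![a, z, u] := by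
    rw [Fintype.linearIndependent_iff]
    intro c hc
    simp only [Fin.sum_univ_three, Matrix.cons_val_zero, Matrix.cons_val_one, Matrix.cons_val_two,
      Matrix.head_cons, Matrix.tail_cons] at hc
    have k1 := congrArg (fun y => T.fA y z) hc
    simp only [map_add, map_smul, LinearMap.add_apply, LinearMap.smul_apply, smul_eq_mul, map_zero,
      LinearMap.zero_apply, hs z a, hza, hzz, huz, mul_zero, mul_one, zero_add] at k1
    have k0 := congrArg (fun y => T.fA y a) hc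
    simp only [map_add, map_smul, LinearMap.add_apply, LinearMap.smul_apply, smul_eq_mul, map_zero,
      LinearMap.zero_apply, hza, k1, mul_zero, zero_mul, add_zero] at k0
    have c0 := (mul_eq_zero.1 k0).resolve_right ha
    intro i
    fin_cases i
    · exact c0
    · rw [c0, k1, zero_smul, zero_smul, zero_add, add_zero] at hc
      exact (smul_eq_zero.1 hc).resolve_right hw
    · exact k1
  have hsp : Submodule.span F (Set.range ![a, z, u]) = ⊤ :=
    hind.span_eq_top_of_card_eq_finrank (by rw [D.dimA]; rfl)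
  have hline : ∀ x, M x = T.fA (M x) u • z := fun x => sub_eq_zero.1 (D.symA.nondeg _ fun y => by
    have hy : y ∈ Submodule.span F (Set.range ![a, z, u]) := by rw [hsp]; trivial
    induction hy using Submodule.span_induction with
    | mem y hy =>
        obtain ⟨i, rfl⟩ := hy
        fin_cases i <;>
          simp [hza, hzz, hzu, hker a x hMa, hker z x hMz, map_sub, map_smul]
    | zero => simp
    | add p q _ _ hp hq => rw [map_add, hp, hq, add_zero]
    | smul c p _ hp => rw [map_smul, hp, smul_zero])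
  have hMu : M u = 0 := by
    set c := T.fA (M u) u with hc
    have h := hα u u
    rw [hMx, hline u, ← hc] at h
    simp only [map_add, map_smul, LinearMap.add_apply, LinearMap.smul_apply, smul_eq_mul, hzz, hzu, huz,
      mul_zero, mul_one, add_zero] at h
    have h2 : (2 : F) * c = 0 := by linear_combination h
    rw [hline u, ← hc, (mul_eq_zero.1 h2).resolve_left D.symA.two, zero_smul]
  refine hM0 (LinearMap.ext fun x => ?_)
  have hx : x ∈ Submodule.span F (Set.range ![a, z, u]) := by rw [hsp]; trivial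
  induction hx using Submodule.span_induction with
  | mem y hy =>
      obtain ⟨i, rfl⟩ := hy
      fin_cases i
      exacts [hMa, hMz, hMu]
  | zero => simp
  | add p q _ _ hp hq => rw [map_add, hp, hq]; simp
  | smul c p _ hp => rw [map_smul, hp]; simp

/-- a `p`-element of the fixer of a slice commuting with the Eichler elements at a pair is trivial -/
theorem fix_p_trivial (D : MData T H) (hno : NoFrame T H) {z e r₁ r₂ : B} (Y : Hyp T z e r₁ r₂) {a₀ : A}
    (ha₀ : T.fA a₀ a₀ ≠ 0) {p : ℕ} [Fact p.Prime] [CharP F p] {n : V ≃ₗ[F] V} (hn : n ∈ fixA T H a₀)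
    (hc : ∀ k ∈ D.eichSub (e := e) Y.zz, n * k = k * n) {j : ℕ} (hj : n ^ p ^ j = 1) : n = 1 := by
  have hz0 : z ≠ 0 := fun h => by have := Y.ze; rw [h, map_zero] at this; exact zero_ne_one this
  have ha0 : a₀ ≠ 0 := fun h => ha₀ (by simp [h])
  obtain ⟨k1, hk1, hk1ab, hk1x⟩ := D.eichB Y.zz Y.z1
  obtain ⟨k2, hk2, hk2ab, hk2x⟩ := D.eichB Y.zz Y.z2
  have c1 : ∀ x, n (k1 x) = k1 (n x) := fun x =>
    LinearEquiv.congr_fun (hc k1 ⟨hk1, r₁, Y.z1, Y.e1, hk1ab⟩) x
  have c2 : ∀ x, n (k2 x) = k2 (n x) := fun x =>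
    LinearEquiv.congr_fun (hc k2 ⟨hk2, r₂, Y.z2, Y.e2, hk2ab⟩) x
  have hpen := D.pen_of_comm Y.zz Y.ze Y.z1 Y.e1 Y.n1 hk1x c1
  obtain ⟨-, hperp⟩ := D.perp_of_pen hz0 hn.1 hpen
  let X : Module.End F A := T.C e ∘ₗ (n : V →ₗ[F] V) ∘ₗ T.tau.flip z
  have hX : ∀ a, n (T.tau a z) = T.tau (X a) z := fun a => by
    obtain ⟨a', ha'⟩ := hpen a
    have : X a = a' := by
      show T.C e (n (T.tau a z)) = a'
      rw [ha', D.C_tau, Y.ze, one_smul]
    rw [this, ha']
  have hzr : ∀ r, T.fB r z = 0 → T.fB z r = 0 := fun r hr => by rw [D.symB.symm, hr]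
  have hmid : ∀ r (k : V ≃ₗ[F] V), T.fB r z = 0 →
      (∀ x, k x = x + T.tau (T.C z x) r - T.tau (T.C r x + (T.fB r r / 2) • T.C z x) z) →
      (∀ x, n (k x) = k (n x)) → ∀ x, T.C z x = 0 → T.C r (n x) = X (T.C r x) := by
    intro r k hr hkx hk x hx
    have h := hk x
    rw [hkx, hkx, hx, hperp x hx] at h
    simp only [map_zero, LinearMap.zero_apply, add_zero, smul_zero, map_sub, hX, sub_right_inj] at h
    exact (D.tau_left_inj hz0 h).symm
  have hX' : ∀ a, T.C z (n (T.tau a e)) = X a := by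
    intro a
    have h := congrArg (T.C r₁) (c1 (T.tau a e))
    rw [hk1x, hk1x (n (T.tau a e))] at h
    have er : T.C r₁ (n (T.tau a r₁)) = T.fB r₁ r₁ • X a := by
      rw [hmid r₁ k1 Y.z1 hk1x c1 _ (by rw [D.C_tau, Y.z1, zero_smul]), D.C_tau, map_smul]
    have her : T.fB e r₁ = 0 := by rw [D.symB.symm, Y.e1]
    simp only [D.C_tau, Y.ez, her, one_smul, zero_smul, zero_add, map_add, map_sub, map_smul,
      LinearMap.add_apply, LinearMap.smul_apply, hX, er, hzr _ Y.z1, smul_zero, add_zero, sub_zero] at h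
    exact (smul_right_injective A Y.n1 (add_left_cancel h)).symm
  have hXiso : ∀ a a', T.fA (X a) (X a') = T.fA a a' := fun a a' => by
    have h := D.isom n hn.1 (T.tau a e) (T.tau a' z)
    rw [hX, D.form_C, hX', D.form_tau, Y.ez, mul_one] at h
    exact h
  have hXa : X a₀ = a₀ := by
    show T.C e (n (T.tau a₀ z)) = a₀
    rw [hn.2, D.C_tau, Y.ze, one_smul]
  have hpow : ∀ (i : ℕ) a, (n ^ i) (T.tau a z) = T.tau ((X ^ i) a) z := by
    intro i
    induction i with
    | zero => intro a; rfl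
    | succ i ih => intro a; rw [pow_succ, LinearEquiv.mul_apply, hX, ih, pow_succ, Module.End.mul_apply]
  haveI : Nontrivial A := ⟨a₀, 0, ha0⟩
  haveI : CharP (Module.End F A) p :=
    charP_of_injective_algebraMap (algebraMap F (Module.End F A)).injective p
  have hXN : (X - 1) ^ p ^ j = 0 := by
    rw [sub_pow_char_pow_of_commute _ _ (Commute.one_right _), one_pow, sub_eq_zero]
    refine LinearMap.ext fun a => D.tau_left_inj hz0 ?_
    rw [← hpow, hj]
    rfl
  have hX1 := D.unip_axis hXiso ha₀ hXa hXN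
  refine D.rs_trivial hno Y hn.1 ⟨fun a => by rw [hX, hX1], fun x hx => ?_⟩ ha0 hn.2
  refine ⟨T.C e (n x - x), ?_⟩
  have h := D.decomp Y (n x - x)
  rw [map_sub (T.C z), hperp x hx, hx, sub_zero, map_zero, LinearMap.zero_apply, add_zero,
    map_sub (T.C r₁), map_sub (T.C r₂), hmid r₁ k1 Y.z1 hk1x c1 x hx, hX1, sub_self, smul_zero, map_zero,
    LinearMap.zero_apply, add_zero, hmid r₂ k2 Y.z2 hk2x c2 x hx, hX1, sub_self, smul_zero, map_zero,
    LinearMap.zero_apply, add_zero] at h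
  rw [← h, add_sub_cancel]

theorem eichSub_le_normalizer (D : MData T H) {z e r₁ r₂ : B} (Y : Hyp T z e r₁ r₂) (a₀ : A) :
    D.eichSub (e := e) Y.zz ≤ Subgroup.normalizer (fixA T H a₀ : Set (V ≃ₗ[F] V)) := by
  haveI : Finite V := Module.finite_of_finite F
  haveI : Finite (V ≃ₗ[F] V) := Finite.of_injective _ DFunLike.coe_injective
  rw [Subgroup.le_normalizer_iff]
  intro k hk n hn
  obtain ⟨hkH, r, h1, -, h3⟩ := hk
  exact D.fixA_conj Y.zz h1 hkH h3 hn

theorem eichSub_pGroup (D : MData T H) {z e : B} {hz : T.fB z z = 0} (p : ℕ) [CharP F p] :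
    IsPGroup p (D.eichSub (e := e) hz) := fun k => ⟨1, by
  obtain ⟨hk, r, h1, -, h3⟩ := k.2
  exact Subtype.ext (by rw [pow_one, SubmonoidClass.coe_pow, D.eich_pow_char hz h1 h3 p]; rfl)⟩

/-- the fixer of a slice has order prime to `p` -/
theorem fix_not_dvd (D : MData T H) (hno : NoFrame T H) {a₀ : A} (ha₀ : T.fA a₀ a₀ ≠ 0) (p : ℕ)
    [Fact p.Prime] [CharP F p] : ¬ p ∣ Nat.card (fixA T H a₀) := by
  intro hdvd
  haveI : Finite V := Module.finite_of_finite F
  haveI : Finite (V ≃ₗ[F] V) := Finite.of_injective _ DFunLike.coe_injective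
  obtain ⟨z, hz0, hz⟩ := D.symB.exists_iso_top (by rw [D.dimB]; norm_num)
  obtain ⟨e, r₁, r₂, Y⟩ := D.exists_hyp hz0 hz
  set N := fixA T H a₀ with hN
  set U := D.eichSub (e := e) Y.zz with hU
  have hUn := D.eichSub_le_normalizer Y a₀
  set G := N ⊔ U
  have hG : G ≤ Subgroup.normalizer (N : Set (V ≃ₗ[F] V)) := sup_le Subgroup.le_normalizer hUn
  haveI hNn : (N.subgroupOf G).Normal := Subgroup.normal_subgroupOf_of_le_normalizer hG
  have hUp : IsPGroup p (U.subgroupOf G) :=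
    (D.eichSub_pGroup p).comap_subtype
  obtain ⟨Q, hQ⟩ := hUp.exists_le_sylow
  obtain ⟨n, hn⟩ := exists_prime_orderOf_dvd_card' p hdvd
  let n' : G := ⟨n.1, Subgroup.mem_sup_left n.2⟩
  have hn'p : IsPGroup p (Subgroup.zpowers n') := by
    have ho : orderOf n' = p := by
      rw [← hn, ← Subgroup.orderOf_coe n', ← Subgroup.orderOf_coe n]
    refine IsPGroup.of_card (n := 1) ?_
    rw [Nat.card_zpowers, ho, pow_one]
  obtain ⟨Q', hQ'⟩ := hn'p.exists_le_sylow
  obtain ⟨g, hg⟩ := MulAction.exists_smul_eq G Q' Q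
  have hmem : g * n' * g⁻¹ ∈ (Q : Subgroup G) := by
    rw [← hg, Sylow.coe_subgroup_smul]
    exact ⟨n', hQ' (Subgroup.mem_zpowers _), rfl⟩
  have hmemN : g * n' * g⁻¹ ∈ N.subgroupOf G := hNn.conj_mem n' n.2 g
  haveI : Group.IsNilpotent (Q : Subgroup G) := Q.2.isNilpotent
  have hne : (N.subgroupOf G).subgroupOf (Q : Subgroup G) ≠ ⊥ := fun h => by
    have h1 : (⟨g * n' * g⁻¹, hmem⟩ : (Q : Subgroup G)) ∈ (N.subgroupOf G).subgroupOf (Q : Subgroup G) := hmemN
    rw [h, Subgroup.mem_bot, Subtype.ext_iff] at h1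
    have h2 : n' = 1 := by
      have := congrArg (fun x => g⁻¹ * x * g) h1
      simpa [mul_assoc] using this
    have h3 : n = 1 := Subtype.ext (congrArg Subtype.val h2 :)
    rw [h3, orderOf_one] at hn
    exact (Fact.out : p.Prime).one_lt.ne hn
  haveI : Nontrivial ↥((N.subgroupOf G).subgroupOf (Q : Subgroup G) ⊓ Subgroup.center (Q : Subgroup G)) :=
    (Subgroup.nontrivial_iff_ne_bot _).2 (CfsgLib.Solvable.normal_inf_center_ne_bot _ hne)
  obtain ⟨⟨c, hcN, hcC⟩, hc1⟩ := exists_ne (1 : ↥((N.subgroupOf G).subgroupOf (Q : Subgroup G) ⊓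
    Subgroup.center (Q : Subgroup G)))
  obtain ⟨j, hj⟩ := Q.2 c
  have hone := D.fix_p_trivial hno Y ha₀ (n := ((c : G) : V ≃ₗ[F] V)) hcN (fun k hk => ?_) (p := p) (j := j)
    (congrArg (fun x : (Q : Subgroup G) => ((x : G) : V ≃ₗ[F] V)) hj)
  · exact hc1 (Subtype.ext (Subtype.ext (Subtype.ext hone)))
  · let kG : G := ⟨k, Subgroup.mem_sup_right hk⟩
    have hkQ : kG ∈ (Q : Subgroup G) := hQ hk
    have h := Subgroup.mem_center_iff.1 hcC ⟨kG, hkQ⟩
    exact (congrArg (fun x : (Q : Subgroup G) => ((x : G) : V ≃ₗ[F] V)) h).symm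

/-- the fixer of a slice centralises the pure Eichler elements -/
theorem fix_comm (D : MData T H) (hno : NoFrame T H) {a₀ : A} (ha₀ : T.fA a₀ a₀ ≠ 0) {n : V ≃ₗ[F] V}
    (hn : n ∈ fixA T H a₀) {z r : B} (hz0 : z ≠ 0) (hz : T.fB z z = 0) (hr : T.fB r z = 0)
    {k : V ≃ₗ[F] V} (hk : k ∈ H) (hkab : ∀ a b, k (T.tau a b) = T.tau a (eich T.fB z r b)) :
    n * k = k * n := by
  haveI : Finite V := Module.finite_of_finite F
  haveI : Finite (V ≃ₗ[F] V) := Finite.of_injective _ DFunLike.coe_injective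
  obtain ⟨p, hp⟩ := CharP.exists F
  haveI := hp
  haveI : Fact p.Prime := ⟨CharP.char_is_prime F p⟩
  obtain ⟨e, r₁, r₂, Y⟩ := D.exists_hyp hz0 hz
  have ha0 : a₀ ≠ 0 := fun h => ha₀ (by simp [h])
  have hkU : k ∈ D.eichSub (e := e) hz := by
    refine ⟨hk, r + (-T.fB r e) • z, by simp [hr, hz], by simp [Y.ze], fun a b => ?_⟩
    rw [hkab, D.eich_shift hz hr]
  obtain ⟨m, hm⟩ := (IsPGroup.iff_card.1 (D.eichSub_pGroup (e := e) (hz := hz) p))
  have hcop : (Nat.card (D.eichSub (e := e) hz)).Coprime (Nat.card (fixA T H a₀)) := by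
    rw [hm]
    exact ((Fact.out : p.Prime).coprime_iff_not_dvd.2 (D.fix_not_dvd hno ha₀ p)).pow_left m
  have hle : fixA T H a₀ ≤ Subgroup.centralizer (D.eichSub (e := e) hz : Set (V ≃ₗ[F] V)) := by
    rw [← CfsgLib.Coprime.iSup_centralizer_eq D.eichSub_comm (D.eichSub_not_cyclic Y)
      (D.eichSub_le_normalizer Y a₀) hcop]
    refine iSup_le ?_
    rintro ⟨u, hu, hu1⟩ m ⟨hm, hmu⟩
    rw [Subgroup.mem_centralizer_iff]
    obtain ⟨huH, s, hs1, hs2, hs3⟩ := hu
    have hs0 : s ≠ 0 := fun h => hu1 (D.ext_lin fun a b => by rw [hs3, h, SymNd.eich_zero]; rfl)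
    obtain ⟨k0, -, hk0, hk0x⟩ := D.eichB hz hs1
    have huk : u = k0 := D.ext_lin fun a b => by rw [hs3, hk0]
    subst huk
    have hmc : ∀ x, m (u x) = u (m x) := fun x =>
      (LinearEquiv.congr_fun (Subgroup.mem_centralizer_singleton_iff.1 hmu) x)
    have hpen := D.pen_of_comm hz Y.ze hs1 hs2 (D.aniso_mid hz Y.ze hs1 hs2 hs0) hk0x hmc
    obtain ⟨hpeni, hperp⟩ := D.perp_of_pen hz0 hm.1 hpen
    obtain ⟨-, hperpi⟩ := D.perp_of_pen hz0 (inv_mem hm.1) hpeni
    intro k' hk'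
    obtain ⟨hk'H, t, ht1, ht2, ht3⟩ := hk'
    obtain ⟨k0', -, hk0', hk0'x⟩ := D.eichB hz ht1
    have huk' : k' = k0' := D.ext_lin fun a b => by rw [ht3, hk0']
    subst huk'
    have hpz : ∀ a, k' (T.tau a z) = T.tau a z := fun a => by rw [ht3, D.eich_self hz ht1]
    have hpzi : ∀ a, k'⁻¹ (T.tau a z) = T.tau a z := fun a => k'.injective (by rw [ap_inv, hpz])
    have hperpk : ∀ x, T.C z x = 0 → k' x = x - T.tau (T.C t x) z := fun x hx => by
      rw [hk0'x, hx]; simp
    set c := m * k' * m⁻¹ * k'⁻¹ with hcdef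
    have hcN : c ∈ fixA T H a₀ := by
      have := mul_mem hm (D.fixA_conj hz ht1 hk'H ht3 (inv_mem hm))
      rwa [show m * (k' * m⁻¹ * k'⁻¹) = c by rw [hcdef]; group] at this
    have hcS : RS T z c := by
      refine ⟨fun a => ?_, fun x hx => ?_⟩
      · show m (k' (m⁻¹ (k'⁻¹ (T.tau a z)))) = _
        obtain ⟨a', ha'⟩ := hpeni a
        rw [hpzi, ha', hpz, ← ha', ap_inv]
      · obtain ⟨y, rfl⟩ : ∃ y, k' (m y) = x := ⟨m⁻¹ (k'⁻¹ x), by rw [ap_inv, ap_inv]⟩
        have hy : T.C z y = 0 := by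
          have h1 : T.C z (m y) = 0 := by
            rw [hk0'x] at hx
            simpa [D.C_tau, hz, ht1] using hx
          have := hperpi _ h1
          rwa [inv_ap] at this
        show ∃ a, m (k' (m⁻¹ (k'⁻¹ (k' (m y))))) = _
        rw [inv_ap, inv_ap, hperpk y hy, hperpk _ (hperp y hy), map_sub]
        obtain ⟨a', ha'⟩ := hpen (T.C t y)
        rw [ha']
        exact ⟨T.C t (m y) - a', by simp⟩
    have hc1 : c = 1 := D.rs_trivial hno Y hcN.1 hcS ha0 hcN.2
    calc k' * m = 1 * (k' * m) := (one_mul _).symm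
      _ = c * (k' * m) := by rw [hc1]
      _ = m * k' := by rw [hcdef]; group
  exact (Subgroup.mem_centralizer_iff.1 (hle hn) k hkU).symm

/-- a map intertwining the Eichler elements is pure -/
theorem kron_of_intertwine (D : MData T H) {g : V ≃ₗ[F] V} {h : B →ₗ[F] B} {μ : F} (hμ : μ ≠ 0)
    (hh : ∀ b b', T.fB (h b) (h b') = μ * T.fB b b')
    (hint : ∀ z r, z ≠ 0 → T.fB z z = 0 → T.fB r z = 0 → ∀ k k' : V ≃ₗ[F] V,
      (∀ a b, k (T.tau a b) = T.tau a (eich T.fB z r b)) →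
      (∀ a b, k' (T.tau a b) = T.tau a (eich T.fB (h z) (μ⁻¹ • h r) b)) → k ∈ H → k' ∈ H →
      ∀ x, g (k x) = k' (g x)) : IsKron T g := by
  obtain ⟨z, hz0, hz⟩ := D.symB.exists_iso_top (by rw [D.dimB]; norm_num)
  obtain ⟨e, r₁, r₂, Y⟩ := D.exists_hyp hz0 hz
  have h2 := D.symB.two
  have hE : ∀ v r b, eich T.fB (h v) (μ⁻¹ • h r) (h b) = h (eich T.fB v r b) := fun v r b => by
    simp only [eich_apply, map_add, map_sub, map_smul, LinearMap.smul_apply, smul_eq_mul, hh, ← mul_assoc,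
      inv_mul_cancel₀ hμ, one_mul]
    match_scalars <;> field_simp
  have pencil : ∀ z e r₁ r₂, Hyp T z e r₁ r₂ →
      ∀ a, g (T.tau a z) = T.tau (T.C (μ⁻¹ • h e) (g (T.tau a z))) (h z) := by
    intro z e r₁ r₂ Y a
    have hz0 : z ≠ 0 := fun h => by have := Y.ze; rw [h, map_zero] at this; exact zero_ne_one this
    set y := g (T.tau a z) with hy
    have Y' : Hyp T (h z) (μ⁻¹ • h e) (h r₁) (h r₂) :=
      ⟨by rw [hh, Y.zz, mul_zero], by simp [hh, Y.ee], by simp [hh, Y.ze, hμ], by simp [hh, Y.ez, hμ],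
        by rw [hh, Y.z1, mul_zero], by simp [hh, Y.e1], by rw [hh, Y.z2, mul_zero], by simp [hh, Y.e2],
        by rw [hh, Y.o12, mul_zero], by rw [hh]; exact mul_ne_zero hμ Y.n1,
        by rw [hh]; exact mul_ne_zero hμ Y.n2⟩
    have key : ∀ r, T.fB r z = 0 → T.fB r r ≠ 0 → T.C (h z) y = 0 ∧ T.C (h r) y = 0 := by
      intro r hr hrr
      obtain ⟨k, hk, hkab, -⟩ := D.eichB Y.zz hr
      obtain ⟨k', hk', hk'ab, hk'x⟩ := D.eichB Y'.zz (r := μ⁻¹ • h r) (by simp [hh, hr])
      have hf := hint z r hz0 Y.zz hr k k' hkab hk'ab hk hk' (T.tau a z)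
      rw [hkab, D.eich_self Y.zz hr, ← hy, hk'x] at hf
      have hzr : T.fB (h z) (h r) = 0 := by rw [hh, D.symB.symm r z, hr, mul_zero]
      have e1 := congrArg (T.C (h r)) hf
      simp only [map_add, map_sub, D.C_tau, hzr, zero_smul, sub_zero, map_smul, LinearMap.add_apply,
        LinearMap.smul_apply, smul_zero, add_zero, smul_smul, smul_eq_mul, hh, ← mul_assoc,
        inv_mul_cancel₀ hμ, one_mul, left_eq_add] at e1
      have hz' := (smul_eq_zero.1 e1).resolve_left hrr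
      refine ⟨hz', ?_⟩
      have e2 := congrArg (T.C (μ⁻¹ • h e)) hf
      rw [hz'] at e2
      simp only [map_add, map_sub, map_zero, map_smul, LinearMap.zero_apply, smul_zero, add_zero, D.C_tau,
        LinearMap.smul_apply, smul_eq_mul, hh, Y.ze, mul_one, inv_mul_cancel₀ hμ, one_smul, D.C_smul] at e2
      exact (inv_smul_smul₀ hμ _).symm.trans
        ((smul_eq_zero.1 (sub_eq_self.1 e2.symm)).resolve_left (inv_ne_zero hμ))
    obtain ⟨e1, e2⟩ := key r₁ Y.z1 Y.n1
    obtain ⟨-, e3⟩ := key r₂ Y.z2 Y.n2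
    have := D.decomp Y' y
    rw [e1, e2, e3] at this
    simpa using this
  let Xz : A →ₗ[F] A := T.C (μ⁻¹ • h e) ∘ₗ (g : V →ₗ[F] V) ∘ₗ T.tau.flip z
  let Xe : A →ₗ[F] A := T.C (μ⁻¹ • h z) ∘ₗ (g : V →ₗ[F] V) ∘ₗ T.tau.flip e
  have hXz : ∀ a, g (T.tau a z) = T.tau (Xz a) (h z) := pencil z e r₁ r₂ Y
  have hXe : ∀ a, g (T.tau a e) = T.tau (Xe a) (h e) := pencil e z r₁ r₂ (Hyp.opp D Y)
  have hzr : ∀ z e r₁ r₂ (Y : Hyp T z e r₁ r₂) (Xz Xe : A →ₗ[F] A),
      (∀ a, g (T.tau a z) = T.tau (Xz a) (h z)) → (∀ a, g (T.tau a e) = T.tau (Xe a) (h e)) →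
      ∀ r, T.fB r z = 0 → T.fB r e = 0 → ∀ a, g (T.tau a r) =
        T.tau (Xe a) (h r) + T.tau ((T.fB r r / 2) • (Xz a - Xe a)) (h z) := by
    intro z e r₁ r₂ Y Xz Xe hXz hXe r hr hre a
    have hz0 : z ≠ 0 := fun h => by have := Y.ze; rw [h, map_zero] at this; exact zero_ne_one this
    obtain ⟨k, hk, hkab, -⟩ := D.eichB Y.zz hr
    obtain ⟨k', hk', hk'ab, -⟩ := D.eichB (v := h z) (by rw [hh, Y.zz, mul_zero]) (r := μ⁻¹ • h r)
      (by simp [hh, hr])
    have hf := hint z r hz0 Y.zz hr k k' hkab hk'ab hk hk' (T.tau a e)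
    rw [hkab, hXe, hk'ab, hE, eich_apply, Y.ez, D.symB.symm r e, hre, zero_add, one_smul, mul_one] at hf
    simp only [map_add, map_sub, map_smul, LinearMap.add_apply, LinearMap.sub_apply, LinearMap.smul_apply,
      hXe, hXz] at hf
    simp only [map_sub, map_smul, LinearMap.sub_apply, LinearMap.smul_apply]
    linear_combination (norm := module) hf
  have hX : ∀ a, Xz a = Xe a := fun a => by
    have e1 := hzr z e r₁ r₂ Y Xz Xe hXz hXe r₁ Y.z1 Y.e1 a
    have e2 := hzr e z r₁ r₂ (Hyp.opp D Y) Xe Xz hXe hXz r₁ Y.e1 Y.z1 a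
    rw [e1] at e2
    have e3 := congrArg (T.C (h r₁)) e2
    simp only [map_add, D.C_tau, hh, D.symB.symm r₁ z, Y.z1, D.symB.symm r₁ e, Y.e1, mul_zero, zero_smul,
      add_zero] at e3
    exact (smul_right_injective A (mul_ne_zero hμ Y.n1) e3).symm
  refine ⟨Xz, h, fun a b => ?_⟩
  have hb : b ∈ Submodule.span F (Set.range ![z, e, r₁, r₂]) := by rw [D.span_hyp Y]; trivial
  induction hb using Submodule.span_induction with
  | mem b hb =>
      obtain ⟨i, rfl⟩ := hb
      have e1 := hzr z e r₁ r₂ Y Xz Xe hXz hXe r₁ Y.z1 Y.e1 a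
      have e2 := hzr z e r₁ r₂ Y Xz Xe hXz hXe r₂ Y.z2 Y.e2 a
      rw [hX a, sub_self, smul_zero, map_zero, LinearMap.zero_apply, add_zero] at e1 e2
      fin_cases i
      · exact hXz a
      · rw [hX]; exact hXe a
      · rw [hX]; exact e1
      · rw [hX]; exact e2
  | zero => simp
  | add p q _ _ hp hq => simp [map_add, hp, hq]
  | smul c p _ hp => simp [map_smul, hp]

/-- an element mapping an anisotropic slice into another is pure -/
theorem kron_of_slice (D : MData T H) (hno : NoFrame T H) {g : V ≃ₗ[F] V} (hg : g ∈ H) {a a' : A}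
    (ha : T.fA a a ≠ 0) (ha' : T.fA a' a' ≠ 0) (hmap : ∀ b, ∃ b', g (T.tau a b) = T.tau a' b') :
    IsKron T g := by
  classical
  haveI : Finite V := Module.finite_of_finite F
  haveI : Finite B := Module.finite_of_finite F
  obtain ⟨p, hp⟩ := CharP.exists F
  haveI := hp
  haveI : Fact p.Prime := ⟨CharP.char_is_prime F p⟩
  have ha0 : a ≠ 0 := fun h => ha (by simp [h])
  have ha'0 : a' ≠ 0 := fun h => ha' (by simp [h])
  let h : B →ₗ[F] B := (T.fA a' a')⁻¹ • (T.C' a' ∘ₗ (g : V →ₗ[F] V) ∘ₗ T.tau a)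
  have hgab : ∀ b, g (T.tau a b) = T.tau a' (h b) := fun b => by
    obtain ⟨b', hb'⟩ := hmap b
    have : h b = b' := by
      show (T.fA a' a')⁻¹ • T.C' a' (g (T.tau a b)) = b'
      rw [hb', D.C'_tau, inv_smul_smul₀ ha']
    rw [this, hb']
  set μ := T.fA a a / T.fA a' a' with hμdef
  have hμ : μ ≠ 0 := div_ne_zero ha ha'
  have hh : ∀ b b', T.fB (h b) (h b') = μ * T.fB b b' := fun b b' => by
    have h1 := D.isom g hg (T.tau a b) (T.tau a b')
    rw [hgab, hgab, D.form_tau, D.form_tau] at h1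
    rw [hμdef, div_mul_eq_mul_div, eq_div_iff ha', mul_comm, h1]
  have hinj : Function.Injective h := fun b b' e => D.tau_right_inj ha0 (g.injective (by
    rw [hgab, hgab, e]))
  have hsurj := LinearMap.injective_iff_surjective.1 hinj
  refine D.kron_of_intertwine hμ hh fun z r hz0 hz hr k k' hkab hk'ab hk hk' => ?_
  have hhz0 : h z ≠ 0 := fun e => hz0 (hinj (e.trans h.map_zero.symm))
  have hhz : T.fB (h z) (h z) = 0 := by rw [hh, hz, mul_zero]
  have hhr : T.fB (μ⁻¹ • h r) (h z) = 0 := by simp [hh, hr]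
  have h2 := D.symB.two
  have hE : ∀ b, eich T.fB (h z) (μ⁻¹ • h r) (h b) = h (eich T.fB z r b) := fun b => by
    simp only [eich_apply, map_add, map_sub, map_smul, LinearMap.smul_apply, smul_eq_mul, hh, ← mul_assoc,
      inv_mul_cancel₀ hμ, one_mul]
    match_scalars <;> field_simp
  set w := g * k * g⁻¹ with hw
  have hwa : ∀ b, w (T.tau a' (h b)) = k' (T.tau a' (h b)) := fun b => by
    show g (k (g⁻¹ _)) = _
    rw [← hgab, inv_ap, hkab, hgab, hgab, hk'ab, hE]
  set n := k'⁻¹ * w with hn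
  have hnN : n ∈ fixA T H a' := ⟨mul_mem (inv_mem hk') (mul_mem (mul_mem hg hk) (inv_mem hg)), fun b => by
    obtain ⟨b, rfl⟩ := hsurj b
    show k'⁻¹ (w _) = _
    rw [hwa, inv_ap]⟩
  have hcomm : Commute k' n := (D.fix_comm hno ha' hnN hhz0 hhz hhr hk' hk'ab).symm
  have hwn : w = k' * n := by rw [hn, mul_inv_cancel_left]
  have hwp : w ^ p = 1 := by rw [hw, conj_pow, D.eich_pow_char hz hr hkab p, mul_one, mul_inv_cancel]
  have hnp : n ^ p = 1 := by
    have h1 := hwp
    rwa [hwn, hcomm.mul_pow, D.eich_pow_char hhz hhr hk'ab p, one_mul] at h1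
  have hn1 : n = 1 := by
    by_contra hne
    haveI : Finite (V ≃ₗ[F] V) := Finite.of_injective _ DFunLike.coe_injective
    have ho : orderOf (⟨n, hnN⟩ : fixA T H a') = p :=
      orderOf_eq_prime (Subtype.ext (by rw [SubmonoidClass.coe_pow, hnp]; rfl))
        fun e => hne (congrArg Subtype.val e)
    exact D.fix_not_dvd hno ha' p (ho ▸ orderOf_dvd_natCard _)
  intro x
  have h1 : w = k' := by rw [hwn, hn1, mul_one]
  have h2' := LinearEquiv.congr_fun h1 (g x)
  change g (k (g⁻¹ (g x))) = k' (g x) at h2'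
  rwa [inv_ap] at h2'

end MData

end CfsgLib.MaxSub.TForm
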