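import Cfsg.Agent.Lib.MaxSub.TFormOOKron

/-!
Orthogonal ⊗ orthogonal: one Siegel map at a singular pencil gives all Siegel transformations centred at
every doubly singular pure vector.
-/

set_option autoImplicit false
set_option linter.unusedSectionVars false
set_option linter.unusedSimpArgs false
set_option linter.unusedVariables false
set_option linter.style.haveILetI false
set_option maxHeartbeats 1000000

namespace CfsgLib.MaxSub.TForm

open Module

variable {F A B V : Type*} [Field F] [AddCommGroup A] [Module F A] [AddCommGroup B] [Module F B]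
  [AddCommGroup V] [Module F V]

/-- the rank two skew map of a pair -/
noncomputable def wedge (f : A →ₗ[F] A →ₗ[F] F) (p s : A) : A →ₗ[F] A :=
  (f.flip p).smulRight s - (f.flip s).smulRight p

theorem wedge_apply (f : A →ₗ[F] A →ₗ[F] F) (p s a : A) :
    wedge f p s a = f a p • s - f a s • p := rfl

/-- the long root map of two vectors -/
def rtMap (T : Sys F A B V (RingHom.id F)) (u w : V) : V → V :=
  fun x => x + T.form x u • w - T.form x w • u

/-- the Siegel map of `u` and `w` -/
def sigMap (T : Sys F A B V (RingHom.id F)) (u w : V) : V → V :=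
  fun x => x + T.form u x • w - (T.form w x + T.form w w / 2 * T.form u x) • u

/-- all Siegel maps centred at `u` lie in `H` -/
def FullAt (T : Sys F A B V (RingHom.id F)) (H : Subgroup (V ≃ₗ[F] V)) (u : V) : Prop :=
  ∀ w, T.form u w = 0 → InH H (sigMap T u w)

theorem SymNd.finrank_perp_pair {M : Type*} [AddCommGroup M] [Module F M] [FiniteDimensional F M]
    {f : M →ₗ[F] M →ₗ[F] F} (hS : SymNd f) {v u : M} (hv : f v v = 0) (hu : f u u = 0) (hvu : f v u = 1) :
    finrank F (perpV f ![v, u]) + 2 = finrank F M := by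
  have huv : f u v = 1 := by rw [hS.symm, hvu]
  let φ : M →ₗ[F] Fin 2 → F := LinearMap.pi fun i => f.flip (![v, u] i)
  have hr : LinearMap.range φ = ⊤ := LinearMap.range_eq_top.2 fun c =>
    ⟨c 0 • u + c 1 • v, funext fun i => by fin_cases i <;> simp [φ, hv, hu, hvu, huv]⟩
  have h := φ.finrank_range_add_finrank_ker
  rw [hr, finrank_top, Module.finrank_fin_fun] at h
  have h3 : finrank F (LinearMap.ker φ) = finrank F (perpV f ![v, u]) := rfl
  omega

namespace OData

variable {T : Sys F A B V (RingHom.id F)} {H : Subgroup (V ≃ₗ[F] V)}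
variable [Finite F] [FiniteDimensional F A] [FiniteDimensional F B] [FiniteDimensional F V]

theorem wedge_conj (D : OData T H) {g : A ≃ₗ[F] A} (hg : g ∈ egrp T.fA) (p s : A) :
    g.toLinearMap ∘ₗ wedge T.fA p s ∘ₗ g.symm.toLinearMap = wedge T.fA (g p) (g s) := by
  refine LinearMap.ext fun a => ?_
  obtain ⟨a, rfl⟩ := g.surjective a
  simp [wedge_apply, D.symA.egrp_isom hg]

theorem fr_wedge (D : OData T H) (z : B) (p s : A) (x : V) :
    fr T z (wedge T.fA p s) x = rtMap T (T.tau p z) (T.tau s z) x := by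
  simp only [fr, rtMap, wedge_apply, D.form_C, map_sub, map_smul, LinearMap.sub_apply, LinearMap.smul_apply]
  abel

/-- a Siegel map gives one of rank two at a singular vector of `A` -/
theorem wedge_seed (D : OData T H) (hno : ¬ NoFrame T H) :
    ∃ z, ∃ hz : T.fB z z = 0, z ≠ 0 ∧ ∃ v u s, v ≠ 0 ∧ T.fA v v = 0 ∧ T.fA u u = 0 ∧ T.fA v u = 1 ∧
      s ≠ 0 ∧ T.fA s v = 0 ∧ T.fA s u = 0 ∧ wedge T.fA v s ∈ D.frames z hz := by
  simp only [NoFrame, not_forall] at hno
  obtain ⟨z, hz0, hz, X, hX, hX0⟩ := hno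
  obtain ⟨v, hv0, hv⟩ := D.symA.exists_iso_top D.dimA
  obtain ⟨u, hu, hvu, huv⟩ := D.symA.partner hv0 hv
  obtain ⟨Y, hY, hY0, hfix⟩ := D.symA.exists_fixed_conj (u := u) hv (D.frames z hz) ⊥
    (fun g hg Y hY => D.frames_conj hg hY)
    (fun g hg Y hY => by
      rw [AddSubgroup.mem_bot] at hY
      rw [hY, AddSubgroup.mem_bot]
      ext a; simp) (X₀ := X) hX (by rwa [AddSubgroup.mem_bot])
  obtain ⟨r₀, hrv, hru, hYa⟩ := D.symA.fixed_skew D.dimA hv hu hvu huv (D.frames_skew hz0 hz hY)
    fun r hr hru a => by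
      obtain ⟨Z, hZ, hZa⟩ := hfix r hr hru
      rw [AddSubgroup.mem_bot] at hZ
      have := hZa a
      rwa [hZ, LinearMap.zero_apply, sub_eq_zero] at this
  have hYw : Y = wedge T.fA v r₀ := LinearMap.ext fun a => by rw [hYa, wedge_apply]
  refine ⟨z, hz, hz0, v, u, r₀, hv0, hv, hu, hvu, fun e => hY0 ?_, hrv, hru, hYw ▸ hY⟩
  rw [AddSubgroup.mem_bot, hYw, e]
  ext a; simp [wedge_apply]

/-- the rank two maps at one singular vector -/
theorem wedge_at (D : OData T H) {z : B} {hz : T.fB z z = 0} {v u s : A} (hv0 : v ≠ 0)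
    (hv : T.fA v v = 0) (hu : T.fA u u = 0) (hvu : T.fA v u = 1) (hs0 : s ≠ 0) (hsv : T.fA s v = 0)
    (hsu : T.fA s u = 0) (hs : wedge T.fA v s ∈ D.frames z hz) :
    ∀ s', T.fA s' v = 0 → wedge T.fA v s' ∈ D.frames z hz := by
  have h2 := D.symA.two
  have huv : T.fA u v = 1 := by rw [D.symA.symm, hvu]
  have hnd := D.symA.ndS_perp_pair hv hu hvu
  have hm := D.symA.finrank_perp_pair hv hu hvu
  have hA := D.dimA
  set A₀ := perpV T.fA ![v, u] with hA₀
  have hmem : ∀ {x : A}, x ∈ A₀ → T.fA x v = 0 ∧ T.fA x u = 0 := fun h => ⟨mem_perpV.1 h 0, mem_perpV.1 h 1⟩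
  have hsA : s ∈ A₀ := mem_perpV.2 fun i => by fin_cases i; exacts [hsv, hsu]
  have hadd : ∀ p q : A, wedge T.fA v p ∈ D.frames z hz → wedge T.fA v q ∈ D.frames z hz →
      wedge T.fA v (p + q) ∈ D.frames z hz := fun p q hp hq => by
    have e : wedge T.fA v (p + q) = wedge T.fA v p + wedge T.fA v q := LinearMap.ext fun a => by
      simp only [wedge_apply, LinearMap.add_apply, map_add, add_smul, smul_add]; abel
    rw [e]; exact add_mem hp hq
  have hneg : ∀ p : A, wedge T.fA v p ∈ D.frames z hz → wedge T.fA v (-p) ∈ D.frames z hz := fun p hp => by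
    have e : wedge T.fA v (-p) = -wedge T.fA v p := LinearMap.ext fun a => by
      simp [wedge_apply]
      abel
    rw [e]; exact neg_mem hp
  -- a torus element moves a member
  have htor : ∀ p ∈ A₀, wedge T.fA v p ∈ D.frames z hz → ∀ r ∈ A₀, T.fA r r ≠ 0 → ∀ r' ∈ A₀,
      T.fA r' r' ≠ 0 → wedge T.fA v ((T.fA r r / T.fA r' r') •
        ((p - (2 * T.fA p r / T.fA r r) • r) -
          (2 * T.fA (p - (2 * T.fA p r / T.fA r r) • r) r' / T.fA r' r') • r')) ∈ D.frames z hz := by
    intro p hp hpf r hr hrr r' hr' hrr'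
    obtain ⟨g, hg, hgv, hgs⟩ := D.symA.exists_torus hv hu hvu (hmem hr).1 (hmem hr).2 hrr (hmem hr').1
      (hmem hr').2 hrr'
    have h := D.frames_conj hg hpf
    rw [D.wedge_conj hg, hgv, hgs p (hmem hp).1 (hmem hp).2] at h
    convert h using 1
    refine LinearMap.ext fun a => ?_
    simp only [wedge_apply, map_smul, smul_eq_mul]
    module
  obtain ⟨r₀, hr₀, hr₀r⟩ := D.symA.exists_aniso hnd hsA hs0
  have hsq : ∀ p ∈ A₀, wedge T.fA v p ∈ D.frames z hz → ∀ l : F, wedge T.fA v (l • p) ∈ D.frames z hz := by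
    intro p hp hpf l
    have hone : ∀ c : F, wedge T.fA v ((c * c) • p) ∈ D.frames z hz := by
      intro c
      rcases eq_or_ne c 0 with rfl | hc
      · have e : wedge T.fA v ((0 * 0 : F) • p) = 0 := LinearMap.ext fun a => by simp [wedge_apply]
        rw [e]; exact zero_mem _
      have h := htor p hp hpf (c • r₀) (A₀.smul_mem c hr₀) (by simp [hc, hr₀r]) r₀ hr₀ hr₀r
      convert h using 2
      simp only [map_sub, map_smul, LinearMap.sub_apply, LinearMap.smul_apply, smul_eq_mul]
      match_scalars <;> field_simp <;> ring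
    have h := hadd _ _ (hone ((l + 1) / 2)) (hneg _ (hone ((l - 1) / 2)))
    convert h using 2
    match_scalars
    field_simp
    ring
  let W : Submodule F A :=
    { carrier := {p | p ∈ A₀ ∧ wedge T.fA v p ∈ D.frames z hz}
      add_mem' := fun {p q} hp hq => ⟨A₀.add_mem hp.1 hq.1, hadd p q hp.2 hq.2⟩
      zero_mem' := ⟨A₀.zero_mem, by
        have e : wedge T.fA v (0 : A) = 0 := LinearMap.ext fun a => by simp [wedge_apply]
        rw [e]; exact zero_mem _⟩
      smul_mem' := fun l p hp => ⟨A₀.smul_mem l hp.1, hsq p hp.1 hp.2 l⟩ }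
  have hsW : s ∈ W := ⟨hsA, hs⟩
  -- with an anisotropic vector orthogonal to a member, all anisotropic vectors seen by it are members
  have step : ∀ p ∈ W, ∀ r ∈ A₀, T.fA r r ≠ 0 → T.fA p r = 0 → ∀ x ∈ A₀, T.fA x x ≠ 0 →
      T.fA p x ≠ 0 → x ∈ W := by
    intro p hp r hr hrr hpr x hx hxx hpx
    have h := htor p hp.1 hp.2 r hr hrr x hx hxx
    rw [hpr, mul_zero, zero_div, zero_smul, sub_zero] at h
    have hc : T.fA r r / T.fA x x ≠ 0 := div_ne_zero hrr hxx
    have h' : p - (2 * T.fA p x / T.fA x x) • x ∈ W := by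
      have := W.smul_mem (T.fA r r / T.fA x x)⁻¹ (⟨A₀.smul_mem _ (A₀.sub_mem hp.1 (A₀.smul_mem _ hx)), h⟩ :
        (T.fA r r / T.fA x x) • (p - (2 * T.fA p x / T.fA x x) • x) ∈ W)
      rwa [inv_smul_smul₀ hc] at this
    have h'' := W.smul_mem (2 * T.fA p x / T.fA x x)⁻¹ (W.sub_mem hp h')
    rwa [sub_sub_cancel, inv_smul_smul₀ (div_ne_zero (mul_ne_zero h2 hpx) hxx)] at h''
  have hall : A₀ ≤ W := by
    by_cases h3 : finrank F A = 3
    · have hsub : Submodule.span F ({s} : Set A) ≤ A₀ := (Submodule.span_singleton_le_iff_mem _ _).2 hsA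
      have e := Submodule.eq_of_le_of_finrank_le hsub (by rw [finrank_span_singleton hs0]; omega)
      rw [← e]
      exact (Submodule.span_singleton_le_iff_mem _ _).2 hsW
    have hline : ∀ q ∈ A₀, T.fA q q = 0 → q ≠ 0 → finrank F A = 4 → False := fun q hq hqq hq0 h4 => by
      obtain ⟨c, hc⟩ := Submodule.mem_span_singleton.1
        (D.minus h4 v q hv hqq (by rw [D.symA.symm]; exact (hmem hq).1) hv0)
      have h := (hmem hq).2
      rw [← hc, map_smul, LinearMap.smul_apply, smul_eq_mul, hvu, mul_one] at h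
      exact hq0 (by rw [← hc, h, zero_smul])
    -- an anisotropic member
    obtain ⟨r, hr, hrr, hsr⟩ : ∃ r ∈ A₀, T.fA r r ≠ 0 ∧ T.fA s r = 0 := by
      by_cases hss : T.fA s s = 0
      · have h5 : 5 ≤ finrank F A := by
          by_contra hlt
          exact hline s hsA hss hs0 (by omega)
        obtain ⟨y, hy, hsy⟩ : ∃ y ∈ A₀, T.fA s y ≠ 0 := by
          by_contra hh
          simp only [not_exists, not_and, not_not] at hh
          exact hs0 (hnd s hsA hh)
        set y₁ := (T.fA s y)⁻¹ • y with hy₁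
        have hy1 : T.fA s y₁ = 1 := by rw [hy₁, map_smul, smul_eq_mul, inv_mul_cancel₀ hsy]
        set s' := y₁ - (T.fA y₁ y₁ / 2) • s with hs'
        have hs's' : T.fA s' s' = 0 := by
          simp only [hs', map_sub, map_smul, LinearMap.sub_apply, LinearMap.smul_apply, smul_eq_mul, hss,
            hy1, D.symA.symm s y₁]
          field_simp
          ring
        have hss' : T.fA s s' = 1 := by simp [hs', hy1, hss]
        have hs'A : s' ∈ A₀ := A₀.sub_mem (A₀.smul_mem _ hy) (A₀.smul_mem _ hsA)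
        have d1 := SymNd.finrank_cut (f := T.fA) A₀ ![s, s']
        obtain ⟨r, hr, hrr⟩ := D.symA.exists_aniso_of_pos
          (D.symA.ndS_cut_pair hnd hsA hs'A hss hs's' hss') (by omega)
        exact ⟨r, hr.1, hrr, by rw [D.symA.symm]; exact mem_perpV.1 hr.2 0⟩
      · have d1 := SymNd.finrank_cut (f := T.fA) A₀ ![s]
        obtain ⟨r, hr, hrr⟩ := D.symA.exists_aniso_of_pos (D.symA.ndS_cut hnd hsA hss) (by omega)
        exact ⟨r, hr.1, hrr, by rw [D.symA.symm]; exact mem_perpV.1 hr.2 0⟩
    obtain ⟨e, hev, heu, hee, hse⟩ := D.symA.aniso_in_perp hv hu hvu huv hsv hsu hs0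
    have heA : e ∈ A₀ := mem_perpV.2 fun i => by fin_cases i; exacts [hev, heu]
    have heW : e ∈ W := step s hsW r hr hrr hsr e heA hee hse
    have ndE := D.symA.ndS_cut hnd heA hee
    have dE := SymNd.finrank_cut (f := T.fA) A₀ ![e]
    obtain ⟨r', hr', hrr'⟩ := D.symA.exists_aniso_of_pos ndE (by omega)
    have hseen : ∀ x ∈ A₀, T.fA x x ≠ 0 → T.fA e x ≠ 0 → x ∈ W := fun x hx hxx hex =>
      step e heW r' hr'.1 hrr' (by rw [D.symA.symm]; exact mem_perpV.1 hr'.2 0) x hx hxx hex
    have hanis : ∀ y ∈ A₀, T.fA y y ≠ 0 → y ∈ W := by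
      intro y hy hyy
      by_cases hey : T.fA e y = 0
      swap
      · exact hseen y hy hyy hey
      by_cases hsum : T.fA e e + T.fA y y = 0
      swap
      · have h := W.sub_mem (hseen (e + y) (A₀.add_mem heA hy)
          (by simpa [hey, D.symA.symm e y] using hsum) (by simpa [hey] using hee)) heW
        simpa using h
      have hne : e + y ≠ 0 := fun h0 => by
        have := congrArg (fun t => T.fA e t) h0
        simp [hey, hee] at this
      have h5 : 5 ≤ finrank F A := by
        by_contra hlt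
        exact hline (e + y) (A₀.add_mem heA hy) (by simpa [hey, D.symA.symm e y] using hsum) hne (by omega)
      have hyE : y ∈ A₀ ⊓ perpV T.fA ![e] := ⟨hy, mem_perpV.2 fun i => by
        fin_cases i; simpa [D.symA.symm e y] using hey⟩
      have dY := SymNd.finrank_cut (f := T.fA) (A₀ ⊓ perpV T.fA ![e]) ![y]
      obtain ⟨t, ht, htt⟩ := D.symA.exists_aniso_of_pos (D.symA.ndS_cut ndE hyE hyy) (by omega)
      have hte : T.fA t e = 0 := mem_perpV.1 ht.1.2 0
      have hty : T.fA t y = 0 := mem_perpV.1 ht.2 0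
      have hsgn : ∀ c : F, c * c = 1 → e + y + c • t ∈ W := fun c hc => by
        refine hseen _ (A₀.add_mem (A₀.add_mem heA hy) (A₀.smul_mem c ht.1.1)) ?_ ?_
        · simp only [map_add, map_smul, LinearMap.add_apply, LinearMap.smul_apply, smul_eq_mul, hey,
            D.symA.symm e y, D.symA.symm t e, D.symA.symm t y, hte, hty]
          intro h0
          exact htt (by linear_combination h0 - hsum - (T.fA t t) * hc)
        · simp [hey, D.symA.symm t e, hte, hee]
      have h := W.sub_mem (W.smul_mem (2 : F)⁻¹ (W.add_mem (hsgn 1 (by ring)) (hsgn (-1) (by ring)))) heW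
      convert h using 1
      match_scalars <;> field_simp <;> ring
    intro y hy
    by_cases hyy : T.fA y y = 0
    swap
    · exact hanis y hy hyy
    by_cases h1 : T.fA (y + e) (y + e) = 0
    · have h : y - e ∈ W := hanis _ (A₀.sub_mem hy heA) fun h0 => hee (by
        simp only [map_add, map_sub, LinearMap.add_apply, LinearMap.sub_apply, hyy] at h1 h0
        exact (mul_eq_zero.1 (show (2 : F) * T.fA e e = 0 by linear_combination h1 + h0)).resolve_left h2)
      simpa using W.add_mem h heW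
    · simpa using W.sub_mem (hanis _ (A₀.add_mem hy heA) h1) heW
  intro s' hs'
  have h : s' - T.fA s' u • v ∈ A₀ := mem_perpV.2 fun i => by fin_cases i <;> simp [hs', hv, hvu]
  have e : wedge T.fA v s' = wedge T.fA v (s' - T.fA s' u • v) := LinearMap.ext fun a => by
    simp only [wedge_apply, map_sub, map_smul, smul_eq_mul]; module
  rw [e]
  exact (hall h).2

/-- all rank two maps at one pencil -/
theorem wedge_pencil (D : OData T H) {z : B} {hz : T.fB z z = 0} {v : A} (hv0 : v ≠ 0)
    (hv : T.fA v v = 0) (hall : ∀ s', T.fA s' v = 0 → wedge T.fA v s' ∈ D.frames z hz) (p s : A) :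
    wedge T.fA p s ∈ D.frames z hz := by
  have h2 := D.symA.two
  -- at every singular vector
  have hsing : ∀ p, T.fA p p = 0 → ∀ s, T.fA s p = 0 → wedge T.fA p s ∈ D.frames z hz := by
    intro p hp s hs
    rcases eq_or_ne p 0 with rfl | hp0
    · have e : wedge T.fA (0 : A) s = 0 := LinearMap.ext fun a => by simp [wedge_apply]
      rw [e]; exact zero_mem _
    obtain ⟨g, hg, c, hc, hgv⟩ := D.symA.exists_move D.dimA hv0 hv hp0 hp
    have hs' : T.fA (g.symm (c⁻¹ • s)) v = 0 := by
      rw [← D.symA.egrp_isom hg, LinearEquiv.apply_symm_apply, hgv]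
      simp [hs]
    have h := D.frames_conj hg (hall _ hs')
    rw [D.wedge_conj hg, LinearEquiv.apply_symm_apply, hgv] at h
    convert h using 1
    refine LinearMap.ext fun a => ?_
    simp only [wedge_apply, map_smul, smul_eq_mul]
    match_scalars <;> field_simp
  have hsing' : ∀ p, T.fA p p = 0 → ∀ s, wedge T.fA p s ∈ D.frames z hz := by
    intro p hp s
    rcases eq_or_ne p 0 with rfl | hp0
    · have e : wedge T.fA (0 : A) s = 0 := LinearMap.ext fun a => by simp [wedge_apply]
      rw [e]; exact zero_mem _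
    obtain ⟨u, hu, hpu, hup⟩ := D.symA.partner hp0 hp
    have := D.symA.finrank_perp_pair hp hu hpu
    have hA := D.dimA
    obtain ⟨x, hx, hxx⟩ := D.symA.exists_aniso_of_pos (D.symA.ndS_perp_pair hp hu hpu) (by omega)
    have hxp : T.fA x p = 0 := mem_perpV.1 hx 0
    have hxu : T.fA x u = 0 := mem_perpV.1 hx 1
    set q := T.fA x x with hqdef
    set v' := p + x - (q / 2) • u with hv'
    set k := T.fA s p with hk
    set s₁ := (k / q) • (x - q • u) with hs₁
    have hv'v' : T.fA v' v' = 0 := by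
      simp only [hv', map_add, map_sub, map_smul, LinearMap.add_apply, LinearMap.sub_apply,
        LinearMap.smul_apply, smul_eq_mul, hp, hu, hpu, hup, hxp, hxu, D.symA.symm x p, D.symA.symm x u,
        ← hqdef]
      field_simp
      ring
    have hs₁v : T.fA s₁ v' = 0 := by
      simp only [hs₁, hv', map_add, map_sub, map_smul, LinearMap.add_apply, LinearMap.sub_apply,
        LinearMap.smul_apply, smul_eq_mul, hu, hup, hxp, hxu, D.symA.symm x u, ← hqdef]
      ring
    have hA1 := hsing v' hv'v' s₁ hs₁v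
    have hA2 := hsing p hp ((k / q) • x + (s - k • u)) (by simp [hxp, hup, hk])
    have hA3 := hsing u hu ((k / 2) • x) (by simp [hxu])
    have e : wedge T.fA p s = wedge T.fA p ((k / q) • x + (s - k • u)) + wedge T.fA u ((k / 2) • x) -
        wedge T.fA v' s₁ := LinearMap.ext fun a => by
      simp only [wedge_apply, hv', hs₁, LinearMap.sub_apply, LinearMap.add_apply, map_add, map_sub,
        map_smul, smul_eq_mul]
      match_scalars <;> field_simp <;> ring
    rw [e]
    exact sub_mem (add_mem hA2 hA3) hA1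
  let P : Submodule F A :=
    { carrier := {p | ∀ s, wedge T.fA p s ∈ D.frames z hz}
      add_mem' := fun {p q} hp hq s => by
        have e : wedge T.fA (p + q) s = wedge T.fA p s + wedge T.fA q s := LinearMap.ext fun a => by
          simp only [wedge_apply, LinearMap.add_apply, map_add, add_smul, smul_add]; abel
        rw [e]; exact add_mem (hp s) (hq s)
      zero_mem' := fun s => by
        have e : wedge T.fA (0 : A) s = 0 := LinearMap.ext fun a => by simp [wedge_apply]
        rw [e]; exact zero_mem _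
      smul_mem' := fun c p hp s => by
        have e : wedge T.fA (c • p) s = wedge T.fA p (c • s) := LinearMap.ext fun a => by
          simp [wedge_apply, smul_smul, mul_comm]
        rw [e]; exact hp _ }
  have hle : Submodule.span F {x : A | x ∈ (⊤ : Submodule F A) ∧ T.fA x x = 0} ≤ P :=
    Submodule.span_le.2 fun x hx => hsing' x hx.2
  exact hle (D.symA.iso_span D.symA.ndS_top (d := v) Submodule.mem_top hv0 hv Submodule.mem_top) s

/-- a Siegel map gives all rank two ones at all singular pencils -/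
theorem wedge_all (D : OData T H) (hno : ¬ NoFrame T H) {z : B} (hz : T.fB z z = 0) (p s : A) :
    wedge T.fA p s ∈ D.frames z hz := by
  obtain ⟨z₀, hz₀, hz₀0, v, u, s₀, hv0, hv, hu, hvu, hs0, hsv, hsu, hmem⟩ := D.wedge_seed hno
  have h0 := D.wedge_pencil hv0 hv (D.wedge_at hv0 hv hu hvu hs0 hsv hsu hmem)
  rcases eq_or_ne z 0 with rfl | hz0
  · exact ⟨1, one_mem _, fun x => by simp [fr]⟩
  obtain ⟨g, hg, c, hc, hgz⟩ := D.symB.exists_move (by have := D.dimB; omega) hz₀0 hz₀ hz0 hz
  obtain ⟨k, hk, hkab⟩ := D.pureB hg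
  obtain ⟨t, ht, htx⟩ := h0 ((c * c)⁻¹ • p) s
  refine ⟨k * t * k⁻¹, mul_mem (mul_mem hk ht) (inv_mem hk), fun x => ?_⟩
  show k (t (k⁻¹ x)) = _
  rw [htx, fr, fr, map_add, ap_inv, hkab, hgz, D.C_pureB_inv (D.symB.egrp_isom hg) hkab, hgz, D.C_smul,
    LinearMap.smul_apply]
  simp only [wedge_apply, map_sub, map_smul, LinearMap.sub_apply, LinearMap.smul_apply, smul_eq_mul]
  match_scalars <;> field_simp

/-- the commutator of two root maps -/
theorem rt_comm (D : OData T H) {p₁ p₂ p₃ p₄ : V} (h11 : T.form p₁ p₁ = 0) (h22 : T.form p₂ p₂ = 0)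
    (h33 : T.form p₃ p₃ = 0) (h44 : T.form p₄ p₄ = 0) (h12 : T.form p₁ p₂ = 0) (h34 : T.form p₃ p₄ = 0)
    (h13 : T.form p₁ p₃ = 0) (h14 : T.form p₁ p₄ = 0) (h24 : T.form p₂ p₄ = 0) (h23 : T.form p₂ p₃ = 1)
    (hg : InH H (rtMap T p₁ p₂)) (hk : InH H (rtMap T p₃ p₄)) : InH H (rtMap T p₁ p₄) := by
  obtain ⟨g, hg, hgx⟩ := hg
  obtain ⟨k, hk, hkx⟩ := hk
  refine ⟨k * g * k⁻¹ * g⁻¹, mul_mem (mul_mem (mul_mem hk hg) (inv_mem hk)) (inv_mem hg), fun x => ?_⟩
  obtain ⟨x, rfl⟩ := (g * k).surjective x
  show k (g (k⁻¹ (g⁻¹ (g (k x))))) = _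
  rw [inv_ap, inv_ap]
  show k (g x) = rtMap T p₁ p₄ (g (k x))
  simp only [hgx, hkx, rtMap, map_add, map_sub, map_smul, LinearMap.add_apply, LinearMap.sub_apply,
    LinearMap.smul_apply, smul_eq_mul, h11, h22, h33, h44, h12, h34, h13, h14, h24, h23,
    D.formV_symm p₁ p₂, D.formV_symm p₁ p₃, D.formV_symm p₁ p₄, D.formV_symm p₂ p₃, D.formV_symm p₂ p₄,
    D.formV_symm p₃ p₄]
  module

/-- all Siegel maps centred at a doubly singular pure vector -/
theorem full_pure (D : OData T H) (hno : ¬ NoFrame T H) {v : A} (hv0 : v ≠ 0) (hv : T.fA v v = 0)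
    {z : B} (hz0 : z ≠ 0) (hz : T.fB z z = 0) : FullAt T H (T.tau v z) := by
  have h2 := D.symA.two
  set u := T.tau v z with hudef
  have huu : T.form u u = 0 := by rw [hudef, D.form_tau, hv, zero_mul]
  have hframe : ∀ e : B, T.fB e e = 0 → ∀ p s, InH H (rtMap T (T.tau p e) (T.tau s e)) := fun e he p s =>
    InH.congr (D.wedge_all hno he p s) (D.fr_wedge e p s)
  let R : AddSubgroup V :=
    { carrier := {w | T.form u w = 0 ∧ InH H (sigMap T u w)}
      zero_mem' := ⟨map_zero _, 1, one_mem _, fun x => by simp [sigMap]⟩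
      add_mem' := fun {w w'} hw hw' => ⟨by rw [map_add, hw.1, hw'.1, add_zero],
        (hw.2.comp hw'.2).congr fun x => by
          simp only [sigMap, map_add, map_sub, map_smul, LinearMap.add_apply, LinearMap.sub_apply,
            LinearMap.smul_apply, smul_eq_mul, huu, hw.1, hw'.1, D.formV_symm u w, D.formV_symm u w',
            D.formV_symm w w']
          match_scalars <;> field_simp <;> ring⟩
      neg_mem' := fun {w} hw => ⟨by rw [map_neg, hw.1, neg_zero], by
        obtain ⟨g, hg, hgx⟩ := hw.2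
        refine ⟨g⁻¹, inv_mem hg, fun x => g.injective ?_⟩
        rw [ap_inv, hgx]
        simp only [sigMap, map_add, map_sub, map_smul, map_neg, LinearMap.neg_apply, smul_eq_mul, huu,
          hw.1, D.formV_symm u w]
        match_scalars <;> field_simp <;> ring⟩ }
  have hroot : ∀ w, T.form u w = 0 → T.form w w = 0 → InH H (rtMap T u w) → w ∈ R := fun w h h' hm =>
    ⟨h, hm.congr fun x => by
      simp [sigMap, rtMap, h', D.formV_symm x u, D.formV_symm x w]⟩
  have hpen : ∀ a, T.tau a z ∈ R := fun a => hroot _ (by rw [hudef, D.form_tau, hz, mul_zero])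
    (by rw [D.form_tau, hz, mul_zero]) (hframe z hz v a)
  obtain ⟨v', hv'v', hvv', hv'v⟩ := D.symA.partner hv0 hv
  obtain ⟨e, hee, hze, hez⟩ := D.symB.partner hz0 hz
  -- `v⊥ ⊗ e'` for a singular `e'` seen by `z`
  have hstep : ∀ s e', T.fA s v = 0 → T.fB e' e' = 0 → T.fB z e' = 1 → InH H (rtMap T u (T.tau s e')) := by
    intro s e' hs hee' hze'
    obtain ⟨c, hcv, hc⟩ : ∃ c, T.fA c v = 0 ∧ c ∉ Submodule.span F ({s} : Set A) := by
      by_contra hh
      simp only [not_exists, not_and, not_not] at hh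
      have d1 := le_finrank_perpV (f := T.fA) ![v]
      have d2 := Submodule.finrank_mono (show perpV T.fA ![v] ≤ Submodule.span F ({s} : Set A) from
        fun x hx => hh x (mem_perpV.1 hx 0))
      have d3 : finrank F (Submodule.span F ({s} : Set A)) ≤ 1 := by
        have := finrank_span_finset_le_card (R := F) ({s} : Finset A)
        rw [Finset.coe_singleton, Finset.card_singleton] at this
        exact this
      have := D.dimA
      omega
    obtain ⟨φ, hφ, hφs⟩ := Submodule.exists_le_ker_of_notMem hc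
    obtain ⟨a, ha⟩ := exists_repr (σ := RingHom.id F) (fun _ => rfl) T.fA D.symA.nondeg ((φ c)⁻¹ • φ)
    have hca : T.fA a c = 1 := by rw [D.symA.symm, ha]; simp [hφ]
    have hsa : T.fA a s = 0 := by
      rw [D.symA.symm, ha, LinearMap.smul_apply, show φ s = 0 from hφs (Submodule.mem_span_singleton_self s),
        smul_zero]
    refine D.rt_comm (p₂ := T.tau a z) (p₃ := T.tau c e') ?_ ?_ ?_ ?_ ?_ ?_ ?_ ?_ ?_ ?_
      (hframe z hz v a) (hframe e' hee' c s)
    all_goals
      simp [hudef, D.form_tau, hv, hz, hee', D.symA.symm c v, hcv, D.symA.symm s v, hs, hsa, hze', hca]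
  have hperpB : ∀ s b, T.fA s v = 0 → T.tau s b ∈ R := by
    intro s b hs
    let X : Submodule F B :=
      { carrier := {b | ∀ l : F, T.tau s (l • b) ∈ R}
        add_mem' := fun {b b'} hb hb' l => by
          rw [smul_add, map_add]; exact R.add_mem (hb l) (hb' l)
        zero_mem' := fun l => by simp
        smul_mem' := fun m b hb l => by rw [smul_smul]; exact hb _ }
    have hXz : z ∈ X := fun l => by
      have := hpen (l • s)
      simpa using this
    have hXs : ∀ e', T.fB e' e' = 0 → T.fB z e' ≠ 0 → e' ∈ X := fun e' hee' hne l => by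
      have hm := hstep ((l * T.fB z e') • s) ((T.fB z e')⁻¹ • e') (by simp [hs]) (by simp [hee'])
        (by simp [hne])
      have := hroot _ (by simp [hudef, D.form_tau, D.symA.symm s v, hs])
        (by simp [D.form_tau, hee']) hm
      have e1 : T.tau s (l • e') = T.tau ((l * T.fB z e') • s) ((T.fB z e')⁻¹ • e') := by
        simp only [map_smul, LinearMap.smul_apply, smul_smul]
        congr 1
        field_simp
      rw [e1]; exact this
    have hX : ∀ b, b ∈ X := by
      intro b
      have key : ∀ b, T.fB b z ≠ 0 → b ∈ X := fun b hne => by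
        set c := T.fB b b / (2 * T.fB b z) with hc
        have h := hXs (b - c • z) (by
          simp only [map_sub, map_smul, LinearMap.sub_apply, LinearMap.smul_apply, smul_eq_mul, hz,
            D.symB.symm b z, hc]
          field_simp
          ring) (by simpa [hz, D.symB.symm b z] using hne)
        simpa using X.add_mem h (X.smul_mem c hXz)
      by_cases hne : T.fB b z = 0
      · simpa using X.sub_mem (key (b + e) (by simp [hne, hez])) (key e (by rw [hez]; exact one_ne_zero))
      · exact key b hne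
    simpa using hX b 1
  -- `A ⊗ z⊥`
  obtain ⟨c, hcv, hcne⟩ : ∃ c, T.fA c v = 0 ∧ c ∉ Submodule.span F ({v} : Set A) := by
    by_contra hh
    simp only [not_exists, not_and, not_not] at hh
    have d1 := le_finrank_perpV (f := T.fA) ![v]
    have d2 := Submodule.finrank_mono (show perpV T.fA ![v] ≤ Submodule.span F ({v} : Set A) from
      fun x hx => hh x (mem_perpV.1 hx 0))
    rw [finrank_span_singleton hv0] at d2
    have := D.dimA
    omega
  have hAperp : ∀ a d, T.fB d z = 0 → T.tau a d ∈ R := by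
    intro a d hd
    let X : Submodule F B :=
      { carrier := {b | ∀ a, T.tau a b ∈ R}
        add_mem' := fun {b b'} hb hb' a => by rw [map_add]; exact R.add_mem (hb a) (hb' a)
        zero_mem' := fun a => by simp
        smul_mem' := fun m b hb a => by
          rw [map_smul, ← LinearMap.smul_apply, ← map_smul]; exact hb _ }
    refine Submodule.span_le (p := X).2 ?_ (D.symB.iso_span_perp D.dimB hz0 hz hd) a
    rintro d' ⟨hd'z, hd'd'⟩
    by_cases hsp : d' ∈ Submodule.span F ({z} : Set B)
    · obtain ⟨l, rfl⟩ := Submodule.mem_span_singleton.1 hsp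
      exact fun a => by simpa using hpen (l • a)
    obtain ⟨g1, g2, k1, k2, k3, k4⟩ := D.exists_dual hz0 hsp
    set f₀ := g2 - (T.fB g2 g2 / 2) • d' with hf₀
    have hd'g : T.fB g2 d' = 1 := by rw [D.symB.symm, k4]
    have hzd' : T.fB z d' = 0 := by rw [D.symB.symm, hd'z]
    have hff : T.fB f₀ f₀ = 0 := by
      simp only [hf₀, map_sub, map_smul, LinearMap.sub_apply, LinearMap.smul_apply, smul_eq_mul, hd'd',
        k4, hd'g]
      field_simp
      ring
    have hfd : T.fB f₀ d' = 1 := by simp [hf₀, hd'g, hd'd']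
    have hfz : T.fB z f₀ = 0 := by simp [hf₀, k3, hzd']
    intro a
    obtain ⟨c₁, hc₁v, hc₁a, hc₁0⟩ : ∃ c₁, T.fA c₁ v = 0 ∧ T.fA c₁ a = 0 ∧ c₁ ≠ 0 := by
      obtain ⟨c₁, hc₁, hc₁0⟩ : ∃ c₁ ∈ perpV T.fA ![v, a], c₁ ≠ 0 :=
        Submodule.exists_mem_ne_zero_of_ne_bot fun h => by
          have d1 := le_finrank_perpV (f := T.fA) ![v, a]
          rw [h, finrank_bot] at d1
          have := D.dimA
          omega
      exact ⟨c₁, mem_perpV.1 hc₁ 0, mem_perpV.1 hc₁ 1, hc₁0⟩
    obtain ⟨c', hc'⟩ := D.exists_dualA hc₁0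
    have hm := (hperpB c₁ f₀ hc₁v).2
    have hrt : InH H (rtMap T u (T.tau c₁ f₀)) := hm.congr fun x => by
      simp [sigMap, rtMap, D.form_tau, hff, D.formV_symm x u, D.formV_symm x (T.tau c₁ f₀)]
    refine hroot _ (by simp [hudef, D.form_tau, hzd']) (by simp [D.form_tau, hd'd']) ?_
    refine D.rt_comm (p₂ := T.tau c₁ f₀) (p₃ := T.tau c' d') ?_ ?_ ?_ ?_ ?_ ?_ ?_ ?_ ?_ ?_ hrt
      (hframe d' hd'd' c' a)
    all_goals
      simp [hudef, D.form_tau, hv, hz, hd'd', hff, hfd, hfz, hzd', hc', hc₁a]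
  intro w hw
  have h1 : T.tau (T.C z w) e ∈ R := by
    refine hperpB _ e ?_
    rw [← D.form_C, D.formV_symm]
    exact hw
  have h2' : w - T.tau (T.C z w) e ∈ R := by
    refine D.perp_induction hze (p := fun x => x ∈ R) R.zero_mem (fun x y => R.add_mem)
      (fun a d hd => hAperp a d hd) (x := w - T.tau (T.C z w) e) ?_
    rw [map_sub, D.C_tau, hez, one_smul, sub_self]
  have h := R.add_mem h1 h2'
  rw [add_sub_cancel] at h
  exact h.2

end OData

end CfsgLib.MaxSub.TForm
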