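import Cfsg.Agent.Lib.MaxSub.TFormSpBasic

/-!
Symmetric non-degenerate forms in odd characteristic: Eichler maps, the group they generate, and maps
commuting with the Eichler group of a singular vector.
-/

set_option autoImplicit false
set_option linter.unusedSectionVars false
set_option linter.unusedSimpArgs false
set_option linter.unusedVariables false
set_option linter.style.haveILetI false

namespace CfsgLib.MaxSub.TForm

open Module

variable {F M : Type*} [Field F] [AddCommGroup M] [Module F M]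

/-- a symmetric non-degenerate form, odd characteristic -/
structure SymNd (f : M →ₗ[F] M →ₗ[F] F) : Prop where
  symm : ∀ x y, f y x = f x y
  nondeg : ∀ x, (∀ y, f x y = 0) → x = 0
  two : (2 : F) ≠ 0

/-- the Eichler map at a singular vector -/
noncomputable def eich (f : M →ₗ[F] M →ₗ[F] F) (v r : M) : M →ₗ[F] M :=
  LinearMap.id + (f.flip v).smulRight r - (f.flip r).smulRight v -
    (f r r / 2) • (f.flip v).smulRight v

theorem eich_apply (f : M →ₗ[F] M →ₗ[F] F) (v r a : M) :
    eich f v r a = a + f a v • r - (f a r + f r r / 2 * f a v) • v := by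
  show a + f a v • r - f a r • v - (f r r / 2) • (f a v • v) = _
  module

/-- the common orthogonal of finitely many vectors -/
def perpV (f : M →ₗ[F] M →ₗ[F] F) {k : ℕ} (a : Fin k → M) : Submodule F M :=
  LinearMap.ker (LinearMap.pi fun i => f.flip (a i))

theorem mem_perpV {f : M →ₗ[F] M →ₗ[F] F} {k : ℕ} {a : Fin k → M} {x : M} :
    x ∈ perpV f a ↔ ∀ i, f x (a i) = 0 := by
  simp [perpV, LinearMap.mem_ker, funext_iff]

theorem le_finrank_perpV {f : M →ₗ[F] M →ₗ[F] F} [FiniteDimensional F M] {k : ℕ} (a : Fin k → M) :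
    finrank F M ≤ finrank F (perpV f a) + k := by
  have h1 := (LinearMap.pi fun i => f.flip (a i) : M →ₗ[F] Fin k → F).finrank_range_add_finrank_ker
  have h2 := Submodule.finrank_le (LinearMap.range (LinearMap.pi fun i => f.flip (a i) : M →ₗ[F] Fin k → F))
  rw [Module.finrank_fin_fun] at h2
  have h3 : finrank F (LinearMap.ker (LinearMap.pi fun i => f.flip (a i) : M →ₗ[F] Fin k → F)) =
      finrank F (perpV f a) := rfl
  omega

/-- `S` is non-degenerate -/
def NdS (f : M →ₗ[F] M →ₗ[F] F) (S : Submodule F M) : Prop :=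
  ∀ y ∈ S, (∀ y' ∈ S, f y y' = 0) → y = 0

/-- the Eichler maps -/
def eichGen (f : M →ₗ[F] M →ₗ[F] F) : Set (M ≃ₗ[F] M) :=
  {g | ∃ v r, f v v = 0 ∧ f r v = 0 ∧ ∀ a, g a = eich f v r a}

/-- the group generated by the Eichler maps -/
def egrp (f : M →ₗ[F] M →ₗ[F] F) : Subgroup (M ≃ₗ[F] M) := Subgroup.closure (eichGen f)

namespace SymNd

variable {f : M →ₗ[F] M →ₗ[F] F}

theorem eich_isom (hS : SymNd f) {v r : M} (hv : f v v = 0) (hr : f r v = 0) (a a' : M) :
    f (eich f v r a) (eich f v r a') = f a a' := by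
  have hvr : f v r = 0 := by rw [hS.symm, hr]
  have h2 := hS.two
  simp only [eich_apply, map_add, map_sub, map_smul, LinearMap.add_apply,
    LinearMap.sub_apply, LinearMap.smul_apply, smul_eq_mul, hv, hr, hvr,
    hS.symm a' v, hS.symm a' r]
  field_simp
  ring

theorem eich_comp (hS : SymNd f) {v r s : M} (hv : f v v = 0) (hr : f r v = 0)
    (hs : f s v = 0) (a : M) : eich f v r (eich f v s a) = eich f v (r + s) a := by
  have hvr : f v r = 0 := by rw [hS.symm, hr]
  have h2 := hS.two
  simp only [eich_apply, map_add, map_sub, map_smul, LinearMap.add_apply, LinearMap.sub_apply,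
    LinearMap.smul_apply, smul_eq_mul, hv, hs, hvr, hS.symm s r]
  match_scalars <;> field_simp <;> ring

theorem eich_zero (v a : M) : eich f v 0 a = a := by simp [eich_apply]

theorem exists_eich (hS : SymNd f) {v r : M} (hv : f v v = 0) (hr : f r v = 0) :
    ∃ g ∈ egrp f, (∀ a, g a = eich f v r a) ∧ ∀ a, g.symm a = eich f v (-r) a := by
  have hr' : f (-r) v = 0 := by simp [hr]
  let g : M ≃ₗ[F] M := LinearEquiv.ofLinearMap (eich f v r) (eich f v (-r))
    (LinearMap.ext fun a => by
      rw [LinearMap.comp_apply, hS.eich_comp hv hr hr', add_neg_cancel, eich_zero, LinearMap.id_apply])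
    (LinearMap.ext fun a => by
      rw [LinearMap.comp_apply, hS.eich_comp hv hr' hr, neg_add_cancel, eich_zero, LinearMap.id_apply])
  exact ⟨g, Subgroup.subset_closure ⟨v, r, hv, hr, fun a => rfl⟩, fun a => rfl, fun a => rfl⟩

theorem egrp_isom (hS : SymNd f) {g : M ≃ₗ[F] M} (hg : g ∈ egrp f) :
    ∀ a a', f (g a) (g a') = f a a' := by
  induction hg using Subgroup.closure_induction with
  | mem g hg =>
      obtain ⟨v, r, hv, hr, hga⟩ := hg
      intro a a'
      rw [hga, hga, hS.eich_isom hv hr]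
  | one => intro a a'; rfl
  | mul g h _ _ hg hh => intro a a'; exact (hg _ _).trans (hh a a')
  | inv g _ hg =>
      intro a a'
      conv_rhs => rw [← LinearEquiv.apply_symm_apply g a, ← LinearEquiv.apply_symm_apply g a', hg]
      rfl

/-- similitudes normalise the generators -/
theorem eichGen_conj (hS : SymNd f) {N : M ≃ₗ[F] M} {μ : F} (hμ : μ ≠ 0)
    (hN : ∀ a a', f (N a) (N a') = μ * f a a') {g : M ≃ₗ[F] M} (hg : g ∈ eichGen f) :
    N * g * N⁻¹ ∈ eichGen f := by
  obtain ⟨v, r, hv, hr, hga⟩ := hg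
  refine ⟨N v, μ⁻¹ • N r, by rw [hN, hv, mul_zero], by simp [hN, hr], fun x => ?_⟩
  obtain ⟨y, rfl⟩ := N.surjective x
  show N (g (N.symm (N y))) = _
  rw [LinearEquiv.symm_apply_apply, hga, eich_apply, eich_apply]
  have h2 := hS.two
  simp only [map_add, map_sub, map_smul, LinearMap.smul_apply, smul_eq_mul, hN, ← mul_assoc,
    inv_mul_cancel₀ hμ, one_mul]
  match_scalars <;> field_simp

theorem ext_pair (hS : SymNd f) {v u d : M} (hv : f v v = 0) (hu : f u u = 0)
    (hvu : f v u = 1) (huv : f u v = 1) (h1 : f d v = 0) (h2 : f d u = 0)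
    (h3 : ∀ r, f r v = 0 → f r u = 0 → f d r = 0) : d = 0 := by
  refine hS.nondeg d fun a => ?_
  have h := h3 (a - f a u • v - f a v • u) (by simp [hv, huv]) (by simp [hu, hvu])
  simpa [h1, h2] using h

theorem ndS_top (hS : SymNd f) : NdS f ⊤ := fun y _ h => hS.nondeg y fun y' => h y' Submodule.mem_top

theorem ndS_perp_pair (hS : SymNd f) {v u : M} (hv : f v v = 0) (hu : f u u = 0)
    (hvu : f v u = 1) : NdS f (perpV f ![v, u]) := by
  intro y hy h
  refine hS.ext_pair hv hu hvu (by rw [hS.symm, hvu]) (mem_perpV.1 hy 0) (mem_perpV.1 hy 1) fun r h1 h2 => ?_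
  exact h r (mem_perpV.2 fun i => by fin_cases i; exacts [h1, h2])

theorem exists_aniso (hS : SymNd f) {S : Submodule F M} (hnd : NdS f S) {y : M} (hy : y ∈ S)
    (hy0 : y ≠ 0) : ∃ e ∈ S, f e e ≠ 0 := by
  by_contra hno
  simp only [not_exists, not_and, not_not] at hno
  refine hy0 (hnd y hy fun y' hy' => ?_)
  have h := hno (y + y') (S.add_mem hy hy')
  simp only [map_add, LinearMap.add_apply, hno y hy, hno y' hy', hS.symm y y'] at h
  exact (mul_eq_zero.1 (show (2 : F) * f y y' = 0 by linear_combination h)).resolve_left hS.two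

theorem exists_aniso_of_pos (hS : SymNd f) {S : Submodule F M} (hnd : NdS f S) (h1 : 0 < finrank F S) :
    ∃ e ∈ S, f e e ≠ 0 := by
  obtain ⟨y, hy, hy0⟩ := Submodule.exists_mem_ne_zero_of_ne_bot (p := S) fun e => by
    rw [e, finrank_bot] at h1; omega
  exact hS.exists_aniso hnd hy hy0

theorem aniso_in_perp (hS : SymNd f) {v u : M} (hv : f v v = 0) (hu : f u u = 0)
    (hvu : f v u = 1) (huv : f u v = 1) {r₀ : M} (h1 : f r₀ v = 0) (h2 : f r₀ u = 0)
    (h0 : r₀ ≠ 0) :
    ∃ e, f e v = 0 ∧ f e u = 0 ∧ f e e ≠ 0 ∧ f r₀ e ≠ 0 := by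
  obtain ⟨w, hwv, hwu, hw⟩ : ∃ w, f w v = 0 ∧ f w u = 0 ∧ f r₀ w ≠ 0 := by
    by_contra hno
    simp only [not_exists, not_and, not_not] at hno
    exact h0 (hS.ext_pair hv hu hvu huv h1 h2 hno)
  by_cases hw' : f w w = 0
  swap
  · exact ⟨w, hwv, hwu, hw', hw⟩
  by_cases hr : f r₀ r₀ = 0
  swap
  · exact ⟨r₀, h1, h2, hr, hr⟩
  refine ⟨r₀ + w, by simp [h1, hwv], by simp [h2, hwu], ?_, by simp [hr, hw]⟩
  simp only [map_add, LinearMap.add_apply, hw', hr, hS.symm r₀ w, zero_add, add_zero]
  intro h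
  exact hw ((mul_eq_zero.1 (show (2 : F) * f r₀ w = 0 by linear_combination h)).resolve_left hS.two)

/-- a hyperbolic partner -/
theorem partner (hS : SymNd f) {v : M} (hv0 : v ≠ 0) (hv : f v v = 0) :
    ∃ u, f u u = 0 ∧ f v u = 1 ∧ f u v = 1 := by
  obtain ⟨w, hw⟩ : ∃ w, f v w ≠ 0 := by
    by_contra h
    simp only [not_exists, not_not] at h
    exact hv0 (hS.nondeg v h)
  set w' := (f v w)⁻¹ • w with hw'
  have h1 : f v w' = 1 := by rw [hw', map_smul, smul_eq_mul, inv_mul_cancel₀ hw]
  have h1' : f w' v = 1 := by rw [hS.symm, h1]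
  have h2 := hS.two
  refine ⟨w' - (f w' w' / 2) • v, ?_, by simp [h1, hv], by simp [h1', hv]⟩
  simp only [map_sub, map_smul, LinearMap.sub_apply, LinearMap.smul_apply, smul_eq_mul, hv, h1, h1']
  field_simp
  ring

variable [FiniteDimensional F M]

theorem ndS_cut (hS : SymNd f) {S : Submodule F M} (hnd : NdS f S) {e : M} (he : e ∈ S)
    (hee : f e e ≠ 0) : NdS f (S ⊓ perpV f ![e]) := by
  intro y hy h
  refine hnd y hy.1 fun y' hy' => ?_
  have hye : f y e = 0 := mem_perpV.1 hy.2 0
  have h1 := h (y' - (f y' e / f e e) • e) ⟨S.sub_mem hy' (S.smul_mem _ he), mem_perpV.2 fun i => by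
    fin_cases i; simp [hee]⟩
  simpa [hye] using h1

theorem finrank_cut (S : Submodule F M) {k : ℕ} (a : Fin k → M) :
    finrank F S ≤ finrank F (S ⊓ perpV f a : Submodule F M) + k := by
  have h1 := Submodule.finrank_sup_add_finrank_inf_eq S (perpV f a)
  have h2 := le_finrank_perpV (f := f) a
  have h3 := Submodule.finrank_le (S ⊔ perpV f a)
  omega

/-- a singular vector in a non-degenerate space of dimension at least three -/
theorem exists_iso (hS : SymNd f) [Finite F] {S : Submodule F M} (hnd : NdS f S) (h3 : 3 ≤ finrank F S) :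
    ∃ v ∈ S, v ≠ 0 ∧ f v v = 0 := by
  classical
  cases nonempty_fintype F
  obtain ⟨e, he, hee⟩ := hS.exists_aniso_of_pos hnd (by omega)
  have nd1 := hS.ndS_cut hnd he hee
  have d1 := finrank_cut (f := f) S ![e]
  obtain ⟨e', he', hee'⟩ := hS.exists_aniso_of_pos nd1 (by omega)
  have nd2 := hS.ndS_cut nd1 he' hee'
  have d2 := finrank_cut (f := f) (S ⊓ perpV f ![e]) ![e']
  obtain ⟨h, hh, hhh⟩ := hS.exists_aniso_of_pos nd2 (by omega)
  have hfe : f e' e = 0 := mem_perpV.1 he'.2 0
  have hhe : f h e = 0 := mem_perpV.1 hh.1.2 0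
  have hhf : f h e' = 0 := mem_perpV.1 hh.2 0
  open Polynomial in
  obtain ⟨x, y, hxy⟩ := FiniteField.exists_root_sum_quadratic
    (f := C (f e e) * X ^ 2) (g := C (f e' e') * X ^ 2 + C (f h h))
    (degree_C_mul_X_pow 2 hee)
    (by rw [degree_add_C (by rw [degree_C_mul_X_pow 2 hee']; norm_num), degree_C_mul_X_pow 2 hee']; rfl)
    (FiniteField.odd_card_of_char_ne_two fun hc => hS.two (by
      haveI := ringChar.of_eq hc
      exact CharTwo.two_eq_zero))
  simp only [Polynomial.eval_mul, Polynomial.eval_add, Polynomial.eval_C, Polynomial.eval_pow,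
    Polynomial.eval_X] at hxy
  refine ⟨x • e + y • e' + h, S.add_mem (S.add_mem (S.smul_mem _ he) (S.smul_mem _ he'.1)) hh.1.1,
    fun e0 => ?_, ?_⟩
  · have h1 := congrArg (fun a => f a h) e0
    simp [hS.symm h e, hS.symm h e', hhe, hhf, hhh] at h1
  · simp only [map_add, map_smul, LinearMap.add_apply, LinearMap.smul_apply, smul_eq_mul,
      hfe, hhe, hhf, hS.symm e' e, hS.symm h e, hS.symm h e']
    linear_combination hxy

theorem exists_iso_top (hS : SymNd f) [Finite F] (h3 : 3 ≤ finrank F M) : ∃ v : M, v ≠ 0 ∧ f v v = 0 := by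
  obtain ⟨v, -, hv⟩ := hS.exists_iso hS.ndS_top (by rwa [finrank_top])
  exact ⟨v, hv⟩

/-- singular vectors span a non-degenerate space containing one -/
theorem iso_span (hS : SymNd f) {S : Submodule F M} (hnd : NdS f S) {d : M} (hd : d ∈ S) (hd0 : d ≠ 0)
    (hdd : f d d = 0) : S ≤ Submodule.span F {x | x ∈ S ∧ f x x = 0} := by
  set W := Submodule.span F {x | x ∈ S ∧ f x x = 0}
  have h2 := hS.two
  have hdW : d ∈ W := Submodule.subset_span ⟨hd, hdd⟩
  have key : ∀ b ∈ S, f b d ≠ 0 → b ∈ W := by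
    intro b hb hne
    have h : b - (f b b / (2 * f b d)) • d ∈ W := Submodule.subset_span ⟨S.sub_mem hb (S.smul_mem _ hd), by
      simp only [map_sub, map_smul, LinearMap.sub_apply, LinearMap.smul_apply, smul_eq_mul, hdd,
        hS.symm b d]
      field_simp
      ring⟩
    simpa using W.add_mem h (W.smul_mem (f b b / (2 * f b d)) hdW)
  obtain ⟨d', hd', hdd'⟩ : ∃ d' ∈ S, f d' d ≠ 0 := by
    by_contra h
    simp only [not_exists, not_and, not_not] at h
    exact hd0 (hnd d hd fun y hy => by rw [hS.symm]; exact h y hy)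
  intro b hb
  by_cases hne : f b d = 0
  · have h := W.sub_mem (key (b + d') (S.add_mem hb hd') (by simpa [hne] using hdd')) (key d' hd' hdd')
    simpa using h
  · exact key b hb hne

/-- singular vectors span the orthogonal of a singular vector -/
theorem iso_span_perp (hS : SymNd f) [Finite F] (h5 : 5 ≤ finrank F M) {z : M} (hz0 : z ≠ 0)
    (hz : f z z = 0) {b : M} (hb : f b z = 0) : b ∈ Submodule.span F {x | f x z = 0 ∧ f x x = 0} := by
  obtain ⟨e, he, hze, hez⟩ := hS.partner hz0 hz
  have hnd := hS.ndS_perp_pair hz he hze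
  have := le_finrank_perpV (f := f) ![z, e]
  obtain ⟨d, hd, hd0, hdd⟩ := hS.exists_iso hnd (by omega)
  have h1 : b - f b e • z ∈ perpV f ![z, e] := mem_perpV.2 fun i => by
    fin_cases i <;> simp [hb, hz, hze]
  rw [← sub_add_cancel b (f b e • z)]
  refine add_mem (Submodule.span_mono ?_ (hS.iso_span hnd hd hd0 hdd h1))
    (Submodule.smul_mem _ _ (Submodule.subset_span ⟨hz, hz⟩))
  exact fun x hx => ⟨mem_perpV.1 hx.1 0, hx.2⟩

/-- an element swapping a hyperbolic pair, a reflection on its orthogonal -/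
theorem exists_swap (hS : SymNd f) {v u r : M} (hv : f v v = 0) (hu : f u u = 0) (hvu : f v u = 1)
    (hrv : f r v = 0) (hru : f r u = 0) (hrr : f r r ≠ 0) :
    ∃ g ∈ egrp f, g v = -(f r r / 2) • u ∧ g u = -(2 / f r r) • v ∧
      ∀ s, f s v = 0 → f s u = 0 → g s = s - (2 * f s r / f r r) • r := by
  have huv : f u v = 1 := by rw [hS.symm, hvu]
  have hvr : f v r = 0 := by rw [hS.symm, hrv]
  have hur : f u r = 0 := by rw [hS.symm, hru]
  obtain ⟨g, hg, hga, -⟩ := hS.exists_eich hu hru
  obtain ⟨k, hk, hka, -⟩ := hS.exists_eich hv (r := (2 / f r r) • r) (by simp [hrv])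
  have h2 := hS.two
  refine ⟨g * k * g, mul_mem (mul_mem hg hk) hg, ?_, ?_, fun s hsv hsu => ?_⟩
  all_goals
    show g (k (g _)) = _
    simp only [hga, hka, eich_apply, map_add, map_sub, map_smul, LinearMap.add_apply,
      LinearMap.sub_apply, LinearMap.smul_apply, smul_eq_mul, hv, hu, hvu, huv, hvr, hur, hrv, hru]
  · match_scalars <;> field_simp <;> ring
  · match_scalars <;> field_simp <;> ring
  · simp only [hsv, hsu]
    match_scalars <;> field_simp <;> ring

/-- a torus element of the hyperbolic pair -/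
theorem exists_torus (hS : SymNd f) {v u r r' : M} (hv : f v v = 0) (hu : f u u = 0) (hvu : f v u = 1)
    (hrv : f r v = 0) (hru : f r u = 0) (hrr : f r r ≠ 0) (hrv' : f r' v = 0) (hru' : f r' u = 0)
    (hrr' : f r' r' ≠ 0) :
    ∃ g ∈ egrp f, g v = (f r r / f r' r') • v ∧ ∀ s, f s v = 0 → f s u = 0 →
      g s = (s - (2 * f s r / f r r) • r) -
        (2 * f (s - (2 * f s r / f r r) • r) r' / f r' r') • r' := by
  obtain ⟨g, hg, hgv, -, hgs⟩ := hS.exists_swap hv hu hvu hrv hru hrr
  obtain ⟨k, hk, -, hku, hks⟩ := hS.exists_swap hv hu hvu hrv' hru' hrr'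
  have h2 := hS.two
  refine ⟨k * g, mul_mem hk hg, ?_, fun s hsv hsu => ?_⟩
  · show k (g v) = _
    rw [hgv, map_smul, hku, smul_smul]
    congr 1
    field_simp
  · show k (g s) = _
    rw [hgs s hsv hsu, hks _ (by simp [hsv, hrv]) (by simp [hsu, hru])]

/-- singular points are conjugate -/
theorem exists_move (hS : SymNd f) (h3 : 3 ≤ finrank F M) {v v' : M} (hv0 : v ≠ 0) (hv : f v v = 0)
    (hv'0 : v' ≠ 0) (hv' : f v' v' = 0) : ∃ g ∈ egrp f, ∃ c : F, c ≠ 0 ∧ g v = c • v' := by
  have h2 := hS.two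
  have step : ∀ v v', f v v = 0 → f v' v' = 0 → f v v' ≠ 0 →
      ∃ g ∈ egrp f, ∃ c : F, c ≠ 0 ∧ g v = c • v' := by
    intro v v' hv hv' hne
    set u := (f v v')⁻¹ • v' with hu
    have hvu : f v u = 1 := by rw [hu, map_smul, smul_eq_mul, inv_mul_cancel₀ hne]
    have huu : f u u = 0 := by simp [hu, hv']
    have := le_finrank_perpV (f := f) ![v, u]
    obtain ⟨r, hr, hrr⟩ := hS.exists_aniso_of_pos (hS.ndS_perp_pair hv huu hvu) (by omega)
    obtain ⟨g, hg, hgv, -, -⟩ := hS.exists_swap hv huu hvu (mem_perpV.1 hr 0) (mem_perpV.1 hr 1) hrr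
    refine ⟨g, hg, -(f r r / 2) * (f v v')⁻¹, ?_, by rw [hgv, hu, smul_smul]⟩
    exact mul_ne_zero (neg_ne_zero.2 (div_ne_zero hrr h2)) (inv_ne_zero hne)
  by_cases hne : f v v' = 0
  swap
  · exact step v v' hv hv' hne
  -- a singular vector seen by both
  obtain ⟨u, huu, hvu, huv⟩ := hS.partner hv0 hv
  by_cases hu' : f u v' = 0
  swap
  · obtain ⟨g, hg, c, hc, hgv⟩ := step v u hv huu (by rw [hvu]; exact one_ne_zero)
    obtain ⟨k, hk, c', hc', hku⟩ := step u v' huu hv' hu'
    exact ⟨k * g, mul_mem hk hg, c * c', mul_ne_zero hc hc', by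
      rw [LinearEquiv.mul_apply, hgv, map_smul, hku, smul_smul]⟩
  obtain ⟨u', huu', hvu', huv'⟩ := hS.partner hv'0 hv'
  by_cases hu'' : f v u' = 0
  swap
  · obtain ⟨g, hg, c, hc, hgv⟩ := step v u' hv huu' hu''
    obtain ⟨k, hk, c', hc', hku⟩ := step u' v' huu' hv' (by rw [huv']; exact one_ne_zero)
    exact ⟨k * g, mul_mem hk hg, c * c', mul_ne_zero hc hc', by
      rw [LinearEquiv.mul_apply, hgv, map_smul, hku, smul_smul]⟩
  set x := u + u' - f u u' • v with hx
  have hxx : f x x = 0 := by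
    simp only [hx, map_add, map_sub, map_smul, LinearMap.add_apply, LinearMap.sub_apply,
      LinearMap.smul_apply, smul_eq_mul, huu, huu', hv, hvu, huv, hu'', hS.symm v u', hS.symm u u']
    ring
  have hvx : f v x = 1 := by simp [hx, hvu, hu'', hv]
  have hxv' : f x v' = 1 := by simp [hx, hu', huv', hne]
  obtain ⟨g, hg, c, hc, hgv⟩ := step v x hv hxx (by rw [hvx]; exact one_ne_zero)
  obtain ⟨k, hk, c', hc', hku⟩ := step x v' hxx hv' (by rw [hxv']; exact one_ne_zero)
  exact ⟨k * g, mul_mem hk hg, c * c', mul_ne_zero hc hc', by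
    rw [LinearEquiv.mul_apply, hgv, map_smul, hku, smul_smul]⟩

theorem fixed_sym (hS : SymNd f) (h3 : 3 ≤ finrank F M)
    (hbig : finrank F M = 3 → ∃ R : F, R ≠ 0 ∧ R * R ≠ 1) {v u : M} (hv : f v v = 0) (hu : f u u = 0)
    (hvu : f v u = 1) (huv : f u v = 1) {X : Module.End F M}
    (hX : ∀ a a', f (X a) a' = f a (X a'))
    (hfix : ∀ r, f r v = 0 → f r u = 0 → ∃ l : F, ∀ a,
      eich f v r (X a) - X (eich f v r a) = l • eich f v r a) :
    ∃ s t : F, ∀ a, X a = s • a + (t * f a v) • v := by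
  have h2 := hS.two
  set x := X v with hx
  have E : ∀ r a, eich f v r a = a + f a v • r - (f a r + f r r / 2 * f a v) • v :=
    fun r a => eich_apply f v r a
  -- some anisotropic vector of the middle
  obtain ⟨e₀, he₀v, he₀u, he₀⟩ : ∃ e, f e v = 0 ∧ f e u = 0 ∧ f e e ≠ 0 := by
    obtain ⟨r, hr, hr0⟩ : ∃ r ∈ perpV f ![v, u], r ≠ 0 := Submodule.exists_mem_ne_zero_of_ne_bot fun h => by
      have h' := le_finrank_perpV (f := f) ![v, u]
      have := h3
      rw [h, finrank_bot] at h'
      omega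
    obtain ⟨e, h1, h2', h3, -⟩ := hS.aniso_in_perp hv hu hvu huv (mem_perpV.1 hr 0) (mem_perpV.1 hr 1) hr0
    exact ⟨e, h1, h2', h3⟩
  -- the equation at `v`
  have hk0 : f x v = 0 := by
    obtain ⟨l, hl⟩ := hfix e₀ he₀v he₀u
    have h := congrArg (fun y => f y e₀) (hl v)
    simp only [E, ← hx, hv, hS.symm e₀ v, he₀v, map_add, map_sub, map_smul, LinearMap.add_apply,
      LinearMap.sub_apply, LinearMap.smul_apply, smul_eq_mul, mul_zero, zero_smul, add_zero, sub_zero,
      map_zero, zero_mul] at h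
    exact (mul_eq_zero.1 (show f x v * f e₀ e₀ = 0 by linear_combination h)).resolve_right he₀
  have hlam : ∀ r, f r v = 0 → f r u = 0 → ∀ l : F,
      (∀ a, eich f v r (X a) - X (eich f v r a) = l • eich f v r a) → l = -f x r := by
    intro r hr hru l hl
    have h := congrArg (fun y => f y u) (hl v)
    simp only [E, ← hx, hv, hk0, hS.symm r v, hr, map_add, map_sub, map_smul, LinearMap.add_apply,
      LinearMap.sub_apply, LinearMap.smul_apply, smul_eq_mul, mul_zero, zero_smul, add_zero, sub_zero,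
      map_zero, hvu, mul_one] at h
    linear_combination -h
  -- the equation at `u`
  have hu' : ∀ r, f r v = 0 → f r u = 0 →
      2 * f (X u) r = -(f r r / 2 * f x r) := by
    intro r hr hru
    obtain ⟨l, hl⟩ := hfix r hr hru
    have hll := hlam r hr hru l hl
    have h := congrArg (fun y => f y u) (hl u)
    have hs : f (X u) v = f u x := hX u v
    simp only [E, hu, huv, hvu, hru, hS.symm r u, map_add, map_sub, map_smul, LinearMap.add_apply,
      LinearMap.sub_apply, LinearMap.smul_apply, smul_eq_mul, ← hx, hs, mul_zero, zero_add, mul_one,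
      one_smul, one_mul] at h
    have hXr : f (X r) u = f (X u) r := by rw [hX, hS.symm (X u) r]
    rw [hXr, hll, hS.symm x u] at h
    linear_combination -h
  -- the equations in the middle
  have hmid : ∀ r, f r v = 0 → f r u = 0 → ∀ w, f w v = 0 → f w u = 0 → ∀ c,
      f c v = 0 →
      f w x * f r c + f w r * f x c = -f x r * f w c := by
    intro r hr hru w hw hwu c hc
    obtain ⟨l, hl⟩ := hfix r hr hru
    have hll := hlam r hr hru l hl
    have h := congrArg (fun y => f y c) (hl w)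
    simp only [E, hw, map_add, map_sub, map_smul, LinearMap.add_apply, LinearMap.sub_apply,
      LinearMap.smul_apply, smul_eq_mul, ← hx, hS.symm c v, hc, hX w v, mul_zero, zero_smul, add_zero,
      sub_zero, hll, map_zero, zero_mul] at h
    linear_combination h
  have hxr : ∀ r, f r v = 0 → f r u = 0 → f x r = 0 := by
    intro r hr hru
    by_contra hne
    obtain ⟨e, hev, heu, hee, hre⟩ := hS.aniso_in_perp hv hu hvu huv
      (r₀ := x - f x u • v) (by simp [hk0, hv]) (by simp [hvu]) (fun e0 => hne (by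
        rw [sub_eq_zero] at e0
        rw [e0, map_smul, LinearMap.smul_apply, hS.symm r v, hr, smul_zero]))
    have hxe : f x e ≠ 0 := by
      intro e0; apply hre
      simp [e0, hS.symm e v, hev]
    rcases Nat.lt_or_ge (finrank F M) 4 with h4 | h4
    · -- dimension three: scale
      obtain ⟨R, hR0, hR1⟩ := hbig (by omega)
      have e1 := hu' e hev heu
      have e2 := hu' (R • e) (by simp [hev]) (by simp [heu])
      simp only [map_smul, LinearMap.smul_apply, map_smulₛₗ, RingHom.id_apply, smul_eq_mul] at e2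
      have e3 : (R * (R * R - 1)) * (f e e / 2 * f x e) = 0 := by
        linear_combination e2 - R * e1
      refine mul_ne_zero (mul_ne_zero hR0 (sub_ne_zero.2 hR1)) ?_ e3
      exact mul_ne_zero (div_ne_zero hee h2) hxe
    · -- a second direction
      obtain ⟨g0, hf, hf0⟩ : ∃ g0 ∈ perpV f ![v, u, e], g0 ≠ 0 :=
        Submodule.exists_mem_ne_zero_of_ne_bot fun h => by
          have h' := le_finrank_perpV (f := f) ![v, u, e]
          rw [h, finrank_bot] at h'
          omega
      have hfv : f g0 v = 0 := mem_perpV.1 hf 0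
      have hfu : f g0 u = 0 := mem_perpV.1 hf 1
      have hfe : f g0 e = 0 := mem_perpV.1 hf 2
      obtain ⟨g1, hf'v, hf'u, hf'g1, hf'⟩ := hS.aniso_in_perp hv hu hvu huv hfv hfu hf0
      set g2 := g1 - (f g1 e / f e e) • e with hf''
      have hf''v : f g2 v = 0 := by simp [hf'', hf'v, hev]
      have hf''e : f g2 e = 0 := by
        rw [hf'', map_sub, map_smul, LinearMap.sub_apply, LinearMap.smul_apply, smul_eq_mul,
          div_mul_cancel₀ _ hee, sub_self]
      have hf''u : f g2 u = 0 := by simp [hf'', hf'u, heu]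
      have hf''0 : f g0 g2 ≠ 0 := by simp [hf'', hfe, hf']
      have h1 := hmid g2 hf''v hf''u e hev heu g0 hfv
      rw [hS.symm g2 e, hf''e, hS.symm g0 e, hfe, hS.symm x e] at h1
      refine hxe ((mul_eq_zero.1 (show f x e * f g2 g0 = 0 by linear_combination h1)).resolve_right ?_)
      rwa [hS.symm g0 g2]
  set s := f x u with hs
  have hxs : x = s • v := sub_eq_zero.1 (hS.ext_pair hv hu hvu huv (by simp [hk0, hv]) (by simp [hvu, hs])
    fun r hr hru => by
      rw [map_sub, map_smul, LinearMap.sub_apply, LinearMap.smul_apply, hxr r hr hru, hS.symm r v, hr,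
        smul_zero, sub_zero])
  have hη : ∀ w r, f w v = 0 → f w u = 0 → f r v = 0 → f r u = 0 →
      f (X w) r = s * f w r := by
    intro w r hw hwu hr hru
    obtain ⟨l, hl⟩ := hfix r hr hru
    have hll := hlam r hr hru l hl
    rw [hxr r hr hru, neg_zero] at hll
    have h := congrArg (fun y => f y u) (hl w)
    have hwx : f w x = 0 := by rw [hxs, map_smul, hw, smul_zero]
    simp only [E, hw, hll, zero_smul, map_zero, LinearMap.zero_apply, map_add, map_sub, map_smul,
      LinearMap.add_apply, LinearMap.sub_apply, LinearMap.smul_apply, smul_eq_mul, ← hx, hru, hvu,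
      hX w v, hwx, mul_zero, add_zero, mul_one, sub_zero, ← hs] at h
    linear_combination -h
  refine ⟨s, f (X u) u, fun a => ?_⟩
  set α := f a v with hα
  set w := a - f a u • v - α • u with hw
  have hwv : f w v = 0 := by simp [hw, hv, huv, ← hα]
  have hwu : f w u = 0 := by simp [hw, hu, hvu]
  have ha : a = w + f a u • v + α • u := by rw [hw]; abel
  have hXa : X a = X w + (f a u * s) • v + α • X u := by
    conv_lhs => rw [ha]
    simp only [map_add, map_smul, ← hx, hxs, smul_smul]
  have a1 : f (X w) v = 0 := by rw [hX, ← hx, hxs, map_smul, hwv, smul_zero]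
  have a2 : ∀ r, f r v = 0 → f r u = 0 → f (X u) r = 0 := fun r hr hru => by
    have h := hu' r hr hru
    rw [hxr r hr hru, mul_zero, neg_zero] at h
    exact (mul_eq_zero.1 h).resolve_left h2
  have a3 : f (X w) u = 0 := by rw [hX, hS.symm]; exact a2 w hwv hwu
  have a4 : f (X u) v = s := by rw [hX, ← hx, hS.symm x u, ← hs]
  refine sub_eq_zero.1 (hS.ext_pair hv hu hvu huv ?_ ?_ fun r hr hru => ?_)
  · simp only [hXa, map_add, map_sub, map_smul, LinearMap.add_apply, LinearMap.sub_apply,
      LinearMap.smul_apply, smul_eq_mul, hv, a1, a4, ← hα]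
    ring
  · simp only [hXa, map_add, map_sub, map_smul, LinearMap.add_apply, LinearMap.sub_apply,
      LinearMap.smul_apply, smul_eq_mul, hvu, a3]
    ring
  · have hwr : f w r = f a r := by simp [hw, hS.symm r v, hr, hS.symm r u, hru]
    simp only [hXa, map_add, map_sub, map_smul, LinearMap.add_apply, LinearMap.sub_apply,
      LinearMap.smul_apply, smul_eq_mul, hS.symm r v, hr, hη w r hwv hwu hr hru, a2 r hr hru, hwr]
    ring
theorem fixed_skew (hS : SymNd f) (h3 : 3 ≤ finrank F M) {v u : M} (hv : f v v = 0) (hu : f u u = 0)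
    (hvu : f v u = 1) (huv : f u v = 1) {L : Module.End F M}
    (hL : ∀ a a', f (L a) a' = -f a (L a'))
    (hfix : ∀ r, f r v = 0 → f r u = 0 → ∀ a, eich f v r (L a) = L (eich f v r a)) :
    ∃ r₀, f r₀ v = 0 ∧ f r₀ u = 0 ∧ ∀ a, L a = f a v • r₀ - f a r₀ • v := by
  have h2 := hS.two
  have hdiag : ∀ a, f (L a) a = 0 := fun a => by
    have h := hL a a
    rw [hS.symm (L a) a] at h
    exact (mul_eq_zero.1 (show (2 : F) * f (L a) a = 0 by linear_combination h)).resolve_left h2
  set x := L v with hx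
  have E : ∀ r a, eich f v r a = a + f a v • r - (f a r + f r r / 2 * f a v) • v :=
    fun r a => eich_apply f v r a
  have hxv : f x v = 0 := hdiag v
  have hxr : ∀ r, f r v = 0 → f r u = 0 → f x r = 0 := fun r hr hru => by
    have h := congrArg (fun y => f y u) (hfix r hr hru v)
    simp only [E, ← hx, hv, hxv, hS.symm r v, hr, map_add, map_sub, map_smul, LinearMap.add_apply,
      LinearMap.sub_apply, LinearMap.smul_apply, smul_eq_mul, mul_zero, zero_smul, add_zero, sub_zero,
      map_zero, hvu, mul_one] at h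
    linear_combination -h
  set s := f x u with hs
  have hxs : x = s • v := sub_eq_zero.1 (hS.ext_pair hv hu hvu huv (by simp [hxv, hv]) (by simp [hvu, hs])
    fun r hr hru => by
      rw [map_sub, map_smul, LinearMap.sub_apply, LinearMap.smul_apply, hxr r hr hru, hS.symm r v, hr,
        smul_zero, sub_zero])
  have hη : ∀ w r, f w v = 0 → f w u = 0 → f r v = 0 → f r u = 0 →
      f (L w) r = s * f w r := by
    intro w r hw hwu hr hru
    have h := congrArg (fun y => f y u) (hfix r hr hru w)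
    have hwx : f w x = 0 := by rw [hxs, map_smul, hw, smul_zero]
    simp only [E, hw, zero_smul, map_add, map_sub, map_smul, LinearMap.add_apply, LinearMap.sub_apply,
      LinearMap.smul_apply, smul_eq_mul, ← hx, hru, hvu, hL w v, hwx, neg_zero, mul_zero, add_zero,
      mul_one, sub_zero, ← hs, map_zero] at h
    linear_combination -h
  have hs0 : s = 0 := by
    obtain ⟨r, hr, hr0⟩ : ∃ r ∈ perpV f ![v, u], r ≠ 0 := Submodule.exists_mem_ne_zero_of_ne_bot fun h => by
      have h' := le_finrank_perpV (f := f) ![v, u]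
      have := h3
      rw [h, finrank_bot] at h'
      omega
    obtain ⟨e, hev, heu, hee, -⟩ := hS.aniso_in_perp hv hu hvu huv (mem_perpV.1 hr 0) (mem_perpV.1 hr 1) hr0
    have h := hη e e hev heu hev heu
    rw [hdiag, eq_comm, mul_eq_zero] at h
    exact h.resolve_right hee
  have hx0 : x = 0 := by rw [hxs, hs0, zero_smul]
  have h1 : f (L u) v = 0 := by rw [hL, ← hx, hx0, map_zero, neg_zero]
  refine ⟨L u, h1, hdiag u, fun a => ?_⟩
  set w := a - f a u • v - f a v • u with hw
  have hwv : f w v = 0 := by simp [hw, hv, huv]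
  have hwu : f w u = 0 := by simp [hw, hu, hvu]
  have hLa : L a = L w + f a v • L u := by
    have ha : a = w + f a u • v + f a v • u := by rw [hw]; abel
    conv_lhs => rw [ha]
    simp only [map_add, map_smul, ← hx, hx0, smul_zero, add_zero]
  have a1 : f (L w) v = 0 := by rw [hL, ← hx, hx0, map_zero, neg_zero]
  have a3 : f (L w) u = -f a (L u) := by
    rw [hL, neg_inj, hw]
    simp [hS.symm (L u) v, h1, hS.symm (L u) u, hdiag u]
  refine sub_eq_zero.1 (hS.ext_pair hv hu hvu huv ?_ ?_ fun r hr hru => ?_)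
  · simp only [hLa, map_add, map_sub, map_smul, LinearMap.add_apply, LinearMap.sub_apply,
      LinearMap.smul_apply, smul_eq_mul, hv, a1, h1]
    ring
  · simp only [hLa, map_add, map_sub, map_smul, LinearMap.add_apply, LinearMap.sub_apply,
      LinearMap.smul_apply, smul_eq_mul, hvu, a3, hdiag u]
    ring
  · simp only [hLa, map_add, map_sub, map_smul, LinearMap.add_apply, LinearMap.sub_apply,
      LinearMap.smul_apply, smul_eq_mul, hS.symm r v, hr, hη w r hwv hwu hr hru, hs0]
    ring

/-- conjugation-invariant additive groups of maps have members fixed modulo an invariant part -/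
theorem exists_fixed_conj (hS : SymNd f) [Finite F] {v u : M} (hv : f v v = 0)
    (X S : AddSubgroup (Module.End F M))
    (hX : ∀ g ∈ egrp f, ∀ Y ∈ X, g.toLinearMap ∘ₗ Y ∘ₗ g.symm.toLinearMap ∈ X)
    (hS' : ∀ g ∈ egrp f, ∀ Y ∈ S, g.toLinearMap ∘ₗ Y ∘ₗ g.symm.toLinearMap ∈ S)
    {X₀ : Module.End F M} (h₀ : X₀ ∈ X) (h₀S : X₀ ∉ S) :
    ∃ Y ∈ X, Y ∉ S ∧ ∀ r, f r v = 0 → f r u = 0 → ∃ Z ∈ S, ∀ a,
      eich f v r (Y a) - Y (eich f v r a) = Z (eich f v r a) := by
  obtain ⟨p, hp⟩ := CharP.exists F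
  haveI := hp
  haveI : Fact p.Prime := ⟨CharP.char_is_prime F p⟩
  haveI : Finite M := Module.finite_of_finite F
  haveI : Finite (Module.End F M) := Finite.of_injective _ DFunLike.coe_injective
  have hrv : ∀ r : perpV f ![v, u], f (r : M) v = 0 := fun r => mem_perpV.1 r.2 0
  choose G hGe hG hGs using fun r : perpV f ![v, u] => hS.exists_eich hv (hrv r)
  let ρ : perpV f ![v, u] → Module.End F M →+ Module.End F M := fun r =>
    { toFun := fun Y => (G r).toLinearMap ∘ₗ Y ∘ₗ (G r).symm.toLinearMap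
      map_zero' := by ext a; simp
      map_add' := fun Y Z => by ext a; simp }
  obtain ⟨Y, hY, hYS, hfix⟩ := exists_fixed_mod (p := p)
    (fun w => by rw [← Nat.cast_smul_eq_nsmul F, CharP.cast_eq_zero, zero_smul])
    (fun Y => by rw [← Nat.cast_smul_eq_nsmul F, CharP.cast_eq_zero, zero_smul]) ρ
    (fun Y => LinearMap.ext fun a => by
      show G 0 (Y ((G 0).symm a)) = Y a
      simp [hG, hGs, eich_zero])
    (fun r s Y => LinearMap.ext fun a => by
      show G (r + s) (Y ((G (r + s)).symm a)) = G r (G s (Y ((G s).symm ((G r).symm a))))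
      simp only [hG, hGs, Submodule.coe_add, neg_add_rev]
      rw [hS.eich_comp hv (hrv r) (hrv s), hS.eich_comp hv (by simp [hrv s]) (by simp [hrv r])])
    X S (fun r Y hY => hX _ (hGe r) Y hY) (fun r Y hY => hS' _ (hGe r) Y hY) h₀ h₀S
  refine ⟨Y, hY, hYS, fun r hr hru => ?_⟩
  let r' : perpV f ![v, u] := ⟨r, mem_perpV.2 fun i => by fin_cases i; exacts [hr, hru]⟩
  refine ⟨_, hfix r', fun a => ?_⟩
  show _ = G r' (Y ((G r').symm (eich f v r a))) - Y (eich f v r a)
  rw [← show G r' a = eich f v r a from hG r' a, LinearEquiv.symm_apply_apply, hG, hG]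

/-- a map commuting with all Eichler maps up to the same scalars is scalar -/
theorem scalar_of_comm (hS : SymNd f) [Finite F] (h3 : 3 ≤ finrank F M)
    (hbig : finrank F M = 3 → ∃ R : F, R ≠ 0 ∧ R * R ≠ 1) {X : Module.End F M}
    (hX : ∀ g ∈ eichGen f, ∃ c : F, ∀ a, g (X a) - X (g a) = c • g a) : ∃ k : F, ∀ a, X a = k • a := by
  choose X' hX' using fun a => exists_repr (σ := RingHom.id F) (fun _ => rfl) f hS.nondeg ((f.flip a) ∘ₗ X)
  have hX'' : ∀ a b, f b (X' a) = f (X b) a := fun a b => hX' a b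
  let Xs : Module.End F M :=
    { toFun := X'
      map_add' := fun a b => sub_eq_zero.1 (hS.nondeg _ fun y => by
        rw [hS.symm y, map_sub, map_add, hX'', hX'', hX'', map_add]; ring)
      map_smul' := fun c a => sub_eq_zero.1 (hS.nondeg _ fun y => by
        rw [hS.symm y, RingHom.id_apply, map_sub, map_smul, hX'', hX'', map_smul]; simp) }
  have hadj : ∀ a b, f (X a) b = f a (Xs b) := fun a b => (hX'' b a).symm
  have hE : ∀ v r, f v v = 0 → f r v = 0 → ∃ c : F, ∀ a,
      eich f v r (X a) - X (eich f v r a) = c • eich f v r a ∧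
      eich f v r (Xs a) - Xs (eich f v r a) = c • eich f v r a := by
    intro v r hv hr
    obtain ⟨g, -, hga, hgs⟩ := hS.exists_eich hv hr
    obtain ⟨c, hc⟩ := hX g ⟨v, r, hv, hr, hga⟩
    refine ⟨c, fun a => ⟨by simp only [← hga]; exact hc a, sub_eq_zero.1 (hS.nondeg _ fun y => ?_)⟩⟩
    obtain ⟨b, rfl⟩ := g.surjective y
    have e : ∀ p q, f (g p) (g q) = f p q := fun p q => by rw [hga, hga, hS.eich_isom hv hr]
    have h := congrArg (fun t => f t (g a)) (hc b)
    simp only [map_sub, map_smul, LinearMap.sub_apply, LinearMap.smul_apply, smul_eq_mul, e, hadj] at h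
    simp only [← hga, map_sub, map_smul, LinearMap.sub_apply, LinearMap.smul_apply, smul_eq_mul, e]
    rw [hS.symm b (Xs a), hS.symm (g b) (Xs (g a)), hS.symm b a]
    linear_combination h
  obtain ⟨v₀, hv₀0, hv₀⟩ := hS.exists_iso_top h3
  -- the skew part
  let K : Module.End F M := X - Xs
  have hK : ∀ a a', f (K a) a' = -f a (K a') := fun a a' => by
    simp only [K, LinearMap.sub_apply, map_sub, hadj]
    rw [hS.symm a' (Xs a), ← hadj a' a, hS.symm a (X a')]
    ring
  have hKv : ∀ v, v ≠ 0 → f v v = 0 → K v = 0 := by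
    intro v hv0 hv
    obtain ⟨u, hu, hvu, huv⟩ := hS.partner hv0 hv
    obtain ⟨r₀, hr₀v, hr₀u, hKa⟩ := hS.fixed_skew h3 hv hu hvu huv hK fun r hr hru a => by
      obtain ⟨c, hc⟩ := hE v r hv hr
      obtain ⟨h1, h2⟩ := hc a
      simp only [K, LinearMap.sub_apply, map_sub]
      linear_combination (norm := module) h1 - h2
    rw [hKa, hv, hS.symm r₀ v, hr₀v, zero_smul, zero_smul, sub_zero]
  have hK0 : ∀ a, K a = 0 := by
    intro a
    have hsp := hS.iso_span hS.ndS_top (Submodule.mem_top (x := v₀)) hv₀0 hv₀ (Submodule.mem_top (x := a))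
    have hle : Submodule.span F {x : M | x ∈ (⊤ : Submodule F M) ∧ f x x = 0} ≤ LinearMap.ker K := by
      refine Submodule.span_le.2 fun x hx => ?_
      rcases eq_or_ne x 0 with rfl | hx0
      · exact map_zero K
      · exact hKv x hx0 hx.2
    exact hle hsp
  have hXs : ∀ a, Xs a = X a := fun a => (sub_eq_zero.1 (hK0 a)).symm
  have hsym : ∀ a a', f (X a) a' = f a (X a') := fun a a' => by rw [hadj, hXs]
  have hfix : ∀ v u, f v v = 0 → f u u = 0 → f v u = 1 →
      ∃ s t : F, ∀ a, X a = s • a + (t * f a v) • v := fun v u hv hu hvu =>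
    hS.fixed_sym h3 hbig hv hu hvu (by rw [hS.symm, hvu]) hsym fun r hr hru => by
      obtain ⟨c, hc⟩ := hE v r hv hr
      exact ⟨c, fun a => (hc a).1⟩
  obtain ⟨u, hu, hvu, huv⟩ := hS.partner hv₀0 hv₀
  obtain ⟨s, t, hst⟩ := hfix v₀ u hv₀ hu hvu
  obtain ⟨s', t', hst'⟩ := hfix u v₀ hu hv₀ huv
  refine ⟨s, fun a => ?_⟩
  have h1 := (hst u).symm.trans (hst' u)
  rw [huv, hu, mul_one, mul_zero, zero_smul, add_zero] at h1
  have h2 := congrArg (fun y => f y u) h1
  simp [hu, hvu] at h2
  rw [hst, h2, zero_mul, zero_smul, add_zero]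

end SymNd

end CfsgLib.MaxSub.TForm
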