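import Cfsg.Agent.Lib.MaxSub.TFormOOPair

/-!
Orthogonal ⊗ orthogonal: an overgroup without Siegel maps at singular pencils consists of pure maps.
-/

set_option autoImplicit false
set_option linter.unusedSectionVars false
set_option linter.unusedSimpArgs false
set_option linter.unusedVariables false
set_option linter.style.haveILetI false
set_option maxHeartbeats 1000000

namespace CfsgLib.MaxSub.TForm

open Module

variable {F A B V : Type*} [Field F] [AddCommGroup A] [Module F A] [AddCommGroup B] [Module F B]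
  [AddCommGroup V] [Module F V]

namespace OData

variable {T : Sys F A B V (RingHom.id F)} {H : Subgroup (V ≃ₗ[F] V)}
variable [Finite F] [FiniteDimensional F A] [FiniteDimensional F B] [FiniteDimensional F V]

theorem root_pow (D : OData T H) {z w : B} (P : IsPl T z w) {t : V ≃ₗ[F] V}
    (htx : ∀ x, t x = x + rootN T z w x) (n : ℕ) (x : V) : (t ^ n) x = x + n • rootN T z w x := by
  induction n with
  | zero => simp
  | succ n ih =>
      rw [pow_succ', LinearEquiv.mul_apply, ih, htx, map_add (rootN T z w), map_nsmul, D.rootN_sq P,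
        smul_zero, add_zero, add_smul, one_smul]
      abel

/-- if a conjugate root element commutes with `t⁻¹ r`, `r ≠ t` a commuting conjugate of the root element `t`,
it comes from a pure element -/
theorem kron_of_central (D : OData T H) (hno : NoFrame T H) {z w z₁ w₁ : B} (P : IsPl T z w)
    (P₁ : IsPl T z₁ w₁) {h x t t₁ : V ≃ₗ[F] V} (hh : h ∈ H) (hx : x ∈ H) (ht : t ∈ H) (ht₁ : t₁ ∈ H)
    (htx : ∀ y, t y = y + rootN T z w y) (ht₁x : ∀ y, t₁ y = y + rootN T z₁ w₁ y)
    (hc : Commute t (x * t * x⁻¹)) (hne : x * t * x⁻¹ ≠ t)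
    (hu : Commute (t⁻¹ * (x * t * x⁻¹)) (h * t₁ * h⁻¹)) : IsKron T h := by
  classical
  haveI := D.nontrivA
  haveI : Finite V := Module.finite_of_finite F
  haveI : Finite B := Module.finite_of_finite F
  obtain ⟨M, f, hf⟩ := D.kron_of_commute hno P P hx ht ht htx htx hc
  obtain ⟨t', -, ht'x, -, E, hE, ht'E⟩ := D.exists_root P
  have htE : ∀ a b, t (T.tau a b) = T.tau a (E b) := fun a b => by rw [← ht'E, htx, ht'x]
  obtain ⟨a₀, ha₀⟩ := exists_ne (0 : A)
  haveI := Module.nontrivial_of_finrank_pos (R := F) (M := B) (by have := D.dimB; omega)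
  obtain ⟨b₀, hb₀⟩ := exists_ne (0 : B)
  have hMinj : Function.Injective M := (injective_iff_map_eq_zero M).2 fun a ha => by
    by_contra ha0
    have h1 : x (T.tau a b₀) = 0 := by rw [hf, ha, map_zero, LinearMap.zero_apply]
    rw [LinearEquiv.map_eq_zero_iff, ← map_zero (T.tau a)] at h1
    exact hb₀ (D.tau_right_inj ha0 h1)
  have hfinj : Function.Injective f := (injective_iff_map_eq_zero f).2 fun b hb => by
    have h1 : x (T.tau a₀ b) = 0 := by rw [hf, hb, map_zero]
    rw [LinearEquiv.map_eq_zero_iff, ← map_zero (T.tau a₀)] at h1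
    exact D.tau_right_inj ha₀ h1
  let fe : B ≃ₗ[F] B := LinearEquiv.ofInjectiveEndo f hfinj
  let k : B ≃ₗ[F] B := E⁻¹ * (fe * E * fe⁻¹)
  set r := x * t * x⁻¹ with hr
  set j := t⁻¹ * r with hj
  have hrx : ∀ a b, r (T.tau a b) = T.tau a (fe (E (fe.symm b))) := fun a b => by
    obtain ⟨a', rfl⟩ := LinearMap.injective_iff_surjective.1 hMinj a
    have h1 : x⁻¹ (T.tau (M a') b) = T.tau a' (fe.symm b) := by
      apply x.injective
      rw [ap_inv, hf]
      congr 1
      exact (fe.apply_symm_apply b).symm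
    show x (t (x⁻¹ _)) = _
    rw [h1, htE, hf]
    rfl
  have hjk : ∀ a b, j (T.tau a b) = T.tau a (k b) := fun a b => by
    show t⁻¹ (r (T.tau a b)) = _
    rw [hrx]
    apply t.injective
    rw [ap_inv, htE]
    show _ = T.tau a (E (E.symm _))
    rw [LinearEquiv.apply_symm_apply]
    rfl
  have hjH : j ∈ H := mul_mem (inv_mem ht) (mul_mem (mul_mem hx ht) (inv_mem hx))
  obtain ⟨p, hp⟩ := CharP.exists F
  haveI := hp
  haveI : Fact p.Prime := ⟨CharP.char_is_prime F p⟩
  have htp : t ^ p = 1 := LinearEquiv.ext fun y => by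
    rw [D.root_pow P htx, ← Nat.cast_smul_eq_nsmul F, CharP.cast_eq_zero, zero_smul, add_zero]
    rfl
  have hrp : r ^ p = 1 := by rw [hr, conj_pow, htp, mul_one, mul_inv_cancel]
  have hjp : j ^ p = 1 := by
    rw [hj, (hc.inv_left).mul_pow, inv_pow, htp, hrp, inv_one, one_mul]
  have hjn : ∀ (n : ℕ) a b, (j ^ n) (T.tau a b) = T.tau a ((k ^ n) b) := by
    intro n
    induction n with
    | zero => intro a b; rfl
    | succ n ih =>
        intro a b
        rw [pow_succ', pow_succ']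
        show j ((j ^ n) (T.tau a b)) = T.tau a (k ((k ^ n) b))
        rw [ih, hjk]
  have hkp : k ^ p = 1 := LinearEquiv.ext fun b => D.tau_right_inj ha₀ (by
    rw [← hjn, hjp]; rfl)
  let kl : Module.End F B := (k : B →ₗ[F] B)
  set N : Module.End F B := kl - 1 with hN
  haveI : CharP (Module.End F B) p := charP_of_injective_algebraMap (algebraMap F (Module.End F B)).injective p
  have hNp : N ^ p = 0 := by
    have e : ∀ n : ℕ, kl ^ n = ((k ^ n : B ≃ₗ[F] B) : B →ₗ[F] B) := by
      intro n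
      induction n with
      | zero => rfl
      | succ n ih => rw [pow_succ, pow_succ, ih]; rfl
    have h1 : N ^ p ^ 1 = 0 := by
      rw [hN, sub_pow_char_pow_of_commute _ _ (Commute.one_right _), one_pow, pow_one, e, hkp]
      exact sub_self _
    rwa [pow_one] at h1
  have hN1 : N ≠ 0 := fun e => hne (by
    have hj1 : j = 1 := LinearEquiv.ext fun y => LinearMap.congr_fun
      (D.ext_tau (f := (j : V →ₗ[F] V)) (g := LinearMap.id) fun a b => by
        show j (T.tau a b) = T.tau a b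
        rw [hjk]
        congr 1
        exact sub_eq_zero.1 (LinearMap.congr_fun e b)) y
    exact (inv_mul_eq_one.1 hj1).symm)
  have hex : ∃ n, N ^ n = 0 := ⟨p, hNp⟩
  obtain ⟨m, hm1, hm0, hm⟩ : ∃ m, 1 ≤ m ∧ N ^ (m + 1) = 0 ∧ N ^ m ≠ 0 := by
    have h0 := Nat.find_spec hex
    have hmin := fun i => Nat.find_min hex (m := i)
    rcases hn : Nat.find hex with _ | _ | n
    · rw [hn, pow_zero] at h0; exact absurd h0 one_ne_zero
    · rw [hn, pow_one] at h0; exact absurd h0 hN1
    · exact ⟨n + 1, by omega, by rw [hn] at h0; exact h0, hmin _ (by omega)⟩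
  set S := LinearMap.range (N ^ m) with hS
  have hkfix : ∀ s ∈ S, k s = s := by
    rintro _ ⟨y, rfl⟩
    refine sub_eq_zero.1 ?_
    show (N * N ^ m) y = 0
    rw [← pow_succ', hm0]; rfl
  obtain ⟨a₁, ha₁⟩ := D.exists_dualA ha₀
  have hkiso : ∀ b b', T.fB (k b) (k b') = T.fB b b' := fun b b' => by
    have h := D.isom j hjH (T.tau a₀ b) (T.tau a₁ b')
    rwa [hjk, hjk, D.form_tau, D.form_tau, ha₁, one_mul, one_mul] at h
  have hts : ∀ s ∈ S, ∀ s' ∈ S, T.fB s s' = 0 := by
    intro s hs s' hs'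
    obtain ⟨y, rfl⟩ := hs'
    obtain ⟨m', rfl⟩ : ∃ m', m = m' + 1 := ⟨m - 1, by omega⟩
    rw [pow_succ']
    show T.fB s (k ((N ^ m') y) - (N ^ m') y) = 0
    rw [map_sub]
    conv_lhs => arg 1; rw [← hkfix s hs, hkiso]
    exact sub_self _
  obtain ⟨y₀, hy₀⟩ : ∃ y, (N ^ m) y ≠ 0 := by
    by_contra hall
    simp only [not_exists, not_not] at hall
    exact hm (LinearMap.ext hall)
  set W := Submodule.span F {v | ∃ a, ∃ s ∈ S, v = T.tau a s} with hW
  set u := h * t₁ * h⁻¹ with hudef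
  let J : Module.End F V := (j : V →ₗ[F] V) - 1
  have hJn : ∀ (n : ℕ) a b, (J ^ n) (T.tau a b) = T.tau a ((N ^ n) b) := by
    intro n
    induction n with
    | zero => intro a b; rfl
    | succ n ih =>
        intro a b
        rw [pow_succ', pow_succ', Module.End.mul_apply, Module.End.mul_apply, ih]
        show j (T.tau a ((N ^ n) b)) - T.tau a ((N ^ n) b) = T.tau a (k ((N ^ n) b) - (N ^ n) b)
        rw [hjk, map_sub]
  have hJW : ∀ y, (J ^ m) y ∈ W := fun y => D.induction (p := fun y => (J ^ m) y ∈ W) (by simp)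
    (fun a b ha hb => by rw [map_add]; exact W.add_mem ha hb)
    (fun a b => by rw [hJn]; exact Submodule.subset_span ⟨a, _, ⟨b, rfl⟩, rfl⟩) y
  have hcomm : Commute ((u : V →ₗ[F] V) : Module.End F V) J := LinearMap.ext fun y => by
    show u (j y - y) = j (u y) - u y
    rw [map_sub]
    congr 1
    exact (LinearEquiv.congr_fun hu.eq y).symm
  have huW : IsKron T (u : V ≃ₗ[F] V) := by
    refine D.kron_of_ts hno hts (z := (N ^ m) y₀) ⟨y₀, rfl⟩ hy₀ hW
      (mul_mem (mul_mem hh ht₁) (inv_mem hh)) fun y hy => ?_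
    rw [hW] at hy
    induction hy using Submodule.span_induction with
    | mem v hv =>
        obtain ⟨a, _, ⟨b, rfl⟩, rfl⟩ := hv
        rw [← hJn]
        have h1 : u ((J ^ m) (T.tau a b)) = (J ^ m) (u (T.tau a b)) :=
          LinearMap.congr_fun (hcomm.pow_right m).eq _
        rw [h1]
        exact hJW _
    | zero => simp
    | add x y _ _ hx hy => rw [map_add]; exact W.add_mem hx hy
    | smul c x _ hx => rw [map_smul]; exact W.smul_mem c hx
  exact D.kron_of_root hno P₁ hh ht₁ ht₁x huW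

/-- the same with the roles of the two root elements exchanged -/
theorem kron_of_central' (D : OData T H) (hno : NoFrame T H) {z w z₁ w₁ : B} (P : IsPl T z w)
    (P₁ : IsPl T z₁ w₁) {h x t t₁ : V ≃ₗ[F] V} (hh : h ∈ H) (hx : x ∈ H) (ht : t ∈ H) (ht₁ : t₁ ∈ H)
    (htx : ∀ y, t y = y + rootN T z w y) (ht₁x : ∀ y, t₁ y = y + rootN T z₁ w₁ y)
    (hc : Commute (h * t₁ * h⁻¹) (x * (h * t₁ * h⁻¹) * x⁻¹))
    (hne : x * (h * t₁ * h⁻¹) * x⁻¹ ≠ h * t₁ * h⁻¹)
    (hu : Commute ((h * t₁ * h⁻¹)⁻¹ * (x * (h * t₁ * h⁻¹) * x⁻¹)) t) : IsKron T h := by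
  have hcm : ∀ g g' : V ≃ₗ[F] V, Commute g g' → Commute (h⁻¹ * g * h) (h⁻¹ * g' * h) := by
    intro g g' hg
    show h⁻¹ * g * h * (h⁻¹ * g' * h) = h⁻¹ * g' * h * (h⁻¹ * g * h)
    have e : g * g' = g' * g := hg
    calc h⁻¹ * g * h * (h⁻¹ * g' * h) = h⁻¹ * (g * g') * h := by group
      _ = h⁻¹ * (g' * g) * h := by rw [e]
      _ = _ := by group
  have h1 := D.kron_of_central hno P₁ P (inv_mem hh) (x := h⁻¹ * x * h)
    (mul_mem (mul_mem (inv_mem hh) hx) hh) ht₁ ht ht₁x htx
    (by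
      have := hcm _ _ hc
      convert this using 1 <;> group)
    (fun e => hne (by
      have := congrArg (fun g => h * g * h⁻¹) e
      change h * (h⁻¹ * x * h * t₁ * (h⁻¹ * x * h)⁻¹) * h⁻¹ = h * t₁ * h⁻¹ at this
      calc _ = h * (h⁻¹ * x * h * t₁ * (h⁻¹ * x * h)⁻¹) * h⁻¹ := by group
        _ = _ := this))
    (by
      have := hcm _ _ hu
      convert this using 1 <;> group)
  have h2 := D.kron_inv h1
  rwa [inv_inv] at h2

/-- two root elements generating a `p`-group -/
theorem kron_of_pGroup (D : OData T H) (hno : NoFrame T H) {p : ℕ} [Fact p.Prime] {z w z₁ w₁ : B}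
    (P : IsPl T z w) (P₁ : IsPl T z₁ w₁) {h t t₁ : V ≃ₗ[F] V} (hh : h ∈ H) (ht : t ∈ H) (ht₁ : t₁ ∈ H)
    (htx : ∀ y, t y = y + rootN T z w y) (ht₁x : ∀ y, t₁ y = y + rootN T z₁ w₁ y)
    (hG : IsPGroup p (Subgroup.closure ({t, h * t₁ * h⁻¹} : Set (V ≃ₗ[F] V)))) : IsKron T h := by
  haveI : Finite V := Module.finite_of_finite F
  haveI : Finite (V ≃ₗ[F] V) := Finite.of_injective _ DFunLike.coe_injective
  set u := h * t₁ * h⁻¹ with hu
  set G := Subgroup.closure ({t, u} : Set (V ≃ₗ[F] V)) with hGdef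
  by_cases hc : Commute t u
  · exact D.kron_of_commute hno P P₁ hh ht ht₁ htx ht₁x hc
  let tG : G := ⟨t, Subgroup.subset_closure (Set.mem_insert _ _)⟩
  let uG : G := ⟨u, Subgroup.subset_closure (Set.mem_insert_of_mem _ rfl)⟩
  haveI : Nontrivial (G ⧸ Subgroup.center G) := by
    refine ⟨⟨(tG : G ⧸ Subgroup.center G), 1, fun e => hc ?_⟩⟩
    rw [QuotientGroup.eq_one_iff, Subgroup.mem_center_iff] at e
    exact (congrArg Subtype.val (e uG)).symm
  haveI := (hG.to_quotient (Subgroup.center G)).center_nontrivial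
  obtain ⟨⟨q, hq⟩, hq1⟩ := exists_ne (1 : Subgroup.center (G ⧸ Subgroup.center G))
  obtain ⟨x, rfl⟩ := QuotientGroup.mk_surjective q
  have hcen : ∀ g : G, x * g * x⁻¹ * g⁻¹ ∈ Subgroup.center G := fun g => by
    rw [← QuotientGroup.eq_one_iff]
    have := Subgroup.mem_center_iff.1 hq (g : G ⧸ Subgroup.center G)
    simp only [QuotientGroup.mk_mul, QuotientGroup.mk_inv]
    rw [← this]
    group
  have hGH : G ≤ H := (Subgroup.closure_le _).2 (by
    intro g hg
    rcases hg with rfl | rfl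
    exacts [ht, mul_mem (mul_mem hh ht₁) (inv_mem hh)])
  have key : ∀ g : G, x * g ≠ g * x →
      Commute (g : V ≃ₗ[F] V) ((x : V ≃ₗ[F] V) * g * (x : V ≃ₗ[F] V)⁻¹) ∧
      (x : V ≃ₗ[F] V) * g * (x : V ≃ₗ[F] V)⁻¹ ≠ g ∧
      ∀ g' : G, Commute ((g : V ≃ₗ[F] V)⁻¹ * ((x : V ≃ₗ[F] V) * g * (x : V ≃ₗ[F] V)⁻¹)) g' := by
    intro g hg
    obtain ⟨c, hcdef⟩ : ∃ c, c = x * g * x⁻¹ * g⁻¹ := ⟨_, rfl⟩
    have hz : ∀ g', g' * c = c * g' := Subgroup.mem_center_iff.1 (hcdef ▸ hcen g)
    have he : x * g * x⁻¹ = c * g := by rw [hcdef]; group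
    have e1 : g⁻¹ * (x * g * x⁻¹) = c := by
      rw [he, ← hz g, ← mul_assoc, inv_mul_cancel, one_mul]
    have e2 : g * (x * g * x⁻¹) = x * g * x⁻¹ * g := by
      rw [he, ← mul_assoc, hz]
    refine ⟨congrArg Subtype.val e2, fun e => hg ?_, fun g' => ?_⟩
    · exact eq_mul_inv_iff_mul_eq.1 (Subtype.ext e.symm) |>.symm
    · show _ = _
      have e3 : g⁻¹ * (x * g * x⁻¹) * g' = g' * (g⁻¹ * (x * g * x⁻¹)) := by rw [e1]; exact (hz g').symm
      exact congrArg Subtype.val e3
  by_cases h1 : x * tG = tG * x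
  · have h2 : x * uG ≠ uG * x := by
      intro h2
      refine hq1 (Subtype.ext ?_)
      show (x : G ⧸ Subgroup.center G) = 1
      rw [QuotientGroup.eq_one_iff, Subgroup.mem_center_iff]
      intro g
      obtain ⟨g, hg⟩ := g
      apply Subtype.ext
      show g * (x : V ≃ₗ[F] V) = x * g
      have hle : G ≤ Subgroup.centralizer {(x : V ≃ₗ[F] V)} := (Subgroup.closure_le _).2 (by
        intro k hk
        rw [SetLike.mem_coe, Subgroup.mem_centralizer_singleton_iff]
        rcases hk with rfl | rfl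
        · exact (congrArg Subtype.val h1).symm
        · exact (congrArg Subtype.val h2).symm)
      exact Subgroup.mem_centralizer_singleton_iff.1 (hle hg)
    obtain ⟨a1, a2, a3⟩ := key uG h2
    exact D.kron_of_central' hno P P₁ hh (hGH x.2) ht ht₁ htx ht₁x a1 a2 (a3 tG)
  · obtain ⟨a1, a2, a3⟩ := key tG h1
    exact D.kron_of_central hno P P₁ hh (hGH x.2) ht ht₁ htx ht₁x a1 a2 (a3 uG)

/-- the plane of a root element has a small neighbourhood carrying the image of every other one -/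
theorem plane_support (D : OData T H) (hno : NoFrame T H) {h : V ≃ₗ[F] V} (hh : h ∈ H)
    (hnk : ¬ IsKron T h) {z w z₁ w₁ : B} (P : IsPl T z w) (P₁ : IsPl T z₁ w₁) :
    ∃ Y : Submodule F B, finrank F Y ≤ 4 ∧ z ∈ Y ∧ w ∈ Y ∧
      ∀ x ∈ pen T z₁ ⊔ pen T w₁, ∀ c, T.C' c (h x) ∈ Y := by
  classical
  haveI := D.nontrivA
  haveI : Finite V := Module.finite_of_finite F
  haveI : Finite (V ≃ₗ[F] V) := Finite.of_injective _ DFunLike.coe_injective
  obtain ⟨p, hp⟩ := CharP.exists F
  haveI := hp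
  haveI : Fact p.Prime := ⟨CharP.char_is_prime F p⟩
  have h20 : (2 : F) ≠ 0 := D.symA.two
  have hp2 : p ≠ 2 := fun e => by subst e; exact h20 (by exact_mod_cast CharP.cast_eq_zero F 2)
  obtain ⟨t, ht, htx, -, -⟩ := D.exists_root P
  obtain ⟨t₁, ht₁, ht₁x, -, -⟩ := D.exists_root P₁
  by_cases hG : IsPGroup p (Subgroup.closure ({t, h * t₁ * h⁻¹} : Set (V ≃ₗ[F] V)))
  · exact absurd (D.kron_of_pGroup hno P P₁ hh ht ht₁ htx ht₁x hG) hnk
  set a : Module.End F V := rootN T z w with ha
  set b : Module.End F V := (h : V →ₗ[F] V) ∘ₗ rootN T z₁ w₁ ∘ₗ ((h⁻¹ : V ≃ₗ[F] V) : V →ₗ[F] V) with hb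
  have Sq : SqPair a b := ⟨LinearMap.ext fun x => D.rootN_sq P x, LinearMap.ext fun x => by
    show h (rootN T z₁ w₁ (h⁻¹ (h (rootN T z₁ w₁ (h⁻¹ x))))) = 0
    rw [inv_ap, D.rootN_sq P₁, map_zero]⟩
  have hta : ∀ x, t x = x + a x := htx
  have hub : ∀ x, (h * t₁ * h⁻¹) x = x + b x := D.conj_root_apply ht₁x
  set u := h * t₁ * h⁻¹ with hu
  set G := Subgroup.closure ({t, u} : Set (V ≃ₗ[F] V)) with hGdef
  haveI : Fact (Nat.Prime 2) := ⟨Nat.prime_two⟩
  obtain ⟨⟨j, hjG⟩, hj⟩ := exists_prime_orderOf_dvd_card' 2 (Sq.two_dvd_card hp2 hta hub hG)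
  rw [Subgroup.orderOf_mk] at hj
  have hj2 : ∀ x, j (j x) = x := fun x => by
    have h1 : j ^ 2 = 1 := hj ▸ pow_orderOf_eq_one j
    rw [pow_two] at h1
    exact LinearEquiv.congr_fun h1 x
  have hj1 : j ≠ 1 := fun e => by rw [e, orderOf_one] at hj; exact absurd hj (by norm_num)
  have hjinv : j⁻¹ = j := inv_eq_of_mul_eq_one_left (LinearEquiv.ext hj2)
  have hcen := Sq.cen_add_inv hta hub hjG
  rw [hjinv] at hcen
  have hja : ∀ x, j (a x) = a (j x) := fun x => by
    have h1 := LinearMap.congr_fun hcen.1 x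
    simp only [Module.End.mul_apply, LinearMap.add_apply, LinearEquiv.coe_coe, map_add] at h1
    rw [← two_smul F, ← two_smul F] at h1
    exact smul_right_injective V h20 h1
  have hjb : ∀ x, j (b x) = b (j x) := fun x => by
    have h1 := LinearMap.congr_fun hcen.2 x
    simp only [Module.End.mul_apply, LinearMap.add_apply, LinearEquiv.coe_coe, map_add] at h1
    rw [← two_smul F, ← two_smul F] at h1
    exact smul_right_injective V h20 h1
  have hGH : G ≤ H := (Subgroup.closure_le _).2 (by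
    intro g hg
    rcases hg with rfl | rfl
    exacts [ht, mul_mem (mul_mem hh ht₁) (inv_mem hh)])
  have hjH : j ∈ H := hGH hjG
  -- the `-1` space of `j`
  let E : Submodule F V := LinearMap.ker ((j : V →ₗ[F] V) + LinearMap.id)
  have hE : ∀ x, x ∈ E ↔ j x = -x := fun x => by
    show j x + x = 0 ↔ _
    exact add_eq_zero_iff_eq_neg
  have hEa : ∀ x ∈ E, a x ∈ E := fun x hx => by rw [hE] at hx ⊢; rw [hja, hx, map_neg]
  have hEb : ∀ x ∈ E, b x ∈ E := fun x hx => by rw [hE] at hx ⊢; rw [hjb, hx, map_neg]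
  let C : Module.End F V := a * b + b * a
  have hEC : ∀ x ∈ E, C x ∈ E := fun x hx => E.add_mem (hEa _ (hEb _ hx)) (hEb _ (hEa _ hx))
  have hfix : ∀ x ∈ E, a x = 0 → b x = 0 → x = 0 := by
    intro x hx hax hbx
    have hle : G ≤ MulAction.stabilizer (V ≃ₗ[F] V) x := (Subgroup.closure_le _).2 (by
      intro k hk
      rw [SetLike.mem_coe, MulAction.mem_stabilizer_iff]
      rcases hk with rfl | rfl
      · show _ = x
        exact (hta x).trans (by rw [hax, add_zero])
      · show _ = x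
        exact (hub x).trans (by rw [hbx, add_zero]))
    have h1 : j x = x := MulAction.mem_stabilizer_iff.1 (hle hjG)
    rw [(hE x).1 hx, neg_eq_iff_add_eq_zero, ← two_smul F] at h1
    exact (smul_eq_zero.1 h1).resolve_left h20
  have hCinj : ∀ x ∈ E, C x = 0 → x = 0 := by
    have key : ∀ x ∈ E, C x = 0 → a x = 0 → x = 0 := by
      intro x hx hCx hax
      have h1 : a (b x) = 0 := by
        have : C x = a (b x) + b (a x) := rfl
        rwa [hCx, hax, map_zero, add_zero, eq_comm] at this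
      have h2 : b (b x) = 0 := LinearMap.congr_fun Sq.hb x
      exact hfix x hx hax (hfix _ (hEb _ hx) h1 h2)
    intro x hx hCx
    refine key x hx hCx (key _ (hEa _ hx) ?_ (LinearMap.congr_fun Sq.ha x))
    rw [show C (a x) = (C * a) x from rfl, Sq.cen_C.1]
    show a (C x) = 0
    rw [hCx, map_zero]
  let CE : E →ₗ[F] E := (C : V →ₗ[F] V).restrict hEC
  have hCsurj : Function.Surjective CE := LinearMap.injective_iff_surjective.1 (by
    rw [← LinearMap.ker_eq_bot, LinearMap.ker_eq_bot']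
    exact fun x hx => Subtype.ext (hCinj x x.2 (congrArg Subtype.val hx)))
  have hker : ∀ (c d : Module.End F V), c * c = 0 → d * d = 0 → c * d + d * c = C →
      (∀ x ∈ E, c x ∈ E) → (∀ x ∈ E, d x ∈ E) → ∀ x ∈ E, c x = 0 → ∃ y ∈ E, c y = x := by
    intro c d hc hd hcd hEc hEd x hx hcx
    obtain ⟨⟨x', hx'⟩, he⟩ := hCsurj ⟨x, hx⟩
    have he' : C x' = x := congrArg Subtype.val he
    have hc0 : c (c x') = 0 := LinearMap.congr_fun hc x'
    have h0 : c (d (c x')) = 0 := by
      have h1 : c (C x') = 0 := by rw [he', hcx]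
      rw [← hcd] at h1
      simp only [LinearMap.add_apply, Module.End.mul_apply, map_add] at h1
      rwa [show c (c (d x')) = 0 from LinearMap.congr_fun hc (d x'), zero_add] at h1
    have h1 : C (c x') = 0 := by
      rw [← hcd]; simp [h0, hc0]
    refine ⟨d x', hEd _ hx', ?_⟩
    have h2 := hCinj _ (hEc _ hx') h1
    rw [← he', ← hcd]
    simp [h2]
  -- `j` is pure
  have hjK : IsKron T j := D.kron_of_two hno P hjH (p := z) (q := w) fun x hx => by
    rw [← D.range_rootN P] at hx ⊢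
    obtain ⟨y, rfl⟩ := hx
    exact ⟨j y, (hja y).symm⟩
  obtain ⟨M, f, hMf⟩ := hjK
  obtain ⟨a₀, ha₀⟩ := exists_ne (0 : A)
  obtain ⟨x₀, hx₀⟩ := D.exists_dualA ha₀
  obtain ⟨b₀, -, hb₀⟩ := D.symB.exists_aniso_of_pos D.symB.ndS_top (by
    rw [finrank_top]; have := D.dimB; omega)
  have hb₀0 : b₀ ≠ 0 := fun e => hb₀ (by simp [e])
  obtain ⟨b₁, hb₁⟩ : ∃ b₁, T.fB b₀ b₁ = 1 := ⟨(T.fB b₀ b₀)⁻¹ • b₀, by simp [hb₀]⟩
  set lam := T.fA (M (M a₀)) x₀ with hlam
  have hff : ∀ d, lam • f (f d) = d := fun d => by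
    have h := congrArg (T.C' x₀) (hj2 (T.tau a₀ d))
    rwa [hMf, hMf, D.C'_tau, D.C'_tau, hx₀, one_smul] at h
  have hlam0 : lam ≠ 0 := fun e => hb₀0 (by rw [← hff b₀, e, zero_smul])
  have hMM : ∀ c, M (M c) = lam • c := fun c => by
    have h := congrArg (T.C b₁) (hj2 (T.tau c b₀))
    rw [hMf, hMf, D.C_tau, D.C_tau, hb₁, one_smul] at h
    have hfb : T.fB (f (f b₀)) b₁ = lam⁻¹ := by
      rw [← inv_smul_smul₀ hlam0 (f (f b₀)), hff, map_smul, LinearMap.smul_apply, smul_eq_mul, hb₁, mul_one]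
    rw [hfb] at h
    rwa [inv_smul_eq_iff₀ hlam0] at h
  obtain ⟨s, hs0, hs⟩ : ∃ s : F, s ≠ 0 ∧ lam = s * s := by
    rcases D.par with ⟨m, hm⟩ | ⟨m, hm⟩
    · refine ⟨LinearMap.det M / lam ^ m, ?_, ?_⟩
      · have h1 := congrArg LinearMap.det (show M ∘ₗ M = lam • LinearMap.id from LinearMap.ext hMM)
        rw [LinearMap.det_comp, LinearMap.det_smul, LinearMap.det_id, mul_one] at h1
        refine div_ne_zero (fun e => ?_) (pow_ne_zero _ hlam0)
        rw [e, zero_mul] at h1
        exact pow_ne_zero _ hlam0 h1.symm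
      · have h1 := congrArg LinearMap.det (show M ∘ₗ M = lam • LinearMap.id from LinearMap.ext hMM)
        rw [LinearMap.det_comp, LinearMap.det_smul, LinearMap.det_id, mul_one, hm] at h1
        field_simp
        rw [← pow_two] at h1
        rw [h1]; ring
    · have hfc : f ∘ₗ f = lam⁻¹ • LinearMap.id := LinearMap.ext fun d => by
        show f (f d) = lam⁻¹ • d
        conv_rhs => rw [← hff d, inv_smul_smul₀ hlam0]
      have h1 := congrArg LinearMap.det hfc
      rw [LinearMap.det_comp, LinearMap.det_smul, LinearMap.det_id, mul_one, hm] at h1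
      have hd0 : LinearMap.det f ≠ 0 := fun e => by
        rw [e, zero_mul] at h1
        exact pow_ne_zero _ (inv_ne_zero hlam0) h1.symm
      refine ⟨(LinearMap.det f * lam ^ m)⁻¹, inv_ne_zero (mul_ne_zero hd0 (pow_ne_zero _ hlam0)), ?_⟩
      have h2 : (LinearMap.det f * lam ^ m) * (LinearMap.det f * lam ^ m) = lam⁻¹ := by
        calc _ = (LinearMap.det f * LinearMap.det f) * lam ^ (2 * m) := by ring
          _ = _ := by
            rw [h1, inv_pow, pow_succ]
            field_simp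
      rw [← mul_inv, h2, inv_inv]
  -- normalise
  obtain ⟨M, f, hMf, hM2, hf2⟩ : ∃ (M : A →ₗ[F] A) (f : B →ₗ[F] B),
      (∀ c d, j (T.tau c d) = T.tau (M c) (f d)) ∧ (∀ c, M (M c) = c) ∧ ∀ d, f (f d) = d := by
    refine ⟨s⁻¹ • M, s • f, fun c d => ?_, fun c => ?_, fun d => ?_⟩
    · rw [hMf]; simp [smul_smul, inv_mul_cancel₀ hs0, mul_inv_cancel₀ hs0]
    · simp [hMM, hs, smul_smul, hs0]
    · simp only [LinearMap.smul_apply, map_smul, smul_smul]
      rw [← hs, hff]
  let Nb : B →ₗ[F] B := (T.fB.flip z).smulRight w - (T.fB.flip w).smulRight z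
  have hNb : ∀ d, Nb d = T.fB d z • w - T.fB d w • z := fun d => rfl
  have haN : ∀ c d, a (T.tau c d) = T.tau c (Nb d) := fun c d => by
    rw [ha, rootN_apply, D.C_tau, D.C_tau, hNb]
    simp
  have hMinj : ∀ c, M c = 0 → c = 0 := fun c hc => by rw [← hM2 c, hc, map_zero]
  have hfN : ∀ d, f (Nb d) = Nb (f d) := fun d => by
    have h1 := hja (T.tau a₀ d)
    rw [haN, hMf, hMf, haN] at h1
    exact D.tau_right_inj (fun e => ha₀ (hMinj _ e)) h1
  obtain ⟨z', w', h1, h2, h3, h4⟩ := D.exists_dual P.ne P.indep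
  have hNz : Nb w' = -z := by rw [hNb, D.symB.symm z w', h3, D.symB.symm w w', h4]; simp
  have hNw : Nb z' = w := by rw [hNb, D.symB.symm z z', h1, D.symB.symm w z', h2]; simp
  set Pl := Submodule.span F ({z, w} : Set B) with hPl
  have hzPl : z ∈ Pl := Submodule.subset_span (Set.mem_insert _ _)
  have hwPl : w ∈ Pl := Submodule.subset_span (Set.mem_insert_of_mem _ rfl)
  have hPl2 : finrank F Pl ≤ 2 := by
    have h := finrank_span_finset_le_card (R := F) ({z, w} : Finset B)
    rw [Finset.coe_insert, Finset.coe_singleton] at h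
    exact h.trans Finset.card_le_two
  have hNbPl : ∀ d, Nb d ∈ Pl := fun d =>
    Pl.sub_mem (Pl.smul_mem _ hwPl) (Pl.smul_mem _ hzPl)
  have hkerN : finrank F B ≤ finrank F (LinearMap.ker Nb) + 2 := by
    have e1 := Nb.finrank_range_add_finrank_ker
    have e2 := Submodule.finrank_mono (show LinearMap.range Nb ≤ Pl by rintro _ ⟨d, rfl⟩; exact hNbPl d)
    omega
  -- negated pure vectors killed by `a` lie in the plane
  have hneg : ∀ c d, c ≠ 0 → j (T.tau c d) = -T.tau c d → Nb d = 0 → d ∈ Pl := by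
    intro c d hc hjc hd
    obtain ⟨y, -, hy⟩ := hker a b Sq.ha Sq.hb rfl hEa hEb _ ((hE _).2 hjc) (by
      rw [haN, hd, map_zero])
    obtain ⟨x, hx⟩ := D.exists_dualA hc
    have h1 := congrArg (T.C' x) hy
    rw [D.C'_tau, hx, one_smul] at h1
    rw [← h1, ha, rootN_apply, map_sub, D.C'_tau, D.C'_tau]
    exact Pl.sub_mem (Pl.smul_mem _ hwPl) (Pl.smul_mem _ hzPl)
  have hnotboth : ¬ ((∃ c, M c ≠ c) ∧ ∃ c, M c ≠ -c) := by
    rintro ⟨⟨c, hc⟩, ⟨c', hc'⟩⟩
    have hmc : M (c - M c) = -(c - M c) := by rw [map_sub, hM2]; abel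
    have hpc : M (c' + M c') = c' + M c' := by rw [map_add, hM2, add_comm]
    have hsub : LinearMap.ker Nb ≤ Pl := by
      intro d hd
      rw [LinearMap.mem_ker] at hd
      have hfd : Nb (f d) = 0 := by rw [← hfN, hd, map_zero]
      have k1 : d + f d ∈ Pl := hneg (c - M c) _ (sub_ne_zero.2 (Ne.symm hc)) (by
        rw [hMf, hmc, map_add f, hf2, add_comm (f d), map_neg, LinearMap.neg_apply])
        (by rw [map_add, hd, hfd, add_zero])
      have k2 : d - f d ∈ Pl := hneg (c' + M c') _ (fun e => hc' (eq_neg_of_add_eq_zero_right e)) (by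
        rw [hMf, hpc, map_sub f, hf2, ← map_neg, neg_sub]) (by rw [map_sub, hd, hfd, sub_zero])
      have h := Pl.smul_mem (2 : F)⁻¹ (Pl.add_mem k1 k2)
      rwa [show d + f d + (d - f d) = (2 : F) • d by rw [two_smul]; abel, inv_smul_smul₀ h20] at h
    have := Submodule.finrank_mono hsub
    have := D.dimB
    omega
  -- now `M = -1`
  obtain ⟨f, hMf, hf2, hfN⟩ : ∃ f : B →ₗ[F] B, (∀ c d, j (T.tau c d) = -T.tau c (f d)) ∧
      (∀ d, f (f d) = d) ∧ ∀ d, f (Nb d) = Nb (f d) := by
    rcases not_and_or.1 hnotboth with hall | hall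
    · simp only [not_exists, not_not] at hall
      exact ⟨-f, fun c d => by rw [hMf, hall]; simp, fun d => by simp [hf2], fun d => by simp [hfN]⟩
    · simp only [not_exists, not_not] at hall
      exact ⟨f, fun c d => by rw [hMf, hall]; simp, hf2, hfN⟩
  have hfiso : ∀ d d', T.fB (f d) (f d') = T.fB d d' := fun d d' => by
    have h := D.isom j hjH (T.tau a₀ d) (T.tau x₀ d')
    rw [hMf, hMf, map_neg, map_neg, LinearMap.neg_apply, neg_neg, D.form_tau, D.form_tau, hx₀, one_mul,
      one_mul] at h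
    exact h
  let Y : Submodule F B := LinearMap.ker (f - LinearMap.id)
  have hY : ∀ d, d ∈ Y ↔ f d = d := fun d => by
    show f d - d = 0 ↔ _
    exact sub_eq_zero
  have hYker : ∀ d ∈ Y, Nb d = 0 → d ∈ Pl := fun d hd h0 =>
    hneg a₀ d ha₀ (by rw [hMf, (hY d).1 hd]) h0
  -- `f` is trivial on the plane
  have hfP : ∀ x ∈ Pl, f x = x := by
    have hfPl : ∀ x ∈ Pl, f x ∈ Pl := by
      intro x hx
      obtain ⟨α, β, rfl⟩ := Submodule.mem_span_pair.1 hx
      have : α • z + β • w = Nb (β • z' - α • w') := by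
        rw [map_sub, map_smul, map_smul, hNz, hNw]; module
      rw [this, hfN]
      exact hNbPl _
    by_contra hall
    simp only [not_forall] at hall
    obtain ⟨x, hx, hfx⟩ := hall
    set q := x - f x with hq
    have hq0 : q ≠ 0 := sub_ne_zero.2 (Ne.symm hfx)
    have hfq : f q = -q := by rw [hq, map_sub, hf2]; abel
    have hqP : q ∈ Pl := Pl.sub_mem hx (hfPl x hx)
    obtain ⟨α, β, hαβ⟩ := Submodule.mem_span_pair.1 hqP
    -- then `a` vanishes on the `-1` space
    have hNY : ∀ y ∈ Y, Nb y = 0 := by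
      intro y hy
      have e : T.fB y q = 0 := by
        have h := hfiso y q
        rw [(hY y).1 hy, hfq, map_neg] at h
        exact (mul_eq_zero.1 (show (2 : F) * T.fB y q = 0 by linear_combination -h)).resolve_left h20
      rw [← hαβ, map_add, map_smul, map_smul, smul_eq_mul, smul_eq_mul] at e
      obtain ⟨l, hl⟩ : ∃ l : F, Nb y = l • q := by
        by_cases hβ : β = 0
        · have hα : α ≠ 0 := fun h0 => hq0 (by rw [← hαβ, h0, hβ]; simp)
          have hyz : T.fB y z = 0 := by simpa [hβ, hα] using e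
          exact ⟨-(T.fB y w) / α, by rw [hNb, hyz, ← hαβ, hβ]; match_scalars <;> field_simp <;> ring⟩
        · refine ⟨T.fB y z / β, ?_⟩
          rw [hNb, ← hαβ]
          match_scalars
          · field_simp
          · field_simp; linear_combination -e
      have h := hfN y
      rw [(hY y).1 hy, hl, map_smul, hfq, smul_neg, neg_eq_iff_add_eq_zero, ← two_smul F] at h
      rw [hl]
      exact (smul_eq_zero.1 h).resolve_left h20
    have haE : ∀ x ∈ E, a x = 0 := by
      intro x hx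
      have h : a (x - j x) = 0 := D.induction (p := fun x => a (x - j x) = 0) (by simp)
        (fun y y' hy hy' => by rw [map_add j, add_sub_add_comm, map_add, hy, hy', add_zero])
        (fun c d => by
          rw [hMf, sub_neg_eq_add, ← map_add, haN, hNY _ ((hY _).2 (by rw [map_add, hf2, add_comm])),
            map_zero]) x
      rw [(hE x).1 hx, sub_neg_eq_add, ← two_smul F, map_smul] at h
      exact (smul_eq_zero.1 h).resolve_left h20
    refine hj1 (LinearEquiv.ext fun v => ?_)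
    have hv : v - j v ∈ E := (hE _).2 (by rw [map_sub, hj2]; abel)
    obtain ⟨y, hy, hay⟩ := hker a b Sq.ha Sq.hb rfl hEa hEb _ hv (haE _ hv)
    rw [haE y hy, eq_comm, sub_eq_zero] at hay
    exact hay.symm
  have hzY : z ∈ Y := (hY z).2 (hfP z hzPl)
  have hwY : w ∈ Y := (hY w).2 (hfP w hwPl)
  have hY4 : finrank F Y ≤ 4 := by
    have e1 := (Nb ∘ₗ Y.subtype).finrank_range_add_finrank_ker
    have e2 := Submodule.finrank_mono (show LinearMap.range (Nb ∘ₗ Y.subtype) ≤ Pl by
      rintro _ ⟨d, rfl⟩; exact hNbPl _)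
    have e3 : finrank F (LinearMap.ker (Nb ∘ₗ Y.subtype)) ≤ finrank F Pl := by
      rw [← Submodule.finrank_map_subtype_eq]
      refine Submodule.finrank_mono ?_
      rintro _ ⟨d, hd, rfl⟩
      exact hYker d.1 d.2 hd
    omega
  -- the kernel of `a` on `E` is the whole plane, hence that of `b` the whole image
  have hpE : ∀ x ∈ pen T z ⊔ pen T w, x ∈ E := by
    intro x hx
    have h : pen T z ⊔ pen T w ≤ E := by
      rw [sup_le_iff]
      constructor <;> rintro _ ⟨c, rfl⟩
      · exact (hE _).2 (by rw [LinearMap.flip_apply, hMf, hfP z hzPl])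
      · exact (hE _).2 (by rw [LinearMap.flip_apply, hMf, hfP w hwPl])
    exact h hx
  let aE : E →ₗ[F] E := a.restrict hEa
  let bE : E →ₗ[F] E := b.restrict hEb
  have hpow : ∀ (c : E →ₗ[F] E), (∀ x, c x = 0 ↔ ∃ y, c y = x) →
      finrank F E = 2 * finrank F (LinearMap.range c) := by
    intro c hc
    have h1 := LinearMap.finrank_range_add_finrank_ker c
    have h2 : LinearMap.ker c = LinearMap.range c := Submodule.ext fun x => hc x
    rw [h2] at h1
    omega
  have hka := hpow aE fun x => ⟨fun hx => by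
    obtain ⟨y, hy, he⟩ := hker a b Sq.ha Sq.hb rfl hEa hEb x x.2 (congrArg Subtype.val hx)
    exact ⟨⟨y, hy⟩, Subtype.ext he⟩, by
    rintro ⟨y, rfl⟩; exact Subtype.ext (LinearMap.congr_fun Sq.ha y.1)⟩
  have hkb := hpow bE fun x => ⟨fun hx => by
    obtain ⟨y, hy, he⟩ := hker b a Sq.hb Sq.ha (add_comm _ _) hEb hEa x x.2 (congrArg Subtype.val hx)
    exact ⟨⟨y, hy⟩, Subtype.ext he⟩, by
    rintro ⟨y, rfl⟩; exact Subtype.ext (LinearMap.congr_fun Sq.hb y.1)⟩
  have ha_le : finrank F A + finrank F A ≤ finrank F (LinearMap.range aE) := by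
    rw [← D.finrank_plane P, ← Submodule.finrank_map_subtype_eq E (LinearMap.range aE)]
    refine Submodule.finrank_mono ?_
    intro x hx
    have hax : a x = 0 := by
      have h := hx
      rw [← D.range_rootN P] at h
      obtain ⟨y, rfl⟩ := h
      exact LinearMap.congr_fun Sq.ha y
    obtain ⟨y, hy, he⟩ := hker a b Sq.ha Sq.hb rfl hEa hEb x (hpE x hx) hax
    exact ⟨⟨x, hpE x hx⟩, ⟨⟨y, hy⟩, Subtype.ext he⟩, rfl⟩
  set U := (pen T z₁ ⊔ pen T w₁).map (h : V →ₗ[F] V) with hU
  have hbU : (LinearMap.range bE).map E.subtype ≤ U := by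
    rintro _ ⟨_, ⟨y, rfl⟩, rfl⟩
    rw [hU, ← D.range_rootN P₁]
    exact ⟨_, ⟨_, rfl⟩, rfl⟩
  have hUeq : (LinearMap.range bE).map E.subtype = U := Submodule.eq_of_le_of_finrank_le hbU (by
    rw [Submodule.finrank_map_subtype_eq, hU, LinearEquiv.finrank_map_eq h, D.finrank_plane P₁]
    omega)
  refine ⟨Y, hY4, hzY, hwY, fun x hx c => ?_⟩
  have hm : h x ∈ U := Submodule.mem_map_of_mem hx
  rw [← hUeq] at hm
  obtain ⟨e, -, he⟩ := hm
  have hCe : ∀ y, T.C' c (y - j y) ∈ Y := fun y => D.induction (p := fun y => T.C' c (y - j y) ∈ Y)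
    (by simp) (fun y y' hy hy' => by rw [map_add j, add_sub_add_comm, map_add]; exact Y.add_mem hy hy')
    (fun c' d => by
      rw [hMf, sub_neg_eq_add, ← map_add (T.tau c'), D.C'_tau]
      exact Y.smul_mem _ ((hY _).2 (by rw [map_add, hf2, add_comm]))) y
  have h := hCe (h x)
  rw [← he] at h ⊢
  simp only [Submodule.coe_subtype] at h ⊢
  rw [(hE _).1 e.2, sub_neg_eq_add, ← two_smul F, map_smul] at h
  have := Y.smul_mem (2 : F)⁻¹ h
  rwa [inv_smul_smul₀ h20] at this

/-- every element of `H` is pure -/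
theorem kron_all (D : OData T H) (hno : NoFrame T H) {h : V ≃ₗ[F] V} (hh : h ∈ H) : IsKron T h := by
  classical
  by_contra hnk
  haveI := D.nontrivA
  have hd5 := D.dimB
  -- every singular vector lies in a totally singular plane
  have hplane : ∀ z : B, z ≠ 0 → T.fB z z = 0 → ∃ w, IsPl T z w := by
    intro z hz0 hz
    obtain ⟨e, hee, hze, hez⟩ := D.symB.partner hz0 hz
    have d2 := le_finrank_perpV (f := T.fB) ![z, e]
    obtain ⟨w, hw, hw0, hww⟩ := D.symB.exists_iso (D.symB.ndS_perp_pair hz hee hze) (by omega)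
    refine ⟨w, hz0, fun hh => ?_, hz, hww, by rw [D.symB.symm]; exact mem_perpV.1 hw 0⟩
    obtain ⟨c, rfl⟩ := Submodule.mem_span_singleton.1 hh
    have h := mem_perpV.1 hw 1
    simp [hze] at h
    exact hw0 (by rw [h, zero_smul])
  obtain ⟨z₀, hz₀0, hz₀⟩ := D.symB.exists_iso_top (by omega)
  obtain ⟨w₀, P₀⟩ := hplane z₀ hz₀0 hz₀
  -- the support of the image of one plane
  set X : Submodule F B := Submodule.span F
    {y | ∃ x ∈ pen T z₀ ⊔ pen T w₀, ∃ c, y = T.C' c (h x)} with hX
  have hmemX : ∀ x ∈ pen T z₀ ⊔ pen T w₀, ∀ c, T.C' c (h x) ∈ X := fun x hx c =>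
    Submodule.subset_span ⟨x, hx, c, rfl⟩
  have hXle : ∀ {z w : B}, IsPl T z w → ∃ Y : Submodule F B, finrank F Y ≤ 4 ∧ z ∈ Y ∧ w ∈ Y ∧ X ≤ Y :=
    fun {z w} P => by
      obtain ⟨Y, hY, hz, hw, hY'⟩ := D.plane_support hno hh hnk P P₀
      refine ⟨Y, hY, hz, hw, Submodule.span_le.2 ?_⟩
      rintro _ ⟨x, hx, c, rfl⟩
      exact hY' x hx c
  -- a dual basis of `A`
  let eA := Module.finBasis F A
  choose dA hdA using fun i => exists_repr (σ := RingHom.id F) (fun _ => rfl) T.fA D.symA.nondeg (eA.coord i)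
  have key : ∀ y : V, y = ∑ i, T.tau (eA i) (T.C' (dA i) y) := fun y =>
    D.induction (p := fun y => y = ∑ i, T.tau (eA i) (T.C' (dA i) y)) (by simp)
      (fun x x' hx hx' => by
        conv_lhs => rw [hx, hx']
        simp [Finset.sum_add_distrib])
      (fun a b => by
        simp only [D.C'_tau, hdA, Basis.coord_apply]
        conv_lhs => rw [← eA.sum_repr a]
        simp only [map_sum, LinearMap.sum_apply, map_smul, LinearMap.smul_apply]) y
  let J : (Fin (finrank F A) → X) →ₗ[F] V := ∑ i, (T.tau (eA i) ∘ₗ X.subtype) ∘ₗ LinearMap.proj i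
  have hJ : ∀ x ∈ pen T z₀ ⊔ pen T w₀, h x ∈ LinearMap.range J := fun x hx =>
    ⟨fun i => ⟨T.C' (dA i) (h x), hmemX x hx _⟩, by
      conv_rhs => rw [key (h x)]
      simp [J]⟩
  have hdimX : 2 ≤ finrank F X := by
    have h1 : (pen T z₀ ⊔ pen T w₀).map (h : V →ₗ[F] V) ≤ LinearMap.range J := by
      rintro _ ⟨x, hx, rfl⟩; exact hJ x hx
    have h2 := (Submodule.finrank_mono h1).trans (LinearMap.finrank_range_le J)
    rw [LinearEquiv.finrank_map_eq h, D.finrank_plane P₀, Module.finrank_pi_fintype] at h2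
    simp only [Finset.sum_const, Finset.card_univ, Fintype.card_fin, smul_eq_mul] at h2
    by_contra hlt
    have hA := D.dimA
    have := Nat.mul_le_mul_left (finrank F A) (show finrank F X ≤ 1 by omega)
    omega
  rcases Nat.lt_or_ge (finrank F X) 3 with h3 | h3
  · -- a plane
    have hX2 : finrank F X = 2 := by omega
    let bX := Module.finBasisOfFinrankEq F X hX2
    refine hnk (D.kron_of_two hno P₀ hh (p := (bX 0 : B)) (q := (bX 1 : B)) fun x hx => ?_)
    obtain ⟨v, hv⟩ := hJ x hx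
    rw [← hv]
    simp only [J, LinearMap.sum_apply, LinearMap.comp_apply, LinearMap.proj_apply, Submodule.coe_subtype]
    refine Submodule.sum_mem _ fun i _ => ?_
    have e : v i = bX.repr (v i) 0 • bX 0 + bX.repr (v i) 1 • bX 1 := by
      conv_lhs => rw [← bX.sum_repr (v i), Fin.sum_univ_two]
    rw [e, Submodule.coe_add, Submodule.coe_smul, Submodule.coe_smul, map_add, map_smul, map_smul]
    exact Submodule.add_mem_sup (Submodule.smul_mem _ _ ⟨_, rfl⟩) (Submodule.smul_mem _ _ ⟨_, rfl⟩)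
  have hX4 : finrank F X ≤ 4 := by
    obtain ⟨Y, hY, -, -, hle⟩ := hXle P₀
    exact (Submodule.finrank_mono hle).trans hY
  -- not all singular vectors lie in `X`
  obtain ⟨z₂, hz₂0, hz₂, hz₂X⟩ : ∃ z : B, z ≠ 0 ∧ T.fB z z = 0 ∧ z ∉ X := by
    by_contra hall
    simp only [not_exists, not_and, not_not] at hall
    have hsp := D.symB.iso_span D.symB.ndS_top (d := z₀) Submodule.mem_top hz₀0 hz₀
    have hle : Submodule.span F {x : B | x ∈ (⊤ : Submodule F B) ∧ T.fB x x = 0} ≤ X := by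
      refine Submodule.span_le.2 fun x hx => ?_
      rcases eq_or_ne x 0 with rfl | hx0
      · exact X.zero_mem
      · exact hall x hx0 hx.2
    have := Submodule.finrank_mono (hsp.trans hle)
    rw [finrank_top] at this
    omega
  rcases Nat.lt_or_ge (finrank F X) 4 with h4 | h4
  swap
  · -- `X` would contain every plane
    obtain ⟨w₂, P₂⟩ := hplane z₂ hz₂0 hz₂
    obtain ⟨Y, hY, hz, -, hle⟩ := hXle P₂
    exact hz₂X (Submodule.eq_of_le_of_finrank_le hle (by omega) ▸ hz)
  -- `X` is orthogonal to all singular vectors outside it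
  have horth : ∀ z : B, z ≠ 0 → T.fB z z = 0 → z ∉ X → ∀ x ∈ X, T.fB z x = 0 := by
    intro z hz0 hz hzX
    set Z := X ⊔ Submodule.span F ({z} : Set B) with hZdef
    have hle : perpV T.fB ![z] ≤ Z := by
      intro b hb
      refine Submodule.span_le.2 ?_ (D.symB.iso_span_perp D.dimB hz0 hz (mem_perpV.1 hb 0))
      rintro v ⟨hvz, hvv⟩
      by_cases hv : v ∈ Submodule.span F ({z} : Set B)
      · exact Submodule.mem_sup_right hv
      have P : IsPl T z v := ⟨hz0, hv, hz, hvv, by rw [D.symB.symm]; exact hvz⟩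
      obtain ⟨Y, hY, hzY, hvY, hle⟩ := hXle P
      set Q := Submodule.span F ({z, v} : Set B)
      obtain ⟨x, hx, hx0⟩ : ∃ x ∈ X ⊓ Q, x ≠ 0 := by
        refine Submodule.exists_mem_ne_zero_of_ne_bot fun e0 => ?_
        have e1 := Submodule.finrank_sup_add_finrank_inf_eq X Q
        rw [e0, finrank_bot] at e1
        have e2 : finrank F (X ⊔ Q : Submodule F B) ≤ finrank F Y := Submodule.finrank_mono
          (sup_le hle (Submodule.span_le.2 (by
            rintro _ (rfl | rfl)
            exacts [hzY, hvY])))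
        have e3 : finrank F Q = 2 := by
          have hli : LinearIndependent F ![z, v] := (LinearIndependent.pair_iff' hz0).2 fun c hc =>
            hv (Submodule.mem_span_singleton.2 ⟨c, hc⟩)
          have := finrank_span_eq_card hli
          rw [Matrix.range_cons, Matrix.range_cons, Matrix.range_empty, Set.union_empty,
            Set.singleton_union, Fintype.card_fin] at this
          exact this
        omega
      obtain ⟨α, β, hαβ⟩ := Submodule.mem_span_pair.1 hx.2
      have hβ : β ≠ 0 := fun h0 => by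
        rw [h0, zero_smul, add_zero] at hαβ
        have hα : α ≠ 0 := fun h0 => hx0 (by rw [← hαβ, h0, zero_smul])
        exact hzX (by
          have := X.smul_mem α⁻¹ (hαβ ▸ hx.1)
          rwa [inv_smul_smul₀ hα] at this)
      have e : v = β⁻¹ • x - (β⁻¹ * α) • z := by
        rw [← hαβ, smul_add, inv_smul_smul₀ hβ, smul_smul, add_sub_cancel_left]
      rw [e]
      exact Z.sub_mem (Z.smul_mem _ (Submodule.mem_sup_left hx.1))
        (Z.smul_mem _ (Submodule.mem_sup_right (Submodule.mem_span_singleton_self z)))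
    have d1 := le_finrank_perpV (f := T.fB) ![z]
    have d2 := Submodule.finrank_sup_add_finrank_inf_eq X (Submodule.span F ({z} : Set B))
    rw [finrank_span_singleton hz0, ← hZdef] at d2
    have heq : perpV T.fB ![z] = Z := Submodule.eq_of_le_of_finrank_le hle (by omega)
    intro x hx
    have : x ∈ perpV T.fB ![z] := by rw [heq]; exact Submodule.mem_sup_left hx
    rw [D.symB.symm]
    exact mem_perpV.1 this 0
  -- a singular vector of `X` not orthogonal to all of it
  have hXne : X ≠ ⊥ := fun e => by rw [e, finrank_bot] at h3; omega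
  obtain ⟨v, hv0, hv⟩ := Submodule.exists_mem_ne_zero_of_ne_bot hXne
  obtain ⟨x, hxx, x', hx', hxx'⟩ : ∃ x, T.fB x x = 0 ∧ ∃ x' ∈ X, T.fB x x' ≠ 0 := by
    by_contra hall
    simp only [not_exists, not_and, not_not] at hall
    have hsp := D.symB.iso_span D.symB.ndS_top (d := z₀) Submodule.mem_top hz₀0 hz₀
    refine hv (D.symB.nondeg v fun y => ?_)
    rw [D.symB.symm]
    have hle : Submodule.span F {x : B | x ∈ (⊤ : Submodule F B) ∧ T.fB x x = 0} ≤ perpV T.fB ![v] := by
      refine Submodule.span_le.2 fun x hx => ?_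
      exact mem_perpV.2 fun i => by fin_cases i; exact hall x hx.2 v hv0
    exact mem_perpV.1 (hle (hsp Submodule.mem_top)) 0
  have hxX : x ∈ X := by
    by_contra hxX
    rcases eq_or_ne x 0 with rfl | hx0
    · exact hxX X.zero_mem
    · exact hxx' (horth x hx0 hxx hxX x' hx')
  have hz₂x : T.fB z₂ x = 0 := horth z₂ hz₂0 hz₂ hz₂X x hxX
  have hsum : x + z₂ ∉ X := fun hs => hz₂X (by simpa using X.sub_mem hs hxX)
  have h' := horth (x + z₂) (fun e => hsum (e ▸ X.zero_mem)) (by simp [hxx, hz₂, hz₂x, D.symB.symm z₂ x])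
    hsum x' hx'
  rw [map_add, LinearMap.add_apply, horth z₂ hz₂0 hz₂ hz₂X x' hx', add_zero] at h'
  exact hxx' h'

end OData

end CfsgLib.MaxSub.TForm
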