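import Cfsg.Agent.Lib.MaxSub.TFormOOStabH
import Cfsg.Agent.Lib.MaxSub.TFormInvol

/-!
Orthogonal ⊗ orthogonal: long root elements `1 ⊗ ρ`, their conjugates, and commuting pairs.
-/

set_option autoImplicit false
set_option linter.unusedSectionVars false
set_option linter.unusedSimpArgs false
set_option linter.unusedVariables false
set_option linter.style.haveILetI false
set_option maxHeartbeats 1000000

namespace CfsgLib.MaxSub.TForm

open Module

variable {F A B V : Type*} [Field F] [AddCommGroup A] [Module F A] [AddCommGroup B] [Module F B]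
  [AddCommGroup V] [Module F V]

/-- a totally singular plane of the second factor -/
structure IsPl (T : Sys F A B V (RingHom.id F)) (z w : B) : Prop where
  ne : z ≠ 0
  indep : w ∉ Submodule.span F ({z} : Set B)
  singz : T.fB z z = 0
  singw : T.fB w w = 0
  orth : T.fB z w = 0

/-- the nilpotent part of a long root element of the second factor -/
def rootN (T : Sys F A B V (RingHom.id F)) (z w : B) : Module.End F V :=
  T.tau.flip w ∘ₗ T.C z - T.tau.flip z ∘ₗ T.C w

theorem rootN_apply (T : Sys F A B V (RingHom.id F)) (z w : B) (x : V) :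
    rootN T z w x = T.tau (T.C z x) w - T.tau (T.C w x) z := rfl

namespace OData

variable {T : Sys F A B V (RingHom.id F)} {H : Subgroup (V ≃ₗ[F] V)}
variable [Finite F] [FiniteDimensional F A] [FiniteDimensional F B] [FiniteDimensional F V]

theorem rootN_sq (D : OData T H) {z w : B} (P : IsPl T z w) (x : V) :
    rootN T z w (rootN T z w x) = 0 := by
  simp [rootN_apply, D.C_tau, P.singz, P.singw, P.orth, D.symB.symm z w]

theorem range_rootN (D : OData T H) {z w : B} (P : IsPl T z w) :
    LinearMap.range (rootN T z w) = pen T z ⊔ pen T w := by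
  refine le_antisymm ?_ ?_
  · rintro _ ⟨x, rfl⟩
    rw [rootN_apply, sub_eq_add_neg, add_comm, ← LinearMap.neg_apply, ← map_neg]
    exact Submodule.add_mem_sup ⟨_, rfl⟩ ⟨_, rfl⟩
  · obtain ⟨z', w', h1, h2, h3, h4⟩ := D.exists_dual P.ne P.indep
    rw [sup_le_iff]
    constructor <;> rintro _ ⟨a, rfl⟩
    · exact ⟨-T.tau a w', by
        simp [rootN_apply, D.C_tau, D.symB.symm z w', h3, D.symB.symm w w', h4]⟩
    · exact ⟨T.tau a z', by
        simp [rootN_apply, D.C_tau, D.symB.symm z z', h1, D.symB.symm w z', h2]⟩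

theorem exists_root (D : OData T H) {z w : B} (P : IsPl T z w) :
    ∃ t ∈ H, (∀ x, t x = x + rootN T z w x) ∧ IsKron T t ∧
      ∃ E : B ≃ₗ[F] B, E ∈ egrp T.fB ∧ ∀ a b, t (T.tau a b) = T.tau a (E b) := by
  have hr : T.fB w z = 0 := by rw [D.symB.symm, P.orth]
  obtain ⟨k, hk, hkab, hkx⟩ := D.eichB P.singz hr
  obtain ⟨g, hg, hga, -⟩ := D.symB.exists_eich P.singz hr
  refine ⟨k, hk, fun x => ?_, ⟨LinearMap.id, eich T.fB z w, hkab⟩, g, hg, fun a b => by rw [hkab, hga]⟩
  rw [hkx, rootN_apply, P.singw]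
  simp; abel

theorem finrank_plane (D : OData T H) {z w : B} (P : IsPl T z w) :
    finrank F (pen T z ⊔ pen T w : Submodule F V) = finrank F A + finrank F A := by
  obtain ⟨z', w', h1, h2, h3, h4⟩ := D.exists_dual P.ne P.indep
  let J : A × A →ₗ[F] V := (T.tau.flip z).coprod (T.tau.flip w)
  have hJ : Function.Injective J := (injective_iff_map_eq_zero J).2 fun c hc => by
    have e1 := congrArg (T.C z') hc
    have e2 := congrArg (T.C w') hc
    simp [J, D.C_tau, h1, h2, h3, h4] at e1 e2
    exact Prod.ext e1 e2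
  rw [← Module.finrank_prod (R := F) (M := A) (M' := A), ← LinearMap.finrank_range_of_inj hJ,
    LinearMap.range_coprod]
  rfl

theorem plane_ts (D : OData T H) {z w : B} (P : IsPl T z w) {x y : V} (hx : x ∈ pen T z ⊔ pen T w)
    (hy : y ∈ pen T z ⊔ pen T w) : T.form x y = 0 := by
  obtain ⟨_, ⟨a, rfl⟩, _, ⟨a', rfl⟩, rfl⟩ := Submodule.mem_sup.1 hx
  obtain ⟨_, ⟨c, rfl⟩, _, ⟨c', rfl⟩, rfl⟩ := Submodule.mem_sup.1 hy
  simp [D.form_tau, P.singz, P.singw, P.orth, D.symB.symm z w]

/-- an element mapping the pencils over a totally singular plane into two pencils is pure -/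
theorem kron_of_two (D : OData T H) (hno : NoFrame T H) {z w : B} (P : IsPl T z w) {h : V ≃ₗ[F] V}
    (hh : h ∈ H) {p q : B} (hmap : ∀ x ∈ pen T z ⊔ pen T w, h x ∈ pen T p ⊔ pen T q) : IsKron T h := by
  haveI := D.nontrivA
  have hle : (pen T z ⊔ pen T w).map (h : V →ₗ[F] V) ≤ pen T p ⊔ pen T q := by
    rintro _ ⟨x, hx, rfl⟩; exact hmap x hx
  have hpos : 0 < finrank F A := by have := D.dimA; omega
  have hpen : ∀ y, finrank F (pen T y) ≤ finrank F A := fun y => LinearMap.finrank_range_le _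
  have d0 := Submodule.finrank_mono hle
  rw [LinearEquiv.finrank_map_eq h, D.finrank_plane P] at d0
  have heq : (pen T z ⊔ pen T w).map (h : V →ₗ[F] V) = pen T p ⊔ pen T q := by
    refine Submodule.eq_of_le_of_finrank_le hle ?_
    rw [LinearEquiv.finrank_map_eq h, D.finrank_plane P]
    exact (Submodule.finrank_add_le_finrank_add_finrank _ _).trans (Nat.add_le_add (hpen p) (hpen q))
  have hp0 : p ≠ 0 := by
    rintro rfl
    have : pen T (0 : B) ⊔ pen T q ≤ pen T q := sup_le (by rintro _ ⟨a, rfl⟩; simp) le_rfl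
    have := (d0.trans (Submodule.finrank_mono this)).trans (hpen q)
    omega
  have hq : q ∉ Submodule.span F ({p} : Set B) := fun hh => by
    obtain ⟨c, rfl⟩ := Submodule.mem_span_singleton.1 hh
    have : pen T p ⊔ pen T (c • p) ≤ pen T p := sup_le le_rfl (by
      rintro _ ⟨a, rfl⟩; exact ⟨c • a, by simp⟩)
    have := (d0.trans (Submodule.finrank_mono this)).trans (hpen p)
    omega
  have hts : ∀ x ∈ pen T p ⊔ pen T q, ∀ y ∈ pen T p ⊔ pen T q, T.form x y = 0 := by
    intro x hx y hy
    rw [← heq] at hx hy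
    obtain ⟨x', hx', rfl⟩ := hx
    obtain ⟨y', hy', rfl⟩ := hy
    show T.form (h x') (h y') = 0
    rw [D.isom h hh, D.plane_ts P hx' hy']
  obtain ⟨a, ha⟩ := exists_ne (0 : A)
  obtain ⟨a', ha'⟩ := D.exists_dualA ha
  have key : ∀ v v', (∀ c, T.tau c v ∈ pen T p ⊔ pen T q) → (∀ c, T.tau c v' ∈ pen T p ⊔ pen T q) →
      T.fB v v' = 0 := fun v v' hv hv' => by
    have h := hts _ (hv a) _ (hv' a')
    rwa [D.form_tau, ha', one_mul] at h
  have hpm : ∀ c, T.tau c p ∈ pen T p ⊔ pen T q := fun c => Submodule.mem_sup_left ⟨c, rfl⟩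
  have hqm : ∀ c, T.tau c q ∈ pen T p ⊔ pen T q := fun c => Submodule.mem_sup_right ⟨c, rfl⟩
  exact D.kron_of_plane hno hh P.ne P.indep P.singz P.singw P.orth hp0 hq (key p p hpm hpm)
    (key q q hqm hqm) (key p q hpm hqm) fun c =>
      ⟨hmap _ (Submodule.mem_sup_left ⟨c, rfl⟩), hmap _ (Submodule.mem_sup_right ⟨c, rfl⟩)⟩

theorem conj_root_apply (D : OData T H) {z w : B} {h t : V ≃ₗ[F] V}
    (htx : ∀ x, t x = x + rootN T z w x) (x : V) :
    (h * t * h⁻¹) x = x + h (rootN T z w (h⁻¹ x)) := by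
  show h (t (h⁻¹ x)) = _
  rw [htx, map_add, ap_inv]

/-- a pure conjugate root element comes from a pure element -/
theorem kron_of_root (D : OData T H) (hno : NoFrame T H) {z w : B} (P : IsPl T z w) {h t : V ≃ₗ[F] V}
    (hh : h ∈ H) (ht : t ∈ H) (htx : ∀ x, t x = x + rootN T z w x)
    (hu : IsKron T (h * t * h⁻¹ : V ≃ₗ[F] V)) : IsKron T h := by
  classical
  haveI := D.nontrivA
  obtain ⟨M, f, hf⟩ := hu
  set k := h * t * h⁻¹ with hk
  have hkH : k ∈ H := mul_mem (mul_mem hh ht) (inv_mem hh)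
  set b : Module.End F V := (k : V →ₗ[F] V) - LinearMap.id with hbdef
  have hb : ∀ x, b x = h (rootN T z w (h⁻¹ x)) := fun x => by
    show k x - x = _
    rw [D.conj_root_apply htx, add_sub_cancel_left]
  have hb2 : ∀ x, b (b x) = 0 := fun x => by rw [hb, hb, inv_ap, D.rootN_sq P, map_zero]
  have hrb : LinearMap.range b = (pen T z ⊔ pen T w).map (h : V →ₗ[F] V) := by
    rw [← D.range_rootN P]
    refine le_antisymm ?_ ?_
    · rintro _ ⟨x, rfl⟩; exact ⟨_, ⟨h⁻¹ x, rfl⟩, (hb x).symm⟩
    · rintro _ ⟨_, ⟨x, rfl⟩, rfl⟩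
      exact ⟨h x, by rw [hb, inv_ap]; rfl⟩
  have hdim : finrank F (LinearMap.range b) = finrank F A + finrank F A := by
    rw [hrb, LinearEquiv.finrank_map_eq h, D.finrank_plane P]
  have hpos : 0 < finrank F A := by have := D.dimA; omega
  haveI := Module.nontrivial_of_finrank_pos (R := F) (M := B) (by have := D.dimB; omega)
  have hinj : ∀ a x, a ≠ 0 → x ≠ 0 → T.tau (M a) (f x) ≠ 0 := fun a x ha hx h0 => by
    rw [← hf, LinearEquiv.map_eq_zero_iff, ← map_zero (T.tau a)] at h0
    exact hx (D.tau_right_inj ha h0)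
  have hquad : ∀ a x, T.tau (M (M a)) (f (f x)) - (2 : F) • T.tau (M a) (f x) + T.tau a x = 0 := by
    intro a x
    have h := hb2 (T.tau a x)
    simp only [hbdef, LinearMap.sub_apply, LinearEquiv.coe_coe, LinearMap.id_apply, map_sub, hf] at h
    linear_combination (norm := module) h
  by_cases hM : ∃ a, M a ∉ Submodule.span F ({a} : Set A)
  · -- then `f` is scalar
    obtain ⟨a, ha⟩ := hM
    have ha' : a ∉ Submodule.span F ({M a} : Set A) := fun hh' => by
      obtain ⟨c, hc⟩ := Submodule.mem_span_singleton.1 hh'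
      rcases eq_or_ne c 0 with rfl | hc0
      · rw [zero_smul] at hc
        exact ha (by rw [← hc, map_zero]; exact Submodule.zero_mem _)
      · exact ha (Submodule.mem_span_singleton.2 ⟨c⁻¹, by
          calc c⁻¹ • a = c⁻¹ • (c • M a) := by rw [hc]
            _ = M a := inv_smul_smul₀ hc0 _⟩)
    have key : ∀ p q : A, p ∉ Submodule.span F ({q} : Set A) → ∃ d, T.fA p d = 1 ∧ T.fA q d = 0 := by
      intro p q hp
      obtain ⟨φ, hφ, hφq⟩ := Submodule.exists_le_ker_of_notMem hp
      obtain ⟨d, hd⟩ := exists_repr (σ := RingHom.id F) (fun _ => rfl) T.fA D.symA.nondeg ((φ p)⁻¹ • φ)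
      refine ⟨d, by rw [hd]; simp [hφ], ?_⟩
      rw [hd, LinearMap.smul_apply, show φ q = 0 from hφq (Submodule.mem_span_singleton_self q), smul_zero]
    obtain ⟨u₁, hu₁, hu₁'⟩ := key a (M a) ha'
    obtain ⟨u₂, hu₂, hu₂'⟩ := key (M a) a ha
    set α := T.fA (M (M a)) u₁
    set β := T.fA (M (M a)) u₂
    have e1 : ∀ x, α • f (f x) + x = 0 := fun x => by
      have h := congrArg (T.C' u₁) (hquad a x)
      simpa [D.C'_tau, hu₁, hu₁'] using h
    have e2 : ∀ x, β • f (f x) - (2 : F) • f x = 0 := fun x => by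
      have h := congrArg (T.C' u₂) (hquad a x)
      simpa [D.C'_tau, hu₂, hu₂'] using h
    have hα : α ≠ 0 := fun h0 => by
      obtain ⟨x, hx⟩ := exists_ne (0 : B)
      exact hx (by simpa [h0] using e1 x)
    set φ := -(β / (α * 2)) with hφ
    have hfs : ∀ x, f x = φ • x := fun x => by
      have h20 := D.symA.two
      have h : f (f x) = -(α⁻¹ • x) := by
        rw [← smul_neg, ← eq_neg_of_add_eq_zero_left (e1 x), inv_smul_smul₀ hα]
      have h' := e2 x
      rw [h, sub_eq_zero] at h'
      calc f x = (2 : F)⁻¹ • ((2 : F) • f x) := (inv_smul_smul₀ h20 _).symm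
        _ = _ := by rw [← h', hφ]; match_scalars; field_simp
    exfalso
    let M' : A →ₗ[F] A := φ • M
    have hk' : ∀ a x, k (T.tau a x) = T.tau (M' a) x := fun a x => by
      rw [hf, hfs]; simp [M']
    have hbt : ∀ a x, b (T.tau a x) = T.tau (M' a - a) x := fun a x => by
      show k (T.tau a x) - T.tau a x = _
      rw [hk', map_sub, LinearMap.sub_apply]
    -- rank one
    obtain ⟨a₁, ha₁⟩ : ∃ a, M' a - a ≠ 0 := by
      by_contra hall
      simp only [not_exists, not_not] at hall
      have : LinearMap.range b = ⊥ := LinearMap.range_eq_bot.2 (D.ext_tau fun a x => by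
        rw [hbt, hall]; simp)
      rw [this, finrank_bot] at hdim
      omega
    set d := M' a₁ - a₁ with hd
    have hline : ∀ a, M' a - a ∈ Submodule.span F ({d} : Set A) := by
      intro a
      by_contra hna
      have hd' : d ∉ Submodule.span F ({M' a - a} : Set A) := fun hh' => by
        obtain ⟨c, hc⟩ := Submodule.mem_span_singleton.1 hh'
        rcases eq_or_ne c 0 with rfl | hc0
        · exact ha₁ (by rw [← hc, zero_smul])
        · exact hna (Submodule.mem_span_singleton.2 ⟨c⁻¹, by rw [← hc, inv_smul_smul₀ hc0]⟩)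
      obtain ⟨v₁, g1, g2⟩ := key d (M' a - a) hd'
      obtain ⟨v₂, g3, g4⟩ := key (M' a - a) d hna
      let J : B × B →ₗ[F] V := (T.tau d).coprod (T.tau (M' a - a))
      have hJ : Function.Injective J := (injective_iff_map_eq_zero J).2 fun c hc => by
        simp only [J, LinearMap.coprod_apply] at hc
        have q1 := congrArg (T.C' v₁) hc
        have q2 := congrArg (T.C' v₂) hc
        simp only [map_add, D.C'_tau, g1, g2, g3, g4, one_smul, zero_smul, map_zero, add_zero,
          zero_add] at q1 q2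
        exact Prod.ext q1 q2
      have hJr : LinearMap.range J ≤ LinearMap.range b := by
        rintro _ ⟨⟨c, c'⟩, rfl⟩
        exact ⟨T.tau a₁ c + T.tau a c', by
          simp only [map_add, hbt, J, LinearMap.coprod_apply, ← hd]⟩
      have := Submodule.finrank_mono hJr
      rw [LinearMap.finrank_range_of_inj hJ, Module.finrank_prod, hdim] at this
      have := D.lt
      omega
    obtain ⟨u, hu'⟩ := D.exists_dualA ha₁
    let ψ : A →ₗ[F] F := (T.fA.flip u) ∘ₗ (M' - LinearMap.id)
    have hψ : ∀ a, M' a = a + ψ a • d := fun a => by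
      obtain ⟨c, hc⟩ := Submodule.mem_span_singleton.1 (hline a)
      have : ψ a = c := by
        show T.fA (M' a - a) u = c
        rw [← hc, map_smul, LinearMap.smul_apply, smul_eq_mul, hd, hu', mul_one]
      rw [this, hc, add_sub_cancel]
    obtain ⟨x₀, -, hx₀⟩ := D.symB.exists_aniso_of_pos D.symB.ndS_top (by
      rw [finrank_top]; have := D.dimB; omega)
    have hiso : ∀ a a', T.fA (M' a) (M' a') = T.fA a a' := fun a a' => by
      have h := D.isom k hkH (T.tau a x₀) (T.tau a' x₀)
      rw [hk', hk', D.form_tau, D.form_tau] at h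
      exact mul_right_cancel₀ hx₀ h
    have hψd : ψ d = 0 := by
      have h := hb2 (T.tau a₁ x₀)
      rw [hbt, hbt, ← hd, hψ, add_sub_cancel_left, ← map_zero (T.tau.flip x₀)] at h
      exact (smul_eq_zero.1 (D.tau_left_inj (fun e => hx₀ (by simp [e])) h)).resolve_right ha₁
    have hψa₁ : ψ a₁ = 1 := hu'
    have hdd : T.fA d d = 0 := by
      have h := hiso d a₁
      rw [hψ d, hψ a₁, hψd, hψa₁] at h
      simpa using h
    have hq : ∀ a, ψ a * T.fA d a = 0 := fun a => by
      have h := hiso a a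
      simp only [hψ, map_add, map_smul, LinearMap.add_apply, LinearMap.smul_apply, smul_eq_mul, hdd,
        D.symA.symm d a] at h
      refine (mul_eq_zero.1 (show (2 : F) * (ψ a * T.fA d a) = 0 by
        rw [D.symA.symm a d] at h ⊢; linear_combination h)).resolve_left D.symA.two
    refine ha₁ (D.symA.nondeg d fun a => ?_)
    have q1 := hq a₁
    rw [hψa₁, one_mul] at q1
    have q2 := hq a
    have q3 := hq (a + a₁)
    rw [map_add ψ, map_add (T.fA d), hψa₁, q1, add_zero, add_mul, q2, zero_add, one_mul] at q3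
    exact q3
  · -- `M` is scalar
    simp only [not_exists, not_not] at hM
    obtain ⟨μ, hμ⟩ := LinearMap.exists_eq_smul_id_of_forall_notLinearIndependent (f := M) fun a hli => by
      obtain ⟨c, hc⟩ := Submodule.mem_span_singleton.1 (hM a)
      exact (LinearIndependent.pair_iff' (hli.ne_zero 0)).1 hli c hc
    let f' : B →ₗ[F] B := μ • f - LinearMap.id
    have hbt : ∀ a x, b (T.tau a x) = T.tau a (f' x) := fun a x => by
      show k (T.tau a x) - T.tau a x = _
      rw [hf, hμ]
      simp [f']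
    -- two independent values
    have hle : ∀ S : Submodule F V, (∀ a x, T.tau a (f' x) ∈ S) → LinearMap.range b ≤ S := by
      rintro S hS _ ⟨x, rfl⟩
      exact D.induction (p := fun x => b x ∈ S) (by simp)
        (fun x y hx hy => by rw [map_add]; exact S.add_mem hx hy) (fun a x => by rw [hbt]; exact hS a x) x
    obtain ⟨x₁, hx₁⟩ : ∃ x, f' x ≠ 0 := by
      by_contra hall
      simp only [not_exists, not_not] at hall
      have h0 := Submodule.finrank_mono (hle ⊥ fun a x => by simp [hall])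
      rw [hdim, finrank_bot] at h0
      omega
    obtain ⟨x₂, hx₂⟩ : ∃ x, f' x ∉ Submodule.span F ({f' x₁} : Set B) := by
      by_contra hall
      simp only [not_exists, not_not] at hall
      have h0 := (Submodule.finrank_mono (hle (pen T (f' x₁)) fun a x => by
        obtain ⟨c, hc⟩ := Submodule.mem_span_singleton.1 (hall x)
        exact ⟨c • a, by rw [← hc]; simp⟩)).trans (LinearMap.finrank_range_le _)
      rw [hdim] at h0
      omega
    have hsub : pen T (f' x₁) ⊔ pen T (f' x₂) ≤ LinearMap.range b := by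
      rw [sup_le_iff]
      constructor <;> rintro _ ⟨a, rfl⟩ <;> exact ⟨_, hbt a _⟩
    refine D.kron_of_two hno P hh (p := f' x₁) (q := f' x₂) fun x hx => ?_
    have hind : finrank F (pen T (f' x₁) ⊔ pen T (f' x₂) : Submodule F V) = finrank F A + finrank F A := by
      obtain ⟨z', w', g1, g2, g3, g4⟩ := D.exists_dual hx₁ hx₂
      let J : A × A →ₗ[F] V := (T.tau.flip (f' x₁)).coprod (T.tau.flip (f' x₂))
      have hJ : Function.Injective J := (injective_iff_map_eq_zero J).2 fun c hc => by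
        have e1 := congrArg (T.C z') hc
        have e2 := congrArg (T.C w') hc
        simp only [J, LinearMap.coprod_apply, LinearMap.flip_apply, map_add, D.C_tau, g1, g2, g3, g4,
          one_smul, zero_smul, map_zero, add_zero, zero_add] at e1 e2
        exact Prod.ext e1 e2
      rw [← Module.finrank_prod (R := F) (M := A) (M' := A), ← LinearMap.finrank_range_of_inj hJ,
        LinearMap.range_coprod]
      rfl
    rw [Submodule.eq_of_le_of_finrank_le hsub (by rw [hdim, hind]), hrb]
    exact Submodule.mem_map_of_mem hx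

/-- two commuting root elements -/
theorem kron_of_commute (D : OData T H) (hno : NoFrame T H) {z w z₁ w₁ : B} (P : IsPl T z w)
    (P₁ : IsPl T z₁ w₁) {h t t₁ : V ≃ₗ[F] V} (hh : h ∈ H) (ht : t ∈ H) (ht₁ : t₁ ∈ H)
    (htx : ∀ x, t x = x + rootN T z w x) (ht₁x : ∀ x, t₁ x = x + rootN T z₁ w₁ x)
    (hc : Commute t (h * t₁ * h⁻¹)) : IsKron T h := by
  have key : ∀ x ∈ pen T z₁ ⊔ pen T w₁, (h⁻¹ * t * h) x ∈ pen T z₁ ⊔ pen T w₁ := by
    intro x hx
    rw [← D.range_rootN P₁] at hx ⊢
    obtain ⟨y, rfl⟩ := hx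
    have h1 := LinearEquiv.congr_fun hc.eq (h y)
    change t ((h * t₁ * h⁻¹) _) = (h * t₁ * h⁻¹) (t _) at h1
    rw [D.conj_root_apply ht₁x, D.conj_root_apply ht₁x, inv_ap, map_add, add_right_inj] at h1
    refine ⟨h⁻¹ (t (h y)), ?_⟩
    show _ = h⁻¹ (t (h (rootN T z₁ w₁ y)))
    rw [h1, inv_ap]
  have h2 := D.kron_of_two hno P₁ (mul_mem (mul_mem (inv_mem hh) ht) hh) key
  rw [show h⁻¹ * t * h = h⁻¹ * t * (h⁻¹)⁻¹ by rw [inv_inv]] at h2
  have h3 := D.kron_inv (D.kron_of_root hno P (inv_mem hh) ht htx h2)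
  rwa [inv_inv] at h3

/-- an element stabilising the pencils over a totally singular subspace is pure -/
theorem kron_of_ts (D : OData T H) (hno : NoFrame T H) {S : Submodule F B}
    (hS : ∀ x ∈ S, ∀ y ∈ S, T.fB x y = 0) {z : B} (hzS : z ∈ S) (hz0 : z ≠ 0) {W : Submodule F V}
    (hW : W = Submodule.span F {v | ∃ a, ∃ s ∈ S, v = T.tau a s}) {u : V ≃ₗ[F] V} (hu : u ∈ H)
    (hmap : ∀ x ∈ W, u x ∈ W) : IsKron T u := by
  classical
  haveI : Finite V := Module.finite_of_finite F
  have hmemW : ∀ a, ∀ s ∈ S, T.tau a s ∈ W := fun a s hs => by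
    rw [hW]; exact Submodule.subset_span ⟨a, s, hs, rfl⟩
  by_cases hall : ∀ s ∈ S, s ∈ Submodule.span F ({z} : Set B)
  · refine D.kron_of_line hno hz0 (hS z hzS z hzS) hu fun a => ?_
    have hle : W ≤ pen T z := by
      rw [hW, Submodule.span_le]
      rintro _ ⟨c, s, hs, rfl⟩
      obtain ⟨l, rfl⟩ := Submodule.mem_span_singleton.1 (hall s hs)
      exact ⟨l • c, by simp⟩
    exact hle (hmap _ (hmemW a z hzS))
  simp only [not_forall] at hall
  obtain ⟨w, hwS, hw⟩ := hall
  have P : IsPl T z w := ⟨hz0, hw, hS z hzS z hzS, hS w hwS w hwS, hS z hzS w hwS⟩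
  obtain ⟨t, ht, htx, -, -⟩ := D.exists_root P
  set N := rootN T z w with hN
  have hNW : ∀ x, N x ∈ W := fun x => W.sub_mem (hmemW _ w hwS) (hmemW _ z hzS)
  have hker : ∀ x ∈ W, N x = 0 := by
    intro x hx
    rw [hW] at hx
    induction hx using Submodule.span_induction with
    | mem v hv =>
        obtain ⟨a, s, hs, rfl⟩ := hv
        simp [hN, rootN_apply, D.C_tau, hS s hs z hzS, hS s hs w hwS]
    | zero => simp
    | add x y _ _ hx hy => simp [hx, hy]
    | smul c x _ hx => simp [hx]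
  have hback : ∀ x ∈ W, u⁻¹ x ∈ W := by
    intro x hx
    have heq : W.map (u : V →ₗ[F] V) = W := Submodule.eq_of_le_of_finrank_le
      (by rintro _ ⟨y, hy, rfl⟩; exact hmap y hy) (by rw [LinearEquiv.finrank_map_eq u])
    rw [← heq] at hx
    obtain ⟨y, hy, rfl⟩ := hx
    show u⁻¹ (u y) ∈ W
    rwa [inv_ap]
  refine D.kron_of_commute hno P P hu ht ht htx htx (LinearEquiv.ext fun x => ?_)
  show t ((u * t * u⁻¹) x) = (u * t * u⁻¹) (t x)
  rw [D.conj_root_apply htx, D.conj_root_apply htx, htx, htx x, ← hN, map_add N, hker _ (hmap _ (hNW _)),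
    map_add (u⁻¹ : V ≃ₗ[F] V), map_add N, hker _ (hback _ (hNW x))]
  simp
  abel

end OData

end CfsgLib.MaxSub.TForm
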