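import Cfsg.Agent.Lib.MaxSub.TFormOOBasic

/-!
Orthogonal ⊗ orthogonal: without Siegel maps at singular pencils, the elements fixing the orthogonal of the
pencils over a totally singular plane are `1 ⊗` long root elements.
-/

set_option autoImplicit false
set_option linter.unusedSectionVars false
set_option linter.unusedSimpArgs false
set_option linter.unusedVariables false
set_option linter.style.haveILetI false

namespace CfsgLib.MaxSub.TForm

open Module

variable {F A B V : Type*} [Field F] [AddCommGroup A] [Module F A] [AddCommGroup B] [Module F B]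
  [AddCommGroup V] [Module F V]

theorem SymNd.ndS_cut_pair {M : Type*} [AddCommGroup M] [Module F M] {f : M →ₗ[F] M →ₗ[F] F}
    (hS : SymNd f) {S : Submodule F M} (hnd : NdS f S) {v u : M} (hvS : v ∈ S) (huS : u ∈ S)
    (hv : f v v = 0) (hu : f u u = 0) (hvu : f v u = 1) : NdS f (S ⊓ perpV f ![v, u]) := by
  intro y hy h
  have huv : f u v = 1 := by rw [hS.symm, hvu]
  refine hnd y hy.1 fun y' hy' => ?_
  have h0 : f y v = 0 := mem_perpV.1 hy.2 0
  have h0' : f y u = 0 := mem_perpV.1 hy.2 1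
  have h1 := h (y' - f y' u • v - f y' v • u)
    ⟨S.sub_mem (S.sub_mem hy' (S.smul_mem _ hvS)) (S.smul_mem _ huS), mem_perpV.2 fun i => by
      fin_cases i <;> simp [hv, hu, hvu, huv]⟩
  simpa [h0, h0'] using h1

namespace OData

variable {T : Sys F A B V (RingHom.id F)} {H : Subgroup (V ≃ₗ[F] V)}
variable [Finite F] [FiniteDimensional F A] [FiniteDimensional F B]

theorem qm_comp (D : OData T H) {z w : B} (hz : T.fB z z = 0) (hw : T.fB w w = 0) (hzw : T.fB z w = 0)
    (X L L' Y X₁ L₁ L₁' Y₁ : A →ₗ[F] A) (x : V) :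
    qm T z w X L L' Y (qm T z w X₁ L₁ L₁' Y₁ x) = qm T z w (X + X₁) (L + L₁) (L' + L₁') (Y + Y₁) x := by
  have hwz : T.fB w z = 0 := by rw [D.symB.symm, hzw]
  simp only [qm, map_add, LinearMap.add_apply, D.C_tau, hz, hw, hzw, hwz, zero_smul, map_zero,
    LinearMap.zero_apply, add_zero]
  abel

theorem qm_inv (D : OData T H) {z w : B} (hz : T.fB z z = 0) (hw : T.fB w w = 0) (hzw : T.fB z w = 0)
    {X L L' Y : A →ₗ[F] A} (h : InH H (qm T z w X L L' Y)) : InH H (qm T z w (-X) (-L) (-L') (-Y)) := by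
  obtain ⟨g, hg, hgx⟩ := h
  refine ⟨g⁻¹, inv_mem hg, fun x => g.injective ?_⟩
  rw [ap_inv, hgx, D.qm_comp hz hw hzw]
  simp [qm]

theorem qm_swap (z w : B) (X L L' Y : A →ₗ[F] A) (x : V) :
    qm T w z Y L' L X x = qm T z w X L L' Y x := by
  simp only [qm]; abel

theorem qm_frame (z w : B) (X : A →ₗ[F] A) (x : V) : qm T z w X 0 0 0 x = fr T z X x := by
  simp [qm, fr]

/-- the difference with a conjugate by a transvection of the plane -/
theorem qm_shift (D : OData T H) {z w : B} (hz0 : z ≠ 0) (hw' : w ∉ Submodule.span F ({z} : Set B))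
    (hz : T.fB z z = 0) (hw : T.fB w w = 0) (hzw : T.fB z w = 0) {X L L' Y : A →ₗ[F] A}
    (h : InH H (qm T z w X L L' Y)) : InH H (qm T z w (L + L' + Y) Y Y 0) := by
  obtain ⟨z', w', -, -, h3, h4⟩ := D.exists_dual hz0 hw'
  have hwz : T.fB w z = 0 := by rw [D.symB.symm, hzw]
  have hr : T.fB (-w') z = 0 := by rw [map_neg, LinearMap.neg_apply, D.symB.symm z w', h3, neg_zero]
  obtain ⟨E, hE, hEa, -⟩ := D.symB.exists_eich hz hr
  obtain ⟨k, hk, hkab⟩ := D.pureB hE
  have hEz : E z = z := by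
    rw [hEa, eich_apply, hz, D.symB.symm (-w') z, hr]; simp
  have hEw : E w = w + z := by
    rw [hEa, eich_apply, hwz]; simp [h4]
  have hC := fun v x => D.C_pureB_inv (D.symB.egrp_isom hE) hkab v x
  obtain ⟨g, hg, hgx⟩ := h
  refine ((InH.comp (f := qm T z w (X + L + L' + Y) (L + Y) (L' + Y) Y)
    ⟨k * g * k⁻¹, mul_mem (mul_mem hk hg) (inv_mem hk), fun x => ?_⟩
    (D.qm_inv hz hw hzw ⟨g, hg, hgx⟩))).congr fun x => ?_
  · show k (g (k⁻¹ x)) = _
    rw [hgx]
    simp only [qm, map_add, LinearMap.add_apply, ap_inv, hkab, hEz, hEw, hC, D.C_add]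
    abel
  · rw [D.qm_comp hz hw hzw]
    congr 1 <;> abel

/-- the first reduction -/
theorem qm_Y_zero (D : OData T H) (hno : NoFrame T H) {z w : B} (hz0 : z ≠ 0)
    (hw' : w ∉ Submodule.span F ({z} : Set B)) (hz : T.fB z z = 0) (hw : T.fB w w = 0)
    (hzw : T.fB z w = 0) {X L L' Y : A →ₗ[F] A} (h : InH H (qm T z w X L L' Y)) :
    Y = 0 ∧ L' = -L := by
  have h1 := D.qm_shift hz0 hw' hz hw hzw h
  have h2 := D.qm_shift hz0 hw' hz hw hzw h1
  have hY : Y + Y + 0 = 0 := hno z hz0 hz _ (h2.congr fun x => by rw [← qm_frame z w])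
  have hY0 : Y = 0 := by
    rw [add_zero, ← two_smul F] at hY
    exact (smul_eq_zero.1 hY).resolve_left D.symA.two
  subst hY0
  refine ⟨rfl, eq_neg_of_add_eq_zero_right ?_⟩
  have := hno z hz0 hz (L + L' + 0) (h1.congr fun x => by rw [← qm_frame z w])
  rwa [add_zero] at this

theorem qm_reduce (D : OData T H) (hno : NoFrame T H) {z w : B} (hz0 : z ≠ 0)
    (hw' : w ∉ Submodule.span F ({z} : Set B)) (hz : T.fB z z = 0) (hw : T.fB w w = 0)
    (hzw : T.fB z w = 0) {X L L' Y : A →ₗ[F] A} (h : InH H (qm T z w X L L' Y)) :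
    X = 0 ∧ L' = -L ∧ Y = 0 := by
  obtain ⟨hY, hL⟩ := D.qm_Y_zero hno hz0 hw' hz hw hzw h
  have hw0 : w ≠ 0 := fun e => hw' (e ▸ Submodule.zero_mem _)
  have hz' : z ∉ Submodule.span F ({w} : Set B) := fun hh => by
    obtain ⟨k, hk⟩ := Submodule.mem_span_singleton.1 hh
    have hk0 : k ≠ 0 := fun e => hz0 (by rw [← hk, e, zero_smul])
    exact hw' (Submodule.mem_span_singleton.2 ⟨k⁻¹, by rw [← hk, inv_smul_smul₀ hk0]⟩)
  obtain ⟨hX, -⟩ := D.qm_Y_zero hno hw0 hz' hw hz (by rw [D.symB.symm, hzw])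
    (h.congr fun x => (qm_swap z w X L L' Y x).symm)
  exact ⟨hX, hL, hY⟩

/-- the maps realised at a plane -/
def planeMaps (D : OData T H) {z w : B} (hz : T.fB z z = 0) (hw : T.fB w w = 0) (hzw : T.fB z w = 0) :
    AddSubgroup (Module.End F A) where
  carrier := {L | InH H (qm T z w 0 L (-L) 0)}
  zero_mem' := ⟨1, one_mem _, fun x => by simp [qm]⟩
  add_mem' {L M} hL hM := (InH.comp hL hM).congr fun x => by
    rw [D.qm_comp hz hw hzw]; congr 1 <;> abel
  neg_mem' {L} hL := (D.qm_inv hz hw hzw hL).congr fun x => by congr 1 <;> simp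

theorem qm_adjoint (D : OData T H) {z w : B} (hz0 : z ≠ 0) (hw' : w ∉ Submodule.span F ({z} : Set B))
    (hz : T.fB z z = 0) (hw : T.fB w w = 0) (hzw : T.fB z w = 0) {X L L' Y : A →ₗ[F] A}
    (h : InH H (qm T z w X L L' Y)) (a a' : A) : T.fA (L a) a' + T.fA a (L' a') = 0 := by
  obtain ⟨z', w', h1, h2, h3, h4⟩ := D.exists_dual hz0 hw'
  obtain ⟨g, hg, hgx⟩ := h
  have e := D.isom g hg (T.tau a z') (T.tau a' w')
  rw [hgx, hgx] at e
  simp only [qm, map_add, LinearMap.add_apply, D.form_tau, D.C_tau, D.symB.symm z z', h1,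
    D.symB.symm w z', h2, D.symB.symm z w', h3, D.symB.symm w w', h4, one_smul, zero_smul, map_zero,
    LinearMap.zero_apply, hz, hw, hzw, D.symB.symm z w, mul_one, mul_zero, add_zero, zero_add] at e
  linear_combination e

/-- the members of `planeMaps` commute -/
theorem planeMaps_comm (D : OData T H) (hno : NoFrame T H) {z w : B} (hz0 : z ≠ 0)
    (hw' : w ∉ Submodule.span F ({z} : Set B)) {hz : T.fB z z = 0} {hw : T.fB w w = 0}
    {hzw : T.fB z w = 0} {L M : Module.End F A} (hL : L ∈ D.planeMaps hz hw hzw)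
    (hM : M ∈ D.planeMaps hz hw hzw) : L * M = M * L := by
  obtain ⟨z', w', h1, h2, h3, h4⟩ := D.exists_dual hz0 hw'
  have hwz : T.fB w z = 0 := by rw [D.symB.symm, hzw]
  have h1' : T.fB z' z = 1 := by rw [D.symB.symm, h1]
  have h2' : T.fB z' w = 0 := by rw [D.symB.symm, h2]
  have h20 := D.symB.two
  set e := z' - (T.fB z' z' / 2) • z with he
  have hee : T.fB e e = 0 := by
    simp only [he, map_sub, map_smul, LinearMap.sub_apply, LinearMap.smul_apply, smul_eq_mul, hz, h1, h1']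
    field_simp
    ring
  have hze : T.fB z e = 1 := by simp [he, h1, hz]
  have hew : T.fB e w = 0 := by simp [he, h2', hzw]
  have hwe : T.fB w e = 0 := by rw [D.symB.symm, hew]
  have hez : T.fB e z = 1 := by rw [D.symB.symm, hze]
  -- an anisotropic vector orthogonal to `z`, `e`, `w`
  have hw0 : w ≠ 0 := fun e => hw' (e ▸ Submodule.zero_mem _)
  obtain ⟨r, hrz, hre, hrw, hrr⟩ : ∃ r, T.fB r z = 0 ∧ T.fB r e = 0 ∧ T.fB r w = 0 ∧ T.fB r r ≠ 0 := by
    have hnd := D.symB.ndS_perp_pair hz hee hze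
    have hwS : w ∈ perpV T.fB ![z, e] := mem_perpV.2 fun i => by fin_cases i; exacts [hwz, hwe]
    obtain ⟨y, hy, hyw⟩ : ∃ y ∈ perpV T.fB ![z, e], T.fB w y ≠ 0 := by
      by_contra hh
      simp only [not_exists, not_and, not_not] at hh
      exact hw0 (hnd w hwS hh)
    set y₁ := (T.fB w y)⁻¹ • y with hy₁
    have hwy : T.fB w y₁ = 1 := by rw [hy₁, map_smul, smul_eq_mul, inv_mul_cancel₀ hyw]
    have hyw' : T.fB y₁ w = 1 := by rw [D.symB.symm, hwy]
    set u := y₁ - (T.fB y₁ y₁ / 2) • w with hu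
    have huu : T.fB u u = 0 := by
      simp only [hu, map_sub, map_smul, LinearMap.sub_apply, LinearMap.smul_apply, smul_eq_mul, hw, hwy,
        hyw']
      field_simp
      ring
    have hwu : T.fB w u = 1 := by simp [hu, hwy, hw]
    have huS : u ∈ perpV T.fB ![z, e] := Submodule.sub_mem _ (Submodule.smul_mem _ _ hy) (Submodule.smul_mem _ _ hwS)
    have d1 := SymNd.finrank_cut (f := T.fB) (perpV T.fB ![z, e]) ![w, u]
    have d2 := le_finrank_perpV (f := T.fB) ![z, e]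
    have := D.dimB
    obtain ⟨r, hr, hrr⟩ := D.symB.exists_aniso_of_pos (D.symB.ndS_cut_pair hnd hwS huS hw huu hwu) (by omega)
    exact ⟨r, mem_perpV.1 hr.1 0, mem_perpV.1 hr.1 1, mem_perpV.1 hr.2 0, hrr⟩
  obtain ⟨s, hs, hsz, -, hss⟩ := D.symB.exists_swap hz hee hze hrz hre hrr
  obtain ⟨k, hk, hkab⟩ := D.pureB hs
  set c := -(T.fB r r / 2) with hc
  have hc0 : c ≠ 0 := neg_ne_zero.2 (div_ne_zero hrr h20)
  have hsw : s w = w := by rw [hss w hwz hwe, D.symB.symm r w, hrw]; simp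
  have hC := fun v x => D.C_pureB_inv (D.symB.egrp_isom hs) hkab v x
  obtain ⟨gl, hgl, hglx⟩ := hL
  obtain ⟨gm, hgm, hgmx⟩ := hM
  set G := k * gm * k⁻¹ with hG
  have hGH : G ∈ H := mul_mem (mul_mem hk hgm) (inv_mem hk)
  have hGx : ∀ x, G x = x + c • T.tau (M (T.C e x)) w - c • T.tau (M (T.C w x)) e := fun x => by
    show k (gm (k⁻¹ x)) = _
    rw [hgmx]
    simp only [qm, map_add, LinearMap.add_apply, LinearMap.neg_apply, map_neg, LinearMap.zero_apply,
      map_zero, add_zero, smul_zero, zero_add, ap_inv, hkab, hsz, hsw, hC, D.C_smul, LinearMap.smul_apply, map_smul]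
    abel
  have hfr : InH H (fr T w (c • (L * M - M * L))) := by
    refine ⟨G * gl * G⁻¹ * gl⁻¹, mul_mem (mul_mem (mul_mem hGH hgl) (inv_mem hGH)) (inv_mem hgl),
      fun x => ?_⟩
    obtain ⟨x, rfl⟩ := (gl * G).surjective x
    show G (gl (G⁻¹ (gl⁻¹ (gl (G x))))) = _
    rw [inv_ap, inv_ap]
    show G (gl x) = fr T w _ (gl (G x))
    simp only [hglx, hGx, qm, fr, LinearMap.neg_apply, LinearMap.zero_apply, map_add, map_sub, map_neg,
      map_smul, map_zero, LinearMap.add_apply, LinearMap.sub_apply, LinearMap.smul_apply, D.C_tau, hz, hw,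
      hzw, hwz, hez, hze, hew, hwe, hee, zero_smul, one_smul, smul_zero, add_zero, zero_add, sub_zero,
      zero_sub, Module.End.mul_apply]
    module
  have h := hno w hw0 hw _ hfr
  exact sub_eq_zero.1 ((smul_eq_zero.1 h).resolve_left hc0)

theorem planeMaps_scalar_mem (D : OData T H) {z w : B} (hz : T.fB z z = 0) (hw : T.fB w w = 0)
    (hzw : T.fB z w = 0) (c : F) : (c • LinearMap.id : Module.End F A) ∈ D.planeMaps hz hw hzw := by
  obtain ⟨k, hk, -, hkx⟩ := D.eichB hz (r := c • w) (by simp [D.symB.symm z w, hzw])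
  refine ⟨k, hk, fun x => ?_⟩
  rw [hkx]
  simp [qm, hw, D.C_smul, ← sub_eq_add_neg, smul_smul]

theorem planeMaps_conj (D : OData T H) {z w : B} {hz : T.fB z z = 0} {hw : T.fB w w = 0}
    {hzw : T.fB z w = 0} {g : A ≃ₗ[F] A} (hg : g ∈ egrp T.fA) {L : Module.End F A}
    (hL : L ∈ D.planeMaps hz hw hzw) :
    g.toLinearMap ∘ₗ L ∘ₗ g.symm.toLinearMap ∈ D.planeMaps hz hw hzw := by
  obtain ⟨k, hk, hkab⟩ := D.pureA hg
  obtain ⟨t, ht, htx⟩ := hL
  refine ⟨k * t * k⁻¹, mul_mem (mul_mem hk ht) (inv_mem hk), fun x => ?_⟩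
  show k (t (k⁻¹ x)) = _
  rw [htx]
  simp only [qm, map_add, map_neg, LinearMap.neg_apply, LinearMap.zero_apply, map_zero, add_zero, ap_inv, hkab,
    D.C_pureA_inv hkab, LinearMap.comp_apply, LinearEquiv.coe_coe]

/-- the maps realised at a plane are scalar -/
theorem planeMaps_scalar (D : OData T H) (hno : NoFrame T H) {z w : B} (hz0 : z ≠ 0)
    (hw' : w ∉ Submodule.span F ({z} : Set B)) {hz : T.fB z z = 0} {hw : T.fB w w = 0}
    {hzw : T.fB z w = 0} {L : Module.End F A} (hL : L ∈ D.planeMaps hz hw hzw) :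
    ∃ k : F, ∀ a, L a = k • a := by
  by_contra hns
  obtain ⟨v, hv0, hv⟩ := D.symA.exists_iso_top D.dimA
  obtain ⟨u, hu, hvu, huv⟩ := D.symA.partner hv0 hv
  let S : AddSubgroup (Module.End F A) :=
    { carrier := {X | ∃ k : F, ∀ a, X a = k • a}
      zero_mem' := ⟨0, fun a => by simp⟩
      add_mem' := by
        rintro X Y ⟨k, hk⟩ ⟨l, hl⟩
        exact ⟨k + l, fun a => by simp [hk, hl, add_smul]⟩
      neg_mem' := by
        rintro X ⟨k, hk⟩
        exact ⟨-k, fun a => by simp [hk]⟩ }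
  obtain ⟨Y, hY, hYS, hfix⟩ := D.symA.exists_fixed_conj (u := u) hv (D.planeMaps hz hw hzw) S
    (fun g hg Y hY => D.planeMaps_conj hg hY)
    (fun g hg Y ⟨k, hk⟩ => ⟨k, fun a => by simp [hk]⟩) hL hns
  have hadj : ∀ a a', T.fA (Y a) a' = T.fA a (Y a') := fun a a' => by
    have h := D.qm_adjoint hz0 hw' hz hw hzw hY a a'
    rw [LinearMap.neg_apply, map_neg, ← sub_eq_add_neg, sub_eq_zero] at h
    exact h
  obtain ⟨s, t, hst⟩ := D.symA.fixed_sym D.dimA D.big hv hu hvu huv hadj fun r hr hru => by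
    obtain ⟨Z, ⟨k, hk⟩, hZ⟩ := hfix r hr hru
    exact ⟨k, fun a => by rw [hZ, hk]⟩
  have ht : t ≠ 0 := fun e => hYS ⟨s, fun a => by rw [hst, e, zero_mul, zero_smul, add_zero]⟩
  have hY' := (D.planeMaps hz hw hzw).sub_mem hY (D.planeMaps_scalar_mem hz hw hzw s)
  have hu0 : u ≠ 0 := fun e => by simp [e] at hvu
  obtain ⟨g, hg, c, hc, hgv⟩ := D.symA.exists_move D.dimA hv0 hv hu0 hu
  have hZ := D.planeMaps_conj hg hY'
  have hval : ∀ a, (Y - s • LinearMap.id : Module.End F A) a = (t * T.fA a v) • v := fun a => by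
    simp [hst]
  have hZval : ∀ a, (g.toLinearMap ∘ₗ (Y - s • LinearMap.id : Module.End F A) ∘ₗ g.symm.toLinearMap) a =
      (t * c * c * T.fA a u) • u := fun a => by
    show g ((Y - s • LinearMap.id : Module.End F A) (g.symm a)) = _
    have e1 : T.fA (g.symm a) v = c * T.fA a u := by
      rw [← D.symA.egrp_isom hg, LinearEquiv.apply_symm_apply, hgv, map_smul, smul_eq_mul]
    rw [hval, map_smul, hgv, smul_smul, e1]
    ring_nf
  have h := LinearMap.congr_fun (D.planeMaps_comm hno hz0 hw' hY' hZ) v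
  simp only [Module.End.mul_apply, hval, hZval, map_smul, LinearMap.smul_apply, smul_eq_mul, hv, hu, hvu,
    huv, mul_zero, mul_one, zero_smul, smul_smul, map_zero, LinearMap.zero_apply] at h
  rcases smul_eq_zero.1 h with h' | h'
  · simp [ht, hc] at h'
  · exact hv0 h'

/-- an element fixing the orthogonal of the pencils over a plane is a long root element of `B` -/
theorem qPlane (D : OData T H) (hno : NoFrame T H) {z w : B} (hz0 : z ≠ 0)
    (hw' : w ∉ Submodule.span F ({z} : Set B)) (hz : T.fB z z = 0) (hw : T.fB w w = 0)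
    (hzw : T.fB z w = 0) {g : V ≃ₗ[F] V} (hg : g ∈ H)
    (hfix : ∀ x, T.C z x = 0 → T.C w x = 0 → g x = x) :
    ∃ c : F, ∀ x, g x = x + c • (T.tau (T.C z x) w - T.tau (T.C w x) z) := by
  obtain ⟨X, L, L', Y, hgx⟩ := D.plane_form hz0 hw' hg hfix
  obtain ⟨rfl, rfl, rfl⟩ := D.qm_reduce hno hz0 hw' hz hw hzw ⟨g, hg, hgx⟩
  obtain ⟨k, hk⟩ := D.planeMaps_scalar hno hz0 hw' (hz := hz) (hw := hw) (hzw := hzw) ⟨g, hg, hgx⟩
  refine ⟨k, fun x => ?_⟩
  rw [hgx]
  simp [qm, hk, smul_sub]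
  abel

/-- an element fixing the orthogonal of a singular pencil is trivial -/
theorem qLine (D : OData T H) (hno : NoFrame T H) {z : B} (hz0 : z ≠ 0) (hz : T.fB z z = 0)
    {g : V ≃ₗ[F] V} (hg : g ∈ H) (hfix : ∀ x, T.C z x = 0 → g x = x) (x : V) : g x = x := by
  obtain ⟨X, hgx⟩ := D.line_form hz0 hz hg hfix
  rw [hgx, fr, hno z hz0 hz X ⟨g, hg, hgx⟩]
  simp

end OData

end CfsgLib.MaxSub.TForm
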