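import Cfsg.Agent.Lib.MaxSub.TFormOOPlane

/-!
Orthogonal ⊗ orthogonal: without Siegel maps at singular pencils, the unipotent radicals met by the overgroup
are pure, hence so are its elements mapping a singular pencil or plane of pencils to another.
-/

set_option autoImplicit false
set_option linter.unusedSectionVars false
set_option linter.unusedSimpArgs false
set_option linter.unusedVariables false
set_option linter.style.haveILetI false
set_option maxHeartbeats 1000000

namespace CfsgLib.MaxSub.TForm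

open Module

variable {F A B V : Type*} [Field F] [AddCommGroup A] [Module F A] [AddCommGroup B] [Module F B]
  [AddCommGroup V] [Module F V]

namespace OData

variable {T : Sys F A B V (RingHom.id F)} {H : Subgroup (V ≃ₗ[F] V)}
variable [Finite F] [FiniteDimensional F A] [FiniteDimensional F B]

theorem fB_C' (D : OData T H) (x : A) (w : B) (y : V) : T.fB (T.C' x y) w = T.fA (T.C w y) x :=
  LinearMap.congr_fun (D.ext_tau (f := (T.fB.flip w) ∘ₗ T.C' x) (g := (T.fA.flip x) ∘ₗ T.C w)
    fun a b => by simp [D.C'_tau, D.C_tau, mul_comm]) y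

theorem exists_dualA (D : OData T H) {a : A} (ha : a ≠ 0) : ∃ x, T.fA a x = 1 := by
  obtain ⟨y, hy⟩ : ∃ y, T.fA a y ≠ 0 := by
    by_contra h
    simp only [not_exists, not_not] at h
    exact ha (D.symA.nondeg a h)
  exact ⟨(T.fA a y)⁻¹ • y, by rw [map_smul, smul_eq_mul, inv_mul_cancel₀ hy]⟩

/-- an anisotropic vector orthogonal to a totally singular plane -/
theorem exists_aniso_perp2 (D : OData T H) {z w : B} (hz0 : z ≠ 0)
    (hw' : w ∉ Submodule.span F ({z} : Set B)) (hz : T.fB z z = 0) (hzw : T.fB z w = 0) :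
    ∃ y, T.fB y z = 0 ∧ T.fB y w = 0 ∧ T.fB y y ≠ 0 := by
  by_contra hno
  simp only [not_exists, not_and, not_not] at hno
  set S := perpV T.fB ![z, w] with hS
  have hss : ∀ x ∈ S, ∀ y ∈ S, T.fB x y = 0 := fun x hx y hy => by
    have hq : ∀ t ∈ S, T.fB t t = 0 := fun t ht => hno t (mem_perpV.1 ht 0) (mem_perpV.1 ht 1)
    have h := hq (x + y) (S.add_mem hx hy)
    simp only [map_add, LinearMap.add_apply, hq x hx, hq y hy, D.symB.symm x y] at h
    exact (mul_eq_zero.1 (show (2 : F) * T.fB x y = 0 by linear_combination h)).resolve_left D.symB.two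
  -- `S` would lie in its orthogonal, a plane
  obtain ⟨z', w', h1, h2, h3, h4⟩ := D.exists_dual hz0 hw'
  have hinj : ∀ x ∈ S, T.fB x z' = 0 → T.fB x w' = 0 → x = 0 := fun x hx ha hb =>
    D.symB.nondeg x fun y => by
      have hm : y - T.fB y z • z' - T.fB y w • w' ∈ S := mem_perpV.2 fun i => by
        fin_cases i <;> simp [D.symB.symm z z', h1, D.symB.symm z w', h3, D.symB.symm w z', h2,
          D.symB.symm w w', h4]
      have h := hss x hx _ hm
      simpa [ha, hb] using h
  let φ : S →ₗ[F] F × F := ((T.fB.flip z').prod (T.fB.flip w')).comp S.subtype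
  have hφ : Function.Injective φ := (injective_iff_map_eq_zero φ).2 fun x hx => Subtype.ext
    (hinj x.1 x.2 (congrArg Prod.fst hx) (congrArg Prod.snd hx))
  have d1 := LinearMap.finrank_le_finrank_of_injective hφ
  rw [Module.finrank_prod, Module.finrank_self] at d1
  have d2 := le_finrank_perpV (f := T.fB) ![z, w]
  have := D.dimB
  rw [← hS] at d2
  omega

/-- induction on the orthogonal of the pencils over a plane -/
theorem perp2_induction (D : OData T H) {z w z' w' : B} (h1 : T.fB z z' = 1) (h2 : T.fB w z' = 0)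
    (h3 : T.fB z w' = 0) (h4 : T.fB w w' = 1) {p : V → Prop} (h0 : p 0)
    (hadd : ∀ x y, p x → p y → p (x + y))
    (htau : ∀ a d, T.fB d z = 0 → T.fB d w = 0 → p (T.tau a d)) {x : V}
    (hx : T.C z x = 0) (hx' : T.C w x = 0) : p x := by
  have key : p (x - T.tau (T.C z x) z' - T.tau (T.C w x) w') := by
    refine D.induction (p := fun x => p (x - T.tau (T.C z x) z' - T.tau (T.C w x) w'))
      (by simpa using h0) (fun y y' hy hy' => ?_) (fun a b => ?_) x
    · have e1 : y + y' - T.tau (T.C z (y + y')) z' - T.tau (T.C w (y + y')) w' =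
          (y - T.tau (T.C z y) z' - T.tau (T.C w y) w') + (y' - T.tau (T.C z y') z' - T.tau (T.C w y') w') := by
        simp only [map_add, LinearMap.add_apply]; abel
      rw [e1]; exact hadd _ _ hy hy'
    · rw [D.C_tau, D.C_tau, map_smul, map_smul, LinearMap.smul_apply, LinearMap.smul_apply, ← map_smul,
        ← map_smul, ← map_sub, ← map_sub]
      exact htau _ _ (by simp [D.symB.symm z z', h1, D.symB.symm z w', h3])
        (by simp [D.symB.symm w z', h2, D.symB.symm w w', h4])
  simpa [hx, hx'] using key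

/-- conjugating by an Eichler element shifts the parameters -/
theorem shift_line (D : OData T H) {z : B} {E : B ≃ₗ[F] B} (hE : E ∈ egrp T.fB) (hEz : E z = z)
    {s : V ≃ₗ[F] V} (hs : s ∈ H) (L : B →ₗ[F] A →ₗ[F] A) (hsz : ∀ a, s (T.tau a z) = T.tau a z)
    (hsL : ∀ a b, T.fB b z = 0 → s (T.tau a b) = T.tau a b + T.tau (L b a) z) :
    ∃ s₁ ∈ H, (∀ a, s₁ (T.tau a z) = T.tau a z) ∧
      ∀ a b, T.fB b z = 0 → s₁ (T.tau a b) = T.tau a b + T.tau (L (E b) a - L b a) z := by
  obtain ⟨k, hk, hkab⟩ := D.pureB hE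
  have hkz : ∀ a, k⁻¹ (T.tau a z) = T.tau a z := fun a => k.injective (by rw [ap_inv, hkab, hEz])
  have hszi : ∀ a, s⁻¹ (T.tau a z) = T.tau a z := fun a => s.injective (by rw [ap_inv, hsz])
  refine ⟨s⁻¹ * k⁻¹ * s * k, mul_mem (mul_mem (mul_mem (inv_mem hs) (inv_mem hk)) hs) hk, fun a => ?_,
    fun a b hb => ?_⟩
  · show s⁻¹ (k⁻¹ (s (k (T.tau a z)))) = _
    rw [hkab, hEz, hsz, hkz, hszi]
  · show s⁻¹ (k⁻¹ (s (k (T.tau a b)))) = _
    have hEb : T.fB (E b) z = 0 := by rw [← hEz, D.symB.egrp_isom hE, hb]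
    have hsi : s⁻¹ (T.tau a b) = T.tau a b - T.tau (L b a) z := s.injective (by
      rw [ap_inv, map_sub, hsL a b hb, hsz, add_sub_cancel_right])
    rw [hkab, hsL a (E b) hEb, map_add, hkz, show k⁻¹ (T.tau a (E b)) = T.tau a b from
      k.injective (by rw [ap_inv, hkab]), map_add, hszi, hsi, map_sub, LinearMap.sub_apply]
    abel

/-- an element trivial on a pencil and on its orthogonal modulo it is an Eichler element of `B` -/
theorem rLine (D : OData T H) (hno : NoFrame T H) {z : B} (hz0 : z ≠ 0) (hz : T.fB z z = 0)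
    {s : V ≃ₗ[F] V} (hs : s ∈ H) (hsz : ∀ a, s (T.tau a z) = T.tau a z)
    (hsQ : ∀ x, T.C z x = 0 → ∃ a, s x = x + T.tau a z) :
    ∃ r, T.fB r z = 0 ∧ ∀ a b, s (T.tau a b) = T.tau a (eich T.fB z r b) := by
  haveI := D.nontrivA
  obtain ⟨e, hee, hze, hez⟩ := D.symB.partner hz0 hz
  let L : B →ₗ[F] A →ₗ[F] A := LinearMap.mk₂ F (fun b a => T.C e (s (T.tau a b) - T.tau a b))
    (fun b b' a => by simp; abel) (fun c b a => by simp [smul_sub]) (fun b a a' => by simp; abel)
    (fun c b a => by simp [smul_sub])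
  have hL : ∀ a b, T.fB b z = 0 → s (T.tau a b) = T.tau a b + T.tau (L b a) z := by
    intro a b hb
    obtain ⟨a', ha'⟩ := hsQ (T.tau a b) (by rw [D.C_tau, hb, zero_smul])
    have : L b a = a' := by
      show T.C e (s (T.tau a b) - T.tau a b) = a'
      rw [ha', add_sub_cancel_left, D.C_tau, hze, one_smul]
    rw [this, ha']
  have hLz : ∀ a, L z a = 0 := fun a => by
    show T.C e (s (T.tau a z) - T.tau a z) = 0
    rw [hsz, sub_self, map_zero]
  -- singular vectors of the middle
  have hmid : ∀ d, d ≠ 0 → T.fB d z = 0 → T.fB d e = 0 → T.fB d d = 0 → ∃ k : F, ∀ a, L d a = k • a := by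
    intro d hd0 hdz hde hdd
    have hnd := D.symB.ndS_perp_pair hz hee hze
    have hdS : d ∈ perpV T.fB ![z, e] := mem_perpV.2 fun i => by fin_cases i; exacts [hdz, hde]
    obtain ⟨y₀, hy₀, hdy₀⟩ : ∃ y ∈ perpV T.fB ![z, e], T.fB d y ≠ 0 := by
      by_contra hh
      simp only [not_exists, not_and, not_not] at hh
      exact hd0 (hnd d hdS hh)
    set y₁ := (T.fB d y₀)⁻¹ • y₀ with hy₁
    have hdy : T.fB d y₁ = 1 := by rw [hy₁, map_smul, smul_eq_mul, inv_mul_cancel₀ hdy₀]
    set d' := y₁ - (T.fB y₁ y₁ / 2) • d with hd'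
    have h20 := D.symB.two
    have hd'd' : T.fB d' d' = 0 := by
      simp only [hd', map_sub, map_smul, LinearMap.sub_apply, LinearMap.smul_apply, smul_eq_mul, hdd, hdy,
        D.symB.symm d y₁]
      field_simp
      ring
    have hdd' : T.fB d d' = 1 := by simp [hd', hdy, hdd]
    have hd'S : d' ∈ perpV T.fB ![z, e] :=
      Submodule.sub_mem _ (Submodule.smul_mem _ _ hy₀) (Submodule.smul_mem _ _ hdS)
    have d1 := SymNd.finrank_cut (f := T.fB) (perpV T.fB ![z, e]) ![d, d']
    have d2 := le_finrank_perpV (f := T.fB) ![z, e]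
    have := D.dimB
    obtain ⟨y, hy, hyy⟩ := D.symB.exists_aniso_of_pos (D.symB.ndS_cut_pair hnd hdS hd'S hdd hd'd' hdd')
      (by omega)
    have hyz : T.fB y z = 0 := mem_perpV.1 hy.1 0
    have hyd : T.fB y d = 0 := mem_perpV.1 hy.2 0
    have hd'z : T.fB d' z = 0 := mem_perpV.1 hd'S 0
    have hd'd : T.fB d' d = 1 := by rw [D.symB.symm, hdd']
    obtain ⟨E, hE, hEa, -⟩ := D.symB.exists_eich hdd hyd
    have hEz : E z = z := by
      rw [hEa, eich_apply, D.symB.symm d z, hdz, D.symB.symm y z, hyz]; simp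
    obtain ⟨s₁, hs₁, hs₁z, hs₁L⟩ := D.shift_line hE hEz hs L hsz hL
    obtain ⟨s₂, hs₂, hs₂z, hs₂L⟩ := D.shift_line hE hEz hs₁ (L ∘ₗ E.toLinearMap - L) hs₁z
      (fun a b hb => by simpa using hs₁L a b hb)
    have hs₂' : ∀ a b, T.fB b z = 0 →
        s₂ (T.tau a b) = T.tau a b + T.tau (-(T.fB y y * T.fB b d) • L d a) z := by
      intro a b hb
      rw [hs₂L a b hb]
      congr 3
      simp only [LinearMap.sub_apply, LinearMap.comp_apply, LinearEquiv.coe_coe, hEa, eich_apply, map_add,
        map_sub, map_smul, LinearMap.add_apply, LinearMap.smul_apply, smul_eq_mul, hdd, hyd,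
        D.symB.symm y d, mul_zero, add_zero, zero_smul, sub_zero]
      match_scalars <;> field_simp <;> ring
    have hsp : d ∉ Submodule.span F ({z} : Set B) := fun hh => by
      obtain ⟨l, hl⟩ := Submodule.mem_span_singleton.1 hh
      have h := hd'z
      rw [← hl, map_smul, smul_eq_mul, h, mul_zero] at hd'd
      exact zero_ne_one hd'd
    have hform : ∀ x, T.C z x = 0 → s₂ x = x + T.tau (-(T.fB y y) • L d (T.C d x)) z := by
      intro x hx
      refine D.perp_induction hze (p := fun x => s₂ x = x + T.tau (-(T.fB y y) • L d (T.C d x)) z)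
        (by simp) (fun x x' h h' => ?_) (fun a b hb => ?_) hx
      · simp only [map_add, h, h', smul_add, LinearMap.add_apply]; abel
      · rw [hs₂' a b hb, D.C_tau, map_smul (L d), smul_smul, neg_mul]
    obtain ⟨c, hc⟩ := D.qPlane hno hz0 hsp hz hdd (D.symB.symm d z ▸ hdz) hs₂ fun x hx hx' => by
      rw [hform x hx, hx', map_zero, smul_zero, map_zero, LinearMap.zero_apply, add_zero]
    refine ⟨c / T.fB y y, fun a => ?_⟩
    have h := (hs₂' a d' hd'z).symm.trans (hc (T.tau a d'))
    rw [D.C_tau, D.C_tau, hd'z, hd'd, mul_one, zero_smul, map_zero, LinearMap.zero_apply, zero_sub,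
      one_smul, add_right_inj] at h
    have h' : T.tau (-(T.fB y y) • L d a) z = T.tau (-(c • a)) z := by
      rw [h]; simp [smul_neg]
    have h1 := D.tau_left_inj hz0 h'
    rw [neg_smul, neg_inj] at h1
    rw [div_eq_inv_mul, ← smul_smul, ← h1, inv_smul_smul₀ hyy]
  -- all vectors orthogonal to `z`
  have hall : ∀ b, T.fB b z = 0 → ∃ k : F, ∀ a, L b a = k • a := by
    intro b hb
    let W : Submodule F B :=
      { carrier := {b | ∃ k : F, ∀ a, L b a = k • a}
        add_mem' := by
          rintro x y ⟨k, hk⟩ ⟨l, hl⟩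
          exact ⟨k + l, fun a => by simp [hk, hl, add_smul]⟩
        zero_mem' := ⟨0, fun a => by simp⟩
        smul_mem' := by
          rintro c x ⟨k, hk⟩
          exact ⟨c * k, fun a => by simp [hk, smul_smul]⟩ }
    refine Submodule.span_le (p := W).2 ?_ (D.symB.iso_span_perp D.dimB hz0 hz hb)
    rintro x ⟨hxz, hxx⟩
    have hzW : z ∈ W := ⟨0, fun a => by simp [hLz]⟩
    rw [← sub_add_cancel x (T.fB x e • z)]
    refine W.add_mem ?_ (W.smul_mem _ hzW)
    rcases eq_or_ne (x - T.fB x e • z) 0 with h | h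
    · rw [h]; exact W.zero_mem
    · exact hmid _ h (by simp [hxz, hz]) (by simp [hze]) (by simp [hxx, hz, hxz, D.symB.symm x z])
  obtain ⟨a₀, ha₀⟩ := exists_ne (0 : A)
  obtain ⟨x₀, hx₀⟩ := D.exists_dualA ha₀
  let φ : B →ₗ[F] F := (T.fA.flip x₀) ∘ₗ L.flip a₀
  have hφ : ∀ a b, T.fB b z = 0 → L b a = φ b • a := fun a b hb => by
    obtain ⟨k, hk⟩ := hall b hb
    have : φ b = k := by
      show T.fA (L b a₀) x₀ = k
      rw [hk, map_smul, LinearMap.smul_apply, smul_eq_mul, hx₀, mul_one]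
    rw [this, hk]
  obtain ⟨r₀, hr₀⟩ := exists_repr (σ := RingHom.id F) (fun _ => rfl) T.fB D.symB.nondeg
    (φ - φ e • T.fB.flip z)
  have hr₀z : T.fB r₀ z = 0 := by
    rw [D.symB.symm z r₀, hr₀]
    show T.fA (L z a₀) x₀ - φ e * T.fB z z = 0
    rw [hLz, hz, map_zero, LinearMap.zero_apply, mul_zero, sub_zero]
  obtain ⟨k, hk, hkab, -⟩ := D.eichB hz (r := -r₀) (by simp [hr₀z])
  refine ⟨-r₀, by simp [hr₀z], fun a b => ?_⟩
  have hfix : ∀ x, T.C z x = 0 → (k⁻¹ * s) x = x := fun x hx => by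
    refine D.perp_induction hze (p := fun x => (k⁻¹ * s) x = x) (map_zero _)
      (fun x y h h' => by rw [map_add, h, h']) (fun a b hb => k.injective ?_) hx
    show k (k⁻¹ (s _)) = _
    rw [ap_inv, hL a b hb, hkab, eich_apply, hb, hφ a b hb]
    have : T.fB b r₀ = φ b := by
      rw [hr₀]; simp [hb]
    simp [this, map_smul]
  rw [← hkab]
  have h : k⁻¹ (s (T.tau a b)) = T.tau a b :=
    D.qLine hno hz0 hz (mul_mem (inv_mem hk) hs) hfix (T.tau a b)
  conv_rhs => rw [← h, ap_inv]

end OData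

end CfsgLib.MaxSub.TForm
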