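import Cfsg.Agent.Lib.MaxSub.TFormOOStab

/-!
Orthogonal ⊗ orthogonal: elements of the overgroup mapping a singular pencil to a pencil, or the pencils over a
totally singular plane to those over another, are pure.
-/

set_option autoImplicit false
set_option linter.unusedSectionVars false
set_option linter.unusedSimpArgs false
set_option linter.unusedVariables false
set_option linter.style.haveILetI false
set_option maxHeartbeats 1000000

namespace CfsgLib.MaxSub.TForm

open Module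

variable {F A B V : Type*} [Field F] [AddCommGroup A] [Module F A] [AddCommGroup B] [Module F B]
  [AddCommGroup V] [Module F V]

namespace OData

variable {T : Sys F A B V (RingHom.id F)} {H : Subgroup (V ≃ₗ[F] V)}
variable [Finite F] [FiniteDimensional F A] [FiniteDimensional F B] [FiniteDimensional F V]

theorem kron_mul (D : OData T H) {g g' : V ≃ₗ[F] V} (h : IsKron T g) (h' : IsKron T g') :
    IsKron T (g * g' : V ≃ₗ[F] V) := by
  obtain ⟨M, f, hf⟩ := h
  obtain ⟨M', f', hf'⟩ := h'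
  exact ⟨M ∘ₗ M', f ∘ₗ f', fun a b => by simp [LinearEquiv.mul_apply, hf, hf']⟩

theorem kron_inv (D : OData T H) {g : V ≃ₗ[F] V} (h : IsKron T g) : IsKron T (g⁻¹ : V ≃ₗ[F] V) := by
  haveI : Finite V := Module.finite_of_finite F
  haveI : Finite (V ≃ₗ[F] V) := Finite.of_injective _ DFunLike.coe_injective
  have hpow : ∀ n : ℕ, IsKron T (g ^ n : V ≃ₗ[F] V) := by
    intro n
    induction n with
    | zero => exact ⟨LinearMap.id, LinearMap.id, fun a b => rfl⟩
    | succ n ih => rw [pow_succ]; exact D.kron_mul ih h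
  have h1 : g⁻¹ = g ^ (orderOf g - 1) := by
    refine inv_eq_of_mul_eq_one_right ?_
    rw [← pow_succ', Nat.sub_add_cancel (orderOf_pos g), pow_orderOf_eq_one]
  rw [h1]
  exact hpow _

/-- an element stabilising a singular pencil is pure -/
theorem kron_of_line (D : OData T H) (hno : NoFrame T H) {z : B} (hz0 : z ≠ 0) (hz : T.fB z z = 0)
    {u : V ≃ₗ[F] V} (hu : u ∈ H) (hfix : ∀ a, u (T.tau a z) ∈ pen T z) : IsKron T u := by
  haveI := D.nontrivA
  obtain ⟨e, hee, hze, hez⟩ := D.symB.partner hz0 hz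
  -- the action on the pencil
  let N₀ : A →ₗ[F] A := T.C e ∘ₗ (u : V →ₗ[F] V) ∘ₗ T.tau.flip z
  have hN₀ : ∀ a, u (T.tau a z) = T.tau (N₀ a) z := by
    intro a
    obtain ⟨a', ha'⟩ := hfix a
    have : N₀ a = a' := by
      show T.C e (u (T.tau a z)) = a'
      rw [← ha', LinearMap.flip_apply, D.C_tau, hze, one_smul]
    rw [this, ← ha']; rfl
  have hNinj : Function.Injective N₀ := fun a a' h =>
    D.tau_left_inj hz0 (u.injective (by rw [hN₀, hN₀, h]))
  let N : A ≃ₗ[F] A := LinearEquiv.ofInjectiveEndo N₀ hNinj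
  have hN : ∀ a, u (T.tau a z) = T.tau (N a) z := hN₀
  have hNi : ∀ a, u⁻¹ (T.tau a z) = T.tau (N.symm a) z := fun a => u.injective (by
    rw [ap_inv, hN, LinearEquiv.apply_symm_apply])
  have hCz : ∀ x a, T.fA (T.C z (u x)) (N a) = T.fA (T.C z x) a := fun x a => by
    rw [← D.form_C, ← D.form_C, ← hN, D.isom u hu]
  have hCzero : ∀ x, T.C z x = 0 → T.C z (u x) = 0 := fun x hx => D.symA.nondeg _ fun y => by
    obtain ⟨a, rfl⟩ := N.surjective y
    rw [hCz, hx, map_zero, LinearMap.zero_apply]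
  have hCzero' : ∀ x, T.C z x = 0 → T.C z (u⁻¹ x) = 0 := fun x hx => D.symA.nondeg _ fun y => by
    rw [← hCz, ap_inv, hx, map_zero, LinearMap.zero_apply]
  obtain ⟨a₀, ha₀⟩ := exists_ne (0 : A)
  obtain ⟨x₀, hx₀⟩ := D.exists_dualA (a := N a₀) (fun h => ha₀ (N.map_eq_zero_iff.1 h))
  let f : B →ₗ[F] B := T.C' x₀ ∘ₗ (u : V →ₗ[F] V) ∘ₗ T.tau a₀
  -- the pure part on the orthogonal of the pencil
  have hCw : ∀ w, T.fB w z = 0 → ∀ a b, T.fB b z = 0 → T.C w (u (T.tau a b)) = T.fB (f b) w • N a := by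
    intro w hw
    obtain ⟨k, hk, hkab, hkx⟩ := D.eichB hz hw
    have hkz : ∀ a, k (T.tau a z) = T.tau a z := fun a => by
      rw [hkab, eich_apply, hz, D.symB.symm w z, hw]; simp
    have hkperp : ∀ x, T.C z x = 0 → k x = x - T.tau (T.C w x) z := fun x hx => by
      rw [hkx, hx]; simp
    obtain ⟨r, hr, hrab⟩ := D.rLine hno hz0 hz (s := u⁻¹ * k * u) (mul_mem (mul_mem (inv_mem hu) hk) hu)
      (fun a => by
        show u⁻¹ (k (u (T.tau a z))) = _
        rw [hN, hkz, hNi, LinearEquiv.symm_apply_apply])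
      (fun x hx => ⟨-N.symm (T.C w (u x)), by
        show u⁻¹ (k (u x)) = _
        rw [hkperp _ (hCzero x hx), map_sub, inv_ap, hNi]
        simp [sub_eq_add_neg]⟩)
    intro a b hb
    have key : ∀ a, T.C w (u (T.tau a b)) = T.fB b r • N a := by
      intro a
      have h := hrab a b
      change u⁻¹ (k (u (T.tau a b))) = _ at h
      rw [hkperp _ (hCzero _ (by rw [D.C_tau, hb, zero_smul])), map_sub, inv_ap, hNi, eich_apply, hb] at h
      simp only [zero_smul, add_zero, mul_zero, map_sub, map_smul, sub_right_inj] at h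
      rw [← LinearMap.smul_apply, ← map_smul] at h
      have h1 := congrArg N (D.tau_left_inj hz0 h)
      rwa [LinearEquiv.apply_symm_apply, map_smul] at h1
    have : T.fB (f b) w = T.fB b r := by
      show T.fB (T.C' x₀ (u (T.tau a₀ b))) w = _
      rw [D.fB_C', key, map_smul, LinearMap.smul_apply, smul_eq_mul, hx₀, mul_one]
    rw [this, key]
  let Y : B → A →ₗ[F] A := fun b => T.C e ∘ₗ ((u : V →ₗ[F] V) ∘ₗ T.tau.flip b - T.tau.flip (f b) ∘ₗ N.toLinearMap)
  have hY : ∀ a b, T.fB b z = 0 → u (T.tau a b) = T.tau (N a) (f b) + T.tau (Y b a) z := by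
    intro a b hb
    rw [← sub_eq_iff_eq_add']
    exact D.mem_pen hze fun w hw => by rw [map_sub, hCw w hw a b hb, D.C_tau, sub_self]
  -- `N` is a similitude
  obtain ⟨μ, hμ, hNμ⟩ : ∃ μ : F, μ ≠ 0 ∧ ∀ a a', T.fA (N a) (N a') = μ * T.fA a a' := by
    have d2 := le_finrank_perpV (f := T.fB) ![z, e]
    have := D.dimB
    obtain ⟨b, hb, hbb⟩ := D.symB.exists_aniso_of_pos (D.symB.ndS_perp_pair hz hee hze) (by omega)
    have hbz : T.fB b z = 0 := mem_perpV.1 hb 0
    have hfz : T.fB (f b) z = 0 := by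
      show T.fB (T.C' x₀ (u (T.tau a₀ b))) z = 0
      rw [D.fB_C', hCzero _ (by rw [D.C_tau, hbz, zero_smul]), map_zero, LinearMap.zero_apply]
    have key : ∀ a a', T.fA (N a) (N a') * T.fB (f b) (f b) = T.fA a a' * T.fB b b := fun a a' => by
      have h := D.isom u hu (T.tau a b) (T.tau a' b)
      rw [hY a b hbz, hY a' b hbz] at h
      simpa [map_add, D.form_tau, hz, hfz, D.symB.symm (f b) z] using h
    have hff : T.fB (f b) (f b) ≠ 0 := fun h => by
      obtain ⟨x, hx⟩ := D.exists_dualA ha₀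
      have := key a₀ x
      rw [h, mul_zero, hx, one_mul] at this
      exact hbb this.symm
    refine ⟨T.fB b b / T.fB (f b) (f b), div_ne_zero hbb hff, fun a a' => ?_⟩
    rw [div_mul_eq_mul_div, eq_div_iff hff, key, mul_comm]
  -- commutators with pure elements of `A`
  have hgen : ∀ g ∈ eichGen T.fA, ∃ k ∈ H, ∃ G ∈ H, (∀ a b, k (T.tau a b) = T.tau (g a) b) ∧
      (∀ a b, G (T.tau a b) = T.tau (N (g (N.symm a))) b) ∧
      ∃ r, T.fB r z = 0 ∧ ∀ a b, (u * k * u⁻¹ * G⁻¹) (T.tau a b) = T.tau a (eich T.fB z r b) := by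
    intro g hg
    obtain ⟨k, hk, hka⟩ := D.genA g hg
    obtain ⟨G, hG, hGa₀⟩ := D.genA _ (D.symA.eichGen_conj hμ hNμ hg)
    have hGa : ∀ a b, G (T.tau a b) = T.tau (N (g (N.symm a))) b := hGa₀
    refine ⟨k, hk, G, hG, hka, hGa, D.rLine hno hz0 hz
      (mul_mem (mul_mem (mul_mem hu hk) (inv_mem hu)) (inv_mem hG)) (fun a => ?_) (fun x hx => ?_)⟩
    · obtain ⟨c, rfl⟩ : ∃ c, N (g c) = a := ⟨g.symm (N.symm a), by simp⟩
      have h1 : G⁻¹ (T.tau (N (g c)) z) = T.tau (N c) z := G.injective (by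
        rw [ap_inv, hGa, LinearEquiv.symm_apply_apply])
      show u (k (u⁻¹ (G⁻¹ _))) = _
      rw [h1, hNi, LinearEquiv.symm_apply_apply, hka, hN]
    · obtain ⟨y, rfl⟩ : ∃ y, G (u y) = x := ⟨u⁻¹ (G⁻¹ x), by rw [ap_inv, ap_inv]⟩
      have hy : T.C z y = 0 := by
        rw [D.C_pureA (g := N * g * N⁻¹) hGa] at hx
        have h4 := hCzero' _ ((LinearEquiv.map_eq_zero_iff _).1 hx)
        rwa [inv_ap] at h4
      refine D.perp_induction hze (p := fun y => ∃ a, (u * k * u⁻¹ * G⁻¹) (G (u y)) = G (u y) + T.tau a z)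
        ⟨0, by simp⟩ ?_ (fun a d hd => ?_) hy
      · rintro y y' ⟨a, ha⟩ ⟨a', ha'⟩
        exact ⟨a + a', by simp only [map_add, LinearMap.add_apply, ha, ha']; abel⟩
      · refine ⟨Y d (g a) - N (g (N.symm (Y d a))), ?_⟩
        show u (k (u⁻¹ (G⁻¹ (G (u (T.tau a d)))))) = _
        rw [inv_ap, inv_ap, hka, hY _ d hd, hY _ d hd, map_add, hGa, hGa, map_sub, LinearMap.sub_apply,
          LinearEquiv.symm_apply_apply]
        abel
  -- the first step: pure on the orthogonal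
  have hperp : ∀ b, T.fB b z = 0 → ∃ b', ∀ a, u (T.tau a b) = T.tau (N a) b' := by
    intro b hb
    obtain ⟨η, hη⟩ := D.symA.scalar_of_comm D.dimA D.big (X := N.symm.toLinearMap ∘ₗ Y b) fun g hg => by
      obtain ⟨k, hk, G, hG, hka, hGa, r, hr, hq⟩ := hgen g hg
      refine ⟨T.fB (f b) r, fun a => ?_⟩
      have hfz : T.fB (f b) z = 0 := by
        show T.fB (T.C' x₀ (u (T.tau a₀ b))) z = 0
        rw [D.fB_C', hCzero _ (by rw [D.C_tau, hb, zero_smul]), map_zero, LinearMap.zero_apply]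
      have h : (u * k * u⁻¹ * G⁻¹) (G (u (T.tau a b))) = u (k (T.tau a b)) := by
        show u (k (u⁻¹ (G⁻¹ (G (u _))))) = _
        rw [inv_ap, inv_ap]
      rw [hka, hY _ b hb, hY _ b hb, map_add G, hGa, hGa, map_add, hq, hq, eich_apply, eich_apply, hfz,
        LinearEquiv.symm_apply_apply, hz, D.symB.symm r z, hr] at h
      simp only [zero_smul, add_zero, mul_zero, map_sub, map_smul, sub_zero, LinearMap.sub_apply,
        LinearMap.smul_apply] at h
      have h' : T.tau (N (g (N.symm (Y b a))) - Y b (g a)) z = T.tau (T.fB (f b) r • N (g a)) z := by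
        simp only [map_sub, map_smul, LinearMap.sub_apply, LinearMap.smul_apply]
        linear_combination (norm := module) h
      have h1 := congrArg N.symm (D.tau_left_inj hz0 h')
      rw [map_sub, map_smul, LinearEquiv.symm_apply_apply, LinearEquiv.symm_apply_apply] at h1
      exact h1
    refine ⟨f b + η • z, fun a => ?_⟩
    have h1 : Y b a = η • N a := by
      have := congrArg N (hη a)
      simpa using this
    rw [hY a b hb, h1]
    simp
  -- the second step
  have hcomm : ∀ g ∈ eichGen T.fA, ∀ a b, ∀ G : V ≃ₗ[F] V, (∀ a b, G (T.tau a b) = T.tau (N (g (N.symm a))) b) →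
      G (u (T.tau a b)) = u (T.tau (g a) b) := by
    intro g hg a b G' hG'
    obtain ⟨k, hk, G, hG, hka, hGa, r, hr, hq⟩ := hgen g hg
    have hGG : G' = G := LinearEquiv.ext fun x => LinearMap.congr_fun
      (D.ext_tau (f := (G' : V →ₗ[F] V)) (g := (G : V →ₗ[F] V)) fun a b => (hG' a b).trans (hGa a b).symm) x
    subst hGG
    have hfix : ∀ x, T.C z x = 0 → (u * k * u⁻¹ * G'⁻¹) x = x := by
      intro x hx
      obtain ⟨y, rfl⟩ : ∃ y, G' (u y) = x := ⟨u⁻¹ (G'⁻¹ x), by rw [ap_inv, ap_inv]⟩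
      have hy : T.C z y = 0 := by
        rw [D.C_pureA (g := N * g * N⁻¹) hGa] at hx
        have h4 := hCzero' _ ((LinearEquiv.map_eq_zero_iff _).1 hx)
        rwa [inv_ap] at h4
      refine D.perp_induction hze (p := fun y => (u * k * u⁻¹ * G'⁻¹) (G' (u y)) = G' (u y))
        (by simp) (fun y y' h h' => by simp only [map_add, h, h']) (fun a d hd => ?_) hy
      show u (k (u⁻¹ (G'⁻¹ (G' (u (T.tau a d)))))) = _
      obtain ⟨d', hd'⟩ := hperp d hd
      rw [inv_ap, inv_ap, hka, hd', hd', hGa, LinearEquiv.symm_apply_apply]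
    have h := D.qLine hno hz0 hz (mul_mem (mul_mem (mul_mem hu hk) (inv_mem hu)) (inv_mem hG)) hfix
      (G' (u (T.tau a b)))
    change u (k (u⁻¹ (G'⁻¹ (G' (u _))))) = _ at h
    rw [inv_ap, inv_ap, hka] at h
    exact h.symm
  refine ⟨N.toLinearMap, f, fun a b => sub_eq_zero.1 (D.eq_zero_of_C fun w => ?_)⟩
  obtain ⟨χ, hχ⟩ := D.symA.scalar_of_comm D.dimA D.big
    (X := N.symm.toLinearMap ∘ₗ T.C w ∘ₗ (u : V →ₗ[F] V) ∘ₗ T.tau.flip b) fun g hg => by
      obtain ⟨G, hG, hGa⟩ := D.genA _ (D.symA.eichGen_conj hμ hNμ hg)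
      refine ⟨0, fun a => ?_⟩
      have h := congrArg (fun y => N.symm (T.C w y)) (hcomm g hg a b G hGa)
      simp only [D.C_pureA (g := N * g * N⁻¹) hGa] at h
      rw [zero_smul, sub_eq_zero]
      simpa using h
  have hval : ∀ a, T.C w (u (T.tau a b)) = χ • N a := fun a => by
    have := congrArg N (hχ a)
    simpa using this
  have h1 : T.fB (f b) w = χ := by
    show T.fB (T.C' x₀ (u (T.tau a₀ b))) w = χ
    rw [D.fB_C', hval, map_smul, LinearMap.smul_apply, smul_eq_mul, hx₀, mul_one]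
  rw [map_sub, D.C_tau, hval, h1]
  simp

/-- an element mapping a singular pencil into a pencil is pure -/
theorem kron_of_maps (D : OData T H) (hno : NoFrame T H) {h : V ≃ₗ[F] V} (hh : h ∈ H) {y y' : B}
    (hy0 : y ≠ 0) (hy : T.fB y y = 0) (hmap : ∀ a, h (T.tau a y) ∈ pen T y') : IsKron T h := by
  haveI := D.nontrivA
  choose g hg using hmap
  obtain ⟨a₀, ha₀⟩ := exists_ne (0 : A)
  have hne : ∀ a, a ≠ 0 → T.tau (g a) y' ≠ 0 := fun a ha h0 => by
    have h1 : h (T.tau a y) = 0 := by rw [← hg a]; exact h0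
    rw [LinearEquiv.map_eq_zero_iff] at h1
    exact ha (D.tau_left_inj hy0 (h1.trans (by simp : (0 : V) = T.tau (0 : A) y)))
  have hy'0 : y' ≠ 0 := fun e => hne a₀ ha₀ (by rw [e, map_zero])
  have hinj : Function.Injective g := fun a a' e => D.tau_left_inj hy0 (h.injective (by
    rw [← hg a, ← hg a', e]))
  haveI : Finite A := Module.finite_of_finite F
  have hsurj := (Finite.injective_iff_surjective (f := g)).1 hinj
  have hy' : T.fB y' y' = 0 := by
    by_contra hne'
    have hz : ∀ c, T.fA (g a₀) (g c) = 0 := fun c => by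
      have h1 := D.isom h hh (T.tau a₀ y) (T.tau c y)
      rw [← hg a₀, ← hg c, LinearMap.flip_apply, LinearMap.flip_apply, D.form_tau, D.form_tau, hy,
        mul_zero] at h1
      exact (mul_eq_zero.1 h1).resolve_right hne'
    refine hne a₀ ha₀ ?_
    rw [D.symA.nondeg (g a₀) fun c => by obtain ⟨c', rfl⟩ := hsurj c; exact hz c', map_zero,
      LinearMap.zero_apply]
  obtain ⟨m, hm, c, hc, hmy⟩ := D.symB.exists_move (by have := D.dimB; omega) hy'0 hy' hy0 hy
  obtain ⟨k, hk, hkab⟩ := D.pureB hm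
  have hkK : IsKron T k := ⟨LinearMap.id, m.toLinearMap, hkab⟩
  have hkh : IsKron T (k * h : V ≃ₗ[F] V) := D.kron_of_line hno hy0 hy (mul_mem hk hh) fun a => ⟨c • g a, by
    show T.tau (c • g a) y = k (h (T.tau a y))
    rw [← hg a, LinearMap.flip_apply, hkab, hmy]
    simp⟩
  have := D.kron_mul (D.kron_inv hkK) hkh
  rwa [inv_mul_cancel_left] at this

/-- one component of an element trivial on two pencils and on their orthogonal modulo them -/
theorem rPlane_aux (D : OData T H) (hno : NoFrame T H) {z w z' w' : B} (hz0 : z ≠ 0)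
    (hw : w ∉ Submodule.span F ({z} : Set B)) (hz : T.fB z z = 0) (hww : T.fB w w = 0)
    (hzw : T.fB z w = 0) (h1 : T.fB z z' = 1) (h2 : T.fB w z' = 0) (h3 : T.fB z w' = 0)
    (h4 : T.fB w w' = 1) {s : V ≃ₗ[F] V} (hs : s ∈ H) (hsz : ∀ a, s (T.tau a z) = T.tau a z)
    (hsw : ∀ a, s (T.tau a w) = T.tau a w)
    (hsQ : ∀ x, T.C z x = 0 → T.C w x = 0 → ∃ a a', s x = x + T.tau a z + T.tau a' w) {b : B}
    (hbz : T.fB b z = 0) (hbw : T.fB b w = 0) :
    ∃ γ : F, ∀ a, T.C w' (s (T.tau a b) - T.tau a b) = γ • a := by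
  have hzb : T.fB z b = 0 := by rw [D.symB.symm, hbz]
  have hwb : T.fB w b = 0 := by rw [D.symB.symm, hbw]
  have hwz : T.fB w z = 0 := by rw [D.symB.symm, hzw]
  obtain ⟨k, hk, hkab, hkx⟩ := D.eichB hz hbz
  have hsC : ∀ x v, (∀ a, s (T.tau a v) = T.tau a v) → T.C v (s x) = T.C v x := fun x v hv =>
    D.C_eq_of_form fun a => by conv_lhs => rw [← hv, D.isom s hs]
  have hkperp : ∀ x, T.C z x = 0 → k x = x - T.tau (T.C b x) z := fun x hx => by
    rw [hkx, hx]; simp
  have hfix : ∀ x, T.C z x = 0 → T.C w x = 0 → (s * k * s⁻¹ * k⁻¹) x = x := by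
    intro x hxz hxw
    have hki : k⁻¹ x = x + T.tau (T.C b x) z := k.injective (by
      rw [ap_inv, map_add, hkperp x hxz, hkperp (T.tau (T.C b x) z) (by rw [D.C_tau, hz, zero_smul])]
      simp [D.C_tau, hzb])
    obtain ⟨y, hy⟩ : ∃ y, s y = k⁻¹ x := ⟨s⁻¹ (k⁻¹ x), ap_inv s _⟩
    have hyz : T.C z y = 0 := by
      rw [← hsC y z hsz, hy, hki, map_add, hxz, D.C_tau, hz, zero_smul, add_zero]
    have hyw : T.C w y = 0 := by
      rw [← hsC y w hsw, hy, hki, map_add, hxw, D.C_tau, hzw, zero_smul, add_zero]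
    obtain ⟨c, c', hc⟩ := hsQ y hyz hyw
    show s (k (s⁻¹ (k⁻¹ x))) = x
    rw [← hy, inv_ap, hkperp y hyz, map_sub, hsz, hy, hki]
    have e1 : T.C b y = T.C b x := by
      have := congrArg (T.C b) (hy.trans hki)
      rw [hc] at this
      simpa [D.C_tau, hzb, hwb] using this
    rw [e1, add_sub_cancel_right]
  obtain ⟨γ, hγ⟩ := D.qPlane hno hz0 hw hz hww hzw
    (mul_mem (mul_mem (mul_mem hs hk) (inv_mem hs)) (inv_mem hk)) hfix
  refine ⟨γ, fun a => ?_⟩
  have hkC : ∀ x v, (∀ c, k (T.tau c v) = T.tau c v) → T.C v (k x) = T.C v x := fun x v hv =>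
    D.C_eq_of_form fun c => by conv_lhs => rw [← hv, D.isom k hk]
  have hkz : ∀ c, k (T.tau c z) = T.tau c z := fun c => by
    rw [hkperp _ (by rw [D.C_tau, hz, zero_smul]), D.C_tau, hzb]; simp
  have hkw : ∀ c, k (T.tau c w) = T.tau c w := fun c => by
    rw [hkperp _ (by rw [D.C_tau, hwz, zero_smul]), D.C_tau, hwb]; simp
  have h := hγ (k (s (T.tau a z')))
  change s (k (s⁻¹ (k⁻¹ (k (s _))))) = _ at h
  rw [inv_ap, inv_ap, hkC _ z hkz, hsC _ z hsz, hkC _ w hkw, hsC _ w hsw, D.C_tau, D.C_tau,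
    D.symB.symm z z', h1, D.symB.symm w z', h2, zero_smul, map_zero, LinearMap.zero_apply, sub_zero,
    one_smul, hkx (T.tau a z'), hkx (s (T.tau a z')), hsC _ z hsz, D.C_tau z a z', D.symB.symm z z', h1,
    one_smul, map_sub, map_add, hsz] at h
  have h' : s (T.tau a b) - T.tau a b = T.tau ((T.C b (T.tau a z') + (T.fB b b / 2) • a) -
      (T.C b (s (T.tau a z')) + (T.fB b b / 2) • a)) z + γ • T.tau a w := by
    rw [map_sub, LinearMap.sub_apply]
    linear_combination (norm := module) h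
  simp only [h', map_add, map_smul, D.C_tau, h3, h4]
  simp

/-- an element mapping the pencils over a totally singular plane to those over another is pure -/
theorem kron_of_plane (D : OData T H) (hno : NoFrame T H) {u : V ≃ₗ[F] V} (hu : u ∈ H) {z w p q : B}
    (hz0 : z ≠ 0) (hw : w ∉ Submodule.span F ({z} : Set B)) (hz : T.fB z z = 0) (hww : T.fB w w = 0)
    (hzw : T.fB z w = 0) (hp0 : p ≠ 0) (hq : q ∉ Submodule.span F ({p} : Set B)) (hp : T.fB p p = 0)
    (hqq : T.fB q q = 0) (hpq : T.fB p q = 0)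
    (hmap : ∀ a, u (T.tau a z) ∈ pen T p ⊔ pen T q ∧ u (T.tau a w) ∈ pen T p ⊔ pen T q) :
    IsKron T u := by
  classical
  haveI := D.nontrivA
  haveI : Finite V := Module.finite_of_finite F
  -- the inverse maps back
  have hUeq : (pen T z ⊔ pen T w).map (u : V →ₗ[F] V) = pen T p ⊔ pen T q := by
    have hrank : ∀ z w : B, z ≠ 0 → w ∉ Submodule.span F ({z} : Set B) →
        finrank F (pen T z ⊔ pen T w : Submodule F V) = finrank F A + finrank F A := by
      intro z w hz0 hw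
      obtain ⟨z', w', h1, h2, h3, h4⟩ := D.exists_dual hz0 hw
      let J : A × A →ₗ[F] V := (T.tau.flip z).coprod (T.tau.flip w)
      have hJ : Function.Injective J := (injective_iff_map_eq_zero J).2 fun c hc => by
        have e1 := congrArg (T.C z') hc
        have e2 := congrArg (T.C w') hc
        simp [J, D.C_tau, h1, h2, h3, h4] at e1 e2
        exact Prod.ext e1 e2
      rw [← Module.finrank_prod (R := F) (M := A) (M' := A), ← LinearMap.finrank_range_of_inj hJ,
        LinearMap.range_coprod]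
      rfl
    refine Submodule.eq_of_le_of_finrank_le ?_ ?_
    · rw [Submodule.map_sup, sup_le_iff]
      constructor <;> rintro _ ⟨_, ⟨a, rfl⟩, rfl⟩
      exacts [(hmap a).1, (hmap a).2]
    · rw [LinearEquiv.finrank_map_eq u, hrank p q hp0 hq, hrank z w hz0 hw]
  obtain ⟨y, hyz, hyw, hyy⟩ := D.exists_aniso_perp2 hz0 hw hz hzw
  have hwz : T.fB w z = 0 := by rw [D.symB.symm, hzw]
  obtain ⟨k, hk, hkab, hkx⟩ := D.eichB hz hyz
  have hkfix : ∀ x ∈ pen T z ⊔ pen T w, k x = x := by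
    intro x hx
    obtain ⟨_, ⟨a, rfl⟩, _, ⟨a', rfl⟩, rfl⟩ := Submodule.mem_sup.1 hx
    simp only [map_add, LinearMap.flip_apply, hkab, eich_apply, hz, hwz, D.symB.symm y z, hyz,
      D.symB.symm y w, hyw]
    simp
  set s := u * k * u⁻¹ with hsdef
  have hs : s ∈ H := mul_mem (mul_mem hu hk) (inv_mem hu)
  have hsfix : ∀ x ∈ pen T p ⊔ pen T q, s x = x := by
    intro x hx
    rw [← hUeq] at hx
    obtain ⟨x', hx', rfl⟩ := hx
    show u (k (u⁻¹ (u x'))) = u x'
    rw [inv_ap, hkfix x' hx']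
  have hback : ∀ x, T.C p x = 0 → T.C q x = 0 → T.C z (u⁻¹ x) = 0 ∧ T.C w (u⁻¹ x) = 0 := by
    intro x hxp hxq
    have key : ∀ v, (∀ a, u (T.tau a v) ∈ pen T p ⊔ pen T q) → T.C v (u⁻¹ x) = 0 := fun v hv =>
      D.C_eq_zero fun a => by
        rw [← D.isom u hu, ap_inv]
        obtain ⟨_, ⟨c, rfl⟩, _, ⟨c', rfl⟩, hcc⟩ := Submodule.mem_sup.1 (hv a)
        rw [← hcc, map_add, LinearMap.flip_apply, LinearMap.flip_apply, D.form_C, D.form_C, hxp, hxq]
        simp
    exact ⟨key z fun a => (hmap a).1, key w fun a => (hmap a).2⟩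
  have hsmv : ∀ x, T.C p x = 0 → T.C q x = 0 → s x = x - u (T.tau (T.C y (u⁻¹ x)) z) := fun x hxp hxq => by
    show u (k (u⁻¹ x)) = _
    rw [hkx, (hback x hxp hxq).1]
    simp [ap_inv]
  obtain ⟨p', q', h1, h2, h3, h4⟩ := D.exists_dual hp0 hq
  have hp' : p ∉ Submodule.span F ({q} : Set B) := fun hh => by
    obtain ⟨c, hc⟩ := Submodule.mem_span_singleton.1 hh
    have hc0 : c ≠ 0 := fun e => hp0 (by rw [← hc, e, zero_smul])
    exact hq (Submodule.mem_span_singleton.2 ⟨c⁻¹, by rw [← hc, inv_smul_smul₀ hc0]⟩)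
  have hq0 : q ≠ 0 := fun e => hq (e ▸ Submodule.zero_mem _)
  have hsQ : ∀ x, T.C p x = 0 → T.C q x = 0 → ∃ a a', s x = x + T.tau a p + T.tau a' q := by
    intro x hxp hxq
    obtain ⟨_, ⟨c, rfl⟩, _, ⟨c', rfl⟩, hcc⟩ := Submodule.mem_sup.1 (hmap (T.C y (u⁻¹ x))).1
    refine ⟨-c, -c', ?_⟩
    rw [hsmv x hxp hxq, ← hcc]
    simp; abel
  have hfull : ∀ b, T.fB b p = 0 → T.fB b q = 0 →
      ∃ α β : F, ∀ a, s (T.tau a b) = T.tau a (b + α • p + β • q) := by
    intro b hbp hbq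
    obtain ⟨β, hβ⟩ := D.rPlane_aux hno hp0 hq hp hqq hpq h1 h2 h3 h4 hs
      (fun a => hsfix _ (Submodule.mem_sup_left ⟨a, rfl⟩)) (fun a => hsfix _ (Submodule.mem_sup_right ⟨a, rfl⟩))
      hsQ hbp hbq
    obtain ⟨α, hα⟩ := D.rPlane_aux hno hq0 hp' hqq hp (D.symB.symm p q ▸ hpq) h4 h3 h2 h1 hs
      (fun a => hsfix _ (Submodule.mem_sup_right ⟨a, rfl⟩)) (fun a => hsfix _ (Submodule.mem_sup_left ⟨a, rfl⟩))
      (fun x hxq hxp => by
        obtain ⟨a, a', h⟩ := hsQ x hxp hxq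
        exact ⟨a', a, by rw [h]; abel⟩)
      hbq hbp
    refine ⟨α, β, fun a => ?_⟩
    have h := D.mem_pen2 h1 h2 h3 h4 (x := s (T.tau a b) - T.tau a b) fun v hvp hvq => by
      obtain ⟨c, c', h⟩ := hsQ (T.tau a b) (by rw [D.C_tau, hbp, zero_smul]) (by rw [D.C_tau, hbq, zero_smul])
      rw [h]
      simp [D.C_tau, D.symB.symm v p, hvp, D.symB.symm v q, hvq]
    rw [hα, hβ, sub_eq_iff_eq_add'] at h
    rw [h]
    simp only [map_add, map_smul, LinearMap.smul_apply]
    abel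
  obtain ⟨b, hbp, hbq, α, β, hb, hne⟩ : ∃ b, T.fB b p = 0 ∧ T.fB b q = 0 ∧ ∃ α β : F,
      (∀ a, s (T.tau a b) = T.tau a (b + α • p + β • q)) ∧ α • p + β • q ≠ 0 := by
    by_contra hno'
    simp only [not_exists, not_and, not_not] at hno'
    obtain ⟨a₀, ha₀⟩ := exists_ne (0 : A)
    set x := u (T.tau a₀ y) with hx
    have hxv : ∀ v, (∀ a, T.tau a v ∈ pen T p ⊔ pen T q) → T.C v x = 0 := fun v hv =>
      D.C_eq_zero fun a => by
        have hm := hv a
        rw [← hUeq] at hm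
        obtain ⟨x', hx', he⟩ := hm
        rw [← he]
        show T.form (u (T.tau a₀ y)) (u x') = 0
        obtain ⟨_, ⟨c, rfl⟩, _, ⟨c', rfl⟩, rfl⟩ := Submodule.mem_sup.1 hx'
        rw [D.isom u hu]
        simp [D.form_tau, hyz, hyw]
    have hfixall : s x = x := D.perp2_induction h1 h2 h3 h4 (p := fun x => s x = x) (map_zero s)
      (fun x x' h h' => by rw [map_add, h, h']) (fun a d hdp hdq => by
        obtain ⟨α, β, hd⟩ := hfull d hdp hdq
        rw [hd, add_assoc, hno' d hdp hdq α β hd, add_zero])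
      (hxv p fun a => Submodule.mem_sup_left ⟨a, rfl⟩) (hxv q fun a => Submodule.mem_sup_right ⟨a, rfl⟩)
    rw [hsmv x (hxv p fun a => Submodule.mem_sup_left ⟨a, rfl⟩)
      (hxv q fun a => Submodule.mem_sup_right ⟨a, rfl⟩), sub_eq_self, LinearEquiv.map_eq_zero_iff, hx,
      inv_ap, D.C_tau, map_smul, LinearMap.smul_apply, smul_eq_zero] at hfixall
    exact ha₀ (D.tau_left_inj hz0 ((hfixall.resolve_left hyy).trans (by simp : (0 : V) = T.tau (0 : A) z)))
  set d := α • p + β • q with hd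
  let Φ : A →ₗ[F] A := -(T.C y ∘ₗ ((u⁻¹ : V ≃ₗ[F] V) : V →ₗ[F] V) ∘ₗ T.tau.flip b)
  have hΦ : ∀ a, u (T.tau (Φ a) z) = T.tau a d := fun a => by
    have h := hb a
    rw [hsmv _ (by rw [D.C_tau, hbp, zero_smul]) (by rw [D.C_tau, hbq, zero_smul]), add_assoc, ← hd,
      map_add, sub_eq_add_neg, add_right_inj] at h
    rw [← h, ← map_neg, ← LinearMap.neg_apply, ← map_neg]
    rfl
  have hΦinj : Function.Injective Φ := fun a a' e => D.tau_left_inj hne (by rw [← hΦ, ← hΦ, e])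
  refine D.kron_of_maps hno hu hz0 hz (y' := d) fun a => ?_
  obtain ⟨c, rfl⟩ := LinearMap.injective_iff_surjective.1 hΦinj a
  exact ⟨c, by rw [hΦ]; rfl⟩

end OData

end CfsgLib.MaxSub.TForm
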