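import Cfsg.Agent.Lib.MaxSub.TFormRoot

/-!
The group generated by two root elements `1 + a` and `1 + b`: elements are `r₀ + r₁ a + r₂ b + r₃ ab` over
polynomials in `C = ab + ba`, and the inverse is the conjugate, so `g + g⁻¹` is central.
-/

set_option autoImplicit false
set_option linter.unusedSectionVars false

namespace CfsgLib.MaxSub.TForm

open Module

variable {F V : Type*} [Field F] [AddCommGroup V] [Module F V]

/-- two square-zero endomorphisms with commuting coefficients -/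
structure SqPair (a b : Module.End F V) : Prop where
  ha : a * a = 0
  hb : b * b = 0

namespace SqPair

variable {a b : Module.End F V}

/-- an element of the centralizer of `a` and `b` -/
def Cen (a b r : Module.End F V) : Prop := r * a = a * r ∧ r * b = b * r

theorem cen_C (P : SqPair a b) : Cen a b (a * b + b * a) := by
  constructor
  · rw [add_mul, mul_add, mul_assoc b, P.ha, mul_zero, add_zero, ← mul_assoc a a, P.ha, zero_mul,
      zero_add, mul_assoc]
  · rw [add_mul, mul_add, mul_assoc a, P.hb, mul_zero, zero_add, ← mul_assoc b b, P.hb, zero_mul,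
      add_zero, mul_assoc]

theorem aba (P : SqPair a b) : a * (b * a) = (a * b + b * a) * a := by
  rw [add_mul, mul_assoc b, P.ha, mul_zero, add_zero, mul_assoc]

theorem bab (P : SqPair a b) : b * (a * b) = (a * b + b * a) * b := by
  rw [add_mul, mul_assoc a, P.hb, mul_zero, zero_add, mul_assoc]

/-- `g` has coefficients, and `g'` the conjugate ones -/
def Conj (a b g g' : Module.End F V) : Prop :=
  ∃ r₀ r₁ r₂ r₃, Cen a b r₀ ∧ Cen a b r₁ ∧ Cen a b r₂ ∧ Cen a b r₃ ∧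
    g = r₀ + r₁ * a + r₂ * b + r₃ * (a * b) ∧ g' = r₀ - r₁ * a - r₂ * b + r₃ * (b * a)

theorem cen_mul {r s : Module.End F V} (hr : Cen a b r) (hs : Cen a b s) : Cen a b (r * s) :=
  ⟨by rw [mul_assoc, hs.1, ← mul_assoc, hr.1, mul_assoc],
   by rw [mul_assoc, hs.2, ← mul_assoc, hr.2, mul_assoc]⟩

theorem cen_add {r s : Module.End F V} (hr : Cen a b r) (hs : Cen a b s) : Cen a b (r + s) :=
  ⟨by rw [add_mul, mul_add, hr.1, hs.1], by rw [add_mul, mul_add, hr.2, hs.2]⟩

theorem cen_sub {r s : Module.End F V} (hr : Cen a b r) (hs : Cen a b s) : Cen a b (r - s) :=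
  ⟨by rw [sub_mul, mul_sub, hr.1, hs.1], by rw [sub_mul, mul_sub, hr.2, hs.2]⟩

theorem conj_self {g g' : Module.End F V} (P : SqPair a b) (h : Conj a b g g') :
    Cen a b (g + g') := by
  obtain ⟨r₀, r₁, r₂, r₃, h₀, h₁, h₂, h₃, rfl, rfl⟩ := h
  have hC := P.cen_C
  have e : r₀ + r₁ * a + r₂ * b + r₃ * (a * b) + (r₀ - r₁ * a - r₂ * b + r₃ * (b * a)) =
      r₀ + r₀ + r₃ * (a * b + b * a) := by
    rw [mul_add]; abel
  rw [e]
  exact cen_add (cen_add h₀ h₀) (cen_mul h₃ P.cen_C)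

theorem cen_one : Cen a b 1 := ⟨by rw [one_mul, mul_one], by rw [one_mul, mul_one]⟩
theorem cen_zero : Cen a b 0 := ⟨by rw [zero_mul, mul_zero], by rw [zero_mul, mul_zero]⟩

theorem conj_left_a {g g' : Module.End F V} (P : SqPair a b) (h : Conj a b g g') :
    Conj a b ((1 + a) * g) (g' * (1 - a)) := by
  obtain ⟨r₀, r₁, r₂, r₃, h₀, h₁, h₂, h₃, rfl, rfl⟩ := h
  refine ⟨r₀, r₁ + r₀, r₂, r₃ + r₂, h₀, cen_add h₁ h₀, h₂, cen_add h₃ h₂, ?_, ?_⟩
  · have e1 : a * (r₁ * a) = 0 := by rw [← mul_assoc, ← h₁.1, mul_assoc, P.ha, mul_zero]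
    have e2 : a * (r₃ * (a * b)) = 0 := by
      rw [← mul_assoc, ← h₃.1, mul_assoc, ← mul_assoc a a, P.ha, zero_mul, mul_zero]
    have e3 : a * (r₂ * b) = r₂ * (a * b) := by rw [← mul_assoc, ← h₂.1, mul_assoc]
    rw [add_mul, one_mul, mul_add, mul_add, mul_add, e1, e2, e3, ← h₀.1]
    simp only [add_mul]
    abel
  · have e1 : r₁ * a * a = 0 := by rw [mul_assoc, P.ha, mul_zero]
    have e2 : r₃ * (b * a) * a = 0 := by rw [mul_assoc, mul_assoc b, P.ha, mul_zero, mul_zero]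
    rw [mul_sub, mul_one, add_mul _ _ a, sub_mul _ _ a, sub_mul _ _ a, e1, e2, mul_assoc r₂ b a]
    simp only [add_mul, sub_mul]
    abel

theorem conj_left_b {g g' : Module.End F V} (P : SqPair a b) (h : Conj a b g g') :
    Conj a b ((1 + b) * g) (g' * (1 - b)) := by
  obtain ⟨r₀, r₁, r₂, r₃, h₀, h₁, h₂, h₃, rfl, rfl⟩ := h
  set C := a * b + b * a with hCdef
  refine ⟨r₀ + r₁ * C, r₁, r₀ + r₂ + r₃ * C, r₃ - r₁, cen_add h₀ (cen_mul h₁ P.cen_C), h₁,
    cen_add (cen_add h₀ h₂) (cen_mul h₃ P.cen_C), cen_sub h₃ h₁, ?_, ?_⟩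
  · have e1 : b * (r₂ * b) = 0 := by rw [← mul_assoc, ← h₂.2, mul_assoc, P.hb, mul_zero]
    have e2 : b * (r₁ * a) = r₁ * C - r₁ * (a * b) := by
      rw [← mul_assoc, ← h₁.2, mul_assoc, hCdef, mul_add, add_sub_cancel_left]
    have e3 : b * (r₃ * (a * b)) = r₃ * C * b := by
      rw [← mul_assoc, ← h₃.2, mul_assoc, P.bab, ← hCdef, mul_assoc]
    rw [add_mul, one_mul, mul_add, mul_add, mul_add, e1, e2, e3, ← h₀.2]
    simp only [add_mul, sub_mul]
    abel
  · have e1 : r₂ * b * b = 0 := by rw [mul_assoc, P.hb, mul_zero]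
    have e2 : r₁ * a * b = r₁ * C - r₁ * (b * a) := by
      rw [mul_assoc, hCdef, mul_add, add_sub_cancel_right]
    have e3 : r₃ * (b * a) * b = r₃ * C * b := by
      rw [mul_assoc, mul_assoc b, P.bab, ← hCdef, mul_assoc]
    rw [mul_sub, mul_one, add_mul _ _ b, sub_mul _ _ b, sub_mul _ _ b, e1, e2, e3]
    simp only [add_mul, sub_mul]
    abel

theorem conj_one : Conj a b (1 : Module.End F V) 1 :=
  ⟨1, 0, 0, 0, cen_one, cen_zero, cen_zero, cen_zero, by simp, by simp⟩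

/-- in the group generated by `1 + a` and `1 + b`, `g + g⁻¹` commutes with `a` and `b` -/
theorem cen_add_inv [Finite V] (P : SqPair a b) {t u : V ≃ₗ[F] V} (ht : ∀ x, t x = x + a x)
    (hu : ∀ x, u x = x + b x) {g : V ≃ₗ[F] V} (hg : g ∈ Subgroup.closure ({t, u} : Set (V ≃ₗ[F] V))) :
    Cen a b ((g : V →ₗ[F] V) + ((g⁻¹ : V ≃ₗ[F] V) : V →ₗ[F] V) : Module.End F V) := by
  have : Finite (V ≃ₗ[F] V) := Finite.of_injective _ DFunLike.coe_injective
  rw [← Subgroup.mem_toSubmonoid, Subgroup.closure_toSubmonoid_of_finite] at hg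
  refine P.conj_self ?_
  have inv : ∀ (s : V ≃ₗ[F] V) (c : Module.End F V), c * c = 0 → (∀ x, s x = x + c x) →
      ((s : V →ₗ[F] V) : Module.End F V) = 1 + c ∧
        (((s⁻¹ : V ≃ₗ[F] V) : V →ₗ[F] V) : Module.End F V) = 1 - c := by
    intro s c hc hs
    refine ⟨LinearMap.ext hs, LinearMap.ext fun x => s.injective ?_⟩
    show s (s⁻¹ x) = s (x - c x)
    rw [LinearEquiv.coe_inv, LinearEquiv.apply_symm_apply, hs, map_sub c, show c (c x) = 0 from LinearMap.congr_fun hc x]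
    abel
  induction hg using Submonoid.closure_induction_left with
  | one => exact conj_one
  | mul_left x hx y _ ih =>
      have e1 : (((x * y : V ≃ₗ[F] V)) : V →ₗ[F] V) = ((x : V →ₗ[F] V) : Module.End F V) * (y : V →ₗ[F] V) :=
        rfl
      have e2 : (((x * y)⁻¹ : V ≃ₗ[F] V) : V →ₗ[F] V) =
          (((y⁻¹ : V ≃ₗ[F] V) : V →ₗ[F] V) : Module.End F V) * ((x⁻¹ : V ≃ₗ[F] V) : V →ₗ[F] V) := by
        rw [mul_inv_rev]; rfl
      rw [e1, e2]
      rcases hx with rfl | rfl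
      · rw [(inv x a P.ha ht).1, (inv x a P.ha ht).2]
        exact P.conj_left_a ih
      · rw [(inv x b P.hb hu).1, (inv x b P.hb hu).2]
        exact P.conj_left_b ih

end SqPair

end CfsgLib.MaxSub.TForm
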