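import Cfsg.Agent.Lib.MaxSub.TFormStab

/-!
Root elements: conjugates of `1 ⊗ (transvection at a singular vector)`. A root element which is pure, or
orthogonal to a pencil, or central in a suitable sense, comes from a pure element.
-/

set_option autoImplicit false
set_option linter.unusedSectionVars false
set_option linter.unusedSimpArgs false
set_option linter.unusedVariables false
set_option linter.style.haveILetI false

namespace CfsgLib.MaxSub.TForm

open Module

variable {F A B V : Type*} [Field F] [AddCommGroup A] [Module F A] [AddCommGroup B] [Module F B]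
  [AddCommGroup V] [Module F V] {σ : F →+* F}

/-- the first factor of a pure root element is scalar -/
def ScalRoot (T : Sys F A B V σ) (H : Subgroup (V ≃ₗ[F] V)) : Prop :=
  ∀ (y : B) (h t : V ≃ₗ[F] V) (M : A →ₗ[F] A) (f : B →ₗ[F] B), T.fB y y = 0 → y ≠ 0 → h ∈ H →
    (∀ x, t x = x + T.tau (T.C y x) y) → (∀ a b, (h * t * h⁻¹) (T.tau a b) = T.tau (M a) (f b)) →
    ∀ a, M a ∈ Submodule.span F ({a} : Set A)

/-- What is needed to show that all of `H` is pure. -/
structure RootHyp (T : Sys F A B V σ) (ε : F) (H : Subgroup (V ≃ₗ[F] V)) (Gen : Set (A ≃ₗ[F] A)) : Prop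
    extends StabHyp T ε H Gen where
  nontriv : Nontrivial A
  lt : finrank F A < finrank F B ∨ ((2 : F) ≠ 0 ∧ ScalRoot T H)
  trans : ∀ y y', T.fB y y = 0 → y ≠ 0 → T.fB y' y' = 0 → y' ≠ 0 →
    ∃ k ∈ H, ∃ f : B ≃ₗ[F] B, (∀ a b, k (T.tau a b) = T.tau a (f b)) ∧ f y = y'
  perp2 : ∀ v v' : B, ∃ w, w ≠ 0 ∧ T.fB w w = 0 ∧ T.fB w v = 0 ∧ T.fB w v' = 0
  isoVec : ∃ z, z ≠ 0 ∧ T.fB z z = 0
  three : 3 ≤ finrank F B

/-- The same for the core hypotheses. -/
structure RootCore (T : Sys F A B V σ) (ε : F) (H : Subgroup (V ≃ₗ[F] V)) (Gen : Set (A ≃ₗ[F] A)) : Prop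
    extends StabCore T ε H Gen where
  nontriv : Nontrivial A
  lt : finrank F A < finrank F B ∨ ((2 : F) ≠ 0 ∧ ScalRoot T H)
  trans : ∀ y y', T.fB y y = 0 → y ≠ 0 → T.fB y' y' = 0 → y' ≠ 0 →
    ∃ k ∈ H, ∃ f : B ≃ₗ[F] B, (∀ a b, k (T.tau a b) = T.tau a (f b)) ∧ f y = y'
  isoVec : ∃ z, z ≠ 0 ∧ T.fB z z = 0
  three : 3 ≤ finrank F B

theorem RootHyp.core {T : Sys F A B V σ} {ε : F} {H : Subgroup (V ≃ₗ[F] V)} {Gen : Set (A ≃ₗ[F] A)}
    (R : RootHyp T ε H Gen) : RootCore T ε H Gen where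
  toStabCore := R.toStabHyp.core
  nontriv := R.nontriv
  lt := R.lt
  trans := R.trans
  isoVec := R.isoVec
  three := R.three

namespace RootCore

variable {T : Sys F A B V σ} {ε : F} {H : Subgroup (V ≃ₗ[F] V)} {Gen : Set (A ≃ₗ[F] A)}
variable [Finite F] [FiniteDimensional F A] [FiniteDimensional F B] [FiniteDimensional F V]

theorem inv_apply (g : V ≃ₗ[F] V) (x : V) : g (g⁻¹ x) = x := by
  rw [LinearEquiv.coe_inv, LinearEquiv.apply_symm_apply]

theorem inv_apply' (g : V ≃ₗ[F] V) (x : V) : g⁻¹ (g x) = x := by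
  rw [LinearEquiv.coe_inv, LinearEquiv.symm_apply_apply]

theorem kron_mul {g g' : V ≃ₗ[F] V} (h : IsKron T g) (h' : IsKron T g') : IsKron T (g * g' : V ≃ₗ[F] V) := by
  obtain ⟨M, f, hf⟩ := h
  obtain ⟨M', f', hf'⟩ := h'
  exact ⟨M ∘ₗ M', f ∘ₗ f', fun a b => by simp [LinearEquiv.mul_apply, hf, hf']⟩

/-- a member of `H` mapping a singular pencil into a pencil is pure -/
theorem kron_of_maps (R : RootCore T ε H Gen) {h : V ≃ₗ[F] V} (hh : h ∈ H) {y y' : B} (hy : T.fB y y = 0)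
    (hy0 : y ≠ 0) (hmap : ∀ a, h (T.tau a y) ∈ pen T y') : IsKron T h := by
  have hT := R.good
  haveI := R.nontriv
  obtain ⟨a₀, ha₀⟩ := exists_ne (0 : A)
  choose f hf using fun a => hmap a
  have hne : ∀ a, a ≠ 0 → T.tau (f a) y' ≠ 0 := fun a ha h0 => by
    have h1 : h (T.tau a y) = 0 := by rw [← hf a]; exact h0
    rw [LinearEquiv.map_eq_zero_iff, ← map_zero (T.tau.flip y)] at h1
    exact ha (hT.tau_left_inj hy0 h1)
  have hy'0 : y' ≠ 0 := fun e => hne a₀ ha₀ (by rw [e, map_zero])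
  have hy' : T.fB y' y' = 0 := by
    by_contra hne'
    have hz : ∀ c, T.fA (f a₀) (f c) = 0 := fun c => by
      have h1 := R.isom h hh (T.tau a₀ y) (T.tau c y)
      rw [← hf a₀, ← hf c] at h1
      change T.form (T.tau (f a₀) y') (T.tau (f c) y') = _ at h1
      rw [hT.form_tau, hT.form_tau, hy, mul_zero] at h1
      exact (mul_eq_zero.1 h1).resolve_right hne'
    have hinj : Function.Injective f := fun a a' e => hT.tau_left_inj hy0 (h.injective (by
      show h (T.tau a y) = h (T.tau a' y)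
      rw [← hf a, ← hf a', e]))
    haveI : Finite A := Module.finite_of_finite F
    have hsurj := (Finite.injective_iff_surjective (f := f)).1 hinj
    refine hne a₀ ha₀ ?_
    rw [hT.nondegA (f a₀) fun c => by obtain ⟨c', rfl⟩ := hsurj c; exact hz c', map_zero,
      LinearMap.zero_apply]
  obtain ⟨k, hk, e, hke, hey⟩ := R.trans y' y hy' hy'0 hy hy0
  have hkh : IsKron T (k * h : V ≃ₗ[F] V) := by
    refine R.toStabCore.isKron (mul_mem hk hh) hy hy0 (fun a => ⟨f a, ?_⟩) R.nontriv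
    show T.tau (f a) y = k (h (T.tau a y))
    rw [← hf a]
    show _ = k (T.tau (f a) y')
    rw [hke, hey]
  have hkinv : IsKron T (k⁻¹ : V ≃ₗ[F] V) := ⟨LinearMap.id, e.symm.toLinearMap, fun a b => by
    apply k.injective
    rw [inv_apply, hke]
    simp⟩
  have := kron_mul hkinv hkh
  rwa [inv_mul_cancel_left] at this

theorem kron_pencil {h : V ≃ₗ[F] V} (hK : IsKron T h) (y : B) :
    ∃ y', ∀ a, h (T.tau a y) ∈ pen T y' := by
  obtain ⟨M, f, hf⟩ := hK
  exact ⟨f y, fun a => by rw [hf]; exact tau_mem_pen T _ _⟩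

theorem kron_inv (R : RootCore T ε H Gen) {h : V ≃ₗ[F] V} (hh : h ∈ H) (hK : IsKron T h) :
    IsKron T (h⁻¹ : V ≃ₗ[F] V) := by
  have hT := R.good
  haveI := R.nontriv
  obtain ⟨a₀, ha₀⟩ := exists_ne (0 : A)
  obtain ⟨z, hz0, hz⟩ := R.isoVec
  obtain ⟨M, f, hf⟩ := hK
  have hfz : f z ≠ 0 := fun e => by
    have h1 : h (T.tau a₀ z) = 0 := by rw [hf, e, map_zero]
    rw [LinearEquiv.map_eq_zero_iff, ← map_zero (T.tau.flip z)] at h1
    exact ha₀ (hT.tau_left_inj hz0 h1)
  have hMinj : Function.Injective M := fun a a' e => hT.tau_left_inj hz0 (h.injective (by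
    show h (T.tau a z) = h (T.tau a' z)
    rw [hf, hf, e]))
  have hfzz : T.fB (f z) (f z) = 0 := by
    obtain ⟨x, hx⟩ : ∃ x, T.fA (M a₀) x ≠ 0 := by
      by_contra h'
      simp only [not_exists, not_not] at h'
      exact ha₀ (hMinj ((hT.nondegA _ h').trans (map_zero M).symm))
    obtain ⟨c, rfl⟩ := LinearMap.injective_iff_surjective.1 hMinj x
    have h1 := R.isom h hh (T.tau a₀ z) (T.tau c z)
    rw [hf, hf, hT.form_tau, hT.form_tau, hz, mul_zero] at h1
    exact (mul_eq_zero.1 h1).resolve_left hx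
  refine R.kron_of_maps (inv_mem hh) hfzz hfz (y' := z) fun a => ?_
  obtain ⟨c, rfl⟩ := LinearMap.injective_iff_surjective.1 hMinj a
  exact ⟨c, by rw [← hf, inv_apply']; rfl⟩

theorem exists_tv (R : RootCore T ε H Gen) {y : B} (hy : T.fB y y = 0) :
    ∃ t ∈ H, ∀ x, t x = x + T.tau (T.C y x) y := by
  obtain ⟨t, ht, htx⟩ := R.tv y hy 1 (map_one σ)
  exact ⟨t, ht, fun x => by simp only [htx, one_smul]⟩

theorem root_apply (R : RootCore T ε H Gen) {y : B} {h t : V ≃ₗ[F] V} (hh : h ∈ H)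
    (htx : ∀ x, t x = x + T.tau (T.C y x) y) (x : V) :
    (h * t * h⁻¹) x = x + h (T.tau (T.C y (h⁻¹ x)) y) := by
  show h (t (h⁻¹ x)) = _
  rw [htx, map_add, inv_apply]

/-- a pure root element comes from a pure element -/
theorem kron_of_root (R : RootCore T ε H Gen) {y : B} (hy : T.fB y y = 0) (hy0 : y ≠ 0)
    {h t : V ≃ₗ[F] V} (hh : h ∈ H) (htx : ∀ x, t x = x + T.tau (T.C y x) y)
    (hu : IsKron T (h * t * h⁻¹ : V ≃ₗ[F] V)) : IsKron T h := by
  have hT := R.good
  haveI := R.nontriv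
  obtain ⟨M, f, hf⟩ := hu
  let U : Submodule F V := (pen T y).map (h : V →ₗ[F] V)
  have hU : ∀ x, (h * t * h⁻¹) x - x ∈ U := fun x => by
    rw [R.root_apply hh htx, add_sub_cancel_left]
    exact Submodule.mem_map_of_mem (tau_mem_pen T _ _)
  have hdim : finrank F U ≤ finrank F A :=
    (Submodule.finrank_map_le _ _).trans (LinearMap.finrank_range_le _)
  have hscal : ∀ a, M a ∈ Submodule.span F ({a} : Set A) := by
    intro a
    rcases R.lt with hlt | ⟨-, hscal⟩
    swap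
    · exact hscal y h t M f hy hy0 hh htx hf a
    by_contra hna
    obtain ⟨φ, hφ, hφa⟩ := Submodule.exists_le_ker_of_notMem hna
    obtain ⟨x, hx⟩ := exists_repr hT.invol T.fA hT.nondegA φ
    have hax : T.fA a x = 0 := by
      rw [hx]; exact hφa (Submodule.mem_span_singleton_self a)
    have hMx : T.fA (M a) x ≠ 0 := by rw [hx]; exact hφ
    let L : B →ₗ[F] V := ((h * t * h⁻¹ : V ≃ₗ[F] V) : V →ₗ[F] V) ∘ₗ T.tau a - T.tau a
    have hL : ∀ b, L b = T.tau (M a) (f b) - T.tau a b := fun b => by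
      show (h * t * h⁻¹) (T.tau a b) - T.tau a b = _
      rw [hf]
    have hfinj : Function.Injective f := fun b b' e => hT.tau_right_inj
      (a := a) (fun e0 => hna (by simp [e0])) ((h * t * h⁻¹).injective (by
        show (h * t * h⁻¹) (T.tau a b) = (h * t * h⁻¹) (T.tau a b')
        rw [hf, hf, e]))
    have hLinj : Function.Injective L := fun b b' e => by
      refine hfinj ?_
      have h1 := congrArg (T.C' x) e
      simp only [hL, map_sub, hT.C'_tau, hax, zero_smul, sub_zero] at h1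
      exact smul_right_injective B hMx h1
    have h2 : finrank F B ≤ finrank F U := by
      rw [← LinearMap.finrank_range_of_inj hLinj]
      exact Submodule.finrank_mono (by rintro _ ⟨b, rfl⟩; exact hU (T.tau a b))
    omega
  obtain ⟨μ, hμ⟩ := LinearMap.exists_eq_smul_id_of_forall_notLinearIndependent (f := M) fun a hli => by
    obtain ⟨c, hc⟩ := Submodule.mem_span_singleton.1 (hscal a)
    exact (LinearIndependent.pair_iff' (hli.ne_zero 0)).1 hli c hc
  have hf' : ∀ a b, (h * t * h⁻¹) (T.tau a b) = T.tau a (μ • f b) := fun a b => by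
    simp [hf, hμ]
  obtain ⟨b, hb⟩ : ∃ b, μ • f b ≠ b := by
    by_contra hall
    simp only [not_exists, not_not] at hall
    obtain ⟨a₀, ha₀⟩ := exists_ne (0 : A)
    obtain ⟨e, he, he'⟩ := hT.exists_partner hy0
    have h1 : (h * t * h⁻¹) (h (T.tau a₀ e)) = h (T.tau a₀ e) :=
      hT.induction (p := fun x => (h * t * h⁻¹) x = x) (map_zero _)
        (fun x x' hx hx' => by rw [map_add, hx, hx']) (fun a b => by rw [hf', hall]) _
    rw [R.root_apply hh htx, inv_apply', hT.C_tau, he, one_smul, add_eq_left,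
      LinearEquiv.map_eq_zero_iff, ← map_zero (T.tau.flip y)] at h1
    exact ha₀ (hT.tau_left_inj hy0 h1)
  have hb0 : μ • f b - b ≠ 0 := sub_ne_zero.2 hb
  have hle : pen T (μ • f b - b) ≤ U := by
    rintro _ ⟨a, rfl⟩
    have h1 := hU (T.tau a b)
    rw [hf', ← map_sub] at h1
    exact h1
  have heq : pen T (μ • f b - b) = U := Submodule.eq_of_le_of_finrank_le hle
    (hdim.trans (le_of_eq (LinearMap.finrank_range_of_inj (hT.tau_left_inj hb0)).symm))
  exact R.kron_of_maps hh hy hy0 (y' := μ • f b - b) fun a => by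
    rw [heq]; exact Submodule.mem_map_of_mem (tau_mem_pen T _ _)

/-- a root element whose pencil image is orthogonal to a singular pencil comes from a pure element -/
theorem kron_of_orth (R : RootCore T ε H Gen) {y w : B} (hy : T.fB y y = 0) (hy0 : y ≠ 0)
    (hw : T.fB w w = 0) (hw0 : w ≠ 0) {h : V ≃ₗ[F] V} (hh : h ∈ H)
    (horth : ∀ a c, T.form (h (T.tau a y)) (T.tau c w) = 0) : IsKron T h := by
  have hT := R.good
  obtain ⟨t, ht, htx⟩ := R.exists_tv hy
  refine R.kron_of_root hy hy0 hh htx ?_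
  refine R.kron_of_maps (mul_mem (mul_mem hh ht) (inv_mem hh)) hw hw0 (y' := w) fun c => ⟨c, ?_⟩
  rw [R.root_apply hh htx, hT.C_eq_zero (fun a => ?_), map_zero, LinearMap.zero_apply, map_zero,
    add_zero]
  · rfl
  · rw [← R.isom h hh, inv_apply]
    exact hT.form_flip_zero (horth a c)

/-- two commuting root elements -/
theorem kron_of_commute (R : RootCore T ε H Gen) {y : B} (hy : T.fB y y = 0) (hy0 : y ≠ 0)
    {h t : V ≃ₗ[F] V} (hh : h ∈ H) (ht : t ∈ H) (htx : ∀ x, t x = x + T.tau (T.C y x) y)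
    (hc : Commute t (h * t * h⁻¹)) : IsKron T h := by
  have hT := R.good
  obtain ⟨e, he, -⟩ := hT.exists_partner hy0
  -- `t` maps the image of the pencil into itself
  have key : ∀ a, (h⁻¹ * t * h) (T.tau a y) ∈ pen T y := by
    intro a
    have h1 := LinearEquiv.congr_fun hc.eq (h (T.tau a e))
    change t ((h * t * h⁻¹) _) = (h * t * h⁻¹) (t _) at h1
    rw [R.root_apply hh htx, R.root_apply hh htx,
      inv_apply', hT.C_tau, he, one_smul, map_add, add_right_inj] at h1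
    refine ⟨T.C y (h⁻¹ (t (h (T.tau a e)))), ?_⟩
    show _ = h⁻¹ (t (h (T.tau a y)))
    apply h.injective
    rw [inv_apply, h1]
    rfl
  have h2 := R.kron_of_maps (mul_mem (mul_mem (inv_mem hh) ht) hh) hy hy0 key
  rw [show h⁻¹ * t * h = h⁻¹ * t * (h⁻¹)⁻¹ by rw [inv_inv]] at h2
  have h3 := R.kron_inv (inv_mem hh) (R.kron_of_root hy hy0 (inv_mem hh) htx h2)
  rwa [inv_inv] at h3

/-- a root element from a pure one is pure on the second factor -/
theorem root_pure (R : RootCore T ε H Gen) {y : B} (hy : T.fB y y = 0) (hy0 : y ≠ 0) {h t : V ≃ₗ[F] V}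
    (hh : h ∈ H) (htx : ∀ x, t x = x + T.tau (T.C y x) y) (hK : IsKron T h) :
    ∃ (y' : B) (φ : B →ₗ[F] F), T.fB y' y' = 0 ∧ φ ≠ 0 ∧
      ∀ a b, (h * t * h⁻¹) (T.tau a b) = T.tau a (b + φ b • y') := by
  have hT := R.good
  haveI := R.nontriv
  obtain ⟨a₀, ha₀⟩ := exists_ne (0 : A)
  obtain ⟨M, f, hf⟩ := hK
  have hMinj : Function.Injective M := fun a a' e => hT.tau_left_inj hy0 (h.injective (by
    show h (T.tau a y) = h (T.tau a' y)
    rw [hf, hf, e]))
  have hfinj : Function.Injective f := fun b b' e => hT.tau_right_inj ha₀ (h.injective (by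
    show h (T.tau a₀ b) = h (T.tau a₀ b')
    rw [hf, hf, e]))
  let fE := LinearEquiv.ofInjectiveEndo f hfinj
  have hfE : ∀ b, f (fE.symm b) = b := fun b => fE.apply_symm_apply b
  refine ⟨f y, T.fB.flip y ∘ₗ fE.symm.toLinearMap, ?_, ?_, fun a b => ?_⟩
  · obtain ⟨x, hx⟩ : ∃ x, T.fA (M a₀) x ≠ 0 := by
      by_contra h'
      simp only [not_exists, not_not] at h'
      exact ha₀ (hMinj ((hT.nondegA _ h').trans (map_zero M).symm))
    obtain ⟨c, rfl⟩ := LinearMap.injective_iff_surjective.1 hMinj x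
    have h1 := R.isom h hh (T.tau a₀ y) (T.tau c y)
    rw [hf, hf, hT.form_tau, hT.form_tau, hy, mul_zero] at h1
    exact (mul_eq_zero.1 h1).resolve_left hx
  · obtain ⟨e, he, -⟩ := hT.exists_partner hy0
    intro h0
    have h1 := LinearMap.congr_fun h0 (f e)
    have h2 : fE.symm (f e) = e := hfinj (hfE _)
    simp [h2, he] at h1
  · obtain ⟨a', rfl⟩ := LinearMap.injective_iff_surjective.1 hMinj a
    have h1 : h⁻¹ (T.tau (M a') b) = T.tau a' (fE.symm b) := by
      apply h.injective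
      rw [inv_apply, hf, hfE]
    rw [R.root_apply hh htx, h1, hT.C_tau, map_smul, LinearMap.smul_apply, map_smul, hf]
    simp

/-- if a root element commutes with `t⁻¹ r` for a root element `r ≠ t` commuting with `t`, it comes from
a pure element -/
theorem kron_of_central (R : RootCore T ε H Gen) {y : B} (hy : T.fB y y = 0) (hy0 : y ≠ 0)
    {h h' t : V ≃ₗ[F] V} (hh : h ∈ H) (hh' : h' ∈ H) (ht : t ∈ H)
    (htx : ∀ x, t x = x + T.tau (T.C y x) y) (hc : Commute t (h' * t * h'⁻¹))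
    (hne : h' * t * h'⁻¹ ≠ t) (hu : Commute (t⁻¹ * (h' * t * h'⁻¹)) (h * t * h⁻¹)) : IsKron T h := by
  have hT := R.good
  obtain ⟨y', φ, hy', hφ, hr⟩ := R.root_pure hy hy0 hh' htx (R.kron_of_commute hy hy0 hh' ht htx hc)
  haveI := R.nontriv
  obtain ⟨a₀, ha₀⟩ := exists_ne (0 : A)
  have ht' : ∀ a b, t (T.tau a b) = T.tau a (b + T.fB b y • y) := fun a b => by
    rw [htx, hT.C_tau, map_add, map_smul, LinearMap.smul_apply, map_smul]
  have horth : T.fB y' y = 0 := by
    by_contra hne'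
    obtain ⟨b, hb⟩ : ∃ b, φ b ≠ 0 := by
      by_contra h0
      simp only [not_exists, not_not] at h0
      exact hφ (LinearMap.ext h0)
    have h1 := LinearEquiv.congr_fun hc.eq (T.tau a₀ b)
    change t ((h' * t * h'⁻¹) _) = (h' * t * h'⁻¹) (t _) at h1
    rw [hr, ht', ht', hr] at h1
    have h2 := hT.tau_right_inj ha₀ h1
    simp only [map_add, map_smul, LinearMap.add_apply, LinearMap.smul_apply, smul_eq_mul] at h2
    have h3 : (φ b * T.fB y' y) • y = (T.fB b y * φ y) • y' := by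
      linear_combination (norm := module) h2
    have h4 : y = ((φ b * T.fB y' y)⁻¹ * (T.fB b y * φ y)) • y' := by
      rw [← smul_smul, ← h3, inv_smul_smul₀ (mul_ne_zero hb hne')]
    apply hne'
    rw [h4, map_smulₛₗ, hy', smul_zero]
  let κ : B →ₗ[F] B := φ.smulRight y' - (T.fB.flip y).smulRight y
  have hj : ∀ a b, (t⁻¹ * (h' * t * h'⁻¹)) (T.tau a b) = T.tau a (b + κ b) := by
    intro a b
    show t⁻¹ ((h' * t * h'⁻¹) (T.tau a b)) = _
    apply t.injective
    rw [inv_apply, hr, ht']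
    congr 1
    simp [κ, map_add, map_sub, hy, horth]
    abel
  have hκ : ∀ b b', T.fB (κ b) (κ b') = 0 := fun b b' => by
    simp [κ, hy, hy', horth, hT.B_flip_zero horth]
  obtain ⟨b₁, hb₁⟩ : ∃ b, κ b ≠ 0 := by
    by_contra h0
    simp only [not_exists, not_not] at h0
    refine hne ?_
    have h1 : t⁻¹ * (h' * t * h'⁻¹) = 1 := LinearEquiv.ext fun x =>
      LinearMap.congr_fun (hT.ext_tau (f := ((t⁻¹ * (h' * t * h'⁻¹) : V ≃ₗ[F] V) : V →ₗ[F] V))
        (g := LinearMap.id) fun a b => by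
          show (t⁻¹ * (h' * t * h'⁻¹)) (T.tau a b) = T.tau a b
          rw [hj, h0, add_zero]) x
    have h2 := congrArg (fun g => t * g) h1
    simpa using h2
  refine R.kron_of_root hy hy0 hh htx ?_
  refine R.kron_of_orth (hκ b₁ b₁) hb₁ (hκ b₁ b₁) hb₁ (mul_mem (mul_mem hh ht) (inv_mem hh))
    fun a c => ?_
  set u := h * t * h⁻¹ with hudef
  set j := t⁻¹ * (h' * t * h'⁻¹) with hjdef
  have h1 : u (T.tau a (κ b₁)) = j (u (T.tau a b₁)) - u (T.tau a b₁) := by
    have h2 := LinearEquiv.congr_fun hu.eq (T.tau a b₁)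
    change j (u _) = u (j _) at h2
    rw [hj, map_add (T.tau a), map_add u] at h2
    rw [h2, add_sub_cancel_left]
  have h3 : ∀ x, T.C (κ b₁) (j x - x) = 0 := fun x => LinearMap.congr_fun
    (hT.ext_tau (f := T.C (κ b₁) ∘ₗ ((j : V →ₗ[F] V) - LinearMap.id)) (g := 0) fun a' b => by
      simp [hj, hT.C_tau, hκ]) x
  rw [h1, hT.form_C, h3, map_zero, LinearMap.zero_apply]

/-- the same with the roles of the two root elements exchanged -/
theorem kron_of_central' (R : RootCore T ε H Gen) {y : B} (hy : T.fB y y = 0) (hy0 : y ≠ 0)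
    {h h' t : V ≃ₗ[F] V} (hh : h ∈ H) (hh' : h' ∈ H) (ht : t ∈ H)
    (htx : ∀ x, t x = x + T.tau (T.C y x) y)
    (hc : Commute (h * t * h⁻¹) (h' * (h * t * h⁻¹) * h'⁻¹))
    (hne : h' * (h * t * h⁻¹) * h'⁻¹ ≠ h * t * h⁻¹)
    (hu : Commute ((h * t * h⁻¹)⁻¹ * (h' * (h * t * h⁻¹) * h'⁻¹)) t) : IsKron T h := by
  have hcm : ∀ g g' : V ≃ₗ[F] V, Commute g g' → Commute (h⁻¹ * g * h) (h⁻¹ * g' * h) := by
    intro g g' hg
    show h⁻¹ * g * h * (h⁻¹ * g' * h) = h⁻¹ * g' * h * (h⁻¹ * g * h)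
    have e : g * g' = g' * g := hg
    calc h⁻¹ * g * h * (h⁻¹ * g' * h) = h⁻¹ * (g * g') * h := by group
      _ = h⁻¹ * (g' * g) * h := by rw [e]
      _ = _ := by group
  have h1 := R.kron_of_central hy hy0 (inv_mem hh) (h' := h⁻¹ * h' * h)
    (mul_mem (mul_mem (inv_mem hh) hh') hh) ht htx
    (by
      have := hcm _ _ hc
      convert this using 1 <;> group)
    (fun e => hne (by
      have := congrArg (fun g => h * g * h⁻¹) e
      change h * (h⁻¹ * h' * h * t * (h⁻¹ * h' * h)⁻¹) * h⁻¹ = h * t * h⁻¹ at this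
      calc _ = h * (h⁻¹ * h' * h * t * (h⁻¹ * h' * h)⁻¹) * h⁻¹ := by group
        _ = _ := this))
    (by
      have := hcm _ _ hu
      convert this using 1 <;> group)
  have h2 := R.kron_inv (inv_mem hh) h1
  rwa [inv_inv] at h2

end RootCore

end CfsgLib.MaxSub.TForm
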