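import Cfsg.Agent.Lib.MaxSub.TFormSSBasic

/-!
Symplectic ⊗ symplectic: the maps `L` of `A` realised at all totally singular pairs form an algebra with
involution, invariant under the transvections of `A`; without long root elements on `p ⊗ ⟨z, d⟩` it is `F`.
-/

set_option autoImplicit false
set_option linter.unusedSectionVars false
set_option linter.unusedSimpArgs false
set_option linter.unusedVariables false
set_option linter.style.haveILetI false

namespace CfsgLib.MaxSub.TForm

open Module

variable {F A B V : Type*} [Field F] [AddCommGroup A] [Module F A] [AddCommGroup B] [Module F B]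
  [AddCommGroup V] [Module F V]

/-- `L`, with adjoint `L'`, is realised at all totally singular pairs -/
structure InAlg (T : Sys F A B V (RingHom.id F)) (H : Subgroup (V ≃ₗ[F] V)) (L L' : A →ₗ[F] A) :
    Prop where
  adj : ∀ u w, T.fA (L' u) w = T.fA u (L w)
  mem : ∀ z d, z ≠ 0 → d ∉ Submodule.span F ({z} : Set B) → T.fB z d = 0 → InH H (eMap T z d L L')

theorem eMap_swap (T : Sys F A B V (RingHom.id F)) (z d : B) (L L' : A →ₗ[F] A) (x : V) :
    eMap T z d L L' x = eMap T d z L' L x := by
  simp only [eMap]; abel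

theorem not_mem_span_symm {z d : B} (hz : z ≠ 0) (hd : d ∉ Submodule.span F ({z} : Set B)) :
    d ≠ 0 ∧ z ∉ Submodule.span F ({d} : Set B) := by
  have hd0 : d ≠ 0 := fun e => hd (e ▸ Submodule.zero_mem _)
  refine ⟨hd0, fun h => ?_⟩
  obtain ⟨k, hk⟩ := Submodule.mem_span_singleton.1 h
  refine hd (Submodule.mem_span_singleton.2 ⟨k⁻¹, ?_⟩)
  have hk0 : k ≠ 0 := fun e => hz (by rw [← hk, e, zero_smul])
  rw [← hk, inv_smul_smul₀ hk0]

namespace SSData

variable {T : Sys F A B V (RingHom.id F)} {Q : V → F} {H : Subgroup (V ≃ₗ[F] V)}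
variable [Finite F] [FiniteDimensional F A] [FiniteDimensional F B]

theorem eMap_comp (D : SSData T Q H) {z d : B} (hzd : T.fB z d = 0) (L L' M M' : A →ₗ[F] A) (x : V) :
    eMap T z d L L' (eMap T z d M M' x) = eMap T z d (L + M) (L' + M') x := by
  have hdz : T.fB d z = 0 := D.good.B_flip_zero hzd
  simp only [eMap, map_add, LinearMap.add_apply, D.good.C_tau, D.altB, hzd, hdz, zero_smul, map_zero,
    LinearMap.zero_apply, add_zero]
  abel

theorem alg_add (D : SSData T Q H) {L L' M M' : A →ₗ[F] A} (h : InAlg T H L L') (h' : InAlg T H M M') :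
    InAlg T H (L + M) (L' + M') :=
  ⟨fun u w => by simp [h.adj, h'.adj], fun z d hz hd hzd =>
    ((h.mem z d hz hd hzd).comp (h'.mem z d hz hd hzd)).congr (D.eMap_comp hzd _ _ _ _)⟩

theorem alg_neg (D : SSData T Q H) {L L' : A →ₗ[F] A} (h : InAlg T H L L') : InAlg T H (-L) (-L') := by
  refine ⟨fun u w => by simp [h.adj], fun z d hz hd hzd => ?_⟩
  obtain ⟨g, hg, hgx⟩ := h.mem z d hz hd hzd
  refine ⟨g⁻¹, inv_mem hg, fun x => g.injective ?_⟩
  rw [ap_inv, hgx, D.eMap_comp hzd, add_neg_cancel, add_neg_cancel]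
  simp [eMap]

theorem alg_sub (D : SSData T Q H) {L L' M M' : A →ₗ[F] A} (h : InAlg T H L L') (h' : InAlg T H M M') :
    InAlg T H (L - M) (L' - M') := by
  rw [sub_eq_add_neg, sub_eq_add_neg]
  exact D.alg_add h (D.alg_neg h')

theorem alg_swap (D : SSData T Q H) {L L' : A →ₗ[F] A} (h : InAlg T H L L') : InAlg T H L' L := by
  refine ⟨fun u w => ?_, fun z d hz hd hzd => ?_⟩
  · rw [D.swapA w (L u), ← h.adj w u, ← D.swapA]
  · obtain ⟨hd0, hz'⟩ := not_mem_span_symm hz hd
    exact (h.mem d z hd0 hz' (D.good.B_flip_zero hzd)).congr (eMap_swap T d z L L')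

theorem alg_of_one (D : SSData T Q H) {L L' : A →ₗ[F] A} (hadj : ∀ u w, T.fA (L' u) w = T.fA u (L w))
    {z d : B} (hz : z ≠ 0) (hd : d ∉ Submodule.span F ({z} : Set B)) (hzd : T.fB z d = 0)
    (h : InH H (eMap T z d L L')) : InAlg T H L L' :=
  ⟨hadj, fun z' d' hz' hd' hzd' => pair_induction T.fB D.altB D.good.nondegB
    (P := fun z d => InH H (eMap T z d L L')) (fun c s _ _ hP => D.eMap_conjB hP c s)
    hz hd hzd hz' hd' hzd' h⟩

theorem exists_pair (D : SSData T Q H) {z : B} (hz : z ≠ 0) :
    ∃ d, d ∉ Submodule.span F ({z} : Set B) ∧ T.fB z d = 0 := by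
  obtain ⟨d, d', hdz, -, hd'z, -, h1⟩ := exists_perp_pair T.fB D.altB D.good.nondegB
    (by have := D.dimB; omega) z z
  refine ⟨d, fun h => ?_, D.good.B_flip_zero hdz⟩
  obtain ⟨k, rfl⟩ := Submodule.mem_span_singleton.1 h
  simp [hd'z] at h1

theorem alg_scalar (D : SSData T Q H) (c : F) :
    InAlg T H (c • LinearMap.id) (c • LinearMap.id) := by
  refine ⟨fun u w => by simp, fun z d hz hd hzd => ?_⟩
  have hdz : T.fB d z = 0 := D.good.B_flip_zero hzd
  refine ((D.tvB (z + d) c).comp ((D.tvB z (-c)).comp (D.tvB d (-c)))).congr fun x => ?_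
  simp only [eMap, D.good.C_add, LinearMap.add_apply, LinearMap.smul_apply, LinearMap.id_apply, map_add,
    map_smul, D.good.C_tau, D.altB, hzd, hdz, zero_smul, smul_zero, map_zero, LinearMap.zero_apply,
    add_zero]
  module

theorem alg_mul (D : SSData T Q H) {L L' M M' : A →ₗ[F] A} (h : InAlg T H L L') (h' : InAlg T H M M') :
    InAlg T H (M ∘ₗ L) (L' ∘ₗ M') := by
  refine ⟨fun u w => by simp [h.adj, h'.adj], fun z x hz hx hzx => ?_⟩
  obtain ⟨d, d', hdz, hdx, hd'z, hd'x, h1⟩ := exists_perp_pair T.fB D.altB D.good.nondegB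
    (by have := D.dimB; omega) z x
  have hzd : T.fB z d = 0 := D.good.B_flip_zero hdz
  have hxd : T.fB x d = 0 := D.good.B_flip_zero hdx
  have hzd' : T.fB z d' = 0 := D.good.B_flip_zero hd'z
  have hxd' : T.fB x d' = 0 := D.good.B_flip_zero hd'x
  have hxz : T.fB x z = 0 := D.good.B_flip_zero hzx
  have hdd : T.fB d d' = -1 := by rw [D.swapB d' d, h1]
  have hd'0 : d' ≠ 0 := fun e => by simp [e] at h1
  have hd : d ∉ Submodule.span F ({z} : Set B) := fun e => by
    obtain ⟨k, rfl⟩ := Submodule.mem_span_singleton.1 e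
    simp [hd'z] at h1
  have hxsp : x ∉ Submodule.span F ({d'} : Set B) := fun e => by
    obtain ⟨k, rfl⟩ := Submodule.mem_span_singleton.1 e
    have hk : k ≠ 0 := fun e0 => hx (by simp [e0])
    simp [h1, hk] at hxd
  obtain ⟨g, hg, hgx⟩ := h.mem z d hz hd hzd
  obtain ⟨k, hk, hkx⟩ := h'.mem d' x hd'0 hxsp hd'x
  refine ⟨g * k * g⁻¹ * k⁻¹, mul_mem (mul_mem (mul_mem hg hk) (inv_mem hg)) (inv_mem hk), fun y => ?_⟩
  obtain ⟨y, rfl⟩ := (k * g).surjective y
  show g (k (g⁻¹ (k⁻¹ (k (g y))))) = _
  rw [inv_ap, inv_ap]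
  show g (k y) = eMap T z x (M ∘ₗ L) (L' ∘ₗ M') (k (g y))
  simp only [hgx, hkx, eMap, map_add, LinearMap.add_apply, LinearMap.comp_apply, D.good.C_tau, D.altB,
    hzd, hdz, hzx, hxz, hzd', hd'z, hdx, hxd, hxd', hd'x, h1, hdd, zero_smul, map_zero,
    LinearMap.zero_apply, add_zero, zero_add, one_smul, neg_smul, map_neg, LinearMap.neg_apply]
  abel

theorem alg_conj (D : SSData T Q H) {L L' : A →ₗ[F] A} (h : InAlg T H L L') (c : F) (p : A) :
    InAlg T H (altTv T.fA c p ∘ₗ L ∘ₗ altTv T.fA (-c) p) (altTv T.fA c p ∘ₗ L' ∘ₗ altTv T.fA (-c) p) := by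
  refine ⟨fun u w => ?_, fun z d hz hd hzd => ?_⟩
  · simp only [LinearMap.comp_apply]
    conv_rhs => rw [← altTv_neg T.fA D.altA c p u, altTv_isom T.fA D.altA, ← h.adj]
    conv_lhs => rw [← altTv_neg T.fA D.altA c p w, altTv_isom T.fA D.altA]
  obtain ⟨g, hg, hgx⟩ := h.mem z d hz hd hzd
  obtain ⟨k, hk, hkf⟩ := D.pureA_tv c p
  refine ⟨k * g * k⁻¹, mul_mem (mul_mem hk hg) (inv_mem hk), fun x => ?_⟩
  obtain ⟨x, rfl⟩ := k.surjective x
  show k (g (k⁻¹ (k x))) = _
  rw [inv_ap, hgx, eMap, eMap, map_add, map_add, hkf, hkf, D.C_conjA hkf, D.C_conjA hkf]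
  simp only [LinearMap.comp_apply, altTv_neg' T.fA D.altA]

/-- the rank one map at `p` -/
noncomputable def nilA (T : Sys F A B V (RingHom.id F)) (p : A) : A →ₗ[F] A := (T.fA.flip p).smulRight p

theorem nilA_apply (p a : A) : nilA T p a = T.fA a p • p := rfl

/-- a realised rank one map is a root element -/
theorem not_noRoot (D : SSData T Q H) {p : A} (hp : p ≠ 0) {k : F} (hk : k ≠ 0) {L' : A →ₗ[F] A}
    (h : InAlg T H (k • nilA T p) L') : ¬ NoRoot T H := by
  intro hno
  have hL' : ∀ a, L' a = -(k * T.fA a p) • p := fun a => sub_eq_zero.1 (D.good.nondegA _ fun w => by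
    rw [map_sub, LinearMap.sub_apply, h.adj]
    simp [nilA_apply, D.swapA w p]
    ring)
  haveI := Module.nontrivial_of_finrank_pos (R := F) (M := B) (by have := D.dimB; omega)
  obtain ⟨z, hz⟩ := exists_ne (0 : B)
  obtain ⟨d, hd, hzd⟩ := D.exists_pair hz
  refine hno p z (k • d) hp hz (fun e => hd ?_) (by rw [map_smul, hzd, smul_zero]) ?_
  · rw [← inv_smul_smul₀ hk d]
    exact Submodule.smul_mem _ _ e
  refine (h.mem z d hz hd hzd).congr fun x => ?_
  simp only [eMap, rootMap, hL', map_smul, LinearMap.smul_apply, nilA_apply, D.good.form_C, map_neg,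
    neg_smul, LinearMap.neg_apply, smul_eq_mul, D.good.C_smul, RingHom.id_apply]
  module

/-- two mixed elements compose to a rank one map -/
theorem nil_of_pairs (D : SSData T Q H) {p s q : A} (hps : T.fA p s = 0) (hpq : T.fA q p = 0)
    (hqs : T.fA q s = 1) {X X' Y Y' : A →ₗ[F] A} (hX : ∀ a, X a = T.fA a s • p - T.fA a p • s)
    (hY : ∀ a, Y a = T.fA a p • q - T.fA a q • p) (hXa : InAlg T H X X') (hYa : InAlg T H Y Y') :
    ∃ L', InAlg T H ((1 : F) • nilA T p) L' := by
  refine ⟨Y' ∘ₗ X', ?_⟩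
  convert D.alg_mul hYa hXa using 1
  refine LinearMap.ext fun a => ?_
  simp only [LinearMap.comp_apply, LinearMap.smul_apply, nilA_apply, hX, hY, map_sub, map_smul,
    LinearMap.sub_apply, LinearMap.smul_apply, smul_eq_mul, D.altA, hps, hpq, hqs]
  module

theorem exists_ker (h4 : 4 ≤ finrank F A) (φ ψ : A →ₗ[F] F) : ∃ v, φ v = 0 ∧ ψ v = 0 ∧ v ≠ 0 := by
  obtain ⟨v, hv, hv0⟩ : ∃ v ∈ LinearMap.ker (φ.prod ψ), v ≠ 0 := by
    refine Submodule.exists_mem_ne_zero_of_ne_bot fun e => ?_
    have h1 := (φ.prod ψ).finrank_range_add_finrank_ker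
    have h2 := Submodule.finrank_le (LinearMap.range (φ.prod ψ))
    rw [e, finrank_bot] at h1
    simp only [Module.finrank_prod, Module.finrank_self] at h2
    omega
  exact ⟨v, congrArg Prod.fst (LinearMap.mem_ker.1 hv), congrArg Prod.snd (LinearMap.mem_ker.1 hv), hv0⟩

/-- self-adjoint members are scalar, dimension at least four -/
theorem self_scalar (D : SSData T Q H) (hno : NoRoot T H) (h4 : 4 ≤ finrank F A) {X : A →ₗ[F] A}
    (hX : InAlg T H X X) (halt : ∀ a, T.fA (X a) a = 0) : ∃ k : F, ∀ a, X a = k • a := by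
  by_contra hns
  obtain ⟨p, hpr⟩ : ∃ p, LinearIndependent F ![p, X p] := by
    by_contra h
    simp only [not_exists] at h
    obtain ⟨μ, hμ⟩ := LinearMap.exists_eq_smul_id_of_forall_notLinearIndependent h
    exact hns ⟨μ, fun a => by simpa using LinearMap.congr_fun hμ a⟩
  set r := X p with hr
  have hp0 : p ≠ 0 := hpr.ne_zero 0
  have hrsp : r ∉ Submodule.span F ({p} : Set A) := fun e => by
    obtain ⟨k, hk⟩ := Submodule.mem_span_singleton.1 e
    exact (LinearIndependent.pair_iff' hp0).1 hpr k hk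
  have hrp : T.fA r p = 0 := halt p
  -- the mixed maps
  have hD : ∀ c : F, ∃ Y Y', InAlg T H Y Y' ∧ ∀ a, Y a = c • (T.fA a r • p - T.fA a p • r) := by
    intro c
    refine ⟨_, _, D.alg_sub (D.alg_conj hX c p) hX, fun a => ?_⟩
    have hXa : T.fA (X a) p = T.fA a r := hX.adj a p
    simp only [LinearMap.sub_apply, LinearMap.comp_apply, altTv_apply, map_add, map_smul, LinearMap.add_apply,
      LinearMap.smul_apply, smul_eq_mul, ← hr, hrp, hXa]
    module
  have hS : ∀ c s, T.fA p s = 0 → ∃ Y Y', InAlg T H Y Y' ∧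
      ∀ a, Y a = (c * T.fA r s) • (T.fA a s • p - T.fA a p • s) := by
    intro c s hps
    obtain ⟨Y, Y', hY, hYa⟩ := hD c
    refine ⟨_, _, D.alg_sub (D.alg_conj hY 1 s) hY, fun a => ?_⟩
    simp only [LinearMap.sub_apply, LinearMap.comp_apply, altTv_apply, map_add, map_smul,
      LinearMap.add_apply, LinearMap.smul_apply, map_sub, hYa, smul_eq_mul, one_mul, neg_one_mul,
      neg_smul, map_neg, LinearMap.sub_apply, LinearMap.neg_apply, D.altA, hps,
      D.good.A_flip_zero hps, D.swapA s r]
    have hsr : T.fA s r = -T.fA r s := D.swapA r s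
    module
  have hall : ∀ s, T.fA p s = 0 → ∃ Y Y', InAlg T H Y Y' ∧ ∀ a, Y a = T.fA a s • p - T.fA a p • s := by
    have hone : ∀ s, T.fA p s = 0 → T.fA r s ≠ 0 →
        ∃ Y Y', InAlg T H Y Y' ∧ ∀ a, Y a = T.fA a s • p - T.fA a p • s := fun s hps hne => by
      obtain ⟨Y, Y', hY, hYa⟩ := hS (T.fA r s)⁻¹ s hps
      exact ⟨Y, Y', hY, fun a => by rw [hYa, inv_mul_cancel₀ hne, one_smul]⟩
    obtain ⟨s₀, hs₀p, hs₀⟩ := exists_seen T.fA D.altA D.good.nondegA hp0 hrsp
    have hps₀ : T.fA p s₀ = 0 := D.good.A_flip_zero hs₀p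
    intro s hps
    by_cases hne : T.fA r s = 0
    swap
    · exact hone s hps hne
    obtain ⟨Y, Y', hY, hYa⟩ := hone (s + s₀) (by rw [map_add, hps, hps₀, add_zero])
      (by rw [map_add, hne, zero_add]; exact hs₀)
    obtain ⟨Z, Z', hZ, hZa⟩ := hone s₀ hps₀ hs₀
    refine ⟨_, _, D.alg_sub hY hZ, fun a => ?_⟩
    simp only [LinearMap.sub_apply, hYa, hZa, map_add]
    module
  obtain ⟨v, hv, -, hv0⟩ := exists_ker h4 (T.fA.flip p) (T.fA.flip r)
  obtain ⟨q, hqp, s, hsp, hqs⟩ : ∃ q, T.fA q p = 0 ∧ ∃ s, T.fA p s = 0 ∧ T.fA q s = 1 := by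
    obtain ⟨s, hs, hvs⟩ := exists_seen T.fA D.altA D.good.nondegA hp0 hrsp
    refine ⟨(T.fA r s)⁻¹ • r, by simp [hrp], s, D.good.A_flip_zero hs, ?_⟩
    rw [map_smul, LinearMap.smul_apply, smul_eq_mul, inv_mul_cancel₀ hvs]
  obtain ⟨X₁, X₁', hX₁, hX₁a⟩ := hall s hsp
  obtain ⟨Y, Y', hY, hYa⟩ := hall q (D.good.A_flip_zero hqp)
  obtain ⟨L', hL'⟩ := D.nil_of_pairs hsp hqp hqs (X := X₁) (Y := -Y) hX₁a
    (fun a => by rw [LinearMap.neg_apply, hYa, neg_sub]) hX₁ (D.alg_neg hY)
  exact D.not_noRoot hp0 one_ne_zero hL' hno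

/-- the algebra is `F` -/
theorem alg_eq_scalar (D : SSData T Q H) (hno : NoRoot T H) {L L' : A →ₗ[F] A} (h : InAlg T H L L') :
    ∃ k : F, ∀ a, L a = k • a := by
  have hT := D.good
  have haltA : ∀ u, T.fA (L' u) u = -T.fA (L u) u := fun u => by rw [h.adj, D.swapA]
  have hDp : ∀ p c, altTv T.fA c p (L (altTv T.fA (-c) p p)) - L p = (c * T.fA (L p) p) • p := fun p c => by
    rw [altTv_apply T.fA (-c), D.altA, mul_zero, zero_smul, add_zero, altTv_apply, add_sub_cancel_left]
  have hm : ∀ p, T.fA (L p) p = 0 := by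
    intro p
    rcases (Nat.lt_or_eq_of_le D.dimA).symm with h2 | h3
    · -- dimension two
      by_contra hne
      have hp0 : p ≠ 0 := fun e => hne (by simp [e])
      obtain ⟨R, hR0, hR1⟩ := D.big h2.symm
      have h1 := D.alg_sub (D.alg_conj h 1 p) h
      have h2' := D.alg_sub (D.alg_conj h R p) h
      have h3 := D.alg_sub h2' (D.alg_mul (D.alg_scalar R) h1)
      have he : altTv T.fA R p ∘ₗ L ∘ₗ altTv T.fA (-R) p - L -
          (altTv T.fA 1 p ∘ₗ L ∘ₗ altTv T.fA (-1) p - L) ∘ₗ (R • LinearMap.id) =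
          ((R - R * R) * T.fA (L p) p) • nilA T p := by
        refine LinearMap.ext fun a => ?_
        simp only [LinearMap.sub_apply, LinearMap.comp_apply, LinearMap.smul_apply, LinearMap.id_apply,
          nilA_apply, altTv_apply, map_add, map_smul, LinearMap.add_apply, smul_eq_mul, map_sub]
        module
      rw [he] at h3
      refine D.not_noRoot hp0 (mul_ne_zero ?_ hne) h3 hno
      rw [show R - R * R = R * (1 - R) by ring]
      exact mul_ne_zero hR0 (sub_ne_zero.2 (Ne.symm hR1))
    · have h4 : 4 ≤ finrank F A ∨ finrank F A = 3 := by omega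
      rcases h4 with h4 | h4
      · have key : ∀ M M', InAlg T H M M' → ∃ k : F, ∀ a, (M + M') a = k • a := fun M M' hM => by
          have hs := D.alg_add hM (D.alg_swap hM)
          rw [add_comm M' M] at hs
          refine D.self_scalar hno h4 hs fun a => ?_
          rw [LinearMap.add_apply, map_add, LinearMap.add_apply, hM.adj, D.swapA (M a) a, add_neg_cancel]
        have key2 : ∀ M M', InAlg T H M M' → ∃ n : F, ∀ a, M (M' a) = n • a := fun M M' hM => by
          have hs := D.alg_mul (D.alg_swap hM) hM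
          refine D.self_scalar hno h4 hs fun a => ?_
          rw [LinearMap.comp_apply, D.swapA, ← hM.adj, D.altA, neg_zero]
        obtain ⟨k, hk⟩ := key L L' h
        have hDa := D.alg_sub (D.alg_conj h 1 p) h
        obtain ⟨k', hk'⟩ := key _ _ hDa
        obtain ⟨n, hn⟩ := key2 _ _ hDa
        set Dl := altTv T.fA 1 p ∘ₗ L ∘ₗ altTv T.fA (-1) p - L with hDl
        set Dl' := altTv T.fA 1 p ∘ₗ L' ∘ₗ altTv T.fA (-1) p - L' with hDl'
        have hneg : ∀ a, Dl' a = -Dl a := fun a => by
          have e1 : L (altTv T.fA (-1) p a) + L' (altTv T.fA (-1) p a) = k • altTv T.fA (-1) p a :=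
            hk _
          have e2 : L a + L' a = k • a := hk a
          have e3 : altTv T.fA 1 p (altTv T.fA (-1) p a) = a := altTv_neg T.fA D.altA 1 p a
          refine eq_neg_of_add_eq_zero_right ?_
          show (altTv T.fA 1 p (L (altTv T.fA (-1) p a)) - L a) +
            (altTv T.fA 1 p (L' (altTv T.fA (-1) p a)) - L' a) = 0
          rw [sub_add_sub_comm, ← map_add, e1, e2, map_smul, e3, sub_self]
        obtain ⟨v, hv, hLv, hv0⟩ := exists_ker h4 (T.fA.flip p) (T.fA.flip p ∘ₗ L)
        have hv' : T.fA v p = 0 := hv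
        have hLv' : T.fA (L v) p = 0 := hLv
        have hDv : Dl v = 0 := by
          simp [hDl, altTv_apply, hv', hLv']
        have hn0 : n = 0 := by
          have := hn v
          rw [hneg, hDv, neg_zero, map_zero] at this
          exact (smul_eq_zero.1 this.symm).resolve_right hv0
        have hpp : Dl p = T.fA (L p) p • p := by
          have := hDp p 1
          rwa [one_mul] at this
        have h5 := hn p
        rw [hneg, map_neg, hpp, map_smul, hpp, hn0, zero_smul, neg_eq_zero, smul_smul, smul_eq_zero] at h5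
        rcases h5 with h5 | h5
        · exact mul_self_eq_zero.1 h5
        · simp [h5]
      · exfalso
        -- an alternating space has even dimension
        obtain ⟨p, hp⟩ : ∃ p : A, p ≠ 0 := by
          haveI := Module.nontrivial_of_finrank_pos (R := F) (M := A) (by omega)
          exact exists_ne 0
        obtain ⟨q, hq⟩ : ∃ q, T.fA p q ≠ 0 := by
          by_contra h'
          simp only [not_exists, not_not] at h'
          exact hp (hT.nondegA p h')
        have hR := ((T.fA.flip p).prod (T.fA.flip q)).finrank_range_add_finrank_ker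
        have h2 := Submodule.finrank_le (LinearMap.range ((T.fA.flip p).prod (T.fA.flip q)))
        simp only [Module.finrank_prod, Module.finrank_self] at h2
        obtain ⟨v, hv, hv0⟩ : ∃ v ∈ LinearMap.ker ((T.fA.flip p).prod (T.fA.flip q)), v ≠ 0 := by
          refine Submodule.exists_mem_ne_zero_of_ne_bot fun e => ?_
          rw [e, finrank_bot] at hR
          omega
        have hv' := LinearMap.mem_ker.1 hv
        have hvp : T.fA v p = 0 := congrArg Prod.fst hv'
        have hvq : T.fA v q = 0 := congrArg Prod.snd hv'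
        have hli : LinearIndependent F ![p, q, v] := by
          rw [Fintype.linearIndependent_iff]
          intro g hg
          simp only [Fin.sum_univ_three, Matrix.cons_val_zero, Matrix.cons_val_one, Matrix.cons_val] at hg
          have e1 := congrArg (fun y => T.fA y q) hg
          have e2 := congrArg (fun y => T.fA y p) hg
          simp [D.altA, hvp, hvq, hq] at e1 e2
          have hqp : T.fA q p ≠ 0 := fun e => hq (hT.A_flip_zero e)
          have e2' : g 1 = 0 := e2.resolve_right hqp
          simp [e1, e2', hv0] at hg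
          intro i
          fin_cases i <;> assumption
        refine hv0 (hT.nondegA v fun y => ?_)
        have htop := hli.span_eq_top_of_card_eq_finrank (by simp [h4])
        have hy : y ∈ Submodule.span F (Set.range ![p, q, v]) := by rw [htop]; trivial
        rw [Submodule.mem_span_range_iff_exists_fun] at hy
        obtain ⟨g, rfl⟩ := hy
        simp [Fin.sum_univ_three, hvp, hvq, D.altA]
  rcases (Nat.lt_or_eq_of_le D.dimA).symm with h2 | h3
  · -- dimension two: every vector is an eigenvector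
    obtain ⟨μ, hμ⟩ := LinearMap.exists_eq_smul_id_of_forall_notLinearIndependent (f := L) fun v hli => by
      have htop := hli.span_eq_top_of_card_eq_finrank (by simp [← h2])
      refine hli.ne_zero 0 (hT.nondegA v fun y => ?_)
      have hy : y ∈ Submodule.span F (Set.range ![v, L v]) := by rw [htop]; trivial
      rw [Submodule.mem_span_range_iff_exists_fun] at hy
      obtain ⟨g, rfl⟩ := hy
      simp [Fin.sum_univ_two, D.altA, hT.A_flip_zero (hm v)]
    exact ⟨μ, fun a => by simpa using LinearMap.congr_fun hμ a⟩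
  · have h4 : 4 ≤ finrank F A ∨ finrank F A = 3 := by omega
    have hsame : ∀ u, L' u = L u := fun u => sub_eq_zero.1 (hT.nondegA _ fun w => by
      have h1 := hm (u + w)
      simp only [map_add, LinearMap.add_apply, hm, zero_add, add_zero] at h1
      rw [map_sub, LinearMap.sub_apply, h.adj, D.swapA (L w) u]
      linear_combination -h1)
    rcases h4 with h4 | h4
    · have hL : L' = L := LinearMap.ext hsame
      subst hL
      exact D.self_scalar hno h4 h hm
    · exfalso
      haveI := Module.nontrivial_of_finrank_pos (R := F) (M := A) (by omega)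
      obtain ⟨p, hp⟩ := exists_ne (0 : A)
      obtain ⟨q, hq⟩ : ∃ q, T.fA p q ≠ 0 := by
        by_contra h'
        simp only [not_exists, not_not] at h'
        exact hp (hT.nondegA p h')
      have hR := ((T.fA.flip p).prod (T.fA.flip q)).finrank_range_add_finrank_ker
      have h2 := Submodule.finrank_le (LinearMap.range ((T.fA.flip p).prod (T.fA.flip q)))
      simp only [Module.finrank_prod, Module.finrank_self] at h2
      obtain ⟨v, hv, hv0⟩ : ∃ v ∈ LinearMap.ker ((T.fA.flip p).prod (T.fA.flip q)), v ≠ 0 := by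
        refine Submodule.exists_mem_ne_zero_of_ne_bot fun e => ?_
        rw [e, finrank_bot] at hR
        omega
      have hv' := LinearMap.mem_ker.1 hv
      have hvp : T.fA v p = 0 := congrArg Prod.fst hv'
      have hvq : T.fA v q = 0 := congrArg Prod.snd hv'
      have hli : LinearIndependent F ![p, q, v] := by
        rw [Fintype.linearIndependent_iff]
        intro g hg
        simp only [Fin.sum_univ_three, Matrix.cons_val_zero, Matrix.cons_val_one, Matrix.cons_val] at hg
        have e1 := congrArg (fun y => T.fA y q) hg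
        have e2 := congrArg (fun y => T.fA y p) hg
        simp [D.altA, hvp, hvq, hq] at e1 e2
        have hqp : T.fA q p ≠ 0 := fun e => hq (hT.A_flip_zero e)
        have e2' : g 1 = 0 := e2.resolve_right hqp
        simp [e1, e2', hv0] at hg
        intro i
        fin_cases i <;> assumption
      refine hv0 (hT.nondegA v fun y => ?_)
      have htop := hli.span_eq_top_of_card_eq_finrank (by simp [h4])
      have hy : y ∈ Submodule.span F (Set.range ![p, q, v]) := by rw [htop]; trivial
      rw [Submodule.mem_span_range_iff_exists_fun] at hy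
      obtain ⟨g, rfl⟩ := hy
      simp [Fin.sum_univ_three, hvp, hvq, D.altA]

end SSData

end CfsgLib.MaxSub.TForm
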