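import Cfsg.Agent.Lib.MaxSub.TFormSys

/-!
Tensor product of two symplectic spaces with its quadratic form vanishing on pure tensors (any characteristic):
elementary pure maps, and transitivity of the transvections of the factors.
-/

set_option autoImplicit false
set_option linter.unusedSectionVars false
set_option linter.unusedSimpArgs false
set_option linter.unusedVariables false
set_option linter.style.haveILetI false

namespace CfsgLib.MaxSub.TForm

open Module

/-! ### transvections of an alternating space -/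

section Alt

variable {F M : Type*} [Field F] [AddCommGroup M] [Module F M] (f : M →ₗ[F] M →ₗ[F] F)

/-- a transvection of an alternating space -/
def altTv (c : F) (s : M) : M →ₗ[F] M := LinearMap.id + c • (f.flip s).smulRight s

theorem altTv_apply (c : F) (s a : M) : altTv f c s a = a + (c * f a s) • s := by
  show a + c • (f a s • s) = _
  rw [smul_smul]

theorem altTv_neg (hf : ∀ a, f a a = 0) (c : F) (s a : M) : altTv f c s (altTv f (-c) s a) = a := by
  rw [altTv_apply, altTv_apply]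
  simp [hf]

theorem altTv_neg' (hf : ∀ a, f a a = 0) (c : F) (s a : M) : altTv f (-c) s (altTv f c s a) = a := by
  simpa using altTv_neg f hf (-c) s a

theorem alt_swap (hf : ∀ a, f a a = 0) (a b : M) : f b a = -f a b := by
  have h := hf (a + b)
  simp only [map_add, LinearMap.add_apply, hf, zero_add, add_zero] at h
  linear_combination h

theorem altTv_isom (hf : ∀ a, f a a = 0) (c : F) (s a a' : M) :
    f (altTv f c s a) (altTv f c s a') = f a a' := by
  simp only [altTv_apply, map_add, map_smul, LinearMap.add_apply, LinearMap.smul_apply, smul_eq_mul, hf,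
    alt_swap f hf a' s]
  ring

theorem altTv_move (c : F) {a b : M} (hf : ∀ a, f a a = 0) (h : f a b ≠ 0) :
    altTv f (f a b)⁻¹ (b - a) a = b := by
  rw [altTv_apply, map_sub (f a), hf, sub_zero, inv_mul_cancel₀ h, one_smul, add_sub_cancel]

variable (hf : ∀ a, f a a = 0) (hnd : ∀ a, (∀ b, f a b = 0) → a = 0)
include hf hnd

theorem exists_both_alt {a b : M} (ha : a ≠ 0) (hb : b ≠ 0) : ∃ w, f a w ≠ 0 ∧ f b w ≠ 0 := by
  obtain ⟨x, hx⟩ : ∃ x, f a x ≠ 0 := by
    by_contra h
    simp only [not_exists, not_not] at h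
    exact ha (hnd a h)
  obtain ⟨y, hy⟩ : ∃ y, f b y ≠ 0 := by
    by_contra h
    simp only [not_exists, not_not] at h
    exact hb (hnd b h)
  by_cases h1 : f b x = 0
  swap
  · exact ⟨x, hx, h1⟩
  by_cases h2 : f a y = 0
  swap
  · exact ⟨y, h2, hy⟩
  exact ⟨x + y, by rw [map_add, h2, add_zero]; exact hx, by rw [map_add, h1, zero_add]; exact hy⟩

theorem trans_induction {P : M → Prop} (hP : ∀ c s a, P a → P (altTv f c s a)) {a b : M} (ha : a ≠ 0)
    (hb : b ≠ 0) (h : P a) : P b := by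
  obtain ⟨w, h1, h2⟩ := exists_both_alt f hf hnd ha hb
  have hw : P w := by
    have := hP (f a w)⁻¹ (w - a) a h
    rwa [altTv_move f (f a w)⁻¹ hf h1] at this
  have h2' : f w b ≠ 0 := fun e => h2 (by rw [alt_swap f hf w b, e, neg_zero])
  have := hP (f w b)⁻¹ (b - w) w hw
  rwa [altTv_move f (f w b)⁻¹ hf h2'] at this

theorem exists_seen {z d : M} (hz : z ≠ 0) (hd : d ∉ Submodule.span F ({z} : Set M)) :
    ∃ y, f y z = 0 ∧ f d y ≠ 0 := by
  by_contra h
  simp only [not_exists, not_and, not_not] at h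
  obtain ⟨e, he⟩ : ∃ e, f z e ≠ 0 := by
    by_contra h'
    simp only [not_exists, not_not] at h'
    exact hz (hnd z h')
  refine hd (Submodule.mem_span_singleton.2 ⟨f d e / f z e, (sub_eq_zero.1 (hnd _ fun y => ?_)).symm⟩)
  have h1 := h (y - (f z y / f z e) • e) (by
    simp only [map_sub, map_smul, LinearMap.sub_apply, LinearMap.smul_apply, smul_eq_mul,
      alt_swap f hf z y, alt_swap f hf z e]
    field_simp
    ring)
  simp only [map_sub, map_smul, smul_eq_mul] at h1
  simp only [map_sub, map_smul, LinearMap.sub_apply, LinearMap.smul_apply, smul_eq_mul]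
  field_simp at h1 ⊢
  linear_combination h1

theorem pair_induction {P : M → M → Prop} (hP : ∀ c s z d, P z d → P (altTv f c s z) (altTv f c s d))
    {z d z' d' : M} (hz : z ≠ 0) (hd : d ∉ Submodule.span F ({z} : Set M)) (hzd : f z d = 0)
    (hz' : z' ≠ 0) (hd' : d' ∉ Submodule.span F ({z'} : Set M)) (hzd' : f z' d' = 0) (h : P z d) :
    P z' d' := by
  obtain ⟨-, d₁, hd₁, hzd₁, h₁⟩ : z' ≠ 0 ∧ ∃ d₁, d₁ ∉ Submodule.span F ({z'} : Set M) ∧ f z' d₁ = 0 ∧
      P z' d₁ := by
    refine trans_induction f hf hnd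
      (P := fun x => x ≠ 0 ∧ ∃ d₁, d₁ ∉ Submodule.span F ({x} : Set M) ∧ f x d₁ = 0 ∧ P x d₁)
      ?_ hz hz' ⟨hz, d, hd, hzd, h⟩
    rintro c s x ⟨hx, y, hy, hxy, hPxy⟩
    refine ⟨fun e => hx ?_, altTv f c s y, fun e => hy ?_, by rw [altTv_isom f hf, hxy],
      hP c s x y hPxy⟩
    · rw [← altTv_neg' f hf c s x, e, map_zero]
    · obtain ⟨k, hk⟩ := Submodule.mem_span_singleton.1 e
      rw [← altTv_neg' f hf c s y, ← hk, map_smul, altTv_neg' f hf]
      exact Submodule.smul_mem _ _ (Submodule.mem_span_singleton_self _)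
  have step : ∀ y y', f z' y = 0 → f z' y' = 0 → f y y' ≠ 0 → P z' y → P z' y' := by
    intro y y' hy hy' hne hPy
    have := hP (f y y')⁻¹ (y' - y) z' y hPy
    rw [altTv_move f (f y y')⁻¹ hf hne] at this
    rwa [altTv_apply, map_sub (f z'), hy, hy', sub_zero, mul_zero, zero_smul, add_zero] at this
  obtain ⟨y₁, hy₁, h1⟩ := exists_seen f hf hnd hz' hd₁
  obtain ⟨y₂, hy₂, h2⟩ := exists_seen f hf hnd hz' hd'
  obtain ⟨y, hy, hy1, hy2⟩ : ∃ y, f y z' = 0 ∧ f d₁ y ≠ 0 ∧ f d' y ≠ 0 := by
    by_cases h3 : f d' y₁ = 0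
    swap
    · exact ⟨y₁, hy₁, h1, h3⟩
    by_cases h4 : f d₁ y₂ = 0
    swap
    · exact ⟨y₂, hy₂, h4, h2⟩
    exact ⟨y₁ + y₂, by simp [hy₁, hy₂], by rw [map_add, h4, add_zero]; exact h1,
      by rw [map_add, h3, zero_add]; exact h2⟩
  have hy' : f z' y = 0 := by rw [alt_swap f hf y z', hy, neg_zero]
  exact step y d' hy' hzd' (fun e => hy2 (by rw [alt_swap f hf y d', e, neg_zero]))
    (step d₁ y hzd₁ hy' hy1 h₁)

/-- two vectors in the orthogonal of two given ones, not orthogonal to each other -/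
theorem exists_perp_pair [FiniteDimensional F M] (h5 : 5 ≤ finrank F M) (z x : M) :
    ∃ d d', f d z = 0 ∧ f d x = 0 ∧ f d' z = 0 ∧ f d' x = 0 ∧ f d' d = 1 := by
  classical
  let R : Submodule F M := LinearMap.ker (f.flip z) ⊓ LinearMap.ker (f.flip x)
  have hR : finrank F M ≤ finrank F R + 2 := by
    have h1 := ((f.flip z).prod (f.flip x)).finrank_range_add_finrank_ker
    have h2 := Submodule.finrank_le (LinearMap.range ((f.flip z).prod (f.flip x)))
    rw [LinearMap.ker_prod] at h1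
    simp only [Module.finrank_prod, Module.finrank_self] at h2
    show finrank F M ≤ finrank F (LinearMap.ker (f.flip z) ⊓ LinearMap.ker (f.flip x) : Submodule F M) + 2
    omega
  obtain ⟨d, hd, hdS⟩ : ∃ d ∈ R, d ∉ Submodule.span F ({z, x} : Set M) := by
    by_contra h
    simp only [not_exists, not_and, not_not] at h
    have h1 := Submodule.finrank_mono (show R ≤ Submodule.span F ({z, x} : Set M) from h)
    have h2 := finrank_span_finset_le_card (R := F) ({z, x} : Finset M)
    rw [Finset.coe_insert, Finset.coe_singleton] at h2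
    have h3 : ({z, x} : Finset M).card ≤ 2 := Finset.card_le_two
    have : finrank F (Submodule.span F ({z, x} : Set M)) ≤ 2 := h2.trans h3
    omega
  obtain ⟨d', hd', hne⟩ : ∃ d' ∈ R, f d' d ≠ 0 := by
    by_contra h
    simp only [not_exists, not_and, not_not] at h
    have hm : f.flip d ∈ Submodule.span F (Set.range ![f.flip z, f.flip x]) :=
      mem_span_of_iInf_ker_le_ker (L := ![f.flip z, f.flip x]) fun y hy => by
        simp only [Submodule.mem_iInf] at hy
        exact h y ⟨by simpa using hy 0, by simpa using hy 1⟩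
    rw [Matrix.range_cons, Matrix.range_cons, Matrix.range_empty, Set.union_empty, Set.singleton_union,
      Submodule.mem_span_pair] at hm
    obtain ⟨p, q, hpq⟩ := hm
    refine hdS (Submodule.mem_span_pair.2 ⟨p, q, sub_eq_zero.1 (hnd _ fun y => ?_)⟩)
    have h1 := LinearMap.congr_fun hpq y
    simp only [LinearMap.add_apply, LinearMap.smul_apply, LinearMap.flip_apply, smul_eq_mul] at h1
    simp only [map_sub, map_add, map_smul, LinearMap.sub_apply, LinearMap.add_apply, LinearMap.smul_apply,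
      smul_eq_mul, alt_swap f hf y z, alt_swap f hf y x, alt_swap f hf y d]
    linear_combination -h1
  exact ⟨d, (f d' d)⁻¹ • d', hd.1, hd.2, by simp [show f d' z = 0 from hd'.1],
    by simp [show f d' x = 0 from hd'.2], by simp [hne]⟩

end Alt

variable {F A B V : Type*} [Field F] [AddCommGroup A] [Module F A] [AddCommGroup B] [Module F B]
  [AddCommGroup V] [Module F V]

/-- The setting: an overgroup of the pure transvection maps in the orthogonal group of `A ⊗ B`. -/
structure SSData (T : Sys F A B V (RingHom.id F)) (Q : V → F) (H : Subgroup (V ≃ₗ[F] V)) : Prop where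
  good : T.Good (-1)
  altA : ∀ a, T.fA a a = 0
  altB : ∀ b, T.fB b b = 0
  q_add : ∀ x y, Q (x + y) = Q x + Q y + T.form x y
  q_tau : ∀ a b, Q (T.tau a b) = 0
  isom : ∀ g ∈ H, ∀ x, Q (g x) = Q x
  tvA : ∀ (p : A) (c : F), InH H fun x => x + c • T.tau p (T.C' p x)
  tvB : ∀ (z : B) (c : F), InH H fun x => x + c • T.tau (T.C z x) z
  dimA : 2 ≤ finrank F A
  dimB : 6 ≤ finrank F B
  lt : finrank F A < finrank F B
  big : finrank F A = 2 → ∃ R : F, R ≠ 0 ∧ R ≠ 1

/-- the long root element of a singular line -/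
def rootMap (T : Sys F A B V (RingHom.id F)) (u w : V) : V → V :=
  fun x => x + T.form x u • w - T.form x w • u

/-- no long root element of a line `p ⊗ ⟨z, d⟩` -/
def NoRoot (T : Sys F A B V (RingHom.id F)) (H : Subgroup (V ≃ₗ[F] V)) : Prop :=
  ∀ p z d, p ≠ 0 → z ≠ 0 → d ∉ Submodule.span F ({z} : Set B) → T.fB z d = 0 →
    ¬ InH H (rootMap T (T.tau p z) (T.tau p d))

/-- the element of `L` at a totally singular pair `z, d` -/
def eMap (T : Sys F A B V (RingHom.id F)) (z d : B) (L L' : A →ₗ[F] A) : V → V :=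
  fun x => x + T.tau (L (T.C z x)) d + T.tau (L' (T.C d x)) z

/-- the frame element of `X` at `z` -/
def fMap (T : Sys F A B V (RingHom.id F)) (z : B) (X : A →ₗ[F] A) : V → V :=
  fun x => x + T.tau (X (T.C z x)) z

namespace SSData

variable {T : Sys F A B V (RingHom.id F)} {Q : V → F} {H : Subgroup (V ≃ₗ[F] V)}

theorem ap_inv (g : V ≃ₗ[F] V) (x : V) : g (g⁻¹ x) = x := by
  rw [LinearEquiv.coe_inv, LinearEquiv.apply_symm_apply]

theorem inv_ap (g : V ≃ₗ[F] V) (x : V) : g⁻¹ (g x) = x := by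
  rw [LinearEquiv.coe_inv, LinearEquiv.symm_apply_apply]

theorem swapA (D : SSData T Q H) (x y : A) : T.fA y x = -T.fA x y := alt_swap T.fA D.altA x y

theorem swapB (D : SSData T Q H) (x y : B) : T.fB y x = -T.fB x y := alt_swap T.fB D.altB x y

theorem symV (D : SSData T Q H) (x y : V) : T.form y x = T.form x y := by
  have h1 := D.q_add x y
  rw [add_comm x y, D.q_add y x] at h1
  linear_combination h1

theorem formH (D : SSData T Q H) {g : V ≃ₗ[F] V} (hg : g ∈ H) (x y : V) :
    T.form (g x) (g y) = T.form x y := by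
  have h1 := D.isom g hg (x + y)
  rw [map_add, D.q_add, D.q_add, D.isom g hg, D.isom g hg] at h1
  exact add_left_cancel h1

/-- transvections of `A` are realised -/
theorem pureA_tv (D : SSData T Q H) (c : F) (p : A) :
    ∃ k ∈ H, ∀ a b, k (T.tau a b) = T.tau (altTv T.fA c p a) b := by
  obtain ⟨k, hk, hkx⟩ := D.tvA p c
  refine ⟨k, hk, fun a b => ?_⟩
  rw [hkx]; simp only []; rw [D.good.C'_tau, altTv_apply]
  simp [map_add, map_smul, smul_smul]

/-- transvections of `B` are realised -/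
theorem pureB_tv (D : SSData T Q H) (c : F) (s : B) :
    ∃ k ∈ H, ∀ a b, k (T.tau a b) = T.tau a (altTv T.fB c s b) := by
  obtain ⟨k, hk, hkx⟩ := D.tvB s c
  refine ⟨k, hk, fun a b => ?_⟩
  rw [hkx]; simp only []; rw [D.good.C_tau, altTv_apply]
  simp [map_add, map_smul, smul_smul]

/-- transitivity on the non-zero vectors of `B` -/
theorem transB (D : SSData T Q H) {y y' : B} (hy : y ≠ 0) (hy' : y' ≠ 0) :
    ∃ k ∈ H, ∃ f : B ≃ₗ[F] B, (∀ a b, k (T.tau a b) = T.tau a (f b)) ∧ f y = y' := by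
  refine trans_induction T.fB D.altB D.good.nondegB
    (P := fun x => ∃ k ∈ H, ∃ f : B ≃ₗ[F] B, (∀ a b, k (T.tau a b) = T.tau a (f b)) ∧ f y = x) ?_ hy hy'
    ⟨1, one_mem _, LinearEquiv.refl F B, fun a b => rfl, rfl⟩
  rintro c s x ⟨k, hk, f, hkf, hfy⟩
  obtain ⟨k', hk', hk'f⟩ := D.pureB_tv c s
  let g : B ≃ₗ[F] B := LinearEquiv.ofLinearMap (altTv T.fB c s) (altTv T.fB (-c) s)
    (LinearMap.ext (altTv_neg T.fB D.altB c s)) (LinearMap.ext (altTv_neg' T.fB D.altB c s))
  exact ⟨k' * k, mul_mem hk' hk, f.trans g, fun a b => by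
    rw [LinearEquiv.mul_apply, hkf, hk'f]; rfl, by rw [LinearEquiv.trans_apply, hfy]; rfl⟩

theorem C_conjB (D : SSData T Q H) {k : V ≃ₗ[F] V} {c : F} {s : B}
    (hk : ∀ a b, k (T.tau a b) = T.tau a (altTv T.fB c s b)) (z : B) (x : V) :
    T.C (altTv T.fB c s z) (k x) = T.C z x :=
  LinearMap.congr_fun (D.good.ext_tau (f := T.C (altTv T.fB c s z) ∘ₗ (k : V →ₗ[F] V)) (g := T.C z)
    fun a b => by
      show T.C (altTv T.fB c s z) (k (T.tau a b)) = T.C z (T.tau a b)
      rw [hk, D.good.C_tau, D.good.C_tau, altTv_isom T.fB D.altB]) x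

theorem C_conjA (D : SSData T Q H) {k : V ≃ₗ[F] V} {g : A →ₗ[F] A}
    (hk : ∀ a b, k (T.tau a b) = T.tau (g a) b) (z : B) (x : V) : T.C z (k x) = g (T.C z x) :=
  LinearMap.congr_fun (D.good.ext_tau (f := T.C z ∘ₗ (k : V →ₗ[F] V)) (g := g ∘ₗ T.C z) fun a b => by
      show T.C z (k (T.tau a b)) = g (T.C z (T.tau a b))
      rw [hk, D.good.C_tau, D.good.C_tau, map_smul]) x

theorem eMap_conjB (D : SSData T Q H) {z d : B} {L L' : A →ₗ[F] A} (h : InH H (eMap T z d L L'))
    (c : F) (s : B) : InH H (eMap T (altTv T.fB c s z) (altTv T.fB c s d) L L') := by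
  obtain ⟨e, he, hex⟩ := h
  obtain ⟨k, hk, hkf⟩ := D.pureB_tv c s
  refine ⟨k * e * k⁻¹, mul_mem (mul_mem hk he) (inv_mem hk), fun x => ?_⟩
  obtain ⟨x, rfl⟩ := k.surjective x
  show k (e (k⁻¹ (k x))) = _
  rw [inv_ap, hex, eMap, eMap, map_add, map_add, hkf, hkf, D.C_conjB hkf, D.C_conjB hkf]

theorem fMap_conjB (D : SSData T Q H) {z : B} {X : A →ₗ[F] A} (h : InH H (fMap T z X))
    (c : F) (s : B) : InH H (fMap T (altTv T.fB c s z) X) := by
  obtain ⟨e, he, hex⟩ := h
  obtain ⟨k, hk, hkf⟩ := D.pureB_tv c s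
  refine ⟨k * e * k⁻¹, mul_mem (mul_mem hk he) (inv_mem hk), fun x => ?_⟩
  obtain ⟨x, rfl⟩ := k.surjective x
  show k (e (k⁻¹ (k x))) = _
  rw [inv_ap, hex, fMap, fMap, map_add, hkf, D.C_conjB hkf]

end SSData

end CfsgLib.MaxSub.TForm
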