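import Cfsg.Agent.Lib.MaxSub.TFormSpBasic
import Cfsg.Agent.Lib.MaxSub.TFormOdd

/-!
Orthogonal ⊗ symplectic in odd characteristic: an overgroup without transvections at pure vectors consists of
pure maps.
-/

set_option autoImplicit false
set_option linter.unusedSectionVars false
set_option linter.unusedSimpArgs false
set_option linter.unusedVariables false
set_option linter.style.haveILetI false

namespace CfsgLib.MaxSub.TForm

open Module

variable {F A B V : Type*} [Field F] [AddCommGroup A] [Module F A] [AddCommGroup B] [Module F B]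
  [AddCommGroup V] [Module F V]

namespace SpData

variable {T : Sys F A B V (RingHom.id F)} {H : Subgroup (V ≃ₗ[F] V)}

theorem inv_ap {M : Type*} [AddCommGroup M] [Module F M] (g : M ≃ₗ[F] M) (x : M) : g (g⁻¹ x) = x := by
  rw [LinearEquiv.coe_inv, LinearEquiv.apply_symm_apply]

/-- a pure element of the first factor commutes with the contraction -/
theorem C_pureA (D : SpData T H) {g : A ≃ₗ[F] A} {k : V ≃ₗ[F] V}
    (hk : ∀ a b, k (T.tau a b) = T.tau (g a) b) (w : B) (x : V) : T.C w (k x) = g (T.C w x) :=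
  LinearMap.congr_fun (D.good.ext_tau (f := T.C w ∘ₗ (k : V →ₗ[F] V)) (g := g.toLinearMap ∘ₗ T.C w)
    fun a b => by simp [hk, D.good.C_tau]) x

theorem C_pureA_inv (D : SpData T H) {g : A ≃ₗ[F] A} {k : V ≃ₗ[F] V}
    (hk : ∀ a b, k (T.tau a b) = T.tau (g a) b) (w : B) (x : V) : T.C w (k⁻¹ x) = g.symm (T.C w x) := by
  apply g.injective
  rw [LinearEquiv.apply_symm_apply, ← D.C_pureA hk, inv_ap]

/-- the frames at `z` -/
def frames (D : SpData T H) (z : B) : AddSubgroup (Module.End F A) where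
  carrier := {X | InH H fun x => x + T.tau (X (T.C z x)) z}
  zero_mem' := ⟨1, one_mem _, fun x => by simp⟩
  add_mem' {X Y} hX hY := (InH.comp hX hY).congr fun x => by
    show x + T.tau (Y (T.C z x)) z + T.tau (X (T.C z (x + T.tau (Y (T.C z x)) z))) z = _
    simp [D.good.C_tau, D.altB, add_assoc, add_comm (T.tau (X (T.C z x)) z)]
  neg_mem' {X} hX := by
    obtain ⟨g, hg, hgx⟩ := hX
    refine ⟨g⁻¹, inv_mem hg, fun x => g.injective ?_⟩
    rw [inv_ap, hgx]
    simp [D.good.C_tau, D.altB]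

theorem frames_selfAdj (D : SpData T H) {z : B} (hz0 : z ≠ 0) {X : Module.End F A}
    (hX : X ∈ D.frames z) (a a' : A) : T.fA (X a) a' = T.fA a (X a') := by
  have hT := D.good
  obtain ⟨e, he, -⟩ := hT.exists_partner hz0
  obtain ⟨g, hg, hgx⟩ := hX
  have h := D.isom g hg (T.tau a e) (T.tau a' e)
  rw [hgx, hgx] at h
  simp only [map_add, LinearMap.add_apply, hT.form_tau, hT.C_tau, he, one_smul, D.altB,
    show T.fB z e = -1 by rw [D.swapB e z, he]] at h
  linear_combination -h

theorem frames_conj (D : SpData T H) {z : B} {g : A ≃ₗ[F] A}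
    (hg : ∀ a a', T.fA (g a) (g a') = T.fA a a') {X : Module.End F A} (hX : X ∈ D.frames z) :
    g.toLinearMap ∘ₗ X ∘ₗ g.symm.toLinearMap ∈ D.frames z := by
  obtain ⟨k, hk, hkab⟩ := D.pureA g hg
  obtain ⟨t, ht, htx⟩ := hX
  refine ⟨k * t * k⁻¹, mul_mem (mul_mem hk ht) (inv_mem hk), fun x => ?_⟩
  show k (t (k⁻¹ x)) = _
  rw [htx, map_add, inv_ap, hkab, D.C_pureA_inv hkab]
  rfl

variable [Finite F] [FiniteDimensional F A] [FiniteDimensional F B]

theorem ext_pair (D : SpData T H) {v u d : A} (hv : T.fA v v = 0) (hu : T.fA u u = 0)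
    (hvu : T.fA v u = 1) (huv : T.fA u v = 1) (h1 : T.fA d v = 0) (h2 : T.fA d u = 0)
    (h3 : ∀ r, T.fA r v = 0 → T.fA r u = 0 → T.fA d r = 0) : d = 0 := by
  refine D.good.nondegA d fun a => ?_
  have h := h3 (a - T.fA a u • v - T.fA a v • u) (by simp [hv, huv]) (by simp [hu, hvu])
  simpa [h1, h2] using h

theorem aniso_in_perp (D : SpData T H) {v u : A} (hv : T.fA v v = 0) (hu : T.fA u u = 0)
    (hvu : T.fA v u = 1) (huv : T.fA u v = 1) {r₀ : A} (h1 : T.fA r₀ v = 0) (h2 : T.fA r₀ u = 0)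
    (h0 : r₀ ≠ 0) :
    ∃ e, T.fA e v = 0 ∧ T.fA e u = 0 ∧ T.fA e e ≠ 0 ∧ T.fA r₀ e ≠ 0 := by
  obtain ⟨w, hwv, hwu, hw⟩ : ∃ w, T.fA w v = 0 ∧ T.fA w u = 0 ∧ T.fA r₀ w ≠ 0 := by
    by_contra hno
    simp only [not_exists, not_and, not_not] at hno
    exact h0 (D.ext_pair hv hu hvu huv h1 h2 hno)
  by_cases hw' : T.fA w w = 0
  swap
  · exact ⟨w, hwv, hwu, hw', hw⟩
  by_cases hr : T.fA r₀ r₀ = 0
  swap
  · exact ⟨r₀, h1, h2, hr, hr⟩
  refine ⟨r₀ + w, by simp [h1, hwv], by simp [h2, hwu], ?_, by simp [hr, hw]⟩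
  simp only [map_add, LinearMap.add_apply, hw', hr, D.symA r₀ w, zero_add, add_zero]
  intro h
  exact hw ((mul_eq_zero.1 (show (2 : F) * T.fA r₀ w = 0 by linear_combination h)).resolve_left D.two)

/-- self-adjoint maps commuting with the Eichler group of `v` up to scalars -/
theorem fixed_sym (D : SpData T H) {v u : A} (hv : T.fA v v = 0) (hu : T.fA u u = 0)
    (hvu : T.fA v u = 1) (huv : T.fA u v = 1) {X : Module.End F A}
    (hX : ∀ a a', T.fA (X a) a' = T.fA a (X a'))
    (hfix : ∀ r, T.fA r v = 0 → T.fA r u = 0 → ∃ l : F, ∀ a,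
      eichA T v r (X a) - X (eichA T v r a) = l • eichA T v r a) :
    ∃ s t : F, ∀ a, X a = s • a + (t * T.fA a v) • v := by
  have h2 := D.two
  set x := X v with hx
  have E : ∀ r a, eichA T v r a = a + T.fA a v • r - (T.fA a r + T.fA r r / 2 * T.fA a v) • v :=
    fun r a => eichA_apply v r a
  -- some anisotropic vector of the middle
  obtain ⟨e₀, he₀v, he₀u, he₀⟩ : ∃ e, T.fA e v = 0 ∧ T.fA e u = 0 ∧ T.fA e e ≠ 0 := by
    obtain ⟨r, hr, hr0⟩ : ∃ r ∈ perpA T ![v, u], r ≠ 0 := Submodule.exists_mem_ne_zero_of_ne_bot fun h => by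
      have h' := le_finrank_perpA (T := T) ![v, u]
      have := D.dimA
      rw [h, finrank_bot] at h'
      omega
    obtain ⟨e, h1, h2', h3, -⟩ := D.aniso_in_perp hv hu hvu huv (mem_perpA.1 hr 0) (mem_perpA.1 hr 1) hr0
    exact ⟨e, h1, h2', h3⟩
  -- the equation at `v`
  have hk0 : T.fA x v = 0 := by
    obtain ⟨l, hl⟩ := hfix e₀ he₀v he₀u
    have h := congrArg (fun y => T.fA y e₀) (hl v)
    simp only [E, ← hx, hv, D.symA e₀ v, he₀v, map_add, map_sub, map_smul, LinearMap.add_apply,
      LinearMap.sub_apply, LinearMap.smul_apply, smul_eq_mul, mul_zero, zero_smul, add_zero, sub_zero,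
      map_zero, zero_mul] at h
    exact (mul_eq_zero.1 (show T.fA x v * T.fA e₀ e₀ = 0 by linear_combination h)).resolve_right he₀
  have hlam : ∀ r, T.fA r v = 0 → T.fA r u = 0 → ∀ l : F,
      (∀ a, eichA T v r (X a) - X (eichA T v r a) = l • eichA T v r a) → l = -T.fA x r := by
    intro r hr hru l hl
    have h := congrArg (fun y => T.fA y u) (hl v)
    simp only [E, ← hx, hv, hk0, D.symA r v, hr, map_add, map_sub, map_smul, LinearMap.add_apply,
      LinearMap.sub_apply, LinearMap.smul_apply, smul_eq_mul, mul_zero, zero_smul, add_zero, sub_zero,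
      map_zero, hvu, mul_one] at h
    linear_combination -h
  -- the equation at `u`
  have hu' : ∀ r, T.fA r v = 0 → T.fA r u = 0 →
      2 * T.fA (X u) r = -(T.fA r r / 2 * T.fA x r) := by
    intro r hr hru
    obtain ⟨l, hl⟩ := hfix r hr hru
    have hll := hlam r hr hru l hl
    have h := congrArg (fun y => T.fA y u) (hl u)
    have hs : T.fA (X u) v = T.fA u x := hX u v
    simp only [E, hu, huv, hvu, hru, D.symA r u, map_add, map_sub, map_smul, LinearMap.add_apply,
      LinearMap.sub_apply, LinearMap.smul_apply, smul_eq_mul, ← hx, hs, mul_zero, zero_add, mul_one,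
      one_smul, one_mul] at h
    have hXr : T.fA (X r) u = T.fA (X u) r := by rw [hX, D.symA (X u) r]
    rw [hXr, hll, D.symA x u] at h
    linear_combination -h
  -- the equations in the middle
  have hmid : ∀ r, T.fA r v = 0 → T.fA r u = 0 → ∀ w, T.fA w v = 0 → T.fA w u = 0 → ∀ c,
      T.fA c v = 0 →
      T.fA w x * T.fA r c + T.fA w r * T.fA x c = -T.fA x r * T.fA w c := by
    intro r hr hru w hw hwu c hc
    obtain ⟨l, hl⟩ := hfix r hr hru
    have hll := hlam r hr hru l hl
    have h := congrArg (fun y => T.fA y c) (hl w)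
    simp only [E, hw, map_add, map_sub, map_smul, LinearMap.add_apply, LinearMap.sub_apply,
      LinearMap.smul_apply, smul_eq_mul, ← hx, D.symA c v, hc, hX w v, mul_zero, zero_smul, add_zero,
      sub_zero, hll, map_zero, zero_mul] at h
    linear_combination h
  have hxr : ∀ r, T.fA r v = 0 → T.fA r u = 0 → T.fA x r = 0 := by
    intro r hr hru
    by_contra hne
    obtain ⟨e, hev, heu, hee, hre⟩ := D.aniso_in_perp hv hu hvu huv
      (r₀ := x - T.fA x u • v) (by simp [hk0, hv]) (by simp [hvu]) (fun e0 => hne (by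
        rw [sub_eq_zero] at e0
        rw [e0, map_smul, LinearMap.smul_apply, D.symA r v, hr, smul_zero]))
    have hxe : T.fA x e ≠ 0 := by
      intro e0; apply hre
      simp [e0, D.symA e v, hev]
    rcases Nat.lt_or_ge (finrank F A) 4 with h4 | h4
    · -- dimension three: scale
      obtain ⟨R, hR0, hR1⟩ := D.big (by have := D.dimA; omega)
      have e1 := hu' e hev heu
      have e2 := hu' (R • e) (by simp [hev]) (by simp [heu])
      simp only [map_smul, LinearMap.smul_apply, map_smulₛₗ, RingHom.id_apply, smul_eq_mul] at e2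
      have e3 : (R * (R * R - 1)) * (T.fA e e / 2 * T.fA x e) = 0 := by
        linear_combination e2 - R * e1
      refine mul_ne_zero (mul_ne_zero hR0 (sub_ne_zero.2 hR1)) ?_ e3
      exact mul_ne_zero (div_ne_zero hee h2) hxe
    · -- a second direction
      obtain ⟨f, hf, hf0⟩ : ∃ f ∈ perpA T ![v, u, e], f ≠ 0 :=
        Submodule.exists_mem_ne_zero_of_ne_bot fun h => by
          have h' := le_finrank_perpA (T := T) ![v, u, e]
          rw [h, finrank_bot] at h'
          omega
      have hfv : T.fA f v = 0 := mem_perpA.1 hf 0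
      have hfu : T.fA f u = 0 := mem_perpA.1 hf 1
      have hfe : T.fA f e = 0 := mem_perpA.1 hf 2
      obtain ⟨f', hf'v, hf'u, hf'f', hf'⟩ := D.aniso_in_perp hv hu hvu huv hfv hfu hf0
      set f'' := f' - (T.fA f' e / T.fA e e) • e with hf''
      have hf''v : T.fA f'' v = 0 := by simp [hf'', hf'v, hev]
      have hf''e : T.fA f'' e = 0 := by
        rw [hf'', map_sub, map_smul, LinearMap.sub_apply, LinearMap.smul_apply, smul_eq_mul,
          div_mul_cancel₀ _ hee, sub_self]
      have hf''u : T.fA f'' u = 0 := by simp [hf'', hf'u, heu]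
      have hf''0 : T.fA f f'' ≠ 0 := by simp [hf'', hfe, hf']
      have h1 := hmid f'' hf''v hf''u e hev heu f hfv
      rw [D.symA f'' e, hf''e, D.symA f e, hfe, D.symA x e] at h1
      refine hxe ((mul_eq_zero.1 (show T.fA x e * T.fA f'' f = 0 by linear_combination h1)).resolve_right ?_)
      rwa [D.symA f f'']
  set s := T.fA x u with hs
  have hxs : x = s • v := sub_eq_zero.1 (D.ext_pair hv hu hvu huv (by simp [hk0, hv]) (by simp [hvu, hs])
    fun r hr hru => by
      rw [map_sub, map_smul, LinearMap.sub_apply, LinearMap.smul_apply, hxr r hr hru, D.symA r v, hr,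
        smul_zero, sub_zero])
  have hη : ∀ w r, T.fA w v = 0 → T.fA w u = 0 → T.fA r v = 0 → T.fA r u = 0 →
      T.fA (X w) r = s * T.fA w r := by
    intro w r hw hwu hr hru
    obtain ⟨l, hl⟩ := hfix r hr hru
    have hll := hlam r hr hru l hl
    rw [hxr r hr hru, neg_zero] at hll
    have h := congrArg (fun y => T.fA y u) (hl w)
    have hwx : T.fA w x = 0 := by rw [hxs, map_smul, hw, smul_zero]
    simp only [E, hw, hll, zero_smul, map_zero, LinearMap.zero_apply, map_add, map_sub, map_smul,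
      LinearMap.add_apply, LinearMap.sub_apply, LinearMap.smul_apply, smul_eq_mul, ← hx, hru, hvu,
      hX w v, hwx, mul_zero, add_zero, mul_one, sub_zero, ← hs] at h
    linear_combination -h
  refine ⟨s, T.fA (X u) u, fun a => ?_⟩
  set α := T.fA a v with hα
  set w := a - T.fA a u • v - α • u with hw
  have hwv : T.fA w v = 0 := by simp [hw, hv, huv, ← hα]
  have hwu : T.fA w u = 0 := by simp [hw, hu, hvu]
  have ha : a = w + T.fA a u • v + α • u := by rw [hw]; abel
  have hXa : X a = X w + (T.fA a u * s) • v + α • X u := by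
    conv_lhs => rw [ha]
    simp only [map_add, map_smul, ← hx, hxs, smul_smul]
  have a1 : T.fA (X w) v = 0 := by rw [hX, ← hx, hxs, map_smul, hwv, smul_zero]
  have a2 : ∀ r, T.fA r v = 0 → T.fA r u = 0 → T.fA (X u) r = 0 := fun r hr hru => by
    have h := hu' r hr hru
    rw [hxr r hr hru, mul_zero, neg_zero] at h
    exact (mul_eq_zero.1 h).resolve_left h2
  have a3 : T.fA (X w) u = 0 := by rw [hX, D.symA]; exact a2 w hwv hwu
  have a4 : T.fA (X u) v = s := by rw [hX, ← hx, D.symA x u, ← hs]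
  refine sub_eq_zero.1 (D.ext_pair hv hu hvu huv ?_ ?_ fun r hr hru => ?_)
  · simp only [hXa, map_add, map_sub, map_smul, LinearMap.add_apply, LinearMap.sub_apply,
      LinearMap.smul_apply, smul_eq_mul, hv, a1, a4, ← hα]
    ring
  · simp only [hXa, map_add, map_sub, map_smul, LinearMap.add_apply, LinearMap.sub_apply,
      LinearMap.smul_apply, smul_eq_mul, hvu, a3]
    ring
  · have hwr : T.fA w r = T.fA a r := by simp [hw, D.symA r v, hr, D.symA r u, hru]
    simp only [hXa, map_add, map_sub, map_smul, LinearMap.add_apply, LinearMap.sub_apply,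
      LinearMap.smul_apply, smul_eq_mul, D.symA r v, hr, hη w r hwv hwu hr hru, a2 r hr hru, hwr]
    ring

/-- skew maps commuting with the Eichler group of `v` -/
theorem fixed_skew (D : SpData T H) {v u : A} (hv : T.fA v v = 0) (hu : T.fA u u = 0)
    (hvu : T.fA v u = 1) (huv : T.fA u v = 1) {L : Module.End F A}
    (hL : ∀ a a', T.fA (L a) a' = -T.fA a (L a'))
    (hfix : ∀ r, T.fA r v = 0 → T.fA r u = 0 → ∀ a, eichA T v r (L a) = L (eichA T v r a)) :
    ∃ r₀, T.fA r₀ v = 0 ∧ T.fA r₀ u = 0 ∧ ∀ a, L a = T.fA a v • r₀ - T.fA a r₀ • v := by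
  have h2 := D.two
  have hdiag : ∀ a, T.fA (L a) a = 0 := fun a => by
    have h := hL a a
    rw [D.symA (L a) a] at h
    exact (mul_eq_zero.1 (show (2 : F) * T.fA (L a) a = 0 by linear_combination h)).resolve_left h2
  set x := L v with hx
  have E : ∀ r a, eichA T v r a = a + T.fA a v • r - (T.fA a r + T.fA r r / 2 * T.fA a v) • v :=
    fun r a => eichA_apply v r a
  have hxv : T.fA x v = 0 := hdiag v
  have hxr : ∀ r, T.fA r v = 0 → T.fA r u = 0 → T.fA x r = 0 := fun r hr hru => by
    have h := congrArg (fun y => T.fA y u) (hfix r hr hru v)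
    simp only [E, ← hx, hv, hxv, D.symA r v, hr, map_add, map_sub, map_smul, LinearMap.add_apply,
      LinearMap.sub_apply, LinearMap.smul_apply, smul_eq_mul, mul_zero, zero_smul, add_zero, sub_zero,
      map_zero, hvu, mul_one] at h
    linear_combination -h
  set s := T.fA x u with hs
  have hxs : x = s • v := sub_eq_zero.1 (D.ext_pair hv hu hvu huv (by simp [hxv, hv]) (by simp [hvu, hs])
    fun r hr hru => by
      rw [map_sub, map_smul, LinearMap.sub_apply, LinearMap.smul_apply, hxr r hr hru, D.symA r v, hr,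
        smul_zero, sub_zero])
  have hη : ∀ w r, T.fA w v = 0 → T.fA w u = 0 → T.fA r v = 0 → T.fA r u = 0 →
      T.fA (L w) r = s * T.fA w r := by
    intro w r hw hwu hr hru
    have h := congrArg (fun y => T.fA y u) (hfix r hr hru w)
    have hwx : T.fA w x = 0 := by rw [hxs, map_smul, hw, smul_zero]
    simp only [E, hw, zero_smul, map_add, map_sub, map_smul, LinearMap.add_apply, LinearMap.sub_apply,
      LinearMap.smul_apply, smul_eq_mul, ← hx, hru, hvu, hL w v, hwx, neg_zero, mul_zero, add_zero,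
      mul_one, sub_zero, ← hs, map_zero] at h
    linear_combination -h
  have hs0 : s = 0 := by
    obtain ⟨r, hr, hr0⟩ : ∃ r ∈ perpA T ![v, u], r ≠ 0 := Submodule.exists_mem_ne_zero_of_ne_bot fun h => by
      have h' := le_finrank_perpA (T := T) ![v, u]
      have := D.dimA
      rw [h, finrank_bot] at h'
      omega
    obtain ⟨e, hev, heu, hee, -⟩ := D.aniso_in_perp hv hu hvu huv (mem_perpA.1 hr 0) (mem_perpA.1 hr 1) hr0
    have h := hη e e hev heu hev heu
    rw [hdiag, eq_comm, mul_eq_zero] at h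
    exact h.resolve_right hee
  have hx0 : x = 0 := by rw [hxs, hs0, zero_smul]
  have h1 : T.fA (L u) v = 0 := by rw [hL, ← hx, hx0, map_zero, neg_zero]
  refine ⟨L u, h1, hdiag u, fun a => ?_⟩
  set w := a - T.fA a u • v - T.fA a v • u with hw
  have hwv : T.fA w v = 0 := by simp [hw, hv, huv]
  have hwu : T.fA w u = 0 := by simp [hw, hu, hvu]
  have hLa : L a = L w + T.fA a v • L u := by
    have ha : a = w + T.fA a u • v + T.fA a v • u := by rw [hw]; abel
    conv_lhs => rw [ha]
    simp only [map_add, map_smul, ← hx, hx0, smul_zero, add_zero]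
  have a1 : T.fA (L w) v = 0 := by rw [hL, ← hx, hx0, map_zero, neg_zero]
  have a3 : T.fA (L w) u = -T.fA a (L u) := by
    rw [hL, neg_inj, hw]
    simp [D.symA (L u) v, h1, D.symA (L u) u, hdiag u]
  refine sub_eq_zero.1 (D.ext_pair hv hu hvu huv ?_ ?_ fun r hr hru => ?_)
  · simp only [hLa, map_add, map_sub, map_smul, LinearMap.add_apply, LinearMap.sub_apply,
      LinearMap.smul_apply, smul_eq_mul, hv, a1, h1]
    ring
  · simp only [hLa, map_add, map_sub, map_smul, LinearMap.add_apply, LinearMap.sub_apply,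
      LinearMap.smul_apply, smul_eq_mul, hvu, a3, hdiag u]
    ring
  · simp only [hLa, map_add, map_sub, map_smul, LinearMap.add_apply, LinearMap.sub_apply,
      LinearMap.smul_apply, smul_eq_mul, D.symA r v, hr, hη w r hwv hwu hr hru, hs0]
    ring

/-- the Eichler group of `v` as automorphisms -/
theorem exists_eichEquiv (D : SpData T H) {v u : A} (hv : T.fA v v = 0) :
    ∃ G : perpA T ![v, u] → (A ≃ₗ[F] A),
      (∀ r a, G r a = eichA T v r a) ∧ (∀ r a, (G r).symm a = eichA T v (-(r : A)) a) ∧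
      ∀ r a a', T.fA (G r a) (G r a') = T.fA a a' := by
  have hrv : ∀ r : perpA T ![v, u], T.fA (r : A) v = 0 := fun r => mem_perpA.1 r.2 0
  refine ⟨fun r => LinearEquiv.ofLinearMap (eichA T v r) (eichA T v (-(r : A)))
    (LinearMap.ext fun a => ?_) (LinearMap.ext fun a => ?_), fun r a => rfl, fun r a => rfl,
    fun r a a' => D.eichA_isom hv (hrv r) a a'⟩
  · rw [LinearMap.comp_apply, D.eichA_comp hv (hrv r) (by simp [hrv r]), add_neg_cancel, eichA_zero,
      LinearMap.id_apply]
  · rw [LinearMap.comp_apply, D.eichA_comp hv (by simp [hrv r]) (hrv r), neg_add_cancel, eichA_zero,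
      LinearMap.id_apply]

/-- conjugation-invariant additive groups of maps have members fixed modulo an invariant part -/
theorem exists_fixed_conj (D : SpData T H) {v u : A} (hv : T.fA v v = 0)
    (X S : AddSubgroup (Module.End F A))
    (hX : ∀ g : A ≃ₗ[F] A, (∀ a a', T.fA (g a) (g a') = T.fA a a') → ∀ Y ∈ X,
      g.toLinearMap ∘ₗ Y ∘ₗ g.symm.toLinearMap ∈ X)
    (hS : ∀ g : A ≃ₗ[F] A, (∀ a a', T.fA (g a) (g a') = T.fA a a') → ∀ Y ∈ S,
      g.toLinearMap ∘ₗ Y ∘ₗ g.symm.toLinearMap ∈ S)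
    {X₀ : Module.End F A} (h₀ : X₀ ∈ X) (h₀S : X₀ ∉ S) :
    ∃ Y ∈ X, Y ∉ S ∧ ∀ r, T.fA r v = 0 → T.fA r u = 0 → ∃ Z ∈ S, ∀ a,
      eichA T v r (Y a) - Y (eichA T v r a) = Z (eichA T v r a) := by
  obtain ⟨p, hp⟩ := CharP.exists F
  haveI := hp
  haveI : Fact p.Prime := ⟨CharP.char_is_prime F p⟩
  haveI : Finite A := Module.finite_of_finite F
  haveI : Finite (Module.End F A) := Finite.of_injective _ DFunLike.coe_injective
  obtain ⟨G, hG, hGs, hGi⟩ := D.exists_eichEquiv (u := u) hv
  have hrv : ∀ r : perpA T ![v, u], T.fA (r : A) v = 0 := fun r => mem_perpA.1 r.2 0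
  let ρ : perpA T ![v, u] → Module.End F A →+ Module.End F A := fun r =>
    { toFun := fun Y => (G r).toLinearMap ∘ₗ Y ∘ₗ (G r).symm.toLinearMap
      map_zero' := by ext a; simp
      map_add' := fun Y Z => by ext a; simp }
  obtain ⟨Y, hY, hYS, hfix⟩ := exists_fixed_mod (p := p)
    (fun w => by rw [← Nat.cast_smul_eq_nsmul F, CharP.cast_eq_zero, zero_smul])
    (fun Y => by rw [← Nat.cast_smul_eq_nsmul F, CharP.cast_eq_zero, zero_smul]) ρ
    (fun Y => LinearMap.ext fun a => by
      show G 0 (Y ((G 0).symm a)) = Y a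
      simp [hG, hGs, eichA_zero])
    (fun r s Y => LinearMap.ext fun a => by
      show G (r + s) (Y ((G (r + s)).symm a)) = G r (G s (Y ((G s).symm ((G r).symm a))))
      simp only [hG, hGs, Submodule.coe_add, neg_add_rev]
      rw [D.eichA_comp hv (hrv r) (hrv s), D.eichA_comp hv (by simp [hrv s]) (by simp [hrv r])])
    X S (fun r Y hY => hX _ (hGi r) Y hY) (fun r Y hY => hS _ (hGi r) Y hY) h₀ h₀S
  refine ⟨Y, hY, hYS, fun r hr hru => ?_⟩
  let r' : perpA T ![v, u] := ⟨r, mem_perpA.2 fun i => by fin_cases i; exacts [hr, hru]⟩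
  refine ⟨_, hfix r', fun a => ?_⟩
  show _ = G r' (Y ((G r').symm (eichA T v r a))) - Y (eichA T v r a)
  rw [← show G r' a = eichA T v r a from hG r' a, LinearEquiv.symm_apply_apply, hG, hG]

/-- frames are scalar -/
theorem frame_scalar (D : SpData T H) (hno : NoTvSp T H) {z : B} (hz0 : z ≠ 0) {X : Module.End F A}
    (hX : X ∈ D.frames z) : ∃ k : F, ∀ a, X a = k • a := by
  by_contra hns
  obtain ⟨v, hv0, hv⟩ := D.exists_iso
  obtain ⟨u, hu, hvu, huv⟩ := D.partnerA hv0 hv
  let S : AddSubgroup (Module.End F A) :=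
    { carrier := {X | ∃ k : F, ∀ a, X a = k • a}
      zero_mem' := ⟨0, fun a => by simp⟩
      add_mem' := by
        rintro X Y ⟨k, hk⟩ ⟨l, hl⟩
        exact ⟨k + l, fun a => by simp [hk, hl, add_smul]⟩
      neg_mem' := by
        rintro X ⟨k, hk⟩
        exact ⟨-k, fun a => by simp [hk]⟩ }
  obtain ⟨Y, hY, hYS, hfix⟩ := D.exists_fixed_conj (u := u) hv (D.frames z) S
    (fun g hg Y hY => D.frames_conj hg hY)
    (fun g hg Y ⟨k, hk⟩ => ⟨k, fun a => by simp [hk]⟩) hX hns
  obtain ⟨s, t, hst⟩ := D.fixed_sym hv hu hvu huv (D.frames_selfAdj hz0 hY) fun r hr hru => by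
    obtain ⟨Z, ⟨k, hk⟩, hZ⟩ := hfix r hr hru
    exact ⟨k, fun a => by rw [hZ, hk]⟩
  have ht : t ≠ 0 := fun e => hYS ⟨s, fun a => by rw [hst, e, zero_mul, zero_smul, add_zero]⟩
  have hsI : (s • LinearMap.id : Module.End F A) ∈ D.frames z := (D.tvB z s).congr fun x => by
    simp [map_smul, LinearMap.smul_apply]
  obtain ⟨g, hg, hgx⟩ := (D.frames z).sub_mem hY hsI
  refine hno z hz0 v hv hv0 t ht ⟨g, hg, fun x => ?_⟩
  rw [hgx]; dsimp only; rw [D.good.form_C]
  simp [hst, map_smul, LinearMap.smul_apply]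

/-- the Siegel maps between two orthogonal pencils, skew part -/
def sieg (D : SpData T H) (z w : B) (hwz : T.fB w z = 0) : AddSubgroup (Module.End F A) where
  carrier := {L | (∀ a a', T.fA (L a) a' = -T.fA a (L a')) ∧
    InH H fun x => x - T.tau (L (T.C z x)) w + T.tau (L (T.C w x)) z}
  zero_mem' := ⟨fun a a' => by simp, 1, one_mem _, fun x => by simp⟩
  add_mem' {L M} hL hM := ⟨fun a a' => by simp [hL.1, hM.1, add_comm], (InH.comp hL.2 hM.2).congr fun x => by
    simp [D.good.C_tau, D.altB, hwz, D.good.B_flip_zero hwz]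
    abel⟩
  neg_mem' {L} hL := ⟨fun a a' => by simp [hL.1], by
    obtain ⟨g, hg, hgx⟩ := hL.2
    refine ⟨g⁻¹, inv_mem hg, fun x => g.injective ?_⟩
    rw [inv_ap, hgx]
    simp [D.good.C_tau, D.altB, hwz, D.good.B_flip_zero hwz]
    abel⟩

theorem sieg_conj (D : SpData T H) {z w : B} {hwz : T.fB w z = 0} {g : A ≃ₗ[F] A}
    (hg : ∀ a a', T.fA (g a) (g a') = T.fA a a') {L : Module.End F A} (hL : L ∈ D.sieg z w hwz) :
    g.toLinearMap ∘ₗ L ∘ₗ g.symm.toLinearMap ∈ D.sieg z w hwz := by
  obtain ⟨hskew, hH⟩ := hL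
  refine ⟨fun a a' => ?_, ?_⟩
  · show T.fA (g (L (g.symm a))) a' = -T.fA a (g (L (g.symm a')))
    calc T.fA (g (L (g.symm a))) a' = T.fA (g (L (g.symm a))) (g (g.symm a')) := by
          rw [LinearEquiv.apply_symm_apply]
      _ = -T.fA (g.symm a) (L (g.symm a')) := by rw [hg, hskew]
      _ = -T.fA (g (g.symm a)) (g (L (g.symm a'))) := by rw [hg]
      _ = _ := by rw [LinearEquiv.apply_symm_apply]
  · obtain ⟨k, hk, hkab⟩ := D.pureA g hg
    obtain ⟨t, ht, htx⟩ := hH
    refine ⟨k * t * k⁻¹, mul_mem (mul_mem hk ht) (inv_mem hk), fun x => ?_⟩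
    show k (t (k⁻¹ x)) = _
    rw [htx, map_add, map_sub, inv_ap, hkab, hkab, D.C_pureA_inv hkab, D.C_pureA_inv hkab]
    rfl

/-- the Siegel maps are scalar -/
theorem sieg_zero (D : SpData T H) (hno : NoTvSp T H) {z w : B} (hz0 : z ≠ 0) (hwz : T.fB w z = 0)
    (hw : ∀ l : F, w ≠ l • z) {L : Module.End F A} (hL : L ∈ D.sieg z w hwz) : L = 0 := by
  by_contra hL0
  have hT := D.good
  obtain ⟨v, hv0, hv⟩ := D.exists_iso
  obtain ⟨u, hu, hvu, huv⟩ := D.partnerA hv0 hv
  obtain ⟨Y, hY, hY0, hfix⟩ := D.exists_fixed_conj (u := u) hv (D.sieg z w hwz) ⊥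
    (fun g hg Y hY => D.sieg_conj hg hY)
    (fun g hg Y hY => by
      rw [AddSubgroup.mem_bot] at hY
      rw [hY, AddSubgroup.mem_bot]
      ext a; simp) hL (by rwa [AddSubgroup.mem_bot])
  obtain ⟨r₀, hr₀v, hr₀u, hYr⟩ := D.fixed_skew hv hu hvu huv hY.1 fun r hr hru a => by
    obtain ⟨Z, hZ, hZa⟩ := hfix r hr hru
    rw [AddSubgroup.mem_bot] at hZ
    have := hZa a
    rwa [hZ, LinearMap.zero_apply, sub_eq_zero] at this
  have hr₀0 : r₀ ≠ 0 := fun e => hY0 (by
    rw [AddSubgroup.mem_bot]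
    ext a
    rw [hYr, e, map_zero, smul_zero, zero_smul, sub_zero, LinearMap.zero_apply])
  -- a conjugate seeing it
  obtain ⟨M, r₁, hM, hMr, hrr⟩ : ∃ (M : Module.End F A) (r₁ : A), M ∈ D.sieg z w hwz ∧
      (∀ a, M a = T.fA a v • r₁ - T.fA a r₁ • v) ∧ T.fA r₁ v = 0 ∧ T.fA r₀ r₁ ≠ 0 := by
    by_cases hr : T.fA r₀ r₀ = 0
    swap
    · exact ⟨Y, r₀, hY, hYr, hr₀v, hr⟩
    obtain ⟨e, hev, -, hee, hre⟩ := D.aniso_in_perp hv hu hvu huv hr₀v hr₀u hr₀0
    obtain ⟨g, hg, hga⟩ := D.exists_refl hee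
    refine ⟨g.toLinearMap ∘ₗ Y ∘ₗ g.symm.toLinearMap, g r₀, D.sieg_conj hg hY, fun a => ?_, ?_, ?_⟩
    · have hgv : g v = v := by rw [hga, D.symA e v, hev]; simp
      show g (Y (g.symm a)) = _
      have e1 : T.fA (g.symm a) v = T.fA a v := by
        conv_rhs => rw [← LinearEquiv.apply_symm_apply g a, ← hgv, hg]
      have e2 : T.fA (g.symm a) r₀ = T.fA a (g r₀) := by
        conv_rhs => rw [← LinearEquiv.apply_symm_apply g a, hg]
      rw [hYr, map_sub, map_smul, map_smul, hgv, e1, e2]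
    · rw [hga]; simp [hr₀v, hev]
    · rw [hga, map_sub, map_smul, hr, zero_sub, neg_ne_zero, smul_eq_mul]
      exact mul_ne_zero (div_ne_zero (mul_ne_zero D.two hre) hee) hre
  -- move the second pencil
  obtain ⟨w', hw'z, hww'⟩ : ∃ w', T.fB w' z = 0 ∧ T.fB w w' = 1 := by
    obtain ⟨b, hb, hwb⟩ : ∃ b, T.fB b z = 0 ∧ T.fB w b ≠ 0 := by
      by_contra hno'
      simp only [not_exists, not_and, not_not] at hno'
      obtain ⟨e, he, he'⟩ := hT.exists_partner hz0
      refine hw (-T.fB w e) (sub_eq_zero.1 (hT.nondegB _ fun b => ?_))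
      have h := hno' (b - T.fB b z • e) (by simp [he])
      rw [map_sub, map_smul, smul_eq_mul] at h
      rw [map_sub, map_smul, LinearMap.sub_apply, LinearMap.smul_apply, smul_eq_mul, D.swapB b z]
      linear_combination h
    exact ⟨(T.fB w b)⁻¹ • b, by simp [hb], by rw [map_smul, smul_eq_mul, inv_mul_cancel₀ hwb]⟩
  have hw'w : T.fB w' w = -1 := by rw [D.swapB w w', hww']
  have hzw := hT.B_flip_zero hwz
  have hzw' := hT.B_flip_zero hw'z
  have hM' : InH H fun x => x - T.tau (M (T.C z x)) w' + T.tau (M (T.C w' x)) z := by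
    obtain ⟨k, hk, hkx⟩ := D.tvB (w' - w) 1
    replace hkx : ∀ v, k v = v + (1 : F) • T.tau (T.C (w' - w) v) (w' - w) := hkx
    have hkτ : ∀ a b, k (T.tau a b) = T.tau a (b + T.fB b (w' - w) • (w' - w)) := fun a b => by
      rw [hkx, one_smul, hT.C_tau, map_smul, LinearMap.smul_apply, map_add, map_smul]
    have hC : ∀ b x, T.C (b + T.fB b (w' - w) • (w' - w)) (k x) = T.C b x := fun b x =>
      LinearMap.congr_fun (hT.ext_tau (f := T.C (b + T.fB b (w' - w) • (w' - w)) ∘ₗ (k : V →ₗ[F] V))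
        (g := T.C b) fun a c => by
          show T.C _ (k (T.tau a c)) = _
          rw [hkτ, hT.C_tau, hT.C_tau]
          congr 1
          simp only [map_add, map_smul, map_smulₛₗ, LinearMap.add_apply, LinearMap.smul_apply,
            smul_eq_mul, RingHom.id_apply, D.altB, mul_zero, add_zero]
          rw [D.swapB b (w' - w)]
          ring) x
    have hfw : w + T.fB w (w' - w) • (w' - w) = w' := by
      rw [map_sub (T.fB w), hww', D.altB, sub_zero, one_smul, add_sub_cancel]
    have hfz : z + T.fB z (w' - w) • (w' - w) = z := by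
      rw [map_sub (T.fB z), hzw, hzw', sub_zero, zero_smul, add_zero]
    obtain ⟨t, ht, htx⟩ := hM.2
    refine ⟨k * t * k⁻¹, mul_mem (mul_mem hk ht) (inv_mem hk), fun x => ?_⟩
    have hCw := hC w (k⁻¹ x)
    have hCz := hC z (k⁻¹ x)
    rw [hfw, inv_ap] at hCw
    rw [hfz, inv_ap] at hCz
    show k (t (k⁻¹ x)) = _
    rw [htx, map_add, map_sub, inv_ap, hkτ, hkτ, hfw, hfz, ← hCw, ← hCz]
  -- the commutator is a transvection
  obtain ⟨P, hP, hPx⟩ := hY.2
  obtain ⟨Q, hQ, hQx⟩ := hM'
  replace hPx : ∀ x, P x = x - T.tau (Y (T.C z x)) w + T.tau (Y (T.C w x)) z := hPx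
  replace hQx : ∀ x, Q x = x - T.tau (M (T.C z x)) w' + T.tau (M (T.C w' x)) z := hQx
  refine hno z hz0 v hv hv0 (-2 * T.fA r₀ r₁) (mul_ne_zero (neg_ne_zero.2 D.two) hrr.2)
    ⟨P * Q * (Q * P)⁻¹, mul_mem (mul_mem hP hQ) (inv_mem (mul_mem hQ hP)), fun x => ?_⟩
  obtain ⟨y, rfl⟩ := (Q * P).surjective x
  rw [LinearEquiv.mul_apply (P * Q), LinearEquiv.coe_inv, LinearEquiv.symm_apply_apply]
  show P (Q y) = Q (P y) + ((-2 * T.fA r₀ r₁) * T.form (Q (P y)) (T.tau v z)) • T.tau v z
  rw [hT.form_C]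
  simp only [hPx, hQx, map_add, map_sub, hT.C_tau, D.altB, hwz, hzw, hw'z, hzw', hw'w, hww', zero_smul,
    sub_zero, add_zero, neg_smul, one_smul, map_neg, sub_neg_eq_add, LinearMap.add_apply, LinearMap.sub_apply, smul_zero, map_zero, LinearMap.zero_apply]
  have hYM : ∀ a, Y (M a) + M (Y a) = (-2 * T.fA r₀ r₁ * T.fA a v) • v := fun a => by
    simp only [hYr, hMr, map_sub, map_smul, LinearMap.sub_apply, LinearMap.smul_apply, smul_eq_mul,
      hv, hr₀v, hrr.1, D.symA r₀ v, D.symA r₁ v, D.symA r₀ r₁]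
    module
  have h := congrArg (fun c => T.tau c z) (hYM (T.C z y))
  simp only [map_add, map_smul, LinearMap.add_apply, LinearMap.smul_apply] at h
  linear_combination (norm := module) h

/-- commutators at a pencil -/
theorem q_scalar (D : SpData T H) (hno : NoTvSp T H) {q : V ≃ₗ[F] V} (hq : q ∈ H) {z : B}
    (hz0 : z ≠ 0) (hqz : ∀ a, q (T.tau a z) = T.tau a z)
    (hQ : ∀ x, T.C z x = 0 → ∃ b, q x = x + T.tau b z) {w : B} (hwz : T.fB w z = 0) :
    ∃ k : F, ∀ a, q (T.tau a w) = T.tau a w + k • T.tau a z := by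
  by_cases hw : ∃ l : F, w = l • z
  · obtain ⟨l, rfl⟩ := hw
    exact ⟨0, fun a => by simp [hqz]⟩
  simp only [not_exists] at hw
  have hT := D.good
  have hzw := hT.B_flip_zero hwz
  obtain ⟨e, he, he'⟩ := hT.exists_partner hz0
  let L : A →ₗ[F] A := -(T.C e ∘ₗ ((q : V →ₗ[F] V) ∘ₗ T.tau.flip w - T.tau.flip w))
  have hL : ∀ a, q (T.tau a w) = T.tau a w + T.tau (L a) z := by
    intro a
    obtain ⟨b, hb⟩ := hQ (T.tau a w) (by rw [hT.C_tau, hwz, zero_smul])
    have : L a = b := by
      show -(T.C e (q (T.tau a w) - T.tau a w)) = b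
      rw [hb, add_sub_cancel_left, hT.C_tau, he']; simp
    rw [this, hb]
  let L' : A →ₗ[F] A :=
    T.C w ∘ₗ ((q⁻¹ : V ≃ₗ[F] V) : V →ₗ[F] V) ∘ₗ T.tau.flip e - T.C w ∘ₗ T.tau.flip e
  have qi : ∀ x, q (q⁻¹ x) = x := inv_ap q
  have hCz : ∀ x, T.C z (q⁻¹ x) = T.C z x := fun x => sub_eq_zero.1 (hT.nondegA _ fun a => by
    rw [map_sub, LinearMap.sub_apply, ← hT.form_C, ← hT.form_C, ← D.isom q hq, qi, hqz, sub_self])
  have hCw : ∀ x a, T.fA (T.C w (q⁻¹ x) - T.C w x) a = T.fA (T.C z x) (L a) := fun x a => by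
    rw [map_sub, LinearMap.sub_apply, ← hT.form_C, ← hT.form_C, ← D.isom q hq, qi, hL, map_add,
      hT.form_C x (L a) z, add_sub_cancel_left]
  have hL' : ∀ c a, T.fA (L' c) a = T.fA c (L a) := fun c a => by
    have h1 := hCw (T.tau c e) a
    rw [hT.C_tau z c e, he, one_smul] at h1
    exact h1
  have hCw' : ∀ x, T.C w (q⁻¹ x) = T.C w x + L' (T.C z x) := fun x => by
    rw [← sub_eq_iff_eq_add']
    refine sub_eq_zero.1 (hT.nondegA _ fun a => ?_)
    rw [map_sub, LinearMap.sub_apply, hCw, hL', sub_self]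
  -- the commutator with an Eichler element
  obtain ⟨k₁, hk₁⟩ : ∃ k : F, ∀ a, (L + L') a = k • a := by
    obtain ⟨s, hs, hsx⟩ : InH H fun x => x + T.tau (T.C z x) w + T.tau (T.C w x) z := by
      refine ((D.tvB (z + w) 1).comp ((D.tvB z (-1)).comp (D.tvB w (-1)))).congr fun x => ?_
      simp only [hT.C_add, LinearMap.add_apply, map_add, map_smul, map_sub, hT.C_tau, D.altB, hzw, hwz,
        zero_smul, smul_zero, add_zero, map_zero]
      module
    have hsC : ∀ x, T.C z (s x) = T.C z x := fun x => by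
      rw [hsx]; simp [hT.C_tau, D.altB, hwz]
    refine D.frame_scalar hno hz0 ⟨q * s * q⁻¹ * s⁻¹,
      mul_mem (mul_mem (mul_mem hq hs) (inv_mem hq)) (inv_mem hs), fun x => ?_⟩
    obtain ⟨y, rfl⟩ := s.surjective x
    rw [LinearEquiv.mul_apply, LinearEquiv.coe_inv, LinearEquiv.symm_apply_apply]
    show q (s (q⁻¹ y)) = s y + T.tau ((L + L') (T.C z (s y))) z
    rw [hsC, hsx, hsx]
    simp only [map_add, map_smul, qi, hL, hqz, hCz, hCw', LinearMap.add_apply]
    module
  -- powers of the commutator with a root element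
  have hG : ∀ n : ℕ, InH H fun y => y + (n : F) • T.tau (L' (T.C z y)) w + T.tau ((n : F) • L (T.C w y) +
      ((n : F) * n) • L (L' (T.C z y))) z := by
    intro n
    obtain ⟨t, ht, htx⟩ := D.tvB w 1
    replace htx : ∀ x, t x = x + (1 : F) • T.tau (T.C w x) w := htx
    have hqn : ∀ j : ℕ, (∀ a, (q ^ j) (T.tau a z) = T.tau a z) ∧
        (∀ a, (q ^ j) (T.tau a w) = T.tau a w + (j : F) • T.tau (L a) z) ∧
        ∀ x, T.C w ((q ^ j)⁻¹ x) = T.C w x + (j : F) • L' (T.C z x) ∧ T.C z ((q ^ j)⁻¹ x) = T.C z x := by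
      intro j
      induction j with
      | zero => exact ⟨fun a => by simp, fun a => by simp, fun x => by simp⟩
      | succ j ih =>
        obtain ⟨i1, i2, i3⟩ := ih
        refine ⟨fun a => ?_, fun a => ?_, fun x => ?_⟩
        · rw [pow_succ, LinearEquiv.mul_apply, hqz, i1]
        · rw [pow_succ, LinearEquiv.mul_apply, hL, map_add, i1, i2, Nat.cast_succ, add_smul, one_smul,
            add_assoc]
        · rw [pow_succ, mul_inv_rev, LinearEquiv.mul_apply, hCw', hCz, (i3 x).1, (i3 x).2, Nat.cast_succ]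
          exact ⟨by module, rfl⟩
    obtain ⟨i1, i2, i3⟩ := hqn n
    refine ⟨q ^ n * t * (q ^ n)⁻¹ * t⁻¹,
      mul_mem (mul_mem (mul_mem (pow_mem hq n) ht) (inv_mem (pow_mem hq n))) (inv_mem ht), fun x => ?_⟩
    obtain ⟨y, rfl⟩ := t.surjective x
    rw [LinearEquiv.mul_apply, LinearEquiv.coe_inv, LinearEquiv.symm_apply_apply]
    show (q ^ n) (t ((q ^ n)⁻¹ y)) = t y + (n : F) • T.tau (L' (T.C z (t y))) w +
      T.tau ((n : F) • L (T.C w (t y)) + ((n : F) * n) • L (L' (T.C z (t y)))) z
    rw [htx, htx]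
    simp only [map_add, map_smul, inv_ap, i2, hT.C_tau, D.altB, hwz, hzw, zero_smul, smul_zero, add_zero,
      map_zero, (i3 y).1, (i3 y).2, one_smul, LinearMap.add_apply, LinearMap.smul_apply]
    module
  obtain ⟨p, hp⟩ := CharP.exists F
  haveI := hp
  haveI : Fact p.Prime := ⟨CharP.char_is_prime F p⟩
  -- half of it, cleaned
  have hp2 : p ≠ 2 := fun e => by subst e; exact D.two CharTwo.two_eq_zero
  obtain ⟨j, hj⟩ : ∃ j : ℕ, (2 : F) * j = 1 := by
    refine ⟨(p + 1) / 2, ?_⟩
    have : 2 * ((p + 1) / 2) = p + 1 := by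
      obtain ⟨k, hk⟩ := (Fact.out : p.Prime).odd_of_ne_two hp2
      omega
    have h := congrArg (fun n : ℕ => (n : F)) this
    simpa [CharP.cast_eq_zero] using h
  have hS : InH H fun y => y + T.tau (L' (T.C z y)) w + T.tau (L (T.C w y)) z := by
    obtain ⟨g, hg, hgx⟩ := hG j
    obtain ⟨g', hg', hgx'⟩ := hG (p - j % p)
    refine ⟨g * g'⁻¹, mul_mem hg (inv_mem hg'), fun x => ?_⟩
    have hcast : ((p - j % p : ℕ) : F) = -(j : F) := by
      rw [Nat.cast_sub (Nat.mod_lt _ (Fact.out : p.Prime).pos).le, CharP.cast_eq_zero, zero_sub,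
        (CharP.natCast_eq_natCast F p).2 (Nat.mod_modEq j p)]
    obtain ⟨y, rfl⟩ := g'.surjective x
    rw [LinearEquiv.mul_apply, LinearEquiv.coe_inv, LinearEquiv.symm_apply_apply, hgx, hgx']
    simp only [hcast, map_add, map_smul, hT.C_tau, D.altB, hwz, hzw, zero_smul, smul_zero, add_zero,
      LinearMap.add_apply, LinearMap.smul_apply]
    have e1 := congrArg (fun c : F => c • T.tau (L (T.C w y)) z) hj
    have e2 := congrArg (fun c : F => c • T.tau (L' (T.C z y)) w) hj
    linear_combination (norm := module) e1 + e2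
  -- subtract the scalar part
  have h2 := D.two
  have hsplit : InH H fun x => x + (-(k₁ / 2)) • T.tau (T.C z x) w + (-(k₁ / 2)) • T.tau (T.C w x) z := by
    refine ((D.tvB (z + w) (-(k₁ / 2))).comp ((D.tvB z (k₁ / 2)).comp (D.tvB w (k₁ / 2)))).congr
      fun x => ?_
    simp only [hT.C_add, LinearMap.add_apply, map_add, map_smul, map_sub, hT.C_tau, D.altB, hzw, hwz,
      zero_smul, smul_zero, add_zero, map_zero]
    module
  let L₀ : Module.End F A := L - (k₁ / 2) • LinearMap.id
  have hL'eq : ∀ a, L' a = k₁ • a - L a := fun a => by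
    rw [eq_sub_iff_add_eq, add_comm, ← LinearMap.add_apply, hk₁]
  have hmem : L₀ ∈ D.sieg z w hwz := by
    refine ⟨fun a a' => ?_, (InH.comp hsplit hS).congr fun x => ?_⟩
    · have h := hL' a a'
      rw [hL'eq, map_sub, map_smul, LinearMap.sub_apply, LinearMap.smul_apply, smul_eq_mul] at h
      show T.fA (L a - (k₁ / 2) • a) a' = -T.fA a (L a' - (k₁ / 2) • a')
      simp only [map_sub, map_smul, LinearMap.sub_apply, LinearMap.smul_apply, smul_eq_mul]
      field_simp
      linear_combination -2 * h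
    · show _ = x - T.tau (L (T.C z x) - (k₁ / 2) • T.C z x) w + T.tau (L (T.C w x) - (k₁ / 2) • T.C w x) z
      simp only [map_add, map_sub, map_smul, hT.C_tau, D.altB, hwz, hzw, zero_smul, add_zero, smul_zero,
        hL'eq, LinearMap.sub_apply, LinearMap.smul_apply, LinearMap.add_apply, map_zero, sub_self, LinearMap.zero_apply]
      match_scalars <;> field_simp <;> ring
  have h0 := D.sieg_zero hno hz0 hwz hw hmem
  refine ⟨k₁ / 2, fun a => ?_⟩
  have ha : L a = (k₁ / 2) • a := sub_eq_zero.1 (LinearMap.congr_fun h0 a)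
  rw [hL, ha, map_smul, LinearMap.smul_apply]

/-- a map nearly commuting with all isometries is scalar -/
theorem diff_scalar (D : SpData T H) {X : A →ₗ[F] A}
    (h : ∀ g : A ≃ₗ[F] A, (∀ a a', T.fA (g a) (g a') = T.fA a a') →
      ∃ k : F, ∀ a, X (g a) - g (X a) = k • g a) :
    ∃ k : F, ∀ a, X a = k • a := by
  have h2 := D.two
  -- anisotropic vectors are eigen vectors
  have heig : ∀ e, T.fA e e ≠ 0 → ∃ l : F, X e = l • e := by
    intro e he
    obtain ⟨g, hg, hga⟩ := D.exists_refl he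
    obtain ⟨k, hk⟩ := h g hg
    obtain ⟨a, ha, ha0, hind⟩ : ∃ a, T.fA a e = 0 ∧ a ≠ 0 ∧ ∀ c : F, a ≠ c • e := by
      obtain ⟨a, ha, ha0⟩ : ∃ a ∈ perpA T ![e], a ≠ 0 := Submodule.exists_mem_ne_zero_of_ne_bot fun hb => by
        have h' := le_finrank_perpA (T := T) ![e]
        have := D.dimA
        rw [hb, finrank_bot] at h'
        omega
      refine ⟨a, mem_perpA.1 ha 0, ha0, fun c hc => ha0 ?_⟩
      have h' : T.fA a e = 0 := mem_perpA.1 ha 0
      rw [hc, map_smul, LinearMap.smul_apply, smul_eq_mul] at h'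
      rw [hc, (mul_eq_zero.1 h').resolve_right he, zero_smul]
    have hk0 : k = 0 := by
      by_contra hk0
      have h1 := hk a
      rw [show g a = a by rw [hga, ha]; simp, hga, sub_sub_cancel] at h1
      refine hind (k⁻¹ * (2 * T.fA (X a) e / T.fA e e)) ?_
      rw [mul_smul, h1, inv_smul_smul₀ hk0]
    have h1 := hk e
    have hge : g e = -e := by
      rw [hga, mul_div_assoc, div_self he, mul_one]; module
    rw [hge, map_neg, hga, hk0, zero_smul] at h1
    refine ⟨T.fA (X e) e / T.fA e e, ?_⟩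
    refine smul_right_injective A h2 (show (2 : F) • X e = (2 : F) • _ from ?_)
    linear_combination (norm := skip) -h1
    match_scalars <;> field_simp <;> ring
  choose! ev hev using heig
  have link : ∀ e f, T.fA e e ≠ 0 → T.fA f f ≠ 0 → T.fA f e = 0 → T.fA (e + f) (e + f) ≠ 0 →
      ev e = ev f := by
    intro e f he hf hfe hs
    have h1 := hev _ hs
    rw [map_add, hev e he, hev f hf] at h1
    have e1 := congrArg (fun a => T.fA a e) h1
    have e2 := congrArg (fun a => T.fA a f) h1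
    simp only [map_add, map_smul, LinearMap.add_apply, LinearMap.smul_apply, smul_eq_mul, hfe,
      D.symA f e, mul_zero, add_zero, zero_add] at e1 e2
    rw [mul_right_cancel₀ he e1, mul_right_cancel₀ hf e2]
  have link3 : ∀ e f k, T.fA e e ≠ 0 → T.fA f f ≠ 0 → T.fA k k ≠ 0 → T.fA f e = 0 → T.fA k e = 0 →
      T.fA k f = 0 → ev e = ev f := by
    intro e f k he hf hk hfe hke hkf
    by_cases hs : T.fA (e + f) (e + f) = 0
    swap
    · exact link e f he hf hfe hs
    have key : T.fA e e + T.fA f f = 0 := by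
      simpa [hfe, D.symA f e] using hs
    by_cases hs1 : T.fA (e + k) (e + k) = 0
    · -- then `f + k` is anisotropic, and so is `e + f + k`
      have key1 : T.fA e e + T.fA k k = 0 := by simpa [hke, D.symA k e] using hs1
      have hfk : T.fA (f + k) (f + k) ≠ 0 := by
        simp only [map_add, LinearMap.add_apply, hkf, D.symA k f, add_zero, zero_add]
        intro h0
        exact he ((mul_eq_zero.1 (show (2 : F) * T.fA e e = 0 by
          linear_combination key + key1 - h0)).resolve_left h2)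
      have hsum : T.fA (e + f + k) (e + f + k) ≠ 0 := by
        simp only [map_add, LinearMap.add_apply, hkf, hke, hfe, D.symA k f, D.symA k e, D.symA f e,
          add_zero, zero_add, key]
        exact hk
      have h3 := link f k hf hk hkf hfk
      have h1 := hev _ hsum
      rw [map_add, map_add, hev e he, hev f hf, hev k hk] at h1
      have e1 := congrArg (fun a => T.fA a e) h1
      have e2 := congrArg (fun a => T.fA a f) h1
      simp only [map_add, map_smul, LinearMap.add_apply, LinearMap.smul_apply, smul_eq_mul, hfe,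
        hke, hkf, D.symA f e, D.symA k f, mul_zero, add_zero, zero_add] at e1 e2
      rw [mul_right_cancel₀ he e1, mul_right_cancel₀ hf e2]
    · have key2 : T.fA f f + T.fA k k ≠ 0 ∨ T.fA (e + f + k) (e + f + k) ≠ 0 := Or.inr (by
        simp only [map_add, LinearMap.add_apply, hkf, hke, hfe, D.symA k f, D.symA k e, D.symA f e,
          add_zero, zero_add, key]
        exact hk)
      have hsum : T.fA (e + f + k) (e + f + k) ≠ 0 := by
        simp only [map_add, LinearMap.add_apply, hkf, hke, hfe, D.symA k f, D.symA k e, D.symA f e,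
          add_zero, zero_add, key]
        exact hk
      have h1 := hev _ hsum
      rw [map_add, map_add, hev e he, hev f hf, hev k hk] at h1
      have e1 := congrArg (fun a => T.fA a e) h1
      have e2 := congrArg (fun a => T.fA a f) h1
      simp only [map_add, map_smul, LinearMap.add_apply, LinearMap.smul_apply, smul_eq_mul, hfe,
        hke, hkf, D.symA f e, D.symA k f, mul_zero, add_zero, zero_add] at e1 e2
      rw [mul_right_cancel₀ he e1, mul_right_cancel₀ hf e2]
  obtain ⟨e, f, k, he, hf, hk, hfe, hke, hkf⟩ := D.exists_orth_three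
  have hef : ev e = ev f := link3 e f k he hf hk hfe hke hkf
  refine ⟨ev e, fun a => ?_⟩
  set a₀ := a - (T.fA a e / T.fA e e) • e with ha₀
  have ha₀e : T.fA a₀ e = 0 := by
    rw [ha₀, map_sub, map_smul, LinearMap.sub_apply, LinearMap.smul_apply, smul_eq_mul,
      div_mul_cancel₀ _ he, sub_self]
  set a₁ := a₀ - (T.fA a₀ f / T.fA f f) • f with ha₁
  have ha₁e : T.fA a₁ e = 0 := by simp [ha₁, ha₀e, hfe]
  have ha₁f : T.fA a₁ f = 0 := by
    rw [ha₁, map_sub, map_smul, LinearMap.sub_apply, LinearMap.smul_apply, smul_eq_mul,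
      div_mul_cancel₀ _ hf, sub_self]
  have main : ∀ c, T.fA c e = 0 → T.fA c f = 0 → T.fA c c ≠ 0 → X c = ev e • c := fun c hce hcf hcc => by
    rw [hev c hcc, link3 e c f he hcc hf hce hfe (by rw [D.symA, hcf])]
  have hXk : X k = ev e • k := main k hke hkf hk
  have hX1 : X a₁ = ev e • a₁ := by
    by_cases h0 : T.fA a₁ a₁ = 0
    swap
    · exact main a₁ ha₁e ha₁f h0
    by_cases h1 : T.fA (a₁ + k) (a₁ + k) = 0
    · have h3 : T.fA (a₁ - k) (a₁ - k) ≠ 0 := by
        simp only [map_sub, map_add, LinearMap.sub_apply, LinearMap.add_apply, h0, D.symA a₁ k] at h1 ⊢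
        intro h4
        exact hk ((mul_eq_zero.1 (show (2 : F) * T.fA k k = 0 by linear_combination h1 + h4)).resolve_left h2)
      have := main _ (by simp [ha₁e, hke]) (by simp [ha₁f, hkf]) h3
      rw [map_sub, hXk, smul_sub] at this
      exact sub_left_inj.1 this
    · have := main _ (by simp [ha₁e, hke]) (by simp [ha₁f, hkf]) h1
      rw [map_add, hXk, smul_add] at this
      exact add_right_cancel this
  have ha : a = a₁ + (T.fA a₀ f / T.fA f f) • f + (T.fA a e / T.fA e e) • e := by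
    rw [ha₁, sub_add_cancel, ha₀, sub_add_cancel]
  conv_lhs => rw [ha]
  rw [map_add, map_add, map_smul, map_smul, hX1, hev e he, hev f hf, ← hef]
  conv_rhs => rw [ha]
  module

theorem stabHyp (D : SpData T H) (hno : NoTvSp T H) :
    StabHyp T 1 H {g : A ≃ₗ[F] A | ∀ a a', T.fA (g a) (g a') = T.fA a a'} where
  good := D.good
  isom := D.isom
  tv z _ c _ := D.tvB z c
  frame z _ hz0 X hX := D.frame_scalar hno hz0 hX
  qlem q hq z _ hz0 hqz hQ w _ hwz := D.q_scalar hno hq hz0 hqz hQ hwz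
  gen_mem g hg := D.pureA g hg
  gen_conj M m hm g hg := by
    have hm0 : m ≠ 0 := fun e => by
      obtain ⟨v, hv0, -⟩ := D.exists_iso
      refine hv0 (M.injective ((D.good.nondegA _ fun y => ?_).trans (map_zero M).symm))
      obtain ⟨y', rfl⟩ := M.surjective y
      rw [hm, e, zero_mul]
    intro a a'
    obtain ⟨a, rfl⟩ := M.surjective a
    obtain ⟨a', rfl⟩ := M.surjective a'
    simp only [LinearEquiv.mul_apply, LinearEquiv.coe_inv, LinearEquiv.symm_apply_apply, hm, hg a a']
  diff X hX := D.diff_scalar hX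
  isoSpan z _ _ w hw := Submodule.subset_span ⟨D.altB w, hw⟩

/-- pure squares of unipotent maps: one factor is scalar -/
theorem sq_dichotomy (D : SpData T H) {u : V ≃ₗ[F] V} {M : A →ₗ[F] A} {f : B →ₗ[F] B}
    (hu : ∀ a b, u (T.tau a b) = T.tau (M a) (f b))
    (hsq : ∀ x, u (u x) - u x - (u x - x) = 0) {a₀ : A}
    (ha₀ : M a₀ ∉ Submodule.span F ({a₀} : Set A)) :
    ∃ c : F, ∀ b, f b = c • b := by
  have hT := D.good
  obtain ⟨φ, hφ, hφa⟩ := Submodule.exists_le_ker_of_notMem ha₀
  obtain ⟨x, hx⟩ := exists_repr hT.invol T.fA hT.nondegA φ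
  have ha : T.fA a₀ x = 0 := by rw [hx]; exact hφa (Submodule.mem_span_singleton_self a₀)
  have hM : T.fA (M a₀) x ≠ 0 := by rw [hx]; exact hφ
  have hfinj : Function.Injective f := fun b b' e => hT.tau_right_inj
    (a := a₀) (fun e0 => ha₀ (by simp [e0])) (u.injective (by
      show u (T.tau a₀ b) = u (T.tau a₀ b')
      rw [hu, hu, e]))
  have key : ∀ b, T.fA (M (M a₀)) x • f b = (2 * T.fA (M a₀) x) • b := fun b => by
    apply hfinj
    have h := congrArg (T.C' x) (hsq (T.tau a₀ b))
    simp only [hu, map_sub, hT.C'_tau, ha, zero_smul, sub_zero, map_zero] at h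
    rw [map_smul, map_smul]
    linear_combination (norm := module) h
  have h2 : T.fA (M (M a₀)) x ≠ 0 := fun e => by
    obtain ⟨b, hb⟩ : ∃ b : B, b ≠ 0 := by
      haveI := Module.nontrivial_of_finrank_pos (R := F) (M := B) (by have := D.dimB; omega)
      exact exists_ne 0
    have h := key b
    rw [e, zero_smul, eq_comm, smul_eq_zero, mul_eq_zero] at h
    exact hb (h.resolve_left (fun h' => h'.elim D.two hM))
  exact ⟨(T.fA (M (M a₀)) x)⁻¹ * (2 * T.fA (M a₀) x), fun b => by
    rw [mul_smul, ← key, inv_smul_smul₀ h2]⟩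

theorem scalRoot (D : SpData T H) [FiniteDimensional F V] (hB : 4 ≤ finrank F B) (hno : NoTvSp T H) : ScalRoot T H := by
  classical
  intro y h t M f hy hy0 hh htx hu a₀
  by_contra hna
  have hT := D.good
  have S := D.stabHyp hno
  haveI hA : Nontrivial A := Module.nontrivial_of_finrank_pos (R := F) (by have := D.dimA; omega)
  have ht : t ∈ H := by
    obtain ⟨t', ht', htx'⟩ := D.tvB y 1
    replace htx' : ∀ x, t' x = x + (1 : F) • T.tau (T.C y x) y := htx'
    rwa [show t = t' from LinearEquiv.ext fun x => by rw [htx, htx', one_smul]]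
  obtain ⟨e, he, -⟩ := hT.exists_partner hy0
  set u := h * t * h⁻¹ with hudef
  have hux : ∀ x, u x = x + h (T.tau (T.C y (h⁻¹ x)) y) := fun x => by
    show h (t (h⁻¹ x)) = _
    rw [htx, map_add, inv_ap]
  have hsq : ∀ x, u (u x) - u x - (u x - x) = 0 := fun x => by
    rw [hux (u x), hux x]
    simp [hT.C_tau, hy, LinearEquiv.coe_inv]
  obtain ⟨c, hc⟩ := D.sq_dichotomy hu hsq hna
  set n : A →ₗ[F] A := c • M - LinearMap.id with hn
  have hun : ∀ a b, u (T.tau a b) = T.tau a b + T.tau (n a) b := fun a b => by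
    rw [hu, hc, hn]
    simp [map_smul, LinearMap.smul_apply]
  obtain ⟨b₀, hb₀⟩ : ∃ b : B, b ≠ 0 := ⟨y, hy0⟩
  have hn2 : ∀ a, n (n a) = 0 := fun a => by
    have h1 := hsq (T.tau a b₀)
    rw [hun, map_add, hun, hun] at h1
    refine hT.tau_left_inj hb₀ (show T.tau (n (n a)) b₀ = T.tau 0 b₀ from ?_)
    rw [map_zero, LinearMap.zero_apply]
    linear_combination (norm := module) h1
  have hskew : ∀ a a', T.fA (n a) a' = -T.fA a (n a') := by
    have key : ∀ a a', T.fA (n a) a' + T.fA a (n a') + T.fA (n a) (n a') = 0 := fun a a' => by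
      have h1 := D.isom u (mul_mem (mul_mem hh ht) (inv_mem hh)) (T.tau a e) (T.tau a' y)
      rw [hun, hun] at h1
      simp only [map_add, LinearMap.add_apply, hT.form_tau, he, mul_one] at h1
      linear_combination h1
    intro a a'
    have h1 := key a (n a')
    rw [hn2 a', map_zero, map_zero, add_zero, add_zero] at h1
    linear_combination key a a' - h1
  have hnull : ∀ a, n a = 0 → M a ∈ Submodule.span F ({a} : Set A) := fun a ha => by
    have h1 : c • M a = a := by
      have := sub_eq_zero.1 (show c • M a - a = 0 from ha)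
      exact this
    rcases eq_or_ne c 0 with rfl | hc0
    · rw [zero_smul] at h1; rw [← h1, map_zero]; exact Submodule.zero_mem _
    · exact Submodule.mem_span_singleton.2 ⟨c⁻¹, (congrArg (c⁻¹ • ·) h1.symm).trans (inv_smul_smul₀ hc0 _)⟩
  obtain ⟨a₁, hv₀⟩ : ∃ a, n a ≠ 0 := ⟨a₀, fun e0 => hna (hnull a₀ e0)⟩
  set v := n a₁ with hv
  -- the second factor is smaller
  set U : Submodule F V := (pen T y).map (h : V →ₗ[F] V) with hU
  have hUle : finrank F U ≤ finrank F A :=
    (Submodule.finrank_map_le _ _).trans (LinearMap.finrank_range_le _)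
  have hmemU : ∀ a b, T.tau (n a) b ∈ U := fun a b => by
    have h1 := hux (T.tau a b)
    rw [hun, add_right_inj] at h1
    rw [h1]
    exact Submodule.mem_map_of_mem (tau_mem_pen T _ _)
  have hba : finrank F B < finrank F A := by
    have hle : finrank F B ≤ finrank F U := by
      rw [← LinearMap.finrank_range_of_inj (hT.tau_right_inj hv₀)]
      exact Submodule.finrank_mono (by rintro _ ⟨b, rfl⟩; exact hmemU a₁ b)
    rcases lt_or_eq_of_le (hle.trans hUle) with hlt | heq
    · exact hlt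
    exfalso
    have hUeq : LinearMap.range (T.tau v) = U := Submodule.eq_of_le_of_finrank_le
      (by rintro _ ⟨b, rfl⟩; exact hmemU a₁ b)
      (by rw [LinearMap.finrank_range_of_inj (hT.tau_right_inj hv₀)]; omega)
    obtain ⟨d, hd⟩ : ∃ d, T.fB e d ≠ 0 := ⟨y, by rw [he]; exact one_ne_zero⟩
    have hline : ∀ a, ∃ k : F, n a = k • v := fun a => by
      obtain ⟨b, hb⟩ : T.tau (n a) e ∈ LinearMap.range (T.tau v) := hUeq ▸ hmemU a e
      refine ⟨(T.fB e d)⁻¹ * T.fB b d, ?_⟩
      have h1 := congrArg (T.C d) hb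
      rw [hT.C_tau, hT.C_tau] at h1
      rw [mul_smul, h1, inv_smul_smul₀ hd]
    obtain ⟨w, hw⟩ : ∃ w, T.fA v w ≠ 0 := by
      by_contra h0
      simp only [not_exists, not_not] at h0
      exact hv₀ (hT.nondegA v h0)
    obtain ⟨k, hk⟩ := hline w
    have h1 := hskew w w
    rw [D.symA (n w) w, hk, map_smul, LinearMap.smul_apply, smul_eq_mul] at h1
    have hk0 : k = 0 := (mul_eq_zero.1 ((mul_eq_zero.1
      (show (2 : F) * (k * T.fA v w) = 0 by linear_combination h1)).resolve_left D.two)).resolve_right hw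
    rw [hk0, zero_smul] at hk
    obtain ⟨k', hk'⟩ := hline a₁
    have h2 := hskew a₁ w
    rw [hk, map_zero, neg_zero, ← hv] at h2
    exact hw h2
  -- pure elements of `B` give pure conjugates
  have pencil : ∀ x, x ∈ H → Commute t x → IsKron T x := fun x hx hc => by
    refine S.isKron hx hy hy0 (fun a => ⟨T.C y (x (T.tau a e)), ?_⟩) hA
    have h1 := LinearEquiv.congr_fun hc.eq (T.tau a e)
    change t (x (T.tau a e)) = x (t (T.tau a e)) at h1
    rw [htx, htx, hT.C_tau, he, one_smul, map_add, add_right_inj] at h1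
    exact h1
  have htu : Commute t u := LinearEquiv.ext fun x => LinearMap.congr_fun
    (hT.ext_tau (f := ((t * u : V ≃ₗ[F] V) : V →ₗ[F] V)) (g := ((u * t : V ≃ₗ[F] V) : V →ₗ[F] V))
      fun a b => by
        show t (u (T.tau a b)) = u (t (T.tau a b))
        simp only [hun, htx, map_add, map_smul, LinearMap.smul_apply, LinearMap.add_apply, hT.C_tau]
        module) x
  obtain ⟨M₂, f₂, hu₂⟩ := pencil (h⁻¹ * t * h) (mul_mem (mul_mem (inv_mem hh) ht) hh) (by
    show t * (h⁻¹ * t * h) = h⁻¹ * t * h * t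
    apply mul_left_cancel (a := h)
    calc h * (t * (h⁻¹ * t * h)) = u * t * h := by rw [hudef]; group
      _ = t * u * h := by rw [htu.eq]
      _ = h * (h⁻¹ * t * h * t) := by rw [hudef]; group)
  set u₂ := h⁻¹ * t * h with hu₂def
  have hu₂x : ∀ x, u₂ x = x + h⁻¹ (T.tau (T.C y (h x)) y) := fun x => by
    show h⁻¹ (t (h x)) = _
    rw [htx, map_add, LinearEquiv.coe_inv, LinearEquiv.symm_apply_apply]
  -- an anisotropic vector whose reflection commutes with it
  obtain ⟨ε, hε, hcomm⟩ : ∃ ε, T.fA ε ε ≠ 0 ∧ ∀ k : V ≃ₗ[F] V,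
      (∀ a b, k (T.tau a b) = T.tau (a - (2 * T.fA a ε / T.fA ε ε) • ε) b) → Commute k u₂ := by
    have mk : ∀ ε, T.fA ε ε ≠ 0 → (∀ a, M₂ (a - (2 * T.fA a ε / T.fA ε ε) • ε) =
        M₂ a - (2 * T.fA (M₂ a) ε / T.fA ε ε) • ε) → ∀ k : V ≃ₗ[F] V,
        (∀ a b, k (T.tau a b) = T.tau (a - (2 * T.fA a ε / T.fA ε ε) • ε) b) → Commute k u₂ :=
      fun ε hε hM k hk => LinearEquiv.ext fun x => LinearMap.congr_fun
        (hT.ext_tau (f := ((k * u₂ : V ≃ₗ[F] V) : V →ₗ[F] V))
          (g := ((u₂ * k : V ≃ₗ[F] V) : V →ₗ[F] V)) fun a b => by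
          show k (u₂ (T.tau a b)) = u₂ (k (T.tau a b))
          rw [hu₂, hk, hk, hu₂, hM]) x
    by_cases hM : ∀ a, M₂ a ∈ Submodule.span F ({a} : Set A)
    · obtain ⟨μ, hμ⟩ := LinearMap.exists_eq_smul_id_of_forall_notLinearIndependent (f := M₂) fun a hli => by
        obtain ⟨k, hk⟩ := Submodule.mem_span_singleton.1 (hM a)
        exact (LinearIndependent.pair_iff' (hli.ne_zero 0)).1 hli k hk
      obtain ⟨ε, -, -, hε, -⟩ := D.exists_orth_three
      refine ⟨ε, hε, mk ε hε fun a => ?_⟩
      simp only [hμ, LinearMap.smul_apply, Module.End.one_apply, map_smul, smul_eq_mul]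
      module
    · simp only [not_forall] at hM
      obtain ⟨a₂, ha₂⟩ := hM
      have hsq₂ : ∀ x, u₂ (u₂ x) - u₂ x - (u₂ x - x) = 0 := fun x => by
        rw [hu₂x (u₂ x), hu₂x x, map_add, inv_ap]
        simp [hT.C_tau, hy]
      obtain ⟨c₂, hc₂⟩ := D.sq_dichotomy hu₂ hsq₂ ha₂
      set m : A →ₗ[F] A := c₂ • M₂ - LinearMap.id with hm
      have hum : ∀ a b, u₂ (T.tau a b) = T.tau a b + T.tau (m a) b := fun a b => by
        rw [hu₂, hc₂, hm]; simp [map_smul, LinearMap.smul_apply]
      have hm2 : ∀ a, m (m a) = 0 := fun a => by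
        have h1 := hsq₂ (T.tau a b₀)
        rw [hum, map_add, hum, hum] at h1
        refine hT.tau_left_inj hb₀ (show T.tau (m (m a)) b₀ = T.tau 0 b₀ from ?_)
        rw [map_zero, LinearMap.zero_apply]
        linear_combination (norm := module) h1
      have hskew₂ : ∀ a a', T.fA (m a) a' = -T.fA a (m a') := by
        have key : ∀ a a', T.fA (m a) a' + T.fA a (m a') + T.fA (m a) (m a') = 0 := fun a a' => by
          have h1 := D.isom u₂ (mul_mem (mul_mem (inv_mem hh) ht) hh) (T.tau a e) (T.tau a' y)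
          rw [hum, hum] at h1
          simp only [map_add, LinearMap.add_apply, hT.form_tau, he, mul_one] at h1
          linear_combination h1
        intro a a'
        have h1 := key a (m a')
        rw [hm2 a', map_zero, map_zero, add_zero, add_zero] at h1
        linear_combination key a a' - h1
      obtain ⟨ε, hεm, hε⟩ : ∃ ε ∈ LinearMap.ker m, T.fA ε ε ≠ 0 := by
        by_contra hno'
        simp only [not_exists, not_and, not_not] at hno'
        have hti : ∀ a ∈ LinearMap.ker m, ∀ a' ∈ LinearMap.ker m, T.fA a a' = 0 := fun a ha a' ha' => by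
          have h1 := hno' (a + a') (Submodule.add_mem _ ha ha')
          simp only [map_add, LinearMap.add_apply, hno' a ha, hno' a' ha', D.symA a a'] at h1
          exact (mul_eq_zero.1 (show (2 : F) * T.fA a a' = 0 by linear_combination h1)).resolve_left D.two
        -- the kernel has at most half the dimension
        let Ψ : A →ₗ[F] Module.Dual F (LinearMap.ker m) :=
          { toFun := fun a => (T.fA a).comp (LinearMap.ker m).subtype
            map_add' := fun a a' => by ext z; simp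
            map_smul' := fun k a => by ext z; simp }
        have hΨ : Function.Surjective Ψ := fun φ => by
          obtain ⟨φ', hφ'⟩ := LinearMap.exists_extend φ
          obtain ⟨w, hw⟩ := exists_repr hT.invol T.fA hT.nondegA φ'
          refine ⟨w, LinearMap.ext fun z => ?_⟩
          show T.fA w (z : A) = φ z
          rw [D.symA, hw]
          exact LinearMap.congr_fun hφ' z
        have h1 := LinearMap.finrank_range_add_finrank_ker Ψ
        rw [LinearMap.range_eq_top.2 hΨ, finrank_top, Subspace.dual_finrank_eq] at h1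
        have h2 : finrank F (LinearMap.ker m) ≤ finrank F (LinearMap.ker Ψ) :=
          Submodule.finrank_mono fun a ha => LinearMap.ext fun z => hti a ha z z.2
        have h3 := LinearMap.finrank_range_add_finrank_ker m
        -- three copies of the range inside the image of the pencil
        have hb3 : 3 ≤ finrank F B := by omega
        let d := Module.finBasis F B
        let i : Fin 3 → Fin (finrank F B) := fun j => ⟨j.1, by omega⟩
        let J : (Fin 3 → LinearMap.range m) →ₗ[F] V :=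
          ∑ j, (T.tau.flip (d (i j))) ∘ₗ (LinearMap.range m).subtype ∘ₗ LinearMap.proj j
        have hJ : ∀ p, J p = ∑ j, T.tau (p j : A) (d (i j)) := fun p => by simp [J]
        have hJinj : Function.Injective J := by
          refine (injective_iff_map_eq_zero J).2 fun p hp => funext fun j => Subtype.ext ?_
          obtain ⟨w, hw⟩ := exists_repr hT.invol T.fB hT.nondegB (d.coord (i j))
          have h4 := congrArg (T.C w) hp
          rw [hJ, map_sum, map_zero] at h4
          have hi : ∀ j', i j' = i j ↔ j' = j :=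
            fun j' => ⟨fun e0 => Fin.ext (Fin.mk.inj_iff.1 e0), fun e0 => by rw [e0]⟩
          simp only [hT.C_tau, hw, Basis.coord_apply, Basis.repr_self, Finsupp.single_apply, hi,
            ite_smul, one_smul, zero_smul, Finset.sum_ite_eq', Finset.mem_univ, if_true] at h4
          simpa using h4
        have h4 : finrank F (LinearMap.range J) ≤
            finrank F ((pen T y).map ((h⁻¹ : V ≃ₗ[F] V) : V →ₗ[F] V)) := by
          refine Submodule.finrank_mono ?_
          rintro _ ⟨p, rfl⟩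
          rw [hJ]
          refine Submodule.sum_mem _ fun j _ => ?_
          obtain ⟨a, ha⟩ := (p j).2
          have h5 := hu₂x (T.tau a (d (i j)))
          rw [hum, add_right_inj, ha] at h5
          rw [h5]
          exact Submodule.mem_map_of_mem (tau_mem_pen T _ _)
        have h5 : finrank F ((pen T y).map ((h⁻¹ : V ≃ₗ[F] V) : V →ₗ[F] V)) ≤ finrank F A :=
          (Submodule.finrank_map_le _ _).trans (LinearMap.finrank_range_le _)
        rw [LinearMap.finrank_range_of_inj hJinj, Module.finrank_pi_fintype] at h4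
        simp only [Finset.sum_const, Finset.card_univ, Fintype.card_fin, smul_eq_mul] at h4
        have := D.dimA
        omega
      refine ⟨ε, hε, mk ε hε fun a => ?_⟩
      have hmε : m ε = 0 := hεm
      have h1 : T.fA (m a) ε = 0 := by rw [hskew₂, hmε, map_zero, neg_zero]
      have h2 : c₂ ≠ 0 := fun e0 => ha₂ (by
        have h3 := congrArg (T.C e) (hu₂ a₂ y)
        rw [hc₂, e0, zero_smul, map_zero, map_zero] at h3
        have h4 : u₂ (T.tau a₂ y) = 0 := by rw [hu₂, hc₂, e0, zero_smul, map_zero]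
        rw [LinearEquiv.map_eq_zero_iff, ← map_zero (T.tau.flip y)] at h4
        rw [hT.tau_left_inj hy0 h4]
        simp)
      have h3 : ∀ a, c₂ • M₂ a = a + m a := fun a => by rw [hm]; simp
      refine smul_right_injective A h2 (show c₂ • _ = c₂ • _ from ?_)
      rw [smul_sub, h3, smul_smul, show c₂ * (2 * T.fA (M₂ a) ε / T.fA ε ε) =
        2 * T.fA (c₂ • M₂ a) ε / T.fA ε ε by rw [map_smul, LinearMap.smul_apply, smul_eq_mul]; ring, h3,
        map_sub, map_smul, hmε, smul_zero, sub_zero, map_add, LinearMap.add_apply, h1, add_zero]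
      abel
  obtain ⟨g, hg, hga⟩ := D.exists_refl hε
  obtain ⟨k, hk, hkab⟩ := D.pureA g hg
  have hk' : ∀ a b, k (T.tau a b) = T.tau (a - (2 * T.fA a ε / T.fA ε ε) • ε) b := fun a b => by
    rw [hkab, hga]
  -- its conjugate is pure
  set h₁ := h * k * h⁻¹ with hh₁
  have hh₁H : h₁ ∈ H := mul_mem (mul_mem hh hk) (inv_mem hh)
  obtain ⟨M₁, f₁, hM₁⟩ := pencil h₁ hh₁H (by
    show t * h₁ = h₁ * t
    calc t * h₁ = h * (u₂ * k) * h⁻¹ := by rw [hh₁, hu₂def]; group
      _ = h * (k * u₂) * h⁻¹ := by rw [(hcomm k hk').eq]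
      _ = h₁ * t := by rw [hh₁, hu₂def]; group)
  have hku : Commute t k := LinearEquiv.ext fun x => LinearMap.congr_fun
    (hT.ext_tau (f := ((t * k : V ≃ₗ[F] V) : V →ₗ[F] V)) (g := ((k * t : V ≃ₗ[F] V) : V →ₗ[F] V))
      fun a b => by
        show t (k (T.tau a b)) = k (t (T.tau a b))
        rw [hkab, htx, htx, hT.C_tau, hT.C_tau, map_add, hkab, hkab, map_smul g]) x
  have h₁u : Commute h₁ u := by
    show h₁ * u = u * h₁
    calc h₁ * u = h * (k * t) * h⁻¹ := by rw [hh₁, hudef]; group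
      _ = h * (t * k) * h⁻¹ := by rw [hku.eq]
      _ = u * h₁ := by rw [hh₁, hudef]; group
  set W : Submodule F V := (LinearMap.range (T.tau ε)).map (h : V →ₗ[F] V) with hW
  have hWle : finrank F W ≤ finrank F B :=
    (Submodule.finrank_map_le _ _).trans (LinearMap.finrank_range_le _)
  have hh₁W : ∀ x, h₁ x - x ∈ W := fun x => by
    obtain ⟨x, rfl⟩ : ∃ x', h x' = x := ⟨h⁻¹ x, inv_ap h x⟩
    show h (k (h⁻¹ (h x))) - h x ∈ W
    rw [LinearEquiv.coe_inv, LinearEquiv.symm_apply_apply, ← map_sub]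
    refine Submodule.mem_map_of_mem ?_
    refine hT.induction (p := fun x => k x - x ∈ LinearMap.range (T.tau ε)) (by simp)
      (fun p q hp hq => by rw [map_add, add_sub_add_comm]; exact add_mem hp hq) (fun a b => ?_) x
    rw [hk']
    exact ⟨-(2 * T.fA a ε / T.fA ε ε) • b, by simp [map_smul]⟩
  -- its second factor is scalar
  have hf₁ : ∀ b, f₁ b ∈ Submodule.span F ({b} : Set B) := fun b => by
    by_contra hnb
    obtain ⟨φ, hφ, hφb⟩ := Submodule.exists_le_ker_of_notMem hnb
    obtain ⟨x, hx⟩ := exists_repr hT.invol T.fB hT.nondegB φ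
    let Lb : A →ₗ[F] V := (h₁ : V →ₗ[F] V) ∘ₗ T.tau.flip b - T.tau.flip b
    have hLinj : Function.Injective Lb := by
      refine (injective_iff_map_eq_zero Lb).2 fun a ha => ?_
      change h₁ (T.tau a b) - T.tau a b = 0 at ha
      rw [hM₁] at ha
      have h1 := congrArg (T.C x) ha
      have hbx : T.fB b x = 0 := by rw [hx]; exact hφb (Submodule.mem_span_singleton_self b)
      rw [map_sub, hT.C_tau, hT.C_tau, hbx, zero_smul, sub_zero, map_zero, smul_eq_zero, hx] at h1
      have h3 : h₁ (T.tau a b) = 0 := by rw [hM₁, h1.resolve_left hφ]; simp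
      rw [LinearEquiv.map_eq_zero_iff, ← map_zero (T.tau.flip b)] at h3
      exact hT.tau_left_inj (fun e0 => hnb (by simp [e0])) h3
    have h1 : finrank F A ≤ finrank F W := by
      rw [← LinearMap.finrank_range_of_inj hLinj]
      exact Submodule.finrank_mono (by rintro _ ⟨a, rfl⟩; exact hh₁W _)
    omega
  obtain ⟨μ, hμ⟩ := LinearMap.exists_eq_smul_id_of_forall_notLinearIndependent (f := f₁) fun b hli => by
    obtain ⟨k', hk'⟩ := Submodule.mem_span_singleton.1 (hf₁ b)
    exact (LinearIndependent.pair_iff' (hli.ne_zero 0)).1 hli k' hk'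
  set N : A →ₗ[F] A := μ • M₁ - LinearMap.id with hN
  have hh₁N : ∀ a b, h₁ (T.tau a b) = T.tau a b + T.tau (N a) b := fun a b => by
    rw [hM₁, hμ, hN]; simp [map_smul, LinearMap.smul_apply]
  have hNW : ∀ a b, T.tau (N a) b ∈ W := fun a b => by
    have := hh₁W (T.tau a b)
    rwa [hh₁N, add_sub_cancel_left] at this
  obtain ⟨a₂, ha₂⟩ : ∃ a, N a ≠ 0 := by
    by_contra hno'
    simp only [not_exists, not_not] at hno'
    have h1 : k = 1 := by
      have h2 : h₁ = 1 := LinearEquiv.ext fun x => LinearMap.congr_fun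
        (hT.ext_tau (f := (h₁ : V →ₗ[F] V)) (g := LinearMap.id) fun a b => by
          show h₁ (T.tau a b) = _
          rw [hh₁N, hno', map_zero, LinearMap.zero_apply, add_zero]; rfl) x
      calc k = h⁻¹ * h₁ * h := by rw [hh₁]; group
        _ = 1 := by rw [h2]; group
    have h2 := hk' ε b₀
    rw [h1] at h2
    have h3 : ε = ε - (2 * T.fA ε ε / T.fA ε ε) • ε := hT.tau_left_inj hb₀ h2
    rw [eq_comm, sub_eq_self, smul_eq_zero, mul_div_assoc, div_self hε, mul_one] at h3
    exact h3.elim D.two fun e0 => hε (by simp [e0])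
  set η := N a₂ with hη
  have hWeq : LinearMap.range (T.tau η) = W := Submodule.eq_of_le_of_finrank_le
    (by rintro _ ⟨b, rfl⟩; exact hNW a₂ b)
    (by rw [LinearMap.finrank_range_of_inj (hT.tau_right_inj ha₂)]; exact hWle)
  obtain ⟨d, hd⟩ : ∃ d, T.fB e d ≠ 0 := ⟨y, by rw [he]; exact one_ne_zero⟩
  -- so `u` fixes it pointwise
  have hηfix : n η = 0 := by
    have hnN : ∀ a, n (N a) = N (n a) := fun a => by
      have h1 := LinearEquiv.congr_fun h₁u.eq (T.tau a e)
      change h₁ (u (T.tau a e)) = u (h₁ (T.tau a e)) at h1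
      rw [hun, hh₁N, map_add, map_add, hh₁N, hh₁N, hun, hun] at h1
      refine hT.tau_left_inj (fun e0 => by simp [e0] at he) (show T.tau (n (N a)) e = T.tau (N (n a)) e from ?_)
      linear_combination (norm := module) -h1
    obtain ⟨b, hb⟩ : T.tau (N (n a₂)) e ∈ LinearMap.range (T.tau η) := hWeq ▸ hNW _ e
    have h1 := congrArg (T.C d) hb
    rw [hT.C_tau, hT.C_tau] at h1
    have h2 : n η = ((T.fB e d)⁻¹ * T.fB b d) • η := by
      rw [hη, hnN, mul_smul, h1, inv_smul_smul₀ hd]
    have h3 := congrArg n h2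
    rw [hn2, map_smul, h2, smul_smul, eq_comm, smul_eq_zero] at h3
    rw [h2, mul_self_eq_zero.1 (h3.resolve_right ha₂), zero_smul]
  obtain ⟨b, hb⟩ : h (T.tau ε e) ∈ LinearMap.range (T.tau η) :=
    hWeq ▸ Submodule.mem_map_of_mem (LinearMap.mem_range_self (T.tau ε) e)
  have h1 : u (h (T.tau ε e)) = h (T.tau ε e) := by
    rw [← hb, hun, hηfix, map_zero, LinearMap.zero_apply, add_zero]
  rw [hux, LinearEquiv.coe_inv, LinearEquiv.symm_apply_apply, hT.C_tau, he, one_smul, add_eq_left,
    LinearEquiv.map_eq_zero_iff, ← map_zero (T.tau.flip y)] at h1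
  exact hε (by rw [hT.tau_left_inj hy0 h1]; simp)

theorem rootHyp (D : SpData T H) [FiniteDimensional F V] (hB : 4 ≤ finrank F B) (hno : NoTvSp T H) :
    RootHyp T 1 H {g : A ≃ₗ[F] A | ∀ a a', T.fA (g a) (g a') = T.fA a a'} where
  toStabHyp := D.stabHyp hno
  nontriv := Module.nontrivial_of_finrank_pos (R := F) (by have := D.dimA; omega)
  lt := Or.inr ⟨D.two, D.scalRoot hB hno⟩
  trans y y' _ hy _ hy' := D.transB hy hy'
  perp2 v v' := by
    obtain ⟨w, hw, hw0⟩ : ∃ w ∈ LinearMap.ker ((T.fB.flip v).prod (T.fB.flip v')), w ≠ 0 := by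
      refine Submodule.exists_mem_ne_zero_of_ne_bot fun h => ?_
      have h1 := ((T.fB.flip v).prod (T.fB.flip v')).finrank_range_add_finrank_ker
      have h2 := Submodule.finrank_le (LinearMap.range ((T.fB.flip v).prod (T.fB.flip v')))
      rw [h, finrank_bot] at h1
      simp only [Module.finrank_prod, Module.finrank_self] at h2
      omega
    have hw' := LinearMap.mem_ker.1 hw
    exact ⟨w, hw0, D.altB w, congrArg Prod.fst hw', congrArg Prod.snd hw'⟩
  isoVec := by
    haveI := Module.nontrivial_of_finrank_pos (R := F) (M := B) (by have := D.dimB; omega)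
    obtain ⟨z, hz⟩ := exists_ne (0 : B)
    exact ⟨z, hz, D.altB z⟩
  three := by omega

/-- without such transvections everything is pure -/
theorem kron_all (D : SpData T H) [FiniteDimensional F V] (hB : 4 ≤ finrank F B) (hno : NoTvSp T H) {h : V ≃ₗ[F] V}
    (hh : h ∈ H) : IsKron T h := by
  obtain ⟨p, hp⟩ := CharP.exists F
  haveI := hp
  haveI : Fact p.Prime := ⟨CharP.char_is_prime F p⟩
  exact (D.rootHyp hB hno).kron_odd (fun e => by subst e; exact D.two CharTwo.two_eq_zero) hh

end SpData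

end CfsgLib.MaxSub.TForm
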