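import Cfsg.Agent.Lib.MaxSub.TFormRoot

/-!
Tensor product of an orthogonal and a symplectic space in odd characteristic: elementary isometries of the
factors, and the fixed point principle for the Eichler group of a singular vector.
-/

set_option autoImplicit false
set_option linter.unusedSectionVars false
set_option linter.unusedSimpArgs false
set_option linter.unusedVariables false
set_option linter.style.haveILetI false

namespace CfsgLib.MaxSub.TForm

open Module

variable {F A B V : Type*} [Field F] [AddCommGroup A] [Module F A] [AddCommGroup B] [Module F B]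
  [AddCommGroup V] [Module F V]

/-- a finite `p`-group of additive operators on an invariant elementary abelian group has a fixed point
outside an invariant proper part, modulo that part -/
theorem exists_fixed_mod {M W : Type*} [AddCommGroup M] [Finite M] [AddCommGroup W] [Finite W] {p : ℕ}
    [Fact p.Prime] (hW : ∀ w : W, p • w = 0) (hM : ∀ x : M, p • x = 0) (ρ : W → M →+ M)
    (h0 : ∀ x, ρ 0 x = x) (hadd : ∀ r s x, ρ (r + s) x = ρ r (ρ s x)) (X S : AddSubgroup M)
    (hX : ∀ r, ∀ x ∈ X, ρ r x ∈ X) (hS : ∀ r, ∀ x ∈ S, ρ r x ∈ S) {x₀ : M} (hx₀ : x₀ ∈ X)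
    (hx₀S : x₀ ∉ S) : ∃ y ∈ X, y ∉ S ∧ ∀ r, ρ r y - y ∈ S := by
  classical
  let N := S.addSubgroupOf X
  let φ : W → (X ⧸ N →+ X ⧸ N) := fun r =>
    QuotientAddGroup.map N N (((ρ r).comp X.subtype).codRestrict X fun x => hX r x x.2)
      fun x hx => hS r x hx
  letI : MulAction (Multiplicative W) (X ⧸ N) :=
    { smul := fun r q => φ r.toAdd q
      one_smul := fun q => by
        induction q using QuotientAddGroup.induction_on with
        | _ x => exact congrArg (fun z : X => (z : X ⧸ N)) (Subtype.ext (h0 x.1))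
      mul_smul := fun r s q => by
        induction q using QuotientAddGroup.induction_on with
        | _ x => exact congrArg (fun z : X => (z : X ⧸ N)) (Subtype.ext (hadd r.toAdd s.toAdd x.1)) }
  have hG : IsPGroup p (Multiplicative W) := fun g => ⟨1, by
    rw [pow_one]
    exact congrArg Multiplicative.ofAdd (hW g.toAdd)⟩
  have hfix0 : (0 : X ⧸ N) ∈ MulAction.fixedPoints (Multiplicative W) (X ⧸ N) :=
    fun r => map_zero (φ r.toAdd)
  have hx0' : ((⟨x₀, hx₀⟩ : X) : X ⧸ N) ≠ 0 := fun e => hx₀S ((QuotientAddGroup.eq_zero_iff (N := N) (⟨x₀, hx₀⟩ : X)).1 e)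
  have hord : addOrderOf ((⟨x₀, hx₀⟩ : X) : X ⧸ N) = p := addOrderOf_eq_prime (by
    rw [← QuotientAddGroup.mk_nsmul, show p • (⟨x₀, hx₀⟩ : X) = 0 from Subtype.ext (hM x₀)]
    rfl) hx0'
  have hp : p ∣ Nat.card (X ⧸ N) := by
    conv_lhs => rw [← hord]
    exact addOrderOf_dvd_natCard _
  obtain ⟨b, hb, hb0⟩ := hG.exists_fixed_point_of_prime_dvd_card_of_fixed_point _ hp hfix0
  induction b using QuotientAddGroup.induction_on with
  | _ y =>
    refine ⟨y.1, y.2, fun hy => hb0 ((QuotientAddGroup.eq_zero_iff (N := N) y).2 hy).symm, fun r => ?_⟩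
    have h1 : φ r (y : X ⧸ N) = y := hb (Multiplicative.ofAdd r)
    have h2 : ((⟨ρ r y.1, hX r _ y.2⟩ - y : X) : X ⧸ N) = 0 := by
      rw [QuotientAddGroup.mk_sub, show ((⟨ρ r y.1, hX r _ y.2⟩ : X) : X ⧸ N) = φ r (y : X ⧸ N) from rfl,
        h1, sub_self]
    exact (QuotientAddGroup.eq_zero_iff (N := N) _).1 h2

/-- The setting: an overgroup of the pure isometries of orthogonal ⊗ symplectic. -/
structure SpData (T : Sys F A B V (RingHom.id F)) (H : Subgroup (V ≃ₗ[F] V)) : Prop where
  good : T.Good 1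
  isom : ∀ g ∈ H, ∀ x y, T.form (g x) (g y) = T.form x y
  two : (2 : F) ≠ 0
  pureA : ∀ g : A ≃ₗ[F] A, (∀ a a', T.fA (g a) (g a') = T.fA a a') →
    ∃ k ∈ H, ∀ a b, k (T.tau a b) = T.tau (g a) b
  pureB : ∀ g : B ≃ₗ[F] B, (∀ b b', T.fB (g b) (g b') = T.fB b b') →
    ∃ k ∈ H, ∀ a b, k (T.tau a b) = T.tau a (g b)
  dimA : 3 ≤ finrank F A
  dimB : 2 ≤ finrank F B
  big : finrank F A = 3 → ∃ R : F, R ≠ 0 ∧ R * R ≠ 1

/-- no transvection at a pure vector singular in the orthogonal factor -/
def NoTvSp (T : Sys F A B V (RingHom.id F)) (H : Subgroup (V ≃ₗ[F] V)) : Prop :=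
  ∀ z : B, z ≠ 0 → ∀ v : A, T.fA v v = 0 → v ≠ 0 → ∀ k : F, k ≠ 0 →
    ¬ InH H fun x => x + (k * T.form x (T.tau v z)) • T.tau v z

namespace SpData

variable {T : Sys F A B V (RingHom.id F)} {H : Subgroup (V ≃ₗ[F] V)}

theorem symA (D : SpData T H) (x y : A) : T.fA y x = T.fA x y := by
  rw [D.good.hermA x y, one_mul, RingHom.id_apply]

theorem swapB (D : SpData T H) (x y : B) : T.fB y x = -T.fB x y := by
  rw [D.good.skewB x y, RingHom.id_apply]

theorem altB (D : SpData T H) (x : B) : T.fB x x = 0 := by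
  have h := D.swapB x x
  refine (mul_eq_zero.1 (show (2 : F) * T.fB x x = 0 by linear_combination h)).resolve_left D.two

theorem swapV (D : SpData T H) (x y : V) : T.form y x = -T.form x y := by
  refine D.good.induction (p := fun x => T.form y x = -T.form x y) (by simp)
    (fun a b ha hb => by simp only [map_add, LinearMap.add_apply, ha, hb]; ring) (fun a b => ?_) x
  refine D.good.induction (p := fun y => T.form y (T.tau a b) = -T.form (T.tau a b) y) (by simp)
    (fun u u' hu hu' => by simp only [map_add, LinearMap.add_apply, hu, hu']; ring) (fun a' b' => ?_) y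
  rw [D.good.form_tau, D.good.form_tau, D.symA a a', D.swapB b b', mul_neg]

theorem altV (D : SpData T H) (x : V) : T.form x x = 0 := by
  have h := D.swapV x x
  refine (mul_eq_zero.1 (show (2 : F) * T.form x x = 0 by linear_combination h)).resolve_left D.two

/-- reflections of `A` -/
theorem exists_refl (D : SpData T H) {e : A} (he : T.fA e e ≠ 0) :
    ∃ g : A ≃ₗ[F] A, (∀ a a', T.fA (g a) (g a') = T.fA a a') ∧
      ∀ a, g a = a - (2 * T.fA a e / T.fA e e) • e := by
  let l : A →ₗ[F] A := LinearMap.id - (2 / T.fA e e) • (T.fA.flip e).smulRight e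
  have hl : ∀ a, l a = a - (2 * T.fA a e / T.fA e e) • e := fun a => by
    show a - (2 / T.fA e e) • (T.fA a e • e) = _
    rw [smul_smul, div_mul_eq_mul_div]
  have h1 : ∀ a, T.fA (l a) e = -T.fA a e := fun a => by
    rw [hl, map_sub, map_smul, LinearMap.sub_apply, LinearMap.smul_apply, smul_eq_mul,
      div_mul_cancel₀ _ he]
    ring
  have h2 : l ∘ₗ l = LinearMap.id := LinearMap.ext fun a => by
    rw [LinearMap.comp_apply, hl (l a), h1, hl, LinearMap.id_apply, mul_neg, neg_div, neg_smul,
      sub_neg_eq_add, sub_add_cancel]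
  refine ⟨LinearEquiv.ofLinearMap l l h2 h2, fun a a' => ?_, fun a => hl a⟩
  show T.fA (l a) (l a') = _
  simp only [hl, map_sub, map_smul, map_smulₛₗ, LinearMap.sub_apply, LinearMap.smul_apply, smul_eq_mul,
    RingHom.id_apply, D.symA a' e]
  field_simp
  ring

/-- the Eichler map at a singular vector -/
noncomputable def eichA (T : Sys F A B V (RingHom.id F)) (v r : A) : A →ₗ[F] A :=
  LinearMap.id + (T.fA.flip v).smulRight r - (T.fA.flip r).smulRight v -
    (T.fA r r / 2) • (T.fA.flip v).smulRight v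

theorem eichA_apply (v r a : A) :
    eichA T v r a = a + T.fA a v • r - (T.fA a r + T.fA r r / 2 * T.fA a v) • v := by
  show a + T.fA a v • r - T.fA a r • v - (T.fA r r / 2) • (T.fA a v • v) = _
  module

theorem eichA_isom (D : SpData T H) {v r : A} (hv : T.fA v v = 0) (hr : T.fA r v = 0) (a a' : A) :
    T.fA (eichA T v r a) (eichA T v r a') = T.fA a a' := by
  have hvr : T.fA v r = 0 := by rw [D.symA, hr]
  have h2 := D.two
  simp only [eichA_apply, map_add, map_sub, map_smul, map_smulₛₗ, LinearMap.add_apply,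
    LinearMap.sub_apply, LinearMap.smul_apply, smul_eq_mul, RingHom.id_apply, hv, hr, hvr,
    D.symA a' v, D.symA a' r]
  field_simp
  ring

theorem eichA_comp (D : SpData T H) {v r s : A} (hv : T.fA v v = 0) (hr : T.fA r v = 0)
    (hs : T.fA s v = 0) (a : A) : eichA T v r (eichA T v s a) = eichA T v (r + s) a := by
  have hvr : T.fA v r = 0 := by rw [D.symA, hr]
  have h2 := D.two
  simp only [eichA_apply, map_add, map_sub, map_smul, LinearMap.add_apply, LinearMap.sub_apply,
    LinearMap.smul_apply, smul_eq_mul, hv, hs, hvr, D.symA s r]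
  match_scalars <;> field_simp <;> ring

theorem eichA_zero (v a : A) : eichA T v 0 a = a := by simp [eichA_apply]

/-- transvections of `B` -/
theorem tvB (D : SpData T H) (z : B) (c : F) : InH H fun x => x + c • T.tau (T.C z x) z := by
  let l : F → B →ₗ[F] B := fun c => LinearMap.id + c • (T.fB.flip z).smulRight z
  have hl : ∀ c b, l c b = b + (c * T.fB b z) • z := fun c b => by
    show b + c • (T.fB b z • z) = _
    rw [smul_smul]
  have hinv : ∀ c, l c ∘ₗ l (-c) = LinearMap.id := fun c => LinearMap.ext fun b => by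
    rw [LinearMap.comp_apply, hl (-c), map_add, map_smul, hl c b, hl c z, D.altB, mul_zero, zero_smul,
      add_zero, LinearMap.id_apply]
    module
  let g : B ≃ₗ[F] B := LinearEquiv.ofLinearMap (l c) (l (-c)) (hinv c) (by
    have := hinv (-c); rwa [neg_neg] at this)
  obtain ⟨k, hk, hkab⟩ := D.pureB g (fun b b' => by
    show T.fB (l c b) (l c b') = _
    simp only [hl, map_add, map_smul, map_smulₛₗ, LinearMap.add_apply, LinearMap.smul_apply, smul_eq_mul,
      RingHom.id_apply, D.altB, D.swapB b' z]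
    ring)
  refine ⟨k, hk, fun x => ?_⟩
  refine LinearMap.congr_fun (D.good.ext_tau (f := (k : V →ₗ[F] V))
    (g := LinearMap.id + c • (T.tau.flip z ∘ₗ T.C z)) fun a b => ?_) x
  show k (T.tau a b) = T.tau a b + c • T.tau (T.C z (T.tau a b)) z
  rw [hkab, show g b = _ from hl c b, D.good.C_tau, map_smul T.tau, LinearMap.smul_apply, map_add,
    map_smul, smul_smul]

variable [Finite F] [FiniteDimensional F A] [FiniteDimensional F B]

/-- a vector seen by a given non-zero vector and by another one -/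
theorem exists_both {M : Type*} [AddCommGroup M] [Module F M] (f g : M →ₗ[F] F) (hf : f ≠ 0)
    (hg : g ≠ 0) : ∃ x, f x ≠ 0 ∧ g x ≠ 0 := by
  obtain ⟨a, ha⟩ : ∃ a, f a ≠ 0 := by
    by_contra h
    simp only [not_exists, not_not] at h
    exact hf (LinearMap.ext h)
  obtain ⟨b, hb⟩ : ∃ b, g b ≠ 0 := by
    by_contra h
    simp only [not_exists, not_not] at h
    exact hg (LinearMap.ext h)
  by_cases h1 : g a = 0
  swap
  · exact ⟨a, ha, h1⟩
  by_cases h2 : f b = 0
  swap
  · exact ⟨b, h2, hb⟩
  exact ⟨a + b, by rw [map_add, h2, add_zero]; exact ha, by rw [map_add, h1, zero_add]; exact hb⟩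

/-- pure isometries of `B` are transitive on non-zero vectors -/
theorem transB (D : SpData T H) {y y' : B} (hy : y ≠ 0) (hy' : y' ≠ 0) :
    ∃ k ∈ H, ∃ f : B ≃ₗ[F] B, (∀ a b, k (T.tau a b) = T.tau a (f b)) ∧ f y = y' := by
  -- a single transvection suffices between non-orthogonal vectors
  have step : ∀ y y', T.fB y y' ≠ 0 →
      ∃ k ∈ H, ∃ f : B ≃ₗ[F] B, (∀ a b, k (T.tau a b) = T.tau a (f b)) ∧ f y = y' := by
    intro y y' hne
    set d := y' - y with hd
    set c := (T.fB y y')⁻¹ with hc
    have hl : ∀ c b, (LinearMap.id + c • (T.fB.flip d).smulRight d : B →ₗ[F] B) b =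
        b + (c * T.fB b d) • d := fun c b => by
      show b + c • (T.fB b d • d) = _
      rw [smul_smul]
    let g : B ≃ₗ[F] B := LinearEquiv.ofLinearMap (LinearMap.id + c • (T.fB.flip d).smulRight d)
      (LinearMap.id + (-c) • (T.fB.flip d).smulRight d)
      (LinearMap.ext fun b => by
        rw [LinearMap.comp_apply, hl (-c), map_add, map_smul, hl c b, hl c d, D.altB, mul_zero,
          zero_smul, add_zero, LinearMap.id_apply]
        module)
      (LinearMap.ext fun b => by
        rw [LinearMap.comp_apply, hl c, map_add, map_smul, hl (-c) b, hl (-c) d, D.altB, mul_zero,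
          zero_smul, add_zero, LinearMap.id_apply]
        module)
    obtain ⟨k, hk, hkx⟩ := D.tvB d c
    refine ⟨k, hk, g, fun a b => ?_, ?_⟩
    · replace hkx : ∀ v, k v = v + c • T.tau (T.C d v) d := hkx
      rw [hkx, D.good.C_tau, show g b = _ from hl c b]
      simp [map_add, map_smul, smul_smul]
    · rw [show g y = _ from hl c y, hd, map_sub (T.fB y), D.altB, sub_zero, hc,
        inv_mul_cancel₀ hne, one_smul, add_sub_cancel]
  by_cases hne : T.fB y y' = 0
  swap
  · exact step y y' hne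
  obtain ⟨w, h1, h2⟩ := exists_both (T.fB y) (T.fB y')
    (fun e => hy (D.good.nondegB y fun b => by rw [e]; rfl))
    (fun e => hy' (D.good.nondegB y' fun b => by rw [e]; rfl))
  obtain ⟨k, hk, f, hkf, hfy⟩ := step y w h1
  obtain ⟨k', hk', f', hkf', hfy'⟩ := step w y' (fun e => h2 (by rw [D.swapB, e, neg_zero]))
  exact ⟨k' * k, mul_mem hk' hk, f.trans f', fun a b => by
    rw [LinearEquiv.mul_apply, hkf, hkf']; rfl, by rw [LinearEquiv.trans_apply, hfy, hfy']⟩

theorem exists_aniso (D : SpData T H) {S : Submodule F A}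
    (hS : ∀ y ∈ S, (∀ y' ∈ S, T.fA y y' = 0) → y = 0) (h1 : 1 ≤ finrank F S) :
    ∃ e ∈ S, T.fA e e ≠ 0 := by
  obtain ⟨y, hy, hy0⟩ := Submodule.exists_mem_ne_zero_of_ne_bot (p := S) fun e => by
    rw [e, finrank_bot] at h1; omega
  by_contra hno
  simp only [not_exists, not_and, not_not] at hno
  refine hy0 (hS y hy fun y' hy' => ?_)
  have h := hno (y + y') (S.add_mem hy hy')
  simp only [map_add, LinearMap.add_apply, hno y hy, hno y' hy', D.symA y y'] at h
  exact (mul_eq_zero.1 (show (2 : F) * T.fA y y' = 0 by linear_combination h)).resolve_left D.two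

/-- the common orthogonal of finitely many vectors -/
def perpA (T : Sys F A B V (RingHom.id F)) {k : ℕ} (a : Fin k → A) : Submodule F A :=
  LinearMap.ker (LinearMap.pi fun i => T.fA.flip (a i))

theorem mem_perpA {k : ℕ} {a : Fin k → A} {x : A} : x ∈ perpA T a ↔ ∀ i, T.fA x (a i) = 0 := by
  simp [perpA, LinearMap.mem_ker, funext_iff]

theorem le_finrank_perpA {k : ℕ} (a : Fin k → A) : finrank F A ≤ finrank F (perpA T a) + k := by
  have h1 := (LinearMap.pi fun i => T.fA.flip (a i) : A →ₗ[F] Fin k → F).finrank_range_add_finrank_ker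
  have h2 := Submodule.finrank_le (LinearMap.range (LinearMap.pi fun i => T.fA.flip (a i) : A →ₗ[F] Fin k → F))
  rw [Module.finrank_fin_fun] at h2
  have h3 : finrank F (LinearMap.ker (LinearMap.pi fun i => T.fA.flip (a i) : A →ₗ[F] Fin k → F)) =
      finrank F (perpA T a) := rfl
  omega

/-- three mutually orthogonal anisotropic vectors -/
theorem exists_orth_three (D : SpData T H) :
    ∃ e f h, T.fA e e ≠ 0 ∧ T.fA f f ≠ 0 ∧ T.fA h h ≠ 0 ∧ T.fA f e = 0 ∧ T.fA h e = 0 ∧ T.fA h f = 0 := by
  have := D.dimA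
  obtain ⟨e, -, he⟩ := D.exists_aniso (S := ⊤) (fun y _ h => D.good.nondegA y fun y' =>
    h y' Submodule.mem_top) (by rw [finrank_top]; omega)
  have nd1 : ∀ y ∈ perpA T ![e], (∀ y' ∈ perpA T ![e], T.fA y y' = 0) → y = 0 := by
    intro y hy h
    have hye : T.fA y e = 0 := mem_perpA.1 hy 0
    refine D.good.nondegA y fun a => ?_
    have h1 := h (a - (T.fA a e / T.fA e e) • e) (mem_perpA.2 fun i => by
      fin_cases i
      simp [he])
    simpa [hye] using h1
  obtain ⟨f, hf, hff⟩ := D.exists_aniso nd1 (by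
    have := le_finrank_perpA (T := T) ![e]; omega)
  have hfe : T.fA f e = 0 := mem_perpA.1 hf 0
  have hef : T.fA e f = 0 := by rw [D.symA, hfe]
  have nd2 : ∀ y ∈ perpA T ![e, f], (∀ y' ∈ perpA T ![e, f], T.fA y y' = 0) → y = 0 := by
    intro y hy h
    have hye : T.fA y e = 0 := mem_perpA.1 hy 0
    have hyf : T.fA y f = 0 := mem_perpA.1 hy 1
    refine D.good.nondegA y fun a => ?_
    have h1 := h (a - (T.fA a e / T.fA e e) • e - (T.fA a f / T.fA f f) • f) (mem_perpA.2 fun i => by
      fin_cases i <;> simp [he, hff, hfe, hef])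
    simpa [hye, hyf] using h1
  obtain ⟨h, hh, hhh⟩ := D.exists_aniso nd2 (by
    have := le_finrank_perpA (T := T) ![e, f]; omega)
  exact ⟨e, f, h, he, hff, hhh, hfe, mem_perpA.1 hh 0, mem_perpA.1 hh 1⟩

/-- a non-zero singular vector -/
theorem exists_iso (D : SpData T H) : ∃ v, v ≠ 0 ∧ T.fA v v = 0 := by
  classical
  cases nonempty_fintype F
  obtain ⟨e, f, h, he, hf, hh, hfe, hhe, hhf⟩ := D.exists_orth_three
  open Polynomial in
  obtain ⟨x, y, hxy⟩ := FiniteField.exists_root_sum_quadratic
    (f := C (T.fA e e) * X ^ 2) (g := C (T.fA f f) * X ^ 2 + C (T.fA h h))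
    (degree_C_mul_X_pow 2 he)
    (by rw [degree_add_C (by rw [degree_C_mul_X_pow 2 hf]; norm_num), degree_C_mul_X_pow 2 hf]; rfl)
    (FiniteField.odd_card_of_char_ne_two fun hc => D.two (by
      haveI := ringChar.of_eq hc
      exact CharTwo.two_eq_zero))
  simp only [Polynomial.eval_mul, Polynomial.eval_add, Polynomial.eval_C, Polynomial.eval_pow,
    Polynomial.eval_X] at hxy
  refine ⟨x • e + y • f + h, fun e0 => ?_, ?_⟩
  · have h1 := congrArg (fun a => T.fA a h) e0
    simp [D.symA h e, D.symA h f, hhe, hhf, hh] at h1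
  · simp only [map_add, map_smul, map_smulₛₗ, LinearMap.add_apply, LinearMap.smul_apply, smul_eq_mul,
      RingHom.id_apply, hfe, hhe, hhf, D.symA f e, D.symA h e, D.symA h f]
    linear_combination hxy

/-- a hyperbolic partner -/
theorem partnerA (D : SpData T H) {v : A} (hv0 : v ≠ 0) (hv : T.fA v v = 0) :
    ∃ u, T.fA u u = 0 ∧ T.fA v u = 1 ∧ T.fA u v = 1 := by
  obtain ⟨w, hw⟩ : ∃ w, T.fA v w ≠ 0 := by
    by_contra h
    simp only [not_exists, not_not] at h
    exact hv0 (D.good.nondegA v h)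
  set w' := (T.fA v w)⁻¹ • w with hw'
  have h1 : T.fA v w' = 1 := by rw [hw', map_smul, smul_eq_mul, inv_mul_cancel₀ hw]
  have h1' : T.fA w' v = 1 := by rw [D.symA, h1]
  have h2 := D.two
  refine ⟨w' - (T.fA w' w' / 2) • v, ?_, by simp [h1, hv], by simp [h1', hv]⟩
  simp only [map_sub, map_smul, map_smulₛₗ, LinearMap.sub_apply, LinearMap.smul_apply, smul_eq_mul,
    RingHom.id_apply, hv, h1, h1']
  field_simp
  ring

end SpData

end CfsgLib.MaxSub.TForm
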