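import Cfsg.Agent.Lib.MaxSub.TFormSpPlane

/-!
Orthogonal ⊗ `Sp₂`: two non-conjugate involutions give a commuting third, which confines the image of a
plane to an eigenspace.
-/

set_option autoImplicit false
set_option linter.unusedSectionVars false
set_option linter.unusedSimpArgs false
set_option linter.unusedVariables false
set_option linter.style.haveILetI false

namespace CfsgLib.MaxSub.TForm

open Module

variable {F A B V : Type*} [Field F] [AddCommGroup A] [Module F A] [AddCommGroup B] [Module F B]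
  [AddCommGroup V] [Module F V]

/-- two non-conjugate involutions centralize an involution of the group they generate -/
theorem exists_central_involution {G : Type*} [Group G] [Finite G] {x y : G} (hx : x * x = 1)
    (hy : y * y = 1) (hnc : ∀ w ∈ Subgroup.closure ({x, y} : Set G), w * x * w⁻¹ ≠ y) :
    ∃ κ ∈ Subgroup.closure ({x, y} : Set G), κ ≠ 1 ∧ κ * κ = 1 ∧ Commute κ x ∧ Commute κ y := by
  set K := Subgroup.closure ({x, y} : Set G) with hK
  have hxy : x * y ∈ K := mul_mem (Subgroup.subset_closure (Set.mem_insert _ _))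
    (Subgroup.subset_closure (Set.mem_insert_of_mem _ rfl))
  have hxi : x⁻¹ = x := inv_eq_of_mul_eq_one_left hx
  have hyi : y⁻¹ = y := inv_eq_of_mul_eq_one_left hy
  have hconj : ∀ i : ℕ, x * (x * y) ^ i * x⁻¹ = ((x * y) ^ i)⁻¹ := fun i => by
    rw [← conj_pow, ← inv_pow]
    congr 1
    rw [mul_inv_rev, hyi, hxi]
    calc x * (x * y) * x = (x * x) * y * x := by group
      _ = y * x := by rw [hx, one_mul]
  rcases Nat.even_or_odd' (orderOf (x * y)) with ⟨l, hl | hl⟩
  · have hl0 : l ≠ 0 := fun e => by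
      have := orderOf_pos (x * y); rw [hl, e] at this; omega
    have h2 : (x * y) ^ l * (x * y) ^ l = 1 := by
      rw [← pow_add, ← two_mul, ← hl, pow_orderOf_eq_one]
    have hinv : ((x * y) ^ l)⁻¹ = (x * y) ^ l := inv_eq_of_mul_eq_one_left h2
    have hcx : Commute ((x * y) ^ l) x := by
      have h1 := hconj l
      rw [hinv, mul_inv_eq_iff_eq_mul] at h1
      exact h1.symm
    refine ⟨(x * y) ^ l, pow_mem hxy _, pow_ne_one_of_lt_orderOf hl0 (by omega), h2, hcx, ?_⟩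
    have h4 := hcx.mul_right ((Commute.refl (x * y)).pow_left l)
    rwa [← mul_assoc, hx, one_mul] at h4
  · refine absurd ?_ (hnc _ (pow_mem hxy l))
    have h1 : x * ((x * y) ^ l)⁻¹ * x⁻¹ = (x * y) ^ l := by
      rw [show x * ((x * y) ^ l)⁻¹ * x⁻¹ = (x * (x * y) ^ l * x⁻¹)⁻¹ by group, hconj, inv_inv]
    have h2 : (x * y) ^ l * x * ((x * y) ^ l)⁻¹ = (x * y) ^ (2 * l) * x := by
      rw [two_mul, pow_add, mul_assoc, mul_assoc, show x * ((x * y) ^ l)⁻¹ = (x * y) ^ l * x by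
        calc x * ((x * y) ^ l)⁻¹ = x * ((x * y) ^ l)⁻¹ * x⁻¹ * x := by group
          _ = _ := by rw [h1]]
    have h3 : (x * y) ^ (2 * l) = (x * y)⁻¹ := by
      rw [eq_inv_iff_mul_eq_one, ← pow_succ, ← hl, pow_orderOf_eq_one]
    rw [h2, h3, mul_inv_rev, hxi, hyi, mul_assoc, hx, mul_one]

namespace SpData

variable {T : Sys F A B V (RingHom.id F)} {H : Subgroup (V ≃ₗ[F] V)}
variable [Finite F] [FiniteDimensional F A] [FiniteDimensional F B]

theorem ndeg_cutS (D : SpData T H) {L S : Submodule F A} (hL : NDeg T L) (hS : NDeg T S) (hle : S ≤ L) :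
    NDeg T (L ⊓ perpS T S) := by
  intro y hy h
  refine hL y hy.1 fun y' hy' => ?_
  obtain ⟨s, hs, hp⟩ := D.split hS y'
  have h1 := h (y' - s) ⟨L.sub_mem hy' (hle hs), hp⟩
  have h2 : T.fA y s = 0 := hy.2 s hs
  rwa [map_sub, h2, sub_zero] at h1

theorem finrank_cutS (D : SpData T H) {L S : Submodule F A} (hS : NDeg T S) (hle : S ≤ L) :
    finrank F S + finrank F (L ⊓ perpS T S : Submodule F A) = finrank F L := by
  have h := Submodule.finrank_sup_add_finrank_inf_eq S (L ⊓ perpS T S)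
  have e1 : S ⊓ (L ⊓ perpS T S) = ⊥ := (Submodule.eq_bot_iff _).2 fun x hx =>
    hS x hx.1 fun y hy => hx.2.2 y hy
  have e2 : S ⊔ (L ⊓ perpS T S) = L := by
    refine le_antisymm (sup_le hle inf_le_left) fun a ha => ?_
    obtain ⟨l, hl, hp⟩ := D.split hS a
    rw [← add_sub_cancel l a]
    exact Submodule.add_mem_sup hl ⟨L.sub_mem ha (hle hl), hp⟩
  rw [e1, e2, finrank_bot, add_zero] at h
  exact h.symm

/-- anisotropic vectors span -/
theorem span_aniso (D : SpData T H) {L : Submodule F A} (hL : NDeg T L) :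
    L ≤ Submodule.span F {d | d ∈ L ∧ T.fA d d ≠ 0} := by
  intro y hy
  by_cases hyy : T.fA y y = 0
  swap
  · exact Submodule.subset_span ⟨hy, hyy⟩
  rcases Nat.eq_zero_or_pos (finrank F L) with h0 | h0
  · rw [Submodule.finrank_eq_zero.1 h0, Submodule.mem_bot] at hy
    rw [hy]; exact Submodule.zero_mem _
  obtain ⟨e, he, hee⟩ := D.exists_aniso hL (by omega)
  by_cases h1 : T.fA (e + y) (e + y) = 0
  · by_cases h2 : T.fA (e - y) (e - y) = 0
    · refine absurd ?_ hee
      simp only [map_add, map_sub, LinearMap.add_apply, LinearMap.sub_apply, hyy, D.symA e y] at h1 h2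
      exact (mul_eq_zero.1 (show (2 : F) * T.fA e e = 0 by linear_combination h1 + h2)).resolve_left D.two
    · rw [show y = e - (e - y) by abel]
      exact Submodule.sub_mem _ (Submodule.subset_span ⟨he, hee⟩)
        (Submodule.subset_span ⟨L.sub_mem he hy, h2⟩)
  · rw [show y = (e + y) - e by abel]
    exact Submodule.sub_mem _ (Submodule.subset_span ⟨L.add_mem he hy, h1⟩)
      (Submodule.subset_span ⟨he, hee⟩)

theorem image_mem (D : SpData T H) {S : Submodule F A} {g : V → V} {δ δ' : A} {f : B ≃ₗ[F] B}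
    (hf : ∀ b, g (T.tau δ b) = T.tau δ' (f b)) (hin : ∀ b w, T.C w (g (T.tau δ b)) ∈ S) : δ' ∈ S := by
  haveI := Module.nontrivial_of_finrank_pos (R := F) (M := B) (by have := D.dimB; omega)
  obtain ⟨b₀, hb₀⟩ := exists_ne (0 : B)
  obtain ⟨c, hc, -⟩ := D.good.exists_partner hb₀
  have h := hin (f.symm c) b₀
  rwa [hf, LinearEquiv.apply_symm_apply, D.good.C_tau, hc, one_smul] at h

/-- purity from pure planes, whole space -/
theorem glueTop (D : SpData T H) (hgood : ∀ e, T.fA e e ≠ 0 → Good T H (perpS T (Submodule.span F {e})))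
    {g : V ≃ₗ[F] V} (hg : g ∈ H) {P : Set A} (hspan : Submodule.span F P = ⊤)
    (hpl : ∀ δ ∈ P, T.fA δ δ ≠ 0 ∧ PlaneP T g δ) : IsKron T g := by
  haveI := Module.nontrivial_of_finrank_pos (R := F) (M := A) (by have := D.dimA; omega)
  obtain ⟨δ₀, hδ₀P⟩ : P.Nonempty := by
    rw [Set.nonempty_iff_ne_empty]
    intro h
    rw [h, Submodule.span_empty] at hspan
    exact bot_ne_top hspan
  obtain ⟨hδ₀, hp₀⟩ := hpl δ₀ hδ₀P
  obtain ⟨δ₀', f₀, hf₀, hδ₀'⟩ := D.exists_plane_map hg hδ₀ hp₀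
  have hδ₀'0 : δ₀' ≠ 0 := fun e => hδ₀' (by simp [e])
  have hm : ∀ b c, T.fB (f₀.symm b) c = T.fA δ₀' δ₀' / T.fA δ₀ δ₀ * T.fB b (f₀ c) := fun b c => by
    have h := D.isom g hg (T.tau δ₀ (f₀.symm b)) (T.tau δ₀ c)
    rw [hf₀, hf₀, LinearEquiv.apply_symm_apply, D.good.form_tau, D.good.form_tau] at h
    rw [div_mul_eq_mul_div, eq_div_iff hδ₀, mul_comm, ← h]
  refine D.kron_of_span (gl := (g : V →ₗ[F] V)) (fun _ => rfl) (f := f₀.toLinearMap) hspan ?_ ?_
  swap
  · haveI := Module.nontrivial_of_finrank_pos (R := F) (M := B) (by have := D.dimB; omega)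
    obtain ⟨b₀, hb₀⟩ := exists_ne (0 : B)
    exact ⟨b₀, fun e => hb₀ (f₀.map_eq_zero_iff.1 e)⟩
  intro δ hδP
  obtain ⟨hδ, hp⟩ := hpl δ hδP
  obtain ⟨δ', f, hf, hδ'⟩ := D.exists_plane_map hg hδ hp
  suffices ∃ c : F, ∀ b, (f.trans f₀.symm) b = c • b by
    obtain ⟨c, hc⟩ := this
    refine ⟨c • δ', fun b => ?_⟩
    have h : f b = c • f₀ b := f₀.symm.injective (by
      rw [map_smul, LinearEquiv.symm_apply_apply]; exact hc b)
    rw [hf, h, map_smul, map_smul, LinearMap.smul_apply]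
    rfl
  refine D.scalar_of_comm _ fun y hy => ?_
  obtain ⟨t, ht, htx⟩ := D.tvB y 1
  replace htx : ∀ a c, t (T.tau a c) = T.tau a (c + T.fB c y • y) := fun a c => by
    refine (htx _).trans ?_
    simp [D.good.C_tau]
  set μ := T.fA δ₀' δ₀' / T.fA δ₀ δ₀ with hμ
  obtain ⟨k, hk, hkx⟩ := D.tvB (f₀ y) (-μ)
  replace hkx : ∀ a c, k (T.tau a c) = T.tau a (c - (μ * T.fB c (f₀ y)) • f₀ y) := fun a c => by
    refine (hkx _).trans ?_
    simp [D.good.C_tau, smul_smul, sub_eq_add_neg]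
  have hv : g * t * g⁻¹ * k ∈ H := mul_mem (mul_mem (mul_mem hg ht) (inv_mem hg)) hk
  have hvt : ∀ (a a' : A) (h : B ≃ₗ[F] B), (∀ b, g (T.tau a b) = T.tau a' (h b)) → ∀ b,
      (g * t * g⁻¹ * k) (T.tau a' b) = T.tau a' (h (h.symm (b - (μ * T.fB b (f₀ y)) • f₀ y) +
        T.fB (h.symm (b - (μ * T.fB b (f₀ y)) • f₀ y)) y • y)) := fun a a' h hh b => by
    show g (t (g⁻¹ (k (T.tau a' b)))) = _
    have hi : ∀ c, g⁻¹ (T.tau a' c) = T.tau a (h.symm c) := fun c => by
      apply g.injective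
      rw [ap_inv, hh, LinearEquiv.apply_symm_apply]
    rw [hkx, hi, htx, hh]
  have hfixv : FixOff T (perpS T (Submodule.span F {δ₀'})) (g * t * g⁻¹ * k : V ≃ₗ[F] V) := by
    intro a ha b
    have hmem : a ∈ Submodule.span F {δ₀'} := D.perp_perp (D.ndeg_line hδ₀') fun p hp => ha p hp
    obtain ⟨c, rfl⟩ := Submodule.mem_span_singleton.1 hmem
    rw [map_smul, LinearMap.smul_apply, map_smul, hvt δ₀ δ₀' f₀ hf₀ b]
    congr 2
    rw [map_add, LinearEquiv.apply_symm_apply, map_smul, hm, map_sub (T.fB), LinearMap.sub_apply,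
      map_smul (T.fB), LinearMap.smul_apply, D.altB, smul_zero, sub_zero, sub_add_cancel]
  obtain ⟨M, hM, -⟩ := D.pure_form hv (hgood δ₀' hδ₀' _ hv hfixv) hδ₀'0 fun b =>
    hfixv δ₀' (fun l hl => by
      rw [D.symA l δ₀']; exact hl δ₀' (Submodule.mem_span_singleton_self _)) b
  obtain ⟨x, hx⟩ : ∃ x, T.fA δ' x ≠ 0 := ⟨δ', hδ'⟩
  refine ⟨T.fA (M δ') x / T.fA δ' x, fun b => ?_⟩
  have h1 := hM δ' (f b + (μ * T.fB (f b) (f₀ y)) • f₀ y)
  rw [hvt δ δ' f hf, map_add (T.fB), LinearMap.add_apply, map_smul (T.fB), LinearMap.smul_apply,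
    D.altB, smul_zero, add_zero, add_sub_cancel_right, LinearEquiv.symm_apply_apply] at h1
  have h2 := congrArg (T.C' x) h1
  rw [D.good.C'_tau, D.good.C'_tau] at h2
  apply smul_right_injective B hx
  show T.fA δ' x • f₀.symm (f (b + T.fB b y • y)) = T.fA δ' x • (T.fA (M δ') x / T.fA δ' x) •
    (f₀.symm (f b) + T.fB (f₀.symm (f b)) y • y)
  rw [smul_smul, mul_div_cancel₀ _ hx, hm, ← map_smul, h2, map_smul]
  congr 1
  simp [smul_smul]

theorem eq_smul_of_B (D : SpData T H) (hB : finrank F B = 2) {c c₀ : B} (hc₀ : c₀ ≠ 0)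
    (h : T.fB c c₀ = 0) : ∃ l : F, l • c₀ = c := by
  obtain ⟨e, he, -⟩ := D.good.exists_partner hc₀
  have hr : LinearMap.range (T.fB.flip c₀) = ⊤ := LinearMap.range_eq_top.2 fun k =>
    ⟨k • e, by simp [he]⟩
  have h1 := (T.fB.flip c₀).finrank_range_add_finrank_ker
  rw [hr, finrank_top, Module.finrank_self, hB] at h1
  have h2 : Submodule.span F {c₀} = LinearMap.ker (T.fB.flip c₀) := by
    refine Submodule.eq_of_le_of_finrank_le ?_ ?_
    · rw [Submodule.span_singleton_le_iff_mem, LinearMap.mem_ker]; exact D.altB c₀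
    · rw [finrank_span_singleton hc₀]; omega
  exact Submodule.mem_span_singleton.1 (h2.symm ▸ LinearMap.mem_ker.2 h)

set_option maxHeartbeats 1000000 in
/-- the image of a plane lies in an eigenspace of a commuting pure involution -/
theorem engine (D : SpData T H) [FiniteDimensional F V] (hP : GoodPairs T H) (hB : finrank F B = 2)
    (h5 : 5 ≤ finrank F A) {L₀ L₂ : Submodule F A} (hL₀ : NDeg T L₀) (h2 : NDeg T L₂) (hle : L₂ ≤ L₀)
    (d2 : finrank F L₂ = 2) (hg2 : Good T H L₂) (hg2' : Good T H (L₀ ⊓ perpS T L₂))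
    (h4 : 4 ≤ finrank F L₀)
    (htop : finrank F L₀ = finrank F A → ∀ e, T.fA e e ≠ 0 → Good T H (perpS T (Submodule.span F {e})))
    {g : V ≃ₗ[F] V} (hg : g ∈ H) (hfix : FixOff T L₀ g) {δ : A} (hδL : δ ∈ L₀) (hδ : T.fA δ δ ≠ 0) :
    ∃ S : Submodule F A, S ≤ L₀ ∧ NDeg T S ∧ finrank F S < finrank F L₀ ∧
      (∀ x ∈ S, ∃ p ∈ L₂, p ∈ S ∧ x - p ∈ S ∧ x - p ∈ perpS T L₂) ∧
      ∀ b w, T.C w (g (T.tau δ b)) ∈ S := by
  classical
  haveI : Finite V := Module.finite_of_finite F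
  haveI : Finite (V ≃ₗ[F] V) := Finite.of_injective _ DFunLike.coe_injective
  have hδ0 : δ ≠ 0 := fun e => hδ (by simp [e])
  -- the involution `z` of `L₂`
  obtain ⟨d₁, hd₁L, hd₁⟩ := D.exists_aniso h2 (by omega)
  obtain ⟨d₂, hd₂m, hd₂⟩ := D.exists_aniso (D.ndeg_cut h2 hd₁L hd₁) (by
    have := D.finrank_cut_line hd₁L hd₁; omega)
  have h21 : T.fA d₂ d₁ = 0 := mem_perpS_line.1 hd₂m.2
  have h12 : T.fA d₁ d₂ = 0 := D.good.A_flip_zero h21
  have hd₂0 : d₂ ≠ 0 := fun e => hd₂ (by simp [e])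
  have hL₂ : ∀ x ∈ L₂, ∃ r s : F, x = r • d₁ + s • d₂ := by
    intro x hx
    have heq : Submodule.span F {d₂} = L₂ ⊓ perpS T (Submodule.span F {d₁}) := by
      refine Submodule.eq_of_le_of_finrank_le ((Submodule.span_singleton_le_iff_mem _ _).2 hd₂m) ?_
      have := D.finrank_cut_line hd₁L hd₁
      rw [finrank_span_singleton hd₂0]; omega
    have hm : x - (T.fA x d₁ / T.fA d₁ d₁) • d₁ ∈ Submodule.span F {d₂} := by
      rw [heq]
      exact ⟨L₂.sub_mem hx (L₂.smul_mem _ hd₁L), mem_perpS_line.2 (by simp [hd₁])⟩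
    obtain ⟨s, hs⟩ := Submodule.mem_span_singleton.1 hm
    exact ⟨_, s, by rw [hs, add_sub_cancel]⟩
  obtain ⟨r₁, hr₁, hr₁ab, hr₁x⟩ := D.exists_iRefl hd₁
  obtain ⟨r₂, hr₂, hr₂ab, hr₂x⟩ := D.exists_iRefl hd₂
  set z := r₁ * r₂ with hz
  let σ₂ : A →ₗ[F] A := LinearMap.id - (2 / T.fA d₁ d₁) • (T.fA.flip d₁).smulRight d₁ -
    (2 / T.fA d₂ d₂) • (T.fA.flip d₂).smulRight d₂
  have hσ₂ : ∀ a, σ₂ a = a - (2 * T.fA a d₁ / T.fA d₁ d₁) • d₁ - (2 * T.fA a d₂ / T.fA d₂ d₂) • d₂ :=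
    fun a => by
      show a - (2 / T.fA d₁ d₁) • (T.fA a d₁ • d₁) - (2 / T.fA d₂ d₂) • (T.fA a d₂ • d₂) = _
      simp only [smul_smul, div_mul_eq_mul_div]
  have hzab : ∀ a b, z (T.tau a b) = T.tau (σ₂ a) b := fun a b => by
    rw [hz, LinearEquiv.mul_apply, hr₂ab, hr₁ab, hσ₂]
    simp only [map_sub, map_smul, LinearMap.sub_apply, LinearMap.smul_apply, h21, smul_eq_mul, mul_zero,
      sub_zero]
    module
  have hσneg : ∀ x ∈ L₂, σ₂ x = -x := by
    intro x hx
    obtain ⟨r, s, rfl⟩ := hL₂ x hx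
    rw [hσ₂]
    simp only [map_add, map_smul, LinearMap.add_apply, LinearMap.smul_apply, smul_eq_mul, h12, h21,
      mul_zero, add_zero, zero_add, mul_div_assoc, div_self hd₁, div_self hd₂, mul_one]
    module
  have hσfix : ∀ p ∈ perpS T L₂, σ₂ p = p := fun p hp => by
    rw [hσ₂, hp d₁ hd₁L, hp d₂ hd₂m.1]; simp
  have hzz : z * z = 1 := LinearEquiv.ext fun x => LinearMap.congr_fun
    (D.good.ext_tau (f := ((z * z : V ≃ₗ[F] V) : V →ₗ[F] V)) (g := LinearMap.id) fun a b => by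
      show z (z (T.tau a b)) = T.tau a b
      obtain ⟨l, hl, hp⟩ := D.split h2 a
      rw [hzab, hzab, show σ₂ (σ₂ a) = a from ?_]
      have h : σ₂ a = -l + (a - l) := by
        conv_lhs => rw [← add_sub_cancel l a, map_add, hσneg l hl, hσfix _ hp]
      rw [h, map_add, map_neg, hσneg l hl, hσfix _ hp, neg_neg, add_sub_cancel]) x
  -- the reflection of the image plane
  obtain ⟨j, hj, hmove, hneg, hjfix, hjj⟩ := D.exists_conj_refl hg hδ
  have hjj' : j * j = 1 := LinearEquiv.ext hjj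
  let φ : B →ₗ[F] V := (g : V →ₗ[F] V) ∘ₗ T.tau δ
  have hφinj : ∀ b, g (T.tau δ b) = 0 → b = 0 := fun b hb => by
    rw [LinearEquiv.map_eq_zero_iff, ← map_zero (T.tau δ)] at hb
    exact D.good.tau_right_inj hδ0 hb
  let J₂ : (Fin 2 → B) →ₗ[F] V := T.tau d₁ ∘ₗ LinearMap.proj 0 + T.tau d₂ ∘ₗ LinearMap.proj 1
  have hJ₂ : ∀ p, J₂ p = T.tau d₁ (p 0) + T.tau d₂ (p 1) := fun p => rfl
  have hJ₂inj : Function.Injective J₂ := by
    refine (injective_iff_map_eq_zero J₂).2 fun p hp => ?_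
    have e1 := congrArg (T.C' d₁) hp
    have e2 := congrArg (T.C' d₂) hp
    simp only [hJ₂, map_add, D.good.C'_tau, h12, h21, zero_smul, add_zero, zero_add, map_zero,
      smul_eq_zero, hd₁, hd₂, false_or] at e1 e2
    funext i
    fin_cases i
    · exact e1
    · exact e2
  -- they are not conjugate
  have hnc : ∀ w ∈ Subgroup.closure ({z, j} : Set (V ≃ₗ[F] V)), w * z * w⁻¹ ≠ j := by
    intro w _ hw
    have hle : LinearMap.range ((w : V →ₗ[F] V) ∘ₗ J₂) ≤ LinearMap.range φ := by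
      rintro _ ⟨p, rfl⟩
      obtain ⟨b, hb⟩ := hmove (w ((-(2 : F)⁻¹) • J₂ p))
      refine ⟨b, ?_⟩
      show g (T.tau δ b) = w (J₂ p)
      rw [← hb, ← hw]
      show w (z (w⁻¹ (w _))) - w _ = _
      rw [inv_ap', ← map_sub, hJ₂, map_smul, map_add, hzab, hzab, hσneg d₁ hd₁L, hσneg d₂ hd₂m.1,
        map_neg, map_neg, LinearMap.neg_apply, LinearMap.neg_apply]
      congr 1
      have := D.two
      match_scalars <;> field_simp <;> ring
    have h := (Submodule.finrank_mono hle).trans (LinearMap.finrank_range_le φ)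
    rw [LinearMap.finrank_range_of_inj (by
        rw [LinearMap.coe_comp]; exact Function.Injective.comp w.injective hJ₂inj), Module.finrank_pi_fintype] at h
    simp [hB] at h
  obtain ⟨κ, hκmem, hκ1, hκκ, hκz, hκj⟩ := exists_central_involution hzz hjj' hnc
  -- what moves under the dihedral group
  set R : Submodule F V := LinearMap.range J₂ ⊔ LinearMap.range φ with hR
  let Γ : Subgroup (V ≃ₗ[F] V) :=
    { carrier := {x | x ∈ H ∧ FixOff T L₀ x ∧ ∀ v, x v - v ∈ R}
      one_mem' := ⟨one_mem _, fun a _ b => rfl, fun v => by simp⟩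
      mul_mem' := fun {x y} hx hy => ⟨mul_mem hx.1 hy.1, fun a ha b => by
        show x (y (T.tau a b)) = _
        rw [hy.2.1 a ha b, hx.2.1 a ha b], fun v => by
        have h := R.add_mem (hx.2.2 (y v)) (hy.2.2 v)
        rwa [sub_add_sub_cancel] at h⟩
      inv_mem' := fun {x} hx => ⟨inv_mem hx.1, D.fixOff_inv hx.2.1, fun v => by
        have h := R.neg_mem (hx.2.2 (x⁻¹ v))
        rwa [ap_inv, neg_sub] at h⟩ }
  have hκΓ : κ ∈ Γ := by
    refine (Subgroup.closure_le Γ).2 ?_ hκmem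
    rintro x (rfl | rfl)
    · refine ⟨mul_mem hr₁ hr₂, fun a ha b => ?_, fun v => ?_⟩
      · rw [hzab, hσfix a (perpS_anti hle ha)]
      · have e : ∀ (d : A) (c : B), d = d₁ ∨ d = d₂ → T.tau d c ∈ R := by
          rintro d c (rfl | rfl)
          · exact Submodule.mem_sup_left ⟨fun i => if i = 0 then c else 0, by simp [hJ₂]⟩
          · exact Submodule.mem_sup_left ⟨fun i => if i = 0 then 0 else c, by simp [hJ₂]⟩
        show r₁ (r₂ v) - v ∈ R
        rw [hr₁x, hr₂x]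
        have m1 := R.smul_mem (2 / T.fA d₂ d₂) (e d₂ (T.C' d₂ v) (Or.inr rfl))
        have m2 := R.smul_mem (2 / T.fA d₁ d₁)
          (e d₁ (T.C' d₁ (v - (2 / T.fA d₂ d₂) • T.tau d₂ (T.C' d₂ v))) (Or.inl rfl))
        have m3 := R.neg_mem (R.add_mem m1 m2)
        convert m3 using 1
        abel
    · refine ⟨hj, fun a ha b => hjfix _ fun c => ?_, fun v => ?_⟩
      · refine D.good.form_flip_zero ?_
        rw [D.good.form_C, D.symA a _, ha _ (D.fixOff_mem hL₀ hg hfix hδL c b)]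
      · obtain ⟨b, hb⟩ := hmove v
        exact Submodule.mem_sup_right ⟨b, hb.symm⟩
  obtain ⟨hκH, hκfix, hκR⟩ := hκΓ
  have hκκx : ∀ x, κ (κ x) = x := fun x => LinearEquiv.congr_fun hκκ x
  have hCz : ∀ w x, T.C w (z x) = σ₂ (T.C w x) := fun w x => LinearMap.congr_fun
    (D.good.ext_tau (f := T.C w ∘ₗ (z : V →ₗ[F] V)) (g := σ₂ ∘ₗ T.C w) fun a b => by
      simp [hzab, D.good.C_tau]) x
  have hzκ : ∀ x, z (κ x) = κ (z x) := fun x => (LinearEquiv.congr_fun hκz.eq x).symm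
  have hσeig : ∀ c, σ₂ c = -c → c ∈ L₂ := fun c hc => by
    have h : (2 : F) • c = (2 * T.fA c d₁ / T.fA d₁ d₁) • d₁ + (2 * T.fA c d₂ / T.fA d₂ d₂) • d₂ := by
      rw [hσ₂] at hc; linear_combination (norm := module) hc
    have := L₂.smul_mem (2 : F)⁻¹ (h ▸ L₂.add_mem (L₂.smul_mem _ hd₁L) (L₂.smul_mem _ hd₂m.1))
    rwa [smul_smul, inv_mul_cancel₀ D.two, one_smul] at this
  have hσfix' : ∀ c, σ₂ c = c → c ∈ perpS T L₂ := fun c hc l hl => by
    have h := hσ₂ c
    rw [hc, sub_sub, eq_comm, sub_eq_self] at h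
    have e1 := congrArg (fun y => T.fA y d₁) h
    have e2 := congrArg (fun y => T.fA y d₂) h
    simp only [map_add, map_smul, map_zero, LinearMap.add_apply, LinearMap.smul_apply,
      LinearMap.zero_apply, smul_eq_mul, h12, h21, mul_zero, add_zero, zero_add,
      div_mul_cancel₀ _ hd₁, div_mul_cancel₀ _ hd₂] at e1 e2
    obtain ⟨r, s, rfl⟩ := hL₂ l hl
    simp [(mul_eq_zero.1 e1).resolve_left D.two, (mul_eq_zero.1 e2).resolve_left D.two]
  have hκ2 : ∀ a ∈ L₂, ∀ b w, T.C w (κ (T.tau a b)) ∈ L₂ := fun a ha b w => hσeig _ (by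
    rw [← hCz, hzκ, hzab, hσneg a ha, map_neg, LinearMap.neg_apply, map_neg, map_neg])
  have hκp : ∀ a ∈ perpS T L₂, ∀ b w, T.C w (κ (T.tau a b)) ∈ perpS T L₂ := fun a ha b w => hσfix' _ (by
    rw [← hCz, hzκ, hzab, hσfix a ha])
  set L₂' := L₀ ⊓ perpS T L₂ with hL₂'
  have hκ2' : ∀ a ∈ L₂', ∀ b w, T.C w (κ (T.tau a b)) ∈ L₂' := fun a ha b w =>
    ⟨D.fixOff_mem hL₀ hκH hκfix ha.1 b w, hκp a ha.2 b w⟩
  have h2' : NDeg T L₂' := D.ndeg_cutS hL₀ h2 hle
  have d2' : finrank F L₂ + finrank F L₂' = finrank F L₀ := D.finrank_cutS h2 hle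
  have hL₀n : finrank F L₀ ≤ finrank F A := Submodule.finrank_le _
  -- `κ` is pure
  set P : Set A := {a | a ∈ L₂ ∧ T.fA a a ≠ 0} ∪ {a | a ∈ L₂' ∧ T.fA a a ≠ 0} with hPdef
  have hspan : L₀ ≤ Submodule.span F P := by
    rw [hPdef, Submodule.span_union]
    intro a ha
    obtain ⟨l, hl, hp⟩ := D.split h2 a
    rw [← add_sub_cancel l a]
    exact Submodule.add_mem_sup (D.span_aniso h2 hl) (D.span_aniso h2' ⟨L₀.sub_mem ha (hle hl), hp⟩)
  have hside : ∀ a ∈ P, T.fA a a ≠ 0 ∧ PlaneP T κ a := by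
    rintro a (⟨ha, haa⟩ | ⟨ha, haa⟩)
    · exact ⟨haa, D.plane_of_good h2 hg2 (by omega) hκH haa (hκ2 a ha)⟩
    · exact ⟨haa, D.plane_of_good h2' hg2' (by omega) hκH haa (hκ2' a ha)⟩
  have himage : ∀ (U : Submodule F A), (U = L₂ ∨ U = L₂') → ∀ a ∈ U, T.fA a a ≠ 0 →
      ∃ (a' : A) (f : B ≃ₗ[F] B),
        (∀ b, κ (T.tau a b) = T.tau a' (f b)) ∧ T.fA a' a' ≠ 0 ∧ a' ∈ U := by
    intro U hU a ha haa
    have hpl : PlaneP T κ a := by
      rcases hU with rfl | rfl
      exacts [(hside a (Or.inl ⟨ha, haa⟩)).2, (hside a (Or.inr ⟨ha, haa⟩)).2]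
    obtain ⟨a', f, hf, haa'⟩ := D.exists_plane_map hκH haa hpl
    refine ⟨a', f, hf, haa', D.image_mem hf ?_⟩
    rcases hU with rfl | rfl
    exacts [hκ2 a ha, hκ2' a ha]
  obtain ⟨M, hM, hMiso⟩ : ∃ M : A →ₗ[F] A, (∀ a b, κ (T.tau a b) = T.tau (M a) b) ∧
      ∀ a a', T.fA (M a) (M a') = T.fA a a' := by
    rcases hL₀n.lt_or_eq with hlt | heq
    · obtain ⟨ε, hε, hεε⟩ := D.exists_aniso (D.ndeg_perp hL₀) (by
        have := D.finrank_perpS hL₀; omega)
      have hε0 : ε ≠ 0 := fun e => hεε (by simp [e])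
      refine D.pure_form hκH (D.glue hP hL₀ hκH hκfix hε hεε (P := P) ?_ hspan ?_) hε0 (hκfix ε hε)
      · rintro a (⟨ha, -⟩ | ⟨ha, -⟩)
        exacts [hle ha, ha.1]
      have pick : ∀ (U U' : Submodule F A), (U = L₂ ∨ U = L₂') → (U' = L₂ ∨ U' = L₂') → NDeg T U' →
          2 ≤ finrank F U' → (∀ x ∈ U, ∀ y ∈ U', T.fA y x = 0) → ∀ a ∈ U, T.fA a a ≠ 0 →
          T.fA a a ≠ 0 ∧ ∃ (δ' : A) (f : B ≃ₗ[F] B),
            (∀ b, κ (T.tau a b) = T.tau δ' (f b)) ∧ T.fA δ' δ' ≠ 0 ∧ δ' ∈ L₀ ∧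
            ((∃ η ∈ perpS T L₀, T.fA η η = T.fA δ' δ') ∨
              ∃ γ ∈ P, ∃ (γ' : A) (f' : B ≃ₗ[F] B), (∀ b, κ (T.tau γ b) = T.tau γ' (f' b)) ∧ γ' ∈ L₀ ∧
                T.fA γ' δ' = 0 ∧ T.fA γ' γ' = T.fA ε ε) := by
        intro U U' hU hU' hnd hdim horth a ha haa
        obtain ⟨δ', f, hf, hδ', hδ'U⟩ := himage U hU a ha haa
        have hle' : ∀ W : Submodule F A, W = L₂ ∨ W = L₂' → W ≤ L₀ := by
          rintro W (rfl | rfl)
          exacts [hle, inf_le_left]
        refine ⟨haa, δ', f, hf, hδ', hle' U hU hδ'U, Or.inr ?_⟩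
        obtain ⟨γ', hγ', hγn⟩ := D.exists_norm hnd hdim hεε
        obtain ⟨γ, f', hf', hγγ, hγU⟩ := himage U' hU' γ' hγ' (hγn ▸ hεε)
        refine ⟨γ, ?_, γ', f'.symm, fun b => ?_, hle' U' hU' hγ', horth δ' hδ'U γ' hγ', hγn⟩
        · rcases hU' with rfl | rfl
          exacts [Or.inl ⟨hγU, hγγ⟩, Or.inr ⟨hγU, hγγ⟩]
        · apply κ.injective
          rw [hκκx, hf', LinearEquiv.apply_symm_apply]
      rintro a (⟨ha, haa⟩ | ⟨ha, haa⟩)
      · exact pick L₂ L₂' (Or.inl rfl) (Or.inr rfl) h2' (by omega) (fun x hx y hy => hy.2 x hx) a ha haa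
      · exact pick L₂' L₂ (Or.inr rfl) (Or.inl rfl) h2 (by omega)
          (fun x hx y hy => by rw [D.symA x y]; exact hx.2 y hy) a ha haa
    · -- the whole space
      have hL₀top : L₀ = ⊤ := Submodule.eq_top_of_finrank_eq heq
      have hspan' : Submodule.span F P = ⊤ := eq_top_iff.2 (hL₀top ▸ hspan)
      obtain ⟨M, f, hMf⟩ := D.glueTop (htop heq) hκH hspan' hside
      have hfs : ∀ b, f b ∈ Submodule.span F ({b} : Set B) := by
        intro b
        by_contra hb
        obtain ⟨χ, hχ, hχb⟩ := Submodule.exists_le_ker_of_notMem hb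
        obtain ⟨w, hw⟩ := exists_repr D.good.invol T.fB D.good.nondegB χ
        have hwb : T.fB b w = 0 := by rw [hw]; exact hχb (Submodule.mem_span_singleton_self b)
        have hwf : T.fB (f b) w ≠ 0 := by rw [hw]; exact hχ
        have hMperp : ∀ a ∈ L₂', σ₂ (M a) = M a := fun a ha => hσfix _ (by
          have h := (hκ2' a ha b w).2
          rw [hMf, D.good.C_tau] at h
          simpa [smul_smul, inv_mul_cancel₀ hwf] using (perpS T L₂).smul_mem (T.fB (f b) w)⁻¹ h)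
        let X : L₂' →ₗ[F] V :=
          ((LinearMap.id : V →ₗ[F] V) + (z : V →ₗ[F] V)) ∘ₗ
            ((κ : V →ₗ[F] V) ∘ₗ T.tau.flip b - T.tau.flip b) ∘ₗ L₂'.subtype
        have hX : ∀ a : L₂', X a = κ (T.tau a b) - T.tau a b + z (κ (T.tau a b) - T.tau a b) :=
          fun a => rfl
        have hXinj : Function.Injective X := by
          refine (injective_iff_map_eq_zero X).2 fun a ha => Subtype.ext ?_
          rw [hX, hMf, map_sub z, hzab, hzab, hMperp a a.2, hσfix a a.2.2, ← two_smul F,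
            smul_eq_zero] at ha
          have h := congrArg (T.C w) (ha.resolve_left D.two)
          rw [map_sub, D.good.C_tau, D.good.C_tau, hwb, zero_smul, sub_zero, map_zero, smul_eq_zero] at h
          have hMa : M (a : A) = 0 := h.resolve_left hwf
          have h0 : κ (T.tau (a : A) b) = 0 := by rw [hMf, hMa, map_zero, LinearMap.zero_apply]
          rw [LinearEquiv.map_eq_zero_iff, ← map_zero (T.tau.flip b)] at h0
          exact D.good.tau_left_inj (fun e => hb (by simp [e])) h0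
        have hrange : LinearMap.range X ≤
            LinearMap.range (((LinearMap.id : V →ₗ[F] V) + (z : V →ₗ[F] V)) ∘ₗ φ) := by
          rintro _ ⟨a, rfl⟩
          obtain ⟨u, hu, v, hv, huv⟩ := Submodule.mem_sup.1 (hκR (T.tau a b))
          obtain ⟨p, rfl⟩ := hu
          obtain ⟨c, rfl⟩ := hv
          refine ⟨c, ?_⟩
          show φ c + z (φ c) = X a
          rw [hX, ← huv, hJ₂, map_add, map_add, hzab, hzab, hσneg d₁ hd₁L, hσneg d₂ hd₂m.1, map_neg,
            map_neg, LinearMap.neg_apply, LinearMap.neg_apply]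
          abel
        have h := (Submodule.finrank_mono hrange).trans (LinearMap.finrank_range_le _)
        rw [LinearMap.finrank_range_of_inj hXinj, hB] at h
        omega
      obtain ⟨μ, hμ⟩ := LinearMap.exists_eq_smul_id_of_forall_notLinearIndependent (f := f) fun b hli => by
        obtain ⟨k, hk⟩ := Submodule.mem_span_singleton.1 (hfs b)
        exact (LinearIndependent.pair_iff' (hli.ne_zero 0)).1 hli k hk
      refine ⟨μ • M, fun a b => by rw [hMf, hμ]; simp, fun a a' => ?_⟩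
      haveI := Module.nontrivial_of_finrank_pos (R := F) (M := B) (by omega)
      obtain ⟨b₀, hb₀⟩ := exists_ne (0 : B)
      obtain ⟨c, hc, -⟩ := D.good.exists_partner hb₀
      have h := D.isom κ hκH (T.tau a c) (T.tau a' b₀)
      rw [hMf, hMf, D.good.form_tau, D.good.form_tau, hc, hμ] at h
      simp only [LinearMap.smul_apply, Module.End.one_apply, map_smul, smul_eq_mul, hc] at h
      simp only [LinearMap.smul_apply, map_smul, smul_eq_mul]
      linear_combination h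
  haveI := Module.nontrivial_of_finrank_pos (R := F) (M := B) (by omega)
  obtain ⟨b₀, hb₀⟩ := exists_ne (0 : B)
  obtain ⟨c₁, hc₁, -⟩ := D.good.exists_partner hb₀
  have hMM : ∀ a, M (M a) = a := fun a => D.good.tau_left_inj hb₀ (by
    show T.tau (M (M a)) b₀ = T.tau a b₀
    rw [← hM, ← hM, hκκx])
  have hM0 : ∀ a ∈ L₀, M a ∈ L₀ := fun a ha => by
    have h := D.fixOff_mem hL₀ hκH hκfix ha c₁ b₀
    rwa [hM, D.good.C_tau, hc₁, one_smul] at h
  have hMperp : ∀ p ∈ perpS T L₀, M p = p := fun p hp => D.good.tau_left_inj hb₀ (by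
    show T.tau (M p) b₀ = T.tau p b₀
    rw [← hM, hκfix p hp])
  have hM2 : ∀ a ∈ L₂, M a ∈ L₂ := fun a ha => by
    have h := hκ2 a ha c₁ b₀
    rwa [hM, D.good.C_tau, hc₁, one_smul] at h
  have hM2' : ∀ a ∈ perpS T L₂, M a ∈ perpS T L₂ := fun a ha => by
    have h := hκp a ha c₁ b₀
    rwa [hM, D.good.C_tau, hc₁, one_smul] at h
  have hκC : ∀ w x, T.C w (κ x) = M (T.C w x) := fun w x => LinearMap.congr_fun
    (D.good.ext_tau (f := T.C w ∘ₗ (κ : V →ₗ[F] V)) (g := M ∘ₗ T.C w) fun a b => by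
      simp [hM, D.good.C_tau]) x
  have hqin : ∀ b w, T.C w (g (T.tau δ b)) ∈ L₀ := fun b w => D.fixOff_mem hL₀ hg hfix hδL b w
  have hκq : ∀ b, ∃ c, κ (g (T.tau δ b)) = g (T.tau δ c) := fun b => by
    obtain ⟨c, hc⟩ := hmove (κ (g (T.tau δ b)))
    rw [show j (κ (g (T.tau δ b))) = κ (j (g (T.tau δ b))) from
      (LinearEquiv.congr_fun hκj.eq (g (T.tau δ b))).symm, hneg, map_neg] at hc
    refine ⟨(-(2 : F)⁻¹) • c, ?_⟩
    rw [map_smul, map_smul, ← hc]
    have := D.two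
    match_scalars
    field_simp
    ring
  obtain ⟨s, hs, hqs⟩ : ∃ s : F, (s = 1 ∨ s = -1) ∧ ∀ b, κ (g (T.tau δ b)) = s • g (T.tau δ b) := by
    by_cases hall : ∀ b, κ (g (T.tau δ b)) = g (T.tau δ b)
    · exact ⟨1, Or.inl rfl, fun b => by rw [hall, one_smul]⟩
    simp only [not_forall] at hall
    obtain ⟨b₁, hb₁⟩ := hall
    obtain ⟨c', hc'⟩ := hκq b₁
    set u := g (T.tau δ b₁) - κ (g (T.tau δ b₁)) with hu
    have hu' : u = g (T.tau δ (b₁ - c')) := by rw [hu, hc', map_sub, map_sub]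
    have hκu : κ u = -u := by rw [hu, map_sub, hκκx, neg_sub]
    have hu0 : u ≠ 0 := sub_ne_zero.2 (Ne.symm hb₁)
    have hc₀ : b₁ - c' ≠ 0 := fun e => hu0 (by rw [hu', e, map_zero, map_zero])
    refine ⟨-1, Or.inr rfl, fun b => ?_⟩
    obtain ⟨c, hc⟩ := hκq b
    set v := g (T.tau δ b) + κ (g (T.tau δ b)) with hv
    have hv' : v = g (T.tau δ (b + c)) := by rw [hv, hc, map_add, map_add]
    have hκv : κ v = v := by rw [hv, map_add, hκκx, add_comm]
    have horth : T.form v u = 0 := by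
      have h := D.isom κ hκH v u
      rw [hκv, hκu, map_neg] at h
      exact (mul_eq_zero.1 (show (2 : F) * T.form v u = 0 by linear_combination -h)).resolve_left D.two
    rw [hv', hu', D.isom g hg, D.good.form_tau, mul_eq_zero] at horth
    obtain ⟨l, hl⟩ := D.eq_smul_of_B hB hc₀ (horth.resolve_left hδ)
    have hvl : v = l • u := by rw [hv', hu', ← hl, map_smul, map_smul]
    have h := congrArg κ hvl
    rw [hκv, map_smul, hκu, hvl] at h
    have hl0 : l = 0 := by
      have h' : ((2 : F) * l) • u = 0 := by linear_combination (norm := module) h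
      exact (mul_eq_zero.1 ((smul_eq_zero.1 h').resolve_right hu0)).resolve_left D.two
    rw [hl0, zero_smul] at hvl
    rw [neg_one_smul]
    exact eq_neg_of_add_eq_zero_right hvl
  refine ⟨{ carrier := {a | a ∈ L₀ ∧ M a = s • a}
            add_mem' := fun {a a'} ha ha' => ⟨L₀.add_mem ha.1 ha'.1, by
              rw [map_add, ha.2, ha'.2, smul_add]⟩
            zero_mem' := ⟨L₀.zero_mem, by simp⟩
            smul_mem' := fun k a ha => ⟨L₀.smul_mem k ha.1, by rw [map_smul, ha.2, smul_comm]⟩ },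
    fun a ha => ha.1, ?_, ?_, ?_, fun b w => ⟨hqin b w, ?_⟩⟩
  · rintro y ⟨hy, hMy⟩ h
    refine hL₀ y hy fun x hx => ?_
    have h1 := h (x + s • M x) ⟨L₀.add_mem hx (L₀.smul_mem _ (hM0 x hx)), by
      rcases hs with rfl | rfl <;> simp [hMM] <;> abel⟩
    have h3 : T.fA (M y) (M x) = T.fA y x := hMiso y x
    rw [hMy, map_smul, LinearMap.smul_apply, smul_eq_mul] at h3
    rw [map_add, map_smul, smul_eq_mul, h3] at h1
    exact (mul_eq_zero.1 (show (2 : F) * T.fA y x = 0 by linear_combination h1)).resolve_left D.two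
  · refine Submodule.finrank_lt_finrank_of_lt (lt_of_le_of_ne (fun a ha => ha.1) fun e => ?_)
    have hall : ∀ a ∈ L₀, M a = s • a := fun a ha => (e.symm ▸ ha :)|>.2
    rcases hs with rfl | rfl
    · refine hκ1 (LinearEquiv.ext fun x => LinearMap.congr_fun
        (D.good.ext_tau (f := (κ : V →ₗ[F] V)) (g := LinearMap.id) fun a b => by
          show κ (T.tau a b) = T.tau a b
          obtain ⟨l, hl, hp⟩ := D.split hL₀ a
          have hMa : M a = a := by
            conv_lhs => rw [← add_sub_cancel l a, map_add, hall l hl, one_smul, hMperp _ hp,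
              add_sub_cancel]
          rw [hM, hMa]) x)
    · let e' := Module.finBasis F L₀
      let i : Fin 4 → Fin (finrank F L₀) := fun i => ⟨i.1, by omega⟩
      let J : (Fin 4 → B) →ₗ[F] V := ∑ i', (T.tau (e' (i i') : A)) ∘ₗ LinearMap.proj i'
      have hJ : ∀ p, J p = ∑ i', T.tau (e' (i i') : A) (p i') := fun p => by simp [J]
      have hJinj : Function.Injective J := by
        refine (injective_iff_map_eq_zero J).2 fun p hp => funext fun i' => ?_
        obtain ⟨x, hx⟩ : ∃ x : A, ∀ l : L₀, T.fA (l : A) x = e'.coord (i i') l := by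
          obtain ⟨ψ, hψ⟩ := LinearMap.exists_extend (e'.coord (i i'))
          obtain ⟨x, hx⟩ := exists_repr D.good.invol T.fA D.good.nondegA ψ
          exact ⟨x, fun l => by rw [hx, ← hψ]; rfl⟩
        have h := congrArg (T.C' x) hp
        rw [hJ, map_sum, map_zero] at h
        have hi : ∀ k', i k' = i i' ↔ k' = i' :=
          fun k' => ⟨fun e0 => Fin.ext (Fin.mk.inj_iff.1 e0), fun e0 => by rw [e0]⟩
        simp only [D.good.C'_tau, hx, Basis.coord_apply, Basis.repr_self, Finsupp.single_apply, hi,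
          ite_smul, one_smul, zero_smul, Finset.sum_ite_eq', Finset.mem_univ, if_true] at h
        simpa using h
      have hle' : LinearMap.range J ≤ R := by
        rintro _ ⟨p, rfl⟩
        rw [hJ]
        refine Submodule.sum_mem _ fun i' _ => ?_
        have h := hκR ((-(2 : F)⁻¹) • T.tau (e' (i i') : A) (p i'))
        rw [map_smul, hM, hall _ (e' (i i')).2, map_smul, LinearMap.smul_apply] at h
        convert h using 1
        have := D.two
        match_scalars
        field_simp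
        ring
      have h := Submodule.finrank_mono hle'
      rw [LinearMap.finrank_range_of_inj hJinj, Module.finrank_pi_fintype] at h
      have h' := Submodule.finrank_add_le_finrank_add_finrank (LinearMap.range J₂) (LinearMap.range φ)
      have h'' := LinearMap.finrank_range_le φ
      have h''' := LinearMap.finrank_range_le J₂
      rw [Module.finrank_pi_fintype] at h'''
      simp [hB] at h h' h'' h'''
      rw [← hR] at h'
      omega
  · rintro x ⟨hx, hMx⟩
    obtain ⟨p, hp, hq⟩ := D.split h2 x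
    have h0 : M p - s • p = 0 := h2 _ (L₂.sub_mem (hM2 p hp) (L₂.smul_mem _ hp)) fun y hy => by
      have e : M p - s • p = -(M (x - p) - s • (x - p)) := by
        rw [map_sub, hMx]; module
      rw [e, map_neg, LinearMap.neg_apply,
        (perpS T L₂).sub_mem (hM2' _ hq) ((perpS T L₂).smul_mem s hq) y hy, neg_zero]
    rw [sub_eq_zero] at h0
    exact ⟨p, hp, ⟨hle hp, h0⟩, ⟨L₀.sub_mem hx (hle hp), by rw [map_sub, hMx, h0, smul_sub]⟩, hq⟩
  · rw [← hκC, hqs, map_smul]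

end SpData

end CfsgLib.MaxSub.TForm
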