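import Cfsg.Agent.Lib.MaxSub.TFormSpEngine

/-!
Orthogonal ⊗ `Sp₂`: an element acting on one anisotropic plane, trivial on a hyperbolic pair orthogonal to it,
is scalar on the plane.
-/

set_option autoImplicit false
set_option linter.unusedSectionVars false
set_option linter.unusedSimpArgs false
set_option linter.unusedVariables false
set_option linter.style.haveILetI false

namespace CfsgLib.MaxSub.TForm

open Module

variable {F A B V : Type*} [Field F] [AddCommGroup A] [Module F A] [AddCommGroup B] [Module F B]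
  [AddCommGroup V] [Module F V]

namespace SpData

variable {T : Sys F A B V (RingHom.id F)} {H : Subgroup (V ≃ₗ[F] V)}
variable [Finite F] [FiniteDimensional F A] [FiniteDimensional F B]

/-- a hyperbolic pair inside a non-degenerate subspace of dimension at least three -/
theorem hyp_in (D : SpData T H) {S : Submodule F A} (hS : NDeg T S) (h3 : 3 ≤ finrank F S) :
    ∃ r ∈ S, ∃ u ∈ S, r ≠ 0 ∧ T.fA r r = 0 ∧ T.fA u u = 0 ∧ T.fA r u = 1 := by
  obtain ⟨e, he, hee⟩ := D.exists_aniso hS (by omega)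
  obtain ⟨d, hd, hdd⟩ := D.exists_norm (D.ndeg_cut hS he hee) (by
    have := D.finrank_cut_line he hee; omega) (neg_ne_zero.2 hee)
  have hde : T.fA d e = 0 := mem_perpS_line.1 hd.2
  set r := e + d with hr
  have hrS : r ∈ S := S.add_mem he hd.1
  have hrr : T.fA r r = 0 := by simp [hr, hde, D.symA d e, hdd]
  have hre : T.fA r e = T.fA e e := by simp [hr, hde]
  have her : T.fA e r = T.fA e e := by rw [D.symA r e, hre]
  have hr0 : r ≠ 0 := fun h => hee (by rw [← hre, h]; simp)
  set w := (T.fA e e)⁻¹ • e with hw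
  have hrw : T.fA r w = 1 := by rw [hw, map_smul, smul_eq_mul, hre, inv_mul_cancel₀ hee]
  have hwr : T.fA w r = 1 := by rw [D.symA r w, hrw]
  refine ⟨r, hrS, w - (T.fA w w / 2) • r, S.sub_mem (S.smul_mem _ he) (S.smul_mem _ hrS), hr0, hrr, ?_, ?_⟩
  · have := D.two
    simp only [map_sub, map_smul, LinearMap.sub_apply, LinearMap.smul_apply, smul_eq_mul, hrr, hrw, hwr]
    field_simp
    ring
  · simp [hrw, hrr]

/-- central root elements at a singular vector -/
def rootR (T : Sys F A B V (RingHom.id F)) (r : A) (χ : B →ₗ[F] B) : V → V :=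
  fun v => v + T.tau r (χ (T.C' r v))

theorem rootR_comp (D : SpData T H) {r : A} (hr : T.fA r r = 0) {χ χ' : B →ₗ[F] B}
    (h : InH H (rootR T r χ)) (h' : InH H (rootR T r χ')) : InH H (rootR T r (χ + χ')) :=
  (InH.comp h h').congr fun v => by
    simp only [rootR, map_add, LinearMap.add_apply, D.good.C'_tau, hr, zero_smul, map_zero, add_zero]
    abel

theorem rootR_neg (D : SpData T H) {r : A} (hr : T.fA r r = 0) {χ : B →ₗ[F] B}
    (h : InH H (rootR T r χ)) : InH H (rootR T r (-χ)) := by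
  obtain ⟨k, hk, hkx⟩ := h
  refine ⟨k⁻¹, inv_mem hk, fun v => k.injective ?_⟩
  rw [ap_inv, hkx]
  simp [rootR, D.good.C'_tau, hr]

theorem rootR_conj (D : SpData T H) {r : A} {χ : B →ₗ[F] B} (h : InH H (rootR T r χ)) {y : B} (c : F) :
    InH H (rootR T r ((LinearMap.id + c • (T.fB.flip y).smulRight y) ∘ₗ χ ∘ₗ
      (LinearMap.id - c • (T.fB.flip y).smulRight y))) := by
  obtain ⟨t, ht, htx⟩ := D.tvB y c
  obtain ⟨k, hk, hkx⟩ := h
  have hC' : ∀ v, T.C' r (t⁻¹ v) = T.C' r v - c • (T.fB (T.C' r v) y • y) := by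
    intro v
    obtain ⟨w, rfl⟩ := t.surjective v
    have e : T.C' r (t w) = T.C' r w + c • (T.fB (T.C' r w) y • y) := LinearMap.congr_fun
      (D.good.ext_tau (f := T.C' r ∘ₗ (t : V →ₗ[F] V))
        (g := T.C' r + c • ((T.fB.flip y).smulRight y ∘ₗ T.C' r)) fun a b => by
        show T.C' r (t (T.tau a b)) = _
        rw [htx]
        simp [D.good.C'_tau, D.good.C_tau, smul_smul]
        module) w
    rw [inv_ap', e]
    simp [D.altB, smul_smul]
  refine ⟨t * k * t⁻¹, mul_mem (mul_mem ht hk) (inv_mem ht), fun v => ?_⟩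
  show t (k (t⁻¹ v)) = _
  rw [hkx, rootR, map_add, ap_inv, rootR, hC', htx]
  simp [D.good.C_tau, smul_smul]
  module

/-- a skew central root element is trivial -/
theorem rootR_zero (D : SpData T H) (hno : NoTvSp T H) (hB : finrank F B = 2) {r : A} (hr : T.fA r r = 0)
    (hr0 : r ≠ 0) {χ : B →ₗ[F] B} (hskew : ∀ b c, T.fB (χ b) c = -T.fB b (χ c))
    (h : InH H (rootR T r χ)) : χ = 0 := by
  by_cases hall : ∀ y, T.fB (χ y) y = 0
  · haveI := Module.nontrivial_of_finrank_pos (R := F) (M := B) (by omega)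
    obtain ⟨μ, hμ⟩ := LinearMap.exists_eq_smul_id_of_forall_notLinearIndependent (f := χ) fun b hli => by
      obtain ⟨l, hl⟩ := D.eq_smul_of_B hB (hli.ne_zero 0) (hall b)
      exact (LinearIndependent.pair_iff' (hli.ne_zero 0)).1 hli l hl
    obtain ⟨b, hb⟩ := exists_ne (0 : B)
    obtain ⟨c, hc, -⟩ := D.good.exists_partner hb
    have h1 := hskew c b
    simp only [hμ, LinearMap.smul_apply, Module.End.one_apply, map_smul, smul_eq_mul, hc, mul_one] at h1
    have : μ = 0 := (mul_eq_zero.1 (show (2 : F) * μ = 0 by linear_combination h1)).resolve_left D.two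
    rw [hμ, this, zero_smul]
  · simp only [not_forall] at hall
    obtain ⟨y, hy⟩ := hall
    have hy0 : y ≠ 0 := fun e => hy (by simp [e])
    have h1 := D.rootR_conj h (y := y) 1
    have h2 := D.rootR_conj h (y := y) 2
    have h3 := D.rootR_comp hr (D.rootR_comp hr h2 (D.rootR_neg hr h1)) (D.rootR_comp hr (D.rootR_neg hr h1) h)
    refine absurd (h3.congr (f' := fun x => x + ((-2 * T.fB (χ y) y) * T.form x (T.tau r y)) • T.tau r y)
      fun v => ?_) (hno y hy0 r hr hr0 _ (mul_ne_zero (neg_ne_zero.2 D.two) hy))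
    rw [D.good.form_C']
    simp only [rootR, LinearMap.add_apply, LinearMap.neg_apply, LinearMap.comp_apply, LinearMap.id_apply,
      LinearMap.sub_apply, LinearMap.smul_apply, LinearMap.smulRight_apply, LinearMap.flip_apply,
      one_smul, map_add, map_sub, map_neg, map_smul, smul_eq_mul]
    module

/-- an element acting on one anisotropic plane and trivially on an orthogonal hyperbolic pair -/
theorem line_scalar (D : SpData T H) (hno : NoTvSp T H) (hB : finrank F B = 2) {x : V ≃ₗ[F] V}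
    (hx : x ∈ H) {δ r : A} (hδ : T.fA δ δ ≠ 0) (hr0 : r ≠ 0) (hr : T.fA r r = 0) (hrd : T.fA r δ = 0)
    {f : B ≃ₗ[F] B} (hxd : ∀ b, x (T.tau δ b) = T.tau δ (f b))
    (hxr : ∀ b, x (T.tau r b) = T.tau r b) : ∃ c : F, ∀ b, f b = c • b := by
  have hdr : T.fA δ r = 0 := D.good.A_flip_zero hrd
  obtain ⟨G, hG, hGa⟩ : ∃ G : A ≃ₗ[F] A, (∀ a a', T.fA (G a) (G a') = T.fA a a') ∧
      ∀ a, G a = eichA T r δ a := by
    obtain ⟨G₀, h1, -, h3⟩ := D.exists_eichEquiv (u := r) hr
    have hmem : δ ∈ perpA T ![r, r] := mem_perpA.2 fun i => by fin_cases i <;> exact hdr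
    exact ⟨G₀ ⟨δ, hmem⟩, h3 _, h1 _⟩
  obtain ⟨ρ, hρ, hρab⟩ := D.pureA G hG
  have hρ' : ∀ v, ρ v = v + T.tau δ (T.C' r v) - T.tau r (T.C' δ v + (T.fA δ δ / 2) • T.C' r v) := by
    intro v
    refine LinearMap.congr_fun (D.good.ext_tau (f := (ρ : V →ₗ[F] V))
      (g := LinearMap.id + T.tau δ ∘ₗ T.C' r - T.tau r ∘ₗ (T.C' δ + (T.fA δ δ / 2) • T.C' r))
      fun a b => ?_) v
    show ρ (T.tau a b) = T.tau a b + T.tau δ (T.C' r (T.tau a b)) -
      T.tau r (T.C' δ (T.tau a b) + (T.fA δ δ / 2) • T.C' r (T.tau a b))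
    rw [hρab, hGa, eichA_apply]
    simp only [D.good.C'_tau, map_add, map_sub, map_smul, LinearMap.add_apply, LinearMap.sub_apply,
      LinearMap.smul_apply]
    module
  haveI := Module.nontrivial_of_finrank_pos (R := F) (M := B) (by omega)
  have hfiso : ∀ b c, T.fB (f b) (f c) = T.fB b c := fun b c => by
    have h := D.isom x hx (T.tau δ b) (T.tau δ c)
    rw [hxd, hxd, D.good.form_tau, D.good.form_tau] at h
    exact mul_left_cancel₀ hδ h
  have hCr : ∀ v, T.C' r (x⁻¹ v) = T.C' r v := fun v => sub_eq_zero.1 (D.good.nondegB _ fun c => by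
    rw [map_sub, LinearMap.sub_apply, ← D.good.form_C', ← D.good.form_C', ← D.isom x hx, ap_inv, hxr,
      sub_self])
  have hCd : ∀ v, T.C' δ (x⁻¹ v) = f.symm (T.C' δ v) := fun v => sub_eq_zero.1 (D.good.nondegB _ fun c => by
    rw [map_sub, LinearMap.sub_apply, ← D.good.form_C', ← D.isom x hx, ap_inv, hxd, D.good.form_C',
      ← hfiso (f.symm _), LinearEquiv.apply_symm_apply, sub_self])
  let χ : B →ₗ[F] B := T.fA δ δ • ((f : B →ₗ[F] B) - (f.symm : B →ₗ[F] B))
  have hE : InH H (rootR T r χ) := by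
    set n := x * ρ * x⁻¹ with hn
    refine ⟨n * ρ * (ρ * n)⁻¹, mul_mem (mul_mem (mul_mem (mul_mem hx hρ) (inv_mem hx)) hρ)
      (inv_mem (mul_mem hρ (mul_mem (mul_mem hx hρ) (inv_mem hx)))), fun v => ?_⟩
    obtain ⟨w, rfl⟩ := (ρ * n).surjective v
    rw [LinearEquiv.mul_apply (n * ρ), inv_ap']
    have hnv : ∀ v, n v = v + T.tau δ (f (T.C' r v)) -
        T.tau r (f.symm (T.C' δ v) + (T.fA δ δ / 2) • T.C' r v) := fun v => by
      show x (ρ (x⁻¹ v)) = _
      rw [hρ', map_sub, map_add, ap_inv, hCr, hCd, hxd, hxr]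
    show n (ρ w) = ρ (n w) + T.tau r (χ (T.C' r (ρ (n w))))
    simp only [hnv, hρ', map_add, map_sub, map_smul, D.good.C'_tau, hr, hrd, hdr, zero_smul, smul_zero,
      add_zero, sub_zero, zero_add, map_zero, χ, LinearMap.smul_apply, LinearMap.sub_apply,
      LinearEquiv.coe_coe]
    module
  have hskew : ∀ b c, T.fB (χ b) c = -T.fB b (χ c) := fun b c => by
    have e1 : T.fB (f.symm b) c = T.fB b (f c) := by rw [← hfiso, LinearEquiv.apply_symm_apply]
    have e2 : T.fB b (f.symm c) = T.fB (f b) c := by rw [← hfiso, LinearEquiv.apply_symm_apply]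
    simp only [χ, LinearMap.smul_apply, LinearMap.sub_apply, LinearEquiv.coe_coe, map_smul, map_sub,
      smul_eq_mul, e1, e2]
    ring
  have hχ := D.rootR_zero hno hB hr hr0 hskew hE
  have hinv : ∀ b, f b = f.symm b := fun b => by
    have h := LinearMap.congr_fun hχ b
    simp only [χ, LinearMap.smul_apply, LinearMap.zero_apply, smul_eq_zero, hδ, false_or] at h
    exact sub_eq_zero.1 h
  obtain ⟨μ, hμ⟩ := LinearMap.exists_eq_smul_id_of_forall_notLinearIndependent
    (f := (f : B →ₗ[F] B)) fun b hli => by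
      have e1 : T.fB (f.symm b) b = T.fB b (f b) := by rw [← hfiso, LinearEquiv.apply_symm_apply]
      rw [← hinv, D.swapB (f b) b] at e1
      have h0 : T.fB (f b) b = 0 :=
        (mul_eq_zero.1 (show (2 : F) * T.fB (f b) b = 0 by linear_combination e1)).resolve_left D.two
      obtain ⟨l, hl⟩ := D.eq_smul_of_B hB (hli.ne_zero 0) h0
      exact (LinearIndependent.pair_iff' (hli.ne_zero 0)).1 hli l hl
  exact ⟨μ, fun b => by simpa using LinearMap.congr_fun hμ b⟩

end SpData

end CfsgLib.MaxSub.TForm
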