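import Cfsg.Agent.Lib.MaxSub.TFormSp
import Cfsg.Agent.Lib.MaxSub.TFormSpBoot

/-!
Orthogonal ⊗ symplectic: planes `δ ⊗ B`, their reflections, and how purity on planes gives purity.
-/

set_option autoImplicit false
set_option linter.unusedSectionVars false
set_option linter.unusedSimpArgs false
set_option linter.unusedVariables false
set_option linter.style.haveILetI false

namespace CfsgLib.MaxSub.TForm

open Module

variable {F A B V : Type*} [Field F] [AddCommGroup A] [Module F A] [AddCommGroup B] [Module F B]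
  [AddCommGroup V] [Module F V]

/-- the orthogonal of a subspace of `A` -/
def perpS (T : Sys F A B V (RingHom.id F)) (L : Submodule F A) : Submodule F A where
  carrier := {x | ∀ l ∈ L, T.fA x l = 0}
  add_mem' {x y} hx hy := fun l hl => by simp [hx l hl, hy l hl]
  zero_mem' := fun l _ => by simp
  smul_mem' c x hx := fun l hl => by simp [hx l hl]

/-- `L` is non-degenerate -/
def NDeg (T : Sys F A B V (RingHom.id F)) (L : Submodule F A) : Prop :=
  ∀ y ∈ L, (∀ y' ∈ L, T.fA y y' = 0) → y = 0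

/-- `g` is trivial on `L⊥ ⊗ B` -/
def FixOff (T : Sys F A B V (RingHom.id F)) (L : Submodule F A) (g : V → V) : Prop :=
  ∀ a ∈ perpS T L, ∀ b, g (T.tau a b) = T.tau a b

/-- the elements of `H` trivial outside `L ⊗ B` are pure -/
def Good (T : Sys F A B V (RingHom.id F)) (H : Subgroup (V ≃ₗ[F] V)) (L : Submodule F A) : Prop :=
  ∀ g ∈ H, FixOff T L g → IsKron T g

/-- the plane of `δ` goes to a pure plane -/
def PlaneP (T : Sys F A B V (RingHom.id F)) (g : V → V) (δ : A) : Prop :=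
  ∃ δ', ∀ b, ∃ b', g (T.tau δ b) = T.tau δ' b'

/-- planes spanned by orthogonal vectors of equal norm are good -/
def GoodPairs (T : Sys F A B V (RingHom.id F)) (H : Subgroup (V ≃ₗ[F] V)) : Prop :=
  ∀ δ ε : A, T.fA δ δ ≠ 0 → T.fA δ ε = 0 → T.fA ε ε = T.fA δ δ →
    Good T H (Submodule.span F ({δ, ε} : Set A))

theorem mem_perpS {T : Sys F A B V (RingHom.id F)} {L : Submodule F A} {x : A} :
    x ∈ perpS T L ↔ ∀ l ∈ L, T.fA x l = 0 := Iff.rfl

theorem mem_perpS_line {T : Sys F A B V (RingHom.id F)} {e x : A} :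
    x ∈ perpS T (Submodule.span F {e}) ↔ T.fA x e = 0 := by
  refine ⟨fun h => h e (Submodule.mem_span_singleton_self e), fun h l hl => ?_⟩
  obtain ⟨c, rfl⟩ := Submodule.mem_span_singleton.1 hl
  simp [h]

theorem perpS_anti {T : Sys F A B V (RingHom.id F)} {L L' : Submodule F A} (h : L ≤ L') :
    perpS T L' ≤ perpS T L := fun x hx l hl => hx l (h hl)

theorem FixOff.mono {T : Sys F A B V (RingHom.id F)} {L L' : Submodule F A} {g : V → V}
    (hg : FixOff T L g) (h : L ≤ L') : FixOff T L' g := fun a ha => hg a (perpS_anti h ha)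

namespace SpData

variable {T : Sys F A B V (RingHom.id F)} {H : Subgroup (V ≃ₗ[F] V)}
variable [Finite F] [FiniteDimensional F A] [FiniteDimensional F B]

theorem ap_inv (g : V ≃ₗ[F] V) (x : V) : g (g⁻¹ x) = x := by
  rw [LinearEquiv.coe_inv, LinearEquiv.apply_symm_apply]

theorem inv_ap' (g : V ≃ₗ[F] V) (x : V) : g⁻¹ (g x) = x := by
  rw [LinearEquiv.coe_inv, LinearEquiv.symm_apply_apply]

theorem split (D : SpData T H) {L : Submodule F A} (hL : NDeg T L) (a : A) :
    ∃ l ∈ L, a - l ∈ perpS T L := by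
  let f : L →ₗ[F] L →ₗ[F] F := LinearMap.mk₂ F (fun x y => T.fA x.1 y.1) (fun x y z => by simp)
    (fun c x z => by simp) (fun x y z => by simp) (fun c x z => by simp)
  obtain ⟨w, hw⟩ := exists_repr (σ := RingHom.id F) (fun _ => rfl) f
    (fun x hx => Subtype.ext (hL x.1 x.2 fun y' hy' => hx ⟨y', hy'⟩))
    ((T.fA.flip a).comp L.subtype)
  refine ⟨w.1, w.2, fun l hl => ?_⟩
  have h : T.fA l w.1 = T.fA l a := hw ⟨l, hl⟩
  rw [map_sub, LinearMap.sub_apply, D.symA l a, D.symA l w.1, h, sub_self]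

theorem perp_perp (D : SpData T H) {L : Submodule F A} (hL : NDeg T L) {x : A}
    (hx : ∀ p ∈ perpS T L, T.fA x p = 0) : x ∈ L := by
  obtain ⟨l, hl, hp⟩ := D.split hL x
  suffices x - l = 0 by rwa [sub_eq_zero.1 this]
  refine D.good.nondegA _ fun y => ?_
  obtain ⟨l', hl', hp'⟩ := D.split hL y
  have e1 : T.fA (x - l) l' = 0 := hp l' hl'
  have e2 : T.fA l (y - l') = 0 := by rw [D.symA (y - l') l]; exact hp' l hl
  have e3 : T.fA x (y - l') = 0 := hx _ hp'
  have e4 : T.fA (x - l) y = T.fA (x - l) l' + (T.fA x (y - l') - T.fA l (y - l')) := by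
    simp only [map_sub, LinearMap.sub_apply]; ring
  rw [e4, e1, e2, e3]; ring

theorem finrank_perpS (D : SpData T H) {L : Submodule F A} (hL : NDeg T L) :
    finrank F L + finrank F (perpS T L) = finrank F A := by
  refine Submodule.finrank_add_eq_of_isCompl ⟨?_, ?_⟩
  · rw [Submodule.disjoint_def]
    exact fun x hx hx' => hL x hx hx'
  · rw [codisjoint_iff_le_sup]
    intro a _
    obtain ⟨l, hl, hp⟩ := D.split hL a
    rw [← add_sub_cancel l a]
    exact Submodule.add_mem_sup hl hp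

theorem ndeg_perp (D : SpData T H) {L : Submodule F A} (hL : NDeg T L) : NDeg T (perpS T L) := by
  intro y hy h
  have hyL : y ∈ L := D.perp_perp hL fun p hp => h p hp
  exact hL y hyL hy

theorem ndeg_top (D : SpData T H) : NDeg T (⊤ : Submodule F A) :=
  fun y _ h => D.good.nondegA y fun y' => h y' Submodule.mem_top

theorem ndeg_line (D : SpData T H) {e : A} (he : T.fA e e ≠ 0) : NDeg T (Submodule.span F {e}) := by
  intro y hy h
  obtain ⟨c, rfl⟩ := Submodule.mem_span_singleton.1 hy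
  have h1 := h e (Submodule.mem_span_singleton_self e)
  simp [he] at h1
  simp [h1]

theorem ndeg_cut (D : SpData T H) {L : Submodule F A} (hL : NDeg T L) {e : A} (he : e ∈ L)
    (hee : T.fA e e ≠ 0) : NDeg T (L ⊓ perpS T (Submodule.span F {e})) := by
  intro y hy h
  refine hL y hy.1 fun y' hy' => ?_
  have hye : T.fA y e = 0 := mem_perpS_line.1 hy.2
  have h1 := h (y' - (T.fA y' e / T.fA e e) • e) ⟨L.sub_mem hy' (L.smul_mem _ he),
    mem_perpS_line.2 (by simp [hee])⟩
  simpa [hye] using h1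

theorem finrank_cut_line (D : SpData T H) {L : Submodule F A} {e : A} (he : e ∈ L)
    (hee : T.fA e e ≠ 0) :
    finrank F (L ⊓ perpS T (Submodule.span F {e}) : Submodule F A) + 1 = finrank F L := by
  let φ : L →ₗ[F] F := (T.fA.flip e).comp L.subtype
  have hφ : LinearMap.range φ = ⊤ := LinearMap.range_eq_top.2 fun c =>
    ⟨⟨(c / T.fA e e) • e, L.smul_mem _ he⟩, by simp [φ, hee]⟩
  have h1 := φ.finrank_range_add_finrank_ker
  rw [hφ, finrank_top, Module.finrank_self] at h1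
  have h2 : (LinearMap.ker φ).map L.subtype = L ⊓ perpS T (Submodule.span F {e}) := by
    ext x
    simp [φ, mem_perpS_line, Submodule.mem_map, and_comm]
  rw [← h2, Submodule.finrank_map_subtype_eq]
  omega

theorem ndeg_pair (D : SpData T H) {d e : A} (hd : T.fA d d ≠ 0) (he : T.fA e e ≠ 0)
    (hde : T.fA d e = 0) : NDeg T (Submodule.span F ({d, e} : Set A)) := by
  intro y hy h
  obtain ⟨a, c, rfl⟩ := Submodule.mem_span_pair.1 hy
  have h1 := h d (Submodule.subset_span (Set.mem_insert _ _))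
  have h2 := h e (Submodule.subset_span (Set.mem_insert_of_mem _ rfl))
  simp [D.symA d e, hde, hd] at h1
  simp [hde, he] at h2
  simp [h1, h2]

theorem finrank_pair_le {d e : A} : finrank F (Submodule.span F ({d, e} : Set A)) ≤ 2 := by
  classical
  have h := finrank_span_finset_le_card (R := F) ({d, e} : Finset A)
  rw [Finset.coe_insert, Finset.coe_singleton] at h
  exact h.trans Finset.card_le_two

theorem exists_perp_ne (D : SpData T H) {L : Submodule F A} (hL : NDeg T L)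
    (h : finrank F L < finrank F A) : ∃ p ∈ perpS T L, p ≠ 0 :=
  Submodule.exists_mem_ne_zero_of_ne_bot fun e => by
    have h1 := D.finrank_perpS hL
    rw [e, finrank_bot] at h1
    omega

/-- non-degenerate subspaces of dimension two represent every value -/
theorem exists_norm (D : SpData T H) {L : Submodule F A} (hL : NDeg T L) (h2 : 2 ≤ finrank F L)
    {ν : F} (hν : ν ≠ 0) : ∃ d ∈ L, T.fA d d = ν := by
  classical
  cases nonempty_fintype F
  obtain ⟨e, he, hee⟩ := D.exists_aniso hL (by omega)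
  obtain ⟨f, hf, hff⟩ := D.exists_aniso (D.ndeg_cut hL he hee) (by
    have := D.finrank_cut_line he hee
    omega)
  have hfe : T.fA f e = 0 := mem_perpS_line.1 hf.2
  open Polynomial in
  obtain ⟨x, y, hxy⟩ := FiniteField.exists_root_sum_quadratic
    (f := C (T.fA e e) * X ^ 2) (g := C (T.fA f f) * X ^ 2 + C (-ν))
    (degree_C_mul_X_pow 2 hee)
    (by rw [degree_add_C (by rw [degree_C_mul_X_pow 2 hff]; norm_num), degree_C_mul_X_pow 2 hff]; rfl)
    (FiniteField.odd_card_of_char_ne_two fun hc => D.two (by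
      haveI := ringChar.of_eq hc
      exact CharTwo.two_eq_zero))
  simp only [Polynomial.eval_mul, Polynomial.eval_add, Polynomial.eval_C, Polynomial.eval_pow,
    Polynomial.eval_X] at hxy
  refine ⟨x • e + y • f, L.add_mem (L.smul_mem _ he) (L.smul_mem _ hf.1), ?_⟩
  simp only [map_add, map_smul, LinearMap.add_apply, LinearMap.smul_apply, smul_eq_mul, hfe, D.symA f e]
  linear_combination hxy

/-- an element trivial outside `L` preserves `L ⊗ B` -/
theorem fixOff_mem (D : SpData T H) {L : Submodule F A} (hL : NDeg T L) {g : V ≃ₗ[F] V} (hg : g ∈ H)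
    (hfix : FixOff T L g) {a : A} (ha : a ∈ L) (b w : B) : T.C w (g (T.tau a b)) ∈ L := by
  refine D.perp_perp hL fun p hp => ?_
  rw [← D.good.form_C]
  conv_lhs => rw [← hfix p hp w]
  rw [D.isom g hg, D.good.form_tau, D.symA p a, hp a ha, zero_mul]

theorem fixOff_inv (D : SpData T H) {L : Submodule F A} {g : V ≃ₗ[F] V}
    (hfix : FixOff T L g) : FixOff T L (g⁻¹ : V ≃ₗ[F] V) := fun a ha b => by
  conv_lhs => rw [← hfix a ha b]
  rw [inv_ap']

/-- normal form of a pure element trivial on a pencil -/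
theorem pure_form (D : SpData T H) {g : V ≃ₗ[F] V} (hg : g ∈ H) (hK : IsKron T g) {ε : A}
    (hε : ε ≠ 0) (hfix : ∀ b, g (T.tau ε b) = T.tau ε b) :
    ∃ M : A →ₗ[F] A, (∀ a b, g (T.tau a b) = T.tau (M a) b) ∧
      ∀ a a', T.fA (M a) (M a') = T.fA a a' := by
  obtain ⟨M, f, hMf⟩ := hK
  obtain ⟨x, hx⟩ : ∃ x, T.fA ε x = 1 := by
    obtain ⟨y, hy⟩ : ∃ y, T.fA ε y ≠ 0 := by
      by_contra h
      simp only [not_exists, not_not] at h
      exact hε (D.good.nondegA ε h)
    exact ⟨(T.fA ε y)⁻¹ • y, by rw [map_smul, smul_eq_mul, inv_mul_cancel₀ hy]⟩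
  set s := T.fA (M ε) x with hs
  have hf : ∀ b, s • f b = b := fun b => by
    have h := congrArg (T.C' x) ((hMf ε b).symm.trans (hfix b))
    rwa [D.good.C'_tau, D.good.C'_tau, hx, one_smul] at h
  haveI := Module.nontrivial_of_finrank_pos (R := F) (M := B) (by have := D.dimB; omega)
  obtain ⟨b₀, hb₀⟩ := exists_ne (0 : B)
  have hs0 : s ≠ 0 := fun e => hb₀ (by rw [← hf b₀, e, zero_smul])
  have hgab : ∀ a b, g (T.tau a b) = T.tau ((s⁻¹ • M) a) b := fun a b => by
    rw [hMf]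
    conv_rhs => rw [← hf b]
    simp [smul_smul, hs0]
  refine ⟨s⁻¹ • M, hgab, fun a a' => ?_⟩
  obtain ⟨c, hc, -⟩ := D.good.exists_partner hb₀
  have h := D.isom g hg (T.tau a c) (T.tau a' b₀)
  rwa [hgab, hgab, D.good.form_tau, D.good.form_tau, hc, mul_one, mul_one] at h

/-- the map of a pure plane -/
theorem exists_plane_map (D : SpData T H) {g : V ≃ₗ[F] V} (hg : g ∈ H) {δ : A}
    (hδ : T.fA δ δ ≠ 0) (hP : PlaneP T g δ) :
    ∃ (δ' : A) (f : B ≃ₗ[F] B), (∀ b, g (T.tau δ b) = T.tau δ' (f b)) ∧ T.fA δ' δ' ≠ 0 := by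
  obtain ⟨δ', hP⟩ := hP
  have hδ0 : δ ≠ 0 := fun e => hδ (by simp [e])
  haveI := Module.nontrivial_of_finrank_pos (R := F) (M := B) (by have := D.dimB; omega)
  obtain ⟨b₀, hb₀⟩ := exists_ne (0 : B)
  have hne : δ' ≠ 0 := fun e => by
    obtain ⟨b', hb'⟩ := hP b₀
    rw [e, map_zero, LinearMap.zero_apply, LinearEquiv.map_eq_zero_iff, ← map_zero (T.tau δ)] at hb'
    exact hb₀ (D.good.tau_right_inj hδ0 hb')
  obtain ⟨y, hy⟩ : ∃ y, T.fA δ' y ≠ 0 := by
    by_contra h
    simp only [not_exists, not_not] at h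
    exact hne (D.good.nondegA δ' h)
  let f₀ : B →ₗ[F] B := (T.fA δ' y)⁻¹ • (T.C' y ∘ₗ (g : V →ₗ[F] V) ∘ₗ T.tau δ)
  have hf₀ : ∀ b, g (T.tau δ b) = T.tau δ' (f₀ b) := fun b => by
    obtain ⟨b', hb'⟩ := hP b
    rw [hb']
    congr 1
    show b' = (T.fA δ' y)⁻¹ • T.C' y (g (T.tau δ b))
    rw [hb', D.good.C'_tau, inv_smul_smul₀ hy]
  have hinj : Function.Injective f₀ := fun b b' e => D.good.tau_right_inj hδ0 (g.injective (by
    show g (T.tau δ b) = g (T.tau δ b')
    rw [hf₀, hf₀, e]))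
  refine ⟨δ', LinearEquiv.ofInjectiveEndo f₀ hinj, hf₀, fun e => ?_⟩
  obtain ⟨c, hc, -⟩ := D.good.exists_partner hb₀
  have h := D.isom g hg (T.tau δ c) (T.tau δ b₀)
  rw [hf₀, hf₀, D.good.form_tau, D.good.form_tau, e, zero_mul, hc, mul_one] at h
  exact hδ h.symm

/-- images of orthogonal planes are orthogonal -/
theorem plane_orth (D : SpData T H) {g : V ≃ₗ[F] V} (hg : g ∈ H) {δ ε δ' ε' : A} {f f' : B ≃ₗ[F] B}
    (h1 : ∀ b, g (T.tau δ b) = T.tau δ' (f b)) (h2 : ∀ b, g (T.tau ε b) = T.tau ε' (f' b))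
    (h : T.fA δ ε = 0) : T.fA δ' ε' = 0 := by
  haveI := Module.nontrivial_of_finrank_pos (R := F) (M := B) (by have := D.dimB; omega)
  obtain ⟨b₀, hb₀⟩ := exists_ne (0 : B)
  obtain ⟨c, hc, -⟩ := D.good.exists_partner hb₀
  have e := D.isom g hg (T.tau δ (f.symm c)) (T.tau ε (f'.symm b₀))
  rwa [h1, h2, LinearEquiv.apply_symm_apply, LinearEquiv.apply_symm_apply, D.good.form_tau,
    D.good.form_tau, h, zero_mul, hc, mul_one] at e

/-- the reflection in the plane of `δ` -/
theorem exists_iRefl (D : SpData T H) {δ : A} (hδ : T.fA δ δ ≠ 0) :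
    ∃ r ∈ H, (∀ a b, r (T.tau a b) = T.tau (a - (2 * T.fA a δ / T.fA δ δ) • δ) b) ∧
      ∀ x, r x = x - (2 / T.fA δ δ) • T.tau δ (T.C' δ x) := by
  obtain ⟨l, hl, hla⟩ := D.exists_refl hδ
  obtain ⟨r, hr, hrab⟩ := D.pureA l hl
  have h1 : ∀ a b, r (T.tau a b) = T.tau (a - (2 * T.fA a δ / T.fA δ δ) • δ) b := fun a b => by
    rw [hrab, hla]
  refine ⟨r, hr, h1, fun x => ?_⟩
  refine LinearMap.congr_fun (D.good.ext_tau (f := (r : V →ₗ[F] V))
    (g := LinearMap.id - (2 / T.fA δ δ) • (T.tau δ ∘ₗ T.C' δ)) fun a b => ?_) x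
  show r (T.tau a b) = T.tau a b - (2 / T.fA δ δ) • T.tau δ (T.C' δ (T.tau a b))
  rw [h1, D.good.C'_tau]
  simp only [map_sub, map_smul, LinearMap.sub_apply, LinearMap.smul_apply, smul_smul]
  congr 2
  ring

/-- the conjugate reflection of an image plane -/
theorem exists_conj_refl (D : SpData T H) {g : V ≃ₗ[F] V} (hg : g ∈ H) {δ : A} (hδ : T.fA δ δ ≠ 0) :
    ∃ j ∈ H, (∀ x, ∃ b, j x - x = g (T.tau δ b)) ∧ (∀ b, j (g (T.tau δ b)) = -g (T.tau δ b)) ∧
      (∀ x, (∀ b, T.form x (g (T.tau δ b)) = 0) → j x = x) ∧ (∀ x, j (j x) = x) := by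
  obtain ⟨r, hr, hrab, hrx⟩ := D.exists_iRefl hδ
  refine ⟨g * r * g⁻¹, mul_mem (mul_mem hg hr) (inv_mem hg), fun x => ?_, fun b => ?_, fun x hx => ?_,
    fun x => ?_⟩
  · refine ⟨-((2 / T.fA δ δ) • T.C' δ (g⁻¹ x)), ?_⟩
    show g (r (g⁻¹ x)) - x = _
    rw [hrx, map_sub, ap_inv, map_neg, map_smul, map_neg, map_smul, map_smul]
    abel
  · show g (r (g⁻¹ (g (T.tau δ b)))) = _
    rw [inv_ap', hrab, ← map_neg g]
    congr 1
    rw [mul_div_assoc, div_self hδ, mul_one, two_smul, sub_add_cancel_left, map_neg, LinearMap.neg_apply]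
  · show g (r (g⁻¹ x)) = x
    have h0 : T.C' δ (g⁻¹ x) = 0 := D.good.nondegB _ fun b => by
      rw [← D.good.form_C', ← D.isom g hg, ap_inv, hx]
    rw [hrx, h0, map_zero, smul_zero, sub_zero, ap_inv]
  · show g (r (g⁻¹ (g (r (g⁻¹ x))))) = x
    rw [inv_ap']
    have h1 : ∀ y, r (r y) = y := fun y => LinearMap.congr_fun
      (D.good.ext_tau (f := ((r * r : V ≃ₗ[F] V) : V →ₗ[F] V)) (g := LinearMap.id) fun a b => by
        show r (r (T.tau a b)) = T.tau a b
        rw [hrab, hrab]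
        congr 1
        simp only [map_sub, map_smul, LinearMap.sub_apply, LinearMap.smul_apply, smul_eq_mul,
          div_mul_cancel₀ _ hδ]
        match_scalars
        · rfl
        · field_simp
          ring) y
    rw [h1, ap_inv]

/-- an image plane inside a good subspace is pure -/
theorem plane_of_good (D : SpData T H) {S : Submodule F A} (hS : NDeg T S) (hgood : Good T H S)
    (hlt : finrank F S < finrank F A) {g : V ≃ₗ[F] V} (hg : g ∈ H) {δ : A} (hδ : T.fA δ δ ≠ 0)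
    (hin : ∀ b w, T.C w (g (T.tau δ b)) ∈ S) : PlaneP T g δ := by
  obtain ⟨j, hj, hmove, hneg, hfixj, -⟩ := D.exists_conj_refl hg hδ
  have hoff : FixOff T S j := fun a ha b => hfixj _ fun c => by
    refine D.good.form_flip_zero ?_
    rw [D.good.form_C, D.symA a _, ha _ (hin c b)]
  obtain ⟨p, hp, hp0⟩ := D.exists_perp_ne hS hlt
  obtain ⟨M, hM, -⟩ := D.pure_form hj (hgood j hj hoff) hp0 (hoff p hp)
  have hδ0 : δ ≠ 0 := fun e => hδ (by simp [e])
  obtain ⟨a₀, ha₀⟩ : ∃ a, M a ≠ a := by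
    by_contra hall
    simp only [not_exists, not_not] at hall
    haveI := Module.nontrivial_of_finrank_pos (R := F) (M := B) (by have := D.dimB; omega)
    obtain ⟨b, hb⟩ := exists_ne (0 : B)
    have h1 : j (g (T.tau δ b)) = g (T.tau δ b) := LinearMap.congr_fun
      (D.good.ext_tau (f := (j : V →ₗ[F] V)) (g := LinearMap.id) fun a b => by
        show j (T.tau a b) = T.tau a b
        rw [hM, hall]) _
    rw [hneg, ← sub_eq_zero, ← neg_add', neg_eq_zero, ← two_smul F, smul_eq_zero,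
      LinearEquiv.map_eq_zero_iff, ← map_zero (T.tau δ)] at h1
    exact hb (D.good.tau_right_inj hδ0 (h1.resolve_left D.two))
  let φ : B →ₗ[F] V := (g : V →ₗ[F] V) ∘ₗ T.tau δ
  let ψ : B →ₗ[F] V := T.tau (M a₀ - a₀)
  have hle : LinearMap.range ψ ≤ LinearMap.range φ := by
    rintro _ ⟨b, rfl⟩
    obtain ⟨c, hc⟩ := hmove (T.tau a₀ b)
    refine ⟨c, ?_⟩
    show g (T.tau δ c) = T.tau (M a₀ - a₀) b
    rw [← hc, hM, map_sub, LinearMap.sub_apply]
  have heq : LinearMap.range ψ = LinearMap.range φ := Submodule.eq_of_le_of_finrank_le hle (by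
    rw [LinearMap.finrank_range_of_inj (D.good.tau_right_inj (sub_ne_zero.2 ha₀))]
    exact LinearMap.finrank_range_le _)
  refine ⟨M a₀ - a₀, fun b => ?_⟩
  obtain ⟨b', hb'⟩ : φ b ∈ LinearMap.range ψ := by rw [heq]; exact ⟨b, rfl⟩
  exact ⟨b', hb'.symm⟩

/-- a map fixing one plane and preserving an orthogonal one of equal norm is scalar there -/
theorem mix (D : SpData T H) (hP : GoodPairs T H) {v : V ≃ₗ[F] V} (hv : v ∈ H) {δ ε : A}
    {s : B → B} (hδ : T.fA δ δ ≠ 0) (hde : T.fA δ ε = 0) (hnorm : T.fA ε ε = T.fA δ δ)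
    (h1 : ∀ b, v (T.tau δ b) = T.tau δ (s b)) (h2 : ∀ b, v (T.tau ε b) = T.tau ε b) :
    ∃ σ₀ : F, ∀ b, s b = σ₀ • b := by
  have hα : T.fA (δ + ε) (δ + ε) ≠ 0 := by
    simp only [map_add, LinearMap.add_apply, hde, D.symA δ ε, hnorm, add_zero, zero_add, ← two_mul]
    exact mul_ne_zero D.two hδ
  have hS := D.ndeg_pair hδ (hnorm ▸ hδ) hde
  have hlt : finrank F (Submodule.span F ({δ, ε} : Set A)) < finrank F A :=
    lt_of_le_of_lt finrank_pair_le (by have := D.dimA; omega)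
  have hpl : PlaneP T v (δ + ε) := D.plane_of_good hS (hP δ ε hδ hde hnorm) hlt hv hα fun b w => by
    simp only [map_add, LinearMap.add_apply, h1, h2, D.good.C_tau]
    exact add_mem (Submodule.smul_mem _ _ (Submodule.subset_span (Set.mem_insert _ _)))
      (Submodule.smul_mem _ _ (Submodule.subset_span (Set.mem_insert_of_mem _ rfl)))
  obtain ⟨α', f, hf, -⟩ := D.exists_plane_map hv hα hpl
  have key : ∀ x b, T.fA δ x • s b + T.fA ε x • b = T.fA α' x • f b := fun x b => by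
    have h := congrArg (T.C' x) (hf b)
    simp only [map_add, LinearMap.add_apply, h1, h2, D.good.C'_tau] at h
    exact h
  haveI := Module.nontrivial_of_finrank_pos (R := F) (M := B) (by have := D.dimB; omega)
  obtain ⟨b₀, hb₀⟩ := exists_ne (0 : B)
  have e1 : ∀ b, T.fA ε ε • b = T.fA α' ε • f b := fun b => by
    have := key ε b; rwa [hde, zero_smul, zero_add] at this
  have e2 : ∀ b, T.fA δ δ • s b = T.fA α' δ • f b := fun b => by
    have := key δ b; rwa [D.symA δ ε, hde, zero_smul, add_zero] at this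
  have hne : T.fA α' ε ≠ 0 := fun e => by
    have := e1 b₀
    rw [e, zero_smul, smul_eq_zero] at this
    exact this.elim (hnorm ▸ hδ) hb₀
  refine ⟨(T.fA δ δ)⁻¹ * (T.fA α' δ * ((T.fA α' ε)⁻¹ * T.fA ε ε)), fun b => ?_⟩
  rw [← smul_smul, ← smul_smul, ← smul_smul, e1, inv_smul_smul₀ hne, ← e2, inv_smul_smul₀ hδ]

/-- a map of `B` commuting with the transvections up to scalars is scalar -/
theorem scalar_of_comm (D : SpData T H) (f : B ≃ₗ[F] B)
    (h : ∀ y : B, y ≠ 0 → ∃ σ₀ : F, ∀ b, f (b + T.fB b y • y) = σ₀ • (f b + T.fB (f b) y • y)) :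
    ∃ c : F, ∀ b, f b = c • b := by
  have hone : ∀ y, f y ∈ Submodule.span F ({y} : Set B) := by
    intro y
    rcases eq_or_ne y 0 with rfl | hy0
    · simp
    obtain ⟨σ₀, hσ⟩ := h y hy0
    obtain ⟨e, he, -⟩ := D.good.exists_partner hy0
    have h1 := hσ y
    rw [D.altB, zero_smul, add_zero] at h1
    by_contra hny
    have hli : LinearIndependent F ![y, f y] := (LinearIndependent.pair_iff' hy0).2 fun c hc =>
      hny (hc ▸ Submodule.smul_mem _ c (Submodule.mem_span_singleton_self y))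
    obtain ⟨h2, h3⟩ := LinearIndependent.pair_iff.1 hli (σ₀ * T.fB (f y) y) (σ₀ - 1) (by
      linear_combination (norm := module) -h1)
    have hσ1 : σ₀ = 1 := sub_eq_zero.1 h3
    have h4 := hσ e
    rw [he, one_smul, map_add, hσ1, one_smul, add_right_inj] at h4
    exact hny (h4 ▸ Submodule.smul_mem _ _ (Submodule.mem_span_singleton_self y))
  obtain ⟨μ, hμ⟩ := LinearMap.exists_eq_smul_id_of_forall_notLinearIndependent
    (f := (f : B →ₗ[F] B)) fun b hli => by
      obtain ⟨k, hk⟩ := Submodule.mem_span_singleton.1 (hone b)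
      exact (LinearIndependent.pair_iff' (hli.ne_zero 0)).1 hli k hk
  exact ⟨μ, fun b => by simpa using LinearMap.congr_fun hμ b⟩

/-- where `g` commutes with the transvections of the second factor -/
def commSub (T : Sys F A B V (RingHom.id F)) (g : V ≃ₗ[F] V) : Submodule F A where
  carrier := {a | ∀ (t : V ≃ₗ[F] V) (y : B), (∀ x, t x = x + T.tau (T.C y x) y) →
    ∀ b, g (t (g⁻¹ (T.tau a b))) = t (T.tau a b)}
  add_mem' {a a'} ha ha' := fun t y ht b => by
    simp only [map_add, LinearMap.add_apply, ha t y ht b, ha' t y ht b]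
  zero_mem' := fun t y _ b => by simp
  smul_mem' c a ha := fun t y ht b => by
    simp only [map_smul, LinearMap.smul_apply, ha t y ht b]

theorem fixed_mem_comm (D : SpData T H) {g : V ≃ₗ[F] V} {a : A}
    (h : ∀ b, g (T.tau a b) = T.tau a b) : a ∈ commSub T g := by
  intro t y ht b
  have hi : g⁻¹ (T.tau a b) = T.tau a b := by conv_lhs => rw [← h b, inv_ap']
  rw [hi, ht, map_add, h, D.good.C_tau, map_smul, LinearMap.smul_apply, map_smul, h]

theorem scalar_mem_comm (D : SpData T H) {g : V ≃ₗ[F] V} {a a' : A}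
    (h : ∀ b, g (T.tau a b) = T.tau a' b) : a' ∈ commSub T g := by
  intro t y ht b
  have hi : g⁻¹ (T.tau a' b) = T.tau a b := by rw [← h b, inv_ap']
  rw [hi, ht, map_add, h, D.good.C_tau, map_smul, LinearMap.smul_apply, map_smul, h, ht,
    D.good.C_tau, map_smul, LinearMap.smul_apply]

/-- mixing with a vector of equal norm where `g` commutes makes a plane map scalar -/
theorem scalar_f (D : SpData T H) (hP : GoodPairs T H) {g : V ≃ₗ[F] V} (hg : g ∈ H) {δ δ' : A}
    {f : B ≃ₗ[F] B} (hgd : ∀ b, g (T.tau δ b) = T.tau δ' (f b)) (hδ' : T.fA δ' δ' ≠ 0) {ε : A}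
    (hε : ε ∈ commSub T g) (hde : T.fA δ' ε = 0) (hnorm : T.fA ε ε = T.fA δ' δ') :
    ∃ c : F, ∀ b, f b = c • b := by
  refine D.scalar_of_comm f fun y hy => ?_
  obtain ⟨t, ht, htx⟩ := D.tvB y 1
  obtain ⟨t', ht', htx'⟩ := D.tvB y (-1)
  replace htx : ∀ x, t x = x + T.tau (T.C y x) y := fun x => (htx x).trans (by simp)
  replace htx' : ∀ x, t' x = x - T.tau (T.C y x) y := fun x => (htx' x).trans (by simp [sub_eq_add_neg])
  have htt : ∀ x, t' (t x) = x := fun x => by
    rw [htx', htx, map_add, D.good.C_tau, D.altB, zero_smul, add_zero, add_sub_cancel_right]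
  have htd : ∀ (a : A) c, t (T.tau a c) = T.tau a (c + T.fB c y • y) := fun a c => by
    rw [htx, D.good.C_tau, map_add, map_smul, map_smul, LinearMap.smul_apply]
  have htd' : ∀ (a : A) c, t' (T.tau a c) = T.tau a (c - T.fB c y • y) := fun a c => by
    rw [htx', D.good.C_tau, map_sub, map_smul, map_smul, LinearMap.smul_apply]
  have hv : g * t * g⁻¹ * t' ∈ H := mul_mem (mul_mem (mul_mem hg ht) (inv_mem hg)) ht'
  have e2 : ∀ b, (g * t * g⁻¹ * t') (T.tau ε b) = T.tau ε b := fun b => by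
    show g (t (g⁻¹ (t' (T.tau ε b)))) = _
    rw [htd', hε t y htx, htd]
    simp [D.altB]
  have e1 : ∀ b, (g * t * g⁻¹ * t') (T.tau δ' b) =
      T.tau δ' (f (f.symm (b - T.fB b y • y) + T.fB (f.symm (b - T.fB b y • y)) y • y)) := fun b => by
    show g (t (g⁻¹ (t' (T.tau δ' b)))) = _
    have hi : g⁻¹ (T.tau δ' (b - T.fB b y • y)) = T.tau δ (f.symm (b - T.fB b y • y)) := by
      apply g.injective
      rw [ap_inv, hgd, LinearEquiv.apply_symm_apply]
    rw [htd', hi, htd, hgd]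
  obtain ⟨σ₀, hσ⟩ := D.mix hP hv hδ' hde hnorm e1 e2
  refine ⟨σ₀, fun b => ?_⟩
  have h := hσ (f b + T.fB (f b) y • y)
  rw [map_add (T.fB), LinearMap.add_apply, map_smul (T.fB), LinearMap.smul_apply, D.altB, smul_zero,
    add_zero, add_sub_cancel_right, LinearEquiv.symm_apply_apply] at h
  exact h

/-- pure planes of scalar type, with a spanning set, give purity -/
theorem kron_of_span (D : SpData T H) {g : V → V} {gl : V →ₗ[F] V} (hgl : ∀ x, gl x = g x)
    {f : B →ₗ[F] B} {P : Set A} (hP : Submodule.span F P = ⊤)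
    (h : ∀ a ∈ P, ∃ a', ∀ b, g (T.tau a b) = T.tau a' (f b)) (hf : ∃ b, f b ≠ 0) : IsKron T g := by
  obtain ⟨b₀, hb₀⟩ := hf
  obtain ⟨w, hw, -⟩ := D.good.exists_partner hb₀
  obtain ⟨w', hw'⟩ : ∃ w', T.fB (f b₀) w' = 1 := ⟨-w, by rw [map_neg, D.swapB w (f b₀), hw, neg_neg]⟩
  let M : A →ₗ[F] A := T.C w' ∘ₗ gl ∘ₗ T.tau.flip b₀
  let X : Submodule F A :=
    { carrier := {a | ∀ b, g (T.tau a b) = T.tau (M a) (f b)}
      add_mem' := fun {a a'} ha ha' b => by
        simp only [← hgl, map_add, LinearMap.add_apply] at ha ha' ⊢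
        rw [ha b, ha' b]
      zero_mem' := fun b => by simp [← hgl]
      smul_mem' := fun c a ha b => by
        simp only [← hgl, map_smul, LinearMap.smul_apply] at ha ⊢
        rw [ha b] }
  have hX : X = ⊤ := by
    rw [eq_top_iff, ← hP, Submodule.span_le]
    intro a ha b
    obtain ⟨a', ha'⟩ := h a ha
    have : M a = a' := by
      show T.C w' (gl (T.tau a b₀)) = a'
      rw [hgl, ha', D.good.C_tau, hw', one_smul]
    rw [this, ha']
  refine ⟨M, f, fun a b => ?_⟩
  have ha : a ∈ X := by rw [hX]; trivial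
  exact ha b

/-- purity from pure planes, inside a proper subspace -/
theorem glue (D : SpData T H) (hP : GoodPairs T H) {L : Submodule F A} (hL : NDeg T L)
    {g : V ≃ₗ[F] V} (hg : g ∈ H) (hfix : FixOff T L g) {ε : A} (hε : ε ∈ perpS T L)
    (hεε : T.fA ε ε ≠ 0) {P : Set A} (hPL : P ⊆ L) (hspan : L ≤ Submodule.span F P)
    (himg : ∀ δ ∈ P, T.fA δ δ ≠ 0 ∧ ∃ (δ' : A) (f : B ≃ₗ[F] B),
      (∀ b, g (T.tau δ b) = T.tau δ' (f b)) ∧ T.fA δ' δ' ≠ 0 ∧ δ' ∈ L ∧
      ((∃ η ∈ perpS T L, T.fA η η = T.fA δ' δ') ∨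
        ∃ γ ∈ P, ∃ (γ' : A) (f' : B ≃ₗ[F] B), (∀ b, g (T.tau γ b) = T.tau γ' (f' b)) ∧ γ' ∈ L ∧
          T.fA γ' δ' = 0 ∧ T.fA γ' γ' = T.fA ε ε)) :
    IsKron T g := by
  have key : ∀ δ ∈ P, ∃ δ'', ∀ b, g (T.tau δ b) = T.tau δ'' b := by
    intro δ hδP
    obtain ⟨hδ, δ', f, hgd, hδ', hδ'L, hor⟩ := himg δ hδP
    suffices ∃ c : F, ∀ b, f b = c • b by
      obtain ⟨c, hc⟩ := this
      exact ⟨c • δ', fun b => by rw [hgd, hc, map_smul, map_smul, LinearMap.smul_apply]⟩
    rcases hor with ⟨η, hη, hηn⟩ | ⟨γ, hγP, γ', f', hgγ, hγ'L, hγδ, hγn⟩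
    · exact D.scalar_f hP hg hgd hδ' (D.fixed_mem_comm fun b => hfix η hη b)
        (by rw [D.symA η δ']; exact hη δ' hδ'L) hηn
    obtain ⟨c, hc⟩ := D.scalar_f hP hg hgγ (hγn ▸ hεε) (D.fixed_mem_comm fun b => hfix ε hε b)
      (by rw [D.symA ε γ']; exact hε γ' hγ'L) hγn.symm
    have hc0 : c ≠ 0 := fun e => by
      haveI := Module.nontrivial_of_finrank_pos (R := F) (M := B) (by have := D.dimB; omega)
      obtain ⟨b₀, hb₀⟩ := exists_ne (0 : B)
      have h := hc (f'.symm b₀)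
      rw [LinearEquiv.apply_symm_apply, e, zero_smul] at h
      exact hb₀ h
    have hγc : γ' ∈ commSub T g := by
      have h := D.scalar_mem_comm (g := g) (a := γ) (a' := c • γ') fun b => by
        rw [hgγ, hc, map_smul, map_smul, LinearMap.smul_apply]
      simpa [smul_smul, inv_mul_cancel₀ hc0] using (commSub T g).smul_mem c⁻¹ h
    obtain ⟨x, z, hxz⟩ := exists_sq_add_sq D.two (T.fA δ' δ' / T.fA ε ε)
    refine D.scalar_f hP hg hgd hδ' (ε := x • ε + z • γ') ((commSub T g).add_mem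
      ((commSub T g).smul_mem _ (D.fixed_mem_comm fun b => hfix ε hε b))
      ((commSub T g).smul_mem _ hγc)) ?_ ?_
    · simp [D.symA ε δ', hε δ' hδ'L, D.symA γ' δ', hγδ]
    · rw [eq_div_iff hεε] at hxz
      simp only [map_add, map_smul, LinearMap.add_apply, LinearMap.smul_apply, smul_eq_mul,
        hε γ' hγ'L, D.symA ε γ', hγn]
      linear_combination hxz
  refine D.kron_of_span (gl := (g : V →ₗ[F] V)) (fun _ => rfl) (f := LinearMap.id)
    (P := P ∪ perpS T L) ?_ ?_ ?_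
  · rw [Submodule.span_union, Submodule.span_eq, eq_top_iff]
    intro a _
    obtain ⟨l, hl, hp⟩ := D.split hL a
    rw [← add_sub_cancel l a]
    exact Submodule.add_mem_sup (hspan hl) hp
  · rintro a (ha | ha)
    · exact key a ha
    · exact ⟨a, fun b => hfix a ha b⟩
  · haveI := Module.nontrivial_of_finrank_pos (R := F) (M := B) (by have := D.dimB; omega)
    obtain ⟨b₀, hb₀⟩ := exists_ne (0 : B)
    exact ⟨b₀, hb₀⟩

end SpData

end CfsgLib.MaxSub.TForm
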