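import Cfsg.Agent.Lib.MaxSub.TFormSpLine
import Cfsg.Agent.Lib.MaxSub.TFormInvol

/-!
Orthogonal ⊗ `Sp₂`: the quadratic identity for an element moving only `L ⊗ B`, `L` a plane.
-/

set_option autoImplicit false
set_option linter.unusedSectionVars false
set_option linter.unusedSimpArgs false
set_option linter.unusedVariables false
set_option linter.style.haveILetI false

namespace CfsgLib.MaxSub.TForm

open Module

variable {F A B V : Type*} [Field F] [AddCommGroup A] [Module F A] [AddCommGroup B] [Module F B]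
  [AddCommGroup V] [Module F V]

theorem end_ap_inv (g : V ≃ₗ[F] V) :
    ((g : V →ₗ[F] V) : Module.End F V) * ((g⁻¹ : V ≃ₗ[F] V) : V →ₗ[F] V) = 1 :=
  LinearMap.ext fun x => by
    show g (g⁻¹ x) = x
    rw [LinearEquiv.coe_inv, LinearEquiv.apply_symm_apply]

namespace SpData

variable {T : Sys F A B V (RingHom.id F)} {H : Subgroup (V ≃ₗ[F] V)}
variable [Finite F] [FiniteDimensional F A] [FiniteDimensional F B] [FiniteDimensional F V]

/-- the quadratic map of a pencil -/
noncomputable def aEnd (T : Sys F A B V (RingHom.id F)) (y : B) : Module.End F V := T.tau.flip y ∘ₗ T.C y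

theorem aEnd_apply (y : B) (x : V) : aEnd T y x = T.tau (T.C y x) y := rfl

theorem aEnd_sq (D : SpData T H) (y : B) : aEnd T y * aEnd T y = 0 :=
  LinearMap.ext fun x => by
    show T.tau (T.C y (T.tau (T.C y x) y)) y = 0
    rw [D.good.C_tau, D.altB, zero_smul, map_zero, LinearMap.zero_apply]

/-- the first factor of an involution or `M + M⁻¹` scalar, in dimension two -/
theorem two_dichotomy (D : SpData T H) {L : Submodule F A} {d₁ d₂ : A} (h1 : T.fA d₁ d₁ ≠ 0)
    (h2 : T.fA d₂ d₂ ≠ 0) (h12 : T.fA d₁ d₂ = 0) (hsplit : ∀ x ∈ L, ∃ r s : F, x = r • d₁ + s • d₂)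
    (hd₁ : d₁ ∈ L) (hd₂ : d₂ ∈ L) {M M' : A →ₗ[F] A} (hinv : ∀ a, M' (M a) = a)
    (hiso : ∀ a a', T.fA (M a) (M a') = T.fA a a') (hL : ∀ a ∈ L, M a ∈ L) :
    (∀ a ∈ L, M (M a) = a) ∨
      ∃ τ₀ : F, (∀ a ∈ L, M a + M' a = τ₀ • a) ∧ ∀ a ∈ L, M a - M' a = 0 → a = 0 := by
  have h21 : T.fA d₂ d₁ = 0 := D.good.A_flip_zero h12
  obtain ⟨α, β, e1⟩ := hsplit _ (hL _ hd₁)
  obtain ⟨γ, δ, e2⟩ := hsplit _ (hL _ hd₂)
  have q1 := hiso d₁ d₁
  have q2 := hiso d₁ d₂
  have q3 := hiso d₂ d₂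
  simp only [e1, e2, map_add, map_smul, LinearMap.add_apply, LinearMap.smul_apply, smul_eq_mul, h12, h21,
    mul_zero, add_zero, zero_add] at q1 q2 q3
  set d := T.fA d₁ d₁ with hd
  set e := T.fA d₂ d₂ with he
  -- the inverse is the adjoint
  have hadj : ∀ x a, T.fA (M' x) a = T.fA x (M a) := fun x a => by
    rw [← hiso (M' x) a]
    congr 1
    have hinj : Function.Injective M := fun u v huv => by rw [← hinv u, huv, hinv]
    obtain ⟨u, rfl⟩ := LinearMap.injective_iff_surjective.1 hinj x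
    rw [hinv]
  have hML' : ∀ x ∈ L, M' x ∈ L := by
    intro x hx
    obtain ⟨u, hu, rfl⟩ : ∃ u ∈ L, M u = x := by
      let ML : L →ₗ[F] L := M.restrict hL
      have hinj : Function.Injective ML := fun u v huv => Subtype.ext (by
        have h := congrArg (fun w : L => M' w.1) huv
        simpa [ML, hinv] using h)
      obtain ⟨u, hu⟩ := LinearMap.injective_iff_surjective.1 hinj ⟨x, hx⟩
      exact ⟨u.1, u.2, congrArg Subtype.val hu⟩
    rwa [hinv]
  have hM'1 : M' d₁ = α • d₁ + (γ * d / e) • d₂ := by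
    obtain ⟨r, s, hrs⟩ := hsplit _ (hML' _ hd₁)
    have a1 := hadj d₁ d₁
    have a2 := hadj d₁ d₂
    simp only [hrs, e1, e2, map_add, map_smul, LinearMap.add_apply, LinearMap.smul_apply, smul_eq_mul,
      h12, h21, mul_zero, add_zero, zero_add, ← hd, ← he] at a1 a2
    rw [hrs, mul_right_cancel₀ h1 a1, eq_div_iff h2 |>.2 a2]
  have hM'2 : M' d₂ = (β * e / d) • d₁ + δ • d₂ := by
    obtain ⟨r, s, hrs⟩ := hsplit _ (hML' _ hd₂)
    have a1 := hadj d₂ d₁
    have a2 := hadj d₂ d₂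
    simp only [hrs, e1, e2, map_add, map_smul, LinearMap.add_apply, LinearMap.smul_apply, smul_eq_mul,
      h12, h21, mul_zero, add_zero, zero_add, ← hd, ← he] at a1 a2
    rw [hrs, mul_right_cancel₀ h2 a2, eq_div_iff h1 |>.2 a1]
  by_cases hsym : γ * d = β * e
  · left
    have hM : ∀ a ∈ L, M a = M' a := by
      intro a ha
      obtain ⟨r, s, rfl⟩ := hsplit a ha
      simp only [map_add, map_smul, e1, e2, hM'1, hM'2]
      rw [hsym, ← hsym, mul_div_cancel_right₀ _ h1, hsym, mul_div_cancel_right₀ _ h2]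
    intro a ha
    rw [hM a ha]
    obtain ⟨u, rfl⟩ := LinearMap.injective_iff_surjective.1
      (fun u v huv => by rw [← hinv u, huv, hinv] : Function.Injective M) a
    rw [hinv]
  right
  have hskew : γ * d = -(β * e) := by
    by_cases hα : α = 0
    · subst hα
      have hδ : δ = 0 := by
        have h := mul_eq_zero.1 (show β * e * δ = 0 by linear_combination q2)
        refine h.resolve_left (fun h' => ?_)
        rcases mul_eq_zero.1 h' with hb | hb
        · subst hb; exact h1 (by linear_combination -q1)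
        · exact h2 hb
      subst hδ
      have h : (γ * d - β * e) * (γ * d + β * e) = 0 := by linear_combination d * q3 - e * q1
      exact eq_neg_of_add_eq_zero_left ((mul_eq_zero.1 h).resolve_left (sub_ne_zero.2 hsym))
    · have h : (δ - α) * (δ + α) = 0 := by
        have hαe : e * (α * α) = δ * δ * e := by
          have h3 : d * (e * (α * α)) = d * (δ * δ * e) := by
            linear_combination -d * (α * α) * q3 + δ * δ * e * q1 + (α * γ * d - β * δ * e) * q2
          exact mul_left_cancel₀ h1 h3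
        have h4 : e * ((δ - α) * (δ + α)) = 0 := by linear_combination -hαe
        exact (mul_eq_zero.1 h4).resolve_left h2
      rcases mul_eq_zero.1 h with h5 | h5
      · rw [sub_eq_zero.1 h5] at q2
        exact eq_neg_of_add_eq_zero_left ((mul_eq_zero.1
          (show α * (γ * d + β * e) = 0 by linear_combination q2)).resolve_left hα)
      · rw [eq_neg_of_add_eq_zero_left h5] at q2
        exact absurd (sub_eq_zero.1 ((mul_eq_zero.1
          (show α * (γ * d - β * e) = 0 by linear_combination q2)).resolve_left hα)) hsym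
  have hβ : β ≠ 0 := fun e0 => hsym (by rw [e0] at hskew ⊢; simpa using hskew)
  have hαδ : δ = α := by
    have h : β * e * (δ - α) = 0 := by linear_combination q2 - α * hskew
    exact sub_eq_zero.1 ((mul_eq_zero.1 h).resolve_left (mul_ne_zero hβ h2))
  have hγ : γ ≠ 0 := fun e0 => mul_ne_zero hβ h2 (by rw [e0] at hskew; linear_combination hskew)
  refine ⟨2 * α, fun a ha => ?_, fun a ha h0 => ?_⟩
  · obtain ⟨r, s, rfl⟩ := hsplit a ha
    simp only [map_add, map_smul, e1, e2, hM'1, hM'2, hαδ]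
    match_scalars
    · field_simp
      linear_combination s * hskew
    · field_simp
      linear_combination r * hskew
  · obtain ⟨r, s, rfl⟩ := hsplit a ha
    have hr : T.fA (M (r • d₁ + s • d₂) - M' (r • d₁ + s • d₂)) d₁ = 0 := by rw [h0]; simp
    have hs : T.fA (M (r • d₁ + s • d₂) - M' (r • d₁ + s • d₂)) d₂ = 0 := by rw [h0]; simp
    simp only [map_add, map_sub, map_smul, LinearMap.add_apply, LinearMap.sub_apply, LinearMap.smul_apply,
      smul_eq_mul, e1, e2, hM'1, hM'2, h12, h21, ← hd, ← he, hαδ, mul_zero, add_zero, zero_add,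
      div_mul_cancel₀ _ h1, div_mul_cancel₀ _ h2] at hr hs
    have hr' : (2 * (γ * d)) * s = 0 := by linear_combination hr + s * hskew
    have hs' : (2 * (β * e)) * r = 0 := by linear_combination hs + r * hskew
    rw [(mul_eq_zero.1 hr').resolve_left (mul_ne_zero D.two (mul_ne_zero hγ h1)),
      (mul_eq_zero.1 hs').resolve_left (mul_ne_zero D.two (mul_ne_zero hβ h2)), zero_smul, zero_smul,
      add_zero]

/-- the elements trivial outside `L` -/
def offSub (D : SpData T H) (L : Submodule F A) : Subgroup (V ≃ₗ[F] V) where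
  carrier := {x | x ∈ H ∧ FixOff T L x}
  one_mem' := ⟨one_mem _, fun a _ b => rfl⟩
  mul_mem' {x y} hx hy := ⟨mul_mem hx.1 hy.1, fun a ha b => by
    show x (y (T.tau a b)) = _
    rw [hy.2 a ha b, hx.2 a ha b]⟩
  inv_mem' {x} hx := ⟨inv_mem hx.1, D.fixOff_inv hx.2⟩

/-- transvections along the pencil of `y` -/
def tvSub (D : SpData T H) (y : B) : Subgroup (V ≃ₗ[F] V) where
  carrier := {x | x ∈ H ∧ ∃ c : F, ∀ v, x v = v + c • aEnd T y v}
  one_mem' := ⟨one_mem _, 0, fun v => by simp⟩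
  mul_mem' {x x'} hx hx' := by
    obtain ⟨hxH, c, hc⟩ := hx
    obtain ⟨hxH', c', hc'⟩ := hx'
    refine ⟨mul_mem hxH hxH', c + c', fun v => ?_⟩
    have h0 : aEnd T y (aEnd T y v) = 0 := LinearMap.congr_fun (D.aEnd_sq y) v
    rw [LinearEquiv.mul_apply, hc', hc, map_add, map_smul, h0]
    module
  inv_mem' {x} hx := by
    obtain ⟨hxH, c, hc⟩ := hx
    refine ⟨inv_mem hxH, -c, fun v => x.injective ?_⟩
    have h0 : aEnd T y (aEnd T y v) = 0 := LinearMap.congr_fun (D.aEnd_sq y) v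
    rw [ap_inv, hc, map_add, map_smul, h0]
    module

/-- an element trivial outside `L` commuting with a transvection along `y` -/
theorem pure_of_comm (D : SpData T H) (hno : NoTvSp T H) {L : Submodule F A} {y : B} (hy : y ≠ 0) {p : A}
    (hp : p ∈ perpS T L) (hp0 : p ≠ 0) {x : V ≃ₗ[F] V} (hx : x ∈ H) (hfix : FixOff T L x)
    (hc : ∀ v, x (aEnd T y v) = aEnd T y (x v)) :
    ∃ M : A →ₗ[F] A, (∀ a b, x (T.tau a b) = T.tau (M a) b) ∧ ∀ a a', T.fA (M a) (M a') = T.fA a a' := by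
  obtain ⟨e, he, -⟩ := D.good.exists_partner hy
  haveI := Module.nontrivial_of_finrank_pos (R := F) (M := A) (by have := D.dimA; omega)
  refine D.pure_form hx ((D.stabHyp hno).isKron hx (D.altB y) hy (fun a => ⟨T.C y (x (T.tau a e)), ?_⟩)
    inferInstance) hp0 (hfix p hp)
  have h := hc (T.tau a e)
  rw [aEnd_apply, aEnd_apply, D.good.C_tau, he, one_smul] at h
  exact h.symm

/-- a fixed-point-free bound: the order of a group fixing everything outside `L` and commuting with the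
transvections is prime to `p` -/
theorem unip_trivial (D : SpData T H) {p : ℕ} [Fact p.Prime] [CharP F p] {L : Submodule F A}
    {d₁ d₂ : A} (h1 : T.fA d₁ d₁ ≠ 0) (h2 : T.fA d₂ d₂ ≠ 0) (h12 : T.fA d₁ d₂ = 0)
    (hsplit : ∀ x ∈ L, ∃ r s : F, x = r • d₁ + s • d₂)
    (hd₁ : d₁ ∈ L) (hd₂ : d₂ ∈ L) {M : A →ₗ[F] A} (hiso : ∀ a a', T.fA (M a) (M a') = T.fA a a')
    (hL : ∀ a ∈ L, M a ∈ L) (hM : ∀ a, M^[p] a = a) {a : A} (ha : a ∈ L) : M a = a := by
  have hN : ∀ a, M a = a + (M - LinearMap.id : A →ₗ[F] A) a := fun a => by simp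
  set N : A →ₗ[F] A := M - LinearMap.id with hNdef
  have hNp : ∀ a, (N ^ p : Module.End F A) a = 0 := fun a => by
    haveI := Module.nontrivial_of_finrank_pos (R := F) (M := A) (by have := D.dimA; omega)
    haveI : CharP (Module.End F A) p := charP_of_injective_algebraMap (algebraMap F (Module.End F A)).injective p
    have hMp : (M : Module.End F A) ^ p = 1 := LinearMap.ext fun a => by
      rw [Module.End.pow_apply]; exact hM a
    have : ((M : Module.End F A) - 1) ^ p = 0 := by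
      rw [sub_pow_char_of_commute _ (Commute.one_right _), hMp, one_pow, sub_self]
    exact LinearMap.congr_fun this a
  -- a fixed vector in `L`
  have hNL : ∀ a ∈ L, N a ∈ L := fun a ha => L.sub_mem (hL a ha) ha
  obtain ⟨v, hvL, hv0, hNv⟩ : ∃ v ∈ L, v ≠ 0 ∧ N v = 0 := by
    have hd0 : d₁ ≠ 0 := fun e => h1 (by simp [e])
    have key : ∀ k, (N ^ k : Module.End F A) d₁ = 0 → ∃ v ∈ L, v ≠ 0 ∧ N v = 0 := by
      intro k
      induction k with
      | zero => intro h; exact absurd h hd0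
      | succ k ih =>
        intro h
        by_cases hk : (N ^ k : Module.End F A) d₁ = 0
        · exact ih hk
        · refine ⟨_, ?_, hk, by rwa [pow_succ', Module.End.mul_apply] at h⟩
          clear h hk ih
          induction k with
          | zero => exact hd₁
          | succ k ih => rw [pow_succ', Module.End.mul_apply]; exact hNL _ ih
    exact key p (hNp d₁)
  have hMv : M v = v := by rw [hN, hNv, add_zero]
  obtain ⟨r, s, hrs⟩ := hsplit v hvL
  -- a vector orthogonal to `v`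
  set w := (s * T.fA d₂ d₂) • d₁ - (r * T.fA d₁ d₁) • d₂ with hw
  have h21 : T.fA d₂ d₁ = 0 := D.good.A_flip_zero h12
  have hwv : T.fA w v = 0 := by
    simp only [hw, hrs, map_add, map_sub, map_smul, LinearMap.sub_apply, LinearMap.smul_apply,
      smul_eq_mul, h12, h21, mul_zero, add_zero, zero_add]
    ring
  have hwL : w ∈ L := L.sub_mem (L.smul_mem _ hd₁) (L.smul_mem _ hd₂)
  have hline : ∀ x ∈ L, T.fA x v = 0 → ∃ c : F, x = c • w := by
    intro x hx hxv
    obtain ⟨r', s', rfl⟩ := hsplit x hx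
    simp only [hrs, map_add, map_smul, LinearMap.add_apply, LinearMap.smul_apply, smul_eq_mul, h12, h21,
      mul_zero, add_zero, zero_add] at hxv
    rcases eq_or_ne s 0 with hs | hs
    · subst hs
      have hr : r ≠ 0 := fun e => hv0 (by simp [hrs, e])
      have hr' : r' = 0 := ((mul_eq_zero.1 (show (r' * r) * T.fA d₁ d₁ = 0 by
        linear_combination hxv)).resolve_right h1 |> mul_eq_zero.1).resolve_right hr
      exact ⟨-s' / (r * T.fA d₁ d₁), by
        rw [hw, hr']; simp only [zero_mul, zero_smul, zero_sub, smul_neg, smul_smul]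
        rw [neg_div, neg_mul, div_mul_cancel₀ _ (mul_ne_zero hr h1)]; simp⟩
    · refine ⟨r' / (s * T.fA d₂ d₂), ?_⟩
      rw [hw, smul_sub, smul_smul, smul_smul, div_mul_cancel₀ _ (mul_ne_zero hs h2)]
      have : r' / (s * T.fA d₂ d₂) * (r * T.fA d₁ d₁) = -s' := by
        field_simp
        linear_combination hxv
      rw [this, neg_smul, sub_neg_eq_add]
  -- `N x` is orthogonal to `v`, so a multiple of `w`
  obtain ⟨c, hc⟩ := hline _ (hNL a ha) (by
    rw [hNdef, LinearMap.sub_apply, LinearMap.id_apply, map_sub, LinearMap.sub_apply]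
    conv_lhs => arg 1; rw [← hMv, hiso]
    rw [sub_self])
  obtain ⟨k, hk⟩ := hline _ (hNL w hwL) (by
    rw [hNdef, LinearMap.sub_apply, LinearMap.id_apply, map_sub, LinearMap.sub_apply]
    conv_lhs => arg 1; rw [← hMv, hiso]
    rw [sub_self])
  have hNw : N w = 0 := by
    have h : ∀ j, (N ^ j : Module.End F A) w = k ^ j • w := by
      intro j
      induction j with
      | zero => simp
      | succ j ih => rw [pow_succ', Module.End.mul_apply, ih, map_smul, hk, smul_smul, ← pow_succ]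
    have hp := hNp w
    rw [h p, smul_eq_zero] at hp
    rcases hp with hp | hp
    · rw [hk, pow_eq_zero_iff (Fact.out : p.Prime).ne_zero |>.1 hp, zero_smul]
    · rw [hp, map_zero]
  have hMw : M w = w := by rw [hN, hNw, add_zero]
  -- compare with the fixed vector `w`
  have e1 : T.fA (N a) w = 0 := by
    have h : T.fA (M a) w = T.fA a w := by
      conv_lhs => rw [← hMw]
      exact hiso a w
    rw [show N a = M a - a from rfl, LinearMap.map_sub₂, h, sub_self]
  by_cases hww : T.fA w w = 0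
  · -- then `w` and `v` are proportional and singular
    obtain ⟨cv, hcv⟩ := hline v hvL (by
      have hq : T.fA w w = T.fA d₁ d₁ * T.fA d₂ d₂ * T.fA v v := by
        simp only [hw, hrs, map_add, map_sub, map_smul, LinearMap.add_apply, LinearMap.sub_apply,
          LinearMap.smul_apply, smul_eq_mul, h12, h21, mul_zero, add_zero, zero_add, sub_zero, zero_sub]
        ring
      exact (mul_eq_zero.1 (hq ▸ hww)).resolve_left (mul_ne_zero h1 h2))
    have hq : 2 * T.fA a (N a) + T.fA (N a) (N a) = 0 := by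
      have h := hiso a a
      rw [hN a] at h
      simp only [map_add, LinearMap.add_apply, D.symA a (N a)] at h
      linear_combination h
    rw [hc] at hq
    simp only [map_smul, LinearMap.smul_apply, smul_eq_mul, hww, mul_zero, add_zero] at hq
    rcases mul_eq_zero.1 hq with h | h
    · exact absurd h D.two
    rcases mul_eq_zero.1 h with h | h
    · rw [hN a, hc, h, zero_smul, add_zero]
    · -- `a` is orthogonal to `v`, hence a multiple of `w`
      obtain ⟨c', hc'⟩ := hline a ha (by rw [hcv, map_smul, smul_eq_mul, h, mul_zero])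
      rw [hc', map_smul, hMw]
  · rw [hc, map_smul, LinearMap.smul_apply, smul_eq_mul] at e1
    rw [hN a, hc, (mul_eq_zero.1 e1).resolve_right hww, zero_smul, add_zero]


/-- the conjugate of the quadratic map -/
noncomputable def conjA (T : Sys F A B V (RingHom.id F)) (y : B) (g : V ≃ₗ[F] V) : Module.End F V :=
  (g : V →ₗ[F] V) * aEnd T y * ((g⁻¹ : V ≃ₗ[F] V) : V →ₗ[F] V)

theorem conjA_apply (y : B) (g : V ≃ₗ[F] V) (v : V) : conjA T y g v = g (aEnd T y (g⁻¹ v)) := rfl

/-- the anticommutator of the two quadratic maps -/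
noncomputable def cQ (T : Sys F A B V (RingHom.id F)) (y : B) (g : V ≃ₗ[F] V) : Module.End F V :=
  aEnd T y * conjA T y g + conjA T y g * aEnd T y

theorem cQ_apply (y : B) (g : V ≃ₗ[F] V) (v : V) :
    cQ T y g v = aEnd T y (conjA T y g v) + conjA T y g (aEnd T y v) := rfl

theorem aEnd_sqx (D : SpData T H) (y : B) (v : V) : aEnd T y (aEnd T y v) = 0 :=
  LinearMap.congr_fun (D.aEnd_sq y) v

theorem conjA_sqx (D : SpData T H) (y : B) (g : V ≃ₗ[F] V) (v : V) :
    conjA T y g (conjA T y g v) = 0 := by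
  rw [conjA_apply, conjA_apply, inv_ap', D.aEnd_sqx, map_zero]

theorem sqPair (D : SpData T H) (y : B) (g : V ≃ₗ[F] V) : SqPair (aEnd T y) (conjA T y g) :=
  ⟨D.aEnd_sq y, LinearMap.ext (D.conjA_sqx y g)⟩

theorem cQ_a (D : SpData T H) (y : B) (g : V ≃ₗ[F] V) (v : V) :
    cQ T y g (aEnd T y v) = aEnd T y (cQ T y g v) :=
  LinearMap.congr_fun (D.sqPair y g).cen_C.1 v

theorem cQ_b (D : SpData T H) (y : B) (g : V ≃ₗ[F] V) (v : V) :
    cQ T y g (conjA T y g v) = conjA T y g (cQ T y g v) :=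
  LinearMap.congr_fun (D.sqPair y g).cen_C.2 v

theorem aEnd_tau (D : SpData T H) (y : B) (p : A) (c : B) :
    aEnd T y (T.tau p c) = T.tau p (T.fB c y • y) := by
  rw [aEnd_apply, D.good.C_tau, map_smul, LinearMap.smul_apply, map_smul]

theorem conjA_perp (D : SpData T H) {L : Submodule F A} (y : B) {g : V ≃ₗ[F] V} (hgfix : FixOff T L g)
    {p : A} (hp : p ∈ perpS T L) (c : B) : conjA T y g (T.tau p c) = aEnd T y (T.tau p c) := by
  rw [conjA_apply, (D.fixOff_inv hgfix) p hp c, D.aEnd_tau, hgfix p hp]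

/-- an orthogonal basis of a plane -/
theorem basis_two (D : SpData T H) {L : Submodule F A} (hL : NDeg T L) (d2 : finrank F L = 2) :
    ∃ d₁ d₂ : A, d₁ ∈ L ∧ d₂ ∈ L ∧ T.fA d₁ d₁ ≠ 0 ∧ T.fA d₂ d₂ ≠ 0 ∧ T.fA d₁ d₂ = 0 ∧
      ∀ x ∈ L, ∃ r s : F, x = r • d₁ + s • d₂ := by
  obtain ⟨d₁, hd₁L, hd₁⟩ := D.exists_aniso hL (by omega)
  obtain ⟨d₂, hd₂m, hd₂⟩ := D.exists_aniso (D.ndeg_cut hL hd₁L hd₁) (by
    have := D.finrank_cut_line hd₁L hd₁; omega)
  have h21 : T.fA d₂ d₁ = 0 := mem_perpS_line.1 hd₂m.2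
  have h12 : T.fA d₁ d₂ = 0 := D.good.A_flip_zero h21
  have hd₂L : d₂ ∈ L := hd₂m.1
  have hd₂0 : d₂ ≠ 0 := fun e => hd₂ (by simp [e])
  have hsplit : ∀ x ∈ L, ∃ r s : F, x = r • d₁ + s • d₂ := by
    intro x hx
    have heq : Submodule.span F {d₂} = L ⊓ perpS T (Submodule.span F {d₁}) := by
      refine Submodule.eq_of_le_of_finrank_le ((Submodule.span_singleton_le_iff_mem _ _).2 hd₂m) ?_
      have := D.finrank_cut_line hd₁L hd₁
      rw [finrank_span_singleton hd₂0]; omega
    have hm : x - (T.fA x d₁ / T.fA d₁ d₁) • d₁ ∈ Submodule.span F {d₂} := by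
      rw [heq]
      exact ⟨L.sub_mem hx (L.smul_mem _ hd₁L), mem_perpS_line.2 (by simp [hd₁])⟩
    obtain ⟨s, hs⟩ := Submodule.mem_span_singleton.1 hm
    exact ⟨_, s, by rw [hs, add_sub_cancel]⟩
  exact ⟨d₁, d₂, hd₁L, hd₂L, hd₁, hd₂, h12, hsplit⟩

theorem exists_off (D : SpData T H) (h5 : 5 ≤ finrank F A) {L : Submodule F A} (hL : NDeg T L)
    (d2 : finrank F L = 2) : ∃ r ∈ perpS T L, r ≠ 0 ∧ T.fA r r = 0 := by
  have hP := D.ndeg_perp hL
  have hPdim : 3 ≤ finrank F (perpS T L) := by have := D.finrank_perpS hL; omega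
  obtain ⟨r₀, hr₀, u₀, hu₀, hr₀0, hr₀r, -, -⟩ := D.hyp_in hP hPdim
  exact ⟨r₀, hr₀, hr₀0, hr₀r⟩

/-- the elements trivial outside `L` commuting with the anticommutator -/
def centC (D : SpData T H) (L : Submodule F A) (y : B) (g : V ≃ₗ[F] V) : Subgroup (V ≃ₗ[F] V) where
  carrier := {x | x ∈ D.offSub L ∧ ∀ v, x (cQ T y g v) = cQ T y g (x v)}
  one_mem' := ⟨one_mem _, fun v => rfl⟩
  mul_mem' {x x'} hx hx' := ⟨mul_mem hx.1 hx'.1, fun v => by
    rw [LinearEquiv.mul_apply, LinearEquiv.mul_apply, hx'.2, hx.2]⟩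
  inv_mem' {x} hx := ⟨inv_mem hx.1, fun v => x.injective (by rw [hx.2, ap_inv, ap_inv])⟩

/-- the transvections along `y`, indexed by scalars -/
structure TvFam (T : Sys F A B V (RingHom.id F)) (H : Subgroup (V ≃ₗ[F] V)) (y : B) (t : F → V ≃ₗ[F] V) :
    Prop where
  mem : ∀ c, t c ∈ H
  app : ∀ c v, t c v = v + c • aEnd T y v

theorem exists_tvFam (D : SpData T H) (y : B) : ∃ t, TvFam T H y t := by
  choose t ht htx using D.tvB y
  exact ⟨t, ⟨ht, htx⟩⟩

section Fam

variable {y : B} {t : F → V ≃ₗ[F] V}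

theorem tv_add (D : SpData T H) (ht : TvFam T H y t) (c c' : F) : t c * t c' = t (c + c') :=
  LinearEquiv.ext fun v => by
    rw [LinearEquiv.mul_apply, ht.app, ht.app, ht.app, map_add, map_smul, D.aEnd_sqx]; module

theorem tv_zero (D : SpData T H) (ht : TvFam T H y t) : t 0 = 1 :=
  LinearEquiv.ext fun v => by simp [ht.app]

theorem tv_inv (D : SpData T H) (ht : TvFam T H y t) (c : F) : (t c)⁻¹ = t (-c) :=
  inv_eq_of_mul_eq_one_right (by rw [D.tv_add ht, add_neg_cancel, D.tv_zero ht])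

theorem tv_pow (D : SpData T H) (ht : TvFam T H y t) (c : F) (j : ℕ) : t c ^ j = t (j * c) := by
  induction j with
  | zero => simp [D.tv_zero ht]
  | succ j ih => rw [pow_succ, ih, D.tv_add ht]; congr 1; push_cast; ring

theorem tv_of_mem (D : SpData T H) (ht : TvFam T H y t) {x : V ≃ₗ[F] V} (hx : x ∈ D.tvSub y) :
    ∃ c, x = t c := by
  obtain ⟨-, c, hc⟩ := hx
  exact ⟨c, LinearEquiv.ext fun v => by rw [hc, ht.app]⟩

theorem tv_comm_cQ (D : SpData T H) (ht : TvFam T H y t) (g : V ≃ₗ[F] V) (c : F) (v : V) :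
    t c (cQ T y g v) = cQ T y g (t c v) := by
  rw [ht.app, ht.app, map_add, map_smul, D.cQ_a]

theorem tv_norm (D : SpData T H) (ht : TvFam T H y t) {L : Submodule F A} {g : V ≃ₗ[F] V} (c : F)
    {x : V ≃ₗ[F] V} (hx : x ∈ D.centC L y g) : t c * x * (t c)⁻¹ ∈ D.centC L y g := by
  refine ⟨⟨mul_mem (mul_mem (ht.mem c) hx.1.1) (inv_mem (ht.mem c)), fun p hp b' => ?_⟩, fun v => ?_⟩
  · rw [D.tv_inv ht, LinearEquiv.mul_apply, LinearEquiv.mul_apply, ht.app (-c), D.aEnd_tau, ← map_smul,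
      ← map_add, hx.1.2 p hp, ht.app, D.aEnd_tau]
    simp [D.altB, smul_smul]
  · rw [D.tv_inv ht, LinearEquiv.mul_apply, LinearEquiv.mul_apply, D.tv_comm_cQ ht g (-c), hx.2,
      D.tv_comm_cQ ht]
    rfl

theorem tv_disj (D : SpData T H) (ht : TvFam T H y t) {L : Submodule F A} {g : V ≃ₗ[F] V} (hy : y ≠ 0)
    {p : A} (hp : p ∈ perpS T L) (hp0 : p ≠ 0) {c : F} (hc : t c ∈ D.centC L y g) : c = 0 := by
  obtain ⟨e, he, -⟩ := D.good.exists_partner hy
  have h := hc.1.2 p hp e
  rw [ht.app, D.aEnd_tau, he, one_smul, add_eq_left, smul_eq_zero] at h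
  exact h.resolve_right fun h' => hy (D.good.tau_right_inj hp0 (h'.trans (map_zero _).symm))

theorem tv_conj_app (D : SpData T H) (ht : TvFam T H y t) (g : V ≃ₗ[F] V) (d : F) (v : V) :
    (g * t d * g⁻¹) v = v + d • conjA T y g v := by
  show g (t d (g⁻¹ v)) = _
  rw [ht.app, map_add, map_smul, ap_inv]
  rfl

theorem tv_conj_mem (D : SpData T H) (ht : TvFam T H y t) {L : Submodule F A} {g : V ≃ₗ[F] V}
    (hg : g ∈ H) (hgfix : FixOff T L g) (c d : F) :
    t c * (g * t d * g⁻¹) * t (-(c + d)) ∈ D.centC L y g := by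
  refine ⟨⟨mul_mem (mul_mem (ht.mem c) (mul_mem (mul_mem hg (ht.mem d)) (inv_mem hg))) (ht.mem _),
    fun p hp b' => ?_⟩, fun v => ?_⟩
  · rw [LinearEquiv.mul_apply, LinearEquiv.mul_apply, ht.app (-(c + d)), D.tv_conj_app ht, ht.app]
    simp only [map_add, map_smul, D.aEnd_tau, D.conjA_perp y hgfix hp, D.altB, zero_smul, smul_zero,
      add_zero, map_zero, LinearMap.smul_apply]
    module
  · rw [LinearEquiv.mul_apply, LinearEquiv.mul_apply, D.tv_comm_cQ ht g (-(c + d))]
    show t c ((g * t d * g⁻¹) (cQ T y g _)) = cQ T y g (t c ((g * t d * g⁻¹) _))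
    rw [D.tv_conj_app ht, D.tv_conj_app ht, ← D.cQ_b, ← map_smul (cQ T y g), ← map_add (cQ T y g),
      D.tv_comm_cQ ht]
    rfl

end Fam

set_option maxHeartbeats 1000000 in
/-- the group commuting with the anticommutator has order prime to the characteristic -/
theorem centC_card (D : SpData T H) (hno : NoTvSp T H) (hB : finrank F B = 2) (h5 : 5 ≤ finrank F A)
    {pc : ℕ} [Fact pc.Prime] [CharP F pc] {L : Submodule F A} (hL : NDeg T L) (d2 : finrank F L = 2)
    {g : V ≃ₗ[F] V} (hg : g ∈ H) (hgfix : FixOff T L g) {y : B} (hy : y ≠ 0) :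
    ¬ pc ∣ Nat.card (D.centC L y g) := by
  classical
  haveI : Finite V := Module.finite_of_finite F
  haveI : Finite (V ≃ₗ[F] V) := Finite.of_injective _ DFunLike.coe_injective
  haveI := Module.nontrivial_of_finrank_pos (R := F) (M := A) (by omega)
  have hT := D.good
  obtain ⟨d₁, d₂, hd₁L, hd₂L, hd₁, hd₂, h12, hsplit⟩ := D.basis_two hL d2
  have h21 : T.fA d₂ d₁ = 0 := hT.A_flip_zero h12
  obtain ⟨r₀, hr₀, hr₀0, hr₀r⟩ := D.exists_off h5 hL d2
  obtain ⟨e, he, he'⟩ := hT.exists_partner hy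
  set a := aEnd T y with hadef
  set b := conjA T y g with hbdef
  have hbx : ∀ v, b v = g (a (g⁻¹ v)) := fun v => rfl
  have ha2x : ∀ v, a (a v) = 0 := D.aEnd_sqx y
  have hb2x : ∀ v, b (b v) = 0 := D.conjA_sqx y g
  have P : SqPair a b := D.sqPair y g
  set C := cQ T y g with hCdef
  have hCx : ∀ v, C v = a (b v) + b (a v) := fun v => rfl
  have hCa : ∀ v, C (a v) = a (C v) := D.cQ_a y g
  have hCb : ∀ v, C (b v) = b (C v) := D.cQ_b y g
  set NC := D.centC L y g with hNC
  obtain ⟨t, htf⟩ := D.exists_tvFam y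
  have htx : ∀ c v, t c v = v + c • a v := htf.app
  have htH : ∀ c, t c ∈ H := htf.mem
  have ht : ∀ c, t c ∈ D.tvSub y := fun c => ⟨htH c, c, htx c⟩
  have htadd : ∀ c c', t c * t c' = t (c + c') := D.tv_add htf
  have ht0 : t 0 = 1 := D.tv_zero htf
  have htinv : ∀ c, (t c)⁻¹ = t (-c) := D.tv_inv htf
  have htmem : ∀ x ∈ D.tvSub y, ∃ c, x = t c := fun x => D.tv_of_mem htf
  have htnorm : ∀ c, ∀ x ∈ NC, t c * x * (t c)⁻¹ ∈ NC := fun c x => D.tv_norm htf c
  have htC : ∀ c v, t c (C v) = C (t c v) := D.tv_comm_cQ htf g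
  have hdisj : ∀ c, t c ∈ NC → c = 0 := fun c => D.tv_disj htf hy hr₀ hr₀0
  have hu : ∀ d : F, ∀ v, (g * t d * g⁻¹) v = v + d • b v := D.tv_conj_app htf g
  have hprod : ∀ c d : F, t c * (g * t d * g⁻¹) * t (-(c + d)) ∈ NC := D.tv_conj_mem htf hg hgfix
  haveI : CharP F pc := inferInstance
  intro hdvd
  let Xg := Subgroup.zpowers (t 1)
  have hXp : IsPGroup pc Xg := fun x => ⟨1, Subtype.ext (LinearEquiv.ext fun v => by
    obtain ⟨i, hi⟩ := Subgroup.mem_zpowers_iff.1 x.2
    obtain ⟨c, hc⟩ := htmem _ (show (x : V ≃ₗ[F] V) ∈ D.tvSub y from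
      hi ▸ Subgroup.zpow_mem _ (ht 1) i)
    have hpow : ∀ j : ℕ, t c ^ j = t (j * c) := by
      intro j
      induction j with
      | zero => simp [ht0]
      | succ j ih => rw [pow_succ, ih, htadd]; congr 1; push_cast; ring
    rw [pow_one, SubmonoidClass.coe_pow, hc, hpow, CharP.cast_eq_zero, zero_mul, ht0]; rfl)⟩
  have hact : ∀ x : Xg, ∀ n ∈ NC, (x : V ≃ₗ[F] V) * n * (x : V ≃ₗ[F] V)⁻¹ ∈ NC := fun x n hn => by
    obtain ⟨i, hi⟩ := Subgroup.mem_zpowers_iff.1 x.2
    obtain ⟨c, hc⟩ := htmem _ (show (x : V ≃ₗ[F] V) ∈ D.tvSub y from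
      hi ▸ Subgroup.zpow_mem _ (ht 1) i)
    rw [hc]; exact htnorm c n hn
  letI : MulAction Xg NC :=
    { smul := fun x n => ⟨(x : V ≃ₗ[F] V) * n * (x : V ≃ₗ[F] V)⁻¹, hact x n n.2⟩
      one_smul := fun n => Subtype.ext (by show ((1 : Xg) : V ≃ₗ[F] V) * n * _ = n; simp)
      mul_smul := fun x x' n => Subtype.ext (by
        show ((x * x' : Xg) : V ≃ₗ[F] V) * n * _ = (x : V ≃ₗ[F] V) * (_ * _ * _) * _
        rw [Subgroup.coe_mul]; group) }
  have hfix := (hXp.card_modEq_card_fixedPoints NC)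
  let Cc := NC ⊓ Subgroup.centralizer {t 1}
  have hbij : Nat.card (MulAction.fixedPoints Xg NC) = Nat.card Cc := by
    refine Nat.card_congr
      { toFun := fun n => ⟨n.1, n.1.2, ?_⟩
        invFun := fun n => ⟨⟨n.1, n.2.1⟩, fun x => Subtype.ext ?_⟩
        left_inv := fun n => rfl
        right_inv := fun n => rfl }
    · refine Subgroup.mem_centralizer_singleton_iff.2 ?_
      have h := congrArg Subtype.val (n.2 ⟨t 1, Subgroup.mem_zpowers _⟩)
      exact (mul_inv_eq_iff_eq_mul.1 h).symm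
    · show (x : V ≃ₗ[F] V) * n * (x : V ≃ₗ[F] V)⁻¹ = n
      rw [mul_inv_eq_iff_eq_mul]
      obtain ⟨i, hi⟩ := Subgroup.mem_zpowers_iff.1 x.2
      rw [← hi]
      exact Commute.zpow_left (show Commute (t 1) n.1 from (Subgroup.mem_centralizer_singleton_iff.1 n.2.2).symm) i
  have hdvd' : pc ∣ Nat.card Cc := by
    rw [← hbij]; exact Nat.modEq_zero_iff_dvd.1 (hfix.symm.trans hdvd.modEq_zero_nat)
  obtain ⟨x, hx⟩ := exists_prime_orderOf_dvd_card' (G := Cc) pc hdvd'
  have hxp : (x : V ≃ₗ[F] V) ^ pc = 1 := by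
    rw [← SubmonoidClass.coe_pow, ← hx, pow_orderOf_eq_one]; rfl
  have hxc : ∀ v, x.1 (a v) = a (x.1 v) := fun v => by
    have h := LinearEquiv.congr_fun (Subgroup.mem_centralizer_singleton_iff.1 x.2.2) v
    rw [LinearEquiv.mul_apply, LinearEquiv.mul_apply, htx, htx, one_smul, one_smul, map_add,
      add_right_inj] at h
    exact h
  obtain ⟨M, hM, hMiso⟩ := D.pure_of_comm hno hy hr₀ hr₀0 x.2.1.1.1 x.2.1.1.2 hxc
  have hMp : ∀ a, M^[pc] a = a := fun a' => hT.tau_left_inj hy (by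
    show T.tau (M^[pc] a') y = T.tau a' y
    have key : ∀ j : ℕ, (x.1 ^ j) (T.tau a' y) = T.tau (M^[j] a') y := by
      intro j
      induction j with
      | zero => simp
      | succ j ih => rw [pow_succ', LinearEquiv.mul_apply, ih, hM, Function.iterate_succ_apply']
    rw [← key, hxp]; rfl)
  have hML : ∀ l ∈ L, M l ∈ L := fun l hl => by
    have h := D.fixOff_mem hL x.2.1.1.1 x.2.1.1.2 hl e y
    rwa [hM, hT.C_tau, he, one_smul] at h
  have hx1 : x = 1 := Subtype.ext (LinearEquiv.ext fun v => LinearMap.congr_fun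
    (hT.ext_tau (f := ((x.1 : V ≃ₗ[F] V) : V →ₗ[F] V)) (g := LinearMap.id) fun a' b' => by
      show x.1 (T.tau a' b') = T.tau a' b'
      obtain ⟨l, hl, hp⟩ := D.split hL a'
      have hMp' : M (a' - l) = a' - l := hT.tau_left_inj hy (by
        show T.tau (M (a' - l)) y = T.tau (a' - l) y
        rw [← hM, x.2.1.1.2 _ hp])
      have hMa : M a' = a' := by
        conv_lhs => rw [← add_sub_cancel l a', map_add,
          D.unip_trivial hd₁ hd₂ h12 hsplit hd₁L hd₂L hMiso hML hMp hl, hMp', add_sub_cancel]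
      rw [hM, hMa]) v)
  rw [hx1, orderOf_one] at hx
  exact (Fact.out : pc.Prime).one_lt.ne hx

set_option maxHeartbeats 2000000 in
/-- the quadratic identity -/
theorem quad_key (D : SpData T H) (hno : NoTvSp T H) (hB : finrank F B = 2) (h5 : 5 ≤ finrank F A)
    {pc : ℕ} [Fact pc.Prime] [CharP F pc] {L : Submodule F A} (hL : NDeg T L) (d2 : finrank F L = 2)
    {g : V ≃ₗ[F] V} (hg : g ∈ H) (hgfix : FixOff T L g) {y : B} (hy : y ≠ 0) {c d : F} (hc : c ≠ 0) (hd : d ≠ 0) (hcd : c + d ≠ 0) :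
    cQ T y g * cQ T y g = 0 ∨ cQ T y g + cQ T y g + cQ T y g + cQ T y g +
      (c * d) • (cQ T y g * cQ T y g) = 0 := by
  classical
  haveI : Finite V := Module.finite_of_finite F
  haveI : Finite (V ≃ₗ[F] V) := Finite.of_injective _ DFunLike.coe_injective
  haveI := Module.nontrivial_of_finrank_pos (R := F) (M := A) (by omega)
  have hT := D.good
  obtain ⟨d₁, d₂, hd₁L, hd₂L, hd₁, hd₂, h12, hsplit⟩ := D.basis_two hL d2
  have h21 : T.fA d₂ d₁ = 0 := hT.A_flip_zero h12
  obtain ⟨r₀, hr₀, hr₀0, hr₀r⟩ := D.exists_off h5 hL d2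
  obtain ⟨e, he, he'⟩ := hT.exists_partner hy
  set a := aEnd T y with hadef
  set b := conjA T y g with hbdef
  have hbx : ∀ v, b v = g (a (g⁻¹ v)) := fun v => rfl
  have ha2x : ∀ v, a (a v) = 0 := D.aEnd_sqx y
  have hb2x : ∀ v, b (b v) = 0 := D.conjA_sqx y g
  have P : SqPair a b := D.sqPair y g
  set C := cQ T y g with hCdef
  have hCx : ∀ v, C v = a (b v) + b (a v) := fun v => rfl
  have hCa : ∀ v, C (a v) = a (C v) := D.cQ_a y g
  have hCb : ∀ v, C (b v) = b (C v) := D.cQ_b y g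
  set NC := D.centC L y g with hNC
  obtain ⟨t, htf⟩ := D.exists_tvFam y
  have htx : ∀ c v, t c v = v + c • a v := htf.app
  have htH : ∀ c, t c ∈ H := htf.mem
  have ht : ∀ c, t c ∈ D.tvSub y := fun c => ⟨htH c, c, htx c⟩
  have htadd : ∀ c c', t c * t c' = t (c + c') := D.tv_add htf
  have ht0 : t 0 = 1 := D.tv_zero htf
  have htinv : ∀ c, (t c)⁻¹ = t (-c) := D.tv_inv htf
  have htmem : ∀ x ∈ D.tvSub y, ∃ c, x = t c := fun x => D.tv_of_mem htf
  have htnorm : ∀ c, ∀ x ∈ NC, t c * x * (t c)⁻¹ ∈ NC := fun c x => D.tv_norm htf c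
  have htC : ∀ c v, t c (C v) = C (t c v) := D.tv_comm_cQ htf g
  have hdisj : ∀ c, t c ∈ NC → c = 0 := fun c => D.tv_disj htf hy hr₀ hr₀0
  have hu : ∀ d : F, ∀ v, (g * t d * g⁻¹) v = v + d • b v := D.tv_conj_app htf g
  have hprod : ∀ c d : F, t c * (g * t d * g⁻¹) * t (-(c + d)) ∈ NC := D.tv_conj_mem htf hg hgfix
  have hord : ¬ pc ∣ Nat.card NC := D.centC_card hno hB h5 hL d2 hg hgfix hy
  -- the group `NC · T` and its Sylow subgroup
  let E : Subgroup (V ≃ₗ[F] V) :=
    { carrier := {x | ∃ n ∈ NC, ∃ c, x = n * t c}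
      one_mem' := ⟨1, one_mem _, 0, by rw [ht0, mul_one]⟩
      mul_mem' := by
        rintro _ _ ⟨n, hn, c, rfl⟩ ⟨n', hn', c', rfl⟩
        refine ⟨n * (t c * n' * (t c)⁻¹), mul_mem hn (htnorm c n' hn'), c + c', ?_⟩
        rw [← htadd]; group
      inv_mem' := by
        rintro _ ⟨n, hn, c, rfl⟩
        refine ⟨t (-c) * n⁻¹ * (t (-c))⁻¹, htnorm _ _ (inv_mem hn), -c, ?_⟩
        rw [← htinv]; group }
  let ST : Sylow pc E :=
    { toSubgroup := (D.tvSub y).subgroupOf E
      isPGroup' := fun x => ⟨1, Subtype.ext (Subtype.ext (LinearEquiv.ext fun v => by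
        obtain ⟨c, hc⟩ := htmem _ x.2
        have hpow : ∀ j : ℕ, t c ^ j = t (j * c) := by
          intro j
          induction j with
          | zero => simp [ht0]
          | succ j ih => rw [pow_succ, ih, htadd]; congr 1; push_cast; ring
        rw [pow_one]
        show ((x.1 : V ≃ₗ[F] V) ^ pc) v = v
        rw [show (x.1 : V ≃ₗ[F] V) = t c from hc, hpow, CharP.cast_eq_zero, zero_mul, ht0]; rfl))⟩
      is_maximal' := fun {Q} hQ hle => le_antisymm (fun x hx => by
        obtain ⟨n, hn, c, hxc⟩ := x.2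
        have htE : t c ∈ E := ⟨1, one_mem _, c, by rw [one_mul]⟩
        have hnQ : (x * (⟨t c, htE⟩ : E)⁻¹) ∈ Q := mul_mem hx (inv_mem (hle (ht c)))
        obtain ⟨i, hi⟩ := hQ ⟨_, hnQ⟩
        have hn' : n ^ pc ^ i = 1 := by
          have h := congrArg (fun z : Q => ((z : E) : V ≃ₗ[F] V)) hi
          simpa [hxc] using h
        have hn1 : n = 1 := by
          have h1 : orderOf (⟨n, hn⟩ : NC) ∣ pc ^ i := orderOf_dvd_of_pow_eq_one (Subtype.ext hn')
          obtain ⟨j, -, hj⟩ := (Nat.dvd_prime_pow (Fact.out : pc.Prime)).1 h1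
          rcases Nat.eq_zero_or_pos j with rfl | hj0
          · rw [pow_zero, orderOf_eq_one_iff] at hj
            exact congrArg Subtype.val hj
          · refine absurd ?_ hord
            exact dvd_trans (dvd_trans (dvd_pow_self pc hj0.ne') hj.symm.dvd) (orderOf_dvd_natCard _)
        show (x : V ≃ₗ[F] V) ∈ D.tvSub y
        rw [hxc, hn1, one_mul]; exact ht c) hle }
  -- an element of `NC` commuting with a transvection
  have hpure : ∀ x : V ≃ₗ[F] V, x ∈ NC → ∀ c : F, c ≠ 0 → Commute x (t c) →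
      ∃ M : A →ₗ[F] A, (∀ a b, x (T.tau a b) = T.tau (M a) b) ∧
        ∀ a a', T.fA (M a) (M a') = T.fA a a' := by
    intro x hx c hc0 hcomm
    refine D.pure_of_comm hno hy hr₀ hr₀0 hx.1.1 hx.1.2 fun v => ?_
    have h := LinearEquiv.congr_fun hcomm.eq v
    rw [LinearEquiv.mul_apply, LinearEquiv.mul_apply, htx, htx, map_add, map_smul, add_right_inj] at h
    exact smul_right_injective V hc0 h
  -- the projection to `L`
  let PL : A →ₗ[F] A := (T.fA d₁ d₁)⁻¹ • (T.fA.flip d₁).smulRight d₁ +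
    (T.fA d₂ d₂)⁻¹ • (T.fA.flip d₂).smulRight d₂
  have hPL : ∀ x, PL x = (T.fA x d₁ / T.fA d₁ d₁) • d₁ + (T.fA x d₂ / T.fA d₂ d₂) • d₂ := fun x => by
    show (T.fA d₁ d₁)⁻¹ • (T.fA x d₁ • d₁) + (T.fA d₂ d₂)⁻¹ • (T.fA x d₂ • d₂) = _
    simp only [smul_smul, div_eq_inv_mul]
  have hPL1 : ∀ l ∈ L, PL l = l := by
    intro l hl
    obtain ⟨r, s, rfl⟩ := hsplit l hl
    simp [hPL, h12, h21, hd₁, hd₂]
  have hPL0 : ∀ p ∈ perpS T L, PL p = 0 := fun p hp => by simp [hPL, hp d₁ hd₁L, hp d₂ hd₂L]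
  set x := t c * (g * t d * g⁻¹) with hxdef
  have hxN := hprod c d
  have hxE : x ∈ E := ⟨_, hxN, c + d, by rw [mul_assoc (x), htadd, neg_add_cancel, ht0, mul_one]⟩
  have hxpow : ∀ i : ℕ, x ^ i * t (-((i : F) * (c + d))) ∈ NC := by
    intro i
    induction i with
    | zero => simp [ht0]
    | succ i ih =>
      have h := mul_mem ih (htnorm ((i : F) * (c + d)) _ hxN)
      convert h using 1
      rw [htinv, pow_succ, Nat.cast_succ, show -(((i : F) + 1) * (c + d)) =
        -(c + d) + -((i : F) * (c + d)) by ring, ← htadd]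
      have hc' : t (-((i : F) * (c + d))) * t ((i : F) * (c + d)) = 1 := by
        rw [htadd, neg_add_cancel, ht0]
      calc x ^ i * x * (t (-(c + d)) * t (-((i : F) * (c + d))))
          = x ^ i * (t (-((i : F) * (c + d))) * t ((i : F) * (c + d))) * (x * t (-(c + d))) *
            t (-((i : F) * (c + d))) := by rw [hc']; group
        _ = _ := by rw [hxdef]; group
  obtain ⟨s, r, hr, hm⟩ := Nat.exists_eq_pow_mul_and_not_dvd (orderOf_pos x).ne' pc
    (Fact.out : pc.Prime).ne_one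
  have hrF : (r : F) * (c + d) ≠ 0 := mul_ne_zero (fun h => hr ((CharP.cast_eq_zero_iff F pc r).1 h)) hcd
  let P' : E := ⟨x, hxE⟩ ^ r
  have hP'p : IsPGroup pc (Subgroup.zpowers P') := fun z => by
    refine ⟨s, ?_⟩
    obtain ⟨i, hi⟩ := Subgroup.mem_zpowers_iff.1 z.2
    apply Subtype.ext
    rw [SubmonoidClass.coe_pow, ← hi, ← zpow_natCast, ← zpow_mul, mul_comm, zpow_mul, zpow_natCast]
    have : P' ^ (pc ^ s) = 1 := Subtype.ext (by
      show (x ^ r) ^ (pc ^ s) = 1
      rw [← pow_mul, mul_comm, ← hm, pow_orderOf_eq_one])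
    rw [this, one_zpow]; rfl
  obtain ⟨R, hR⟩ := hP'p.exists_le_sylow
  obtain ⟨k, hk⟩ := MulAction.exists_smul_eq E R ST
  have hkP : (k * P' * k⁻¹ : E) ∈ (ST : Subgroup E) := by
    rw [← hk, Sylow.coe_subgroup_smul]
    exact ⟨P', hR (Subgroup.mem_zpowers P'), rfl⟩
  obtain ⟨c₁, hc₁⟩ := htmem _ hkP
  obtain ⟨n, hn, c₀, hk0⟩ := (inv_mem k.2 : (k : V ≃ₗ[F] V)⁻¹ ∈ E)
  have hnP : n⁻¹ * x ^ r * n = t c₁ := by
    have h : (k : V ≃ₗ[F] V) * x ^ r * (k : V ≃ₗ[F] V)⁻¹ = t c₁ := hc₁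
    have hk' : (k : V ≃ₗ[F] V) = (n * t c₀)⁻¹ := by rw [← hk0, inv_inv]
    have hc' : t c₀ * t c₁ * (t c₀)⁻¹ = t c₁ := by rw [htinv, htadd, htadd]; congr 1; ring
    rw [hk', inv_inv, mul_inv_rev] at h
    calc n⁻¹ * x ^ r * n = t c₀ * ((t c₀)⁻¹ * n⁻¹ * x ^ r * (n * t c₀)) * (t c₀)⁻¹ := by group
      _ = _ := by rw [h, hc']
  have hc₁0 : c₁ ≠ 0 := by
    rintro rfl
    rw [ht0] at hnP
    have h1 : x ^ r = 1 := by
      calc x ^ r = n * (n⁻¹ * x ^ r * n) * n⁻¹ := by group
        _ = 1 := by rw [hnP]; group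
    have h2 := hxpow r
    rw [h1, one_mul] at h2
    exact neg_ne_zero.2 hrF (hdisj _ h2)
  set e₀ := c + d with he₀
  set m := n⁻¹ * x * n * t (-e₀) with hmdef
  have hmN : m ∈ NC := by
    have h := mul_mem (mul_mem (inv_mem hn) hxN) (htnorm e₀ n hn)
    convert h using 1
    rw [hmdef, htinv]
    have hc' : t (-e₀) * t e₀ = 1 := by rw [htadd, neg_add_cancel, ht0]
    calc n⁻¹ * x * n * t (-e₀) = n⁻¹ * x * (t (-e₀) * t e₀) * n * t (-e₀) := by rw [hc']; group
      _ = _ := by rw [hxdef]; group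
  have hcomm : Commute m (t c₁) := by
    refine Commute.mul_left ?_ (show t (-e₀) * t c₁ = t c₁ * t (-e₀) by rw [htadd, htadd, add_comm])
    rw [← hnP]
    show n⁻¹ * x * n * (n⁻¹ * x ^ r * n) = n⁻¹ * x ^ r * n * (n⁻¹ * x * n)
    calc n⁻¹ * x * n * (n⁻¹ * x ^ r * n) = n⁻¹ * (x * x ^ r) * n := by group
      _ = n⁻¹ * (x ^ r * x) * n := by rw [← pow_succ', pow_succ]
      _ = _ := by group
  obtain ⟨M, hM, hMiso⟩ := hpure m hmN c₁ hc₁0 hcomm
  obtain ⟨M', hM', -⟩ := hpure m⁻¹ (inv_mem hmN) c₁ hc₁0 hcomm.inv_left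
  have hMM : ∀ a', M' (M a') = a' := fun a' => hT.tau_left_inj hy (by
    show T.tau (M' (M a')) y = T.tau a' y
    rw [← hM', ← hM, inv_ap'])
  have hML : ∀ l ∈ L, M l ∈ L := fun l hl => by
    have h := D.fixOff_mem hL hmN.1.1 hmN.1.2 hl e y
    rwa [hM, hT.C_tau, he, one_smul] at h
  have hMp : ∀ p ∈ perpS T L, M p = p := fun p hp => hT.tau_left_inj hy (by
    show T.tau (M p) y = T.tau p y
    rw [← hM, hmN.1.2 p hp])
  have hM'p : ∀ p ∈ perpS T L, M' p = p := fun p hp => by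
    conv_lhs => rw [← hMp p hp]
    rw [hMM]
  have hma : ∀ v, m (a v) = a (m v) := fun v => LinearMap.congr_fun
    (hT.ext_tau (f := (m : V →ₗ[F] V) ∘ₗ a) (g := a ∘ₗ (m : V →ₗ[F] V)) fun a' b' => by
      show m (a (T.tau a' b')) = a (m (T.tau a' b'))
      simp only [hadef, aEnd_apply, hM, hT.C_tau, map_smul, LinearMap.smul_apply]) v
  -- the trace identity
  have hS : ∀ v, m (v + e₀ • a v) + m⁻¹ (v - e₀ • a v) = (2 : F) • v + (c * d) • C v := by
    intro v
    have hxv : ∀ v, x v = v + c • a v + d • b v + (c * d) • a (b v) := fun v => by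
      rw [hxdef, LinearEquiv.mul_apply, hu, htx, map_add, map_smul]; module
    have hxiv : ∀ v, x⁻¹ v = v - c • a v - d • b v + (c * d) • b (a v) := fun v => x.injective (by
      rw [ap_inv, hxv]
      simp only [map_add, map_sub, map_smul, ha2x, hb2x, smul_zero, map_zero, add_zero, sub_zero]
      module)
    have hsum : ∀ v, x v + x⁻¹ v = (2 : F) • v + (c * d) • C v := fun v => by
      rw [hxv, hxiv, hCx]; module
    have h1 : m (v + e₀ • a v) = n⁻¹ (x (n v)) := by
      rw [← htx e₀ v, hmdef, LinearEquiv.mul_apply, ← LinearEquiv.mul_apply (t (-e₀)), htadd,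
        neg_add_cancel, ht0]
      rfl
    have h2 : m⁻¹ (v - e₀ • a v) = n⁻¹ (x⁻¹ (n v)) := by
      have hma' : ∀ v, m⁻¹ (a v) = a (m⁻¹ v) := fun v => m.injective (by rw [hma, ap_inv, ap_inv])
      rw [map_sub, map_smul, hma', sub_eq_add_neg, ← neg_smul, ← htx (-e₀) (m⁻¹ v)]
      show (t (-e₀) * m⁻¹) v = (n⁻¹ * x⁻¹ * n) v
      congr 1
      rw [hmdef, mul_inv_rev, ← htinv, ← mul_assoc, mul_inv_rev, mul_inv_rev, inv_inv]
      rw [inv_mul_cancel, one_mul, inv_inv, mul_assoc]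
    rw [h1, h2, ← map_add, hsum, map_add, map_smul, map_smul, inv_ap']
    congr 2
    apply n.injective
    rw [ap_inv, hn.2]
  have hcd0 : c * d ≠ 0 := mul_ne_zero hc hd
  rcases D.two_dichotomy hd₁ hd₂ h12 hsplit hd₁L hd₂L hMM hMiso hML with hsq | ⟨τ₀, hτ, hinj⟩
  · -- an involution
    have hmm : ∀ v, m (m v) = v := fun v => LinearMap.congr_fun
      (hT.ext_tau (f := ((m * m : V ≃ₗ[F] V) : V →ₗ[F] V)) (g := LinearMap.id) fun a' b' => by
        show m (m (T.tau a' b')) = T.tau a' b'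
        obtain ⟨l, hl, hp⟩ := D.split hL a'
        have : M (M a') = a' := by
          conv_lhs => rw [← add_sub_cancel l a', map_add, map_add, hsq l hl, hMp _ hp, hMp _ hp,
            add_sub_cancel]
        rw [hM, hM, this]) v
    have hmi : ∀ v, m⁻¹ v = m v := fun v => m.injective (by rw [ap_inv, hmm])
    have h2m : ∀ v, (2 : F) • v + (c * d) • C v = (2 : F) • m v := fun v => by
      rw [← hS v, hmi, ← map_add, show v + e₀ • a v + (v - e₀ • a v) = (2 : F) • v by module, map_smul]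
    right
    refine LinearMap.ext fun v => ?_
    show C v + C v + C v + C v + (c * d) • C (C v) = 0
    have h := h2m (m v)
    rw [hmm] at h
    have h' := congrArg C (h2m v)
    simp only [map_add, map_smul] at h'
    refine smul_right_injective V hcd0 ?_
    show (c * d) • _ = (c * d) • (0 : V)
    rw [smul_zero]
    linear_combination (norm := module) (c * d) • h' + (2 : F) • h + (2 : F) • h2m v
  · -- a rotation
    left
    set ρ := (τ₀ - 2) / (c * d) with hρ
    let π : Module.End F V := LinearMap.id - (LinearMap.id - (T.tau.flip y ∘ₗ PL ∘ₗ (-(T.C e))) -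
      (T.tau.flip e ∘ₗ PL ∘ₗ T.C y))
    have hπ : ∀ a' b', π (T.tau a' b') = T.tau (PL a') b' := by
      intro a' b'
      obtain ⟨k, hk⟩ : ∃ k : F, b' = k • y + T.fB b' y • e := by
        obtain ⟨l, hl⟩ := D.eq_smul_of_B hB hy (show T.fB (b' - T.fB b' y • e) y = 0 by simp [he])
        exact ⟨l, by rw [hl, sub_add_cancel]⟩
      have hke : T.fB b' e = -k := by
        conv_lhs => rw [hk]
        simp [he', D.altB]
      show T.tau a' b' - (T.tau a' b' - T.tau (PL (-(T.C e (T.tau a' b')))) y -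
        T.tau (PL (T.C y (T.tau a' b'))) e) = _
      rw [hT.C_tau, hT.C_tau, hke]
      simp only [map_smul, map_neg, LinearMap.smul_apply, neg_smul, neg_neg]
      conv_rhs => rw [hk, map_add, map_smul, map_smul]
      abel
    have hsum2 : ∀ v, m v + m⁻¹ v = (2 : F) • v + (τ₀ - 2) • π v := fun v => LinearMap.congr_fun
      (hT.ext_tau (f := (m : V →ₗ[F] V) + ((m⁻¹ : V ≃ₗ[F] V) : V →ₗ[F] V))
        (g := (2 : F) • LinearMap.id + (τ₀ - 2) • π) fun a' b' => by
        show m (T.tau a' b') + m⁻¹ (T.tau a' b') = (2 : F) • T.tau a' b' + (τ₀ - 2) • π (T.tau a' b')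
        obtain ⟨l, hl, hp⟩ := D.split hL a'
        rw [hπ, hM, hM', ← LinearMap.add_apply, ← map_add]
        have : M a' + M' a' = (2 : F) • a' + (τ₀ - 2) • PL a' := by
          rw [← add_sub_cancel l a', map_add, map_add, map_add, hMp _ hp, hM'p _ hp, hPL1 l hl,
            hPL0 _ hp]
          linear_combination (norm := module) hτ l hl
        rw [this]
        simp [map_add, map_smul]) v
    have hπa : ∀ v, π (a v) = a (π v) := fun v => LinearMap.congr_fun
      (hT.ext_tau (f := π ∘ₗ a) (g := a ∘ₗ π) fun a' b' => by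
        show π (a (T.tau a' b')) = a (π (T.tau a' b'))
        simp only [hadef, aEnd_apply, hπ, hT.C_tau, map_smul, LinearMap.smul_apply]) v
    have hπg : ∀ v, π (g v) = g (π v) := fun v => LinearMap.congr_fun
      (hT.ext_tau (f := π ∘ₗ (g : V →ₗ[F] V)) (g := (g : V →ₗ[F] V) ∘ₗ π) fun a' b' => by
        show π (g (T.tau a' b')) = g (π (T.tau a' b'))
        obtain ⟨l, hl, hp⟩ := D.split hL a'
        have hCπ : ∀ w v, T.C w (π v) = PL (T.C w v) := fun w v => LinearMap.congr_fun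
          (hT.ext_tau (f := T.C w ∘ₗ π) (g := PL ∘ₗ T.C w) fun a'' b'' => by
            simp [hπ, hT.C_tau]) v
        have hgl : π (g (T.tau l b')) = g (T.tau l b') := sub_eq_zero.1 (hT.C_nondeg fun w => by
          rw [map_sub, hCπ, hPL1 _ (D.fixOff_mem hL hg hgfix hl b' w), sub_self])
        conv_lhs => rw [← add_sub_cancel l a', map_add, LinearMap.add_apply, map_add, map_add, hgl,
          hgfix _ hp, hπ, hPL0 _ hp, map_zero, LinearMap.zero_apply, add_zero]
        rw [hπ]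
        conv_rhs => rw [← add_sub_cancel l a', map_add, hPL1 l hl, hPL0 _ hp, add_zero]) v
    have hπb : ∀ v, π (b v) = b (π v) := fun v => by
      have hgi : π (g⁻¹ v) = g⁻¹ (π v) := g.injective (by rw [← hπg, ap_inv, ap_inv])
      rw [hbx, hbx, hπg, hπa, hgi]
    -- `C a = ρ π a`
    have hCπa : ∀ v, C (a v) = ρ • π (a v) := fun v => by
      have h := hS (a v)
      rw [ha2x, smul_zero, add_zero, sub_zero, hsum2] at h
      refine smul_right_injective V hcd0 ?_
      show (c * d) • _ = (c * d) • _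
      rw [smul_smul, hρ, mul_div_cancel₀ _ hcd0]
      linear_combination (norm := module) -h
    -- `(M - M⁻¹) a` commutes with `b`
    let K : Module.End F V := (m : V →ₗ[F] V) - ((m⁻¹ : V ≃ₗ[F] V) : V →ₗ[F] V)
    have hK : ∀ v, K v = m v - m⁻¹ v := fun v => rfl
    have hKa : ∀ v, e₀ • K (a v) = (c * d) • C v - (τ₀ - 2) • π v := fun v => by
      have h := hS v
      rw [map_add, map_sub, map_smul, map_smul] at h
      rw [hK, smul_sub]
      linear_combination (norm := module) h - hsum2 v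
    have hKab : ∀ v, K (a (b v)) = b (K (a v)) := fun v => by
      refine smul_right_injective V hcd ?_
      show e₀ • _ = e₀ • _
      rw [hKa, ← map_smul b, hKa, map_sub, map_smul, map_smul, hCb, hπb]
    have haK : ∀ v, a (K v) = K (a v) := fun v => by
      have hma' : m⁻¹ (a v) = a (m⁻¹ v) := m.injective (by rw [hma, ap_inv, ap_inv])
      rw [hK, hK, map_sub, hma, hma']
    have hρ0 : ρ = 0 := by
      by_contra hne
      have h1 : ∀ v, a (b (K (a v))) = 0 := fun v => by rw [← hKab, haK, ha2x, map_zero]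
      have h2 : ∀ v, π (a (K (T.tau v e))) = 0 := fun v => by
        have h := h1 (T.tau v e)
        rw [← haK] at h
        have hc' : C (a (K (T.tau v e))) = 0 := by
          rw [hCx, h, zero_add, ha2x, map_zero]
        rw [hCπa] at hc'
        exact (smul_eq_zero.1 hc').resolve_left hne
      have hKe : K (T.tau d₁ e) = T.tau (M d₁ - M' d₁) e := by
        rw [hK, hM, hM', map_sub, LinearMap.sub_apply]
      have h3 := h2 d₁
      rw [hKe, hadef, aEnd_apply, hT.C_tau, he, one_smul, hπ] at h3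
      have hmem : M d₁ - M' d₁ ∈ L := by
        refine L.sub_mem (hML _ hd₁L) ?_
        have h := D.fixOff_mem hL (inv_mem hmN.1.1) (inv_mem hmN).1.2 hd₁L e y
        rwa [hM', hT.C_tau, he, one_smul] at h
      rw [hPL1 _ hmem, ← map_zero (T.tau.flip y)] at h3
      exact hd₁ (by rw [hinj d₁ hd₁L (hT.tau_left_inj hy h3)]; simp)
    have hCa0 : ∀ v, C (a v) = 0 := fun v => by rw [hCπa, hρ0, zero_smul]
    refine LinearMap.ext fun v => ?_
    show C (C v) = 0
    have hτ2 : τ₀ - 2 = 0 := by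
      have h := hρ0
      rwa [hρ, div_eq_zero_iff, or_iff_left hcd0] at h
    have h := hKa v
    rw [hτ2, zero_smul, sub_zero] at h
    refine smul_right_injective V hcd0 ?_
    show (c * d) • C (C v) = (c * d) • (0 : V)
    rw [smul_zero, ← map_smul, ← h, map_smul, ← haK, hCa0, smul_zero]

set_option maxHeartbeats 1000000 in
/-- the nilpotent case -/
theorem quad_nil (D : SpData T H) (hno : NoTvSp T H) (hB : finrank F B = 2) (h5 : 5 ≤ finrank F A)
    {pc : ℕ} [Fact pc.Prime] [CharP F pc] {L : Submodule F A} (hL : NDeg T L) (d2 : finrank F L = 2)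
    {g : V ≃ₗ[F] V} (hg : g ∈ H) (hgfix : FixOff T L g) {y : B} (hy : y ≠ 0) (hCC : cQ T y g * cQ T y g = 0) : IsKron T g := by
  classical
  haveI : Finite V := Module.finite_of_finite F
  haveI : Finite (V ≃ₗ[F] V) := Finite.of_injective _ DFunLike.coe_injective
  haveI := Module.nontrivial_of_finrank_pos (R := F) (M := A) (by omega)
  have hT := D.good
  obtain ⟨d₁, d₂, hd₁L, hd₂L, hd₁, hd₂, h12, hsplit⟩ := D.basis_two hL d2
  have h21 : T.fA d₂ d₁ = 0 := hT.A_flip_zero h12
  obtain ⟨r₀, hr₀, hr₀0, hr₀r⟩ := D.exists_off h5 hL d2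
  obtain ⟨e, he, he'⟩ := hT.exists_partner hy
  set a := aEnd T y with hadef
  set b := conjA T y g with hbdef
  have hbx : ∀ v, b v = g (a (g⁻¹ v)) := fun v => rfl
  have ha2x : ∀ v, a (a v) = 0 := D.aEnd_sqx y
  have hb2x : ∀ v, b (b v) = 0 := D.conjA_sqx y g
  have P : SqPair a b := D.sqPair y g
  set C := cQ T y g with hCdef
  have hCx : ∀ v, C v = a (b v) + b (a v) := fun v => rfl
  have hCa : ∀ v, C (a v) = a (C v) := D.cQ_a y g
  have hCb : ∀ v, C (b v) = b (C v) := D.cQ_b y g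
  set NC := D.centC L y g with hNC
  obtain ⟨t, htf⟩ := D.exists_tvFam y
  have htx : ∀ c v, t c v = v + c • a v := htf.app
  have htH : ∀ c, t c ∈ H := htf.mem
  have ht : ∀ c, t c ∈ D.tvSub y := fun c => ⟨htH c, c, htx c⟩
  have htadd : ∀ c c', t c * t c' = t (c + c') := D.tv_add htf
  have ht0 : t 0 = 1 := D.tv_zero htf
  have htinv : ∀ c, (t c)⁻¹ = t (-c) := D.tv_inv htf
  have htmem : ∀ x ∈ D.tvSub y, ∃ c, x = t c := fun x => D.tv_of_mem htf
  have htnorm : ∀ c, ∀ x ∈ NC, t c * x * (t c)⁻¹ ∈ NC := fun c x => D.tv_norm htf c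
  have htC : ∀ c v, t c (C v) = C (t c v) := D.tv_comm_cQ htf g
  have hdisj : ∀ c, t c ∈ NC → c = 0 := fun c => D.tv_disj htf hy hr₀ hr₀0
  have hu : ∀ d : F, ∀ v, (g * t d * g⁻¹) v = v + d • b v := D.tv_conj_app htf g
  have hprod : ∀ c d : F, t c * (g * t d * g⁻¹) * t (-(c + d)) ∈ NC := D.tv_conj_mem htf hg hgfix
  have hord : ¬ pc ∣ Nat.card NC := D.centC_card hno hB h5 hL d2 hg hgfix hy
  have hlev : lev a b (1 + 2 * 2) = ⊥ := by
    refine le_bot_iff.1 ((P.lev_le_range 2).trans ?_)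
    rw [pow_two, show a * b + b * a = C from rfl, hCC, LinearMap.range_zero]
  have hG := SqPair.isPGroup_of_lev (p := pc) (a := a) (b := b)
    (t := t 1) (u := g * t 1 * g⁻¹) (fun v => by rw [htx, one_smul])
    (fun v => by rw [hu, one_smul]) hlev
  set G := Subgroup.closure ({t 1, g * t 1 * g⁻¹} : Set (V ≃ₗ[F] V))
  have hmem : g * t 1 * g⁻¹ * t (-1) ∈ G := by
    rw [← htinv]
    exact mul_mem (Subgroup.subset_closure (Set.mem_insert_of_mem _ rfl))
      (inv_mem (Subgroup.subset_closure (Set.mem_insert _ _)))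
  have hmemN : g * t 1 * g⁻¹ * t (-1) ∈ NC := by
    have h := hprod 0 1
    rwa [ht0, one_mul, zero_add] at h
  obtain ⟨i, hi⟩ := hG ⟨_, hmem⟩
  have hw1 : g * t 1 * g⁻¹ * t (-1) = 1 := by
    have h1 : orderOf (⟨_, hmemN⟩ : NC) ∣ pc ^ i := orderOf_dvd_of_pow_eq_one (Subtype.ext (by
      have h := congrArg Subtype.val hi
      exact h))
    obtain ⟨j, -, hj⟩ := (Nat.dvd_prime_pow (Fact.out : pc.Prime)).1 h1
    rcases Nat.eq_zero_or_pos j with rfl | hj0
    · rw [pow_zero, orderOf_eq_one_iff] at hj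
      exact congrArg Subtype.val hj
    · refine absurd ?_ hord
      exact dvd_trans (dvd_trans (dvd_pow_self pc hj0.ne') hj.symm.dvd) (orderOf_dvd_natCard _)
  have hgt : g * t 1 = t 1 * g := by
    rw [← htinv, mul_inv_eq_one, mul_inv_eq_iff_eq_mul] at hw1
    exact hw1
  obtain ⟨M, hM, -⟩ := D.pure_of_comm hno hy hr₀ hr₀0 hg hgfix fun v => by
    have h := LinearEquiv.congr_fun hgt v
    rw [LinearEquiv.mul_apply, LinearEquiv.mul_apply, htx, htx, one_smul, one_smul, map_add,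
      add_right_inj] at h
    exact h
  exact ⟨M, LinearMap.id, hM⟩

end SpData

end CfsgLib.MaxSub.TForm
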