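import Cfsg.Agent.Lib.MaxSub.TFormSpSmall

/-!
`O₃ ⊗ Sp₂`, at least five scalars: the elements trivial outside a non-degenerate plane are pure.
The quadratic argument only needs one vector orthogonal to the plane.
-/

set_option autoImplicit false
set_option linter.unusedSectionVars false
set_option linter.unusedSimpArgs false
set_option linter.unusedVariables false
set_option linter.style.haveILetI false

namespace CfsgLib.MaxSub.TForm

open Module

variable {F A B V : Type*} [Field F] [AddCommGroup A] [Module F A] [AddCommGroup B] [Module F B]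
  [AddCommGroup V] [Module F V]

namespace SpData

variable {T : Sys F A B V (RingHom.id F)} {H : Subgroup (V ≃ₗ[F] V)}
variable [Finite F] [FiniteDimensional F A] [FiniteDimensional F B] [FiniteDimensional F V]

set_option maxHeartbeats 1000000 in
/-- dimension three: the group commuting with the anticommutator has order prime to the characteristic -/
theorem centC_card_three (D : SpData T H) (hno : NoTvSp T H) (hB : finrank F B = 2) (h3 : 3 ≤ finrank F A)
    {pc : ℕ} [Fact pc.Prime] [CharP F pc] {L : Submodule F A} (hL : NDeg T L) (d2 : finrank F L = 2)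
    {g : V ≃ₗ[F] V} (hg : g ∈ H) (hgfix : FixOff T L g) {y : B} (hy : y ≠ 0) :
    ¬ pc ∣ Nat.card (D.centC L y g) := by
  classical
  haveI : Finite V := Module.finite_of_finite F
  haveI : Finite (V ≃ₗ[F] V) := Finite.of_injective _ DFunLike.coe_injective
  haveI := Module.nontrivial_of_finrank_pos (R := F) (M := A) (by omega)
  have hT := D.good
  obtain ⟨d₁, d₂, hd₁L, hd₂L, hd₁, hd₂, h12, hsplit⟩ := D.basis_two hL d2
  have h21 : T.fA d₂ d₁ = 0 := hT.A_flip_zero h12
  obtain ⟨r₀, hr₀, hr₀0⟩ := D.exists_perp_ne hL (by omega)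
  obtain ⟨e, he, he'⟩ := hT.exists_partner hy
  set a := aEnd T y with hadef
  set b := conjA T y g with hbdef
  have hbx : ∀ v, b v = g (a (g⁻¹ v)) := fun v => rfl
  have ha2x : ∀ v, a (a v) = 0 := D.aEnd_sqx y
  have hb2x : ∀ v, b (b v) = 0 := D.conjA_sqx y g
  have P : SqPair a b := D.sqPair y g
  set C := cQ T y g with hCdef
  have hCx : ∀ v, C v = a (b v) + b (a v) := fun v => rfl
  have hCa : ∀ v, C (a v) = a (C v) := D.cQ_a y g
  have hCb : ∀ v, C (b v) = b (C v) := D.cQ_b y g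
  set NC := D.centC L y g with hNC
  obtain ⟨t, htf⟩ := D.exists_tvFam y
  have htx : ∀ c v, t c v = v + c • a v := htf.app
  have htH : ∀ c, t c ∈ H := htf.mem
  have ht : ∀ c, t c ∈ D.tvSub y := fun c => ⟨htH c, c, htx c⟩
  have htadd : ∀ c c', t c * t c' = t (c + c') := D.tv_add htf
  have ht0 : t 0 = 1 := D.tv_zero htf
  have htinv : ∀ c, (t c)⁻¹ = t (-c) := D.tv_inv htf
  have htmem : ∀ x ∈ D.tvSub y, ∃ c, x = t c := fun x => D.tv_of_mem htf
  have htnorm : ∀ c, ∀ x ∈ NC, t c * x * (t c)⁻¹ ∈ NC := fun c x => D.tv_norm htf c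
  have htC : ∀ c v, t c (C v) = C (t c v) := D.tv_comm_cQ htf g
  have hdisj : ∀ c, t c ∈ NC → c = 0 := fun c => D.tv_disj htf hy hr₀ hr₀0
  have hu : ∀ d : F, ∀ v, (g * t d * g⁻¹) v = v + d • b v := D.tv_conj_app htf g
  have hprod : ∀ c d : F, t c * (g * t d * g⁻¹) * t (-(c + d)) ∈ NC := D.tv_conj_mem htf hg hgfix
  haveI : CharP F pc := inferInstance
  intro hdvd
  let Xg := Subgroup.zpowers (t 1)
  have hXp : IsPGroup pc Xg := fun x => ⟨1, Subtype.ext (LinearEquiv.ext fun v => by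
    obtain ⟨i, hi⟩ := Subgroup.mem_zpowers_iff.1 x.2
    obtain ⟨c, hc⟩ := htmem _ (show (x : V ≃ₗ[F] V) ∈ D.tvSub y from
      hi ▸ Subgroup.zpow_mem _ (ht 1) i)
    have hpow : ∀ j : ℕ, t c ^ j = t (j * c) := by
      intro j
      induction j with
      | zero => simp [ht0]
      | succ j ih => rw [pow_succ, ih, htadd]; congr 1; push_cast; ring
    rw [pow_one, SubmonoidClass.coe_pow, hc, hpow, CharP.cast_eq_zero, zero_mul, ht0]; rfl)⟩
  have hact : ∀ x : Xg, ∀ n ∈ NC, (x : V ≃ₗ[F] V) * n * (x : V ≃ₗ[F] V)⁻¹ ∈ NC := fun x n hn => by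
    obtain ⟨i, hi⟩ := Subgroup.mem_zpowers_iff.1 x.2
    obtain ⟨c, hc⟩ := htmem _ (show (x : V ≃ₗ[F] V) ∈ D.tvSub y from
      hi ▸ Subgroup.zpow_mem _ (ht 1) i)
    rw [hc]; exact htnorm c n hn
  letI : MulAction Xg NC :=
    { smul := fun x n => ⟨(x : V ≃ₗ[F] V) * n * (x : V ≃ₗ[F] V)⁻¹, hact x n n.2⟩
      one_smul := fun n => Subtype.ext (by show ((1 : Xg) : V ≃ₗ[F] V) * n * _ = n; simp)
      mul_smul := fun x x' n => Subtype.ext (by
        show ((x * x' : Xg) : V ≃ₗ[F] V) * n * _ = (x : V ≃ₗ[F] V) * (_ * _ * _) * _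
        rw [Subgroup.coe_mul]; group) }
  have hfix := (hXp.card_modEq_card_fixedPoints NC)
  let Cc := NC ⊓ Subgroup.centralizer {t 1}
  have hbij : Nat.card (MulAction.fixedPoints Xg NC) = Nat.card Cc := by
    refine Nat.card_congr
      { toFun := fun n => ⟨n.1, n.1.2, ?_⟩
        invFun := fun n => ⟨⟨n.1, n.2.1⟩, fun x => Subtype.ext ?_⟩
        left_inv := fun n => rfl
        right_inv := fun n => rfl }
    · refine Subgroup.mem_centralizer_singleton_iff.2 ?_
      have h := congrArg Subtype.val (n.2 ⟨t 1, Subgroup.mem_zpowers _⟩)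
      exact (mul_inv_eq_iff_eq_mul.1 h).symm
    · show (x : V ≃ₗ[F] V) * n * (x : V ≃ₗ[F] V)⁻¹ = n
      rw [mul_inv_eq_iff_eq_mul]
      obtain ⟨i, hi⟩ := Subgroup.mem_zpowers_iff.1 x.2
      rw [← hi]
      exact Commute.zpow_left (show Commute (t 1) n.1 from (Subgroup.mem_centralizer_singleton_iff.1 n.2.2).symm) i
  have hdvd' : pc ∣ Nat.card Cc := by
    rw [← hbij]; exact Nat.modEq_zero_iff_dvd.1 (hfix.symm.trans hdvd.modEq_zero_nat)
  obtain ⟨x, hx⟩ := exists_prime_orderOf_dvd_card' (G := Cc) pc hdvd'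
  have hxp : (x : V ≃ₗ[F] V) ^ pc = 1 := by
    rw [← SubmonoidClass.coe_pow, ← hx, pow_orderOf_eq_one]; rfl
  have hxc : ∀ v, x.1 (a v) = a (x.1 v) := fun v => by
    have h := LinearEquiv.congr_fun (Subgroup.mem_centralizer_singleton_iff.1 x.2.2) v
    rw [LinearEquiv.mul_apply, LinearEquiv.mul_apply, htx, htx, one_smul, one_smul, map_add,
      add_right_inj] at h
    exact h
  obtain ⟨M, hM, hMiso⟩ := D.pure_of_comm hno hy hr₀ hr₀0 x.2.1.1.1 x.2.1.1.2 hxc
  have hMp : ∀ a, M^[pc] a = a := fun a' => hT.tau_left_inj hy (by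
    show T.tau (M^[pc] a') y = T.tau a' y
    have key : ∀ j : ℕ, (x.1 ^ j) (T.tau a' y) = T.tau (M^[j] a') y := by
      intro j
      induction j with
      | zero => simp
      | succ j ih => rw [pow_succ', LinearEquiv.mul_apply, ih, hM, Function.iterate_succ_apply']
    rw [← key, hxp]; rfl)
  have hML : ∀ l ∈ L, M l ∈ L := fun l hl => by
    have h := D.fixOff_mem hL x.2.1.1.1 x.2.1.1.2 hl e y
    rwa [hM, hT.C_tau, he, one_smul] at h
  have hx1 : x = 1 := Subtype.ext (LinearEquiv.ext fun v => LinearMap.congr_fun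
    (hT.ext_tau (f := ((x.1 : V ≃ₗ[F] V) : V →ₗ[F] V)) (g := LinearMap.id) fun a' b' => by
      show x.1 (T.tau a' b') = T.tau a' b'
      obtain ⟨l, hl, hp⟩ := D.split hL a'
      have hMp' : M (a' - l) = a' - l := hT.tau_left_inj hy (by
        show T.tau (M (a' - l)) y = T.tau (a' - l) y
        rw [← hM, x.2.1.1.2 _ hp])
      have hMa : M a' = a' := by
        conv_lhs => rw [← add_sub_cancel l a', map_add,
          D.unip_trivial hd₁ hd₂ h12 hsplit hd₁L hd₂L hMiso hML hMp hl, hMp', add_sub_cancel]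
      rw [hM, hMa]) v)
  rw [hx1, orderOf_one] at hx
  exact (Fact.out : pc.Prime).one_lt.ne hx

set_option maxHeartbeats 2000000 in
/-- dimension three: the quadratic identity -/
theorem quad_key_three (D : SpData T H) (hno : NoTvSp T H) (hB : finrank F B = 2) (h3 : 3 ≤ finrank F A)
    {pc : ℕ} [Fact pc.Prime] [CharP F pc] {L : Submodule F A} (hL : NDeg T L) (d2 : finrank F L = 2)
    {g : V ≃ₗ[F] V} (hg : g ∈ H) (hgfix : FixOff T L g) {y : B} (hy : y ≠ 0) {c d : F} (hc : c ≠ 0) (hd : d ≠ 0) (hcd : c + d ≠ 0) :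
    cQ T y g * cQ T y g = 0 ∨ cQ T y g + cQ T y g + cQ T y g + cQ T y g +
      (c * d) • (cQ T y g * cQ T y g) = 0 := by
  classical
  haveI : Finite V := Module.finite_of_finite F
  haveI : Finite (V ≃ₗ[F] V) := Finite.of_injective _ DFunLike.coe_injective
  haveI := Module.nontrivial_of_finrank_pos (R := F) (M := A) (by omega)
  have hT := D.good
  obtain ⟨d₁, d₂, hd₁L, hd₂L, hd₁, hd₂, h12, hsplit⟩ := D.basis_two hL d2
  have h21 : T.fA d₂ d₁ = 0 := hT.A_flip_zero h12
  obtain ⟨r₀, hr₀, hr₀0⟩ := D.exists_perp_ne hL (by omega)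
  obtain ⟨e, he, he'⟩ := hT.exists_partner hy
  set a := aEnd T y with hadef
  set b := conjA T y g with hbdef
  have hbx : ∀ v, b v = g (a (g⁻¹ v)) := fun v => rfl
  have ha2x : ∀ v, a (a v) = 0 := D.aEnd_sqx y
  have hb2x : ∀ v, b (b v) = 0 := D.conjA_sqx y g
  have P : SqPair a b := D.sqPair y g
  set C := cQ T y g with hCdef
  have hCx : ∀ v, C v = a (b v) + b (a v) := fun v => rfl
  have hCa : ∀ v, C (a v) = a (C v) := D.cQ_a y g
  have hCb : ∀ v, C (b v) = b (C v) := D.cQ_b y g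
  set NC := D.centC L y g with hNC
  obtain ⟨t, htf⟩ := D.exists_tvFam y
  have htx : ∀ c v, t c v = v + c • a v := htf.app
  have htH : ∀ c, t c ∈ H := htf.mem
  have ht : ∀ c, t c ∈ D.tvSub y := fun c => ⟨htH c, c, htx c⟩
  have htadd : ∀ c c', t c * t c' = t (c + c') := D.tv_add htf
  have ht0 : t 0 = 1 := D.tv_zero htf
  have htinv : ∀ c, (t c)⁻¹ = t (-c) := D.tv_inv htf
  have htmem : ∀ x ∈ D.tvSub y, ∃ c, x = t c := fun x => D.tv_of_mem htf
  have htnorm : ∀ c, ∀ x ∈ NC, t c * x * (t c)⁻¹ ∈ NC := fun c x => D.tv_norm htf c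
  have htC : ∀ c v, t c (C v) = C (t c v) := D.tv_comm_cQ htf g
  have hdisj : ∀ c, t c ∈ NC → c = 0 := fun c => D.tv_disj htf hy hr₀ hr₀0
  have hu : ∀ d : F, ∀ v, (g * t d * g⁻¹) v = v + d • b v := D.tv_conj_app htf g
  have hprod : ∀ c d : F, t c * (g * t d * g⁻¹) * t (-(c + d)) ∈ NC := D.tv_conj_mem htf hg hgfix
  have hord : ¬ pc ∣ Nat.card NC := D.centC_card_three hno hB h3 hL d2 hg hgfix hy
  -- the group `NC · T` and its Sylow subgroup
  let E : Subgroup (V ≃ₗ[F] V) :=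
    { carrier := {x | ∃ n ∈ NC, ∃ c, x = n * t c}
      one_mem' := ⟨1, one_mem _, 0, by rw [ht0, mul_one]⟩
      mul_mem' := by
        rintro _ _ ⟨n, hn, c, rfl⟩ ⟨n', hn', c', rfl⟩
        refine ⟨n * (t c * n' * (t c)⁻¹), mul_mem hn (htnorm c n' hn'), c + c', ?_⟩
        rw [← htadd]; group
      inv_mem' := by
        rintro _ ⟨n, hn, c, rfl⟩
        refine ⟨t (-c) * n⁻¹ * (t (-c))⁻¹, htnorm _ _ (inv_mem hn), -c, ?_⟩
        rw [← htinv]; group }
  let ST : Sylow pc E :=
    { toSubgroup := (D.tvSub y).subgroupOf E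
      isPGroup' := fun x => ⟨1, Subtype.ext (Subtype.ext (LinearEquiv.ext fun v => by
        obtain ⟨c, hc⟩ := htmem _ x.2
        have hpow : ∀ j : ℕ, t c ^ j = t (j * c) := by
          intro j
          induction j with
          | zero => simp [ht0]
          | succ j ih => rw [pow_succ, ih, htadd]; congr 1; push_cast; ring
        rw [pow_one]
        show ((x.1 : V ≃ₗ[F] V) ^ pc) v = v
        rw [show (x.1 : V ≃ₗ[F] V) = t c from hc, hpow, CharP.cast_eq_zero, zero_mul, ht0]; rfl))⟩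
      is_maximal' := fun {Q} hQ hle => le_antisymm (fun x hx => by
        obtain ⟨n, hn, c, hxc⟩ := x.2
        have htE : t c ∈ E := ⟨1, one_mem _, c, by rw [one_mul]⟩
        have hnQ : (x * (⟨t c, htE⟩ : E)⁻¹) ∈ Q := mul_mem hx (inv_mem (hle (ht c)))
        obtain ⟨i, hi⟩ := hQ ⟨_, hnQ⟩
        have hn' : n ^ pc ^ i = 1 := by
          have h := congrArg (fun z : Q => ((z : E) : V ≃ₗ[F] V)) hi
          simpa [hxc] using h
        have hn1 : n = 1 := by
          have h1 : orderOf (⟨n, hn⟩ : NC) ∣ pc ^ i := orderOf_dvd_of_pow_eq_one (Subtype.ext hn')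
          obtain ⟨j, -, hj⟩ := (Nat.dvd_prime_pow (Fact.out : pc.Prime)).1 h1
          rcases Nat.eq_zero_or_pos j with rfl | hj0
          · rw [pow_zero, orderOf_eq_one_iff] at hj
            exact congrArg Subtype.val hj
          · refine absurd ?_ hord
            exact dvd_trans (dvd_trans (dvd_pow_self pc hj0.ne') hj.symm.dvd) (orderOf_dvd_natCard _)
        show (x : V ≃ₗ[F] V) ∈ D.tvSub y
        rw [hxc, hn1, one_mul]; exact ht c) hle }
  -- an element of `NC` commuting with a transvection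
  have hpure : ∀ x : V ≃ₗ[F] V, x ∈ NC → ∀ c : F, c ≠ 0 → Commute x (t c) →
      ∃ M : A →ₗ[F] A, (∀ a b, x (T.tau a b) = T.tau (M a) b) ∧
        ∀ a a', T.fA (M a) (M a') = T.fA a a' := by
    intro x hx c hc0 hcomm
    refine D.pure_of_comm hno hy hr₀ hr₀0 hx.1.1 hx.1.2 fun v => ?_
    have h := LinearEquiv.congr_fun hcomm.eq v
    rw [LinearEquiv.mul_apply, LinearEquiv.mul_apply, htx, htx, map_add, map_smul, add_right_inj] at h
    exact smul_right_injective V hc0 h
  -- the projection to `L`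
  let PL : A →ₗ[F] A := (T.fA d₁ d₁)⁻¹ • (T.fA.flip d₁).smulRight d₁ +
    (T.fA d₂ d₂)⁻¹ • (T.fA.flip d₂).smulRight d₂
  have hPL : ∀ x, PL x = (T.fA x d₁ / T.fA d₁ d₁) • d₁ + (T.fA x d₂ / T.fA d₂ d₂) • d₂ := fun x => by
    show (T.fA d₁ d₁)⁻¹ • (T.fA x d₁ • d₁) + (T.fA d₂ d₂)⁻¹ • (T.fA x d₂ • d₂) = _
    simp only [smul_smul, div_eq_inv_mul]
  have hPL1 : ∀ l ∈ L, PL l = l := by
    intro l hl
    obtain ⟨r, s, rfl⟩ := hsplit l hl
    simp [hPL, h12, h21, hd₁, hd₂]
  have hPL0 : ∀ p ∈ perpS T L, PL p = 0 := fun p hp => by simp [hPL, hp d₁ hd₁L, hp d₂ hd₂L]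
  set x := t c * (g * t d * g⁻¹) with hxdef
  have hxN := hprod c d
  have hxE : x ∈ E := ⟨_, hxN, c + d, by rw [mul_assoc (x), htadd, neg_add_cancel, ht0, mul_one]⟩
  have hxpow : ∀ i : ℕ, x ^ i * t (-((i : F) * (c + d))) ∈ NC := by
    intro i
    induction i with
    | zero => simp [ht0]
    | succ i ih =>
      have h := mul_mem ih (htnorm ((i : F) * (c + d)) _ hxN)
      convert h using 1
      rw [htinv, pow_succ, Nat.cast_succ, show -(((i : F) + 1) * (c + d)) =
        -(c + d) + -((i : F) * (c + d)) by ring, ← htadd]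
      have hc' : t (-((i : F) * (c + d))) * t ((i : F) * (c + d)) = 1 := by
        rw [htadd, neg_add_cancel, ht0]
      calc x ^ i * x * (t (-(c + d)) * t (-((i : F) * (c + d))))
          = x ^ i * (t (-((i : F) * (c + d))) * t ((i : F) * (c + d))) * (x * t (-(c + d))) *
            t (-((i : F) * (c + d))) := by rw [hc']; group
        _ = _ := by rw [hxdef]; group
  obtain ⟨s, r, hr, hm⟩ := Nat.exists_eq_pow_mul_and_not_dvd (orderOf_pos x).ne' pc
    (Fact.out : pc.Prime).ne_one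
  have hrF : (r : F) * (c + d) ≠ 0 := mul_ne_zero (fun h => hr ((CharP.cast_eq_zero_iff F pc r).1 h)) hcd
  let P' : E := ⟨x, hxE⟩ ^ r
  have hP'p : IsPGroup pc (Subgroup.zpowers P') := fun z => by
    refine ⟨s, ?_⟩
    obtain ⟨i, hi⟩ := Subgroup.mem_zpowers_iff.1 z.2
    apply Subtype.ext
    rw [SubmonoidClass.coe_pow, ← hi, ← zpow_natCast, ← zpow_mul, mul_comm, zpow_mul, zpow_natCast]
    have : P' ^ (pc ^ s) = 1 := Subtype.ext (by
      show (x ^ r) ^ (pc ^ s) = 1
      rw [← pow_mul, mul_comm, ← hm, pow_orderOf_eq_one])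
    rw [this, one_zpow]; rfl
  obtain ⟨R, hR⟩ := hP'p.exists_le_sylow
  obtain ⟨k, hk⟩ := MulAction.exists_smul_eq E R ST
  have hkP : (k * P' * k⁻¹ : E) ∈ (ST : Subgroup E) := by
    rw [← hk, Sylow.coe_subgroup_smul]
    exact ⟨P', hR (Subgroup.mem_zpowers P'), rfl⟩
  obtain ⟨c₁, hc₁⟩ := htmem _ hkP
  obtain ⟨n, hn, c₀, hk0⟩ := (inv_mem k.2 : (k : V ≃ₗ[F] V)⁻¹ ∈ E)
  have hnP : n⁻¹ * x ^ r * n = t c₁ := by
    have h : (k : V ≃ₗ[F] V) * x ^ r * (k : V ≃ₗ[F] V)⁻¹ = t c₁ := hc₁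
    have hk' : (k : V ≃ₗ[F] V) = (n * t c₀)⁻¹ := by rw [← hk0, inv_inv]
    have hc' : t c₀ * t c₁ * (t c₀)⁻¹ = t c₁ := by rw [htinv, htadd, htadd]; congr 1; ring
    rw [hk', inv_inv, mul_inv_rev] at h
    calc n⁻¹ * x ^ r * n = t c₀ * ((t c₀)⁻¹ * n⁻¹ * x ^ r * (n * t c₀)) * (t c₀)⁻¹ := by group
      _ = _ := by rw [h, hc']
  have hc₁0 : c₁ ≠ 0 := by
    rintro rfl
    rw [ht0] at hnP
    have h1 : x ^ r = 1 := by
      calc x ^ r = n * (n⁻¹ * x ^ r * n) * n⁻¹ := by group
        _ = 1 := by rw [hnP]; group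
    have h2 := hxpow r
    rw [h1, one_mul] at h2
    exact neg_ne_zero.2 hrF (hdisj _ h2)
  set e₀ := c + d with he₀
  set m := n⁻¹ * x * n * t (-e₀) with hmdef
  have hmN : m ∈ NC := by
    have h := mul_mem (mul_mem (inv_mem hn) hxN) (htnorm e₀ n hn)
    convert h using 1
    rw [hmdef, htinv]
    have hc' : t (-e₀) * t e₀ = 1 := by rw [htadd, neg_add_cancel, ht0]
    calc n⁻¹ * x * n * t (-e₀) = n⁻¹ * x * (t (-e₀) * t e₀) * n * t (-e₀) := by rw [hc']; group
      _ = _ := by rw [hxdef]; group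
  have hcomm : Commute m (t c₁) := by
    refine Commute.mul_left ?_ (show t (-e₀) * t c₁ = t c₁ * t (-e₀) by rw [htadd, htadd, add_comm])
    rw [← hnP]
    show n⁻¹ * x * n * (n⁻¹ * x ^ r * n) = n⁻¹ * x ^ r * n * (n⁻¹ * x * n)
    calc n⁻¹ * x * n * (n⁻¹ * x ^ r * n) = n⁻¹ * (x * x ^ r) * n := by group
      _ = n⁻¹ * (x ^ r * x) * n := by rw [← pow_succ', pow_succ]
      _ = _ := by group
  obtain ⟨M, hM, hMiso⟩ := hpure m hmN c₁ hc₁0 hcomm
  obtain ⟨M', hM', -⟩ := hpure m⁻¹ (inv_mem hmN) c₁ hc₁0 hcomm.inv_left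
  have hMM : ∀ a', M' (M a') = a' := fun a' => hT.tau_left_inj hy (by
    show T.tau (M' (M a')) y = T.tau a' y
    rw [← hM', ← hM, inv_ap'])
  have hML : ∀ l ∈ L, M l ∈ L := fun l hl => by
    have h := D.fixOff_mem hL hmN.1.1 hmN.1.2 hl e y
    rwa [hM, hT.C_tau, he, one_smul] at h
  have hMp : ∀ p ∈ perpS T L, M p = p := fun p hp => hT.tau_left_inj hy (by
    show T.tau (M p) y = T.tau p y
    rw [← hM, hmN.1.2 p hp])
  have hM'p : ∀ p ∈ perpS T L, M' p = p := fun p hp => by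
    conv_lhs => rw [← hMp p hp]
    rw [hMM]
  have hma : ∀ v, m (a v) = a (m v) := fun v => LinearMap.congr_fun
    (hT.ext_tau (f := (m : V →ₗ[F] V) ∘ₗ a) (g := a ∘ₗ (m : V →ₗ[F] V)) fun a' b' => by
      show m (a (T.tau a' b')) = a (m (T.tau a' b'))
      simp only [hadef, aEnd_apply, hM, hT.C_tau, map_smul, LinearMap.smul_apply]) v
  -- the trace identity
  have hS : ∀ v, m (v + e₀ • a v) + m⁻¹ (v - e₀ • a v) = (2 : F) • v + (c * d) • C v := by
    intro v
    have hxv : ∀ v, x v = v + c • a v + d • b v + (c * d) • a (b v) := fun v => by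
      rw [hxdef, LinearEquiv.mul_apply, hu, htx, map_add, map_smul]; module
    have hxiv : ∀ v, x⁻¹ v = v - c • a v - d • b v + (c * d) • b (a v) := fun v => x.injective (by
      rw [ap_inv, hxv]
      simp only [map_add, map_sub, map_smul, ha2x, hb2x, smul_zero, map_zero, add_zero, sub_zero]
      module)
    have hsum : ∀ v, x v + x⁻¹ v = (2 : F) • v + (c * d) • C v := fun v => by
      rw [hxv, hxiv, hCx]; module
    have h1 : m (v + e₀ • a v) = n⁻¹ (x (n v)) := by
      rw [← htx e₀ v, hmdef, LinearEquiv.mul_apply, ← LinearEquiv.mul_apply (t (-e₀)), htadd,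
        neg_add_cancel, ht0]
      rfl
    have h2 : m⁻¹ (v - e₀ • a v) = n⁻¹ (x⁻¹ (n v)) := by
      have hma' : ∀ v, m⁻¹ (a v) = a (m⁻¹ v) := fun v => m.injective (by rw [hma, ap_inv, ap_inv])
      rw [map_sub, map_smul, hma', sub_eq_add_neg, ← neg_smul, ← htx (-e₀) (m⁻¹ v)]
      show (t (-e₀) * m⁻¹) v = (n⁻¹ * x⁻¹ * n) v
      congr 1
      rw [hmdef, mul_inv_rev, ← htinv, ← mul_assoc, mul_inv_rev, mul_inv_rev, inv_inv]
      rw [inv_mul_cancel, one_mul, inv_inv, mul_assoc]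
    rw [h1, h2, ← map_add, hsum, map_add, map_smul, map_smul, inv_ap']
    congr 2
    apply n.injective
    rw [ap_inv, hn.2]
  have hcd0 : c * d ≠ 0 := mul_ne_zero hc hd
  rcases D.two_dichotomy hd₁ hd₂ h12 hsplit hd₁L hd₂L hMM hMiso hML with hsq | ⟨τ₀, hτ, hinj⟩
  · -- an involution
    have hmm : ∀ v, m (m v) = v := fun v => LinearMap.congr_fun
      (hT.ext_tau (f := ((m * m : V ≃ₗ[F] V) : V →ₗ[F] V)) (g := LinearMap.id) fun a' b' => by
        show m (m (T.tau a' b')) = T.tau a' b'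
        obtain ⟨l, hl, hp⟩ := D.split hL a'
        have : M (M a') = a' := by
          conv_lhs => rw [← add_sub_cancel l a', map_add, map_add, hsq l hl, hMp _ hp, hMp _ hp,
            add_sub_cancel]
        rw [hM, hM, this]) v
    have hmi : ∀ v, m⁻¹ v = m v := fun v => m.injective (by rw [ap_inv, hmm])
    have h2m : ∀ v, (2 : F) • v + (c * d) • C v = (2 : F) • m v := fun v => by
      rw [← hS v, hmi, ← map_add, show v + e₀ • a v + (v - e₀ • a v) = (2 : F) • v by module, map_smul]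
    right
    refine LinearMap.ext fun v => ?_
    show C v + C v + C v + C v + (c * d) • C (C v) = 0
    have h := h2m (m v)
    rw [hmm] at h
    have h' := congrArg C (h2m v)
    simp only [map_add, map_smul] at h'
    refine smul_right_injective V hcd0 ?_
    show (c * d) • _ = (c * d) • (0 : V)
    rw [smul_zero]
    linear_combination (norm := module) (c * d) • h' + (2 : F) • h + (2 : F) • h2m v
  · -- a rotation
    left
    set ρ := (τ₀ - 2) / (c * d) with hρ
    let π : Module.End F V := LinearMap.id - (LinearMap.id - (T.tau.flip y ∘ₗ PL ∘ₗ (-(T.C e))) -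
      (T.tau.flip e ∘ₗ PL ∘ₗ T.C y))
    have hπ : ∀ a' b', π (T.tau a' b') = T.tau (PL a') b' := by
      intro a' b'
      obtain ⟨k, hk⟩ : ∃ k : F, b' = k • y + T.fB b' y • e := by
        obtain ⟨l, hl⟩ := D.eq_smul_of_B hB hy (show T.fB (b' - T.fB b' y • e) y = 0 by simp [he])
        exact ⟨l, by rw [hl, sub_add_cancel]⟩
      have hke : T.fB b' e = -k := by
        conv_lhs => rw [hk]
        simp [he', D.altB]
      show T.tau a' b' - (T.tau a' b' - T.tau (PL (-(T.C e (T.tau a' b')))) y -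
        T.tau (PL (T.C y (T.tau a' b'))) e) = _
      rw [hT.C_tau, hT.C_tau, hke]
      simp only [map_smul, map_neg, LinearMap.smul_apply, neg_smul, neg_neg]
      conv_rhs => rw [hk, map_add, map_smul, map_smul]
      abel
    have hsum2 : ∀ v, m v + m⁻¹ v = (2 : F) • v + (τ₀ - 2) • π v := fun v => LinearMap.congr_fun
      (hT.ext_tau (f := (m : V →ₗ[F] V) + ((m⁻¹ : V ≃ₗ[F] V) : V →ₗ[F] V))
        (g := (2 : F) • LinearMap.id + (τ₀ - 2) • π) fun a' b' => by
        show m (T.tau a' b') + m⁻¹ (T.tau a' b') = (2 : F) • T.tau a' b' + (τ₀ - 2) • π (T.tau a' b')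
        obtain ⟨l, hl, hp⟩ := D.split hL a'
        rw [hπ, hM, hM', ← LinearMap.add_apply, ← map_add]
        have : M a' + M' a' = (2 : F) • a' + (τ₀ - 2) • PL a' := by
          rw [← add_sub_cancel l a', map_add, map_add, map_add, hMp _ hp, hM'p _ hp, hPL1 l hl,
            hPL0 _ hp]
          linear_combination (norm := module) hτ l hl
        rw [this]
        simp [map_add, map_smul]) v
    have hπa : ∀ v, π (a v) = a (π v) := fun v => LinearMap.congr_fun
      (hT.ext_tau (f := π ∘ₗ a) (g := a ∘ₗ π) fun a' b' => by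
        show π (a (T.tau a' b')) = a (π (T.tau a' b'))
        simp only [hadef, aEnd_apply, hπ, hT.C_tau, map_smul, LinearMap.smul_apply]) v
    have hπg : ∀ v, π (g v) = g (π v) := fun v => LinearMap.congr_fun
      (hT.ext_tau (f := π ∘ₗ (g : V →ₗ[F] V)) (g := (g : V →ₗ[F] V) ∘ₗ π) fun a' b' => by
        show π (g (T.tau a' b')) = g (π (T.tau a' b'))
        obtain ⟨l, hl, hp⟩ := D.split hL a'
        have hCπ : ∀ w v, T.C w (π v) = PL (T.C w v) := fun w v => LinearMap.congr_fun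
          (hT.ext_tau (f := T.C w ∘ₗ π) (g := PL ∘ₗ T.C w) fun a'' b'' => by
            simp [hπ, hT.C_tau]) v
        have hgl : π (g (T.tau l b')) = g (T.tau l b') := sub_eq_zero.1 (hT.C_nondeg fun w => by
          rw [map_sub, hCπ, hPL1 _ (D.fixOff_mem hL hg hgfix hl b' w), sub_self])
        conv_lhs => rw [← add_sub_cancel l a', map_add, LinearMap.add_apply, map_add, map_add, hgl,
          hgfix _ hp, hπ, hPL0 _ hp, map_zero, LinearMap.zero_apply, add_zero]
        rw [hπ]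
        conv_rhs => rw [← add_sub_cancel l a', map_add, hPL1 l hl, hPL0 _ hp, add_zero]) v
    have hπb : ∀ v, π (b v) = b (π v) := fun v => by
      have hgi : π (g⁻¹ v) = g⁻¹ (π v) := g.injective (by rw [← hπg, ap_inv, ap_inv])
      rw [hbx, hbx, hπg, hπa, hgi]
    -- `C a = ρ π a`
    have hCπa : ∀ v, C (a v) = ρ • π (a v) := fun v => by
      have h := hS (a v)
      rw [ha2x, smul_zero, add_zero, sub_zero, hsum2] at h
      refine smul_right_injective V hcd0 ?_
      show (c * d) • _ = (c * d) • _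
      rw [smul_smul, hρ, mul_div_cancel₀ _ hcd0]
      linear_combination (norm := module) -h
    -- `(M - M⁻¹) a` commutes with `b`
    let K : Module.End F V := (m : V →ₗ[F] V) - ((m⁻¹ : V ≃ₗ[F] V) : V →ₗ[F] V)
    have hK : ∀ v, K v = m v - m⁻¹ v := fun v => rfl
    have hKa : ∀ v, e₀ • K (a v) = (c * d) • C v - (τ₀ - 2) • π v := fun v => by
      have h := hS v
      rw [map_add, map_sub, map_smul, map_smul] at h
      rw [hK, smul_sub]
      linear_combination (norm := module) h - hsum2 v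
    have hKab : ∀ v, K (a (b v)) = b (K (a v)) := fun v => by
      refine smul_right_injective V hcd ?_
      show e₀ • _ = e₀ • _
      rw [hKa, ← map_smul b, hKa, map_sub, map_smul, map_smul, hCb, hπb]
    have haK : ∀ v, a (K v) = K (a v) := fun v => by
      have hma' : m⁻¹ (a v) = a (m⁻¹ v) := m.injective (by rw [hma, ap_inv, ap_inv])
      rw [hK, hK, map_sub, hma, hma']
    have hρ0 : ρ = 0 := by
      by_contra hne
      have h1 : ∀ v, a (b (K (a v))) = 0 := fun v => by rw [← hKab, haK, ha2x, map_zero]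
      have h2 : ∀ v, π (a (K (T.tau v e))) = 0 := fun v => by
        have h := h1 (T.tau v e)
        rw [← haK] at h
        have hc' : C (a (K (T.tau v e))) = 0 := by
          rw [hCx, h, zero_add, ha2x, map_zero]
        rw [hCπa] at hc'
        exact (smul_eq_zero.1 hc').resolve_left hne
      have hKe : K (T.tau d₁ e) = T.tau (M d₁ - M' d₁) e := by
        rw [hK, hM, hM', map_sub, LinearMap.sub_apply]
      have h3 := h2 d₁
      rw [hKe, hadef, aEnd_apply, hT.C_tau, he, one_smul, hπ] at h3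
      have hmem : M d₁ - M' d₁ ∈ L := by
        refine L.sub_mem (hML _ hd₁L) ?_
        have h := D.fixOff_mem hL (inv_mem hmN.1.1) (inv_mem hmN).1.2 hd₁L e y
        rwa [hM', hT.C_tau, he, one_smul] at h
      rw [hPL1 _ hmem, ← map_zero (T.tau.flip y)] at h3
      exact hd₁ (by rw [hinj d₁ hd₁L (hT.tau_left_inj hy h3)]; simp)
    have hCa0 : ∀ v, C (a v) = 0 := fun v => by rw [hCπa, hρ0, zero_smul]
    refine LinearMap.ext fun v => ?_
    show C (C v) = 0
    have hτ2 : τ₀ - 2 = 0 := by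
      have h := hρ0
      rwa [hρ, div_eq_zero_iff, or_iff_left hcd0] at h
    have h := hKa v
    rw [hτ2, zero_smul, sub_zero] at h
    refine smul_right_injective V hcd0 ?_
    show (c * d) • C (C v) = (c * d) • (0 : V)
    rw [smul_zero, ← map_smul, ← h, map_smul, ← haK, hCa0, smul_zero]

set_option maxHeartbeats 1000000 in
/-- dimension three: the nilpotent case -/
theorem quad_nil_three (D : SpData T H) (hno : NoTvSp T H) (hB : finrank F B = 2) (h3 : 3 ≤ finrank F A)
    {pc : ℕ} [Fact pc.Prime] [CharP F pc] {L : Submodule F A} (hL : NDeg T L) (d2 : finrank F L = 2)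
    {g : V ≃ₗ[F] V} (hg : g ∈ H) (hgfix : FixOff T L g) {y : B} (hy : y ≠ 0) (hCC : cQ T y g * cQ T y g = 0) : IsKron T g := by
  classical
  haveI : Finite V := Module.finite_of_finite F
  haveI : Finite (V ≃ₗ[F] V) := Finite.of_injective _ DFunLike.coe_injective
  haveI := Module.nontrivial_of_finrank_pos (R := F) (M := A) (by omega)
  have hT := D.good
  obtain ⟨d₁, d₂, hd₁L, hd₂L, hd₁, hd₂, h12, hsplit⟩ := D.basis_two hL d2
  have h21 : T.fA d₂ d₁ = 0 := hT.A_flip_zero h12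
  obtain ⟨r₀, hr₀, hr₀0⟩ := D.exists_perp_ne hL (by omega)
  obtain ⟨e, he, he'⟩ := hT.exists_partner hy
  set a := aEnd T y with hadef
  set b := conjA T y g with hbdef
  have hbx : ∀ v, b v = g (a (g⁻¹ v)) := fun v => rfl
  have ha2x : ∀ v, a (a v) = 0 := D.aEnd_sqx y
  have hb2x : ∀ v, b (b v) = 0 := D.conjA_sqx y g
  have P : SqPair a b := D.sqPair y g
  set C := cQ T y g with hCdef
  have hCx : ∀ v, C v = a (b v) + b (a v) := fun v => rfl
  have hCa : ∀ v, C (a v) = a (C v) := D.cQ_a y g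
  have hCb : ∀ v, C (b v) = b (C v) := D.cQ_b y g
  set NC := D.centC L y g with hNC
  obtain ⟨t, htf⟩ := D.exists_tvFam y
  have htx : ∀ c v, t c v = v + c • a v := htf.app
  have htH : ∀ c, t c ∈ H := htf.mem
  have ht : ∀ c, t c ∈ D.tvSub y := fun c => ⟨htH c, c, htx c⟩
  have htadd : ∀ c c', t c * t c' = t (c + c') := D.tv_add htf
  have ht0 : t 0 = 1 := D.tv_zero htf
  have htinv : ∀ c, (t c)⁻¹ = t (-c) := D.tv_inv htf
  have htmem : ∀ x ∈ D.tvSub y, ∃ c, x = t c := fun x => D.tv_of_mem htf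
  have htnorm : ∀ c, ∀ x ∈ NC, t c * x * (t c)⁻¹ ∈ NC := fun c x => D.tv_norm htf c
  have htC : ∀ c v, t c (C v) = C (t c v) := D.tv_comm_cQ htf g
  have hdisj : ∀ c, t c ∈ NC → c = 0 := fun c => D.tv_disj htf hy hr₀ hr₀0
  have hu : ∀ d : F, ∀ v, (g * t d * g⁻¹) v = v + d • b v := D.tv_conj_app htf g
  have hprod : ∀ c d : F, t c * (g * t d * g⁻¹) * t (-(c + d)) ∈ NC := D.tv_conj_mem htf hg hgfix
  have hord : ¬ pc ∣ Nat.card NC := D.centC_card_three hno hB h3 hL d2 hg hgfix hy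
  have hlev : lev a b (1 + 2 * 2) = ⊥ := by
    refine le_bot_iff.1 ((P.lev_le_range 2).trans ?_)
    rw [pow_two, show a * b + b * a = C from rfl, hCC, LinearMap.range_zero]
  have hG := SqPair.isPGroup_of_lev (p := pc) (a := a) (b := b)
    (t := t 1) (u := g * t 1 * g⁻¹) (fun v => by rw [htx, one_smul])
    (fun v => by rw [hu, one_smul]) hlev
  set G := Subgroup.closure ({t 1, g * t 1 * g⁻¹} : Set (V ≃ₗ[F] V))
  have hmem : g * t 1 * g⁻¹ * t (-1) ∈ G := by
    rw [← htinv]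
    exact mul_mem (Subgroup.subset_closure (Set.mem_insert_of_mem _ rfl))
      (inv_mem (Subgroup.subset_closure (Set.mem_insert _ _)))
  have hmemN : g * t 1 * g⁻¹ * t (-1) ∈ NC := by
    have h := hprod 0 1
    rwa [ht0, one_mul, zero_add] at h
  obtain ⟨i, hi⟩ := hG ⟨_, hmem⟩
  have hw1 : g * t 1 * g⁻¹ * t (-1) = 1 := by
    have h1 : orderOf (⟨_, hmemN⟩ : NC) ∣ pc ^ i := orderOf_dvd_of_pow_eq_one (Subtype.ext (by
      have h := congrArg Subtype.val hi
      exact h))
    obtain ⟨j, -, hj⟩ := (Nat.dvd_prime_pow (Fact.out : pc.Prime)).1 h1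
    rcases Nat.eq_zero_or_pos j with rfl | hj0
    · rw [pow_zero, orderOf_eq_one_iff] at hj
      exact congrArg Subtype.val hj
    · refine absurd ?_ hord
      exact dvd_trans (dvd_trans (dvd_pow_self pc hj0.ne') hj.symm.dvd) (orderOf_dvd_natCard _)
  have hgt : g * t 1 = t 1 * g := by
    rw [← htinv, mul_inv_eq_one, mul_inv_eq_iff_eq_mul] at hw1
    exact hw1
  obtain ⟨M, hM, -⟩ := D.pure_of_comm hno hy hr₀ hr₀0 hg hgfix fun v => by
    have h := LinearEquiv.congr_fun hgt v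
    rw [LinearEquiv.mul_apply, LinearEquiv.mul_apply, htx, htx, one_smul, one_smul, map_add,
      add_right_inj] at h
    exact h
  exact ⟨M, LinearMap.id, hM⟩

/-- planes are good when there is a scalar other than `0, ±1` -/
theorem good_two_three (D : SpData T H) (hno : NoTvSp T H) (hB : finrank F B = 2) (h3 : 3 ≤ finrank F A)
    (hbig : ∃ s : F, s ≠ 0 ∧ s ≠ 1 ∧ s ≠ -1) {L : Submodule F A} (hL : NDeg T L) (d2 : finrank F L = 2) :
    Good T H L := by
  intro g hg hgfix
  haveI := Module.nontrivial_of_finrank_pos (R := F) (M := B) (by omega)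
  obtain ⟨y, hy⟩ := exists_ne (0 : B)
  obtain ⟨pc, hpc⟩ := CharP.exists F
  haveI := hpc
  haveI : Fact pc.Prime := ⟨CharP.char_is_prime F pc⟩
  by_cases hCC : cQ T y g * cQ T y g = 0
  · exact D.quad_nil_three hno hB h3 (pc := pc) hL d2 hg hgfix hy hCC
  exfalso
  obtain ⟨s, hs0, hs1, hsn⟩ := hbig
  have h1 := (D.quad_key_three hno hB h3 (pc := pc) hL d2 hg hgfix hy (c := (1 : F)) (d := 1) one_ne_zero
    one_ne_zero (by rw [one_add_one_eq_two]; exact D.two)).resolve_left hCC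
  have h2 := (D.quad_key_three hno hB h3 (pc := pc) hL d2 hg hgfix hy (c := (1 : F)) (d := s) one_ne_zero hs0
    (fun h => hsn (eq_neg_of_add_eq_zero_right h))).resolve_left hCC
  refine hCC ((smul_eq_zero.1 (show (s - 1) • (cQ T y g * cQ T y g) = 0 from ?_)).resolve_left
    (sub_ne_zero.2 hs1))
  rw [one_mul, one_smul] at h1
  rw [one_mul] at h2
  linear_combination (norm := module) h2 - h1

end SpData

end CfsgLib.MaxSub.TForm
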