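import Cfsg.Agent.Lib.MaxSub.TFormSys

/-!
An isometry in the overgroup which stabilises one singular pencil is a pure map `M ⊗ h`.
-/

set_option autoImplicit false
set_option linter.unusedSectionVars false
set_option linter.unusedSimpArgs false
set_option maxHeartbeats 1000000

namespace CfsgLib.MaxSub.TForm

open Module

variable {F A B V : Type*} [Field F] [AddCommGroup A] [Module F A] [AddCommGroup B] [Module F B]
  [AddCommGroup V] [Module F V] {σ : F →+* F}

/-- What is needed of the overgroup `H`. -/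
structure StabHyp (T : Sys F A B V σ) (ε : F) (H : Subgroup (V ≃ₗ[F] V)) (Gen : Set (A ≃ₗ[F] A)) :
    Prop where
  good : T.Good ε
  isom : ∀ g ∈ H, ∀ x y, T.form (g x) (g y) = T.form x y
  tv : ∀ z, T.fB z z = 0 → ∀ c, σ c = c → InH H fun x => x + c • T.tau (T.C z x) z
  frame : ∀ z, T.fB z z = 0 → z ≠ 0 → ∀ X : A →ₗ[F] A,
    InH H (fun x => x + T.tau (X (T.C z x)) z) → ∃ k : F, ∀ a, X a = k • a
  qlem : ∀ q ∈ H, ∀ z, T.fB z z = 0 → z ≠ 0 → (∀ a, q (T.tau a z) = T.tau a z) →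
    (∀ x, T.C z x = 0 → ∃ b, q x = x + T.tau b z) →
    ∀ w, T.fB w w = 0 → T.fB w z = 0 → ∃ k : F, ∀ a, q (T.tau a w) = T.tau a w + k • T.tau a z
  gen_mem : ∀ g ∈ Gen, ∃ k ∈ H, ∀ a b, k (T.tau a b) = T.tau (g a) b
  gen_conj : ∀ (M : A ≃ₗ[F] A) (m : F), (∀ a a', T.fA (M a) (M a') = m * T.fA a a') →
    ∀ g ∈ Gen, M * g * M⁻¹ ∈ Gen
  diff : ∀ X : A →ₗ[F] A, (∀ g ∈ Gen, ∃ k : F, ∀ a, X (g a) - g (X a) = k • g a) →
    ∃ k : F, ∀ a, X a = k • a
  isoSpan : ∀ z, T.fB z z = 0 → z ≠ 0 → ∀ w, T.fB w z = 0 →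
    w ∈ Submodule.span F {w | T.fB w w = 0 ∧ T.fB w z = 0}

/-- The same without the hypothesis that singular vectors span the orthogonal of a singular vector. -/
structure StabCore (T : Sys F A B V σ) (ε : F) (H : Subgroup (V ≃ₗ[F] V)) (Gen : Set (A ≃ₗ[F] A)) :
    Prop where
  good : T.Good ε
  isom : ∀ g ∈ H, ∀ x y, T.form (g x) (g y) = T.form x y
  tv : ∀ z, T.fB z z = 0 → ∀ c, σ c = c → InH H fun x => x + c • T.tau (T.C z x) z
  ev : ∀ z, T.fB z z = 0 → ∀ w, T.fB w z = 0 →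
    ∃ k : F, InH H fun x => x + T.tau (T.C z x) w + T.tau (T.C w x) z + k • T.tau (T.C z x) z
  frame : ∀ z, T.fB z z = 0 → z ≠ 0 → ∀ X : A →ₗ[F] A,
    InH H (fun x => x + T.tau (X (T.C z x)) z) → ∃ k : F, ∀ a, X a = k • a
  qlem : ∀ q ∈ H, ∀ z, T.fB z z = 0 → z ≠ 0 → (∀ a, q (T.tau a z) = T.tau a z) →
    (∀ x, T.C z x = 0 → ∃ b, q x = x + T.tau b z) →
    ∀ w, T.fB w z = 0 → ∃ k : F, ∀ a, q (T.tau a w) = T.tau a w + k • T.tau a z
  gen_mem : ∀ g ∈ Gen, ∃ k ∈ H, ∀ a b, k (T.tau a b) = T.tau (g a) b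
  gen_conj : ∀ (M : A ≃ₗ[F] A) (m : F), (∀ a a', T.fA (M a) (M a') = m * T.fA a a') →
    ∀ g ∈ Gen, M * g * M⁻¹ ∈ Gen
  diff : ∀ X : A →ₗ[F] A, (∀ g ∈ Gen, ∃ k : F, ∀ a, X (g a) - g (X a) = k • g a) →
    ∃ k : F, ∀ a, X a = k • a

namespace StabHyp

variable {T : Sys F A B V σ} {ε : F} {H : Subgroup (V ≃ₗ[F] V)} {Gen : Set (A ≃ₗ[F] A)}

/-- Eichler elements -/
theorem ev (S : StabHyp T ε H Gen) {z w : B} (hz : T.fB z z = 0) (hw : T.fB w w = 0)
    (hwz : T.fB w z = 0) :
    InH H fun x => x + T.tau (T.C z x) w + T.tau (T.C w x) z := by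
  have hT := S.good
  have hzw := hT.B_flip_zero hwz
  have h1 := S.tv (z + w) (by simp [hz, hw, hwz, hzw]) 1 (map_one σ)
  have h2 := S.tv z hz (-1) (by simp)
  have h3 := S.tv w hw (-1) (by simp)
  refine (h1.comp (h2.comp h3)).congr fun x => ?_
  simp only [hT.C_add, LinearMap.add_apply, map_add, map_smul, map_sub, hT.C_tau, hz, hw, hzw, hwz,
    zero_smul, smul_zero, add_zero, map_zero]
  module

theorem ev_fix (S : StabHyp T ε H Gen) {z w : B} (hz : T.fB z z = 0) (hwz : T.fB w z = 0) (a : A) :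
    T.tau a z + T.tau (T.C z (T.tau a z)) w + T.tau (T.C w (T.tau a z)) z = T.tau a z := by
  simp [S.good.C_tau, hz, S.good.B_flip_zero hwz]

theorem core (S : StabHyp T ε H Gen) : StabCore T ε H Gen where
  good := S.good
  isom := S.isom
  tv := S.tv
  frame := S.frame
  gen_mem := S.gen_mem
  gen_conj := S.gen_conj
  diff := S.diff
  ev z hz w hwz := by
    have hT := S.good
    rcases eq_or_ne z 0 with rfl | hz0
    · refine ⟨0, 1, one_mem _, fun x => ?_⟩
      have := LinearMap.congr_fun (hT.C_smul 0 0) x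
      simp only [zero_smul, map_zero, LinearMap.zero_apply] at this
      simp [this]
    suffices ∀ c : F, ∃ k : F, InH H fun x =>
        x + T.tau (T.C z x) (c • w) + T.tau (T.C (c • w) x) z + k • T.tau (T.C z x) z by
      simpa using this 1
    have hw := S.isoSpan z hz hz0 w hwz
    clear hwz
    suffices T.fB w z = 0 ∧ ∀ c : F, ∃ k : F, InH H fun x =>
        x + T.tau (T.C z x) (c • w) + T.tau (T.C (c • w) x) z + k • T.tau (T.C z x) z from this.2
    induction hw using Submodule.span_induction with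
    | mem v hv =>
        exact ⟨hv.2, fun c => ⟨0, (S.ev hz (w := c • v) (by simp [hv.1]) (by simp [hv.2])).congr
          fun x => by rw [zero_smul, add_zero]⟩⟩
    | zero =>
        refine ⟨by simp, fun c => ⟨0, 1, one_mem _, fun x => ?_⟩⟩
        have := LinearMap.congr_fun (hT.C_smul 0 0) x
        simp only [zero_smul, map_zero, LinearMap.zero_apply] at this
        simp [this]
    | add v v' _ _ hv hv' =>
        refine ⟨by simp [hv.1, hv'.1], fun c => ?_⟩
        obtain ⟨k, hk⟩ := hv.2 c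
        obtain ⟨k', hk'⟩ := hv'.2 c
        refine ⟨k + k' + T.fB (c • v') (c • v), (hk.comp hk').congr fun x => ?_⟩
        simp only [smul_add, hT.C_add, LinearMap.add_apply, map_add, map_smul, LinearMap.smul_apply,
          hT.C_tau, hz, hv'.1, hT.B_flip_zero hv.1, map_smulₛₗ, smul_eq_mul, mul_zero, zero_mul,
          smul_zero, zero_smul, add_zero, map_zero]
        module
    | smul l v _ hv =>
        refine ⟨by simp [hv.1], fun c => ?_⟩
        rw [smul_smul]
        exact hv.2 (c * l)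
  qlem q hq z hz hz0 hqz hQ w hwz := by
    let K : Submodule F B :=
      { carrier := {w | ∃ k : F, ∀ a, q (T.tau a w) = T.tau a w + k • T.tau a z}
        add_mem' := by
          rintro x y ⟨k, hk⟩ ⟨k', hk'⟩
          refine ⟨k + k', fun a => ?_⟩
          simp only [map_add, hk, hk']
          module
        zero_mem' := ⟨0, fun a => by simp⟩
        smul_mem' := by
          rintro c x ⟨k, hk⟩
          refine ⟨c * k, fun a => ?_⟩
          simp only [map_smul, hk]
          module }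
    exact Submodule.span_le (p := K).2
      (fun v hv => S.qlem q hq z hz hz0 hqz hQ v hv.1 hv.2) (S.isoSpan z hz hz0 w hwz)

end StabHyp

namespace StabCore

variable {T : Sys F A B V σ} {ε : F} {H : Subgroup (V ≃ₗ[F] V)} {Gen : Set (A ≃ₗ[F] A)}
variable [Finite F] [FiniteDimensional F A] [FiniteDimensional F B]

/-- an element of `H` stabilising the pencil of a singular `z` is pure -/
theorem isKron (S : StabCore T ε H Gen) {u : V ≃ₗ[F] V} (hu : u ∈ H) {z : B} (hz : T.fB z z = 0)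
    (hz0 : z ≠ 0) (hfix : ∀ a, u (T.tau a z) ∈ pen T z) (hA : Nontrivial A) : IsKron T u := by
  classical
  have hT := S.good
  obtain ⟨e, he, he'⟩ := hT.exists_partner hz0
  -- the action on the pencil
  let M₀ : A →ₗ[F] A := -(T.C e ∘ₗ (u : V →ₗ[F] V) ∘ₗ T.tau.flip z)
  have hM₀ : ∀ a, u (T.tau a z) = T.tau (M₀ a) z := by
    intro a
    obtain ⟨a', ha'⟩ := hfix a
    have : M₀ a = a' := by
      show -(T.C e (u (T.tau a z))) = a'
      rw [← ha', LinearMap.flip_apply, hT.C_tau, he']; simp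
    rw [this, ← ha']; rfl
  have hMinj : Function.Injective M₀ := fun a a' h =>
    hT.tau_left_inj hz0 (u.injective (by
      show u (T.tau a z) = u (T.tau a' z)
      rw [hM₀, hM₀, h]))
  let M : A ≃ₗ[F] A := LinearEquiv.ofInjectiveEndo M₀ hMinj
  have hM : ∀ a, u (T.tau a z) = T.tau (M a) z := hM₀
  have hMinv : ∀ a, u⁻¹ (T.tau a z) = T.tau (M.symm a) z := fun a => by
    apply u.injective
    rw [hM, LinearEquiv.apply_symm_apply, LinearEquiv.coe_inv, LinearEquiv.apply_symm_apply]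
  have huu : ∀ x, u (u⁻¹ x) = x := fun x => by rw [LinearEquiv.coe_inv, LinearEquiv.apply_symm_apply]
  have hCz : ∀ x a, T.fA (T.C z (u x)) (M a) = T.fA (T.C z x) a := fun x a => by
    rw [← hT.form_C, ← hT.form_C, ← hM, S.isom u hu]
  -- `M` is a similitude
  obtain ⟨m, hm⟩ : ∃ m : F, ∀ a a', T.fA (M a) (M a') = m * T.fA a a' := by
    let X : A →ₗ[F] A := M.toLinearMap ∘ₗ T.C z ∘ₗ ((u⁻¹ : V ≃ₗ[F] V) : V →ₗ[F] V) ∘ₗ T.tau.flip e
    obtain ⟨k, hk⟩ := S.frame z hz hz0 X (by
      obtain ⟨t, ht, htx⟩ := S.tv z hz 1 (map_one σ)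
      refine ⟨u * t * u⁻¹, mul_mem (mul_mem hu ht) (inv_mem hu), fun x => ?_⟩
      show u (t (u⁻¹ x)) = x + T.tau (X (T.C z x)) z
      rw [htx]
      show u (u⁻¹ x + (1 : F) • T.tau (T.C z (u⁻¹ x)) z) = _
      rw [one_smul, map_add, huu, hM]
      congr 3
      show M (T.C z (u⁻¹ x)) = M (T.C z (u⁻¹ (T.tau (T.C z x) e)))
      congr 1
      rw [← sub_eq_zero, ← map_sub, ← map_sub]
      refine hT.C_eq_zero fun a => ?_
      have : T.C z (x - T.tau (T.C z x) e) = 0 := by rw [map_sub, hT.C_tau, he, one_smul, sub_self]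
      rw [← S.isom u hu, huu, hM, hT.form_C, this, map_zero, LinearMap.zero_apply])
    refine ⟨k, fun a a' => ?_⟩
    have h1 : T.fA (T.C z (u⁻¹ (T.tau a e))) a' = T.fA a (M a') := by
      rw [← hCz, huu, hT.C_tau, he, one_smul]
    have h2 : M (T.C z (u⁻¹ (T.tau a e))) = k • a := hk a
    -- `T.C z (u⁻¹ (a ⊗ e))` is the adjoint
    have h3 : T.C z (u⁻¹ (T.tau (M a) e)) = k • a := M.injective (by
      rw [map_smul]; exact hk (M a))
    have h4 : T.fA (T.C z (u⁻¹ (T.tau (M a) e))) a' = T.fA (M a) (M a') := by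
      rw [← hCz, huu, hT.C_tau, he, one_smul]
    rw [← h4, h3, map_smul, LinearMap.smul_apply, smul_eq_mul]
  have hm0 : m ≠ 0 := by
    rintro rfl
    obtain ⟨a, ha⟩ := exists_ne (0 : A)
    refine ha (M.injective ?_)
    rw [map_zero]
    exact hT.nondegA _ fun y => by
      obtain ⟨y', rfl⟩ := M.surjective y
      rw [hm, zero_mul]
  have hCzero : ∀ x, T.C z x = 0 → T.C z (u x) = 0 := fun x hx => hT.nondegA _ fun y => by
    obtain ⟨a, rfl⟩ := M.surjective y
    rw [hCz, hx, map_zero, LinearMap.zero_apply]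
  have hCzero' : ∀ x, T.C z x = 0 → T.C z (u⁻¹ x) = 0 := fun x hx => hT.nondegA _ fun y => by
    rw [← hCz, huu, hx, map_zero, LinearMap.zero_apply]
  -- blocks on `z⊥` modulo the pencil
  have hblock : ∀ w, T.fB w z = 0 → ∀ w', T.fB w' z = 0 →
      ∃ k : F, ∀ a, T.C w (u (T.tau a w')) = k • M a := by
    intro w hwz w' hw'z
    obtain ⟨κ, s, hs, hsx⟩ := S.ev z hz w hwz
    -- `q = s u⁻¹ s⁻¹ u`
    have hq := mul_mem (mul_mem (mul_mem hs (inv_mem hu)) (inv_mem hs)) hu
    have hsinv : ∀ y, T.C z y = 0 → s⁻¹ y = y - T.tau (T.C w y) z := by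
      intro y hy
      apply s.injective
      rw [LinearEquiv.coe_inv, LinearEquiv.apply_symm_apply, map_sub, hsx, hsx]
      simp [hT.C_tau, hz, hT.B_flip_zero hwz, hy]
    have hqx : ∀ x, T.C z x = 0 → (s * u⁻¹ * s⁻¹ * u) x =
        x + T.tau (T.C w x - M.symm (T.C w (u x))) z := by
      intro x hx
      show s (u⁻¹ (s⁻¹ (u x))) = _
      rw [hsinv _ (hCzero x hx), map_sub, hMinv]
      have e1 : u⁻¹ (u x) = x := by rw [LinearEquiv.coe_inv, LinearEquiv.symm_apply_apply]
      rw [e1, map_sub, hsx, hsx]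
      simp [hT.C_tau, hz, hT.B_flip_zero hwz, hx, map_sub]
      abel
    obtain ⟨k, hk⟩ := S.qlem _ hq z hz hz0
      (fun a => by
        rw [hqx _ (by rw [hT.C_tau, hz, zero_smul]), hM, hT.C_tau, hT.C_tau, hT.B_flip_zero hwz]
        simp)
      (fun x hx => ⟨_, hqx x hx⟩) w' hw'z
    refine ⟨T.fB w' w - k, fun a => ?_⟩
    have h1 := hk a
    rw [hqx _ (by rw [hT.C_tau, hw'z, zero_smul]), ← LinearMap.smul_apply, ← map_smul] at h1
    have h2 := hT.tau_left_inj hz0 (add_left_cancel h1)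
    rw [hT.C_tau, sub_eq_iff_eq_add] at h2
    have h3 := congrArg M h2
    rw [map_add, map_smul, map_smul, LinearEquiv.apply_symm_apply] at h3
    linear_combination (norm := module) -h3
  obtain ⟨a₀, ha₀⟩ := exists_ne (0 : A)
  obtain ⟨c₀, hc₀⟩ : ∃ c, T.fA (M a₀) c ≠ 0 := by
    by_contra h
    simp only [not_exists, not_not] at h
    exact ha₀ (M.injective ((hT.nondegA _ h).trans (map_zero M).symm))
  -- the vectors with pure images
  let Gd : Submodule F B :=
    { carrier := {b | ∃ b', ∀ a, u (T.tau a b) = T.tau (M a) b'}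
      add_mem' := by
        rintro x y ⟨x', hx'⟩ ⟨y', hy'⟩
        exact ⟨x' + y', fun a => by simp [hx', hy']⟩
      zero_mem' := ⟨0, fun a => by simp⟩
      smul_mem' := by
        rintro k x ⟨x', hx'⟩
        exact ⟨k • x', fun a => by simp [hx']⟩ }
  have hzGd : z ∈ Gd := ⟨z, hM⟩
  -- an image killed by `z⊥` up to a pure part
  have hmain : ∀ b, (∀ w, T.fB w z = 0 → ∃ k : F, ∀ a, T.C w (u (T.tau a b)) = k • M a) →
      ∃ (b' : B) (Y : A →ₗ[F] A), (∀ a, u (T.tau a b) = T.tau (M a) b' + T.tau (Y a) z) ∧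
        ∀ w, T.fB w z = 0 → T.C w (u (T.tau a₀ b)) = T.fB b' w • M a₀ := by
    intro b hb
    let φ : B →ₗ[F] F :=
      { toFun := fun w => σ (T.form (u (T.tau a₀ b)) (T.tau c₀ w) / T.fA (M a₀) c₀)
        map_add' := fun w w' => by simp only [map_add, add_div]
        map_smul' := fun k w => by
          simp only [map_smul, map_smulₛₗ, smul_eq_mul, RingHom.id_apply, mul_div_assoc, map_mul, hT.invol] }
    obtain ⟨b', hb'⟩ := exists_repr hT.invol T.fB hT.nondegB (-φ)
    have hbw : ∀ w, T.fB b' w = T.form (u (T.tau a₀ b)) (T.tau c₀ w) / T.fA (M a₀) c₀ := fun w => by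
      rw [hT.skewB, hb']
      show -σ (-(σ _)) = _
      rw [map_neg, hT.invol, neg_neg]
    have hk : ∀ w, T.fB w z = 0 → ∀ a, T.C w (u (T.tau a b)) = T.fB b' w • M a := by
      intro w hw
      obtain ⟨k, hk⟩ := hb w hw
      intro a
      rw [hk, hbw, hT.form_C, hk, map_smul, LinearMap.smul_apply, smul_eq_mul, mul_div_assoc,
        div_self hc₀, mul_one]
    let Y : A →ₗ[F] A :=
      -(T.C e ∘ₗ ((u : V →ₗ[F] V) ∘ₗ T.tau.flip b - T.tau.flip b' ∘ₗ M.toLinearMap))
    refine ⟨b', Y, fun a => ?_, fun w hw => hk w hw a₀⟩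
    obtain ⟨a', ha'⟩ := hT.mem_pen_of_C hz0 (x := u (T.tau a b) - T.tau (M a) b') fun w hw => by
      rw [map_sub, hk w hw, hT.C_tau, sub_self]
    have : Y a = a' := by
      show -(T.C e (u (T.tau a b) - T.tau (M a) b')) = a'
      rw [← ha', LinearMap.flip_apply, hT.C_tau, he']; simp
    rw [this]
    show _ = _ + T.tau.flip z a'
    rw [ha', add_sub_cancel]
  -- conjugates of pure elements of `A`
  have hconj : ∀ g ∈ Gen, ∃ G ∈ H, ∃ q ∈ H, (∀ a b, G (T.tau a b) = T.tau (M (g (M.symm a))) b) ∧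
      (∀ k : V ≃ₗ[F] V, (∀ a b, k (T.tau a b) = T.tau (g a) b) → ∀ x, q (G (u x)) = u (k x)) := by
    intro g hg
    obtain ⟨k, hk, hkx⟩ := S.gen_mem g hg
    obtain ⟨G, hG, hGx⟩ := S.gen_mem _ (S.gen_conj M m hm g hg)
    refine ⟨G, hG, u * k * u⁻¹ * G⁻¹, mul_mem (mul_mem (mul_mem hu hk) (inv_mem hu)) (inv_mem hG),
      fun a b => hGx a b, fun k' hk' x => ?_⟩
    show u (k (u⁻¹ (G⁻¹ (G (u x))))) = _
    rw [LinearEquiv.coe_inv, LinearEquiv.coe_inv, LinearEquiv.symm_apply_apply,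
      LinearEquiv.symm_apply_apply]
    congr 1
    exact LinearMap.congr_fun (hT.ext_tau (f := (k : V →ₗ[F] V)) (g := (k' : V →ₗ[F] V))
      fun a b => (hkx a b).trans (hk' a b).symm) x
  have hdiff : ∀ Y : A →ₗ[F] A,
      (∀ g ∈ Gen, ∃ k : F, ∀ a, Y (g a) - M (g (M.symm (Y a))) = k • M (g a)) →
      ∃ η : F, ∀ a, Y a = η • M a := by
    intro Y hY
    obtain ⟨η, hη⟩ := S.diff (M.symm.toLinearMap ∘ₗ Y) fun g hg => by
      obtain ⟨k, hk⟩ := hY g hg
      refine ⟨k, fun a => M.injective ?_⟩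
      show M (M.symm (Y (g a)) - g (M.symm (Y a))) = M (k • g a)
      rw [map_sub, map_smul, LinearEquiv.apply_symm_apply, hk]
    refine ⟨η, fun a => M.symm.injective ?_⟩
    rw [map_smul, LinearEquiv.symm_apply_apply]
    exact hη a
  have hG0 : ∀ g : A ≃ₗ[F] A, ∀ G : V ≃ₗ[F] V, (∀ a b, G (T.tau a b) = T.tau (M (g (M.symm a))) b) →
      ∀ y, T.C z (G y) = M (g (M.symm (T.C z y))) := fun g G hG y => LinearMap.congr_fun
    (hT.ext_tau (f := T.C z ∘ₗ (G : V →ₗ[F] V))
      (g := (M.toLinearMap ∘ₗ g.toLinearMap ∘ₗ M.symm.toLinearMap) ∘ₗ T.C z)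
      fun a b => by simp [hG, hT.C_tau]) y
  -- blocks for all of `z⊥`
  have hb : ∀ b, T.fB b z = 0 → ∀ w, T.fB w z = 0 → ∃ k : F, ∀ a, T.C w (u (T.tau a b)) = k • M a :=
    fun b hb w hw => hblock w hw b hb
  have hperpImg : ∀ b, T.fB b z = 0 → b ∈ Gd := by
    intro b hbz
    obtain ⟨b', Y, hY, -⟩ := hmain b (hb b hbz)
    have hb'z : T.fB b' z = 0 := by
      have h1 := hCzero (T.tau a₀ b) (by rw [hT.C_tau, hbz, zero_smul])
      rw [hY, map_add, hT.C_tau, hT.C_tau, hz, zero_smul, add_zero, smul_eq_zero] at h1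
      exact h1.resolve_right fun h => ha₀ (M.injective (h.trans (map_zero M).symm))
    obtain ⟨η, hη⟩ := hdiff Y fun g hg => by
      obtain ⟨G, hG, q, hq, hGx, hqx⟩ := hconj g hg
      obtain ⟨k, hk, hkx⟩ := S.gen_mem g hg
      have hqz : ∀ c, q (T.tau c z) = T.tau c z := fun c => by
        have h2 := hqx k hkx (T.tau (g.symm (M.symm c)) z)
        rw [hkx, hM, hM, hGx] at h2
        simpa using h2
      have hQ : ∀ x, T.C z x = 0 → ∃ c, q x = x + T.tau c z := by
        intro x hx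
        obtain ⟨y, rfl⟩ : ∃ y, G (u y) = x := ⟨u⁻¹ (G⁻¹ x), by
          rw [huu, LinearEquiv.coe_inv, LinearEquiv.apply_symm_apply]⟩
        rw [hG0 g G hGx] at hx
        have hy : T.C z y = 0 := by
          have h3 : T.C z (u y) = 0 := M.symm.injective (g.injective (M.injective (by simpa using hx)))
          have h4 := hCzero' _ h3
          rwa [LinearEquiv.coe_inv, LinearEquiv.symm_apply_apply] at h4
        refine hT.perp_induction hz0 (p := fun y => ∃ c, q (G (u y)) = G (u y) + T.tau c z)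
          ⟨0, by simp⟩ ?_ (fun a d hd => ?_) hy
        · rintro x x' ⟨c, hc⟩ ⟨c', hc'⟩
          refine ⟨c + c', ?_⟩
          simp only [map_add, LinearMap.add_apply, hc, hc']
          abel
        · obtain ⟨d', Yd, hYd, -⟩ := hmain d (hb d hd)
          refine ⟨Yd (g a) - M (g (M.symm (Yd a))), ?_⟩
          rw [hqx k hkx, hkx, hYd, hYd, map_add, hGx, hGx, map_sub, LinearMap.sub_apply]
          simp
      obtain ⟨κ, hκ⟩ := S.qlem q hq z hz hz0 hqz hQ b' hb'z
      refine ⟨κ, fun a => ?_⟩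
      have h2 := hqx k hkx (T.tau a b)
      rw [hkx, hY, hY, map_add, hGx, hGx, map_add, hqz, hκ, LinearEquiv.symm_apply_apply,
        ← LinearMap.smul_apply, ← map_smul, add_assoc] at h2
      have h5 : T.tau (κ • M (g a) + M (g (M.symm (Y a)))) z = T.tau (Y (g a)) z := by
        rw [map_add, LinearMap.add_apply]
        exact add_left_cancel h2
      rw [← hT.tau_left_inj hz0 h5]
      abel
    exact ⟨b' + η • z, fun a => by rw [hY, hη]; simp⟩
  have hGuniq : ∀ b, b ∈ Gd → ∀ b', (∀ a, u (T.tau a b) = T.tau (M a) b') →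
      ∀ b'', (∀ a, u (T.tau a b) = T.tau (M a) b'') → b' = b'' := fun b _ b' h b'' h' =>
    hT.tau_right_inj (fun e' => ha₀ (M.injective (e'.trans (map_zero M).symm)))
      ((h a₀).symm.trans (h' a₀))
  let Zp : Submodule F B :=
    { carrier := {b | T.fB b z = 0}
      add_mem' := fun {x y} hx hy => by simp_all
      zero_mem' := by simp
      smul_mem' := fun c x hx => by simp_all }
  -- the pure part is onto on `z⊥`
  have hsurj : ∀ w, T.fB w z = 0 → ∃ b, T.fB b z = 0 ∧ ∀ a, u (T.tau a b) = T.tau (M a) w := by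
    choose f hf using fun b : Zp => hperpImg b.1 b.2
    have hfz : ∀ b : Zp, f b ∈ Zp := fun b => by
      have h1 := hCzero (T.tau a₀ b.1) (by rw [hT.C_tau, b.2, zero_smul])
      rw [hf, hT.C_tau, smul_eq_zero] at h1
      exact h1.resolve_right fun h => ha₀ (M.injective (h.trans (map_zero M).symm))
    let L : Zp →ₗ[F] Zp :=
      { toFun := fun b => ⟨f b, hfz b⟩
        map_add' := fun x y => Subtype.ext
          (hGuniq _ (hperpImg _ (x + y).2) _ (hf _) _ fun a => by simp [hf])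
        map_smul' := fun c x => Subtype.ext
          (hGuniq _ (hperpImg _ (c • x).2) _ (hf _) _ fun a => by simp [hf]) }
    have hLinj : Function.Injective L := fun x y h => Subtype.ext (hT.tau_right_inj ha₀ (u.injective (by
      show u (T.tau a₀ x.1) = u (T.tau a₀ y.1)
      rw [hf, hf]
      exact congrArg (fun v : Zp => T.tau (M a₀) v.1) h)))
    intro w hw
    obtain ⟨b, hb'⟩ := LinearMap.injective_iff_surjective.1 hLinj ⟨w, hw⟩
    exact ⟨b.1, b.2, fun a => by rw [hf, show f b = w from congrArg Subtype.val hb']⟩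
  -- the image of the partner
  have heGd : e ∈ Gd := by
    obtain ⟨b', Y, hY, -⟩ := hmain e fun w hw => by
      obtain ⟨b, -, hb⟩ := hsurj w hw
      refine ⟨m⁻¹ * T.fB e b, fun a => sub_eq_zero.1 (hT.nondegA _ fun c => ?_)⟩
      obtain ⟨a', rfl⟩ := M.surjective c
      rw [map_sub, LinearMap.sub_apply, ← hT.form_C, ← hb, S.isom u hu, hT.form_tau, map_smul,
        LinearMap.smul_apply, hm, smul_eq_mul]
      field_simp
      ring
    have hβ : T.fB b' z ≠ 0 := fun h0 => by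
      obtain ⟨x, hx⟩ : ∃ x, T.fA a₀ x ≠ 0 := by
        by_contra h
        simp only [not_exists, not_not] at h
        exact ha₀ (hT.nondegA _ h)
      have h1 := hCz (T.tau a₀ e) x
      rw [hY, map_add, hT.C_tau, hT.C_tau, hz, h0, hT.C_tau, he] at h1
      simp only [zero_smul, add_zero, map_zero, LinearMap.zero_apply, one_smul] at h1
      exact hx h1.symm
    obtain ⟨η, hη⟩ := hdiff Y fun g hg => by
      obtain ⟨G, hG, q, hq, hGx, hqx⟩ := hconj g hg
      obtain ⟨k, hk, hkx⟩ := S.gen_mem g hg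
      have hfixperp : ∀ x, T.C z x = 0 → q x = x := by
        intro x hx
        refine hT.perp_induction hz0 (p := fun x => q x = x) (map_zero q)
          (fun x y hx hy => by rw [map_add, hx, hy]) (fun a d hd => ?_) hx
        obtain ⟨d₀, -, hd₀⟩ := hsurj d hd
        have h2 := hqx k hkx (T.tau (g.symm (M.symm a)) d₀)
        rw [hkx, hd₀, hd₀, hGx] at h2
        simpa using h2
      let X : A →ₗ[F] A := (T.fB b' z)⁻¹ •
        ((Y ∘ₗ g.toLinearMap - M.toLinearMap ∘ₗ g.toLinearMap ∘ₗ M.symm.toLinearMap ∘ₗ Y) ∘ₗ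
          g.symm.toLinearMap ∘ₗ M.symm.toLinearMap)
      have hqz : ∀ c, q (T.tau c z) = T.tau c z := fun c =>
        hfixperp _ (by rw [hT.C_tau, hz, zero_smul])
      have hqe : ∀ c, q (T.tau c b') = T.tau c b' + T.tau ((T.fB b' z) • X c) z := by
        intro c
        obtain ⟨a, rfl⟩ : ∃ a, M (g a) = c := ⟨g.symm (M.symm c), by simp⟩
        have h2 := hqx k hkx (T.tau a e)
        rw [hkx, hY, hY, map_add, hGx, hGx, map_add, hqz, LinearEquiv.symm_apply_apply] at h2
        have hX : (T.fB b' z) • X (M (g a)) = Y (g a) - M (g (M.symm (Y a))) := by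
          simp [X, smul_smul, mul_inv_cancel₀ hβ]
        rw [hX, map_sub, LinearMap.sub_apply]
        rw [← add_right_inj, ← sub_eq_zero] at h2 ⊢
        linear_combination (norm := module) h2
      obtain ⟨κ, hκ⟩ := S.frame z hz hz0 X ⟨q, hq, fun x => by
        have h3 : q (x - T.tau ((T.fB b' z)⁻¹ • T.C z x) b') = x - T.tau ((T.fB b' z)⁻¹ • T.C z x) b' :=
          hfixperp _ (by rw [map_sub, hT.C_tau, smul_smul, mul_inv_cancel₀ hβ, one_smul, sub_self])
        rw [map_sub, hqe, map_smul X, smul_smul, mul_inv_cancel₀ hβ, one_smul] at h3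
        linear_combination (norm := module) h3⟩
      refine ⟨T.fB b' z * κ, fun a => ?_⟩
      have h4 := hκ (M (g a))
      simp [X] at h4
      rw [← smul_smul, ← h4, smul_smul, mul_inv_cancel₀ hβ, one_smul]
    exact ⟨b' + η • z, fun a => by rw [hY, hη]; simp⟩
  have htop : ∀ b, b ∈ Gd := fun b => by
    have := Gd.add_mem (hperpImg (b - T.fB b z • e) (by simp [he])) (Gd.smul_mem (T.fB b z) heGd)
    rwa [sub_add_cancel] at this
  choose f hf using htop
  exact ⟨M.toLinearMap,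
    { toFun := f
      map_add' := fun x y => hGuniq _ ⟨_, hf _⟩ _ (hf _) _ fun a => by simp [hf]
      map_smul' := fun c x => hGuniq _ ⟨_, hf _⟩ _ (hf _) _ fun a => by simp [hf] }, fun a b => hf b a⟩

end StabCore

namespace StabHyp

variable {T : Sys F A B V σ} {ε : F} {H : Subgroup (V ≃ₗ[F] V)} {Gen : Set (A ≃ₗ[F] A)}
variable [Finite F] [FiniteDimensional F A] [FiniteDimensional F B]

/-- an element of `H` stabilising the pencil of a singular `z` is pure -/
theorem isKron (S : StabHyp T ε H Gen) {u : V ≃ₗ[F] V} (hu : u ∈ H) {z : B} (hz : T.fB z z = 0)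
    (hz0 : z ≠ 0) (hfix : ∀ a, u (T.tau a z) ∈ pen T z) (hA : Nontrivial A) : IsKron T u :=
  S.core.isKron hu hz hz0 hfix hA

end StabHyp

end CfsgLib.MaxSub.TForm
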