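import Mathlib

/-!
Tensor products of two reflexive sesquilinear spaces, abstractly: pencils `A ⊗ z`, contractions, root and
Eichler maps. Used for the maximality of tensor-product stabilisers in the classical groups.
-/

set_option autoImplicit false
set_option linter.unusedSectionVars false

namespace CfsgLib.MaxSub.TForm

open Module

/-- The data of a tensor product of forms: `tau` the product map, `C w` the contraction by `fB (·, w)`,
`C' x` the contraction by `fA (·, x)`. -/
structure Sys (F A B V : Type*) [Field F] [AddCommGroup A] [Module F A] [AddCommGroup B] [Module F B]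
    [AddCommGroup V] [Module F V] (σ : F →+* F) where
  tau : A →ₗ[F] B →ₗ[F] V
  fA : A →ₗ[F] A →ₛₗ[σ] F
  fB : B →ₗ[F] B →ₛₗ[σ] F
  form : V →ₗ[F] V →ₛₗ[σ] F
  C : B → V →ₗ[F] A
  C' : A → V →ₗ[F] B

variable {F A B V : Type*} [Field F] [AddCommGroup A] [Module F A] [AddCommGroup B] [Module F B]
  [AddCommGroup V] [Module F V] {σ : F →+* F}

/-- The axioms: `fA` is `(σ, ε)`-Hermitian, `fB` skew-Hermitian, both non-degenerate, `form` their product. -/
structure Sys.Good (T : Sys F A B V σ) (ε : F) : Prop where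
  invol : ∀ a, σ (σ a) = a
  eps : ε ≠ 0
  hermA : ∀ x y, T.fA y x = ε * σ (T.fA x y)
  skewB : ∀ x y, T.fB y x = -σ (T.fB x y)
  nondegA : ∀ x, (∀ y, T.fA x y = 0) → x = 0
  nondegB : ∀ x, (∀ y, T.fB x y = 0) → x = 0
  form_tau : ∀ a b a' b', T.form (T.tau a b) (T.tau a' b') = T.fA a a' * T.fB b b'
  C_tau : ∀ w a b, T.C w (T.tau a b) = T.fB b w • a
  C'_tau : ∀ x a b, T.C' x (T.tau a b) = T.fA a x • b
  span : Submodule.span F (Set.range fun p : A × B => T.tau p.1 p.2) = ⊤

/-- `f` is realised in `H` -/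
def InH (H : Subgroup (V ≃ₗ[F] V)) (f : V → V) : Prop := ∃ g ∈ H, ∀ x, g x = f x

theorem InH.congr {H : Subgroup (V ≃ₗ[F] V)} {f f' : V → V} (h : InH H f) (he : ∀ x, f x = f' x) :
    InH H f' := by
  obtain ⟨g, hg, hgx⟩ := h
  exact ⟨g, hg, fun x => (hgx x).trans (he x)⟩

theorem InH.comp {H : Subgroup (V ≃ₗ[F] V)} {f f' : V → V} (h : InH H f) (h' : InH H f') :
    InH H (fun x => f (f' x)) := by
  obtain ⟨g, hg, hgx⟩ := h
  obtain ⟨g', hg', hgx'⟩ := h'
  exact ⟨g * g', mul_mem hg hg', fun x => by rw [LinearEquiv.mul_apply, hgx', hgx]⟩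

/-- a pure map `a ⊗ b ↦ M a ⊗ h b` -/
def IsKron (T : Sys F A B V σ) (f : V → V) : Prop :=
  ∃ (M : A →ₗ[F] A) (h : B →ₗ[F] B), ∀ a b, f (T.tau a b) = T.tau (M a) (h b)

/-- the pencil `A ⊗ z` -/
def pen (T : Sys F A B V σ) (z : B) : Submodule F V := LinearMap.range (T.tau.flip z)

theorem mem_pen {T : Sys F A B V σ} {z : B} {x : V} : x ∈ pen T z ↔ ∃ a, T.tau a z = x := Iff.rfl

theorem tau_mem_pen (T : Sys F A B V σ) (z : B) (a : A) : T.tau a z ∈ pen T z := ⟨a, rfl⟩

theorem exists_repr {M : Type*} [AddCommGroup M] [Module F M] [FiniteDimensional F M]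
    (hσ : ∀ a, σ (σ a) = a) (f : M →ₗ[F] M →ₛₗ[σ] F) (hf : ∀ x, (∀ y, f x y = 0) → x = 0)
    (φ : M →ₗ[F] F) : ∃ w, ∀ b, f b w = φ b := by
  let S : Submodule F (Module.Dual F M) :=
    { carrier := {ψ | ∃ w, ∀ b, f b w = ψ b}
      add_mem' := by
        rintro ψ ψ' ⟨w, hw⟩ ⟨w', hw'⟩
        exact ⟨w + w', fun b => by simp [hw, hw']⟩
      zero_mem' := ⟨0, fun b => by simp⟩
      smul_mem' := by
        rintro k ψ ⟨w, hw⟩
        exact ⟨σ k • w, fun b => by simp [hw, hσ]⟩ }
  suffices S = ⊤ by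
    have hφ : φ ∈ S := by rw [this]; trivial
    exact hφ
  by_contra hne
  obtain ⟨χ, hχ0, hχ⟩ := Submodule.exists_le_ker_of_lt_top S (lt_of_le_of_ne le_top hne)
  let b := (Module.evalEquiv F M).symm χ
  have hb : ∀ ψ : Module.Dual F M, ψ b = χ ψ := fun ψ => by simp [b]
  have : b = 0 := hf b fun y => by
    let ψ : Module.Dual F M :=
      { toFun := fun c => f c y
        map_add' := fun c c' => by simp
        map_smul' := fun k c => by simp }
    have : χ ψ = 0 := hχ ⟨y, fun c => rfl⟩
    rwa [← hb ψ] at this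
  exact hχ0 (LinearMap.ext fun ψ => by rw [← hb ψ, this, map_zero, LinearMap.zero_apply])

namespace Sys.Good

variable {T : Sys F A B V σ} {ε : F}

theorem induction (hT : T.Good ε) {p : V → Prop} (h0 : p 0) (hadd : ∀ x y, p x → p y → p (x + y))
    (htau : ∀ a b, p (T.tau a b)) (x : V) : p x := by
  have hx : x ∈ Submodule.span F (Set.range fun q : A × B => T.tau q.1 q.2) := by
    rw [hT.span]; trivial
  suffices ∀ c : F, p (c • x) by simpa using this 1
  induction hx using Submodule.span_induction with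
  | mem y hy =>
      obtain ⟨q, rfl⟩ := hy
      intro c
      rw [← LinearMap.smul_apply, ← map_smul]
      exact htau _ _
  | zero => intro c; rw [smul_zero]; exact h0
  | add a b _ _ ha hb => intro c; rw [smul_add]; exact hadd _ _ (ha c) (hb c)
  | smul k a _ ha => intro c; rw [smul_smul]; exact ha _

theorem ext_tau (hT : T.Good ε) {W : Type*} [AddCommGroup W] [Module F W] {τ' : F →+* F}
    {f g : V →ₛₗ[τ'] W} (h : ∀ a b, f (T.tau a b) = g (T.tau a b)) : f = g :=
  LinearMap.ext fun x => hT.induction (p := fun x => f x = g x) (by simp)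
    (fun x y hx hy => by rw [map_add, map_add, hx, hy]) h x

theorem sigma_one (_hT : T.Good ε) : σ 1 = 1 := map_one σ

theorem A_flip_zero (hT : T.Good ε) {x y : A} (h : T.fA x y = 0) : T.fA y x = 0 := by
  rw [hT.hermA, h, map_zero, mul_zero]

theorem B_flip_zero (hT : T.Good ε) {x y : B} (h : T.fB x y = 0) : T.fB y x = 0 := by
  rw [hT.skewB, h, map_zero, neg_zero]

theorem form_C (hT : T.Good ε) (y : V) (a : A) (w : B) :
    T.form y (T.tau a w) = T.fA (T.C w y) a := by
  refine hT.induction (p := fun y => T.form y (T.tau a w) = T.fA (T.C w y) a) (by simp)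
    (fun x x' hx hx' => by simp [hx, hx']) (fun c b => ?_) y
  rw [hT.form_tau, hT.C_tau, map_smul, LinearMap.smul_apply, smul_eq_mul, mul_comm]

theorem form_C' (hT : T.Good ε) (y : V) (a : A) (w : B) :
    T.form y (T.tau a w) = T.fB (T.C' a y) w := by
  refine hT.induction (p := fun y => T.form y (T.tau a w) = T.fB (T.C' a y) w) (by simp)
    (fun x x' hx hx' => by simp [hx, hx']) (fun c b => ?_) y
  rw [hT.form_tau, hT.C'_tau, map_smul, LinearMap.smul_apply, smul_eq_mul]

theorem form_flip_zero (hT : T.Good ε) {x y : V} (h : T.form x y = 0) : T.form y x = 0 := by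
  have key : ∀ x y, T.form y x = -(ε * σ (T.form x y)) := by
    intro x y
    refine hT.induction (p := fun x => T.form y x = -(ε * σ (T.form x y))) (by simp)
      (fun a b ha hb => by simp only [map_add, LinearMap.add_apply, ha, hb]; ring) (fun a b => ?_) x
    refine hT.induction
      (p := fun y => T.form y (T.tau a b) = -(ε * σ (T.form (T.tau a b) y))) (by simp)
      (fun u u' hu hu' => by simp only [map_add, LinearMap.add_apply, hu, hu']; ring)
      (fun a' b' => ?_) y
    rw [hT.form_tau, hT.form_tau, hT.hermA a a', hT.skewB b b', map_mul]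
    ring
  rw [key, h, map_zero, mul_zero, neg_zero]

theorem C_add (hT : T.Good ε) (w w' : B) : T.C (w + w') = T.C w + T.C w' :=
  hT.ext_tau fun a b => by simp [hT.C_tau, add_smul]

theorem C_smul (hT : T.Good ε) (k : F) (w : B) : T.C (k • w) = σ k • T.C w :=
  hT.ext_tau fun a b => by simp [hT.C_tau, mul_smul]

theorem C_tau_perp (hT : T.Good ε) {z b : B} (a : A) (h : T.fB b z = 0) : T.C z (T.tau a b) = 0 := by
  rw [hT.C_tau, h, zero_smul]

theorem C_eq_zero (hT : T.Good ε) {w : B} {y : V} (h : ∀ a, T.form y (T.tau a w) = 0) :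
    T.C w y = 0 :=
  hT.nondegA _ fun a => by rw [← hT.form_C]; exact h a

theorem form_nondeg (hT : T.Good ε) {y : V} (h : ∀ a b, T.form y (T.tau a b) = 0) :
    ∀ x, T.form y x = 0 :=
  fun x => hT.induction (p := fun x => T.form y x = 0) (by simp)
    (fun a b ha hb => by rw [map_add, ha, hb, add_zero]) h x

theorem tau_left_inj (hT : T.Good ε) {z : B} (hz : z ≠ 0) : Function.Injective fun a => T.tau a z := by
  obtain ⟨e, he⟩ : ∃ e, T.fB z e ≠ 0 := by
    by_contra h
    simp only [not_exists, not_not] at h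
    exact hz (hT.nondegB z h)
  intro a a' h
  have := congrArg (T.C e) h
  simp only [hT.C_tau] at this
  exact smul_right_injective A he this

theorem exists_partner (hT : T.Good ε) {z : B} (hz : z ≠ 0) : ∃ e, T.fB e z = 1 ∧ T.fB z e = -1 := by
  obtain ⟨e, he⟩ : ∃ e, T.fB z e ≠ 0 := by
    by_contra h
    simp only [not_exists, not_not] at h
    exact hz (hT.nondegB z h)
  have h1 : T.fB e z ≠ 0 := fun h => he (hT.B_flip_zero h)
  refine ⟨(T.fB e z)⁻¹ • e, ?_, ?_⟩
  · rw [map_smul, LinearMap.smul_apply, smul_eq_mul, inv_mul_cancel₀ h1]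
  · rw [hT.skewB ((T.fB e z)⁻¹ • e) z, map_smul, LinearMap.smul_apply, smul_eq_mul,
      inv_mul_cancel₀ h1, map_one]

theorem C_nondeg (hT : T.Good ε) [FiniteDimensional F B] {y : V} (h : ∀ w, T.C w y = 0) : y = 0 := by
  classical
  let d := Module.finBasis F B
  obtain ⟨a, ha⟩ : ∃ a : Fin (finrank F B) → A, y = ∑ i, T.tau (a i) (d i) := by
    refine hT.induction (p := fun y => ∃ a : Fin (finrank F B) → A, y = ∑ i, T.tau (a i) (d i))
      ⟨0, by simp⟩ ?_ (fun u b => ⟨fun i => d.repr b i • u, ?_⟩) y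
    · rintro x x' ⟨a, rfl⟩ ⟨a', rfl⟩
      exact ⟨a + a', by simp [Finset.sum_add_distrib]⟩
    · simp only [map_smul, LinearMap.smul_apply]
      simp only [← map_smul, ← map_sum]
      rw [d.sum_repr]
  have hzero : ∀ i, a i = 0 := by
    intro i
    obtain ⟨w, hw⟩ := exists_repr hT.invol T.fB hT.nondegB (d.coord i)
    have := h w
    rw [ha, map_sum] at this
    simp only [hT.C_tau, hw, Basis.coord_apply, Basis.repr_self, Finsupp.single_apply] at this
    simpa using this
  rw [ha]
  simp [hzero]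

theorem mem_pen_of_C (hT : T.Good ε) [FiniteDimensional F B] {z : B} (hz : z ≠ 0) {x : V}
    (h : ∀ w, T.fB w z = 0 → T.C w x = 0) : x ∈ pen T z := by
  obtain ⟨e, he, he'⟩ := hT.exists_partner hz
  refine ⟨-T.C e x, ?_⟩
  refine (sub_eq_zero.1 (hT.C_nondeg fun w => ?_)).symm
  have h1 := h (w - T.fB w z • e) (by simp [he])
  rw [sub_eq_add_neg, ← neg_smul, hT.C_add, hT.C_smul, LinearMap.add_apply, LinearMap.smul_apply] at h1
  have h2 : T.fB z w = -σ (T.fB w z) := hT.skewB w z
  show T.C w (x - T.tau (-T.C e x) z) = 0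
  rw [map_sub, hT.C_tau, h2]
  rw [map_neg] at h1
  linear_combination (norm := module) h1

/-- a vector orthogonal to the pencil of `z` is a combination of pure tensors over `z⊥` -/
theorem perp_induction (hT : T.Good ε) {z : B} (hz : z ≠ 0) {p : V → Prop}
    (h0 : p 0) (hadd : ∀ x y, p x → p y → p (x + y)) (htau : ∀ a b, T.fB b z = 0 → p (T.tau a b))
    {x : V} (hx : T.C z x = 0) : p x := by
  obtain ⟨e, he, -⟩ := hT.exists_partner hz
  suffices p (x - T.tau (T.C z x) e) by rwa [hx, map_zero, LinearMap.zero_apply, sub_zero] at this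
  refine hT.induction (p := fun x => p (x - T.tau (T.C z x) e)) (by simpa using h0) (fun u v hu hv => ?_)
    (fun a b => ?_) x
  · have := hadd _ _ hu hv
    convert this using 1
    simp only [map_add, LinearMap.add_apply]
    abel
  · have := htau a (b - T.fB b z • e) (by simp [he])
    convert this using 1
    simp [hT.C_tau]

theorem tau_right_inj (hT : T.Good ε) {a : A} (ha : a ≠ 0) : Function.Injective fun b => T.tau a b := by
  obtain ⟨x, hx⟩ : ∃ x, T.fA a x ≠ 0 := by
    by_contra h
    simp only [not_exists, not_not] at h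
    exact ha (hT.nondegA a h)
  intro b b' h
  have := congrArg (T.C' x) h
  simp only [hT.C'_tau] at this
  exact smul_right_injective B hx this

end Sys.Good

end CfsgLib.MaxSub.TForm
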