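import Cfsg.Agent.Lib.MaxSub.TFormOdd
import Cfsg.Agent.Lib.MaxSub.TFormTwo

/-!
Factors of dimensions two and three: every element of the overgroup is pure. A singular vector of the three
dimensional factor has no other singular line in its orthogonal, so the arguments of the general case are replaced:
image pencils pair non-degenerately with pencils, and an image pencil orthogonal to a pencil would contain a pure
tensor.
-/

set_option autoImplicit false
set_option linter.unusedSectionVars false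
set_option linter.unusedSimpArgs false
set_option linter.unusedVariables false
set_option linter.style.haveILetI false
set_option maxHeartbeats 1000000

namespace CfsgLib.MaxSub.TForm

open Module

variable {F A B V : Type*} [Field F] [AddCommGroup A] [Module F A] [AddCommGroup B] [Module F B]
  [AddCommGroup V] [Module F V] {σ : F →+* F}

/-- what is used of the factors of dimensions two and three -/
structure ThreeHyp (T : Sys F A B V σ) : Prop where
  dimA : finrank F A = 2
  dimB : finrank F B = 3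
  pair : ∃ v u, T.fA v v = 0 ∧ T.fA u u = 0 ∧ T.fA v u = 1 ∧ T.fA u v = 1
  perp : ∀ v, ∃ w, w ≠ 0 ∧ T.fB w w = 0 ∧ T.fB w v = 0
  trace : ∃ τ : F, τ + σ τ = 1
  root : ∀ s m : F, σ s = s → σ m = m → ∃ μ : F, μ ^ 2 + s * μ + m = 0

namespace RootCore

variable {T : Sys F A B V σ} {H : Subgroup (V ≃ₗ[F] V)} {Gen : Set (A ≃ₗ[F] A)}
variable [Finite F] [FiniteDimensional F A] [FiniteDimensional F B] [FiniteDimensional F V]

/-- a two dimensional space is spanned by a hyperbolic pair -/
theorem expand (R : RootCore T 1 H Gen) (h2 : finrank F A = 2) {v u : A} (hv : T.fA v v = 0)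
    (hu : T.fA u u = 0) (hvu : T.fA v u = 1) (huv : T.fA u v = 1) (a : A) :
    a = T.fA a u • v + T.fA a v • u := by
  have hT := R.good
  have hli : LinearIndependent F ![v, u] := by
    refine LinearIndependent.pair_iff.2 fun s t hst => ?_
    have h1 := congrArg (fun y => T.fA y v) hst
    have h2 := congrArg (fun y => T.fA y u) hst
    simp only [map_add, map_smul, map_zero, LinearMap.add_apply, LinearMap.smul_apply,
      LinearMap.zero_apply, smul_eq_mul, hv, huv, hu, hvu, mul_zero, mul_one, add_zero, zero_add] at h1 h2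
    exact ⟨h2, h1⟩
  refine sub_eq_zero.1 (hT.nondegA _ fun y => ?_)
  have hy : y ∈ Submodule.span F (Set.range ![v, u]) := by
    rw [hli.span_eq_top_of_card_eq_finrank (by simp [h2])]; trivial
  rw [Matrix.range_cons, Matrix.range_cons, Matrix.range_empty, Set.union_empty,
    Set.singleton_union, Submodule.mem_span_pair] at hy
  obtain ⟨s, t, rfl⟩ := hy
  simp [hv, hu, hvu, huv]
  ring

/-- an image pencil meeting the pencil: the two vectors have the same non-zero norm -/
theorem meet_eq (R : RootCore T 1 H Gen) [CharP F 2] (h2 : finrank F A = 2) {y : B}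
    (hy : T.fB y y = 0) (hy0 : y ≠ 0) {h : V ≃ₗ[F] V} (hh : h ∈ H) (hnk : ¬ IsKron T h) {a c : A}
    (ha0 : a ≠ 0) (hc : h (T.tau a y) = T.tau c y) : T.fA a a = T.fA c c ∧ T.fA c c ≠ 0 := by
  classical
  have hT := R.good
  obtain ⟨t, ht, htx⟩ := R.exists_tv hy
  -- the meet is the line of `a`
  have hK : ∀ r, h (T.tau r y) ∈ pen T y → ∃ μ : F, r = μ • a := by
    intro r hr
    by_contra hne
    simp only [not_exists] at hne
    have hli : LinearIndependent F ![a, r] := (LinearIndependent.pair_iff' ha0).2 fun μ hμ => hne μ hμ.symm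
    refine hnk (R.kron_of_maps hh hy hy0 (y' := y) fun d => ?_)
    have hd : d ∈ Submodule.span F (Set.range ![a, r]) := by
      rw [hli.span_eq_top_of_card_eq_finrank (by simp [h2])]; trivial
    rw [Matrix.range_cons, Matrix.range_cons, Matrix.range_empty, Set.union_empty,
      Set.singleton_union, Submodule.mem_span_pair] at hd
    obtain ⟨s, u, rfl⟩ := hd
    simp only [map_add, map_smul, LinearMap.add_apply, LinearMap.smul_apply]
    exact add_mem (Submodule.smul_mem _ _ ⟨c, hc.symm⟩) (Submodule.smul_mem _ _ hr)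
  -- prescribed pairings with the two pencils
  have hex : ∀ p r, T.fA p c = T.fA r a → ∃ e, T.C y e = p ∧ T.C y (h⁻¹ e) = r := by
    intro p r hpr
    let L : V →ₗ[F] A × A := (T.C y).prod (T.C y ∘ₗ ((h⁻¹ : V ≃ₗ[F] V) : V →ₗ[F] V))
    suffices (p, r) ∈ LinearMap.range L by
      obtain ⟨e, he⟩ := this
      exact ⟨e, congrArg Prod.fst he, congrArg Prod.snd he⟩
    by_contra hn
    obtain ⟨χ, hχ, hker⟩ := Submodule.exists_le_ker_of_notMem hn
    obtain ⟨p', hp'⟩ := exists_repr hT.invol T.fA hT.nondegA (χ ∘ₗ LinearMap.inl F A A)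
    obtain ⟨r', hr'⟩ := exists_repr hT.invol T.fA hT.nondegA (χ ∘ₗ LinearMap.inr F A A)
    have hχe : ∀ p r, χ (p, r) = T.fA p p' + T.fA r r' := fun p r => by
      rw [hp', hr']
      show χ (p, r) = χ (p, 0) + χ (0, r)
      rw [← map_add]; simp
    have h0 : T.tau p' y + h (T.tau r' y) = 0 := by
      refine hT.C_nondeg fun b => hT.C_eq_zero fun d => hT.form_flip_zero ?_
      have h1 : χ (L (T.tau d b)) = 0 := hker ⟨_, rfl⟩
      change χ (T.C y (T.tau d b), T.C y (h⁻¹ (T.tau d b))) = 0 at h1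
      rw [hχe, ← hT.form_C, ← hT.form_C, ← R.isom h hh (h⁻¹ (T.tau d b)), inv_apply] at h1
      rw [map_add]
      exact h1
    have h0' : h (T.tau r' y) = T.tau (-p') y := by
      rw [map_neg, LinearMap.neg_apply]; exact eq_neg_of_add_eq_zero_right h0
    obtain ⟨μ, rfl⟩ := hK r' ⟨-p', h0'.symm⟩
    rw [map_smul, LinearMap.smul_apply, map_smul, hc, ← LinearMap.smul_apply, ← map_smul] at h0'
    have hp : p' = -(μ • c) := by
      rw [show μ • c = -p' from hT.tau_left_inj hy0 h0', neg_neg]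
    refine hχ ?_
    rw [hχe, hp, map_neg, map_smulₛₗ, map_smulₛₗ, smul_eq_mul, smul_eq_mul, hpr]
    ring
  -- translation by the meet
  have htr : ∀ α β : F, α * T.fA c c = β * T.fA a a → α + β = 0 := by
    intro α β hαβ
    obtain ⟨e, he1, he2⟩ := hex (α • c) (β • a) (by simpa using hαβ)
    set ν := T.tau c y with hν
    have hCy : T.C y ν = 0 := by rw [hν, hT.C_tau, hy, zero_smul]
    have hte : t e = e + α • ν := by rw [htx, he1, map_smul, LinearMap.smul_apply]
    have hue : (h * t * h⁻¹) e = e + β • ν := by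
      rw [R.root_apply hh htx, he2, map_smul, LinearMap.smul_apply, map_smul, hc]
    have htν : t ν = ν := by rw [htx, hCy, map_zero, LinearMap.zero_apply, add_zero]
    have huν : (h * t * h⁻¹) ν = ν := by
      rw [R.root_apply hh htx, ← hc, inv_apply', hT.C_tau, hy, zero_smul, map_zero,
        LinearMap.zero_apply, map_zero, add_zero]
    have hpow : ∀ n : ℕ, ((t * (h * t * h⁻¹)) ^ n) e = e + ((n : F) * (α + β)) • ν := by
      intro n
      induction n with
      | zero => simp
      | succ n ih =>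
          rw [pow_succ', LinearEquiv.mul_apply, ih, LinearEquiv.mul_apply, map_add (h * t * h⁻¹),
            map_smul (h * t * h⁻¹), hue, huν, map_add t, map_add t, map_smul t, map_smul t, hte, htν,
            Nat.cast_succ]
          module
    have h1 := hpow (orderOf (t * (h * t * h⁻¹)))
    rw [pow_orderOf_eq_one] at h1
    change e = _ at h1
    rw [left_eq_add, smul_eq_zero, mul_eq_zero] at h1
    rcases h1 with (h1 | h1) | h1
    · exact absurd ((CharP.cast_eq_zero_iff F 2 _).1 h1) (R.pair_odd hy hy0 hh hnk ht htx)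
    · exact h1
    · exfalso
      rw [← hc, LinearEquiv.map_eq_zero_iff, ← map_zero (T.tau.flip y)] at h1
      exact ha0 (hT.tau_left_inj hy0 h1)
  have h1 : T.fA a a = T.fA c c :=
    CharTwo.add_eq_zero.1 (htr (T.fA a a) (T.fA c c) (by ring))
  refine ⟨h1, fun h0 => ?_⟩
  have := htr 1 0 (by simp [h0])
  simp at this

/-- in characteristic two an image pencil meets no pencil -/
theorem meet_false (R : RootCore T 1 H Gen) [CharP F 2] (h2 : finrank F A = 2) {l : F} (hl0 : l ≠ 0)
    (hl : σ l * l ≠ 1) {y w : B} (hy : T.fB y y = 0) (hy0 : y ≠ 0) (hw : T.fB w w = 0) (hw0 : w ≠ 0)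
    {h : V ≃ₗ[F] V} (hh : h ∈ H) (hnk : ¬ IsKron T h) {c : A} (hc : h⁻¹ (T.tau c w) ∈ pen T y) :
    c = 0 := by
  have hT := R.good
  by_contra hc0
  obtain ⟨a, ha⟩ := hc
  rw [LinearMap.flip_apply] at ha
  have ha' : h (T.tau a y) = T.tau c w := by rw [ha, inv_apply]
  have ha0 : a ≠ 0 := by
    rintro rfl
    rw [map_zero, LinearMap.zero_apply, map_zero, eq_comm, ← map_zero (T.tau.flip w)] at ha'
    exact hc0 (hT.tau_left_inj hw0 ha')
  obtain ⟨k, hk, f, hkf, hfy⟩ := R.trans y w hy hy0 hw hw0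
  obtain ⟨g, hg, f', hgf, hfy'⟩ := R.trans y (l • y) hy hy0 (by simp [hy]) (smul_ne_zero hl0 hy0)
  have hkK : IsKron T k := ⟨LinearMap.id, f.toLinearMap, hkf⟩
  have hgK : IsKron T g := ⟨LinearMap.id, f'.toLinearMap, hgf⟩
  have hnk₁ : ¬ IsKron T (k⁻¹ * h : V ≃ₗ[F] V) := fun h' => hnk (by
    have := kron_mul hkK h'
    rwa [mul_inv_cancel_left] at this)
  have hnk₂ : ¬ IsKron T (g⁻¹ * (k⁻¹ * h) : V ≃ₗ[F] V) := fun h' => hnk₁ (by
    have := kron_mul hgK h'
    rwa [mul_inv_cancel_left] at this)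
  have e₁ : (k⁻¹ * h : V ≃ₗ[F] V) (T.tau a y) = T.tau c y := by
    apply k.injective
    rw [LinearEquiv.mul_apply, inv_apply, ha', hkf, hfy]
  have e₂ : (g⁻¹ * (k⁻¹ * h) : V ≃ₗ[F] V) (T.tau a y) = T.tau (l⁻¹ • c) y := by
    apply g.injective
    rw [LinearEquiv.mul_apply, inv_apply, e₁, hgf, hfy']
    simp [smul_smul, mul_inv_cancel₀ hl0]
  obtain ⟨h1, h1'⟩ := R.meet_eq h2 hy hy0 (mul_mem (inv_mem hk) hh) hnk₁ ha0 e₁
  obtain ⟨h3, -⟩ := R.meet_eq h2 hy hy0 (mul_mem (inv_mem hg) (mul_mem (inv_mem hk) hh)) hnk₂ ha0 e₂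
  rw [h1] at h3
  simp only [map_smul, LinearMap.smul_apply, map_smulₛₗ, smul_eq_mul, map_inv₀] at h3
  have hσl : σ l ≠ 0 := fun e0 => hl0 (σ.injective (e0.trans (map_zero σ).symm))
  refine hl ?_
  field_simp at h3
  linear_combination h3

/-- image pencils pair non-degenerately with pencils -/
theorem pair_three_two (R : RootCore T 1 H Gen) [CharP F 2] (h2 : finrank F A = 2) {l : F} (hl0 : l ≠ 0)
    (hl : σ l * l ≠ 1) {y w : B} (hy : T.fB y y = 0) (hy0 : y ≠ 0) (hw : T.fB w w = 0) (hw0 : w ≠ 0)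
    {h : V ≃ₗ[F] V} (hh : h ∈ H) (hnk : ¬ IsKron T h) {c : A} (hc : T.C w (h (T.tau c y)) = 0) :
    c = 0 := by
  have hnk' : ¬ IsKron T (h⁻¹ : V ≃ₗ[F] V) := fun h' => hnk (by
    have := R.kron_inv (inv_mem hh) h'
    rwa [inv_inv] at this)
  refine R.ker_zero hw hw0 hy hy0 (inv_mem hh) hnk' (fun d hd => ?_) (by rwa [inv_inv])
  exact R.meet_false h2 hl0 hl hw hw0 hy hy0 (inv_mem hh) hnk' hd

/-- an image pencil orthogonal to a pencil would contain a pure tensor -/
theorem orth_false (R : RootCore T 1 H Gen) (X : ThreeHyp T) {y : B} {h : V ≃ₗ[F] V}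
    (hh : h ∈ H) (hy : T.fB y y = 0)
    (hinj : ∀ w, T.fB w w = 0 → w ≠ 0 → ∀ c, T.C w (h (T.tau c y)) = 0 → c = 0) {z : B} (hz0 : z ≠ 0)
    (hz : ∀ c, T.C z (h (T.tau c y)) = 0) : False := by
  classical
  have hT := R.good
  haveI := R.nontriv
  obtain ⟨a₀, ha₀⟩ := exists_ne (0 : A)
  have hzz : T.fB z z ≠ 0 := fun h0 => ha₀ (hinj z h0 hz0 a₀ (hz a₀))
  obtain ⟨y₁, hy₁0, hy₁, hy₁z⟩ := X.perp z
  obtain ⟨e₀, he₀, -⟩ := hT.exists_partner hy₁0
  obtain ⟨τ, hτ⟩ := X.trace
  set e₁ := e₀ - (T.fB e₀ z / T.fB z z) • z with he₁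
  have hzy₁ := hT.B_flip_zero hy₁z
  have h11 : T.fB e₁ y₁ = 1 := by simp [he₁, he₀, hzy₁]
  have h1z : T.fB e₁ z = 0 := by simp [he₁, div_mul_cancel₀ _ hzz]
  have hN : σ (T.fB e₁ e₁) = -T.fB e₁ e₁ := by
    conv_rhs => rw [hT.skewB e₁ e₁, neg_neg]
  obtain ⟨e, hee, hey, hez⟩ : ∃ e, T.fB e e = 0 ∧ T.fB e y₁ = 1 ∧ T.fB e z = 0 := by
    refine ⟨e₁ + (τ * T.fB e₁ e₁) • y₁, ?_, by simp [h11, hy₁], by simp [h1z, hy₁z]⟩
    simp only [map_add, map_smul, map_smulₛₗ, LinearMap.add_apply, LinearMap.smul_apply, smul_eq_mul,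
      hy₁, h11, show T.fB y₁ e₁ = -1 by rw [hT.skewB, h11, map_one], map_mul, hN]
    linear_combination (-T.fB e₁ e₁) * hτ
  have hye : T.fB y₁ e = -1 := by rw [hT.skewB, hey, map_one]
  -- decomposition of the image pencil
  have hdec : ∀ c, h (T.tau c y) = T.tau (T.C y₁ (h (T.tau c y))) e - T.tau (T.C e (h (T.tau c y))) y₁ := by
    intro c
    set v := h (T.tau c y) with hv
    refine sub_eq_zero.1 (hT.C_nondeg fun w => ?_)
    set v' := v - (T.tau (T.C y₁ v) e - T.tau (T.C e v) y₁) with hv'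
    let W : Submodule F B :=
      { carrier := {w | T.C w v' = 0}
        add_mem' := fun {p r} hp hr => by
          show T.C (p + r) v' = 0
          rw [hT.C_add, LinearMap.add_apply, hp, hr, add_zero]
        zero_mem' := by
          show T.C 0 v' = 0
          have := LinearMap.congr_fun (hT.C_smul 0 0) v'
          simpa using this
        smul_mem' := fun k p hp => by
          show T.C (k • p) v' = 0
          rw [hT.C_smul, LinearMap.smul_apply, hp, smul_zero] }
    have hli : LinearIndependent F ![y₁, e, z] := by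
      rw [Fintype.linearIndependent_iff]
      intro g hg i
      rw [Fin.sum_univ_three] at hg
      simp only [Matrix.cons_val_zero, Matrix.cons_val_one, Matrix.cons_val_two, Matrix.head_cons,
        Matrix.tail_cons, Matrix.cons_val] at hg
      have g1 : g 1 = 0 := by simpa [hy₁, hey, hzy₁] using congrArg (fun b => T.fB b y₁) hg
      have g0 : g 0 = 0 := by
        simpa [hye, hee, hT.B_flip_zero hez, g1] using congrArg (fun b => T.fB b e) hg
      have g2 : g 2 = 0 := by
        simpa [hy₁z, hez, hzz, g0, g1] using congrArg (fun b => T.fB b z) hg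
      fin_cases i <;> assumption
    have hw : w ∈ W := by
      have htop := hli.span_eq_top_of_card_eq_finrank (by simp [X.dimB])
      have : Submodule.span F (Set.range ![y₁, e, z]) ≤ W := by
        refine Submodule.span_le.2 ?_
        rintro _ ⟨i, rfl⟩
        fin_cases i <;> show T.C _ v' = 0 <;>
          simp [hv', hT.C_tau, hy₁, hey, hye, hee, hy₁z, hez, hz c, hv]
      exact this (by rw [htop]; trivial)
    exact hw
  -- the slope of the image pencil
  let G : A →ₗ[F] A := T.C y₁ ∘ₗ (h : V →ₗ[F] V) ∘ₗ T.tau.flip y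
  have hGinj : Function.Injective G := by
    rw [← LinearMap.ker_eq_bot, LinearMap.ker_eq_bot']
    exact fun c hc => hinj y₁ hy₁ hy₁0 c hc
  let GE := LinearEquiv.ofInjectiveEndo G hGinj
  let S : A →ₗ[F] A := -((T.C e ∘ₗ (h : V →ₗ[F] V) ∘ₗ T.tau.flip y) ∘ₗ GE.symm.toLinearMap)
  have hS : ∀ a, h (T.tau (GE.symm a) y) = T.tau a e + T.tau (S a) y₁ := fun a => by
    rw [hdec, show T.C y₁ (h (T.tau (GE.symm a) y)) = a from GE.apply_symm_apply a, sub_eq_add_neg,
      ← LinearMap.neg_apply, ← map_neg]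
    rfl
  have hadj : ∀ a a', T.fA (S a) a' = T.fA a (S a') := by
    intro a a'
    have h1 := R.isom h hh (T.tau (GE.symm a) y) (T.tau (GE.symm a') y)
    rw [hT.form_tau _ y _ y, hy, mul_zero, hS, hS] at h1
    simp only [map_add, LinearMap.add_apply, hT.form_tau, hee, hey, hye, hy₁, mul_zero, mul_one,
      mul_neg, add_zero, zero_add] at h1
    linear_combination -h1
  have hconj : ∀ a a', σ (T.fA a a') = T.fA a' a := fun a a' => by rw [hT.hermA a a', one_mul]
  obtain ⟨v, u, hv, hu, hvu, huv⟩ := X.pair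
  set α := T.fA (S v) u with hα
  set β := T.fA (S v) v with hβ
  set γ := T.fA (S u) u with hγ
  have hδ : T.fA (S u) v = σ α := by rw [hα, hadj, hconj]
  have hSv : S v = α • v + β • u := R.expand X.dimA hv hu hvu huv _
  have hSu : S u = γ • v + σ α • u := by rw [← hδ]; exact R.expand X.dimA hv hu hvu huv _
  -- an eigenvector
  obtain ⟨p, μ, hp0, hpμ⟩ : ∃ (p : A) (μ : F), p ≠ 0 ∧ S p = μ • p := by
    by_cases hβ0 : β = 0
    · refine ⟨v, α, fun e0 => ?_, by rw [hSv, hβ0, zero_smul, add_zero]⟩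
      simp [e0] at hvu
    obtain ⟨μ, hμ⟩ := X.root (-(α + σ α)) (α * σ α - β * γ)
      (by rw [map_neg, map_add, hT.invol, add_comm])
      (by rw [map_sub, map_mul, map_mul, hT.invol,
        show σ β = β by rw [hβ, hconj]; exact (hadj v v).symm,
        show σ γ = γ by rw [hγ, hconj]; exact (hadj u u).symm, mul_comm (σ α)])
    refine ⟨((μ - σ α) / β) • v + u, μ, fun e0 => ?_, ?_⟩
    · have h1 := congrArg (fun a => T.fA a v) e0
      simp [hv, huv] at h1
    have e1 : ((μ - σ α) / β) * β = μ - σ α := div_mul_cancel₀ _ hβ0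
    have e2 : ((μ - σ α) / β) * α + γ = μ * ((μ - σ α) / β) := by
      field_simp
      linear_combination -hμ
    rw [map_add, map_smul, hSv, hSu, smul_add, smul_add, smul_smul, smul_smul, smul_smul, e1, ← e2]
    module
  -- a pure tensor
  obtain ⟨w, hw0, hw, hwb⟩ := X.perp (e + μ • y₁)
  have h1 : T.C w (h (T.tau (GE.symm p) y)) = 0 := by
    rw [hS, hpμ, map_smul (T.tau), LinearMap.smul_apply, ← map_smul (T.tau p), ← map_add (T.tau p),
      hT.C_tau, hT.B_flip_zero hwb, zero_smul]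
  have h2 := congrArg GE (hinj w hw hw0 _ h1)
  rw [LinearEquiv.apply_symm_apply, map_zero] at h2
  exact hp0 h2

set_option maxHeartbeats 2000000 in
/-- characteristic two -/
theorem kron_two_three (R : RootCore T 1 H Gen) [CharP F 2] (X : ThreeHyp T) {l : F} (hl0 : l ≠ 0)
    (hl : σ l * l ≠ 1) {γ γ' : F} (hγ : γ ≠ 0) (hγ' : γ' ≠ 0) (hne : γ ≠ γ') {x : A} (hx0 : x ≠ 0)
    (hxx : T.fA x x = 0) (hs : InH H fun v => v + γ • T.tau x (T.C' x v))
    (hs' : InH H fun v => v + γ' • T.tau x (T.C' x v)) {h : V ≃ₗ[F] V} (hh : h ∈ H) : IsKron T h := by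
  classical
  by_contra hnk
  have hT := R.good
  haveI := R.nontriv
  haveI : Finite V := Module.finite_of_finite F
  haveI : Finite A := Module.finite_of_finite F
  obtain ⟨y, hy0, hy⟩ := R.isoVec
  have hinj : ∀ w, T.fB w w = 0 → w ≠ 0 → ∀ c, T.C w (h (T.tau c y)) = 0 → c = 0 :=
    fun w hw hw0 c hc => R.pair_three_two X.dimA hl0 hl hy hy0 hw hw0 hh hnk hc
  -- the vector orthogonal to the image
  obtain ⟨z, hz0, hzU⟩ : ∃ z, z ≠ 0 ∧ ∀ c, T.form (h (T.tau c y)) (T.tau x z) = 0 := by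
    let L : B →ₗ[F] A := T.C y ∘ₗ ((h⁻¹ : V ≃ₗ[F] V) : V →ₗ[F] V) ∘ₗ T.tau x
    obtain ⟨z, hz, hz0⟩ : ∃ z ∈ LinearMap.ker L, z ≠ 0 := by
      refine Submodule.exists_mem_ne_zero_of_ne_bot fun h0 => ?_
      have := LinearMap.finrank_le_finrank_of_injective (LinearMap.ker_eq_bot.1 h0)
      rw [X.dimA, X.dimB] at this
      omega
    refine ⟨z, hz0, fun c => hT.form_flip_zero ?_⟩
    rw [← inv_apply h (T.tau x z), R.isom h hh, hT.form_C,
      show T.C y (h⁻¹ (T.tau x z)) = 0 from hz, map_zero, LinearMap.zero_apply]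
  -- the contraction by `x` is injective on the image
  obtain ⟨e, he⟩ : ∃ e, T.fA e x = 1 := by
    obtain ⟨c, hc⟩ : ∃ c, T.fA c x ≠ 0 := by
      by_contra hall
      simp only [not_exists, not_not] at hall
      exact hx0 (hT.nondegA x fun c => hT.A_flip_zero (hall c))
    exact ⟨(T.fA c x)⁻¹ • c, by rw [map_smul, LinearMap.smul_apply, smul_eq_mul, inv_mul_cancel₀ hc]⟩
  have hli : LinearIndependent F ![x, e] := by
    refine (LinearIndependent.pair_iff' hx0).2 fun k hk => ?_
    rw [← hk] at he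
    simp [hxx] at he
  have hline : ∀ a, T.fA a x = 0 → ∃ k : F, a = k • x := by
    intro a ha
    have hm : a ∈ Submodule.span F (Set.range ![x, e]) := by
      rw [hli.span_eq_top_of_card_eq_finrank (by simp [X.dimA])]; trivial
    rw [Matrix.range_cons, Matrix.range_cons, Matrix.range_empty, Set.union_empty,
      Set.singleton_union, Submodule.mem_span_pair] at hm
    obtain ⟨p, r, rfl⟩ := hm
    simp only [map_add, map_smul, LinearMap.add_apply, LinearMap.smul_apply, smul_eq_mul, hxx, he,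
      mul_zero, mul_one, zero_add] at ha
    exact ⟨p, by rw [ha, zero_smul, add_zero]⟩
  have hCx : ∀ c, T.C' x (h (T.tau c y)) = 0 → c = 0 := by
    intro c hc
    set v := h (T.tau c y) with hv
    set b := T.C' e v with hb
    have hvb : v = T.tau x b := by
      refine sub_eq_zero.1 (hT.C_nondeg fun w => ?_)
      have h1 : T.fA (T.C w v) x = 0 := by
        rw [← hT.form_C, hT.form_C', hc, map_zero, LinearMap.zero_apply]
      obtain ⟨k, hk⟩ := hline _ h1
      have h2 : T.fB b w = k := by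
        rw [hb, ← hT.form_C', hT.form_C, hk, map_smul, LinearMap.smul_apply, smul_eq_mul,
          show T.fA x e = 1 by rw [hT.hermA e x, he, map_one, one_mul], mul_one]
      rw [map_sub, hT.C_tau, h2, hk, sub_self]
    obtain ⟨w, hw0, hw, hwb⟩ := X.perp b
    refine hinj w hw hw0 c ?_
    rw [← hv, hvb, hT.C_tau, hT.B_flip_zero hwb, zero_smul]
  -- data of one transvection of the first factor
  have data : ∀ γ : F, γ ≠ 0 → InH H (fun v => v + γ • T.tau x (T.C' x v)) →
      ∃ (y' : B) (k : F) (d : A → A), T.fB y' y' = 0 ∧ (∃ c, d c ≠ 0) ∧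
        (∀ c, h (T.tau (d c) y) = k • T.tau (T.C y' (h (T.tau c y))) y' + γ • T.tau x (T.C' x (h (T.tau c y))) +
          (γ * k * T.fB (T.C' x (h (T.tau c y))) y') • T.tau x y') ∧
        ∀ c, T.C z (h (T.tau (d c) y)) = 0 := by
    rintro γ hγ ⟨s, hsH, hsx⟩
    replace hsx : ∀ v, s v = v + γ • T.tau x (T.C' x v) := hsx
    obtain ⟨j, hjH, y', φ, hy', hrp, hd, hnf⟩ := R.two_split X.perp
      (fun y w hy hy0 hw hw0 h hh hnk c hc => R.pair_three_two X.dimA hl0 hl hy hy0 hw hw0 hh hnk hc)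
      hx0 hxx hγ hsH hsx hy hy0 hh hnk
    obtain ⟨k, hk⟩ : ∃ k : F, ∀ b, φ b • y' = (k * T.fB b y') • y' := by
      rcases eq_or_ne y' 0 with rfl | hy'0
      · exact ⟨0, fun b => by simp⟩
      obtain ⟨b₀, hb₀, hb₀'⟩ := hT.exists_partner hy'0
      refine ⟨σ (φ b₀), fun b => ?_⟩
      congr 1
      obtain ⟨a₁, ha₁⟩ := exists_ne (0 : A)
      obtain ⟨a₂, ha₂⟩ : ∃ a₂, T.fA a₁ a₂ ≠ 0 := by
        by_contra hall
        simp only [not_exists, not_not] at hall
        exact ha₁ (hT.nondegA _ hall)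
      have h1 := R.isom _ (mul_mem hsH hjH) (T.tau a₁ b) (T.tau a₂ b₀)
      rw [hrp, hrp, hT.form_tau, hT.form_tau] at h1
      have h2 := mul_left_cancel₀ ha₂ h1
      simp only [map_add, map_smul, map_smulₛₗ, LinearMap.add_apply, LinearMap.smul_apply, smul_eq_mul,
        hy', hb₀', mul_zero, add_zero] at h2
      linear_combination -h2
    have hs2 : ∀ v, s (s v) = v := fun v => by
      rw [hsx, hsx, map_add (T.C' x), map_smul (T.C' x), hT.C'_tau, hxx, zero_smul, smul_zero, add_zero,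
        add_assoc, ← two_smul F, CharTwo.two_eq_zero, zero_smul, add_zero]
    have hr : ∀ v, (s * j) v = v + k • T.tau (T.C y' v) y' := fun v => LinearMap.congr_fun
      (hT.ext_tau (f := ((s * j : V ≃ₗ[F] V) : V →ₗ[F] V)) (g := LinearMap.id + k • (T.tau.flip y' ∘ₗ T.C y'))
        fun a b => by
          show (s * j) (T.tau a b) = T.tau a b + k • T.tau (T.C y' (T.tau a b)) y'
          rw [hrp, hk, map_add, hT.C_tau, map_smul, map_smul T.tau, LinearMap.smul_apply, smul_smul]) v
    have hj : ∀ v, j v = v + k • T.tau (T.C y' v) y' + γ • T.tau x (T.C' x v) +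
        (γ * k * T.fB (T.C' x v) y') • T.tau x y' := fun v => by
      rw [show j v = s ((s * j) v) from (hs2 _).symm, hr, hsx, map_add (T.C' x), map_smul (T.C' x),
        hT.C'_tau, show T.fA (T.C y' v) x = T.fB (T.C' x v) y' by rw [← hT.form_C, hT.form_C']]
      simp only [map_add, map_smul]
      module
    choose d hd using hd
    have hd' : ∀ c, h (T.tau (d c) y) = k • T.tau (T.C y' (h (T.tau c y))) y' +
        γ • T.tau x (T.C' x (h (T.tau c y))) + (γ * k * T.fB (T.C' x (h (T.tau c y))) y') • T.tau x y' := by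
      intro c
      have h1 := (hd c).symm.trans (hj _)
      rw [add_assoc, add_assoc, add_right_inj] at h1
      rw [h1]; abel
    refine ⟨y', k, d, hy', ?_, hd', ?_⟩
    · by_contra hall
      simp only [not_exists, not_not] at hall
      refine hnf fun c => ?_
      rw [hd, hall, map_zero, LinearMap.zero_apply, map_zero, add_zero]
    -- `y'` is orthogonal to `z`
    have hxy : k * T.fB z y' = 0 := by
      by_contra hne
      have hy'0 : y' ≠ 0 := fun e0 => hne (by simp [e0])
      have hinj' : Function.Injective fun c => c + d c := fun c c' hcc => hT.tau_left_inj hy0 (h.injective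
        (j.injective (by
          show j (h (T.tau c y)) = j (h (T.tau c' y))
          rw [hd, hd, ← map_add h, ← map_add h, ← LinearMap.add_apply, ← LinearMap.add_apply,
            ← map_add, ← map_add]
          exact congrArg (fun a => h (T.tau a y)) hcc)))
      refine hx0 ?_
      have hall : ∀ c, T.form (h (T.tau c y)) (T.tau x y') = 0 := by
        intro c₁
        obtain ⟨c, rfl⟩ := (Finite.injective_iff_surjective.1 hinj') c₁
        have h1 := R.isom j hjH (h (T.tau c y)) (T.tau x z)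
        rw [hzU, hj (T.tau x z), hd, ← map_add h, ← LinearMap.add_apply, ← map_add, hT.C_tau, hT.C'_tau,
          hxx, map_smul T.tau, LinearMap.smul_apply, smul_smul, zero_smul, map_zero, smul_zero, add_zero,
          map_zero, LinearMap.zero_apply, mul_zero, zero_smul, add_zero, map_add (T.form _), hzU,
          zero_add, map_smulₛₗ, smul_eq_mul, mul_eq_zero] at h1
        exact h1.resolve_left fun e0 => hne (σ.injective (e0.trans (map_zero σ).symm))
      have hnk' : ¬ IsKron T (h⁻¹ : V ≃ₗ[F] V) := fun h' => hnk (by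
        have := R.kron_inv (inv_mem hh) h'
        rwa [inv_inv] at this)
      refine R.pair_three_two X.dimA hl0 hl hy' hy'0 hy hy0 (inv_mem hh) hnk' (hT.C_eq_zero fun c => ?_)
      rw [← R.isom h hh, inv_apply]
      exact hT.form_flip_zero (hall c)
    intro c
    have h1 : T.fB (T.C' x (h (T.tau c y))) z = 0 := by rw [← hT.form_C', hzU]
    have h2 : k * T.fB y' z = 0 := by
      rcases mul_eq_zero.1 hxy with h0 | h0
      · rw [h0, zero_mul]
      · rw [hT.B_flip_zero h0, mul_zero]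
    have h3 : γ * k * T.fB (T.C' x (h (T.tau c y))) y' * T.fB y' z = 0 := by
      linear_combination (γ * T.fB (T.C' x (h (T.tau c y))) y') * h2
    rw [hd', map_add, map_add, map_smul, map_smul, map_smul, hT.C_tau, hT.C_tau, hT.C_tau, h1]
    simp only [smul_smul, h2, h3, mul_zero, zero_smul, smul_zero, add_zero, zero_add]
  by_cases hall : ∀ c, T.C z (h (T.tau c y)) = 0
  · exact R.orth_false X hh hy hinj hz0 hall
  let L : A →ₗ[F] A := T.C z ∘ₗ (h : V →ₗ[F] V) ∘ₗ T.tau.flip y
  let K := LinearMap.ker L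
  have hK1 : finrank F K ≤ 1 := by
    have h1 : finrank F K < finrank F A := Submodule.finrank_lt fun e0 => hall fun c => by
      have : c ∈ K := by rw [e0]; trivial
      exact this
    rw [X.dimA] at h1
    omega
  obtain ⟨y₁, k, d, hy₁, ⟨c₀, hc₀⟩, hd, hdK⟩ := data γ hγ hs
  obtain ⟨y₂, k', d', hy₂, ⟨c₀', hc₀'⟩, hd', hdK'⟩ := data γ' hγ' hs'
  set c₁ := d c₀ with hc₁
  have hmult : ∀ c ∈ K, ∃ ε : F, c = ε • c₁ := by
    intro c hc
    by_contra hne'
    simp only [not_exists] at hne'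
    have hli : LinearIndependent F ![c₁, c] :=
      (LinearIndependent.pair_iff' hc₀).2 fun ε hε => hne' ε hε.symm
    have hle : Submodule.span F (Set.range ![c₁, c]) ≤ K := by
      refine Submodule.span_le.2 ?_
      rintro _ ⟨i, rfl⟩
      fin_cases i
      · exact hdK c₀
      · exact hc
    rw [hli.span_eq_top_of_card_eq_finrank (by simp [X.dimA]), top_le_iff] at hle
    rw [hle, finrank_top, X.dimA] at hK1
    omega
  set Y := T.C' x (h (T.tau c₁ y)) with hY
  have hY0 : Y ≠ 0 := fun e0 => hc₀ (hCx c₁ e0)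
  -- the data in terms of `Y`
  have norm : ∀ (γ : F) (y' : B) (k : F) (d : A → A), γ ≠ 0 → T.fB y' y' = 0 → (∃ c, d c ≠ 0) →
      (∀ c, h (T.tau (d c) y) = k • T.tau (T.C y' (h (T.tau c y))) y' +
        γ • T.tau x (T.C' x (h (T.tau c y))) +
        (γ * k * T.fB (T.C' x (h (T.tau c y))) y') • T.tau x y') →
      (∀ c, T.C z (h (T.tau (d c) y)) = 0) →
      ∃ k : F, k • T.C Y (h (T.tau c₁ y)) + γ • x = 0 ∧
        (∀ c, (k * T.fB (T.C' x (h (T.tau c y))) Y) • h (T.tau c₁ y) =
          k • T.tau (T.C Y (h (T.tau c y))) Y + γ • T.tau x (T.C' x (h (T.tau c y))) +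
          (γ * k * T.fB (T.C' x (h (T.tau c y))) Y) • T.tau x Y) ∧
        ∃ c, k * T.fB (T.C' x (h (T.tau c y))) Y ≠ 0 := by
    intro γ y' k d hγ hy' ⟨c₂, hc₂⟩ hd hdK
    have hCd : ∀ c, T.C' x (h (T.tau (d c) y)) = (k * T.fB (T.C' x (h (T.tau c y))) y') • y' := by
      intro c
      rw [hd, map_add, map_add, map_smul, map_smul, map_smul, hT.C'_tau, hT.C'_tau, hT.C'_tau, hxx,
        zero_smul, zero_smul, smul_zero, smul_zero, add_zero, add_zero, ← hT.form_C, hT.form_C',
        smul_smul]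
    have hεd : ∀ c, ∃ ε : F, d c = ε • c₁ ∧ ε • Y = (k * T.fB (T.C' x (h (T.tau c y))) y') • y' := by
      intro c
      obtain ⟨ε, hε⟩ := hmult (d c) (hdK c)
      refine ⟨ε, hε, ?_⟩
      rw [← hCd, hε, hY, map_smul, LinearMap.smul_apply, map_smul h, map_smul (T.C' x)]
    obtain ⟨ε₂, hε₂, hε₂'⟩ := hεd c₂
    have hε₂0 : ε₂ ≠ 0 := fun e0 => hc₂ (by rw [hε₂, e0, zero_smul])
    obtain ⟨κ, hκ⟩ : ∃ κ : F, Y = κ • y' :=
      ⟨ε₂⁻¹ * (k * T.fB (T.C' x (h (T.tau c₂ y))) y'), by rw [← smul_smul, ← hε₂', inv_smul_smul₀ hε₂0]⟩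
    have hκ0 : κ ≠ 0 := fun e0 => hY0 (by rw [hκ, e0, zero_smul])
    have hy'0 : y' ≠ 0 := fun e0 => hY0 (by rw [hκ, e0, smul_zero])
    have hσκ : σ κ ≠ 0 := fun e0 => hκ0 (σ.injective (e0.trans (map_zero σ).symm))
    have hy'Y : y' = κ⁻¹ • Y := by rw [hκ, inv_smul_smul₀ hκ0]
    refine ⟨k / (σ κ * κ), ?_, fun c => ?_, ?_⟩
    · have h0 := hd c₁
      have hd0 : d c₁ = 0 := hCx _ (by rw [hCd, ← hY, hκ]; simp [hy'])
      have hf0 : T.fB Y y' = 0 := by simp [hκ, hy']
      rw [hd0, map_zero, LinearMap.zero_apply, map_zero, ← hY, hf0, mul_zero, zero_smul, add_zero,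
        hy'Y, hT.C_smul, LinearMap.smul_apply, map_inv₀] at h0
      refine hT.tau_left_inj hY0 ?_
      show T.tau _ Y = T.tau 0 Y
      rw [map_zero, LinearMap.zero_apply, map_add, LinearMap.add_apply, map_smul T.tau,
        LinearMap.smul_apply, map_smul T.tau, LinearMap.smul_apply]
      simp only [map_smul, LinearMap.smul_apply, smul_smul] at h0
      rw [h0]
      congr 2
      field_simp
    · obtain ⟨ε, hε, hε'⟩ := hεd c
      have hεv : ε = k / (σ κ * κ) * T.fB (T.C' x (h (T.tau c y))) Y := by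
        rw [hκ, smul_smul] at hε'
        have h1 := smul_left_injective F hy'0 hε'
        rw [hκ, map_smulₛₗ, smul_eq_mul]
        field_simp
        linear_combination h1
      have h1 := hd c
      rw [hε, map_smul, LinearMap.smul_apply, map_smul h, hεv, hy'Y, hT.C_smul, LinearMap.smul_apply,
        map_inv₀] at h1
      rw [h1]
      simp only [map_smul, LinearMap.smul_apply, map_smulₛₗ, map_inv₀, smul_eq_mul, smul_smul]
      congr 2 <;> field_simp
    · obtain ⟨ε, hε, hε'⟩ := hεd c₂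
      refine ⟨c₂, fun e0 => hc₂ ?_⟩
      rw [hε]
      have : ε • Y = 0 := by
        rw [hε', hκ, map_smulₛₗ, smul_eq_mul] at *
        rw [div_mul_eq_mul_div, div_eq_zero_iff] at e0
        rcases e0 with e0 | e0
        · rw [show k * T.fB (T.C' x (h (T.tau c₂ y))) y' = 0 by
            rcases mul_eq_zero.1 e0 with h0 | h0
            · rw [h0, zero_mul]
            · rw [(mul_eq_zero.1 h0).resolve_left hσκ, mul_zero], zero_smul]
        · exact absurd e0 (mul_ne_zero hσκ hκ0)
      rw [(smul_eq_zero.1 this).resolve_right hY0, zero_smul]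
  obtain ⟨K₁, ha, hb, ⟨c, hc⟩⟩ := norm γ y₁ k d hγ hy₁ ⟨c₀, hc₀⟩ hd hdK
  obtain ⟨K₂, ha', hb', -⟩ := norm γ' y₂ k' d' hγ' hy₂ ⟨c₀', hc₀'⟩ hd' hdK'
  obtain ⟨hK₁, hf⟩ := mul_ne_zero_iff.1 hc
  have hK₂ : K₂ ≠ 0 := fun e0 => by
    rw [e0, zero_smul, zero_add, smul_eq_zero] at ha'
    exact ha'.elim hγ' hx0
  have hρ : K₂ * γ = K₁ * γ' := by
    refine sub_eq_zero.1 ((smul_eq_zero.1 ?_).resolve_right hx0)
    linear_combination (norm := module) K₂ • ha - K₁ • ha'
  have hfin : (K₁ * K₂ * T.fB (T.C' x (h (T.tau c y))) Y * (γ - γ')) • T.tau x Y =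
      (K₁ * γ' - K₂ * γ) • T.tau x (T.C' x (h (T.tau c y))) := by
    linear_combination (norm := module) K₁ • hb' c - K₂ • hb c
  rw [hρ, sub_self, zero_smul, smul_eq_zero, mul_eq_zero, sub_eq_zero] at hfin
  rcases hfin with (h0 | h0) | h0
  · exact mul_ne_zero (mul_ne_zero hK₁ hK₂) hf h0
  · exact hne h0
  · exact hY0 (hT.tau_right_inj hx0 (h0.trans (map_zero (T.tau x)).symm))

/-- odd characteristic -/
theorem kron_odd_three (R : RootCore T 1 H Gen) (X : ThreeHyp T) {p : ℕ} [Fact p.Prime] [CharP F p]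
    (hp : p ≠ 2) {h : V ≃ₗ[F] V} (hh : h ∈ H) : IsKron T h := by
  classical
  by_contra hnk
  have hT := R.good
  obtain ⟨y, hy0, hy⟩ := R.isoVec
  obtain ⟨j, f, l, hjp, hf2, hL, hjU, -⟩ := R.odd_split hp hy hy0 hh hnk
  have hinj : ∀ w, T.fB w w = 0 → w ≠ 0 → ∀ c, T.C w (h (T.tau c y)) = 0 → c = 0 := by
    intro w hw hw0 c hc
    obtain ⟨k, hk, g, hkg, hgy⟩ := R.trans y w hy hy0 hw hw0
    have hkK : IsKron T k := ⟨LinearMap.id, g.toLinearMap, hkg⟩
    obtain ⟨j', f', l', -, -, -, -, hz⟩ := R.odd_split hp hy hy0 (mul_mem (inv_mem hk) hh) fun h' => hnk (by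
      have := kron_mul hkK h'
      rwa [mul_inv_cancel_left] at this)
    refine hz c ?_
    refine hT.C_eq_zero fun a => ?_
    rw [LinearEquiv.mul_apply, ← R.isom k hk, inv_apply, hkg, hgy, hT.form_C, hc, map_zero,
      LinearMap.zero_apply]
  obtain ⟨z, hz0, hzy, hzl⟩ : ∃ z, z ≠ 0 ∧ T.fB z y = 0 ∧ T.fB z l = 0 := by
    let L : B →ₗ[F] F × F := (T.fB.flip y).prod (T.fB.flip l)
    obtain ⟨z, hz, hz0⟩ : ∃ z ∈ LinearMap.ker L, z ≠ 0 := by
      refine Submodule.exists_mem_ne_zero_of_ne_bot fun h0 => ?_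
      have := LinearMap.finrank_le_finrank_of_injective (LinearMap.ker_eq_bot.1 h0)
      simp [X.dimB] at this
    exact ⟨z, hz0, congrArg Prod.fst (LinearMap.mem_ker.1 hz), congrArg Prod.snd (LinearMap.mem_ker.1 hz)⟩
  exact R.orth_false X hh hy hinj hz0 fun c =>
    R.neg_perp (Ring.two_ne_zero (R := F) (by rwa [ringChar.eq F p])) hjp hf2 hL hzy hzl (hjU c)

end RootCore

end CfsgLib.MaxSub.TForm
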