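import Cfsg.Agent.Lib.MaxSub.TFormOdd
import Cfsg.Agent.Lib.MaxSub.TFormTwo
import Cfsg.Agent.Lib.MaxSub.TFormThree
import Cfsg.Agent.Lib.MaxSub.RealQuad
import Cfsg.Agent.Lib.Classical.UnitarySimple

/-!
Tensor products of two Hermitian spaces: an overgroup without transvections in pure singular vectors
consists of pure maps.
-/

set_option autoImplicit false
set_option linter.unusedSectionVars false
set_option linter.unusedSimpArgs false
set_option linter.unusedVariables false
set_option linter.style.haveILetI false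

namespace CfsgLib.MaxSub.TForm

open Module
open CfsgLib.Classical (IsHermSpace EichOK eich eich_apply utGroup ut_transitive)

variable {F A B V : Type*} [Field F] [AddCommGroup A] [Module F A] [AddCommGroup B] [Module F B]
  [AddCommGroup V] [Module F V] {σ : F →+* F}

/-- `(g - 1) ^ 3 = 0` -/
def Cubic {M : Type*} [AddCommGroup M] [Module F M] (g : M ≃ₗ[F] M) : Prop :=
  ∀ a, g (g (g a - a) - (g a - a)) - (g (g a - a) - (g a - a)) = 0

/-- The unitary setting: `H` consists of isometries and contains the small unipotent pure maps. -/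
structure UData (T : Sys F A B V σ) (H : Subgroup (V ≃ₗ[F] V)) : Prop where
  good : T.Good 1
  isom : ∀ g ∈ H, ∀ x y, T.form (g x) (g y) = T.form x y
  neId : σ ≠ RingHom.id F
  norm : ∀ a, σ a = a → ∃ l, σ l * l = a
  pureA : ∀ g : A ≃ₗ[F] A, (∀ a a', T.fA (g a) (g a') = T.fA a a') → Cubic g →
    ∃ k ∈ H, ∀ a b, k (T.tau a b) = T.tau (g a) b
  pureB : ∀ g : B ≃ₗ[F] B, (∀ b b', T.fB (g b) (g b') = T.fB b b') → Cubic g →
    ∃ k ∈ H, ∀ a b, k (T.tau a b) = T.tau a (g b)
  dimA : 2 ≤ finrank F A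
  lt : finrank F A < finrank F B
  dimB : 3 ≤ finrank F B
  big : finrank F A = 2 → ∃ R : F, σ R = R ∧ R ≠ 0 ∧ R ≠ 1

/-- no transvection at a pure singular vector -/
def NoTv (T : Sys F A B V σ) (H : Subgroup (V ≃ₗ[F] V)) : Prop :=
  ∀ z, T.fB z z = 0 → z ≠ 0 → ∀ v, T.fA v v = 0 → v ≠ 0 → ∀ k : F, σ k = k → k ≠ 0 →
    ¬ InH H fun x => x + (k * T.form x (T.tau v z)) • T.tau v z

/-- Eichler maps of `A` -/
def UGen (T : Sys F A B V σ) : Set (A ≃ₗ[F] A) :=
  {g | ∃ (v r : A) (k : F), T.fA v v = 0 ∧ T.fA r v = 0 ∧ k + σ k = T.fA r r ∧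
    ∀ a, g a = a + T.fA a v • r - (T.fA a r + k * T.fA a v) • v}

/-- the frame map of `X` at the pencil of `z` lies in `H` -/
def Fr (T : Sys F A B V σ) (H : Subgroup (V ≃ₗ[F] V)) (z : B) (X : A → A) : Prop :=
  InH H fun x => x + T.tau (X (T.C z x)) z

theorem inv_app (g : V ≃ₗ[F] V) (x : V) : g (g⁻¹ x) = x := by
  rw [LinearEquiv.coe_inv, LinearEquiv.apply_symm_apply]

theorem inv_app' {M : Type*} [AddCommGroup M] [Module F M] (g : M ≃ₗ[F] M) (x : M) :
    g⁻¹ (g x) = x := by
  rw [LinearEquiv.coe_inv, LinearEquiv.symm_apply_apply]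

namespace UData

variable {T : Sys F A B V σ} {H : Subgroup (V ≃ₗ[F] V)}

theorem conjA (U : UData T H) (x y : A) : σ (T.fA x y) = T.fA y x := by
  rw [U.good.hermA x y, one_mul]

theorem conjB (U : UData T H) (x y : B) : σ (T.fB x y) = -T.fB y x := by
  rw [U.good.skewB x y, neg_neg]

theorem hermA (U : UData T H) : IsHermSpace T.fA.flip where
  conj u v := U.conjA v u
  sep x hx := U.good.nondegA x fun y => by
    rw [← U.conjA, show T.fA y x = 0 from hx y, map_zero]
  invol := U.good.invol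
  ne_id := U.neId
  norm_surj := U.norm

theorem exists_zero_trace (U : UData T H) : ∃ d : F, d ≠ 0 ∧ d + σ d = 0 :=
  U.hermA.exists_trace_zero

theorem hermB (U : UData T H) {d : F} (hd0 : d ≠ 0) (hd : d + σ d = 0) :
    IsHermSpace ((d • T.fB).flip) where
  conj u v := by
    show σ (d * T.fB v u) = d * T.fB u v
    rw [map_mul, U.conjB]
    linear_combination (-T.fB u v) * hd
  sep x hx := U.good.nondegB x fun y => by
    have h : d * T.fB y x = 0 := hx y
    exact U.good.B_flip_zero ((mul_eq_zero.1 h).resolve_left hd0)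
  invol := U.good.invol
  ne_id := U.neId
  norm_surj := U.norm

variable [Finite F] [FiniteDimensional F A] [FiniteDimensional F B]

/-- a hyperbolic pair in `A` -/
theorem pairA (U : UData T H) :
    ∃ v u, T.fA v v = 0 ∧ T.fA u u = 0 ∧ T.fA v u = 1 ∧ T.fA u v = 1 ∧ v ≠ 0 := by
  obtain ⟨v, hv0, -, hv⟩ := U.hermA.exists_perp_isotropic (k := 0) ![] (by have := U.dimA; omega)
  obtain ⟨u, hu1, hu⟩ := U.hermA.exists_hyperbolic hv0 hv
  exact ⟨v, u, hv, hu, U.hermA.eq_one_comm hu1, hu1, hv0⟩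

theorem partnerA (U : UData T H) {v : A} (hv0 : v ≠ 0) (hv : T.fA v v = 0) :
    ∃ u, T.fA u u = 0 ∧ T.fA v u = 1 ∧ T.fA u v = 1 := by
  obtain ⟨u, hu1, hu⟩ := U.hermA.exists_hyperbolic hv0 hv
  exact ⟨u, hu, U.hermA.eq_one_comm hu1, hu1⟩

theorem gen_mem' (U : UData T H) {g : A ≃ₗ[F] A} (hg : g ∈ UGen T) :
    ∃ k ∈ H, ∀ a b, k (T.tau a b) = T.tau (g a) b := by
  obtain ⟨v, r, k, hv, hrv, hk, hg⟩ := hg
  have hvr := U.good.A_flip_zero hrv
  refine U.pureA g (fun a a' => ?_) fun a => ?_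
  · rw [hg, hg]
    simp only [map_add, map_sub, map_smul, map_smulₛₗ, LinearMap.add_apply, LinearMap.sub_apply,
      LinearMap.smul_apply, smul_eq_mul, map_mul, U.conjA, hv, hrv, hvr]
    linear_combination (-(T.fA a v * T.fA v a')) * hk
  · simp only [hg, map_add, map_sub, map_smul, LinearMap.add_apply, LinearMap.sub_apply,
      LinearMap.smul_apply, smul_eq_mul, hv, hrv, hvr]
    module

theorem exists_gen (U : UData T H) {v r : A} {k : F} (hv : T.fA v v = 0) (hrv : T.fA r v = 0)
    (hk : k + σ k = T.fA r r) :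
    ∃ g ∈ UGen T, ∀ a, g a = a + T.fA a v • r - (T.fA a r + k * T.fA a v) • v := by
  have hok : EichOK T.fA.flip v r (-k) := by
    refine ⟨hv, hrv, ?_⟩
    show -k + σ (-k) + T.fA r r = 0
    rw [map_neg]
    linear_combination -hk
  have h : ∀ a, (eich U.hermA v r (-k)).1 a = a + T.fA a v • r - (T.fA a r + k * T.fA a v) • v :=
    fun a => by
      rw [eich_apply U.hermA hok]
      simp only [LinearMap.flip_apply]
      module
  exact ⟨_, ⟨v, r, k, hv, hrv, hk, h⟩, h⟩

/-- transvections of `A` -/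
theorem exists_transA (U : UData T H) {v : A} (hv : T.fA v v = 0) {c : F} (hc : c + σ c = 0) :
    ∃ g ∈ UGen T, ∀ a, g a = a + (c * T.fA a v) • v := by
  obtain ⟨g, hg, hga⟩ := U.exists_gen (r := 0) (k := -c) hv (by simp) (by
    simp only [map_neg, map_zero]
    linear_combination -hc)
  refine ⟨g, hg, fun a => ?_⟩
  rw [hga]
  simp only [map_zero, smul_zero, add_zero]
  module

/-- transvections of `B` -/
theorem tvB (U : UData T H) {z : B} (hz : T.fB z z = 0) {c : F} (hc : σ c = c) :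
    InH H fun x => x + c • T.tau (T.C z x) z := by
  obtain ⟨d, hd0, hd⟩ := U.exists_zero_trace
  have hB := U.hermB hd0 hd
  have hsd : σ d = -d := by linear_combination hd
  have hc' : c / d + σ (c / d) = 0 := by
    rw [map_div₀, hc, hsd, div_neg, add_neg_cancel]
  have hok : EichOK (d • T.fB).flip z 0 (c / d) := CfsgLib.Classical.transv_ok hB
    (show d * T.fB z z = 0 by rw [hz, mul_zero]) hc'
  let g := (eich hB z 0 (c / d)).1
  have hg : ∀ b, g b = b + (c * T.fB b z) • z := fun b => by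
    show (eich hB z 0 (c / d)).1 b = _
    rw [CfsgLib.Classical.transv_apply hB (show d * T.fB z z = 0 by rw [hz, mul_zero]) hc']
    show b + (c / d * (d * T.fB b z)) • z = _
    rw [← mul_assoc, div_mul_cancel₀ _ hd0]
  obtain ⟨k, hk, hkab⟩ := U.pureB g (fun b b' => by
    rw [hg, hg]
    simp only [map_add, map_smul, map_smulₛₗ, LinearMap.add_apply, LinearMap.smul_apply, smul_eq_mul,
      map_mul, hz, hc, U.conjB]
    ring) (fun b => by
    simp only [hg, map_add, map_sub, map_smul, LinearMap.add_apply, LinearMap.sub_apply,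
      LinearMap.smul_apply, smul_eq_mul, hz]
    module)
  refine ⟨k, hk, fun x => ?_⟩
  refine LinearMap.congr_fun (U.good.ext_tau (f := (k : V →ₗ[F] V))
    (g := LinearMap.id + c • (T.tau.flip z ∘ₗ T.C z)) fun a b => ?_) x
  show k (T.tau a b) = T.tau a b + c • T.tau (T.C z (T.tau a b)) z
  rw [hkab, hg, U.good.C_tau, map_smul T.tau, LinearMap.smul_apply, map_add, map_smul, smul_smul]

theorem fr_smul_id (U : UData T H) {z : B} (hz : T.fB z z = 0) {c : F} (hc : σ c = c) :
    Fr T H z fun a => c • a :=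
  (U.tvB hz hc).congr fun x => by rw [map_smul, LinearMap.smul_apply]

theorem fr_congr {z : B} {X Y : A → A} (h : Fr T H z X) (e : ∀ a, X a = Y a) : Fr T H z Y :=
  InH.congr h fun x => by rw [e]

theorem fr_add (U : UData T H) {z : B} (hz : T.fB z z = 0) {X Y : A → A} (hX : Fr T H z X)
    (hY : Fr T H z Y) : Fr T H z fun a => X a + Y a := by
  refine (InH.comp hX hY).congr fun x => ?_
  show x + T.tau (Y (T.C z x)) z + T.tau (X (T.C z (x + T.tau (Y (T.C z x)) z))) z = _
  rw [map_add (T.C z), U.good.C_tau, hz, zero_smul, add_zero, map_add T.tau, LinearMap.add_apply]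
  abel

theorem fr_neg (U : UData T H) {z : B} (hz : T.fB z z = 0) {X : A → A} (hX : Fr T H z X) :
    Fr T H z fun a => -X a := by
  obtain ⟨g, hg, hgx⟩ := hX
  refine ⟨g⁻¹, inv_mem hg, fun x => g.injective ?_⟩
  rw [inv_app, hgx]
  simp [U.good.C_tau, hz]

theorem fr_sub (U : UData T H) {z : B} (hz : T.fB z z = 0) {X Y : A → A} (hX : Fr T H z X)
    (hY : Fr T H z Y) : Fr T H z fun a => X a - Y a :=
  fr_congr (U.fr_add hz hX (U.fr_neg hz hY)) fun a => (sub_eq_add_neg _ _).symm

theorem fr_conj (U : UData T H) {z : B} {g : A ≃ₗ[F] A} (hg : g ∈ UGen T) {X : A → A}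
    (hX : Fr T H z X) : Fr T H z fun a => g (X (g.symm a)) := by
  obtain ⟨k, hk, hkab⟩ := U.gen_mem' hg
  obtain ⟨t, ht, htx⟩ := hX
  refine ⟨k * t * k⁻¹, mul_mem (mul_mem hk ht) (inv_mem hk), fun x => ?_⟩
  have hC : ∀ y, T.C z (k y) = g (T.C z y) := fun y => LinearMap.congr_fun
    (U.good.ext_tau (f := T.C z ∘ₗ (k : V →ₗ[F] V)) (g := g.toLinearMap ∘ₗ T.C z)
      fun a b => by simp [hkab, U.good.C_tau]) y
  show k (t (k⁻¹ x)) = _
  rw [htx]
  show k (k⁻¹ x + T.tau (X (T.C z (k⁻¹ x))) z) = _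
  rw [map_add, inv_app, hkab]
  show x + T.tau (g (X (T.C z (k⁻¹ x)))) z = x + T.tau (g (X (g.symm (T.C z x)))) z
  rw [show g.symm (T.C z x) = T.C z (k⁻¹ x) from g.injective (by
    rw [LinearEquiv.apply_symm_apply, ← hC, inv_app])]

theorem fr_selfAdj (U : UData T H) {z : B} (hz : T.fB z z = 0) (hz0 : z ≠ 0) {X : A → A}
    (hX : Fr T H z X) (a a' : A) : T.fA a (X a') = T.fA (X a) a' := by
  have hT := U.good
  obtain ⟨e, he, -⟩ := hT.exists_partner hz0
  obtain ⟨g, hg, hgx⟩ := hX
  have h := U.isom g hg (T.tau a e) (T.tau a' e)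
  rw [hgx, hgx] at h
  simp only [map_add, LinearMap.add_apply, hT.form_tau, hT.C_tau, he, one_smul, hz,
    show T.fB z e = -1 by rw [hT.skewB, he, map_one]] at h
  linear_combination h

theorem fr_rank_one (U : UData T H) (hno : NoTv T H) {z : B} (hz : T.fB z z = 0) (hz0 : z ≠ 0)
    {v : A} (hv : T.fA v v = 0) (hv0 : v ≠ 0) {X : A → A} {k : F} (hX : Fr T H z X)
    (hXk : ∀ a, X a = (k * T.fA a v) • v) : k = 0 := by
  by_contra hk0
  obtain ⟨u, hu, hvu, huv⟩ := U.partnerA hv0 hv
  have h := U.fr_selfAdj hz hz0 hX u u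
  simp only [hXk, huv, map_smulₛₗ, LinearMap.smul_apply, smul_eq_mul, map_mul, map_one, mul_one,
    hvu] at h
  refine hno z hz hz0 v hv hv0 k h hk0 (InH.congr hX fun x => ?_)
  rw [hXk, map_smul, LinearMap.smul_apply, U.good.form_C]

/-- vectors orthogonal to all of `v⊥` -/
theorem perp_perp (U : UData T H) {v d : A} (hv0 : v ≠ 0) (hv : T.fA v v = 0)
    (h : ∀ r, T.fA r v = 0 → T.fA d r = 0) : ∃ l : F, d = l • v := by
  obtain ⟨u, hu, hvu, huv⟩ := U.partnerA hv0 hv
  refine ⟨T.fA d u, sub_eq_zero.1 (U.good.nondegA _ fun a => ?_)⟩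
  have h1 := h (a - T.fA a v • u) (by simp [huv])
  rw [map_sub, map_smulₛₗ, smul_eq_mul, U.conjA] at h1
  rw [map_sub, map_smul, LinearMap.sub_apply, LinearMap.smul_apply, smul_eq_mul]
  linear_combination h1

/-- in dimension two `v⊥` is the line of `v` -/
theorem perp_line (U : UData T H) (h2 : finrank F A = 2) {v w : A} (hv0 : v ≠ 0)
    (hv : T.fA v v = 0) (hw : T.fA w v = 0) : ∃ l : F, w = l • v := by
  obtain ⟨u, hu, hvu, huv⟩ := U.partnerA hv0 hv
  have hli : LinearIndependent F ![v, u] := by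
    refine LinearIndependent.pair_iff.2 fun s t hst => ?_
    have h1 := congrArg (fun y => T.fA y v) hst
    have h2 := congrArg (fun y => T.fA y u) hst
    simp only [map_add, map_smul, map_zero, LinearMap.add_apply, LinearMap.smul_apply,
      LinearMap.zero_apply, smul_eq_mul, hv, huv, hu, hvu, mul_zero, mul_one, add_zero, zero_add] at h1 h2
    exact ⟨h2, h1⟩
  have htop := hli.span_eq_top_of_card_eq_finrank (by simp [h2])
  have hm : w ∈ Submodule.span F (Set.range ![v, u]) := by rw [htop]; trivial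
  rw [Matrix.range_cons, Matrix.range_cons, Matrix.range_empty, Set.union_empty,
    Set.singleton_union, Submodule.mem_span_pair] at hm
  obtain ⟨s, t, rfl⟩ := hm
  simp only [map_add, map_smul, LinearMap.add_apply, LinearMap.smul_apply, smul_eq_mul, hv, huv,
    mul_zero, mul_one, zero_add] at hw
  exact ⟨s, by rw [hw, zero_smul, add_zero]⟩

/-- outside the line of `v` in `v⊥`, dimension at least three -/
theorem exists_perp_ne (U : UData T H) (h3 : 3 ≤ finrank F A) {v : A} (hv0 : v ≠ 0)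
    (hv : T.fA v v = 0) : ∃ r, T.fA r v = 0 ∧ ∀ l : F, r ≠ l • v := by
  obtain ⟨u, hu, hvu, huv⟩ := U.partnerA hv0 hv
  obtain ⟨e, he1, he2, hee⟩ := U.hermA.exists_perp_anisotropic h3 hv hu huv
  refine ⟨e, he1, fun l hl => hee ?_⟩
  show T.fA e e = 0
  simp [hl, hv]

/-- the conjugates of a frame by Eichler maps fixing `v` leave only the line of `v` -/
theorem frame_kill (U : UData T H) (hno : NoTv T H) {z : B} (hz : T.fB z z = 0) (hz0 : z ≠ 0)
    {v : A} (hv : T.fA v v = 0) (hv0 : v ≠ 0) {c : F} (hc0 : c ≠ 0) {d : A}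
    (hd : T.fA d v = 0) (hY : Fr T H z fun a => c • (T.fA a d • v - T.fA a v • d)) :
    ∃ l : F, d = l • v := by
  refine U.perp_perp hv0 hv fun r hr => ?_
  by_contra hne
  obtain ⟨q, hq⟩ := U.hermA.exists_moved
  obtain ⟨r', hr', hr'v⟩ : ∃ r', T.fA d r' = q ∧ T.fA r' v = 0 := by
    refine ⟨σ (q / T.fA d r) • r, ?_, by simp [hr]⟩
    rw [map_smulₛₗ, smul_eq_mul, U.good.invol, div_mul_cancel₀ _ hne]
  obtain ⟨k, hk⟩ := U.hermA.exists_trace (a := T.fA r' r') (U.conjA r' r')
  obtain ⟨g, hg, hga⟩ := U.exists_gen hv hr'v hk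
  have hgv : g v = v := by rw [hga]; simp [hv, U.good.A_flip_zero hr'v]
  have hgi : ∀ a a', T.fA (g a) (g a') = T.fA a a' := fun a a' => by
    have hvr := U.good.A_flip_zero hr'v
    rw [hga, hga]
    simp only [map_add, map_sub, map_smul, map_smulₛₗ, LinearMap.add_apply, LinearMap.sub_apply,
      LinearMap.smul_apply, smul_eq_mul, map_mul, U.conjA, hv, hr'v, hvr]
    linear_combination (-(T.fA a v * T.fA v a')) * hk
  have hgd : g d = d - q • v := by rw [hga, hd, hr']; simp
  have h1 := U.fr_rank_one hno hz hz0 hv hv0 (k := c * (q - σ q))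
    (U.fr_sub hz (U.fr_conj hg hY) hY) fun a => by
      have e1 : T.fA (g.symm a) v = T.fA a v := by
        conv_rhs => rw [← LinearEquiv.apply_symm_apply g a, ← hgv, hgi]
      have e2 : T.fA (g.symm a) d = T.fA a (g d) := by
        conv_rhs => rw [← LinearEquiv.apply_symm_apply g a, hgi]
      simp only [map_smul, map_sub, e1, e2, hgv, hgd, map_smulₛₗ, LinearMap.smul_apply, smul_eq_mul]
      module
  rcases mul_eq_zero.1 h1 with h2 | h2
  · exact hc0 h2
  · exact hq (sub_eq_zero.1 h2).symm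

/-- every isotropic vector is an eigenvector of a frame -/
theorem frame_eigen (U : UData T H) (hno : NoTv T H) {z : B} (hz : T.fB z z = 0) (hz0 : z ≠ 0)
    {X : A →ₗ[F] A} (hX : Fr T H z X) {v : A} (hv : T.fA v v = 0) (hv0 : v ≠ 0) :
    ∃ l : F, X v = l • v := by
  set x := X v with hx
  set m := T.fA x v with hm
  have hsa : ∀ a, T.fA (X a) v = T.fA a x := fun a => (U.fr_selfAdj hz hz0 hX a v).symm
  have hmreal : σ m = m := by rw [hm, U.conjA, hx, ← U.fr_selfAdj hz hz0 hX]
  have hY : ∀ c, c + σ c = 0 → Fr T H z fun a =>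
      c • (T.fA a x • v - T.fA a v • x) - (c * c * m * T.fA a v) • v := by
    intro c hc
    obtain ⟨g, hg, hga⟩ := U.exists_transA hv hc
    have hgs : ∀ a, g.symm a = a - (c * T.fA a v) • v := fun a => g.injective (by
      rw [LinearEquiv.apply_symm_apply, hga]
      simp [hv])
    refine fr_congr (U.fr_sub hz (U.fr_conj hg hX) hX) fun a => ?_
    rw [hgs, map_sub, map_smul, hga]
    simp only [map_sub, map_smul, LinearMap.sub_apply, LinearMap.smul_apply, smul_eq_mul, hsa, ← hx,
      ← hm]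
    module
  obtain ⟨c, hc0, hc⟩ := U.exists_zero_trace
  rcases (Nat.lt_or_eq_of_le U.dimA).symm with h2 | h3
  · -- dimension two
    suffices hm0 : m = 0 from U.perp_line h2.symm hv0 hv hm0
    by_cases h20 : (2 : F) = 0
    · obtain ⟨R, hR, hR0, hR1⟩ := U.big h2.symm
      obtain ⟨u, hu, hvu, huv⟩ := U.partnerA hv0 hv
      obtain ⟨l, hl⟩ := U.perp_line h2.symm hv0 hv (w := x - m • u) (by
        simp [map_sub, huv, ← hm])
      have hxe : x = l • v + m • u := by rw [← hl, sub_add_cancel]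
      have hexp : ∀ a, a = T.fA a u • v + T.fA a v • u := by
        intro a
        obtain ⟨l', hl'⟩ := U.perp_line h2.symm hv0 hv (w := a - T.fA a v • u) (by simp [huv])
        have := congrArg (fun y => T.fA y u) hl'
        simp only [map_sub, map_smul, LinearMap.sub_apply, LinearMap.smul_apply, smul_eq_mul, hu, hvu,
          mul_zero, sub_zero, mul_one] at this
        rw [this, ← hl', sub_add_cancel]
      have key : ∀ c, c + σ c = 0 → c * (σ l + l) + c * c * m = 0 := by
        intro c hc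
        have hcr : σ c = c := by linear_combination hc - c * h20
        refine U.fr_rank_one hno hz hz0 hv hv0
          (U.fr_sub hz (hY c hc) (U.fr_smul_id hz (c := c * m) (by rw [map_mul, hcr, hmreal])))
          fun a => ?_
        show c • (T.fA a x • v - T.fA a v • x) - (c * c * m * T.fA a v) • v - (c * m) • a = _
        conv_lhs => arg 2; rw [hexp a]
        have h2v : (2 : F) • v = 0 := by rw [h20, zero_smul]
        have h2u : (2 : F) • u = 0 := by rw [h20, zero_smul]
        simp only [hxe, map_add, map_smulₛₗ, smul_eq_mul, hmreal]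
        linear_combination (norm := module) (-(c * l * T.fA a v) - c * c * m * T.fA a v) • h2v +
          (-(c * m * T.fA a v)) • h2u
      have e1 := key c hc
      have e2 := key (R * c) (by rw [map_mul, hR]; linear_combination R * hc)
      have e3 : c * c * (R * (R - 1)) * m = 0 := by linear_combination e2 - R * e1
      simpa [hc0, hR0, sub_eq_zero, hR1] using e3
    · have h2c : (2 * c) + σ (2 * c) = 0 := by rw [map_mul, map_ofNat]; linear_combination 2 * hc
      have h1 := U.fr_rank_one hno hz hz0 hv hv0 (k := -(2 * c * c * m))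
        (U.fr_sub hz (hY _ h2c) (U.fr_add hz (hY _ hc) (hY _ hc))) fun a => by module
      simpa [h20, hc0] using h1
  · -- dimension at least three
    have hfix : ∀ r k, T.fA r v = 0 → k + σ k = T.fA r r → Fr T H z fun a =>
        c • (T.fA a (m • r - (T.fA x r + k * m) • v) • v - T.fA a v • (m • r - (T.fA x r + k * m) • v)) := by
      intro r k hr hk
      obtain ⟨g, hg, hga⟩ := U.exists_gen hv hr hk
      have hvr := U.good.A_flip_zero hr
      have hgv : g v = v := by rw [hga]; simp [hv, hvr]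
      have hgi : ∀ a a', T.fA (g a) (g a') = T.fA a a' := fun a a' => by
        rw [hga, hga]
        simp only [map_add, map_sub, map_smul, map_smulₛₗ, LinearMap.add_apply, LinearMap.sub_apply,
          LinearMap.smul_apply, smul_eq_mul, map_mul, U.conjA, hv, hr, hvr]
        linear_combination (-(T.fA a v * T.fA v a')) * hk
      have hgx : g x = x + (m • r - (T.fA x r + k * m) • v) := by rw [hga, ← hm]; abel
      refine fr_congr (U.fr_sub hz (U.fr_conj hg (hY c hc)) (hY c hc)) fun a => ?_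
      have e1 : T.fA (g.symm a) v = T.fA a v := by
        conv_rhs => rw [← LinearEquiv.apply_symm_apply g a, ← hgv, hgi]
      have e2 : T.fA (g.symm a) x = T.fA a (g x) := by
        conv_rhs => rw [← LinearEquiv.apply_symm_apply g a, hgi]
      simp only [map_smul, map_sub, e1, e2, hgv, hgx, map_add]
      module
    have hm0 : m = 0 := by
      by_contra hm0
      obtain ⟨r, hr, hrl⟩ := U.exists_perp_ne h3 hv0 hv
      obtain ⟨k, hk⟩ := U.hermA.exists_trace (a := T.fA r r) (U.conjA r r)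
      obtain ⟨l, hl⟩ := U.frame_kill hno hz hz0 hv hv0 hc0
        (by simp [map_sub, hr, hv]) (hfix r k hr hk)
      refine hrl (m⁻¹ * (l + (T.fA x r + k * m))) ?_
      rw [mul_smul, add_smul, ← hl, sub_add_cancel, inv_smul_smul₀ hm0]
    exact U.frame_kill hno hz hz0 hv hv0 hc0 hm0
      (fr_congr (hY c hc) fun a => by simp [hm0])

/-- a map with all isotropic vectors as eigenvectors is scalar -/
theorem scalar_of_iso (U : UData T H) {X : A →ₗ[F] A}
    (h : ∀ v, T.fA v v = 0 → v ≠ 0 →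
      (∃ l : F, X v = l • v) ∧ ∀ w, T.fA w v = 0 → T.fA (X w) v = 0) :
    ∃ k : F, ∀ a, X a = k • a := by
  obtain ⟨v, u, hv, hu, hvu, huv, hv0⟩ := U.pairA
  have hu0 : u ≠ 0 := fun e => by simp [e] at huv
  obtain ⟨⟨l, hl⟩, hlw⟩ := h v hv hv0
  obtain ⟨⟨l', hl'⟩, hlw'⟩ := h u hu hu0
  have key : ∀ w, T.fA w v = 0 → T.fA w u = 0 → X w = l • w := by
    intro w hwv hwu
    obtain ⟨t, ht⟩ := U.hermA.exists_trace (a := -T.fA w w) (by rw [map_neg, U.conjA])
    have hxi : T.fA (v + w + t • u) (v + w + t • u) = 0 := by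
      simp only [map_add, map_smul, map_smulₛₗ, LinearMap.add_apply, LinearMap.smul_apply, smul_eq_mul,
        hv, hu, hvu, huv, hwv, hwu, U.good.A_flip_zero hwv, U.good.A_flip_zero hwu]
      linear_combination ht
    have hne : v + w + t • u ≠ 0 := fun e => by
      have h1 := congrArg (fun y => T.fA y u) e
      simp [hwu, hvu, hu] at h1
    obtain ⟨⟨n, hn⟩, -⟩ := h _ hxi hne
    rw [map_add, map_add, map_smul, hl, hl'] at hn
    have hXw : T.fA (X w) u = 0 := hlw' w hwu
    have h1 := congrArg (fun y => T.fA y u) hn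
    simp only [map_add, map_smul, LinearMap.add_apply, LinearMap.smul_apply, smul_eq_mul, hXw, hvu, hu,
      hwu, mul_zero, mul_one, add_zero] at h1
    subst h1
    have h2 := congrArg (fun y => T.fA y v) hn
    simp only [map_add, map_smul, LinearMap.add_apply, LinearMap.smul_apply, smul_eq_mul, hlw w hwv,
      huv, hv, hwv, mul_zero, mul_one, add_zero, zero_add] at h2
    linear_combination (norm := module) hn - congrArg (fun s : F => s • u) h2
  have hll : l' = l := by
    obtain ⟨d, hd0, hd⟩ := U.exists_zero_trace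
    have hxi : T.fA (v + d • u) (v + d • u) = 0 := by
      simp only [map_add, map_smul, map_smulₛₗ, LinearMap.add_apply, LinearMap.smul_apply, smul_eq_mul,
        hv, hu, hvu, huv]
      linear_combination hd
    have hne : v + d • u ≠ 0 := fun e => by
      have h1 := congrArg (fun y => T.fA y u) e
      simp [hvu, hu] at h1
    obtain ⟨⟨n, hn⟩, -⟩ := h _ hxi hne
    rw [map_add, map_smul, hl, hl'] at hn
    have h1 := congrArg (fun y => T.fA y u) hn
    have h2 := congrArg (fun y => T.fA y v) hn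
    simp only [map_add, map_smul, LinearMap.add_apply, LinearMap.smul_apply, smul_eq_mul, hvu, hu, huv,
      hv, mul_zero, mul_one, add_zero, zero_add] at h1 h2
    rw [← h1] at h2
    exact mul_left_cancel₀ hd0 (h2.trans (mul_comm _ _))
  refine ⟨l, fun a => ?_⟩
  have := key (a - T.fA a u • v - T.fA a v • u) (by simp [hv, huv]) (by simp [hu, hvu])
  rw [map_sub, map_sub, map_smul, map_smul, hl, hl', hll] at this
  linear_combination (norm := module) this

/-- frames are scalar -/
theorem frame_scalar (U : UData T H) (hno : NoTv T H) {z : B} (hz : T.fB z z = 0) (hz0 : z ≠ 0)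
    {X : A →ₗ[F] A} (hX : Fr T H z X) : ∃ k : F, ∀ a, X a = k • a := by
  refine U.scalar_of_iso fun v hv hv0 => ?_
  obtain ⟨l, hl⟩ := U.frame_eigen hno hz hz0 hX hv hv0
  refine ⟨⟨l, hl⟩, fun w hw => ?_⟩
  rw [← U.fr_selfAdj hz hz0 hX, hl, map_smulₛₗ, hw, smul_zero]

/-- a map nearly commuting with all Eichler maps is scalar -/
theorem diff_scalar (U : UData T H) {X : A →ₗ[F] A}
    (h : ∀ g ∈ UGen T, ∃ k : F, ∀ a, X (g a) - g (X a) = k • g a) :
    ∃ k : F, ∀ a, X a = k • a := by
  refine U.scalar_of_iso fun v hv hv0 => ?_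
  obtain ⟨u, hu, hvu, huv⟩ := U.partnerA hv0 hv
  have hD : ∀ c, c + σ c = 0 → ∃ k : F, ∀ a,
      (c * T.fA a v) • X v - (c * T.fA (X a) v) • v = k • (a + (c * T.fA a v) • v) := by
    intro c hc
    obtain ⟨g, hg, hga⟩ := U.exists_transA hv hc
    obtain ⟨k, hk⟩ := h g hg
    refine ⟨k, fun a => ?_⟩
    rw [← hga a, ← hk a, hga, hga, map_add, map_smul]
    module
  obtain ⟨c, hc0, hc⟩ := U.exists_zero_trace
  obtain ⟨k, hk⟩ := hD c hc
  have hk0 : k = 0 := by
    rcases (Nat.lt_or_eq_of_le U.dimA).symm with h2 | h3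
    · obtain ⟨R, hR, hR0, hR1⟩ := U.big h2.symm
      obtain ⟨k', hk'⟩ := hD (R * c) (by rw [map_mul, hR]; linear_combination R * hc)
      have e1 := hk v
      have e2 := hk' v
      simp only [hv, mul_zero, zero_smul, zero_sub, add_zero, ← neg_smul] at e1 e2
      have f1 := smul_left_injective F hv0 e1
      have f2 := smul_left_injective F hv0 e2
      have g1 := congrArg (fun y => T.fA y u) (hk u)
      have g2 := congrArg (fun y => T.fA y u) (hk' u)
      simp only [huv, map_add, map_sub, map_smul, LinearMap.add_apply, LinearMap.sub_apply,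
        LinearMap.smul_apply, smul_eq_mul, mul_one, hu, hvu, zero_add] at g1 g2
      simp only [← f1] at g1
      simp only [← f2] at g2
      have e3 : c * c * (R * (R - 1)) * T.fA (X v) v = 0 := by linear_combination g2 - R * g1
      have e4 : T.fA (X v) v = 0 := by simpa [hc0, hR0, sub_eq_zero, hR1] using e3
      rw [← f1, e4, mul_zero, neg_zero]
    · obtain ⟨r, hr, hrl⟩ := U.exists_perp_ne h3 hv0 hv
      by_contra hk0
      refine hrl (-(k⁻¹ * (c * T.fA (X r) v))) ?_
      have e1 := hk r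
      rw [hr, mul_zero, zero_smul, zero_smul, add_zero, zero_sub] at e1
      rw [neg_smul, mul_smul, ← smul_neg, e1, inv_smul_smul₀ hk0]
  subst hk0
  refine ⟨⟨T.fA (X u) v, ?_⟩, fun w hw => ?_⟩
  · have e1 := hk u
    rw [huv, zero_smul, mul_one, sub_eq_zero, mul_smul] at e1
    exact smul_right_injective A hc0 e1
  · have e1 := hk w
    rw [hw, mul_zero, zero_smul, zero_smul, zero_sub, neg_eq_zero, smul_eq_zero] at e1
    exact ((mul_eq_zero.1 (e1.resolve_right hv0))).resolve_left hc0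

/-- Eichler elements of `B` at a singular vector -/
theorem evB (U : UData T H) {z w : B} (hz : T.fB z z = 0) (hwz : T.fB w z = 0) :
    ∃ k : F, InH H fun x => x + T.tau (T.C z x) w + T.tau (T.C w x) z + k • T.tau (T.C z x) z := by
  have hT := U.good
  have hzw := hT.B_flip_zero hwz
  obtain ⟨τ, hτ⟩ := U.hermA.exists_trace (map_one σ)
  set k := T.fB w w * τ with hk
  have hsN : σ (T.fB w w) = -T.fB w w := U.conjB w w
  have hk' : k - σ k = T.fB w w := by rw [hk, map_mul, hsN]; linear_combination T.fB w w * hτ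
  let N : B →ₗ[F] B := (T.fB.flip z).smulRight w + (T.fB.flip w).smulRight z + k • (T.fB.flip z).smulRight z
  have hN : ∀ b, N b = T.fB b z • w + T.fB b w • z + (k * T.fB b z) • z := fun b => by
    simp [N, smul_smul]
  have hNz : N z = 0 := by simp [hN, hz, hzw]
  have hNw : N w = T.fB w w • z := by simp [hN, hwz]
  have hN3 : ∀ b, N (N (N b)) = 0 := fun b => by
    rw [hN b]
    simp [map_add, map_smul, hNz, hNw]
  have hinj : Function.Injective ((LinearMap.id : B →ₗ[F] B) + N) := by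
    rw [← LinearMap.ker_eq_bot, LinearMap.ker_eq_bot']
    intro b hb
    have h0 : b + N b = 0 := hb
    have h1 : b = -N b := eq_neg_of_add_eq_zero_left h0
    rw [h1, h1, map_neg, h1, map_neg, map_neg, hN3]
    simp
  let g := LinearEquiv.ofInjectiveEndo ((LinearMap.id : B →ₗ[F] B) + N) hinj
  have hg : ∀ b, g b = b + (T.fB b z • w + T.fB b w • z + (k * T.fB b z) • z) := fun b => by
    show b + N b = _
    rw [hN]
  obtain ⟨G, hG, hGab⟩ := U.pureB g (fun b b' => by
    rw [hg, hg]
    simp only [map_add, map_smul, map_smulₛₗ, LinearMap.add_apply, LinearMap.smul_apply, smul_eq_mul,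
      map_mul, hz, hwz, hzw, U.conjB, mul_zero, add_zero, zero_add]
    linear_combination (T.fB b z * T.fB z b') * hk') (fun b => by
    have e : ∀ c, g c - c = N c := fun c => by rw [hg, hN]; abel
    rw [e, e, e]
    exact hN3 b)
  refine ⟨k, G, hG, fun x => LinearMap.congr_fun (hT.ext_tau (f := (G : V →ₗ[F] V))
    (g := LinearMap.id + T.tau.flip w ∘ₗ T.C z + T.tau.flip z ∘ₗ T.C w + k • (T.tau.flip z ∘ₗ T.C z))
    fun a b => ?_) x⟩
  show G (T.tau a b) = T.tau a b + T.tau (T.C z (T.tau a b)) w + T.tau (T.C w (T.tau a b)) z +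
    k • T.tau (T.C z (T.tau a b)) z
  rw [hGab, hg, hT.C_tau, hT.C_tau]
  simp only [map_add, map_smul, LinearMap.smul_apply, smul_smul]
  abel

/-- commutators with Eichler elements at the pencil -/
theorem q_scalar (U : UData T H) (hno : NoTv T H) {q : V ≃ₗ[F] V} (hq : q ∈ H) {z : B}
    (hz : T.fB z z = 0) (hz0 : z ≠ 0) (hqz : ∀ a, q (T.tau a z) = T.tau a z)
    (hQ : ∀ x, T.C z x = 0 → ∃ b, q x = x + T.tau b z) {w : B}
    (hwz : T.fB w z = 0) :
    ∃ k : F, ∀ a, q (T.tau a w) = T.tau a w + k • T.tau a z := by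
  have hT := U.good
  have hzw := hT.B_flip_zero hwz
  obtain ⟨e, he, he'⟩ := hT.exists_partner hz0
  let L : A →ₗ[F] A := -(T.C e ∘ₗ ((q : V →ₗ[F] V) ∘ₗ T.tau.flip w - T.tau.flip w))
  have hL : ∀ a, q (T.tau a w) = T.tau a w + T.tau (L a) z := by
    intro a
    obtain ⟨b, hb⟩ := hQ (T.tau a w) (by rw [hT.C_tau, hwz, zero_smul])
    have : L a = b := by
      show -(T.C e (q (T.tau a w) - T.tau a w)) = b
      rw [hb, add_sub_cancel_left, hT.C_tau, he']; simp
    rw [this, hb]
  let L' : A →ₗ[F] A :=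
    T.C w ∘ₗ ((q⁻¹ : V ≃ₗ[F] V) : V →ₗ[F] V) ∘ₗ T.tau.flip e - T.C w ∘ₗ T.tau.flip e
  have qi : ∀ x, q (q⁻¹ x) = x := fun x => inv_app q x
  have hCz : ∀ x, T.C z (q⁻¹ x) = T.C z x := fun x => sub_eq_zero.1 (hT.nondegA _ fun a => by
    rw [map_sub, LinearMap.sub_apply, ← hT.form_C, ← hT.form_C, ← U.isom q hq, qi, hqz, sub_self])
  have hCw : ∀ x a, T.fA (T.C w (q⁻¹ x) - T.C w x) a = T.fA (T.C z x) (L a) := fun x a => by
    rw [map_sub, LinearMap.sub_apply, ← hT.form_C, ← hT.form_C, ← U.isom q hq, qi, hL, map_add,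
      hT.form_C x (L a) z, add_sub_cancel_left]
  have hL' : ∀ c a, T.fA (L' c) a = T.fA c (L a) := fun c a => by
    have h1 := hCw (T.tau c e) a
    rw [hT.C_tau z c e, he, one_smul] at h1
    exact h1
  have hCw' : ∀ x, T.C w (q⁻¹ x) = T.C w x + L' (T.C z x) := fun x => by
    rw [← sub_eq_iff_eq_add']
    refine sub_eq_zero.1 (hT.nondegA _ fun a => ?_)
    rw [map_sub, LinearMap.sub_apply, hCw, hL', sub_self]
  have hsc : ∀ l : F, ∃ k : F, ∀ a, l • L a + σ l • L' a = k • a := by
    intro l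
    have hlwz : T.fB (l • w) z = 0 := by simp [hwz]
    have hzlw := hT.B_flip_zero hlwz
    obtain ⟨κ, s, hs, hsx⟩ := U.evB hz hlwz
    have hsC : ∀ x, T.C z (s x) = T.C z x := fun x => by
      rw [hsx]; simp [hT.C_tau, hz, hwz]
    refine U.frame_scalar hno hz hz0 (X := l • L + σ l • L') ⟨q * s * q⁻¹ * s⁻¹,
      mul_mem (mul_mem (mul_mem hq hs) (inv_mem hq)) (inv_mem hs), fun x => ?_⟩
    obtain ⟨y, rfl⟩ := s.surjective x
    rw [LinearEquiv.mul_apply, inv_app']
    show q (s (q⁻¹ y)) = s y + T.tau ((l • L + σ l • L') (T.C z (s y))) z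
    rw [hsC, hsx, hsx]
    simp only [map_add, map_smul, qi, hL, hqz, hCz, hT.C_smul, LinearMap.smul_apply, hCw',
      LinearMap.add_apply]
    module
  obtain ⟨k1, hk1⟩ := hsc 1
  obtain ⟨r, hr⟩ := U.hermA.exists_moved
  obtain ⟨k2, hk2⟩ := hsc r
  refine ⟨(k2 - σ r * k1) / (r - σ r), fun a => ?_⟩
  rw [hL]
  have h1 := hk1 a
  rw [map_one, one_smul, one_smul] at h1
  have h3 : (r - σ r) • L a = (k2 - σ r * k1) • a := by
    linear_combination (norm := module) hk2 a - σ r • h1
  have hne : r - σ r ≠ 0 := sub_ne_zero.2 (Ne.symm hr)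
  rw [← LinearMap.smul_apply, ← map_smul, div_eq_inv_mul, mul_smul, ← h3, inv_smul_smul₀ hne]

/-- the isotropic vectors orthogonal to a singular vector of `B` span its orthogonal -/
theorem iso_span (U : UData T H) (h4 : 4 ≤ finrank F B) {z : B} (hz : T.fB z z = 0) (hz0 : z ≠ 0) {w : B}
    (hw : T.fB w z = 0) : w ∈ Submodule.span F {w | T.fB w w = 0 ∧ T.fB w z = 0} := by
  obtain ⟨d, hd0, hd⟩ := U.exists_zero_trace
  have hB := U.hermB hd0 hd
  obtain ⟨y, hzy, hyy⟩ := hB.exists_hyperbolic hz0 (show d * T.fB z z = 0 by rw [hz, mul_zero])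
  obtain ⟨u, hu0, hup, huu⟩ := hB.exists_perp_isotropic (k := 2) ![z, y] (by omega)
  obtain ⟨u₁, hu₁, hu₁u₁⟩ := hB.exists_hyperbolic hu0 huu
  obtain ⟨hp1, hp2⟩ := hB.proj_perp (show d * T.fB z z = 0 by rw [hz, mul_zero]) hyy hzy u₁
  set u₂ := u₁ - (d • T.fB).flip y u₁ • z - (d • T.fB).flip z u₁ • y with hu₂
  have fz : ∀ {s : B}, (d • T.fB).flip z s = 0 → T.fB s z = 0 := fun {s} h =>
    (mul_eq_zero.1 (show d * T.fB s z = 0 from h)).resolve_left hd0
  have fB0 : ∀ {s : B}, (d • T.fB).flip s s = 0 → T.fB s s = 0 := fun {s} h =>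
    (mul_eq_zero.1 (show d * T.fB s s = 0 from h)).resolve_left hd0
  have hupz : (d • T.fB).flip z u = 0 := hup 0
  have hupy : (d • T.fB).flip y u = 0 := hup 1
  have huz : T.fB u z = 0 := fz hupz
  have hu2u : (d • T.fB).flip u u₂ = 1 := by
    rw [hu₂, map_sub, map_sub, map_smul, map_smul, hB.eq_zero_comm hupz, hB.eq_zero_comm hupy,
      smul_zero, smul_zero, sub_zero, sub_zero]
    exact hu₁
  set S : Submodule F B := Submodule.span F {w | T.fB w w = 0 ∧ T.fB w z = 0} with hS
  have huS : u ∈ S := Submodule.subset_span ⟨fB0 huu, huz⟩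
  have hzS : z ∈ S := Submodule.subset_span ⟨hz, hz⟩
  have hu2S : u₂ ∈ S := by
    obtain ⟨t, ht⟩ := hB.exists_trace (a := -(d • T.fB).flip u₂ u₂) (by rw [map_neg, hB.self_fixed])
    have hi : (d • T.fB).flip (u₂ + t • u) (u₂ + t • u) = 0 := by
      simp only [map_add, map_smul, map_smulₛₗ, LinearMap.add_apply, LinearMap.smul_apply, smul_eq_mul,
        huu, hu2u, hB.eq_one_comm hu2u]
      linear_combination ht
    have h1 : u₂ + t • u ∈ S := Submodule.subset_span ⟨fB0 hi, by
      rw [map_add, map_smul, LinearMap.add_apply, LinearMap.smul_apply, fz hp1, huz]; simp⟩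
    simpa using S.sub_mem h1 (S.smul_mem t huS)
  -- the component orthogonal to the second pair
  set w₀ := w - (d • T.fB).flip u₂ w • u - (d • T.fB).flip u w • u₂ +
    ((d • T.fB).flip u w * (d • T.fB).flip u₂ u₂) • u with hw₀
  have h0u : (d • T.fB).flip u w₀ = 0 := by
    simp only [hw₀, map_add, map_sub, map_smul, smul_eq_mul, huu, hu2u]; ring
  have h0v : (d • T.fB).flip u₂ w₀ = 0 := by
    simp only [hw₀, map_add, map_sub, map_smul, smul_eq_mul, hB.eq_one_comm hu2u]; ring
  obtain ⟨t, ht⟩ := hB.exists_trace (a := -((d • T.fB).flip w₀ w₀ + (d • T.fB).flip u₂ u₂))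
    (by rw [map_neg, map_add, hB.self_fixed, hB.self_fixed])
  have hi : (d • T.fB).flip (w₀ + u₂ + t • u) (w₀ + u₂ + t • u) = 0 := by
    simp only [map_add, map_smul, map_smulₛₗ, LinearMap.add_apply, LinearMap.smul_apply, smul_eq_mul,
      h0u, h0v, hB.eq_zero_comm h0u, hB.eq_zero_comm h0v, huu, hu2u, hB.eq_one_comm hu2u]
    linear_combination ht
  have h0S : w₀ + u₂ + t • u ∈ S := Submodule.subset_span ⟨fB0 hi, by
    simp [hw₀, map_add, map_sub, hw, huz, fz hp1]⟩
  have : w = (w₀ + u₂ + t • u) - u₂ - t • u + (d • T.fB).flip u₂ w • u + (d • T.fB).flip u w • u₂ -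
      ((d • T.fB).flip u w * (d • T.fB).flip u₂ u₂) • u := by
    rw [hw₀]; abel
  rw [this]
  exact S.sub_mem (S.add_mem (S.add_mem (S.sub_mem (S.sub_mem h0S hu2S) (S.smul_mem _ huS))
    (S.smul_mem _ huS)) (S.smul_mem _ hu2S)) (S.smul_mem _ huS)

/-- pure isometries of `B` generated by transvections are realised in `H` and transitive -/
theorem transB (U : UData T H) {y y' : B} (hy : T.fB y y = 0) (hy0 : y ≠ 0) (hy' : T.fB y' y' = 0)
    (hy'0 : y' ≠ 0) :
    ∃ k ∈ H, ∃ f : B ≃ₗ[F] B, (∀ a b, k (T.tau a b) = T.tau a (f b)) ∧ f y = y' := by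
  obtain ⟨d, hd0, hd⟩ := U.exists_zero_trace
  have hB := U.hermB hd0 hd
  obtain ⟨g, hg, hgy⟩ := ut_transitive hB U.dimB (by
    rcases Nat.lt_or_ge (finrank F B) 4 with h4 | h4
    · exact Or.inr (U.big (by have := U.lt; have := U.dimA; omega))
    · exact Or.inl h4)
    (show d * T.fB y y = 0 by rw [hy, mul_zero]) (show d * T.fB y' y' = 0 by rw [hy', mul_zero]) hy0 hy'0
  suffices ∃ k ∈ H, ∀ a b, k (T.tau a b) = T.tau a (g.1 b) by
    obtain ⟨k, hk, hkab⟩ := this
    exact ⟨k, hk, g.1, hkab, hgy⟩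
  clear hgy
  induction hg using Subgroup.closure_induction with
  | mem g hg =>
    obtain ⟨⟨x, c⟩, rfl⟩ := hg
    by_cases hok : EichOK (d • T.fB).flip x 0 c
    · have hxx : T.fB x x = 0 := (mul_eq_zero.1 (show d * T.fB x x = 0 from hok.1)).resolve_left hd0
      have hc : c + σ c = 0 := by simpa using hok.2.2
      obtain ⟨k, hk, hkx⟩ := U.tvB hxx (c := c * d) (by
        rw [map_mul, eq_neg_of_add_eq_zero_right hc, eq_neg_of_add_eq_zero_right hd, neg_mul_neg])
      refine ⟨k, hk, fun a b => ?_⟩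
      replace hkx : ∀ v, k v = v + (c * d) • T.tau (T.C x v) x := hkx
      rw [hkx, U.good.C_tau, CfsgLib.Classical.transv_apply hB hok.1 hc]
      show _ = T.tau a (b + (c * (d * T.fB b x)) • x)
      simp [map_add, map_smul, smul_smul, mul_assoc]
    · refine ⟨1, one_mem _, fun a b => ?_⟩
      show _ = T.tau a ((eich hB x 0 c).1 b)
      rw [CfsgLib.Classical.eich_of_not hB hok]
      rfl
  | one => exact ⟨1, one_mem _, fun a b => rfl⟩
  | mul g g' _ _ ih ih' =>
    obtain ⟨k, hk, hkab⟩ := ih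
    obtain ⟨k', hk', hkab'⟩ := ih'
    exact ⟨k * k', mul_mem hk hk', fun a b => by
      rw [LinearEquiv.mul_apply, hkab', hkab, Subgroup.coe_mul, LinearEquiv.mul_apply]⟩
  | inv g _ ih =>
    obtain ⟨k, hk, hkab⟩ := ih
    refine ⟨k⁻¹, inv_mem hk, fun a b => k.injective ?_⟩
    rw [inv_app, hkab, Subgroup.coe_inv, inv_app]

theorem gen_conj' (U : UData T H) (M : A ≃ₗ[F] A) (m : F)
    (hM : ∀ a a', T.fA (M a) (M a') = m * T.fA a a') :
    ∀ g ∈ UGen T, M * g * M⁻¹ ∈ UGen T := by
  intro g hg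
  obtain ⟨v, r, k, hv, hrv, hk, hga⟩ := hg
  obtain ⟨v₁, u₁, -, -, hvu, -, -⟩ := U.pairA
  have hsm : σ m = m := by
    have h1 := congrArg σ (hM v₁ u₁)
    rw [hvu, mul_one, U.conjA] at h1
    rw [← h1, hM, ← U.conjA, hvu, map_one, mul_one]
  have hm0 : m ≠ 0 := fun e => by
    obtain ⟨v₂, u₂, -, -, hvu₂, -, hv₂⟩ := U.pairA
    refine hv₂ (M.injective ?_)
    rw [map_zero]
    refine U.good.nondegA _ fun y => ?_
    obtain ⟨y', rfl⟩ := M.surjective y
    rw [hM, e, zero_mul]
  refine ⟨M v, m⁻¹ • M r, k / m, ?_, ?_, ?_, fun a => ?_⟩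
  · rw [hM, hv, mul_zero]
  · simp [hM, hrv]
  · simp only [map_smul, map_smulₛₗ, LinearMap.smul_apply, smul_eq_mul, map_inv₀, map_div₀, hsm, hM,
      ← hk]
    field_simp
  · obtain ⟨a, rfl⟩ := M.surjective a
    rw [LinearEquiv.mul_apply, LinearEquiv.mul_apply, inv_app' M, hga, map_sub, map_add,
      map_smul, map_smul, hM, map_smulₛₗ, smul_eq_mul, map_inv₀, hsm, hM, ← mul_assoc,
      inv_mul_cancel₀ hm0, one_mul, ← mul_assoc, div_mul_cancel₀ _ hm0, smul_smul,
      show m * T.fA a v * m⁻¹ = T.fA a v by field_simp]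

/-- the core hypotheses hold in dimension three as well -/
theorem rootCore (U : UData T H) (hno : NoTv T H) : RootCore T 1 H (UGen T) where
  good := U.good
  isom := U.isom
  tv z hz c hc := U.tvB hz hc
  ev z hz w hwz := U.evB hz hwz
  frame z hz hz0 X hX := U.frame_scalar hno hz hz0 hX
  qlem q hq z hz hz0 hqz hQ w hwz := U.q_scalar hno hq hz hz0 hqz hQ hwz
  gen_mem g hg := U.gen_mem' hg
  gen_conj := U.gen_conj'
  diff X hX := U.diff_scalar hX
  nontriv := Module.nontrivial_of_finrank_pos (R := F) (by have := U.dimA; omega)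
  lt := Or.inl U.lt
  trans y y' hy hy0 hy' hy'0 := U.transB hy hy0 hy' hy'0
  isoVec := by
    obtain ⟨d, hd0, hd⟩ := U.exists_zero_trace
    obtain ⟨s, hs0, -, hss⟩ := (U.hermB hd0 hd).exists_perp_isotropic (k := 0) ![]
      (by have := U.dimB; omega)
    exact ⟨s, hs0, (mul_eq_zero.1 (show d * T.fB s s = 0 from hss)).resolve_left hd0⟩
  three := U.dimB

theorem threeHyp (U : UData T H) (h3 : finrank F B = 3) : ThreeHyp T where
  dimA := by have := U.dimA; have := U.lt; omega
  dimB := h3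
  pair := by
    obtain ⟨v, u, hv, hu, hvu, huv, -⟩ := U.pairA
    exact ⟨v, u, hv, hu, hvu, huv⟩
  perp v := by
    obtain ⟨d, hd0, hd⟩ := U.exists_zero_trace
    obtain ⟨s, hs0, hs, hss⟩ := (U.hermB hd0 hd).exists_perp_isotropic (k := 1) ![v] (by omega)
    exact ⟨s, hs0, (mul_eq_zero.1 (show d * T.fB s s = 0 from hss)).resolve_left hd0,
      (mul_eq_zero.1 (show d * T.fB s v = 0 from hs 0)).resolve_left hd0⟩
  trace := U.hermA.exists_trace (map_one σ)
  root s m hs hm := exists_root_real U.good.invol U.neId hs hm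

theorem rootHyp (U : UData T H) (h4 : 4 ≤ finrank F B) (hno : NoTv T H) : RootHyp T 1 H (UGen T) where
  good := U.good
  isom := U.isom
  tv z hz c hc := U.tvB hz hc
  frame z hz hz0 X hX := U.frame_scalar hno hz hz0 hX
  qlem q hq z hz hz0 hqz hQ w hw hwz := U.q_scalar hno hq hz hz0 hqz hQ hwz
  gen_mem g hg := U.gen_mem' hg
  gen_conj := U.gen_conj'
  diff X hX := U.diff_scalar hX
  isoSpan z hz hz0 w hw := U.iso_span h4 hz hz0 hw
  nontriv := Module.nontrivial_of_finrank_pos (R := F) (by have := U.dimA; omega)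
  lt := Or.inl U.lt
  trans y y' hy hy0 hy' hy'0 := U.transB hy hy0 hy' hy'0
  perp2 v v' := by
    obtain ⟨d, hd0, hd⟩ := U.exists_zero_trace
    obtain ⟨s, hs0, hs, hss⟩ := (U.hermB hd0 hd).exists_perp_isotropic (k := 2) ![v, v']
      (by omega)
    exact ⟨s, hs0, (mul_eq_zero.1 (show d * T.fB s s = 0 from hss)).resolve_left hd0,
      (mul_eq_zero.1 (show d * T.fB s v = 0 from hs 0)).resolve_left hd0,
      (mul_eq_zero.1 (show d * T.fB s v' = 0 from hs 1)).resolve_left hd0⟩
  isoVec := by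
    obtain ⟨d, hd0, hd⟩ := U.exists_zero_trace
    obtain ⟨s, hs0, -, hss⟩ := (U.hermB hd0 hd).exists_perp_isotropic (k := 0) ![]
      (by have := U.dimB; omega)
    exact ⟨s, hs0, (mul_eq_zero.1 (show d * T.fB s s = 0 from hss)).resolve_left hd0⟩
  three := by have := U.dimB; omega

/-- without such transvections everything is pure -/
theorem kron_all (U : UData T H) [FiniteDimensional F V] (hno : NoTv T H) {h : V ≃ₗ[F] V}
    (hh : h ∈ H) : IsKron T h := by
  obtain ⟨p, hp⟩ := CharP.exists F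
  haveI := hp
  haveI : Fact p.Prime := ⟨CharP.char_is_prime F p⟩
  rcases Nat.lt_or_ge (finrank F B) 4 with h3 | h4
  · have h3' : finrank F B = 3 := by have := U.dimB; omega
    have R := U.rootCore hno
    have X := U.threeHyp h3'
    by_cases h2 : p = 2
    · subst h2
      obtain ⟨x, u, hx, -, -, -, hx0⟩ := U.pairA
      obtain ⟨c, hc0, hc⟩ := U.exists_zero_trace
      obtain ⟨Rl, hRl, hR0, hR1⟩ := U.big X.dimA
      obtain ⟨l, hl⟩ := U.norm Rl hRl
      have hs : ∀ c : F, c + σ c = 0 → InH H fun v => v + c • T.tau x (T.C' x v) := by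
        intro c hc
        obtain ⟨g, hg, hga⟩ := U.exists_transA hx hc
        obtain ⟨k, hk, hkab⟩ := U.gen_mem' hg
        refine ⟨k, hk, fun y => LinearMap.congr_fun
          (U.good.ext_tau (f := (k : V →ₗ[F] V)) (g := LinearMap.id + c • (T.tau x ∘ₗ T.C' x))
            fun a b => ?_) y⟩
        show k (T.tau a b) = T.tau a b + c • T.tau x (T.C' x (T.tau a b))
        rw [hkab, hga, U.good.C'_tau]
        simp [map_add, map_smul, smul_smul]
      exact R.kron_two_three X (fun e => hR0 (by rw [← hl, e, mul_zero])) (fun e => hR1 (hl.symm.trans e))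
        hc0 (mul_ne_zero hR0 hc0)
        (fun e => hR1 (mul_right_cancel₀ hc0 (e.symm.trans (one_mul c).symm)))
        hx0 hx (hs c hc) (hs (Rl * c) (by rw [map_mul, hRl]; linear_combination Rl * hc)) hh
    · exact R.kron_odd_three X h2 hh
  have R := U.rootHyp h4 hno
  by_cases h2 : p = 2
  · subst h2
    obtain ⟨x, u, hx, -, -, -, hx0⟩ := U.pairA
    obtain ⟨c, hc0, hc⟩ := U.exists_zero_trace
    obtain ⟨g, hg, hga⟩ := U.exists_transA hx hc
    obtain ⟨k, hk, hkab⟩ := U.gen_mem' hg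
    refine R.kron_two hx0 hx hc0 ⟨k, hk, fun y => LinearMap.congr_fun
      (U.good.ext_tau (f := (k : V →ₗ[F] V)) (g := LinearMap.id + c • (T.tau x ∘ₗ T.C' x))
        fun a b => ?_) y⟩ hh
    show k (T.tau a b) = T.tau a b + c • T.tau x (T.C' x (T.tau a b))
    rw [hkab, hga, U.good.C'_tau]
    simp [map_add, map_smul, smul_smul]
  · exact R.kron_odd h2 hh

end UData

end CfsgLib.MaxSub.TForm
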