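import Cfsg.Agent.Lib.MaxSub.TFormOOKron
import Cfsg.Agent.Lib.MaxSub.TFormOOBoot
import Cfsg.Agent.Lib.MaxSub.TensorSS
import Cfsg.Agent.Lib.Geom.OmegaIndex

/-!
The stabiliser of a tensor decomposition `O ⊗ O` is maximal in `Ω`, odd characteristic.
-/

set_option autoImplicit false
set_option linter.unusedSectionVars false
set_option linter.unusedSimpArgs false
set_option linter.style.haveILetI false
set_option maxHeartbeats 1000000

namespace CfsgLib.MaxSub.TensorOO

open Matrix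
open CfsgLib.MaxSub
open scoped MatrixGroups Kronecker
open CfsgLib.Classical (glLin glLin_apply)
open CfsgLib.Geom
open QuadraticMap (polar)

variable {F : Type*} [Field F] [Fintype F] {ι : Type} [Fintype ι] [DecidableEq ι]

section Abstract

variable {A B : Type*} [AddCommGroup A] [Module F A] [AddCommGroup B] [Module F B]

theorem ext_pure {W : Type*} [AddCommGroup W] [Module F W] {τ : A →ₗ[F] B →ₗ[F] (ι → F)}
    (hspan : Submodule.span F (Set.range fun p : A × B => τ p.1 p.2) = ⊤)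
    {f g : (ι → F) →ₗ[F] W} (h : ∀ a b, f (τ a b) = g (τ a b)) : f = g :=
  LinearMap.ext_on hspan (by rintro _ ⟨p, rfl⟩; exact h p.1 p.2)

theorem commutator_index (Qf : QuadraticForm F (ι → F)) (hsep : ∀ x, (∀ y, polar Qf x y = 0) → x = 0)
    (h2 : (2 : F) ≠ 0) (hn : 2 ≤ Fintype.card ι) : (commutator (quadIsoms Qf)).index = 4 := by
  have h : Cfsg.Omega F (⇑Qf) = (commutator (quadIsoms Qf)).map (CfsgLib.Geom.orEquiv Qf).toMonoidHom := by
    rw [commutator_def, Subgroup.map_commutator,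
      Subgroup.map_top_of_surjective (CfsgLib.Geom.orEquiv Qf).toMonoidHom
        (CfsgLib.Geom.orEquiv Qf).surjective, ← commutator_def]
  have h4 := CfsgLib.Geom.omega_index_odd Qf hsep h2 hn
  rw [h] at h4
  rw [← h4]
  exact (Subgroup.index_map_equiv _ (CfsgLib.Geom.orEquiv Qf)).symm

/-- an Eichler element of a factor lifts into the commutator subgroup of the isometries -/
theorem lift_gen (Qf : QuadraticForm F (ι → F)) (hsep : ∀ x, (∀ y, polar Qf x y = 0) → x = 0)
    (hn : 2 ≤ Fintype.card ι) {τ : A →ₗ[F] B →ₗ[F] (ι → F)} {f : A →ₗ[F] A →ₗ[F] F}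
    {f' : B →ₗ[F] B →ₗ[F] F} (hS : TForm.SymNd f)
    (hspan : Submodule.span F (Set.range fun p : A × B => τ p.1 p.2) = ⊤)
    (hform : ∀ a b a' b', polar Qf (τ a b) (τ a' b') = f a a' * f' b b')
    (hC' : ∀ φ : Module.Dual F A, ∃ C : (ι → F) →ₗ[F] B, ∀ a b, C (τ a b) = φ a • b)
    {g : A ≃ₗ[F] A} (hg : g ∈ TForm.eichGen f) :
    ∃ k : quadIsoms Qf, k ∈ commutator (quadIsoms Qf) ∧ ∀ a b, k.1 (τ a b) = τ (g a) b := by
  obtain ⟨v, r, hv, hr, hga⟩ := hg
  have h2 := hS.two
  choose C hC using fun s : A => hC' (f.flip s)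
  let Φ : A → ((ι → F) →ₗ[F] (ι → F)) := fun s =>
    LinearMap.id + τ s ∘ₗ C v - τ v ∘ₗ (C s + (f s s / 2) • C v)
  have hΦ : ∀ s a b, Φ s (τ a b) = τ (TForm.eich f v s a) b := by
    intro s a b
    show τ a b + τ s (C v (τ a b)) - τ v (C s (τ a b) + (f s s / 2) • C v (τ a b)) = _
    rw [hC, hC, TForm.eich_apply]
    simp only [LinearMap.flip_apply, map_add, map_sub, map_smul, LinearMap.add_apply, LinearMap.sub_apply,
      LinearMap.smul_apply]
    module
  have hΦcomp : ∀ s t, f s v = 0 → f t v = 0 → Φ s ∘ₗ Φ t = Φ (s + t) := fun s t hs ht =>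
    ext_pure hspan fun a b => by
      rw [LinearMap.comp_apply, hΦ, hΦ, hΦ, hS.eich_comp hv hs ht]
  have hΦ0 : Φ 0 = LinearMap.id := ext_pure hspan fun a b => by
    rw [hΦ, TForm.SymNd.eich_zero, LinearMap.id_apply]
  set s := (4 : F)⁻¹ • r with hs_def
  have hs : f s v = 0 := by rw [hs_def]; simp [hr]
  have hs' : f (-s) v = 0 := by simp [hs]
  let E : (ι → F) ≃ₗ[F] (ι → F) := LinearEquiv.ofLinearMap (Φ s) (Φ (-s))
    (by rw [hΦcomp _ _ hs hs', add_neg_cancel, hΦ0]) (by rw [hΦcomp _ _ hs' hs, neg_add_cancel, hΦ0])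
  have hpolar : ∀ x y, polar Qf (Φ s x) (Φ s y) = polar Qf x y := fun x y => by
    have e : (QuadraticMap.polarBilin Qf).compl₁₂ (Φ s) (Φ s) = QuadraticMap.polarBilin Qf :=
      ext_pure hspan fun a b => ext_pure hspan fun a' b' => by
        show polar Qf (Φ s (τ a b)) (Φ s (τ a' b')) = polar Qf (τ a b) (τ a' b')
        rw [hΦ, hΦ, hform, hform, hS.eich_isom hv hs]
    exact LinearMap.congr_fun₂ e x y
  have hE : E ∈ quadIsoms Qf := fun x => by
    have h := hpolar x x
    rw [QuadraticMap.polar_self, QuadraticMap.polar_self, nsmul_eq_mul, nsmul_eq_mul] at h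
    exact mul_left_cancel₀ (by exact_mod_cast h2) h
  refine ⟨⟨E, hE⟩ ^ 4, ?_, fun a b => ?_⟩
  · have h := Subgroup.pow_index_mem (commutator (quadIsoms Qf)) (⟨E, hE⟩ : quadIsoms Qf)
    rwa [commutator_index Qf hsep h2 hn] at h
  · show (E ^ 4) (τ a b) = _
    show E (E (E (E (τ a b)))) = _
    show Φ s (Φ s (Φ s (Φ s (τ a b)))) = _
    have hsum : s + (s + (s + s)) = r := by
      rw [hs_def]
      have h4 : (4 : F) ≠ 0 := by
        rw [show (4 : F) = 2 * 2 by norm_num]; exact mul_ne_zero h2 h2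
      rw [← add_smul, ← add_smul, ← add_smul]
      rw [show (4 : F)⁻¹ + ((4 : F)⁻¹ + ((4 : F)⁻¹ + (4 : F)⁻¹)) = 4 * (4 : F)⁻¹ by ring,
        mul_inv_cancel₀ h4, one_smul]
    have hs2 : f (s + s) v = 0 := by simp [hs]
    rw [hΦ, hΦ, hΦ, hΦ, hS.eich_comp hv hs hs, hS.eich_comp hv hs hs, hS.eich_comp hv hs2 hs2,
      show s + s + (s + s) = r by rw [← hsum]; abel, hga]

variable [FiniteDimensional F A] [FiniteDimensional F B]

/-- maximality of the stabiliser of an orthogonal tensor decomposition -/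
theorem abstract_maximal (Qf : QuadraticForm F (ι → F)) (hsep : ∀ x, (∀ y, polar Qf x y = 0) → x = 0)
    (h5 : 5 ≤ Fintype.card ι) (S : Subgroup (GL ι F)) (τ : A →ₗ[F] B →ₗ[F] (ι → F))
    (hSmem : ∀ g : GL ι F, g ∈ S ↔
      ∃ (Mf : A →ₗ[F] A) (hf : B →ₗ[F] B), ∀ a b, glLin g (τ a b) = τ (Mf a) (hf b))
    {fA : A →ₗ[F] A →ₗ[F] F} {fB : B →ₗ[F] B →ₗ[F] F} (hA : TForm.SymNd fA) (hB : TForm.SymNd fB)
    (hspan : Submodule.span F (Set.range fun p : A × B => τ p.1 p.2) = ⊤)
    (hform : ∀ a b a' b', polar Qf (τ a b) (τ a' b') = fA a a' * fB b b')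
    (hC : ∀ φ : Module.Dual F B, ∃ C : (ι → F) →ₗ[F] A, ∀ a b, C (τ a b) = φ b • a)
    (hC' : ∀ φ : Module.Dual F A, ∃ C : (ι → F) →ₗ[F] B, ∀ a b, C (τ a b) = φ a • b)
    (hdA : 3 ≤ Module.finrank F A) (hdB : 5 ≤ Module.finrank F B)
    (hlt : Module.finrank F A < Module.finrank F B)
    (hpar : Odd (Module.finrank F A) ∨ Odd (Module.finrank F B))
    (hbig : Module.finrank F A = 3 → ∃ R : F, R ≠ 0 ∧ R * R ≠ 1)
    (hminus : Module.finrank F A = 4 → ∀ x y, fA x x = 0 → fA y y = 0 → fA x y = 0 → x ≠ 0 →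
      y ∈ Submodule.span F ({x} : Set A)) :
    Cfsg.Geo.IsMaximalIn (Cfsg.Geo.omegaGL (⇑Qf)) (S ⊓ Cfsg.Geo.omegaGL (⇑Qf)) := by
  classical
  have h2 := hA.two
  have h5' : 5 ≤ Module.finrank F (ι → F) := by rwa [Module.finrank_fintype_fun_eq_card]
  choose C hCt using fun w : B => hC (fB.flip w)
  choose C' hC't using fun x : A => hC' (fA.flip x)
  let T : TForm.Sys F A B (ι → F) (RingHom.id F) :=
    { tau := τ, fA := fA, fB := fB, form := QuadraticMap.polarBilin Qf, C := C, C' := C' }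
  set K := Cfsg.Geo.omegaGL (⇑Qf) with hK
  have hKmap : K = (commutator (quadIsoms Qf)).map (isomsToGL Qf) := omegaGL_eq_map Qf
  have hlin : ∀ (k : quadIsoms Qf) x, glLin (isomsToGL Qf k) x = k.1 x := fun k x => by
    rw [glLin_apply, isomsToGL_mulVec]
  have hself : ∀ x, polar Qf x x = 2 * Qf x := fun x => by
    rw [QuadraticMap.polar_self, nsmul_eq_mul, Nat.cast_ofNat]
  refine ⟨lt_of_le_of_ne inf_le_right ?_, fun M hM1 hM2 => ?_⟩
  swap
  · set H : Subgroup ((ι → F) ≃ₗ[F] (ι → F)) := M.map glLin.toMonoidHom with hHdef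
    have hIn : ∀ (k : quadIsoms Qf) (Mf : A →ₗ[F] A) (hf : B →ₗ[F] B), k ∈ commutator (quadIsoms Qf) →
        (∀ a b, k.1 (τ a b) = τ (Mf a) (hf b)) → k.1 ∈ H := by
      intro k Mf hf hk hab
      refine ⟨isomsToGL Qf k, hM1 ⟨(hSmem _).2 ⟨Mf, hf, fun a b => by rw [hlin]; exact hab a b⟩, ?_⟩,
        LinearEquiv.ext fun x => hlin k x⟩
      rw [hKmap]
      exact Subgroup.mem_map_of_mem _ hk
    have D : TForm.OData T H :=
      { symA := hA
        symB := hB
        form_tau := hform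
        C_tau := fun w a b => hCt w a b
        C'_tau := fun x a b => hC't x a b
        span := hspan
        isom := by
          rintro _ ⟨g, hg, rfl⟩ x y
          obtain ⟨g', -, rfl⟩ := (hKmap ▸ hM2 hg :)
          show polar Qf (glLin (isomsToGL Qf g') x) (glLin (isomsToGL Qf g') y) = polar Qf x y
          rw [hlin, hlin]
          exact OrthSub.polar_map g' x y
        genA := fun g hg => by
          obtain ⟨k, hk, hkab⟩ := lift_gen Qf hsep (by omega) hA hspan hform hC' hg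
          exact ⟨k.1, hIn k g.toLinearMap LinearMap.id hk hkab, hkab⟩
        genB := fun g hg => by
          obtain ⟨k, hk, hkab⟩ := lift_gen Qf hsep (by omega) (τ := τ.flip) (f' := fA) hB
            (by
              rw [← hspan]
              congr 1
              ext x
              exact ⟨fun ⟨p, hp⟩ => ⟨(p.2, p.1), hp⟩, fun ⟨p, hp⟩ => ⟨(p.2, p.1), hp⟩⟩)
            (fun b a b' a' => by
              show polar Qf (τ a b) (τ a' b') = _
              rw [hform, mul_comm])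
            (fun φ => by
              obtain ⟨C, hC⟩ := hC φ
              exact ⟨C, fun b a => hC a b⟩)
            hg
          exact ⟨k.1, hIn k LinearMap.id g.toLinearMap hk fun a b => hkab b a, fun a b => hkab b a⟩
        dimA := hdA
        dimB := hdB
        lt := hlt
        par := hpar
        big := hbig
        minus := hminus }
    by_cases hno : TForm.NoFrame T H
    · left
      refine le_antisymm (fun g hg => ⟨?_, hM2 hg⟩) hM1
      exact (hSmem g).2 (D.kron_all hno (h := glLin g) ⟨g, hg, rfl⟩)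
    · right
      refine le_antisymm hM2 ?_
      obtain ⟨v, hv0, hv⟩ := hA.exists_iso_top hdA
      obtain ⟨v', hv', hvv', -⟩ := hA.partner hv0 hv
      obtain ⟨z, hz0, hz⟩ := hB.exists_iso_top (by omega)
      obtain ⟨z', hz', hzz', -⟩ := hB.partner hz0 hz
      have hq : ∀ a b, fA a a = 0 → Qf (τ a b) = 0 := fun a b ha => by
        have h := hself (τ a b)
        rw [hform, ha, zero_mul] at h
        exact (mul_eq_zero.1 h.symm).resolve_left h2
      have hfull : ∀ a b, a ≠ 0 → fA a a = 0 → b ≠ 0 → fB b b = 0 →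
          OrthSub.Full (M.comap (isomsToGL Qf)) (τ a b) := by
        intro a b ha haa hb hbb w hw
        obtain ⟨k, ⟨g, hg, rfl⟩, hgx⟩ := D.full_pure hno ha haa hb hbb w hw
        show isomsToGL Qf _ ∈ M
        suffices h : isomsToGL Qf (CfsgLib.Classical.siegel Qf (τ a b) w) = g by rw [h]; exact hg
        refine glLin.injective (LinearEquiv.ext fun x => ?_)
        rw [hlin, CfsgLib.Classical.siegel_apply Qf (hq a b haa) hw]
        refine Eq.trans ?_ (hgx x).symm
        show x + polar Qf (τ a b) x • w - (polar Qf w x + Qf w * polar Qf (τ a b) x) • τ a b =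
          x + polar Qf (τ a b) x • w - (polar Qf w x + polar Qf w w / 2 * polar Qf (τ a b) x) • τ a b
        rw [hself, mul_div_cancel_left₀ _ h2]
      have hne : polar Qf (τ v z) (τ v' z') ≠ 0 := by
        rw [hform, hvv', hzz', one_mul]; exact one_ne_zero
      have hv'0 : v' ≠ 0 := fun e0 => by rw [e0, map_zero] at hvv'; exact zero_ne_one hvv'
      have hz'0 : z' ≠ 0 := fun e0 => by rw [e0, map_zero] at hzz'; exact zero_ne_one hzz'
      have hle := OrthSub.commutator_le_of_pair hsep h5' (hfull v z hv0 hv hz0 hz)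
        (hfull v' z' hv'0 hv' hz'0 hz') (hq v z hv) (hq v' z' hv') hne
      rw [hKmap]
      rintro _ ⟨g, hg, rfl⟩
      exact hle hg
  -- a Siegel transformation which is not pure
  intro hEq
  obtain ⟨v, hv0, hv⟩ := hA.exists_iso_top hdA
  obtain ⟨u, hu, hvu, huv⟩ := hA.partner hv0 hv
  obtain ⟨z, hz0, hz⟩ := hB.exists_iso_top (by omega)
  obtain ⟨z', hz', hzz', hz'z⟩ := hB.partner hz0 hz
  obtain ⟨r, hr, hrr⟩ := hA.exists_aniso_of_pos (hA.ndS_perp_pair hv hu hvu) (by
    have := TForm.le_finrank_perpV (f := fA) ![v, u]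
    omega)
  obtain ⟨d, hd, hdd⟩ := hB.exists_aniso_of_pos (hB.ndS_perp_pair hz hz' hzz') (by
    have := TForm.le_finrank_perpV (f := fB) ![z, z']
    omega)
  have hrv : fA r v = 0 := TForm.mem_perpV.1 hr 0
  have hru : fA r u = 0 := TForm.mem_perpV.1 hr 1
  have hdz : fB d z = 0 := TForm.mem_perpV.1 hd 0
  have hdz' : fB d z' = 0 := TForm.mem_perpV.1 hd 1
  have hu0 : u ≠ 0 := fun e0 => by rw [e0, map_zero] at hvu; exact zero_ne_one hvu
  have hQ0 : Qf (τ v z) = 0 := by
    have h := hself (τ v z)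
    rw [hform, hv, zero_mul] at h
    exact (mul_eq_zero.1 h.symm).resolve_left h2
  have hperp : polar Qf (τ v z) (τ r d) = 0 := by rw [hform, hA.symm r v, hrv, zero_mul]
  set g := isomsToGL Qf (CfsgLib.Classical.siegel Qf (τ v z) (τ r d))
  have hgK : g ∈ K := by
    rw [hKmap]; exact Subgroup.mem_map_of_mem _ (OrthSub.siegel_mem_commutator hsep h5' _ _)
  have hgS : g ∈ S := by
    have : g ∈ S ⊓ K := by rw [hEq]; exact hgK
    exact this.1
  obtain ⟨Mf, hf, hab⟩ := (hSmem g).1 hgS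
  have h := hab u z'
  rw [hlin, CfsgLib.Classical.siegel_apply Qf hQ0 hperp, hform, hform, hvu, hzz', hru, zero_mul, zero_add,
    mul_one, mul_one, one_smul] at h
  have hz1 := congrArg (T.C z) h
  have hd1 := congrArg (T.C d) h
  simp only [T, map_add, map_sub, map_smul, hCt, LinearMap.flip_apply] at hz1 hd1
  rw [hz'z, hdz, hz, one_smul, zero_smul, add_zero, zero_smul, smul_zero, sub_zero] at hz1
  rw [hB.symm d z', hdz', hB.symm d z, hdz, zero_smul, zero_add, zero_smul, smul_zero, sub_zero] at hd1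
  have e1 := congrArg (fun a => fA a r) hz1
  have e2 := congrArg (fun a => fA a r) hd1
  simp only [map_smul, LinearMap.smul_apply, smul_eq_mul] at e1 e2
  rw [hA.symm r u, hru] at e1
  rcases mul_eq_zero.1 e1.symm with hc | hc
  · rw [hc, zero_smul] at hz1
    exact hu0 hz1
  · rw [hc, mul_zero] at e2
    exact (mul_ne_zero hdd hrr) e2

end Abstract

section Concrete

variable {n₁ n₂ : ℕ}

/-- pure elements lie in the tensor product subgroup, and conversely -/
theorem mem_tensor_iff (hn₁ : 0 < n₁) (hn₂ : 0 < n₂) (e : ι ≃ Fin n₁ × Fin n₂) (P : GL ι F) (g : GL ι F) :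
    g ∈ Cfsg.Geo.tensorProductSubgroup n₁ n₂ e P ↔
      ∃ (Mf : (Fin n₁ → F) →ₗ[F] (Fin n₁ → F)) (hf : (Fin n₂ → F) →ₗ[F] (Fin n₂ → F)),
        ∀ a b, glLin g (TensorFrame.pure e P a b) = TensorFrame.pure e P (Mf a) (hf b) := by
  refine ⟨fun hg => ?_, ?_⟩
  · obtain ⟨u, v, huv⟩ := TensorFrame.tensor_mem hg
    exact ⟨(glLin u).toLinearMap, (glLin v).toLinearMap, fun a b => by
      rw [glLin_apply, huv, LinearEquiv.coe_coe, LinearEquiv.coe_coe, glLin_apply, glLin_apply]⟩
  rintro ⟨Mf, hf, hgab⟩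
  have hinj : ∀ (a : Fin n₁ → F) (b : Fin n₂ → F), TensorFrame.pure e P a b = 0 → a = 0 ∨ b = 0 := by
    intro a b h
    by_contra hne
    simp only [not_or] at hne
    obtain ⟨i, hi⟩ := Function.ne_iff.1 hne.1
    obtain ⟨j, hj⟩ := Function.ne_iff.1 hne.2
    have h1 := TensorFrame.pure_coord e P a b i j
    rw [h, mulVec_zero, Pi.zero_apply] at h1
    exact mul_ne_zero hi hj h1.symm
  have ha₀ : (Pi.single ⟨0, hn₁⟩ 1 : Fin n₁ → F) ≠ 0 := by simp
  have hb₀ : (Pi.single ⟨0, hn₂⟩ 1 : Fin n₂ → F) ≠ 0 := by simp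
  have hMinj : Function.Injective Mf := by
    refine (injective_iff_map_eq_zero Mf).2 fun a ha => ?_
    refine (hinj a _ ((glLin g).injective ?_)).resolve_right hb₀
    rw [hgab, ha, map_zero, LinearMap.zero_apply, map_zero]
  have hhinj : Function.Injective hf := by
    refine (injective_iff_map_eq_zero hf).2 fun b hb => ?_
    refine (hinj _ b ((glLin g).injective ?_)).resolve_left ha₀
    rw [hgab, hb, map_zero, map_zero]
  obtain ⟨u, hu⟩ := (glLin (F := F) (ι := Fin n₁)).surjective (LinearEquiv.ofInjectiveEndo Mf hMinj)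
  obtain ⟨v, hv⟩ := (glLin (F := F) (ι := Fin n₂)).surjective (LinearEquiv.ofInjectiveEndo hf hhinj)
  have tens_apply : ∀ x y, glLin (TensorMax.tensGL e P u v) (TensorFrame.pure e P x y) =
      TensorFrame.pure e P ((u : Matrix (Fin n₁) (Fin n₁) F) *ᵥ x) ((v : Matrix (Fin n₂) (Fin n₂) F) *ᵥ y) := by
    intro x y
    rw [glLin_apply, TensorMax.tensGL_val]
    rw [TensorFrame.pure_def, TensorFrame.pure_def, mulVec_mulVec, Matrix.mul_assoc, ← Units.val_mul,
      inv_mul_cancel, Units.val_one, mul_one, ← mulVec_mulVec]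
    congr 1
    funext i
    simp only [mulVec, dotProduct, reindex_apply, submatrix_apply, Equiv.symm_symm, Function.comp_apply]
    rw [Equiv.sum_comp e (fun p : Fin n₁ × Fin n₂ =>
      ((u : Matrix (Fin n₁) (Fin n₁) F) ⊗ₖ (v : Matrix (Fin n₂) (Fin n₂) F)) (e i) p * (x p.1 * y p.2)),
      Fintype.sum_prod_type, Finset.sum_mul_sum]
    exact Finset.sum_congr rfl fun p _ => Finset.sum_congr rfl fun r _ => by
      rw [kroneckerMap_apply]; ring
  have hge : g = TensorMax.tensGL e P u v := glLin.injective (LinearEquiv.toLinearMap_injective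
    (ext_pure (TensorSS.span_pure e P) fun a b => by
      show glLin g _ = glLin _ _
      rw [tens_apply, ← glLin_apply, ← glLin_apply, hu, hv]
      exact hgab a b))
  rw [hge]
  exact TensorMax.tensGL_mem e P u v

/-- a symmetric form of the prelude, as a bilinear map -/
def toBilin {k : ℕ} {f : (Fin k → F) → (Fin k → F) → F} (hf : Cfsg.Geo.IsSymmetricForm f) :
    (Fin k → F) →ₗ[F] (Fin k → F) →ₗ[F] F :=
  LinearMap.mk₂ F f hf.bilinear.add_left hf.bilinear.smul_left hf.bilinear.add_right hf.bilinear.smul_right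

theorem symNd_toBilin {k : ℕ} {f : (Fin k → F) → (Fin k → F) → F} (hf : Cfsg.Geo.IsSymmetricForm f)
    (h2 : (2 : F) ≠ 0) {c : F} (hc : c ≠ 0) : TForm.SymNd (c • toBilin hf) where
  symm := fun x y => by show c * f y x = c * f x y; rw [hf.symm]
  nondeg := fun x hx => by
    by_contra hx0
    obtain ⟨y, hy⟩ := (hf.nondegenerate x hx0).2
    exact mul_ne_zero hc hy (hx y)
  two := h2

theorem exists_big (hodd : Odd (Fintype.card F)) (h3 : Fintype.card F ≠ 3) :
    ∃ R : F, R ≠ 0 ∧ R * R ≠ 1 := by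
  classical
  by_contra hno
  simp only [not_exists, not_and, not_not] at hno
  have hsub : (Finset.univ : Finset F) ⊆ {0, 1, -1} := by
    intro R _
    simp only [Finset.mem_insert, Finset.mem_singleton]
    exact (eq_or_ne R 0).imp_right fun h => mul_self_eq_one_iff.1 (hno R h)
  have h := (Finset.card_le_card hsub).trans Finset.card_le_three
  rw [Finset.card_univ] at h
  have h1 := Fintype.one_lt_card (α := F)
  obtain ⟨j, hj⟩ := hodd
  omega

/-- no totally singular plane -/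
theorem minus_plane {k : ℕ} {f : (Fin k → F) → (Fin k → F) → F} (hf : Cfsg.Geo.IsSymmetricForm f)
    (hk : k = 4) (hm : ¬ Cfsg.Geo.IsPlusTypeOn (fun v : Fin k → F => f v v) ⊤) {x y : Fin k → F}
    (hx : f x x = 0) (hy : f y y = 0) (hxy : f x y = 0) (hx0 : x ≠ 0) :
    y ∈ Submodule.span F ({x} : Set (Fin k → F)) := by
  by_contra hmem
  refine hm ⟨Submodule.span F (Set.range ![x, y]), le_top, fun w hw => ?_, ?_⟩
  · obtain ⟨c, rfl⟩ := (Submodule.mem_span_range_iff_exists_fun F).1 hw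
    have hb := hf.bilinear
    show f _ _ = 0
    simp only [Fin.sum_univ_two, Matrix.cons_val_zero, Matrix.cons_val_one, hb.add_left, hb.add_right,
      hb.smul_left, hb.smul_right, hx, hy, hxy, hf.symm y x, smul_eq_mul, mul_zero, add_zero]
  · rw [finrank_top, Module.finrank_fin_fun, finrank_span_eq_card ?_, Fintype.card_fin, hk]
    refine linearIndependent_fin2.2 ⟨fun h => hmem ?_, fun a h => ?_⟩
    · rw [show y = 0 from h]; exact zero_mem _
    · have h' : a • y = x := h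
      have ha : a ≠ 0 := fun e0 => hx0 (by rw [← h', e0, zero_smul])
      exact hmem (Submodule.mem_span_singleton.2 ⟨a⁻¹, by rw [← h', inv_smul_smul₀ ha]⟩)

variable (Qf : QuadraticForm F (ι → F)) (hsep : ∀ x, (∀ y, polar Qf x y = 0) → x = 0)
  (hodd : Odd (Fintype.card F)) (e : ι ≃ Fin n₁ × Fin n₂) (P : GL ι F)
  {f₁ : (Fin n₁ → F) → (Fin n₁ → F) → F} {f₂ : (Fin n₂ → F) → (Fin n₂ → F) → F}
  (hf₁ : Cfsg.Geo.IsSymmetricForm f₁) (hf₂ : Cfsg.Geo.IsSymmetricForm f₂)
  (hT : Cfsg.Geo.IsTensorFormStructure id (polar Qf) f₁ f₂ e P)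

include hsep hodd hf₁ hf₂ hT

/-- first factor smaller -/
theorem tensor_orth_maximal (h1 : 3 ≤ n₁) (h2' : 5 ≤ n₂) (h12 : n₁ < n₂) (hpar : Odd n₁ ∨ Odd n₂)
    (hex : n₁ = 3 → Fintype.card F ≠ 3)
    (hminus : n₁ = 4 → ¬ Cfsg.Geo.IsPlusTypeOn (fun v : Fin n₁ → F => f₁ v v) ⊤) :
    Cfsg.Geo.IsMaximalIn (Cfsg.Geo.omegaGL (⇑Qf))
      (Cfsg.Geo.tensorProductSubgroup n₁ n₂ e P ⊓ Cfsg.Geo.omegaGL (⇑Qf)) := by
  have h2 := CfsgLib.Classical.two_ne_zero_of_odd (F := F) hodd
  have gram : ∀ {k : ℕ} {f : (Fin k → F) → (Fin k → F) → F}, Cfsg.Geo.IsBilinearForm f →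
      ∀ x y, Cfsg.Geo.formOfGram id (Cfsg.Geo.gramMatrix f) x y = f x y :=
    fun {k f} h => TensorFrame.formOfGram_gram _ f h.add_left h.smul_left h.add_right h.smul_right
  obtain ⟨c, hc0, hform⟩ := TensorFrame.form_pure (fun _ _ => rfl) hT (gram hf₁.bilinear) (gram hf₂.bilinear)
  have hcard : Fintype.card ι = n₁ * n₂ := by simpa using Fintype.card_congr e
  refine abstract_maximal Qf hsep (by have := Nat.mul_le_mul h1 h2'; omega) _ (TensorFrame.pure e P)
    (mem_tensor_iff (by omega) (by omega) e P) (fA := (1 : F) • toBilin hf₁) (fB := c • toBilin hf₂)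
    (symNd_toBilin hf₁ h2 one_ne_zero) (symNd_toBilin hf₂ h2 hc0) (TensorSS.span_pure e P)
    (fun a b a' b' => by
      rw [hform]; show _ = 1 * f₁ a a' * (c * f₂ b b'); ring)
    (TensorFrame.pure_contract e P) ?_ (by rwa [Module.finrank_fin_fun]) (by rwa [Module.finrank_fin_fun])
    (by rwa [Module.finrank_fin_fun, Module.finrank_fin_fun])
    (by rwa [Module.finrank_fin_fun, Module.finrank_fin_fun])
    (fun h => exists_big hodd (hex (by rwa [Module.finrank_fin_fun] at h))) ?_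
  · intro φ
    obtain ⟨C, hC⟩ := TensorFrame.pure_contract' e P φ
    exact ⟨C, fun a b => hC b a⟩
  · intro h x y hx hy hxy hx0
    rw [Module.finrank_fin_fun] at h
    have hh : ∀ a b : Fin n₁ → F, ((1 : F) • toBilin hf₁) a b = f₁ a b := fun a b => one_mul _
    rw [hh] at hx hy hxy
    exact minus_plane hf₁ h (hminus h) hx hy hxy hx0

/-- second factor smaller -/
theorem tensor_orth_maximal_swap (h1 : 5 ≤ n₁) (h2' : 3 ≤ n₂) (h21 : n₂ < n₁) (hpar : Odd n₁ ∨ Odd n₂)
    (hex : n₂ = 3 → Fintype.card F ≠ 3)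
    (hminus : n₂ = 4 → ¬ Cfsg.Geo.IsPlusTypeOn (fun v : Fin n₂ → F => f₂ v v) ⊤) :
    Cfsg.Geo.IsMaximalIn (Cfsg.Geo.omegaGL (⇑Qf))
      (Cfsg.Geo.tensorProductSubgroup n₁ n₂ e P ⊓ Cfsg.Geo.omegaGL (⇑Qf)) := by
  have h2 := CfsgLib.Classical.two_ne_zero_of_odd (F := F) hodd
  have gram : ∀ {k : ℕ} {f : (Fin k → F) → (Fin k → F) → F}, Cfsg.Geo.IsBilinearForm f →
      ∀ x y, Cfsg.Geo.formOfGram id (Cfsg.Geo.gramMatrix f) x y = f x y :=
    fun {k f} h => TensorFrame.formOfGram_gram _ f h.add_left h.smul_left h.add_right h.smul_right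
  obtain ⟨c, hc0, hform⟩ := TensorFrame.form_pure (fun _ _ => rfl) hT (gram hf₁.bilinear) (gram hf₂.bilinear)
  have hcard : Fintype.card ι = n₁ * n₂ := by simpa using Fintype.card_congr e
  have hspan : Submodule.span F (Set.range fun p : (Fin n₂ → F) × (Fin n₁ → F) =>
      (TensorFrame.pure e P).flip p.1 p.2) = ⊤ := by
    rw [← TensorSS.span_pure e P]
    congr 1
    ext x
    exact ⟨fun ⟨p, hp⟩ => ⟨(p.2, p.1), hp⟩, fun ⟨p, hp⟩ => ⟨(p.2, p.1), hp⟩⟩
  refine abstract_maximal Qf hsep (by have := Nat.mul_le_mul h1 h2'; omega) _ (TensorFrame.pure e P).flip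
    (fun g => ?_) (fA := (1 : F) • toBilin hf₂) (fB := c • toBilin hf₁)
    (symNd_toBilin hf₂ h2 one_ne_zero) (symNd_toBilin hf₁ h2 hc0) hspan
    (fun b a b' a' => by
      simp only [LinearMap.flip_apply]
      rw [hform]; show _ = 1 * f₂ b b' * (c * f₁ a a'); ring)
    (fun φ => ?_) (fun φ => ?_) (by rwa [Module.finrank_fin_fun]) (by rwa [Module.finrank_fin_fun])
    (by rwa [Module.finrank_fin_fun, Module.finrank_fin_fun])
    (by rw [Module.finrank_fin_fun, Module.finrank_fin_fun]; exact hpar.symm)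
    (fun h => exists_big hodd (hex (by rwa [Module.finrank_fin_fun] at h))) ?_
  · rw [mem_tensor_iff (by omega) (by omega) e P g]
    exact ⟨fun ⟨Mf, hf, h⟩ => ⟨hf, Mf, fun b a => h a b⟩, fun ⟨hf, Mf, h⟩ => ⟨Mf, hf, fun a b => h b a⟩⟩
  · obtain ⟨C, hC⟩ := TensorFrame.pure_contract' e P φ
    exact ⟨C, fun b a => hC b a⟩
  · obtain ⟨C, hC⟩ := TensorFrame.pure_contract e P φ
    exact ⟨C, fun b a => hC a b⟩
  · intro h x y hx hy hxy hx0
    rw [Module.finrank_fin_fun] at h
    have hh : ∀ a b : Fin n₂ → F, ((1 : F) • toBilin hf₂) a b = f₂ a b := fun a b => one_mul _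
    rw [hh] at hx hy hxy
    exact minus_plane hf₂ h (hminus h) hx hy hxy hx0

end Concrete

end CfsgLib.MaxSub.TensorOO
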