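import Cfsg.Agent.Lib.Geom.WittQuad
import Cfsg.Agent.Lib.Classical.StdQuad
import Cfsg.Agent.Lib.Classical.Counts

/-!
Numbers of totally singular subspaces of the standard quadratic spaces, and the primes dividing them.
-/

set_option autoImplicit false

namespace CfsgLib.MaxSub.TSCount

open CfsgLib.Geom CfsgLib.Classical
open QuadraticMap (polar)

universe u v

section

variable {F : Type u} [Field F] [Fintype F] {V : Type v} [AddCommGroup V] [Module F V] [FiniteDimensional F V]
  (Q : QuadraticForm F V)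

/-- The singular vectors orthogonal to `W`. -/
def perpZeros (W : Submodule F V) : Set V := {v | Q v = 0 ∧ ∀ w ∈ W, polar Q w v = 0}

/-- Independent tuples spanning totally singular subspaces. -/
def Tup (j : ℕ) : Type v :=
  {f : Fin j → V // LinearIndependent F f ∧ ∀ w ∈ Submodule.span F (Set.range f), Q w = 0}

theorem ts_sup {W : Submodule F V} (hW : ∀ w ∈ W, Q w = 0) {v : V} (hv : v ∈ perpZeros Q W) :
    ∀ x ∈ W ⊔ Submodule.span F {v}, Q x = 0 := by
  intro x hx
  obtain ⟨w, hw, y, hy, rfl⟩ := Submodule.mem_sup.1 hx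
  obtain ⟨c, rfl⟩ := Submodule.mem_span_singleton.1 hy
  rw [QuadraticMap.map_add Q, QuadraticMap.map_smul, QuadraticMap.polar_smul_right, hW w hw, hv.1, hv.2 w hw]
  simp

theorem card_tup {m : ℕ} (Z : ℕ → ℕ)
    (hZ : ∀ j < m, ∀ W : Submodule F V, Module.finrank F W = j → (∀ w ∈ W, Q w = 0) →
      Nat.card (perpZeros Q W) = Z j) :
    ∀ j ≤ m, Nat.card (Tup Q j) = ∏ i ∈ Finset.range j, (Z i - Fintype.card F ^ i) := by
  classical
  haveI : Finite V := Module.finite_of_finite F
  intro j
  induction j with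
  | zero =>
    intro _
    rw [Finset.range_zero, Finset.prod_empty, Nat.card_eq_one_iff_unique]
    exact ⟨⟨fun a b => Subtype.ext (funext fun i => i.elim0)⟩,
      ⟨⟨fun i => i.elim0, linearIndependent_empty_type, fun w hw => by
        rw [Set.range_eq_empty, Submodule.span_empty, Submodule.mem_bot] at hw
        rw [hw, map_zero]⟩⟩⟩
  | succ j ih =>
    intro hj
    haveI : Finite (Tup Q j) := Subtype.finite
    letI : Fintype (Tup Q j) := Fintype.ofFinite _
    have hrange : ∀ (f : Fin j → V) (v : V), Submodule.span F (Set.range (Fin.snoc f v : Fin (j + 1) → V)) =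
        Submodule.span F (Set.range f) ⊔ Submodule.span F {v} := fun f v => by
      rw [Fin.range_snoc, Submodule.span_insert, sup_comm]
    let E : Tup Q (j + 1) ≃
        Σ f : Tup Q j, ↥(perpZeros Q (Submodule.span F (Set.range f.1)) \ (Submodule.span F (Set.range f.1) : Set V)) :=
      { toFun := fun g => ⟨⟨Fin.init g.1, g.2.1.comp _ (Fin.castSucc_injective j), fun w hw => g.2.2 w
          (Submodule.span_mono (Set.range_comp_subset_range Fin.castSucc g.1) hw)⟩, g.1 (Fin.last j),
          ⟨g.2.2 _ (Submodule.subset_span ⟨_, rfl⟩), fun w hw => by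
            have hw' : w ∈ Submodule.span F (Set.range g.1) :=
              Submodule.span_mono (Set.range_comp_subset_range Fin.castSucc g.1) hw
            have hl : g.1 (Fin.last j) ∈ Submodule.span F (Set.range g.1) := Submodule.subset_span ⟨_, rfl⟩
            show polar Q w _ = 0
            rw [QuadraticMap.polar, g.2.2 _ hw', g.2.2 _ hl, g.2.2 _ (add_mem hw' hl)]
            simp⟩,
          (linearIndependent_finSnoc.1 (show LinearIndependent F (Fin.snoc (Fin.init g.1) (g.1 (Fin.last j)) :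
            Fin (j + 1) → V) by rw [Fin.snoc_init_self]; exact g.2.1)).2⟩
        invFun := fun p => ⟨Fin.snoc p.1.1 p.2.1, linearIndependent_finSnoc.2 ⟨p.1.2.1, p.2.2.2⟩, by
          rw [hrange]; exact ts_sup Q p.1.2.2 p.2.2.1⟩
        left_inv := fun g => Subtype.ext (Fin.snoc_init_self g.1)
        right_inv := fun p => by
          obtain ⟨⟨f, hf⟩, v, hv⟩ := p
          refine Sigma.ext (Subtype.ext (by simp)) ?_
          simp only [Fin.snoc_last]
          rw [Subtype.heq_iff_coe_eq]
          intro x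
          show x ∈ perpZeros Q (Submodule.span F (Set.range (Fin.init (Fin.snoc f v : Fin (j + 1) → V)))) \ _ ↔ _
          rw [Fin.init_snoc] }
    rw [Nat.card_congr E, Nat.card_sigma, Finset.sum_congr rfl (g := fun _ => Z j - Fintype.card F ^ j) fun f _ => ?_,
      Finset.sum_const, Finset.card_univ, ← Nat.card_eq_fintype_card, ih (by omega), Finset.prod_range_succ,
      smul_eq_mul]
    have hd : Module.finrank F (Submodule.span F (Set.range f.1)) = j := by
      rw [finrank_span_eq_card f.2.1, Fintype.card_fin]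
    have hsub : (Submodule.span F (Set.range f.1) : Set V) ⊆ perpZeros Q (Submodule.span F (Set.range f.1)) :=
      fun v hv => ⟨f.2.2 v hv, fun w hw => by
        rw [QuadraticMap.polar, f.2.2 _ hw, f.2.2 _ hv, f.2.2 _ (add_mem hw hv)]; simp⟩
    rw [← hZ j (by omega) _ hd f.2.2, Nat.card_coe_set_eq, Nat.card_coe_set_eq, Set.ncard_sdiff hsub,
      ← Nat.card_coe_set_eq (Submodule.span F (Set.range f.1) : Set V)]
    congr 1
    exact (Module.natCard_eq_pow_finrank (K := F) (V := Submodule.span F (Set.range f.1))).trans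
      (by rw [hd, Nat.card_eq_fintype_card])

/-- Totally singular subspaces from tuples. -/
theorem count_mul {m : ℕ} (G : ℕ → ℕ)
    (hZ : ∀ j < m, ∀ W : Submodule F V, Module.finrank F W = j → (∀ w ∈ W, Q w = 0) →
      Nat.card (perpZeros Q W) = Fintype.card F ^ j * (G j + 1)) :
    Nat.card {W : Submodule F V // Module.finrank F ↥W = m ∧ ∀ w ∈ W, Q w = 0} *
      ∏ i ∈ Finset.range m, (Fintype.card F ^ (m - i) - 1) = ∏ i ∈ Finset.range m, G i := by
  classical
  haveI : Finite V := Module.finite_of_finite F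
  haveI : Finite (Submodule F V) := Finite.of_injective (fun W => (W : Set V)) SetLike.coe_injective
  let X := {W : Submodule F V // Module.finrank F ↥W = m ∧ ∀ w ∈ W, Q w = 0}
  letI : Fintype X := Fintype.ofFinite X
  haveI : Finite (Tup Q m) := Subtype.finite
  let f : Tup Q m → X := fun s =>
    ⟨Submodule.span F (Set.range s.1), by rw [finrank_span_eq_card s.2.1, Fintype.card_fin], s.2.2⟩
  have hfib : ∀ W : X, Nat.card {s : Tup Q m // f s = W} =
      ∏ i : Fin m, (Fintype.card F ^ m - Fintype.card F ^ (i : ℕ)) := fun W => by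
    have hspan : ∀ t : Fin m → W.1, LinearIndependent F t →
        Submodule.span F (Set.range fun i => (t i : V)) = W.1 := fun t ht =>
      Submodule.eq_of_le_of_finrank_eq (Submodule.span_le.2 fun _ ⟨j, hj⟩ => hj ▸ (t j).2)
        ((finrank_span_eq_card (ht.map' W.1.subtype W.1.ker_subtype)).trans (by rw [Fintype.card_fin, W.2.1]))
    have e : {s : Tup Q m // f s = W} ≃ {t : Fin m → W.1 // LinearIndependent F t} :=
      { toFun := fun s => ⟨fun j => ⟨s.1.1 j, by
            have h := congrArg Subtype.val s.2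
            exact h ▸ Submodule.subset_span ⟨j, rfl⟩⟩, LinearIndependent.of_comp W.1.subtype s.1.2.1⟩
        invFun := fun t => ⟨⟨fun j => (t.1 j : V), t.2.map' W.1.subtype W.1.ker_subtype,
          (hspan t.1 t.2).symm ▸ W.2.2⟩, Subtype.ext (hspan t.1 t.2)⟩
        left_inv := fun s => rfl
        right_inv := fun t => rfl }
    haveI : Finite W.1 := Module.finite_of_finite F
    letI : Fintype W.1 := Fintype.ofFinite _
    rw [Nat.card_congr e, card_linearIndependent (by rw [W.2.1]), W.2.1]
  have h := card_tup Q (fun j => Fintype.card F ^ j * (G j + 1)) hZ m le_rfl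
  rw [← Nat.card_congr (Equiv.sigmaFiberEquiv f), Nat.card_sigma, Finset.sum_congr rfl fun W _ => hfib W,
    Finset.sum_const, Finset.card_univ, smul_eq_mul, ← Nat.card_eq_fintype_card] at h
  have hGL : ∏ i : Fin m, (Fintype.card F ^ m - Fintype.card F ^ (i : ℕ)) =
      (∏ i ∈ Finset.range m, Fintype.card F ^ i) * ∏ i ∈ Finset.range m, (Fintype.card F ^ (m - i) - 1) := by
    rw [Fin.prod_univ_eq_prod_range (fun i => Fintype.card F ^ m - Fintype.card F ^ i), ← Finset.prod_mul_distrib]
    refine Finset.prod_congr rfl fun i hi => ?_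
    rw [Nat.mul_sub, mul_one, ← pow_add, Nat.add_sub_cancel' (by have := Finset.mem_range.1 hi; omega)]
  have hR : ∏ i ∈ Finset.range m, (Fintype.card F ^ i * (G i + 1) - Fintype.card F ^ i) =
      (∏ i ∈ Finset.range m, Fintype.card F ^ i) * ∏ i ∈ Finset.range m, G i := by
    rw [← Finset.prod_mul_distrib]
    exact Finset.prod_congr rfl fun i _ => by rw [Nat.mul_add, mul_one, Nat.add_sub_cancel]
  rw [hGL, hR, mul_left_comm] at h
  exact Nat.eq_of_mul_eq_mul_left (Finset.prod_pos fun i _ => pow_pos Fintype.card_pos i) h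

/-- Orthogonal singular vectors of isometric subspaces. -/
theorem card_perpZeros_eq (hQ : ∀ x, (∀ y, polar Q x y = 0) → x = 0) {U W : Submodule F V}
    (hd : Module.finrank F U = Module.finrank F W) (hU : ∀ u ∈ U, Q u = 0) (hW : ∀ w ∈ W, Q w = 0) :
    Nat.card (perpZeros Q U) = Nat.card (perpZeros Q W) := by
  obtain ⟨e⟩ := FiniteDimensional.nonempty_linearEquiv_of_finrank_eq hd
  obtain ⟨g, hg, hgU⟩ := witt_quadratic Q hQ U (W.subtype ∘ₗ e.toLinearMap)
    (Subtype.val_injective.comp e.injective) fun x => by rw [hU _ x.2]; exact hW _ (e x).2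
  refine Nat.card_congr (g.toEquiv.subtypeEquiv fun v => ?_)
  show (Q v = 0 ∧ ∀ u ∈ U, polar Q u v = 0) ↔ (Q (g v) = 0 ∧ ∀ w ∈ W, polar Q w (g v) = 0)
  refine and_congr (by rw [hg]) ⟨fun h w hw => ?_, fun h u hu => ?_⟩
  · obtain ⟨x, hx⟩ := e.surjective ⟨w, hw⟩
    have hgx : g (x : V) = w := (hgU x).trans (congrArg Subtype.val hx)
    rw [← hgx, polar_quadIsom hg]
    exact h _ x.2
  · rw [← polar_quadIsom hg u v, hgU ⟨u, hu⟩]
    exact h _ (e ⟨u, hu⟩).2

end

variable {F : Type u} [Field F] [Fintype F] {p : ℕ} [Fact p.Prime] [CharP F p] {r : ℕ} [hr : Fact r.Prime]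

theorem zeros_arith {Q l : ℕ} (hQ : 1 ≤ Q) :
    Q ^ l + (Q ^ l - 1) * Q ^ (l - 1) = (Q ^ l - 1) * (Q ^ (l - 1) + 1) + 1 := by
  obtain ⟨A, hA⟩ : ∃ A, Q ^ l = A + 1 := ⟨_, (Nat.sub_add_cancel (Nat.one_le_pow _ _ hQ)).symm⟩
  rw [hA, Nat.add_sub_cancel]
  ring

/-- Zeros orthogonal to a totally singular `j`-space in the plus space. -/
theorem perp_plus {j l : ℕ} {W : Submodule F (Fin (j + l) ⊕ Fin (j + l) → F)} (hd : Module.finrank F W = j)
    (hW : ∀ w ∈ W, qfPlus (j + l) F w = 0) :
    Nat.card (perpZeros (qfPlus (j + l) F) W) =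
      Fintype.card F ^ j * ((Fintype.card F ^ l - 1) * (Fintype.card F ^ (l - 1) + 1) + 1) := by
  classical
  let ψ : (Fin j → F) →ₗ[F] (Fin (j + l) ⊕ Fin (j + l) → F) :=
    { toFun := fun x => Sum.elim (Fin.append x 0) 0
      map_add' := fun x y => funext fun k => by
        rcases k with k | k
        · refine Fin.addCases (fun i => ?_) (fun i => ?_) k <;> simp
        · simp
      map_smul' := fun c x => funext fun k => by
        rcases k with k | k
        · refine Fin.addCases (fun i => ?_) (fun i => ?_) k <;> simp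
        · simp }
  have hψi : Function.Injective ψ := fun x y h => funext fun i => by
    simpa [ψ] using congrFun h (Sum.inl (Fin.castAdd l i))
  have h0 : ∀ w ∈ LinearMap.range ψ, qfPlus (j + l) F w = 0 := by
    rintro _ ⟨x, rfl⟩; simp [ψ, qfPlus_apply, Cfsg.quadFormPlus]
  rw [card_perpZeros_eq _ (qfPlus_sep (j + l)) (hd.trans (by
    rw [LinearMap.finrank_range_of_inj hψi, Module.finrank_fin_fun])) hW h0]
  have hmem : ∀ v, v ∈ perpZeros (qfPlus (j + l) F) (LinearMap.range ψ) ↔
      qfPlus (j + l) F v = 0 ∧ ∀ i, v (Sum.inr (Fin.castAdd l i)) = 0 := fun v => by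
    refine and_congr Iff.rfl ⟨fun h i => ?_, fun h w hw => ?_⟩
    · have h1 := h _ ⟨Pi.single i 1, rfl⟩
      rw [polar_qfPlus, Fin.sum_univ_add] at h1
      simpa [ψ, Pi.single_apply] using h1
    · obtain ⟨x, rfl⟩ := hw
      rw [polar_qfPlus, Fin.sum_univ_add]
      simp [ψ, h]
  let E : ↥(perpZeros (qfPlus (j + l) F) (LinearMap.range ψ)) ≃
      (Fin j → F) × {u : Fin l ⊕ Fin l → F // Cfsg.quadFormPlus l F u = 0} :=
    { toFun := fun v => (fun i => v.1 (.inl (Fin.castAdd l i)),
        ⟨Sum.elim (fun i => v.1 (.inl (Fin.natAdd j i))) (fun i => v.1 (.inr (Fin.natAdd j i))), by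
          have h := ((hmem _).1 v.2).1
          rw [qfPlus_apply, Cfsg.quadFormPlus, Fin.sum_univ_add] at h
          simp only [((hmem _).1 v.2).2, mul_zero, Finset.sum_const_zero, zero_add] at h
          simpa [Cfsg.quadFormPlus] using h⟩)
      invFun := fun x => ⟨Sum.elim (Fin.append x.1 fun i => x.2.1 (.inl i)) (Fin.append 0 fun i => x.2.1 (.inr i)),
        (hmem _).2 ⟨by
          rw [qfPlus_apply, Cfsg.quadFormPlus, Fin.sum_univ_add]
          simpa [Cfsg.quadFormPlus] using x.2.2, fun i => by simp⟩⟩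
      left_inv := fun v => Subtype.ext (funext fun k => by
        rcases k with k | k <;> refine Fin.addCases (fun i => ?_) (fun i => ?_) k <;>
          simp [((hmem _).1 v.2).2])
      right_inv := fun x => Prod.ext (funext fun i => by simp) (Subtype.ext (funext fun k => by
        rcases k with k | k <;> simp)) }
  rw [Nat.card_congr E, Nat.card_prod, card_quadFormPlus_eq, if_pos rfl, mul_one,
    zeros_arith Fintype.card_pos, Nat.card_fun, Nat.card_eq_fintype_card, Nat.card_fin]

/-- Zeros orthogonal to a totally singular `j`-space in the odd-dimensional space. -/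
theorem perp_odd (h2 : (2 : F) ≠ 0) {j l : ℕ} {W : Submodule F (Unit ⊕ (Fin (j + l) ⊕ Fin (j + l)) → F)}
    (hd : Module.finrank F W = j) (hW : ∀ w ∈ W, qfOdd (j + l) F w = 0) :
    Nat.card (perpZeros (qfOdd (j + l) F) W) = Fintype.card F ^ j * (Fintype.card F ^ (2 * l) - 1 + 1) := by
  classical
  let ψ : (Fin j → F) →ₗ[F] (Unit ⊕ (Fin (j + l) ⊕ Fin (j + l)) → F) :=
    { toFun := fun x => Sum.elim 0 (Sum.elim (Fin.append x 0) 0)
      map_add' := fun x y => funext fun k => by
        rcases k with k | k | k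
        · simp
        · refine Fin.addCases (fun i => ?_) (fun i => ?_) k <;> simp
        · simp
      map_smul' := fun c x => funext fun k => by
        rcases k with k | k | k
        · simp
        · refine Fin.addCases (fun i => ?_) (fun i => ?_) k <;> simp
        · simp }
  have hψi : Function.Injective ψ := fun x y h => funext fun i => by
    simpa [ψ] using congrFun h (Sum.inr (Sum.inl (Fin.castAdd l i)))
  have h0 : ∀ w ∈ LinearMap.range ψ, qfOdd (j + l) F w = 0 := by
    rintro _ ⟨x, rfl⟩; simp [ψ, qfOdd_apply, Cfsg.quadFormOdd]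
  rw [card_perpZeros_eq _ (qfOdd_sep h2 (j + l)) (hd.trans (by
    rw [LinearMap.finrank_range_of_inj hψi, Module.finrank_fin_fun])) hW h0]
  have hmem : ∀ v, v ∈ perpZeros (qfOdd (j + l) F) (LinearMap.range ψ) ↔
      qfOdd (j + l) F v = 0 ∧ ∀ i, v (Sum.inr (Sum.inr (Fin.castAdd l i))) = 0 := fun v => by
    refine and_congr Iff.rfl ⟨fun h i => ?_, fun h w hw => ?_⟩
    · have h1 := h _ ⟨Pi.single i 1, rfl⟩
      rw [polar_qfOdd, Fin.sum_univ_add] at h1
      simpa [ψ, Pi.single_apply] using h1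
    · obtain ⟨x, rfl⟩ := hw
      rw [polar_qfOdd, Fin.sum_univ_add]
      simp [ψ, h]
  let E : ↥(perpZeros (qfOdd (j + l) F) (LinearMap.range ψ)) ≃
      (Fin j → F) × {u : Unit ⊕ (Fin l ⊕ Fin l) → F // Cfsg.quadFormOdd l F u = 0} :=
    { toFun := fun v => (fun i => v.1 (.inr (.inl (Fin.castAdd l i))),
        ⟨Sum.elim (fun _ => v.1 (.inl ()))
          (Sum.elim (fun i => v.1 (.inr (.inl (Fin.natAdd j i)))) (fun i => v.1 (.inr (.inr (Fin.natAdd j i))))), by
          have h := ((hmem _).1 v.2).1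
          rw [qfOdd_apply, Cfsg.quadFormOdd, Fin.sum_univ_add] at h
          simp only [((hmem _).1 v.2).2, mul_zero, Finset.sum_const_zero, zero_add] at h
          simpa [Cfsg.quadFormOdd] using h⟩)
      invFun := fun x => ⟨Sum.elim (fun _ => x.2.1 (.inl ())) (Sum.elim
          (Fin.append x.1 fun i => x.2.1 (.inr (.inl i))) (Fin.append 0 fun i => x.2.1 (.inr (.inr i)))),
        (hmem _).2 ⟨by
          rw [qfOdd_apply, Cfsg.quadFormOdd, Fin.sum_univ_add]
          simpa [Cfsg.quadFormOdd] using x.2.2, fun i => by simp⟩⟩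
      left_inv := fun v => Subtype.ext (funext fun k => by
        rcases k with k | k | k
        · simp
        all_goals refine Fin.addCases (fun i => ?_) (fun i => ?_) k <;> simp [((hmem _).1 v.2).2])
      right_inv := fun x => Prod.ext (funext fun i => by simp) (Subtype.ext (funext fun k => by
        rcases k with k | k | k <;> simp)) }
  have hsq : Nat.card {t : F // t ^ 2 = 0} = 1 := Nat.card_eq_one_iff_unique.2
    ⟨⟨fun a b => Subtype.ext (by rw [pow_eq_zero_iff two_ne_zero |>.1 a.2, pow_eq_zero_iff two_ne_zero |>.1 b.2])⟩,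
      ⟨⟨0, by simp⟩⟩⟩
  rw [Nat.card_congr E, Nat.card_prod, card_quadFormOdd_eq, hsq, mul_one, Nat.card_fun, Nat.card_eq_fintype_card,
    Nat.card_fin, Nat.sub_add_cancel (Nat.one_le_pow _ _ Fintype.card_pos)]
  congr 1
  rcases l with _ | l
  · simp
  · obtain ⟨A, hA⟩ : ∃ A, Fintype.card F ^ (l + 1) = A + 1 :=
      ⟨_, (Nat.sub_add_cancel (Nat.one_le_pow _ _ Fintype.card_pos)).symm⟩
    rw [Nat.add_sub_cancel, mul_assoc, ← pow_succ, two_mul, pow_add (Fintype.card F) (l + 1) (l + 1), hA, Nat.add_sub_cancel]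
    ring

/-- Zeros orthogonal to a totally singular `j`-space in the minus space. -/
theorem perp_minus {a b : F} (hab : ∀ x y : F, x ^ 2 + a * x * y + b * y ^ 2 = 0 → x = 0 ∧ y = 0) {j l : ℕ}
    {W : Submodule F ((Fin (j + l) ⊕ Fin (j + l)) ⊕ Fin 2 → F)}
    (hd : Module.finrank F W = j) (hW : ∀ w ∈ W, qfMinus (j + l) F a b w = 0) :
    Nat.card (perpZeros (qfMinus (j + l) F a b) W) =
      Fintype.card F ^ j * ((Fintype.card F ^ l - 1) * (Fintype.card F ^ (l + 1) + 1) + 1) := by
  classical
  let ψ : (Fin j → F) →ₗ[F] ((Fin (j + l) ⊕ Fin (j + l)) ⊕ Fin 2 → F) :=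
    { toFun := fun x => Sum.elim (Sum.elim (Fin.append x 0) 0) 0
      map_add' := fun x y => funext fun k => by
        rcases k with (k | k) | k
        · refine Fin.addCases (fun i => ?_) (fun i => ?_) k <;> simp
        · simp
        · simp
      map_smul' := fun c x => funext fun k => by
        rcases k with (k | k) | k
        · refine Fin.addCases (fun i => ?_) (fun i => ?_) k <;> simp
        · simp
        · simp }
  have hψi : Function.Injective ψ := fun x y h => funext fun i => by
    simpa [ψ] using congrFun h (Sum.inl (Sum.inl (Fin.castAdd l i)))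
  have h0 : ∀ w ∈ LinearMap.range ψ, qfMinus (j + l) F a b w = 0 := by
    rintro _ ⟨x, rfl⟩; simp [ψ, qfMinus_apply, Cfsg.quadFormMinus]
  rw [card_perpZeros_eq _ (qfMinus_sep (j + l) hab) (hd.trans (by
    rw [LinearMap.finrank_range_of_inj hψi, Module.finrank_fin_fun])) hW h0]
  have hmem : ∀ v, v ∈ perpZeros (qfMinus (j + l) F a b) (LinearMap.range ψ) ↔
      qfMinus (j + l) F a b v = 0 ∧ ∀ i, v (Sum.inl (Sum.inr (Fin.castAdd l i))) = 0 := fun v => by
    refine and_congr Iff.rfl ⟨fun h i => ?_, fun h w hw => ?_⟩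
    · have h1 := h _ ⟨Pi.single i 1, rfl⟩
      rw [polar_qfMinus, Fin.sum_univ_add] at h1
      simpa [ψ, Pi.single_apply] using h1
    · obtain ⟨x, rfl⟩ := hw
      rw [polar_qfMinus, Fin.sum_univ_add]
      simp [ψ, h]
  let E : ↥(perpZeros (qfMinus (j + l) F a b) (LinearMap.range ψ)) ≃
      (Fin j → F) × {u : (Fin l ⊕ Fin l) ⊕ Fin 2 → F // Cfsg.quadFormMinus l F a b u = 0} :=
    { toFun := fun v => (fun i => v.1 (.inl (.inl (Fin.castAdd l i))),
        ⟨Sum.elim (Sum.elim (fun i => v.1 (.inl (.inl (Fin.natAdd j i)))) (fun i => v.1 (.inl (.inr (Fin.natAdd j i)))))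
          (fun k => v.1 (.inr k)), by
          have h := ((hmem _).1 v.2).1
          rw [qfMinus_apply, Cfsg.quadFormMinus, Fin.sum_univ_add] at h
          simp only [((hmem _).1 v.2).2, mul_zero, Finset.sum_const_zero, zero_add] at h
          simpa [Cfsg.quadFormMinus] using h⟩)
      invFun := fun x => ⟨Sum.elim (Sum.elim (Fin.append x.1 fun i => x.2.1 (.inl (.inl i)))
          (Fin.append 0 fun i => x.2.1 (.inl (.inr i)))) (fun k => x.2.1 (.inr k)),
        (hmem _).2 ⟨by
          rw [qfMinus_apply, Cfsg.quadFormMinus, Fin.sum_univ_add]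
          simpa [Cfsg.quadFormMinus] using x.2.2, fun i => by simp⟩⟩
      left_inv := fun v => Subtype.ext (funext fun k => by
        rcases k with (k | k) | k
        · refine Fin.addCases (fun i => ?_) (fun i => ?_) k <;> simp
        · refine Fin.addCases (fun i => ?_) (fun i => ?_) k <;> simp [((hmem _).1 v.2).2]
        · simp)
      right_inv := fun x => Prod.ext (funext fun i => by simp) (Subtype.ext (funext fun k => by
        rcases k with (k | k) | k <;> simp)) }
  rw [Nat.card_congr E, Nat.card_prod, card_quadFormMinus_eq, card_binary_zero a b hab, mul_one, Nat.card_fun,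
    Nat.card_eq_fintype_card, Nat.card_fin]
  congr 1
  rcases l with _ | l
  · simp
  · obtain ⟨A, hA⟩ : ∃ A, Fintype.card F ^ (l + 1) = A + 1 :=
      ⟨_, (Nat.sub_add_cancel (Nat.one_le_pow _ _ Fintype.card_pos)).symm⟩
    rw [Nat.add_sub_cancel, pow_succ _ (l + 1), hA, Nat.add_sub_cancel, sq, mul_assoc, ← mul_assoc (_ ^ l),
      ← pow_succ, hA]
    ring

include p in
omit hr in
theorem not_dvd_card (hrp : r ≠ p) [hr : Fact r.Prime] : ¬ r ∣ Fintype.card F := fun h => by
  obtain ⟨f, -, hf⟩ := FiniteField.card F p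
  rw [hf] at h
  exact hrp ((Nat.prime_dvd_prime_iff_eq hr.out Fact.out).1 (hr.out.dvd_of_dvd_pow h))

/-- Powers of the characteristic are one less than the other factors. -/
theorem not_dvd_char (hr' : r ∣ Fintype.card F) {k : ℕ} (hk : 0 < k) :
    ¬ r ∣ Fintype.card F ^ k - 1 ∧ ¬ r ∣ Fintype.card F ^ k + 1 := by
  have h := hr'.trans (dvd_pow_self _ hk.ne')
  refine ⟨fun h1 => hr.out.not_dvd_one ?_, fun h1 => hr.out.not_dvd_one ((Nat.dvd_add_right h).1 h1)⟩
  simpa [Nat.sub_sub_self (Nat.one_le_pow _ _ Fintype.card_pos)] using Nat.dvd_sub h h1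

theorem dvd_card_self (hrp : r = p) : r ∣ Fintype.card F := by
  obtain ⟨f, -, hf⟩ := FiniteField.card F p
  rw [hf, hrp]
  exact dvd_pow_self p f.ne_zero

include p in
/-- Primes dividing the number of totally singular `m`-spaces in odd dimension. -/
theorem dvd_count_odd (h2 : (2 : F) ≠ 0) {d m : ℕ} (hm : m ≤ d)
    (h : r ∣ Nat.card {W : Submodule F (Unit ⊕ (Fin d ⊕ Fin d) → F) //
      Module.finrank F ↥W = m ∧ ∀ w ∈ W, Cfsg.quadFormOdd d F w = 0}) :
    r ≠ p ∧ ∃ j < m, r ∣ Fintype.card F ^ (2 * (d - j)) - 1 := by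
  classical
  simp only [← qfOdd_apply] at h
  have key := count_mul (qfOdd d F) (m := m) (fun j => Fintype.card F ^ (2 * (d - j)) - 1) fun j hj W hd hW => by
    obtain ⟨l, rfl⟩ : ∃ l, d = j + l := ⟨d - j, by omega⟩
    rw [Nat.add_sub_cancel_left]
    exact perp_odd h2 hd hW
  obtain ⟨i, hi, hdi⟩ := hr.out.prime.exists_mem_finset_dvd (key ▸ h.mul_right _)
  rw [Finset.mem_range] at hi
  exact ⟨fun hrp => (not_dvd_char (dvd_card_self hrp) (by omega)).1 hdi, i, hi, hdi⟩

include p in
/-- Primes dividing the number of totally singular `m`-spaces of the plus space. -/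
theorem dvd_count_plus {d m : ℕ} (hm : m < d)
    (h : r ∣ Nat.card {W : Submodule F (Fin d ⊕ Fin d → F) //
      Module.finrank F ↥W = m ∧ ∀ w ∈ W, Cfsg.quadFormPlus d F w = 0}) :
    r ≠ p ∧ ∃ j < m, r ∣ Fintype.card F ^ (d - j) - 1 ∨ r ∣ Fintype.card F ^ (d - j - 1) + 1 := by
  classical
  simp only [← qfPlus_apply] at h
  have key := count_mul (qfPlus d F) (m := m)
    (fun j => (Fintype.card F ^ (d - j) - 1) * (Fintype.card F ^ (d - j - 1) + 1)) fun j hj W hd hW => by
    obtain ⟨l, rfl⟩ : ∃ l, d = j + l := ⟨d - j, by omega⟩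
    rw [Nat.add_sub_cancel_left]
    exact perp_plus hd hW
  obtain ⟨i, hi, hdi⟩ := hr.out.prime.exists_mem_finset_dvd (key ▸ h.mul_right _)
  rw [Finset.mem_range] at hi
  have h2 := hr.out.dvd_mul.1 hdi
  refine ⟨fun hrp => ?_, i, hi, h2⟩
  exact h2.elim (not_dvd_char (dvd_card_self hrp) (by omega)).1 (not_dvd_char (dvd_card_self hrp) (by omega)).2

include p in
/-- Primes dividing the number of totally singular `m`-spaces of the minus space. -/
theorem dvd_count_minus {a b : F} (hab : ∀ x y : F, x ^ 2 + a * x * y + b * y ^ 2 = 0 → x = 0 ∧ y = 0) {l m : ℕ}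
    (hm : m ≤ l)
    (h : r ∣ Nat.card {W : Submodule F ((Fin l ⊕ Fin l) ⊕ Fin 2 → F) //
      Module.finrank F ↥W = m ∧ ∀ w ∈ W, Cfsg.quadFormMinus l F a b w = 0}) :
    r ≠ p ∧ ∃ j < m, r ∣ Fintype.card F ^ (l - j) - 1 ∨ r ∣ Fintype.card F ^ (l - j + 1) + 1 := by
  classical
  simp only [← qfMinus_apply] at h
  have key := count_mul (qfMinus l F a b) (m := m)
    (fun j => (Fintype.card F ^ (l - j) - 1) * (Fintype.card F ^ (l - j + 1) + 1)) fun j hj W hd hW => by
    obtain ⟨k, rfl⟩ : ∃ k, l = j + k := ⟨l - j, by omega⟩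
    rw [Nat.add_sub_cancel_left]
    exact perp_minus hab hd hW
  obtain ⟨i, hi, hdi⟩ := hr.out.prime.exists_mem_finset_dvd (key ▸ h.mul_right _)
  rw [Finset.mem_range] at hi
  have h2 := hr.out.dvd_mul.1 hdi
  refine ⟨fun hrp => ?_, i, hi, h2⟩
  exact h2.elim (not_dvd_char (dvd_card_self hrp) (by omega)).1 (not_dvd_char (dvd_card_self hrp) (by omega)).2

end CfsgLib.MaxSub.TSCount
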