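import Cfsg.Agent.Lib.MaxSub.TFormMinusKron
import Cfsg.Agent.Lib.MaxSub.TensorOO
import Cfsg.Agent.Lib.Geom.NondegMax

/-!
The stabiliser of a tensor decomposition `O3 ⊗ O4-` is maximal in `Ω12-`, odd characteristic.
-/

set_option autoImplicit false
set_option linter.unusedSectionVars false
set_option linter.unusedSimpArgs false
set_option linter.style.haveILetI false
set_option maxHeartbeats 1000000

namespace CfsgLib.MaxSub.TensorOMinus

open Module
open CfsgLib.MaxSub
open scoped MatrixGroups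
open CfsgLib.Classical (glLin glLin_apply)
open CfsgLib.Geom
open QuadraticMap (polar)
open CfsgLib.MaxSub.TForm (sgn IsFr SymNd)

variable {F : Type*} [Field F] [Fintype F]

section Forms

variable {M : Type*} [AddCommGroup M] [Module F M]

/-- binary forms represent every value, with an orthogonal partner -/
theorem exists_value_pair {f : M →ₗ[F] M →ₗ[F] F} (hS : SymNd f) {e e' : M} (he : f e e ≠ 0)
    (he' : f e' e' ≠ 0) (ho : f e e' = 0) {d : F} (hd : d ≠ 0) :
    ∃ u u' : M, f u u = d ∧ f u u' = 0 ∧ f u' u' = f e e * f e' e' * d ∧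
      u ∈ Submodule.span F ({e, e'} : Set M) ∧ u' ∈ Submodule.span F ({e, e'} : Set M) := by
  open Polynomial in
  obtain ⟨x, y, hxy⟩ := FiniteField.exists_root_sum_quadratic
    (f := C (f e e) * X ^ 2) (g := C (f e' e') * X ^ 2 + C (-d))
    (degree_C_mul_X_pow 2 he)
    (by rw [degree_add_C (by rw [degree_C_mul_X_pow 2 he']; norm_num), degree_C_mul_X_pow 2 he']; rfl)
    (FiniteField.odd_card_of_char_ne_two fun hc => hS.two (by
      haveI := ringChar.of_eq hc
      exact CharTwo.two_eq_zero))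
  simp only [Polynomial.eval_mul, Polynomial.eval_add, Polynomial.eval_C, Polynomial.eval_pow,
    Polynomial.eval_X] at hxy
  have ho' : f e' e = 0 := by rw [hS.symm]; exact ho
  refine ⟨x • e + y • e', (-(f e' e') * y) • e + (f e e * x) • e', ?_, ?_, ?_,
    Submodule.mem_span_pair.2 ⟨_, _, rfl⟩, Submodule.mem_span_pair.2 ⟨_, _, rfl⟩⟩
  all_goals simp only [map_add, map_smul, LinearMap.add_apply, LinearMap.smul_apply, smul_eq_mul, ho, ho']
  · linear_combination hxy
  · ring
  · linear_combination f e e * f e' e' * hxy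

variable [FiniteDimensional F M]

/-- a frame extending an anisotropic vector, the first two values equal -/
theorem exists_fr_equal {f : M →ₗ[F] M →ₗ[F] F} (hS : SymNd f) (hn : finrank F M = 4) :
    ∃ l : Fin 4 → M, IsFr f l ∧ f (l 0) (l 0) = f (l 1) (l 1) := by
  obtain ⟨a, ha⟩ := hS.exists_fr hn
  have h01 : (1 : Fin 4) ≠ 2 := by decide
  obtain ⟨u, u', hu, huu', hu', hum, hum'⟩ :=
    exists_value_pair hS (ha.aniso 1) (ha.aniso 2) (ha.orth 1 2 h01) (ha.aniso 0)
  have hperp : ∀ i : Fin 4, i ≠ 1 → i ≠ 2 → ∀ x ∈ Submodule.span F ({a 1, a 2} : Set M), f (a i) x = 0 := by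
    intro i h1 h2 x hx
    obtain ⟨p, q, rfl⟩ := Submodule.mem_span_pair.1 hx
    simp [ha.orth i 1 h1, ha.orth i 2 h2]
  refine ⟨![a 0, u, u', a 3], ⟨fun i j hij => ?_, fun i => ?_⟩, by simp [hu]⟩
  · fin_cases i <;> fin_cases j <;> first | exact absurd rfl hij | skip
    all_goals simp only [Matrix.cons_val_zero, Matrix.cons_val_one, Matrix.cons_val, Fin.zero_eta, Fin.mk_one,
      Fin.reduceFinMk]
    · exact hperp 0 (by decide) (by decide) _ hum
    · exact hperp 0 (by decide) (by decide) _ hum'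
    · exact ha.orth 0 3 (by decide)
    · rw [hS.symm]; exact hperp 0 (by decide) (by decide) _ hum
    · exact huu'
    · rw [hS.symm]; exact hperp 3 (by decide) (by decide) _ hum
    · rw [hS.symm]; exact hperp 0 (by decide) (by decide) _ hum'
    · rw [hS.symm]; exact huu'
    · rw [hS.symm]; exact hperp 3 (by decide) (by decide) _ hum'
    · exact ha.orth 3 0 (by decide)
    · exact hperp 3 (by decide) (by decide) _ hum
    · exact hperp 3 (by decide) (by decide) _ hum'
  · fin_cases i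
    all_goals simp only [Matrix.cons_val_zero, Matrix.cons_val_one, Matrix.cons_val, Fin.zero_eta, Fin.mk_one,
      Fin.reduceFinMk]
    · exact ha.aniso 0
    · rw [hu]; exact ha.aniso 0
    · rw [hu']; exact mul_ne_zero (mul_ne_zero (ha.aniso 1) (ha.aniso 2)) (ha.aniso 0)
    · exact ha.aniso 3

end Forms

section Refl

variable {V : Type*} [AddCommGroup V] [Module F V] [FiniteDimensional F V]

/-- a product of pairs of reflections at orthogonal vectors of equal values is a commutator -/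
theorem refl_family (Q : QuadraticForm F V) (hsep : ∀ x, (∀ y, polar Q x y = 0) → x = 0)
    (h5 : 5 ≤ finrank F V) (h2 : (2 : F) ≠ 0) :
    ∀ {N : ℕ} (x y : Fin N → V), (∀ i, Q (x i) ≠ 0) → (∀ i, Q (x i) = Q (y i)) →
      (∀ i, polar Q (x i) (y i) = 0) →
      (∀ i j, i ≠ j → polar Q (x i) (x j) = 0 ∧ polar Q (x i) (y j) = 0 ∧ polar Q (y i) (y j) = 0) →
      ∃ k : quadIsoms Q, k ∈ commutator (quadIsoms Q) ∧
        (∀ i, k.1 (x i) = -x i ∧ k.1 (y i) = -y i) ∧
        ∀ z, (∀ i, polar Q (x i) z = 0 ∧ polar Q (y i) z = 0) → k.1 z = z := by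
  intro N
  induction N with
  | zero => exact fun x y _ _ _ _ => ⟨1, one_mem _, fun i => i.elim0, fun z _ => rfl⟩
  | succ N ih =>
      intro x y hx hv hxy ho
      obtain ⟨k', hk', hneg', hfix'⟩ := ih (x ∘ Fin.succ) (y ∘ Fin.succ) (fun i => hx _) (fun i => hv _)
        (fun i => hxy _) (fun i j hij => ho _ _ fun h => hij (Fin.succ_injective _ h))
      have hy : Q (y 0) ≠ 0 := hv 0 ▸ hx 0
      have hmem := OrthSub.refl_pair_mem hsep h5 (hx 0) hy (hv 0)
      set k₀ : quadIsoms Q := ⟨reflEquiv Q (x 0) (hx 0), reflEquiv_mem Q (x 0) (hx 0)⟩ *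
        ⟨reflEquiv Q (y 0) hy, reflEquiv_mem Q (y 0) hy⟩
      have happ : ∀ z, k₀.1 z = reflEquiv Q (x 0) (hx 0) (reflEquiv Q (y 0) hy z) := fun z => rfl
      have hfix₀ : ∀ z, polar Q (x 0) z = 0 → polar Q (y 0) z = 0 → k₀.1 z = z := fun z h1 h2 => by
        rw [happ, reflEquiv_apply Q (y 0) hy, h2, mul_zero, zero_smul, sub_zero, reflEquiv_apply, h1,
          mul_zero, zero_smul, sub_zero]
      have hself : ∀ (v : V) (hv : Q v ≠ 0), reflEquiv Q v hv v = -v := fun v hv => by
        rw [reflEquiv_apply, QuadraticMap.polar_self, nsmul_eq_mul, Nat.cast_ofNat, ← mul_assoc,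
          mul_comm _ (2 : F), mul_assoc, inv_mul_cancel₀ hv, mul_one, two_smul]
        abel
      refine ⟨k₀ * k', mul_mem hmem hk', fun i => ?_, fun z hz => ?_⟩
      · show k₀.1 (k'.1 (x i)) = -x i ∧ k₀.1 (k'.1 (y i)) = -y i
        refine Fin.cases ?_ (fun i => ?_) i
        · have hz : ∀ j : Fin N, polar Q (x j.succ) (x 0) = 0 ∧ polar Q (y j.succ) (x 0) = 0 := fun j =>
            ⟨(ho _ _ (Fin.succ_ne_zero j)).1, by
              rw [QuadraticMap.polar_comm]; exact (ho _ _ (Fin.succ_ne_zero j).symm).2.1⟩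
          have hz' : ∀ j : Fin N, polar Q (x j.succ) (y 0) = 0 ∧ polar Q (y j.succ) (y 0) = 0 := fun j =>
            ⟨(ho _ _ (Fin.succ_ne_zero j)).2.1, (ho _ _ (Fin.succ_ne_zero j)).2.2⟩
          rw [hfix' _ hz, hfix' _ hz', happ, happ]
          constructor
          · rw [reflEquiv_apply Q (y 0) hy, QuadraticMap.polar_comm (y := x 0), hxy 0, mul_zero, zero_smul,
              sub_zero, hself]
          · rw [hself, map_neg, reflEquiv_apply, hxy 0, mul_zero, zero_smul, sub_zero]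
        · have h1 := (hneg' i).1
          have h2 := (hneg' i).2
          simp only [Function.comp_apply] at h1 h2
          rw [h1, h2, map_neg, map_neg, hfix₀, hfix₀]
          · exact ⟨rfl, rfl⟩
          · exact (ho _ _ (Fin.succ_ne_zero i).symm).2.1
          · exact (ho _ _ (Fin.succ_ne_zero i).symm).2.2
          · exact (ho _ _ (Fin.succ_ne_zero i).symm).1
          · rw [QuadraticMap.polar_comm]; exact (ho _ _ (Fin.succ_ne_zero i)).2.1
      · show k₀.1 (k'.1 z) = z
        rw [hfix' z fun i => hz i.succ, hfix₀ z (hz 0).1 (hz 0).2]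

end Refl

variable {ι : Type} [Fintype ι] [DecidableEq ι]
variable {A B : Type*} [AddCommGroup A] [Module F A] [AddCommGroup B] [Module F B]
  [FiniteDimensional F A] [FiniteDimensional F B]

/-- `σ ⊗ 1` is a commutator -/
theorem sigma_mem (Qf : QuadraticForm F (ι → F)) (hsep : ∀ x, (∀ y, polar Qf x y = 0) → x = 0)
    (h5 : 5 ≤ finrank F (ι → F)) (τ : A →ₗ[F] B →ₗ[F] (ι → F)) {fA : A →ₗ[F] A →ₗ[F] F}
    {fB : B →ₗ[F] B →ₗ[F] F} (hA : SymNd fA) (hB : SymNd fB)
    (hform : ∀ a b a' b', polar Qf (τ a b) (τ a' b') = fA a a' * fB b b')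
    (hdA : finrank F A = 3) (hdB : finrank F B = 4) {a : Fin 3 → A} (ha : IsFr fA a) (m : Fin 3) :
    ∃ k : quadIsoms Qf, k ∈ commutator (quadIsoms Qf) ∧
      ∃ Mf : A →ₗ[F] A, (∀ x b, k.1 (τ x b) = τ (Mf x) b) ∧
        ∀ i, Mf (a i) = sgn F (decide (i ≠ m)) • a i := by
  have h2 := hA.two
  have hself : ∀ x, polar Qf x x = 2 * Qf x := fun x => by
    rw [QuadraticMap.polar_self, nsmul_eq_mul, Nat.cast_ofNat]
  obtain ⟨b, hb⟩ := hB.exists_fr hdB
  have hne : ∀ m : Fin 3, m + 1 ≠ m ∧ m + 2 ≠ m ∧ m + 1 ≠ m + 2 ∧ ∀ i, i = m ∨ i = m + 1 ∨ i = m + 2 := by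
    decide
  obtain ⟨hm1, hm2, hm12, hm3⟩ := hne m
  choose u u' hu huu' hu' hum hum' using fun k =>
    exists_value_pair hA (ha.aniso (m + 1)) (ha.aniso (m + 2)) (ha.orth _ _ hm12) (d := (fB (b k) (b k))⁻¹)
      (inv_ne_zero (hb.aniso k))
  have hv : ∀ k, fA (u k) (u k) * fB (b k) (b k) = 1 := fun k => by
    rw [hu, inv_mul_cancel₀ (hb.aniso k)]
  have hv' : ∀ k, fA (u' k) (u' k) * fB (b k) (b k) = fA (a (m + 1)) (a (m + 1)) * fA (a (m + 2)) (a (m + 2)) :=
    fun k => by rw [hu', mul_assoc, inv_mul_cancel₀ (hb.aniso k), mul_one]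
  have hval : ∀ s t : A, ∀ k k', fA s s * fB (b k) (b k) = fA t t * fB (b k') (b k') →
      Qf (τ s (b k)) = Qf (τ t (b k')) := fun s t k k' h => mul_left_cancel₀ h2 (by
    rw [← hself, ← hself, hform, hform, h])
  have hq : ∀ s : A, ∀ k, fA s s * fB (b k) (b k) ≠ 0 → Qf (τ s (b k)) ≠ 0 := fun s k h e => h (by
    rw [← hform, hself, e, mul_zero])
  obtain ⟨k, hk, hneg, hfix⟩ := refl_family Qf hsep h5 h2
    ![τ (u 0) (b 0), τ (u 2) (b 2), τ (u' 0) (b 0), τ (u' 2) (b 2)]
    ![τ (u 1) (b 1), τ (u 3) (b 3), τ (u' 1) (b 1), τ (u' 3) (b 3)]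
    (fun i => by
      fin_cases i <;> simp <;> apply hq <;> first
        | (rw [hv]; exact one_ne_zero) | (rw [hv']; exact mul_ne_zero (ha.aniso _) (ha.aniso _)))
    (fun i => by
      fin_cases i <;> simp <;> apply hval <;> first | rw [hv, hv] | rw [hv', hv'])
    (fun i => by
      fin_cases i <;> simp [hform, hb.orth])
    (fun i j hij => by
      fin_cases i <;> fin_cases j <;> first
        | exact absurd rfl hij
        | simp [hform, hb.orth, huu', (fun k => (hA.symm (u k) (u' k)).trans (huu' k) : ∀ k, fA (u' k) (u k) = 0)])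
  let bA := Basis.mk ha.linearIndependent (ha.span_eq_top hdA).ge
  let Mf : A →ₗ[F] A := bA.constr F fun i => sgn F (decide (i ≠ m)) • a i
  have hMf : ∀ i, Mf (a i) = sgn F (decide (i ≠ m)) • a i := fun i => by
    have hbi : bA i = a i := Basis.mk_apply _ _ i
    exact (congrArg Mf hbi.symm).trans (bA.constr_basis F (fun i => sgn F (decide (i ≠ m)) • a i) i)
  have hplane : ∀ x ∈ Submodule.span F ({a (m + 1), a (m + 2)} : Set A), fA (a m) x = 0 ∧ Mf x = -x := by
    intro x hx
    obtain ⟨p, q, rfl⟩ := Submodule.mem_span_pair.1 hx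
    refine ⟨by simp [ha.orth m _ hm1.symm, ha.orth m _ hm2.symm], ?_⟩
    rw [map_add, map_smul, map_smul, hMf, hMf]
    simp [sgn, hm1, hm2]
    abel
  have hkn : ∀ j, k.1 (τ (u j) (b j)) = -τ (u j) (b j) ∧ k.1 (τ (u' j) (b j)) = -τ (u' j) (b j) := fun j => by
    fin_cases j
    · exact ⟨(hneg 0).1, (hneg 2).1⟩
    · exact ⟨(hneg 0).2, (hneg 2).2⟩
    · exact ⟨(hneg 1).1, (hneg 3).1⟩
    · exact ⟨(hneg 1).2, (hneg 3).2⟩
  have hkf : ∀ j, k.1 (τ (a m) (b j)) = τ (a m) (b j) := fun j => hfix _ fun i => by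
    have h1 : ∀ t, fA (u t) (a m) = 0 := fun t => by rw [hA.symm]; exact (hplane _ (hum t)).1
    have h1' : ∀ t, fA (u' t) (a m) = 0 := fun t => by rw [hA.symm]; exact (hplane _ (hum' t)).1
    fin_cases i <;> simp [hform, h1, h1']
  refine ⟨k, hk, Mf, fun x y => ?_, hMf⟩
  refine LinearMap.congr_fun (LinearMap.ext_on_range (hb.span_eq_top hdB) (f := k.1.toLinearMap ∘ₗ τ x)
    (g := τ (Mf x)) fun j => ?_) y
  have hfr : IsFr fA ![u j, u' j, a m] := by
    have h1 : fA (u j) (a m) = 0 := by rw [hA.symm]; exact (hplane _ (hum j)).1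
    have h1' : fA (u' j) (a m) = 0 := by rw [hA.symm]; exact (hplane _ (hum' j)).1
    refine ⟨fun p q hpq => ?_, fun p => ?_⟩
    · fin_cases p <;> fin_cases q <;> first
        | exact absurd rfl hpq
        | simp [h1, h1', huu', (hplane _ (hum j)).1, (hplane _ (hum' j)).1, (hA.symm (u j) (u' j)).trans (huu' j)]
    · fin_cases p <;> simp [hu, hu', hb.aniso, ha.aniso]
  refine LinearMap.congr_fun (LinearMap.ext_on_range (hfr.span_eq_top hdA)
    (f := k.1.toLinearMap ∘ₗ τ.flip (b j)) (g := τ.flip (b j) ∘ₗ Mf) fun p => ?_) x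
  fin_cases p
  · show k.1 (τ (u j) (b j)) = τ (Mf (u j)) (b j)
    rw [(hkn j).1, (hplane _ (hum j)).2, map_neg, LinearMap.neg_apply]
  · show k.1 (τ (u' j) (b j)) = τ (Mf (u' j)) (b j)
    rw [(hkn j).2, (hplane _ (hum' j)).2, map_neg, LinearMap.neg_apply]
  · show k.1 (τ (a m) (b j)) = τ (Mf (a m)) (b j)
    rw [hkf, hMf]
    simp [sgn]

/-- `1 ⊗ diag (-1, -1, 1, 1)` is a commutator -/
theorem diagB_mem (Qf : QuadraticForm F (ι → F)) (hsep : ∀ x, (∀ y, polar Qf x y = 0) → x = 0)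
    (h5 : 5 ≤ finrank F (ι → F)) (τ : A →ₗ[F] B →ₗ[F] (ι → F)) {fA : A →ₗ[F] A →ₗ[F] F}
    {fB : B →ₗ[F] B →ₗ[F] F} (hA : SymNd fA)
    (hform : ∀ a b a' b', polar Qf (τ a b) (τ a' b') = fA a a' * fB b b')
    (hdA : finrank F A = 3) (hdB : finrank F B = 4) {l : Fin 4 → B} (hl : IsFr fB l)
    (hval : fB (l 0) (l 0) = fB (l 1) (l 1)) :
    ∃ k : quadIsoms Qf, k ∈ commutator (quadIsoms Qf) ∧
      ∃ hf : B →ₗ[F] B, (∀ x b, k.1 (τ x b) = τ x (hf b)) ∧
        ∀ i : Fin 4, hf (l i) = sgn F (decide (i.val < 2)) • l i := by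
  have h2 := hA.two
  have hself : ∀ x, polar Qf x x = 2 * Qf x := fun x => by
    rw [QuadraticMap.polar_self, nsmul_eq_mul, Nat.cast_ofNat]
  obtain ⟨a, ha⟩ := hA.exists_fr hdA
  obtain ⟨k, hk, hneg, hfix⟩ := refl_family Qf hsep h5 h2 (fun i => τ (a i) (l 0)) (fun i => τ (a i) (l 1))
    (fun i e => mul_ne_zero (ha.aniso i) (hl.aniso 0) (by rw [← hform, hself, e, mul_zero]))
    (fun i => mul_left_cancel₀ h2 (by rw [← hself, ← hself, hform, hform, hval]))
    (fun i => by simp [hform, hl.orth])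
    (fun i j hij => by simp [hform, ha.orth i j hij])
  let bB := Basis.mk hl.linearIndependent (hl.span_eq_top hdB).ge
  let hf : B →ₗ[F] B := bB.constr F fun i : Fin 4 => sgn F (decide (i.val < 2)) • l i
  have hhf : ∀ i : Fin 4, hf (l i) = sgn F (decide (i.val < 2)) • l i := fun i => by
    have hbi : bB i = l i := Basis.mk_apply _ _ i
    exact (congrArg hf hbi.symm).trans (bB.constr_basis F (fun i : Fin 4 => sgn F (decide (i.val < 2)) • l i) i)
  refine ⟨k, hk, hf, fun x y => ?_, hhf⟩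
  refine LinearMap.congr_fun (LinearMap.ext_on_range (hl.span_eq_top hdB) (f := k.1.toLinearMap ∘ₗ τ x)
    (g := τ x ∘ₗ hf) fun j => ?_) y
  refine LinearMap.congr_fun (LinearMap.ext_on_range (ha.span_eq_top hdA)
    (f := k.1.toLinearMap ∘ₗ τ.flip (l j)) (g := τ.flip (hf (l j))) fun i => ?_) x
  show k.1 (τ (a i) (l j)) = τ (a i) (hf (l j))
  rw [hhf, map_smul]
  fin_cases j
  · simpa [sgn] using (hneg i).1
  · simpa [sgn] using (hneg i).2
  · simpa [sgn] using hfix (τ (a i) (l 2)) fun t => by simp [hform, hl.orth]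
  · simpa [sgn] using hfix (τ (a i) (l 3)) fun t => by simp [hform, hl.orth]

/-- maximality of the stabiliser of `O3 ⊗ O4-` -/
theorem abstract_maximal (Qf : QuadraticForm F (ι → F)) (hsep : ∀ x, (∀ y, polar Qf x y = 0) → x = 0)
    (hι : 5 ≤ Fintype.card ι) (S : Subgroup (GL ι F)) (τ : A →ₗ[F] B →ₗ[F] (ι → F))
    (hSmem : ∀ g : GL ι F, g ∈ S ↔
      ∃ (Mf : A →ₗ[F] A) (hf : B →ₗ[F] B), ∀ a b, glLin g (τ a b) = τ (Mf a) (hf b))
    {fA : A →ₗ[F] A →ₗ[F] F} {fB : B →ₗ[F] B →ₗ[F] F} (hA : SymNd fA) (hB : SymNd fB)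
    (hspan : Submodule.span F (Set.range fun p : A × B => τ p.1 p.2) = ⊤)
    (hform : ∀ a b a' b', polar Qf (τ a b) (τ a' b') = fA a a' * fB b b')
    (hC : ∀ φ : Module.Dual F B, ∃ C : (ι → F) →ₗ[F] A, ∀ a b, C (τ a b) = φ b • a)
    (hC' : ∀ φ : Module.Dual F A, ∃ C : (ι → F) →ₗ[F] B, ∀ a b, C (τ a b) = φ a • b)
    (hdA : finrank F A = 3) (hdB : finrank F B = 4) (hbig : ∃ R : F, R ≠ 0 ∧ R * R ≠ 1)
    (hminus : ∀ x y, fB x x = 0 → fB y y = 0 → fB x y = 0 → x ≠ 0 →
      y ∈ Submodule.span F ({x} : Set B)) :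
    Cfsg.Geo.IsMaximalIn (Cfsg.Geo.omegaGL (⇑Qf)) (S ⊓ Cfsg.Geo.omegaGL (⇑Qf)) := by
  classical
  have h2 := hA.two
  have h5 : 5 ≤ finrank F (ι → F) := by rwa [Module.finrank_fintype_fun_eq_card]
  choose C hCt using fun w : B => hC (fB.flip w)
  choose C' hC't using fun x : A => hC' (fA.flip x)
  let T : TForm.Sys F A B (ι → F) (RingHom.id F) :=
    { tau := τ, fA := fA, fB := fB, form := QuadraticMap.polarBilin Qf, C := C, C' := C' }
  set K := Cfsg.Geo.omegaGL (⇑Qf) with hK
  have hKmap : K = (commutator (quadIsoms Qf)).map (isomsToGL Qf) := omegaGL_eq_map Qf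
  have hlin : ∀ (k : quadIsoms Qf) x, glLin (isomsToGL Qf k) x = k.1 x := fun k x => by
    rw [glLin_apply, isomsToGL_mulVec]
  have hself : ∀ x, polar Qf x x = 2 * Qf x := fun x => by
    rw [QuadraticMap.polar_self, nsmul_eq_mul, Nat.cast_ofNat]
  refine ⟨lt_of_le_of_ne inf_le_right ?_, fun M hM1 hM2 => ?_⟩
  swap
  · set H : Subgroup ((ι → F) ≃ₗ[F] (ι → F)) := M.map glLin.toMonoidHom with hHdef
    have hIn : ∀ (k : quadIsoms Qf) (Mf : A →ₗ[F] A) (hf : B →ₗ[F] B),
        k ∈ commutator (quadIsoms Qf) →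
        (∀ a b, k.1 (τ a b) = τ (Mf a) (hf b)) → k.1 ∈ H := by
      intro k Mf hf hk hab
      refine ⟨isomsToGL Qf k, hM1 ⟨(hSmem _).2 ⟨Mf, hf, fun a b => by rw [hlin]; exact hab a b⟩, ?_⟩,
        LinearEquiv.ext fun x => hlin k x⟩
      rw [hKmap]
      exact Subgroup.mem_map_of_mem _ hk
    have D : TForm.MData T H :=
      { symA := hA
        symB := hB
        form_tau := hform
        C_tau := fun w a b => hCt w a b
        C'_tau := fun x a b => hC't x a b
        span := hspan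
        isom := by
          rintro _ ⟨g, hg, rfl⟩ x y
          obtain ⟨g', -, rfl⟩ := (hKmap ▸ hM2 hg :)
          show polar Qf (glLin (isomsToGL Qf g') x) (glLin (isomsToGL Qf g') y) = polar Qf x y
          rw [hlin, hlin]
          exact OrthSub.polar_map g' x y
        genA := fun g hg => by
          obtain ⟨k, hk, hkab⟩ := TensorOO.lift_gen Qf hsep (by omega) hA hspan hform hC' hg
          exact ⟨k.1, hIn k g.toLinearMap LinearMap.id hk hkab, hkab⟩
        genB := fun g hg => by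
          obtain ⟨k, hk, hkab⟩ := TensorOO.lift_gen Qf hsep (by omega) (τ := τ.flip) (f' := fA) hB
            (by
              rw [← hspan]
              congr 1
              ext x
              exact ⟨fun ⟨p, hp⟩ => ⟨(p.2, p.1), hp⟩, fun ⟨p, hp⟩ => ⟨(p.2, p.1), hp⟩⟩)
            (fun b a b' a' => by
              show polar Qf (τ a b) (τ a' b') = _
              rw [hform, mul_comm])
            (fun φ => by
              obtain ⟨C, hC⟩ := hC φ
              exact ⟨C, fun b a => hC a b⟩)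
            hg
          exact ⟨k.1, hIn k LinearMap.id g.toLinearMap hk fun a b => hkab b a, fun a b => hkab b a⟩
        dimA := hdA
        dimB := hdB
        noPlane := hminus
        big := hbig
        sigma := fun a ha m => by
          obtain ⟨k, hk, Mf, hk', hMf⟩ := sigma_mem Qf hsep h5 τ hA hB hform hdA hdB ha m
          refine ⟨k.1, hIn k Mf LinearMap.id hk hk', fun i b => ?_⟩
          show k.1 (τ (a i) b) = _
          rw [hk', hMf]
        diagB := fun l hl hval => by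
          obtain ⟨k, hk, hf, hk', hhf⟩ := diagB_mem Qf hsep h5 τ hA hform hdA hdB hl hval
          refine ⟨k.1, hIn k LinearMap.id hf hk hk', fun x i => ?_⟩
          show k.1 (τ x (l i)) = _
          rw [hk', hhf] }
    by_cases hno : TForm.NoFrame T H
    · left
      refine le_antisymm (fun g hg => ⟨?_, hM2 hg⟩) hM1
      obtain ⟨l, hl, hval⟩ := exists_fr_equal hB hdB
      obtain ⟨u, w, hu, huw, hw, hum, hwm⟩ :=
        exists_value_pair hB (hl.aniso 2) (hl.aniso 3) (hl.orth 2 3 (by decide)) (hl.aniso 0)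
      have hperp : ∀ i : Fin 4, i ≠ 2 → i ≠ 3 → ∀ x ∈ Submodule.span F ({l 2, l 3} : Set B),
          fB (l i) x = 0 ∧ fB x (l i) = 0 := by
        intro i h1 h2 x hx
        obtain ⟨p, q, rfl⟩ := Submodule.mem_span_pair.1 hx
        constructor <;> simp [hl.orth i 2 h1, hl.orth i 3 h2, hl.orth 2 i h1.symm, hl.orth 3 i h2.symm]
      have hl' : IsFr fB ![l 0, u, l 1, w] := by
        refine ⟨fun i j hij => ?_, fun i => ?_⟩
        · fin_cases i <;> fin_cases j <;> first
            | exact absurd rfl hij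
            | simp [hperp 0 (by decide) (by decide) _ hum, hperp 1 (by decide) (by decide) _ hum,
                hperp 0 (by decide) (by decide) _ hwm, hperp 1 (by decide) (by decide) _ hwm,
                hl.orth, huw, (hB.symm u w).trans huw]
        · fin_cases i <;> simp [hu, hw, hl.aniso]
      refine (hSmem g).2 (D.kron_all hno (l := l) hl hval (l' := ![l 0, u, l 1, w]) hl' (by simp [T, hu])
        (c := ![true, false, true, false]) (fun j t _ htd x => ?_) (by decide) (glLin g) ⟨g, hg, rfl⟩)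
      have htl : ∀ y ∈ Submodule.span F ({l 2, l 3} : Set B), t (τ x y) = τ x y := by
        intro y hy
        obtain ⟨p, q, rfl⟩ := Submodule.mem_span_pair.1 hy
        have e2 := htd x 2
        have e3 := htd x 3
        simp [sgn, T] at e2 e3
        simp [e2, e3]
      fin_cases j
      · simpa [sgn, T] using htd x 0
      · simpa [sgn, T] using htl u hum
      · simpa [sgn, T] using htd x 1
      · simpa [sgn, T] using htl w hwm
    · right
      refine le_antisymm hM2 ?_
      obtain ⟨v, hv0, hv⟩ := hA.exists_iso_top hdA.ge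
      obtain ⟨v', hv', hvv', -⟩ := hA.partner hv0 hv
      obtain ⟨z, hz0, hz⟩ := hB.exists_iso_top (by omega)
      obtain ⟨z', hz', hzz', -⟩ := hB.partner hz0 hz
      have hq : ∀ a b, fA a a = 0 → Qf (τ a b) = 0 := fun a b ha => by
        have h := hself (τ a b)
        rw [hform, ha, zero_mul] at h
        exact (mul_eq_zero.1 h.symm).resolve_left h2
      have hfull : ∀ a b, a ≠ 0 → fA a a = 0 → b ≠ 0 → fB b b = 0 →
          OrthSub.Full (M.comap (isomsToGL Qf)) (τ a b) := by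
        intro a b ha haa hb hbb w hw
        obtain ⟨k, ⟨g, hg, rfl⟩, hgx⟩ := D.full_pure hno ha haa hb hbb w hw
        show isomsToGL Qf _ ∈ M
        suffices h : isomsToGL Qf (CfsgLib.Classical.siegel Qf (τ a b) w) = g by rw [h]; exact hg
        refine glLin.injective (LinearEquiv.ext fun x => ?_)
        rw [hlin, CfsgLib.Classical.siegel_apply Qf (hq a b haa) hw]
        refine Eq.trans ?_ (hgx x).symm
        show x + polar Qf (τ a b) x • w - (polar Qf w x + Qf w * polar Qf (τ a b) x) • τ a b =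
          x + polar Qf (τ a b) x • w - (polar Qf w x + polar Qf w w / 2 * polar Qf (τ a b) x) • τ a b
        rw [hself, mul_div_cancel_left₀ _ h2]
      have hne : polar Qf (τ v z) (τ v' z') ≠ 0 := by
        rw [hform, hvv', hzz', one_mul]; exact one_ne_zero
      have hv'0 : v' ≠ 0 := fun e0 => by rw [e0, map_zero] at hvv'; exact zero_ne_one hvv'
      have hz'0 : z' ≠ 0 := fun e0 => by rw [e0, map_zero] at hzz'; exact zero_ne_one hzz'
      have hle := OrthSub.commutator_le_of_pair hsep h5 (hfull v z hv0 hv hz0 hz)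
        (hfull v' z' hv'0 hv' hz'0 hz') (hq v z hv) (hq v' z' hv') hne
      rw [hKmap]
      rintro _ ⟨g, hg, rfl⟩
      exact hle hg
  -- a Siegel transformation which is not pure
  intro hEq
  obtain ⟨v, hv0, hv⟩ := hA.exists_iso_top hdA.ge
  obtain ⟨u, hu, hvu, huv⟩ := hA.partner hv0 hv
  obtain ⟨z, hz0, hz⟩ := hB.exists_iso_top (by omega)
  obtain ⟨z', hz', hzz', hz'z⟩ := hB.partner hz0 hz
  obtain ⟨r, hr, hrr⟩ := hA.exists_aniso_of_pos (hA.ndS_perp_pair hv hu hvu) (by
    have := TForm.le_finrank_perpV (f := fA) ![v, u]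
    omega)
  obtain ⟨d, hd, hdd⟩ := hB.exists_aniso_of_pos (hB.ndS_perp_pair hz hz' hzz') (by
    have := TForm.le_finrank_perpV (f := fB) ![z, z']
    omega)
  have hrv : fA r v = 0 := TForm.mem_perpV.1 hr 0
  have hru : fA r u = 0 := TForm.mem_perpV.1 hr 1
  have hdz : fB d z = 0 := TForm.mem_perpV.1 hd 0
  have hdz' : fB d z' = 0 := TForm.mem_perpV.1 hd 1
  have hu0 : u ≠ 0 := fun e0 => by rw [e0, map_zero] at hvu; exact zero_ne_one hvu
  have hQ0 : Qf (τ v z) = 0 := by
    have h := hself (τ v z)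
    rw [hform, hv, zero_mul] at h
    exact (mul_eq_zero.1 h.symm).resolve_left h2
  have hperp : polar Qf (τ v z) (τ r d) = 0 := by rw [hform, hA.symm r v, hrv, zero_mul]
  set g := isomsToGL Qf (CfsgLib.Classical.siegel Qf (τ v z) (τ r d))
  have hgK : g ∈ K := by
    rw [hKmap]; exact Subgroup.mem_map_of_mem _ (OrthSub.siegel_mem_commutator hsep h5 _ _)
  have hgS : g ∈ S := by
    have : g ∈ S ⊓ K := by rw [hEq]; exact hgK
    exact this.1
  obtain ⟨Mf, hf, hab⟩ := (hSmem g).1 hgS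
  have h := hab u z'
  rw [hlin, CfsgLib.Classical.siegel_apply Qf hQ0 hperp, hform, hform, hvu, hzz', hru, zero_mul, zero_add,
    mul_one, mul_one, one_smul] at h
  have hz1 := congrArg (T.C z) h
  have hd1 := congrArg (T.C d) h
  simp only [T, map_add, map_sub, map_smul, hCt, LinearMap.flip_apply] at hz1 hd1
  rw [hz'z, hdz, hz, one_smul, zero_smul, add_zero, zero_smul, smul_zero, sub_zero] at hz1
  rw [hB.symm d z', hdz', hB.symm d z, hdz, zero_smul, zero_add, zero_smul, smul_zero, sub_zero] at hd1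
  have e1 := congrArg (fun a => fA a r) hz1
  have e2 := congrArg (fun a => fA a r) hd1
  simp only [map_smul, LinearMap.smul_apply, smul_eq_mul] at e1 e2
  rw [hA.symm r u, hru] at e1
  rcases mul_eq_zero.1 e1.symm with hc | hc
  · rw [hc, zero_smul] at hz1
    exact hu0 hz1
  · rw [hc, mul_zero] at e2
    exact (mul_ne_zero hdd hrr) e2

section Concrete

variable {n : ℕ}

/-- the stabiliser of a tensor decomposition `O3 ⊗ O4-` is maximal -/
theorem tensor_three_minus (Qf : QuadraticForm F (ι → F)) (hsep : ∀ x, (∀ y, polar Qf x y = 0) → x = 0)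
    (hodd : Odd (Fintype.card F)) (hq : Fintype.card F ≠ 3) (e : ι ≃ Fin 3 × Fin 4) (P : GL ι F)
    {f₁ : (Fin 3 → F) → (Fin 3 → F) → F} {f₂ : (Fin 4 → F) → (Fin 4 → F) → F}
    (hf₁ : Cfsg.Geo.IsSymmetricForm f₁) (hf₂ : Cfsg.Geo.IsSymmetricForm f₂)
    (hm : ¬ Cfsg.Geo.IsPlusTypeOn (fun v : Fin 4 → F => f₂ v v) ⊤)
    (hT : Cfsg.Geo.IsTensorFormStructure id (polar Qf) f₁ f₂ e P) :
    Cfsg.Geo.IsMaximalIn (Cfsg.Geo.omegaGL (⇑Qf))
      (Cfsg.Geo.tensorProductSubgroup 3 4 e P ⊓ Cfsg.Geo.omegaGL (⇑Qf)) := by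
  have h2 := CfsgLib.Classical.two_ne_zero_of_odd (F := F) hodd
  have gram : ∀ {k : ℕ} {f : (Fin k → F) → (Fin k → F) → F}, Cfsg.Geo.IsBilinearForm f →
      ∀ x y, Cfsg.Geo.formOfGram id (Cfsg.Geo.gramMatrix f) x y = f x y :=
    fun {k f} h => TensorFrame.formOfGram_gram _ f h.add_left h.smul_left h.add_right h.smul_right
  obtain ⟨c, hc0, hform⟩ := TensorFrame.form_pure (fun _ _ => rfl) hT (gram hf₁.bilinear) (gram hf₂.bilinear)
  have hcard : Fintype.card ι = 12 := by simpa using Fintype.card_congr e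
  refine abstract_maximal Qf hsep (by omega) _ (TensorFrame.pure e P)
    (TensorOO.mem_tensor_iff (by omega) (by omega) e P) (fA := c • TensorOO.toBilin hf₁)
    (fB := (1 : F) • TensorOO.toBilin hf₂)
    (TensorOO.symNd_toBilin hf₁ h2 hc0) (TensorOO.symNd_toBilin hf₂ h2 one_ne_zero) (TensorSS.span_pure e P)
    (fun a b a' b' => by
      rw [hform]; show _ = c * f₁ a a' * (1 * f₂ b b'); ring)
    (TensorFrame.pure_contract e P) ?_ (Module.finrank_fin_fun F) (Module.finrank_fin_fun F)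
    (TensorOO.exists_big hodd hq) ?_
  · intro φ
    obtain ⟨C, hC⟩ := TensorFrame.pure_contract' e P φ
    exact ⟨C, fun a b => hC b a⟩
  · intro x y hx hy hxy hx0
    have hh : ∀ a b : Fin 4 → F, ((1 : F) • TensorOO.toBilin hf₂) a b = f₂ a b := fun a b => one_mul _
    rw [hh] at hx hy hxy
    exact TensorOO.minus_plane hf₂ rfl hm hx hy hxy hx0

end Concrete

end CfsgLib.MaxSub.TensorOMinus
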