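import Cfsg.Agent.Lib.MaxSub.Transvection
import Cfsg.Agent.Lib.MaxSub.ExtBase

/-!
Overgroups of `SL_a(F) ⊗ SL_b(F)` on `a × b` matrices, `a < b`: if an element moves some subspace
`A ⊗ y` off the family of these, a largest intersection of a moved subspace with a member of the
family gives a moved subspace of proper support, and a commutator with it gives a transvection.
-/

set_option autoImplicit false
set_option linter.unusedSectionVars false
set_option linter.unusedSimpArgs false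

namespace CfsgLib.MaxSub.TensorMax

open Matrix

variable {F : Type*} [Field F] {a b : ℕ}

local notation "T⊗" => Matrix (Fin a) (Fin b) F

theorem exists_dot {k : ℕ} {p : Submodule F (Fin k → F)} {u : Fin k → F} (hu : u ∉ p) :
    ∃ σ : Fin k → F, σ ⬝ᵥ u = 1 ∧ ∀ v ∈ p, σ ⬝ᵥ v = 0 := by
  obtain ⟨φ, h1, h2⟩ := exists_dual_one hu
  refine ⟨fun i => φ (Pi.single i 1), ?_, fun v hv => ?_⟩
  · refine Eq.trans ?_ h1
    conv_rhs => rw [pi_eq_sum_univ' u, map_sum]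
    exact Finset.sum_congr rfl fun i _ => by rw [map_smul, smul_eq_mul, mul_comm]
  · refine Eq.trans ?_ (h2 v hv)
    conv_rhs => rw [pi_eq_sum_univ' v, map_sum]
    exact Finset.sum_congr rfl fun i _ => by rw [map_smul, smul_eq_mul, mul_comm]

theorem exists_perp {k : ℕ} (φ : Fin k → F) (p : Submodule F (Fin k → F))
    (h : Module.finrank F p + 1 < k) : ∃ u, φ ⬝ᵥ u = 0 ∧ u ∉ p := by
  by_contra hc
  simp only [not_exists, not_and, not_not] at hc
  set Φ : (Fin k → F) →ₗ[F] F := ∑ i, φ i • LinearMap.proj i with hΦ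
  have hker : LinearMap.ker Φ ≤ p := fun u hu => hc u (by
    rw [LinearMap.mem_ker] at hu
    simpa [hΦ, dotProduct] using hu)
  have h1 := Submodule.finrank_mono hker
  have h2 := LinearMap.finrank_range_add_finrank_ker Φ
  have h3 := Submodule.finrank_le (LinearMap.range Φ)
  rw [Module.finrank_fin_fun] at h2
  rw [Module.finrank_self] at h3
  omega

theorem pure_mulVec (x : Fin a → F) (y ψ : Fin b → F) :
    vecMulVec x y *ᵥ ψ = (y ⬝ᵥ ψ) • x := by
  rw [vecMulVec_mulVec]; ext i; simp [mul_comm]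

theorem vecMul_pure (φ x : Fin a → F) (y : Fin b → F) :
    φ ᵥ* vecMulVec x y = (φ ⬝ᵥ x) • y := vecMul_vecMulVec _ _ _

/-- `x ↦ x ⊗ y` -/
def pur (y : Fin b → F) : (Fin a → F) →ₗ[F] T⊗ where
  toFun x := vecMulVec x y
  map_add' u v := add_vecMulVec u v y
  map_smul' c v := smul_vecMulVec c v y

theorem pur_apply (y : Fin b → F) (x : Fin a → F) : pur y x = vecMulVec x y := rfl

/-- `A ⊗ y` -/
def fam (y : Fin b → F) : Submodule F T⊗ := LinearMap.range (pur (a := a) y)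

theorem pur_mem (y : Fin b → F) (x : Fin a → F) : pur y x ∈ fam (a := a) y := ⟨x, rfl⟩

theorem mem_fam {y : Fin b → F} (hy : y ≠ 0) {X : T⊗} :
    X ∈ fam y ↔ ∀ ψ, ψ ⬝ᵥ y = 0 → X *ᵥ ψ = 0 := by
  refine ⟨?_, fun h => ?_⟩
  · rintro ⟨x, rfl⟩ ψ hψ
    rw [pur_apply, pure_mulVec, dotProduct_comm, hψ, zero_smul]
  · obtain ⟨σ, hσ, -⟩ := exists_dot (p := ⊥) (u := y) (by simpa using hy)
    refine ⟨X *ᵥ σ, Matrix.ext fun i l => ?_⟩
    have := congrFun (h (Pi.single l 1 - y l • σ)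
      (by rw [sub_dotProduct, smul_dotProduct, hσ, single_dotProduct]; simp)) i
    rw [mulVec_sub, mulVec_smul, Pi.sub_apply, mulVec_single_one, Pi.zero_apply, sub_eq_zero] at this
    rw [pur_apply, vecMulVec_apply]
    simpa [mul_comm] using this.symm

theorem pur_injective {y : Fin b → F} (hy : y ≠ 0) : Function.Injective (pur (a := a) y) := by
  obtain ⟨σ, hσ, -⟩ := exists_dot (p := ⊥) (u := y) (by simpa using hy)
  intro x x' h
  have := congrArg (fun X : T⊗ => X *ᵥ σ) h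
  simpa [pur_apply, pure_mulVec, dotProduct_comm y σ, hσ] using this

theorem finrank_fam {y : Fin b → F} (hy : y ≠ 0) : Module.finrank F (fam (a := a) y) = a := by
  rw [fam, LinearMap.finrank_range_of_inj (pur_injective hy), Module.finrank_fin_fun]

theorem fam_eq_of_mem {y z : Fin b → F} (hy : y ≠ 0) (hz : z ≠ 0) {X : T⊗} (hX : X ≠ 0)
    (h : X ∈ fam y) (h' : X ∈ fam z) : fam (a := a) z = fam y := by
  obtain ⟨x, rfl⟩ := h
  have hx : x ≠ 0 := by rintro rfl; simp at hX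
  have hyz : y ∈ Submodule.span F {z} := by
    by_contra hn
    obtain ⟨σ, hσ, hσz⟩ := exists_dot hn
    have := (mem_fam hz).1 h' σ (hσz z (Submodule.mem_span_singleton_self z))
    rw [pur_apply, pure_mulVec, dotProduct_comm, hσ, one_smul] at this
    exact hx this
  obtain ⟨c, hc⟩ := Submodule.mem_span_singleton.mp hyz
  have hc0 : c ≠ 0 := by rintro rfl; exact hy (by rw [← hc, zero_smul])
  refine le_antisymm ?_ ?_ <;> rintro _ ⟨v, rfl⟩
  · exact ⟨c⁻¹ • v, by rw [pur_apply, pur_apply, ← hc, smul_vecMulVec, vecMulVec_smul, smul_smul,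
      inv_mul_cancel₀ hc0, one_smul]⟩
  · exact ⟨c • v, by rw [pur_apply, pur_apply, ← hc, smul_vecMulVec, vecMulVec_smul]⟩

/-- `X ↦ X ψ` -/
def evalAt (ψ : Fin b → F) : T⊗ →ₗ[F] (Fin a → F) where
  toFun X := X *ᵥ ψ
  map_add' X Y := add_mulVec X Y ψ
  map_smul' c X := smul_mulVec c X ψ

/-- `W` is one of the `A ⊗ y` -/
def IsFam (W : Submodule F T⊗) : Prop := ∃ y : Fin b → F, y ≠ 0 ∧ W = fam y

/-- `M` realises the map `h` -/
def InM (M : Subgroup (T⊗ ≃ₗ[F] T⊗)) (h : T⊗ → T⊗) : Prop := ∃ g ∈ M, ∀ X, g X = h X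

/-- `M` contains the elementary transvections of both factors -/
structure Ctx (M : Subgroup (T⊗ ≃ₗ[F] T⊗)) : Prop where
  left : ∀ (x φ : Fin a → F), φ ⬝ᵥ x = 0 → InM M fun X => X + vecMulVec x (φ ᵥ* X)
  right : ∀ (y ψ : Fin b → F), ψ ⬝ᵥ y = 0 → InM M fun X => X + vecMulVec (X *ᵥ ψ) y
  two_le : 2 ≤ a
  lt : a < b

/-- the image of `A ⊗ y` under `g` -/
def img (g : T⊗ ≃ₗ[F] T⊗) (y : Fin b → F) : Submodule F T⊗ :=
  (fam (a := a) y).map (g : T⊗ →ₗ[F] T⊗)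

theorem mem_img {g : T⊗ ≃ₗ[F] T⊗} {y : Fin b → F} {X : T⊗} :
    X ∈ img g y ↔ g⁻¹ X ∈ fam y :=
  ⟨by rintro ⟨Y, hY, rfl⟩; exact (inv_apply_apply g Y).symm ▸ hY,
    fun h => ⟨_, h, apply_inv_apply g X⟩⟩

theorem finrank_img (g : T⊗ ≃ₗ[F] T⊗) {y : Fin b → F} (hy : y ≠ 0) :
    Module.finrank F (img g y) = a := by
  rw [img, LinearEquiv.finrank_map_eq, finrank_fam hy]

namespace Ctx

variable {M : Subgroup (Matrix (Fin a) (Fin b) F ≃ₗ[F] Matrix (Fin a) (Fin b) F)}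

/-- A moved subspace with proper support. -/
theorem exists_support [Finite F] (C : Ctx M)
    (hg : ∃ g ∈ M, ∃ y : Fin b → F, y ≠ 0 ∧ ¬ IsFam (img g y)) :
    ∃ g ∈ M, ∃ y : Fin b → F, y ≠ 0 ∧ ¬ IsFam (img g y) ∧
      ∃ ψ : Fin b → F, ψ ≠ 0 ∧ ∀ x, g (pur y x) *ᵥ ψ = 0 := by
  classical
  by_contra hfull
  haveI : Finite T⊗ := Module.finite_of_finite F
  haveI : Finite (T⊗ ≃ₗ[F] T⊗) :=
    Finite.of_injective (fun g => (g : T⊗ → T⊗)) DFunLike.coe_injective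
  have ha := C.two_le
  have hab := C.lt
  obtain ⟨g₀, hg₀, z₀, hz₀, hz₀'⟩ := hg
  obtain ⟨⟨g, y, y₀⟩, ⟨hgM, hy, hy₀, hnf⟩, hmax⟩ := Set.exists_max_image
    {p : (T⊗ ≃ₗ[F] T⊗) × (Fin b → F) × (Fin b → F) |
      p.1 ∈ M ∧ p.2.1 ≠ 0 ∧ p.2.2 ≠ 0 ∧ ¬ IsFam (img p.1 p.2.1)}
    (fun p => Module.finrank F (img p.1 p.2.1 ⊓ fam p.2.2 : Submodule F T⊗)) (Set.toFinite _)
    ⟨(g₀, z₀, z₀), hg₀, hz₀, hz₀, hz₀'⟩
  obtain ⟨j, hj⟩ : ∃ j, j = Module.finrank F (img g y ⊓ fam y₀ : Submodule F T⊗) := ⟨_, rfl⟩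
  have hle : ∀ h ∈ M, ∀ u u' : Fin b → F, u ≠ 0 → u' ≠ 0 → ¬ IsFam (img h u) →
      Module.finrank F (img h u ⊓ fam u' : Submodule F T⊗) ≤ j := fun h hh u u' hu hu' hn =>
    hj ▸ hmax (h, u, u') ⟨hh, hu, hu', hn⟩
  -- a functional killing a large subspace kills everything
  have kills : ∀ h ∈ M, ∀ u : Fin b → F, u ≠ 0 → ¬ IsFam (img h u) →
      ∀ J : Submodule F T⊗, J ≤ img h u → j < Module.finrank F J →
      ∀ ψ : Fin b → F, ψ ≠ 0 → (∀ X ∈ J, X *ᵥ ψ = 0) → False := by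
    intro h hh u hu hn J hJ hjJ ψ hψ0 hψ
    have hinv : ∀ w : Fin b → F, ψ ⬝ᵥ w = 0 → ∀ X ∈ img h u,
        vecMulVec (X *ᵥ ψ) w ∈ img h u := by
      intro w hw X hX
      obtain ⟨T, hT, hTx⟩ := C.right w ψ hw
      have hJfix : ∀ Y ∈ J, T Y = Y := fun Y hY => by
        rw [hTx]
        dsimp only
        rw [hψ Y hY, zero_vecMulVec, add_zero]
      have hsame : img (h⁻¹ * T * h) u = fam u := by
        set g' := h⁻¹ * T * h with hg'
        have hJ' : J.map (h⁻¹ : T⊗ ≃ₗ[F] T⊗).toLinearMap ≤ img g' u ⊓ fam u := by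
          rintro _ ⟨Y, hY, rfl⟩
          refine ⟨mem_img.2 ?_, mem_img.1 (hJ hY)⟩
          have : g' (h⁻¹ Y) = h⁻¹ Y := by
            show h⁻¹ (T (h (h⁻¹ Y))) = _
            rw [apply_inv_apply, hJfix Y hY]
          show g'⁻¹ (h⁻¹ Y) ∈ fam u
          rw [← this, inv_apply_apply]
          exact mem_img.1 (hJ hY)
        have hdim : j < Module.finrank F (img g' u ⊓ fam u : Submodule F T⊗) :=
          lt_of_lt_of_le hjJ (by
            rw [← LinearEquiv.finrank_map_eq (h⁻¹ : T⊗ ≃ₗ[F] T⊗) J]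
            exact Submodule.finrank_mono hJ')
        by_contra hne
        have hn' : ¬ IsFam (img g' u) := by
          rintro ⟨z, hz, hz'⟩
          obtain ⟨Y, hY, hY0⟩ := (img g' u ⊓ fam u : Submodule F T⊗).ne_bot_iff.1 (by
            intro hb
            rw [hb, finrank_bot] at hdim
            omega)
          exact hne (hz'.trans (fam_eq_of_mem hu hz hY0 hY.2 (hz' ▸ hY.1)))
        exact absurd (hle g' (mul_mem (mul_mem (inv_mem hh) hT) hh) u u hu hu hn') (not_le.2 hdim)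
      have h1 : T X ∈ img h u := by
        rw [mem_img]
        have h2 : (h⁻¹ * T * h) (h⁻¹ X) ∈ img (h⁻¹ * T * h) u :=
          ⟨_, mem_img.1 hX, rfl⟩
        rw [hsame] at h2
        have h3 : (h⁻¹ * T * h) (h⁻¹ X) = h⁻¹ (T X) := by
          show h⁻¹ (T (h (h⁻¹ X))) = _
          rw [apply_inv_apply]
        rwa [h3] at h2
      rw [hTx] at h1
      simpa using sub_mem h1 hX
    obtain ⟨X, hX, hXψ⟩ : ∃ X ∈ img h u, X *ᵥ ψ ≠ 0 := by
      by_contra hc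
      simp only [not_exists, not_and, not_not] at hc
      exact hfull ⟨h, hh, u, hu, hn, ψ, hψ0, fun x => hc _ ⟨_, pur_mem u x, rfl⟩⟩
    let Ψ : (Fin b → F) →ₗ[F] F := ∑ i, ψ i • LinearMap.proj i
    have hΨ : ∀ w, Ψ w = ψ ⬝ᵥ w := fun w => by simp [Ψ, dotProduct]
    let ρ : LinearMap.ker Ψ →ₗ[F] T⊗ :=
      { toFun := fun w => vecMulVec (X *ᵥ ψ) w.1
        map_add' := fun w w' => vecMulVec_add _ _ _
        map_smul' := fun c w => vecMulVec_smul _ _ _ }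
    have hρ : Function.Injective ρ := by
      intro w w' hww
      obtain ⟨σ, hσ, -⟩ := exists_dot (p := ⊥) (u := X *ᵥ ψ) (by simpa using hXψ)
      have := congrArg (fun Y : T⊗ => σ ᵥ* Y) hww
      exact Subtype.ext (by simpa [ρ, vecMul_pure, hσ] using this)
    have hρle : LinearMap.range ρ ≤ img h u := by
      rintro _ ⟨w, rfl⟩
      exact hinv w.1 (by rw [← hΨ]; exact w.2) X hX
    have h1 := LinearMap.finrank_range_add_finrank_ker Ψ
    have h2 := Submodule.finrank_le (LinearMap.range Ψ)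
    rw [Module.finrank_self] at h2
    rw [Module.finrank_fin_fun] at h1
    have heq : LinearMap.range ρ = img h u := Submodule.eq_of_le_of_finrank_le hρle (by
      rw [finrank_img h hu, LinearMap.finrank_range_of_inj hρ]
      omega)
    rw [← heq] at hX
    obtain ⟨w, hw⟩ := hX
    refine hXψ ?_
    rw [← hw]
    show vecMulVec (X *ᵥ ψ) w.1 *ᵥ ψ = 0
    rw [pure_mulVec, dotProduct_comm, ← hΨ, show Ψ w.1 = 0 from w.2, zero_smul]
  have hj1 : 1 ≤ j := by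
    by_contra hj0
    obtain ⟨X, hX, hX0⟩ := (img g y).ne_bot_iff.1 (by
      intro hb
      have := finrank_img g hy
      rw [hb, finrank_bot] at this
      omega)
    obtain ⟨ψ, hψ, hψ0⟩ := (LinearMap.ker (Matrix.mulVecLin X)).ne_bot_iff.1 (by
      intro hb
      have h1 := LinearMap.finrank_range_add_finrank_ker (Matrix.mulVecLin X)
      have h2 := Submodule.finrank_le (LinearMap.range (Matrix.mulVecLin X))
      rw [hb, finrank_bot, Module.finrank_fin_fun] at h1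
      rw [Module.finrank_fin_fun] at h2
      omega)
    refine kills g hgM y hy hnf (Submodule.span F {X})
      ((Submodule.span_singleton_le_iff_mem _ _).2 hX) (by rw [finrank_span_singleton hX0]; omega)
      ψ hψ0 fun Z hZ => ?_
    obtain ⟨c, rfl⟩ := Submodule.mem_span_singleton.1 hZ
    rw [smul_mulVec, show X *ᵥ ψ = 0 from hψ, smul_zero]
  -- off the common part the contraction is bijective
  have onto : ∀ h ∈ M, ∀ u u' : Fin b → F, u ≠ 0 → u' ≠ 0 → ¬ IsFam (img h u) →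
      j ≤ Module.finrank F (img h u ⊓ fam u' : Submodule F T⊗) → ∀ w ∈ img h u, w ∉ fam u' →
      ∀ z : Fin a → F, ∃ ψ : Fin b → F, ψ ⬝ᵥ u' = 0 ∧ w *ᵥ ψ = z := by
    intro h hh u u' hu hu' hn hjle w hw hwn
    let Ψ : (Fin b → F) →ₗ[F] F := ∑ i, u' i • LinearMap.proj i
    have hΨ : ∀ ψ, Ψ ψ = ψ ⬝ᵥ u' := fun ψ => by simp [Ψ, dotProduct, mul_comm]
    let ρ := (Matrix.mulVecLin w).domRestrict (LinearMap.ker Ψ)
    have hρ : Function.Injective ρ := by
      rw [← LinearMap.ker_eq_bot, LinearMap.ker_eq_bot']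
      intro ψ hψ
      by_contra hψ0
      refine kills h hh u hu hn ((img h u ⊓ fam u') ⊔ Submodule.span F {w})
        (sup_le inf_le_left ((Submodule.span_singleton_le_iff_mem _ _).2 hw)) ?_ ψ.1
        (fun e => hψ0 (Subtype.ext e)) fun Z hZ => ?_
      · refine lt_of_le_of_lt hjle (Submodule.finrank_lt_finrank_of_lt ?_)
        refine lt_of_le_not_ge le_sup_left fun hle' => hwn ?_
        exact (hle' (Submodule.mem_sup_right (Submodule.mem_span_singleton_self w))).2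
      · obtain ⟨Y, hY, W, hW, rfl⟩ := Submodule.mem_sup.1 hZ
        obtain ⟨c, rfl⟩ := Submodule.mem_span_singleton.1 hW
        rw [add_mulVec, smul_mulVec, (mem_fam hu').1 hY.2 ψ.1 (by rw [← hΨ]; exact ψ.2),
          show w *ᵥ ψ.1 = 0 from hψ, smul_zero, add_zero]
    have h1 := LinearMap.finrank_range_add_finrank_ker Ψ
    have h2 := Submodule.finrank_le (LinearMap.range Ψ)
    rw [Module.finrank_self] at h2
    rw [Module.finrank_fin_fun] at h1
    have hsurj : LinearMap.range ρ = ⊤ := Submodule.eq_top_of_finrank_eq (le_antisymm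
      (Submodule.finrank_le _) (by rw [LinearMap.finrank_range_of_inj hρ, Module.finrank_fin_fun]; omega))
    intro z
    obtain ⟨ψ, hψ⟩ := LinearMap.range_eq_top.1 hsurj z
    exact ⟨ψ.1, by rw [← hΨ]; exact ψ.2, hψ⟩
  -- the moved subspace through the common part
  obtain ⟨w, hw, hwn⟩ : ∃ w ∈ img g y, w ∉ fam y₀ := by
    by_contra hc
    simp only [not_exists, not_and, not_not] at hc
    exact hnf ⟨y₀, hy₀, Submodule.eq_of_le_of_finrank_le hc
      (by rw [finrank_img g hy, finrank_fam hy₀])⟩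
  set L : Submodule F (Fin a → F) := (img g y).comap (pur y₀) with hL
  obtain ⟨x₁, hx₁⟩ : ∃ x₁, x₁ ∉ L := by
    by_contra hc
    simp only [not_exists, not_not] at hc
    exact hnf ⟨y₀, hy₀, (Submodule.eq_of_le_of_finrank_le
      (show fam y₀ ≤ img g y by rintro _ ⟨x, rfl⟩; exact hc x)
      (by rw [finrank_img g hy, finrank_fam hy₀])).symm⟩
  obtain ⟨φ, hφ1, hφL⟩ := exists_dot hx₁
  obtain ⟨x, hφx, hx⟩ := exists_perp φ ⊥ (by rw [finrank_bot]; omega)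
  rw [Submodule.mem_bot] at hx
  obtain ⟨T, hT, hTx⟩ := C.left x φ hφx
  set δ : T⊗ := vecMulVec x (φ ᵥ* w) with hδ
  have hTw : T w = w + δ := hTx w
  obtain ⟨z, hz⟩ : ∃ z, z ∉ Submodule.span F {x} := by
    by_contra hc
    simp only [not_exists, not_not] at hc
    have h1 := congrArg (fun p : Submodule F (Fin a → F) => Module.finrank F p)
      (show Submodule.span F {x} = ⊤ from eq_top_iff.2 fun v _ => hc v)
    simp only [finrank_span_singleton hx, finrank_top, Module.finrank_fin_fun] at h1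
    omega
  have hδ1 : ∀ ψ : Fin b → F, δ *ᵥ ψ ∈ Submodule.span F {x} := fun ψ => by
    rw [hδ, pure_mulVec]; exact Submodule.smul_mem _ _ (Submodule.mem_span_singleton_self x)
  have hδn : δ ∉ fam y₀ := by
    intro hc
    obtain ⟨ψ, hψ, hwψ⟩ := onto g hgM y y₀ hy hy₀ hnf hj.le w hw hwn x₁
    have := (mem_fam hy₀).1 hc ψ hψ
    rw [hδ, pure_mulVec, ← dotProduct_mulVec, hwψ, hφ1, one_smul] at this
    exact hx this
  have hδW : δ ∉ img g y := fun hc => by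
    obtain ⟨ψ, -, hψ⟩ := onto g hgM y y₀ hy hy₀ hnf hj.le δ hc hδn z
    exact hz (hψ ▸ hδ1 ψ)
  obtain ⟨J₀, hJ₀, hJ₀0⟩ := (img g y ⊓ fam y₀ : Submodule F T⊗).ne_bot_iff.1 (by
    intro hb
    rw [hb, finrank_bot] at hj
    rw [hj] at hj1
    omega)
  have hJfix : ∀ Y ∈ (img g y ⊓ fam y₀ : Submodule F T⊗), T Y = Y := by
    rintro Y ⟨hY1, ⟨l, rfl⟩⟩
    rw [hTx]
    dsimp only
    rw [pur_apply, vecMul_pure, hφL l (show pur y₀ l ∈ img g y from hY1), zero_smul]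
    ext i k
    simp [vecMulVec_apply]
  set g' := g⁻¹ * T * g with hg'
  have hg'M : g' ∈ M := mul_mem (mul_mem (inv_mem hgM) hT) hgM
  have hJU : (img g y ⊓ fam y₀).map (g⁻¹ : T⊗ ≃ₗ[F] T⊗).toLinearMap ≤ img g' y ⊓ fam y := by
    rintro _ ⟨Y, hY, rfl⟩
    refine ⟨⟨g⁻¹ Y, mem_img.1 hY.1, ?_⟩, mem_img.1 hY.1⟩
    show g⁻¹ (T (g (g⁻¹ Y))) = g⁻¹ Y
    rw [apply_inv_apply, hJfix Y hY]
  set w'' := g⁻¹ (T w) with hw''
  have hw''U : w'' ∈ img g' y := ⟨g⁻¹ w, mem_img.1 hw, by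
    show g⁻¹ (T (g (g⁻¹ w))) = _
    rw [apply_inv_apply]⟩
  have hw''n : w'' ∉ fam y := fun hc => hδW (by
    have : T w ∈ img g y := mem_img.2 hc
    rw [hTw] at this
    simpa using sub_mem this hw)
  have hn' : ¬ IsFam (img g' y) := by
    rintro ⟨u, hu, hu'⟩
    have hmem := hJU ⟨J₀, hJ₀, rfl⟩
    have := fam_eq_of_mem hy hu (fun e => hJ₀0 ((g⁻¹).map_eq_zero_iff.1 e)) hmem.2 (hu' ▸ hmem.1)
    exact hw''n (this ▸ hu' ▸ hw''U)
  have hjle' : j ≤ Module.finrank F (img g' y ⊓ fam y : Submodule F T⊗) := by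
    rw [hj, ← LinearEquiv.finrank_map_eq (g⁻¹ : T⊗ ≃ₗ[F] T⊗)]
    exact Submodule.finrank_mono hJU
  obtain ⟨e, he⟩ := mem_img.1 hw
  obtain ⟨ψ, hψy, hψ⟩ := onto g' hg'M y y hy hy hn' hjle' w'' hw''U hw''n (-e)
  obtain ⟨R, hR, hRx⟩ := C.right y ψ hψy
  set g₁ := g * R * g' with hg₁
  have hg₁M : g₁ ∈ M := mul_mem (mul_mem hgM hR) hg'M
  have hδU : δ ∈ img g₁ y := ⟨g⁻¹ w, mem_img.1 hw, by
    show g (R (g⁻¹ (T (g (g⁻¹ w))))) = _
    rw [apply_inv_apply, ← hw'', hRx]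
    dsimp only
    rw [hψ]
    show g (w'' + vecMulVec (-e) y) = δ
    rw [neg_vecMulVec, ← pur_apply, he, map_add, map_neg, hw'', apply_inv_apply, apply_inv_apply,
      hTw]
    abel⟩
  have hJ₁ : img g y ⊓ fam y₀ ≤ img g₁ y ⊓ fam y₀ := fun Y hY => by
    refine ⟨⟨g⁻¹ Y, mem_img.1 hY.1, ?_⟩, hY.2⟩
    show g (R (g⁻¹ (T (g (g⁻¹ Y))))) = Y
    rw [apply_inv_apply, hJfix Y hY, hRx]
    dsimp only
    rw [(mem_fam hy).1 (mem_img.1 hY.1) ψ hψy, zero_vecMulVec,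
      add_zero, apply_inv_apply]
  have hn₁ : ¬ IsFam (img g₁ y) := by
    rintro ⟨u, hu, hu'⟩
    have := fam_eq_of_mem hy₀ hu hJ₀0 hJ₀.2 (hu' ▸ (hJ₁ hJ₀).1)
    exact hδn (this ▸ hu' ▸ hδU)
  obtain ⟨ψ₁, -, hψ₁⟩ := onto g₁ hg₁M y y₀ hy hy₀ hn₁
    (hj.le.trans (Submodule.finrank_mono hJ₁)) δ hδU hδn z
  exact hz (hψ₁ ▸ hδ1 ψ₁)

/-- An element of `M` with centre `A ⊗ y` outside the tensor group. -/
theorem exists_elem (C : Ctx M) {g : T⊗ ≃ₗ[F] T⊗} (hg : g ∈ M) {y₀ ψ : Fin b → F} (hy₀ : y₀ ≠ 0)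
    (hψ0 : ψ ≠ 0) (hψ : ∀ x, g (pur y₀ x) *ᵥ ψ = 0) (hn : ¬ IsFam (img g y₀)) :
    ∃ η : T⊗ →ₗ[F] (Fin a → F), InM M (fun X => X + vecMulVec (η X) y₀) ∧
      (∀ x, η (pur y₀ x) = 0) ∧
      ∃ y' : Fin b → F, ¬ ∃ c : F, ∀ x, η (pur y' x) = c • x := by
  have ha := C.two_le
  have hab := C.lt
  let β : T⊗ →ₗ[F] (Fin a → F) :=
    { toFun := fun X => g X *ᵥ ψ
      map_add' := fun X Y => by rw [map_add, add_mulVec]
      map_smul' := fun c X => by rw [map_smul, smul_mulVec]; rfl }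
  have hβ : ∀ X, β X = g X *ᵥ ψ := fun X => rfl
  let Q : (Fin b → F) → (T⊗ →ₗ[F] T⊗) := fun u => (g⁻¹ : T⊗ ≃ₗ[F] T⊗).toLinearMap ∘ₗ pur u ∘ₗ β
  have hQ : ∀ u X, Q u X = g⁻¹ (vecMulVec (g X *ᵥ ψ) u) := fun u X => rfl
  -- the commutators
  have helem : ∀ y ψ' : Fin b → F, ψ ⬝ᵥ y = 0 → ψ' ⬝ᵥ y₀ = 0 →
      InM M fun X => X + vecMulVec (-(Q y X *ᵥ ψ')) y₀ := by
    intro y ψ' hy hψ'
    obtain ⟨R, hR, hRx⟩ := C.right y ψ hy
    obtain ⟨R', hR', hRx'⟩ := C.right y (-ψ) (by rw [neg_dotProduct, hy, neg_zero])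
    obtain ⟨S, hS, hSx⟩ := C.right y₀ ψ' hψ'
    obtain ⟨S', hS', hSx'⟩ := C.right y₀ (-ψ') (by rw [neg_dotProduct, hψ', neg_zero])
    refine ⟨g⁻¹ * R * g * S * (g⁻¹ * R' * g) * S', mul_mem (mul_mem (mul_mem (mul_mem
      (mul_mem (inv_mem hg) hR) hg) hS) (mul_mem (mul_mem (inv_mem hg) hR') hg)) hS', fun X => ?_⟩
    have r1 : ∀ Y, g⁻¹ (R (g Y)) = Y + Q y Y := fun Y => by
      rw [hRx, hQ]
      dsimp only
      rw [map_add, inv_apply_apply]
    have r2 : ∀ Y, g⁻¹ (R' (g Y)) = Y - Q y Y := fun Y => by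
      rw [hRx', hQ]
      dsimp only
      rw [mulVec_neg, neg_vecMulVec, map_add, map_neg, inv_apply_apply, sub_eq_add_neg]
    have s2 : ∀ Y, S' Y = Y - pur y₀ (Y *ᵥ ψ') := fun Y => by
      rw [hSx']
      dsimp only
      rw [mulVec_neg, neg_vecMulVec, pur_apply, sub_eq_add_neg]
    have q1 : ∀ v, Q y (pur y₀ v) = 0 := fun v => by
      rw [hQ, hψ v, zero_vecMulVec, map_zero]
    have q2 : ∀ Y, Q y (Q y Y) = 0 := fun Y => by
      rw [hQ y (Q y Y), hQ y Y, apply_inv_apply, pure_mulVec, dotProduct_comm, hy, zero_smul,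
        zero_vecMulVec, map_zero]
    show g⁻¹ (R (g (S (g⁻¹ (R' (g (S' X))))))) = _
    rw [r1, hSx, r2, s2]
    have p1 : ∀ v, pur (a := a) y₀ v *ᵥ ψ' = 0 := fun v => by
      rw [pur_apply, pure_mulVec, dotProduct_comm, hψ', zero_smul]
    simp only [map_sub, map_add, q1, q2, sub_mulVec, add_mulVec, p1, sub_zero, add_zero, map_zero,
      ← pur_apply, map_neg]
    abel
  by_contra hno
  have hscal : ∀ y ψ' : Fin b → F, ψ ⬝ᵥ y = 0 → ψ' ⬝ᵥ y₀ = 0 → ∀ u, ∃ c : F, ∀ x,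
      g⁻¹ (vecMulVec (β (pur u x)) y) *ᵥ ψ' = c • x := by
    intro y ψ' hy hψ' u
    obtain ⟨c, hc⟩ : ∃ c : F, ∀ x, (-(evalAt ψ' ∘ₗ Q y)) (pur u x) = c • x := by
      by_contra hc
      refine hno ⟨-(evalAt ψ' ∘ₗ Q y), helem y ψ' hy hψ', fun x => ?_, u, hc⟩
      show -(g⁻¹ (vecMulVec (g (pur y₀ x) *ᵥ ψ) y) *ᵥ ψ') = 0
      rw [hψ x, zero_vecMulVec, map_zero, zero_mulVec, neg_zero]
    refine ⟨-c, fun x => ?_⟩
    rw [neg_smul, ← hc x]
    exact (neg_neg _).symm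
  -- some scalar is not zero
  obtain ⟨σ, hσ, -⟩ := exists_dot (p := ⊥) (u := ψ) (by simpa using hψ0)
  have hβsurj : ∀ v, β (g⁻¹ (vecMulVec v σ)) = v := fun v => by
    rw [hβ, apply_inv_apply, pure_mulVec, hσ, one_smul]
  obtain ⟨u₁, hu₁⟩ : ∃ u₁, ∀ v, ∃ x, β (pur u₁ x) = v := by
    by_contra hc
    simp only [not_exists] at hc
    have hzero : ∀ y ψ' : Fin b → F, ψ ⬝ᵥ y = 0 → ψ' ⬝ᵥ y₀ = 0 → ∀ v,
        g⁻¹ (vecMulVec v y) *ᵥ ψ' = 0 := by
      intro y ψ' hy hψ' v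
      have hX : ∀ u x, g⁻¹ (vecMulVec (β (pur u x)) y) *ᵥ ψ' = 0 := by
        intro u x
        obtain ⟨c, hc'⟩ := hscal y ψ' hy hψ' u
        rw [hc' x]
        rcases eq_or_ne c 0 with rfl | hc0
        · exact zero_smul _ _
        exfalso
        let B₁ : (Fin a → F) →ₗ[F] (Fin a → F) := β ∘ₗ pur u
        have hinj : Function.Injective B₁ := by
          rw [← LinearMap.ker_eq_bot, LinearMap.ker_eq_bot']
          intro z hz
          have h1 := hc' z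
          rw [show β (pur u z) = 0 from hz, zero_vecMulVec, map_zero, zero_mulVec] at h1
          exact (smul_eq_zero.1 h1.symm).resolve_left hc0
        obtain ⟨v', hv'⟩ := not_forall.1 (fun h => hc u h)
        exact hv' (LinearMap.surjective_of_injective hinj v')
      rw [← hβsurj v]
      set Y := g⁻¹ (vecMulVec v σ)
      rw [show Y = ∑ l, pur (Pi.single l 1) (fun i => Y i l) by
        ext i k
        simp [Matrix.sum_apply, pur_apply, vecMulVec_apply, Pi.single_apply]]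
      simp only [map_sum]
      rw [show vecMulVec (∑ l, β (pur (Pi.single l 1) (fun i => Y i l))) y =
          ∑ l, vecMulVec (β (pur (Pi.single l 1) (fun i => Y i l))) y from
        map_sum (pur y) _ _, map_sum, Matrix.sum_mulVec]
      exact Finset.sum_eq_zero fun l _ => hX _ _
    obtain ⟨y, hy, hy'⟩ := exists_perp ψ ⊥ (by rw [finrank_bot]; omega)
    rw [Submodule.mem_bot] at hy'
    refine hn ⟨y, hy', (Submodule.eq_of_le_of_finrank_le ?_
      (by rw [finrank_img g hy₀, finrank_fam hy'])).symm⟩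
    rintro _ ⟨v, rfl⟩
    exact mem_img.2 ((mem_fam hy₀).2 fun ψ' hψ' => hzero y ψ' hy hψ' v)
  choose ω hω using hu₁
  have hlin : ∀ u, ∃ χ : F, ∀ x, β (pur u x) = χ • β (pur u₁ x) := by
    obtain ⟨y, ψ', hy, hψ', v, hv⟩ : ∃ y ψ' : Fin b → F, ψ ⬝ᵥ y = 0 ∧ ψ' ⬝ᵥ y₀ = 0 ∧
        ∃ v, g⁻¹ (vecMulVec v y) *ᵥ ψ' ≠ 0 := by
      by_contra hc
      simp only [not_exists, not_and, not_not] at hc
      obtain ⟨y, hy, hy'⟩ := exists_perp ψ ⊥ (by rw [finrank_bot]; omega)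
      rw [Submodule.mem_bot] at hy'
      refine hn ⟨y, hy', (Submodule.eq_of_le_of_finrank_le ?_
        (by rw [finrank_img g hy₀, finrank_fam hy'])).symm⟩
      rintro _ ⟨v, rfl⟩
      exact mem_img.2 ((mem_fam hy₀).2 fun ψ' hψ' => hc y ψ' hy hψ' v)
    obtain ⟨c₁, hc₁⟩ := hscal y ψ' hy hψ' u₁
    have hc₁0 : c₁ ≠ 0 := by
      rintro rfl
      refine hv ?_
      rw [← hω v, hc₁, zero_smul]
    let α : (Fin a → F) →ₗ[F] (Fin a → F) :=
      evalAt ψ' ∘ₗ (g⁻¹ : T⊗ ≃ₗ[F] T⊗).toLinearMap ∘ₗ pur y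
    have hα : ∀ z, α z = c₁ • ω z := fun z => by
      show g⁻¹ (vecMulVec z y) *ᵥ ψ' = _
      conv_lhs => rw [← hω z]
      exact hc₁ _
    have hαinj : Function.Injective α := fun z z' h => by
      rw [hα, hα] at h
      rw [← hω z, ← hω z', smul_right_injective _ hc₁0 h]
    intro u
    obtain ⟨c, hc⟩ := hscal y ψ' hy hψ' u
    refine ⟨c / c₁, fun x => hαinj ?_⟩
    rw [map_smul, show α (β (pur u x)) = c • x from hc x,
      show α (β (pur u₁ x)) = c₁ • x from hc₁ x, smul_smul, div_mul_cancel₀ _ hc₁0]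
  choose χ hχ using hlin
  have hχ₀ : χ y₀ = 0 := by
    obtain ⟨z, hz⟩ : ∃ z, z ≠ (0 : Fin a → F) :=
      ⟨Pi.single ⟨0, by omega⟩ 1, by simp⟩
    have h1 := hχ y₀ (ω z)
    rw [hω, hβ, hψ] at h1
    exact (smul_eq_zero.1 h1.symm).resolve_right hz
  -- the contraction factors
  let χv : Fin b → F := fun l => χ (Pi.single l 1)
  have hβX : ∀ X, β X = β (pur u₁ (X *ᵥ χv)) := by
    intro X
    conv_lhs => rw [show X = ∑ l, pur (Pi.single l 1) (fun i => X i l) by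
      ext i k
      simp [Matrix.sum_apply, pur_apply, vecMulVec_apply, Pi.single_apply]]
    rw [map_sum, show X *ᵥ χv = ∑ l, χv l • (fun i => X i l) by
      ext i
      simp [mulVec, dotProduct, mul_comm]]
    rw [map_sum, map_sum]
    exact Finset.sum_congr rfl fun l _ => by rw [map_smul, map_smul]; exact hχ _ _
  have hχy₀ : χv ⬝ᵥ y₀ = 0 := by
    obtain ⟨z, hz⟩ : ∃ z, z ≠ (0 : Fin a → F) :=
      ⟨Pi.single ⟨0, by omega⟩ 1, by simp⟩
    have h1 := hβX (pur y₀ (ω z))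
    rw [hβ, hψ, pur_apply y₀, pure_mulVec, map_smul, map_smul, hω, eq_comm] at h1
    rw [dotProduct_comm]
    exact (smul_eq_zero.1 h1).resolve_right hz
  obtain ⟨z₀, hz₀⟩ : ∃ z, z ≠ (0 : Fin a → F) := ⟨Pi.single ⟨0, by omega⟩ 1, by simp⟩
  have hω0 : ω z₀ ≠ 0 := fun e => hz₀ (by rw [← hω z₀, e, map_zero, map_zero])
  obtain ⟨φ, hφ, -⟩ := exists_dot (p := ⊥) (u := ω z₀) (by simpa using hω0)
  -- the induced map on the second factor
  let θ : (Fin b → F) →ₗ[F] (Fin b → F) :=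
    { toFun := fun y => φ ᵥ* g⁻¹ (vecMulVec z₀ y)
      map_add' := fun y y' => by rw [vecMulVec_add, map_add, vecMul_add]
      map_smul' := fun c y => by rw [vecMulVec_smul, map_smul, vecMul_smul]; rfl }
  have hcoef : ∀ y ψ' : Fin b → F, ψ ⬝ᵥ y = 0 → ψ' ⬝ᵥ y₀ = 0 → ∀ z,
      g⁻¹ (vecMulVec z y) *ᵥ ψ' = (θ y ⬝ᵥ ψ') • ω z := by
    intro y ψ' hy hψ' z
    obtain ⟨c, hc⟩ := hscal y ψ' hy hψ' u₁
    have h1 : ∀ v, g⁻¹ (vecMulVec v y) *ᵥ ψ' = c • ω v := fun v => by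
      conv_lhs => rw [← hω v]
      exact hc _
    rw [h1]
    congr 1
    show c = (φ ᵥ* g⁻¹ (vecMulVec z₀ y)) ⬝ᵥ ψ'
    rw [← dotProduct_mulVec, h1, dotProduct_smul, hφ, smul_eq_mul, mul_one]
  have hθχ : ∀ y, ψ ⬝ᵥ y = 0 → θ y ⬝ᵥ χv = 0 := by
    intro y hy
    have h1 := hcoef y χv hy hχy₀ z₀
    have h2 : g⁻¹ (vecMulVec z₀ y) *ᵥ χv = 0 := by
      have h3 := hβX (g⁻¹ (vecMulVec z₀ y))
      rw [hβ, apply_inv_apply, pure_mulVec, dotProduct_comm, hy, zero_smul] at h3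
      obtain ⟨c, hc⟩ := hscal y χv hy hχy₀ u₁
      by_contra hne
      have hc0 : c ≠ 0 := by
        rintro rfl
        refine hne ?_
        conv_lhs => rw [← hω z₀]
        rw [hc, zero_smul]
      have h4 := hc (g⁻¹ (vecMulVec z₀ y) *ᵥ χv)
      rw [← h3, zero_vecMulVec, map_zero, zero_mulVec] at h4
      exact hne ((smul_eq_zero.1 h4.symm).resolve_left hc0)
    rw [h2] at h1
    exact (smul_eq_zero.1 h1.symm).resolve_right hω0
  let Ψ : (Fin b → F) →ₗ[F] F := ∑ i, ψ i • LinearMap.proj i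
  let Χ : (Fin b → F) →ₗ[F] F := ∑ i, χv i • LinearMap.proj i
  have hΨ : ∀ y, Ψ y = ψ ⬝ᵥ y := fun y => by simp [Ψ, dotProduct]
  have hΧ : ∀ y, Χ y = y ⬝ᵥ χv := fun y => by simp [Χ, dotProduct, mul_comm]
  have hχv0 : χv ≠ 0 := by
    intro e
    refine hz₀ ?_
    rw [← hω z₀, hβX, e, mulVec_zero, map_zero, map_zero]
  obtain ⟨y, hy, hy0, hθy⟩ : ∃ y, ψ ⬝ᵥ y = 0 ∧ y ≠ 0 ∧ ∀ ψ', ψ' ⬝ᵥ y₀ = 0 → θ y ⬝ᵥ ψ' = 0 := by
    let θ' : LinearMap.ker Ψ →ₗ[F] LinearMap.ker Χ :=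
      (θ.domRestrict (LinearMap.ker Ψ)).codRestrict _ fun y => by
        rw [LinearMap.mem_ker, hΧ]; exact hθχ y.1 (by rw [← hΨ]; exact y.2)
    by_cases hinj : Function.Injective θ'
    · have hdim : Module.finrank F (LinearMap.ker Χ) ≤ Module.finrank F (LinearMap.ker Ψ) := by
        have h1 := LinearMap.finrank_range_add_finrank_ker Ψ
        have h2 := LinearMap.finrank_range_add_finrank_ker Χ
        have h3 := Submodule.finrank_le (LinearMap.range Ψ)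
        have h4 : 0 < Module.finrank F (LinearMap.range Χ) := by
          rw [Nat.pos_iff_ne_zero, Ne, Submodule.finrank_eq_zero, LinearMap.range_eq_bot]
          intro e
          refine hχv0 (funext fun l => ?_)
          have := LinearMap.congr_fun e (Pi.single l 1)
          rwa [hΧ, single_dotProduct, one_mul] at this
        rw [Module.finrank_self] at h3
        omega
      have hsurj : LinearMap.range θ' = ⊤ := Submodule.eq_top_of_finrank_eq (le_antisymm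
        (Submodule.finrank_le _) (by rw [LinearMap.finrank_range_of_inj hinj]; exact hdim))
      obtain ⟨y, hy⟩ := LinearMap.range_eq_top.1 hsurj ⟨y₀, by
        rw [LinearMap.mem_ker, hΧ, dotProduct_comm, hχy₀]⟩
      have hy' : θ y.1 = y₀ := congrArg Subtype.val hy
      refine ⟨y.1, by rw [← hΨ]; exact y.2, fun e => hy₀ (by rw [← hy', e, map_zero]),
        fun ψ' hψ' => ?_⟩
      rw [hy', dotProduct_comm, hψ']
    · rw [← LinearMap.ker_eq_bot] at hinj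
      obtain ⟨y, hy, hy0⟩ := (LinearMap.ker θ').ne_bot_iff.1 hinj
      have hy' : θ y.1 = 0 := congrArg Subtype.val hy
      exact ⟨y.1, by rw [← hΨ]; exact y.2, fun e => hy0 (Subtype.ext e),
        fun ψ' _ => by rw [hy', zero_dotProduct]⟩
  refine hn ⟨y, hy0, (Submodule.eq_of_le_of_finrank_le ?_
    (by rw [finrank_img g hy₀, finrank_fam hy0])).symm⟩
  rintro _ ⟨v, rfl⟩
  exact mem_img.2 ((mem_fam hy₀).2 fun ψ' hψ' => by
    rw [pur_apply, hcoef y ψ' hy hψ' v, hθy ψ' hψ', zero_smul])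

end Ctx

end CfsgLib.MaxSub.TensorMax
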