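import Cfsg.Agent.Lib.MaxSub.TensorMax

/-!
From an element of an overgroup of `SL_a(F) ⊗ SL_b(F)` with centre `A ⊗ y` to all transvections.
-/

set_option autoImplicit false
set_option linter.unusedSectionVars false
set_option linter.unusedSimpArgs false

namespace CfsgLib.MaxSub.TensorMax

open Matrix

variable {F : Type*} [Field F] {a b : ℕ}

local notation "T⊗" => Matrix (Fin a) (Fin b) F

/-- `u ↦ (φ u) x` -/
def rk (x φ : Fin a → F) : (Fin a → F) →ₗ[F] (Fin a → F) where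
  toFun u := (φ ⬝ᵥ u) • x
  map_add' u v := by rw [dotProduct_add, add_smul]
  map_smul' c u := by rw [dotProduct_smul, smul_eq_mul, mul_smul, RingHom.id_apply]

theorem rk_apply (x φ u : Fin a → F) : rk x φ u = (φ ⬝ᵥ u) • x := rfl

/-- `X ↦ φ X ψ` -/
def fn (φ : Fin a → F) (ψ : Fin b → F) : T⊗ →ₗ[F] F where
  toFun X := φ ⬝ᵥ (X *ᵥ ψ)
  map_add' X Y := by rw [add_mulVec, dotProduct_add]
  map_smul' c X := by rw [smul_mulVec, dotProduct_smul, RingHom.id_apply]

theorem fn_apply (φ : Fin a → F) (ψ : Fin b → F) (X : T⊗) : fn φ ψ X = φ ⬝ᵥ (X *ᵥ ψ) := rfl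

theorem fn_pur (φ x : Fin a → F) (ψ y : Fin b → F) :
    fn φ ψ (pur y x) = (φ ⬝ᵥ x) * (ψ ⬝ᵥ y) := by
  rw [fn_apply, pur_apply, pure_mulVec, dotProduct_smul, smul_eq_mul, dotProduct_comm ψ y, mul_comm]

theorem exists_not_eigen {E : (Fin a → F) →ₗ[F] (Fin a → F)} (h : ¬ ∃ c : F, ∀ x, E x = c • x) :
    ∃ x, E x ∉ Submodule.span F {x} := by
  by_contra hc
  simp only [not_exists, not_not] at hc
  have hc' : ∀ x, ∃ c : F, c • x = E x := fun x => Submodule.mem_span_singleton.1 (hc x)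
  choose c hcx using hc'
  rcases Nat.eq_zero_or_pos a with rfl | ha
  · exact h ⟨0, fun x => funext fun i => i.elim0⟩
  have heq : ∀ i j : Fin a, c (Pi.single i 1) = c (Pi.single j 1) := by
    intro i j
    rcases eq_or_ne i j with rfl | hij
    · rfl
    have h1 : E (Pi.single i 1 + Pi.single j 1) = _ := map_add E _ _
    rw [← hcx, ← hcx, ← hcx] at h1
    have hi := congrFun h1 i
    have hj := congrFun h1 j
    simp [Pi.single_apply, hij, hij.symm] at hi hj
    rw [← hi, ← hj]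
  refine h ⟨c (Pi.single ⟨0, ha⟩ 1), fun x => ?_⟩
  conv_lhs => rw [pi_eq_sum_univ' x, map_sum]
  conv_rhs => rw [pi_eq_sum_univ' x, Finset.smul_sum]
  exact Finset.sum_congr rfl fun i _ => by rw [map_smul, ← hcx, heq i ⟨0, ha⟩, smul_comm]

/-- `M` contains the transvection `X ↦ X + f X • v` -/
def InT (M : Subgroup (T⊗ ≃ₗ[F] T⊗)) (v : T⊗) (f : T⊗ →ₗ[F] F) : Prop :=
  InM M fun X => X + f X • v

/-- `M` contains `X ↦ X + η X ⊗ y₀` -/
def InC (M : Subgroup (T⊗ ≃ₗ[F] T⊗)) (y₀ : Fin b → F) (η : T⊗ →ₗ[F] (Fin a → F)) : Prop :=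
  (∀ x, η (pur y₀ x) = 0) ∧ InM M fun X => X + vecMulVec (η X) y₀

/-- the elements `X ↦ X + E (X ψ) ⊗ y₀` -/
def InY (M : Subgroup (T⊗ ≃ₗ[F] T⊗)) (y₀ : Fin b → F)
    (E : (Fin a → F) →ₗ[F] (Fin a → F)) : Prop :=
  ∀ ψ, ψ ⬝ᵥ y₀ = 0 → InC M y₀ (E ∘ₗ evalAt ψ)

namespace Ctx

variable {M : Subgroup (Matrix (Fin a) (Fin b) F ≃ₗ[F] Matrix (Fin a) (Fin b) F)}
  {y₀ : Fin b → F}

theorem inC_add (C : Ctx M) {η η' : T⊗ →ₗ[F] (Fin a → F)} (h : InC M y₀ η) (h' : InC M y₀ η') :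
    InC M y₀ (η + η') := by
  obtain ⟨hη, e, he, hex⟩ := h
  obtain ⟨hη', e', he', hex'⟩ := h'
  refine ⟨fun x => by rw [LinearMap.add_apply, hη, hη', add_zero],
    e * e', mul_mem he he', fun X => ?_⟩
  show e (e' X) = _
  rw [hex', hex]
  dsimp only
  rw [map_add, ← pur_apply y₀ (η' X), hη, add_zero, LinearMap.add_apply, pur_apply, add_vecMulVec]
  abel

theorem inC_neg (C : Ctx M) {η : T⊗ →ₗ[F] (Fin a → F)} (h : InC M y₀ η) :
    InC M y₀ (-η) := by
  obtain ⟨hη, e, he, hex⟩ := h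
  refine ⟨fun x => by rw [LinearMap.neg_apply, hη, neg_zero], e⁻¹, inv_mem he,
    fun X => e.injective ?_⟩
  rw [apply_inv_apply, hex]
  dsimp only
  rw [map_add, ← pur_apply y₀ ((-η) X), hη, add_zero, LinearMap.neg_apply, map_neg, pur_apply]
  abel

theorem inC_conj (C : Ctx M) {η : T⊗ →ₗ[F] (Fin a → F)} (h : InC M y₀ η)
    {g : T⊗ ≃ₗ[F] T⊗} (hg : g ∈ M) (k : (Fin a → F) →ₗ[F] (Fin a → F))
    (hk : ∀ x, g (pur y₀ x) = pur y₀ (k x)) :
    InC M y₀ (k ∘ₗ η ∘ₗ (g⁻¹ : T⊗ ≃ₗ[F] T⊗).toLinearMap) := by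
  obtain ⟨hη, e, he, hex⟩ := h
  have hsurj : ∀ x, ∃ z, g⁻¹ (pur y₀ x) = pur y₀ z := by
    rcases eq_or_ne y₀ 0 with rfl | hy
    · intro x
      have h0 : pur (a := a) (0 : Fin b → F) x = 0 := by ext i l; simp [pur_apply, vecMulVec_apply]
      exact ⟨x, by rw [h0, map_zero]⟩
    have hinj : Function.Injective k := fun x x' e => pur_injective hy (g.injective (by
      rw [hk, hk, e]))
    intro x
    obtain ⟨z, rfl⟩ := LinearMap.surjective_of_injective hinj x
    exact ⟨z, by rw [← hk, inv_apply_apply]⟩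
  refine ⟨fun x => ?_, g * e * g⁻¹, mul_mem (mul_mem hg he) (inv_mem hg), fun X => ?_⟩
  · obtain ⟨z, hz⟩ := hsurj x
    show k (η (g⁻¹ (pur y₀ x))) = 0
    rw [hz, hη, map_zero]
  · show g (e (g⁻¹ X)) = _
    rw [hex]
    dsimp only
    rw [map_add, apply_inv_apply, ← pur_apply y₀ (η (g⁻¹ X)), hk]
    rfl

theorem inY_of_elem (C : Ctx M) {η : T⊗ →ₗ[F] (Fin a → F)} (h : InC M y₀ η) (y' : Fin b → F) :
    InY M y₀ (η ∘ₗ pur y') := by
  have ha := C.two_le
  have hab := C.lt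
  set E := η ∘ₗ pur y' with hE
  have basic : ∀ ψ, ψ ⬝ᵥ y₀ = 0 → ψ ⬝ᵥ y' = 0 → InC M y₀ (E ∘ₗ evalAt ψ) := by
    intro ψ hψ hψ'
    obtain ⟨g, hg, hgx⟩ := C.right (-y') ψ (by rw [dotProduct_neg, hψ', neg_zero])
    have hinv : ∀ X, g⁻¹ X = X + vecMulVec (X *ᵥ ψ) y' := fun X => g.injective (by
      rw [apply_inv_apply, hgx]
      dsimp only
      rw [add_mulVec, pure_mulVec, dotProduct_comm, hψ', zero_smul, add_zero, vecMulVec_neg]
      abel)
    have h2 := C.inC_add (C.inC_conj h hg LinearMap.id fun x => by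
      rw [hgx]
      dsimp only
      rw [pur_apply, pure_mulVec, dotProduct_comm, hψ, zero_smul, zero_vecMulVec, add_zero]
      rfl) (C.inC_neg h)
    convert h2 using 1
    refine LinearMap.ext fun X => ?_
    show η (pur y' (X *ᵥ ψ)) = η (g⁻¹ X) + -η X
    rw [hinv, map_add, pur_apply]
    abel
  obtain ⟨ψ₀, h0, hψ₀⟩ := exists_perp y₀ ⊥ (k := b) (by rw [finrank_bot]; omega)
  obtain ⟨ψ₀, hψ₀y, hψ₀y', hψ₀0⟩ : ∃ ψ : Fin b → F, ψ ⬝ᵥ y₀ = 0 ∧ ψ ⬝ᵥ y' = 0 ∧ ψ ≠ 0 := by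
    let Φ : (Fin b → F) →ₗ[F] F × F :=
      { toFun := fun ψ => (ψ ⬝ᵥ y₀, ψ ⬝ᵥ y')
        map_add' := fun u v => by simp [add_dotProduct]
        map_smul' := fun c u => by simp [smul_dotProduct] }
    obtain ⟨ψ, hψ, hψ0⟩ := (LinearMap.ker Φ).ne_bot_iff.1 (by
      intro hb
      have h1 := LinearMap.finrank_range_add_finrank_ker Φ
      have h2 := Submodule.finrank_le (LinearMap.range Φ)
      rw [hb, finrank_bot, Module.finrank_fin_fun] at h1
      rw [Module.finrank_prod, Module.finrank_self] at h2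
      omega)
    exact ⟨ψ, congrArg Prod.fst hψ, congrArg Prod.snd hψ, hψ0⟩
  intro σ hσ
  by_cases hσs : σ ∈ Submodule.span F {ψ₀}
  · obtain ⟨c, rfl⟩ := Submodule.mem_span_singleton.1 hσs
    exact basic _ (by rw [smul_dotProduct, hψ₀y, smul_zero])
      (by rw [smul_dotProduct, hψ₀y', smul_zero])
  have hnot : ψ₀ ∉ Submodule.span F {σ} := fun hc => by
    obtain ⟨c, hc'⟩ := Submodule.mem_span_singleton.1 hc
    rcases eq_or_ne c 0 with rfl | hc0
    · exact hψ₀0 (by rw [← hc', zero_smul])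
    · exact hσs (Submodule.mem_span_singleton.2 ⟨c⁻¹, by rw [← hc', inv_smul_smul₀ hc0]⟩)
  obtain ⟨z, hz1, hz2⟩ := exists_dot hnot
  have hσz := hz2 σ (Submodule.mem_span_singleton_self σ)
  obtain ⟨g, hg, hgx⟩ := C.right z σ (by rw [dotProduct_comm]; exact hσz)
  have hinv : ∀ X, g⁻¹ X = X - vecMulVec (X *ᵥ σ) z := fun X => g.injective (by
    rw [apply_inv_apply, hgx]
    dsimp only
    rw [sub_mulVec, pure_mulVec, hσz, zero_smul, sub_zero, sub_add_cancel])
  have hb0 := basic ψ₀ hψ₀y hψ₀y'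
  have h2 := C.inC_add hb0 (C.inC_neg (C.inC_conj hb0 hg LinearMap.id fun x => by
    rw [hgx]
    dsimp only
    rw [pur_apply, pure_mulVec, dotProduct_comm, hσ, zero_smul, zero_vecMulVec, add_zero]
    rfl))
  convert h2 using 1
  refine LinearMap.ext fun X => ?_
  show E (X *ᵥ σ) = E (X *ᵥ ψ₀) + -E ((g⁻¹ X) *ᵥ ψ₀)
  rw [hinv, sub_mulVec, pure_mulVec, hz1, one_smul, map_sub]
  abel

theorem inY_add (C : Ctx M) {E E' : (Fin a → F) →ₗ[F] (Fin a → F)} (h : InY M y₀ E)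
    (h' : InY M y₀ E') : InY M y₀ (E + E') := fun ψ hψ => by
  convert C.inC_add (h ψ hψ) (h' ψ hψ) using 1
  exact LinearMap.add_comp _ _ _

theorem inY_smul (C : Ctx M) {E : (Fin a → F) →ₗ[F] (Fin a → F)} (h : InY M y₀ E) (c : F) :
    InY M y₀ (c • E) := fun ψ hψ => by
  convert h (c • ψ) (by rw [smul_dotProduct, hψ, smul_zero]) using 1
  refine LinearMap.ext fun X => ?_
  show c • E (X *ᵥ ψ) = E (X *ᵥ (c • ψ))
  rw [mulVec_smul, map_smul]

theorem inY_sub (C : Ctx M) {E E' : (Fin a → F) →ₗ[F] (Fin a → F)} (h : InY M y₀ E)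
    (h' : InY M y₀ E') : InY M y₀ (E - E') := by
  rw [sub_eq_add_neg, ← neg_one_smul F E']
  exact C.inY_add h (C.inY_smul h' (-1))

theorem inY_conj (C : Ctx M) {E : (Fin a → F) →ₗ[F] (Fin a → F)} (h : InY M y₀ E)
    {x φ : Fin a → F} (hφ : φ ⬝ᵥ x = 0) :
    InY M y₀ ((LinearMap.id + rk x φ) ∘ₗ E ∘ₗ (LinearMap.id - rk x φ)) := by
  intro ψ hψ
  obtain ⟨g, hg, hgx⟩ := C.left x φ hφ
  have hinv : ∀ X, g⁻¹ X = X - vecMulVec x (φ ᵥ* X) := fun X => g.injective (by
    rw [apply_inv_apply, hgx]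
    dsimp only
    rw [vecMul_sub, vecMul_pure, hφ, zero_smul, sub_zero, sub_add_cancel])
  convert C.inC_conj (h ψ hψ) hg (LinearMap.id + rk x φ) fun v => by
    rw [hgx]
    dsimp only
    rw [pur_apply, vecMul_pure, LinearMap.add_apply, LinearMap.id_apply, rk_apply, pur_apply,
      add_vecMulVec, smul_vecMulVec, vecMulVec_smul] using 1
  refine LinearMap.ext fun X => ?_
  simp only [LinearMap.comp_apply]
  refine congrArg _ (congrArg E ?_)
  show (X *ᵥ ψ) - rk x φ (X *ᵥ ψ) = (g⁻¹ X) *ᵥ ψ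
  rw [hinv, sub_mulVec, pure_mulVec, rk_apply, dotProduct_mulVec]

/-- rank one nilpotent maps -/
theorem inY_rk (C : Ctx M) (hsm : (∃ k : F, k ≠ 0 ∧ k ≠ 1) ∨ 3 ≤ a)
    {E : (Fin a → F) →ₗ[F] (Fin a → F)} (h : InY M y₀ E) (hE : ¬ ∃ c : F, ∀ x, E x = c • x)
    (x' φ' : Fin a → F) (hφ' : φ' ⬝ᵥ x' = 0) : InY M y₀ (rk x' φ') := by
  have ha := C.two_le
  have hD : ∀ x φ (k : F), φ ⬝ᵥ x = 0 → InY M y₀
      ((LinearMap.id + rk (k • x) φ) ∘ₗ E ∘ₗ (LinearMap.id - rk (k • x) φ) - E) :=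
    fun x φ k hφ => C.inY_sub (C.inY_conj h (by rw [dotProduct_smul, hφ, smul_zero])) h
  obtain ⟨x₀, φ₀, hφ₀, hx₀, hφ₀0, h0⟩ : ∃ x₀ φ₀ : Fin a → F, φ₀ ⬝ᵥ x₀ = 0 ∧ x₀ ≠ 0 ∧ φ₀ ≠ 0 ∧
      InY M y₀ (rk x₀ φ₀) := by
    obtain ⟨x, hx⟩ := exists_not_eigen hE
    have hx0 : x ≠ 0 := by rintro rfl; simp at hx
    rcases hsm with ⟨k, hk0, hk1⟩ | ha3
    · obtain ⟨φ, hφ1, hφx⟩ := exists_dot hx
      have hφ := hφx x (Submodule.mem_span_singleton_self x)
      refine ⟨x, φ, hφ, hx0, fun e => by simp [e] at hφ1, ?_⟩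
      have hk : k - k ^ 2 ≠ 0 := by
        rw [show k - k ^ 2 = k * (1 - k) by ring]
        exact mul_ne_zero hk0 (sub_ne_zero.2 hk1.symm)
      convert C.inY_smul (C.inY_sub (hD x φ k hφ) (C.inY_smul (hD x φ 1 hφ) k))
        (k - k ^ 2)⁻¹ using 1
      refine LinearMap.ext fun u => ?_
      simp only [LinearMap.smul_apply, LinearMap.sub_apply, LinearMap.comp_apply,
        LinearMap.add_apply, LinearMap.id_apply, rk_apply, map_sub, map_add, map_smul,
        dotProduct_smul, dotProduct_sub, smul_eq_mul, hφ1]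
      rw [eq_inv_smul_iff₀ hk]
      module
    · obtain ⟨φ, hφ⟩ : ∃ φ : Fin a → F, φ ≠ 0 ∧ φ ⬝ᵥ x = 0 ∧ φ ⬝ᵥ E x = 0 := by
        obtain ⟨u, hu⟩ : ∃ u, u ∉ Submodule.span F ({x, E x} : Set (Fin a → F)) := by
          by_contra hc
          simp only [not_exists, not_not] at hc
          have hEx : E x ≠ 0 := fun e => hx (by rw [e]; exact Submodule.zero_mem _)
          have h1 := Submodule.finrank_add_le_finrank_add_finrank
            (Submodule.span F {x}) (Submodule.span F {E x})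
          rw [← Submodule.span_union, Set.singleton_union,
            show Submodule.span F ({x, E x} : Set (Fin a → F)) = ⊤ from
            eq_top_iff.2 fun v _ => hc v, finrank_top, Module.finrank_fin_fun,
            finrank_span_singleton hx0, finrank_span_singleton hEx] at h1
          omega
        obtain ⟨φ, h1, h2⟩ := exists_dot hu
        exact ⟨φ, fun e => by simp [e] at h1, h2 _ (Submodule.subset_span (by simp)),
          h2 _ (Submodule.subset_span (by simp))⟩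
      obtain ⟨hφ0, hφx, hφE⟩ := hφ
      set D := (LinearMap.id + rk x φ) ∘ₗ E ∘ₗ (LinearMap.id - rk x φ) - E with hDdef
      have hDY : InY M y₀ D := by simpa [hDdef] using hD x φ 1 hφx
      have hDu : ∀ u, D u = (φ ⬝ᵥ E u) • x - (φ ⬝ᵥ u) • E x := fun u => by
        simp only [hDdef, LinearMap.sub_apply, LinearMap.comp_apply, LinearMap.add_apply,
          LinearMap.id_apply, rk_apply, map_sub, map_smul, dotProduct_sub, dotProduct_smul, hφE,
          smul_eq_mul, mul_zero, sub_zero, hφx, zero_smul, add_zero]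
        abel
      by_cases hex : ∃ u, φ ⬝ᵥ u = 0 ∧ D u ≠ 0
      · obtain ⟨u, hu, hDu0⟩ := hex
        have hφD : ∀ v, φ ⬝ᵥ D v = 0 := fun v => by
          rw [hDu, dotProduct_sub, dotProduct_smul, dotProduct_smul, hφx, hφE, smul_zero,
            smul_zero, sub_zero]
        refine ⟨D u, φ, hφD u, hDu0, hφ0, ?_⟩
        convert C.inY_smul (C.inY_sub (C.inY_conj hDY (x := u) (φ := φ) hu) hDY) (-1) using 1
        refine LinearMap.ext fun v => ?_
        simp only [LinearMap.smul_apply, LinearMap.sub_apply, LinearMap.comp_apply,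
          LinearMap.add_apply, LinearMap.id_apply, rk_apply, map_sub, map_smul, dotProduct_sub,
          dotProduct_smul, hφD, smul_eq_mul, mul_zero, sub_zero, zero_smul, add_zero]
        module
      · simp only [not_exists, not_and, not_not] at hex
        obtain ⟨w, hw, -⟩ := exists_dot (p := ⊥) (u := φ) (by simpa using hφ0)
        refine ⟨D w, φ, by rw [hDu, dotProduct_sub, dotProduct_smul, dotProduct_smul, hφx, hφE,
          smul_zero, smul_zero, sub_zero], ?_, hφ0, ?_⟩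
        · rw [hDu, dotProduct_comm φ w, hw, one_smul, ne_eq, sub_eq_zero]
          exact fun e => hx (e ▸ Submodule.smul_mem _ _ (Submodule.mem_span_singleton_self x))
        · convert hDY using 1
          refine LinearMap.ext fun v => ?_
          have h1 := hex (v - (φ ⬝ᵥ v) • w) (by
            rw [dotProduct_sub, dotProduct_smul, dotProduct_comm φ w, hw, smul_eq_mul, mul_one,
              sub_self])
          rw [map_sub, map_smul, sub_eq_zero] at h1
          rw [rk_apply, h1]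
  -- spread
  have spreadφ : ∀ x φ, φ ⬝ᵥ x = 0 → φ ≠ 0 → InY M y₀ (rk x φ) →
      ∀ χ, χ ⬝ᵥ x = 0 → InY M y₀ (rk x χ) := by
    intro x φ hφ hφ0 hY χ hχ
    by_cases hs : χ ∈ Submodule.span F {φ}
    · obtain ⟨c, rfl⟩ := Submodule.mem_span_singleton.1 hs
      convert C.inY_smul hY c using 1
      refine LinearMap.ext fun u => ?_
      simp [rk_apply, smul_dotProduct, smul_smul]
    have hn : φ ∉ Submodule.span F {χ} := fun hc => by
      obtain ⟨c, hc'⟩ := Submodule.mem_span_singleton.1 hc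
      rcases eq_or_ne c 0 with rfl | hc0
      · exact hφ0 (by rw [← hc', zero_smul])
      · exact hs (Submodule.mem_span_singleton.2 ⟨c⁻¹, by rw [← hc', inv_smul_smul₀ hc0]⟩)
    obtain ⟨z, hz1, hz2⟩ := exists_dot hn
    have hχz : χ ⬝ᵥ z = 0 := by
      rw [dotProduct_comm]; exact hz2 χ (Submodule.mem_span_singleton_self χ)
    convert C.inY_sub hY (C.inY_conj hY (x := z) (φ := χ) hχz) using 1
    refine LinearMap.ext fun u => ?_
    simp only [LinearMap.sub_apply, LinearMap.comp_apply, LinearMap.add_apply, LinearMap.id_apply,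
      rk_apply, map_sub, map_smul, dotProduct_sub, dotProduct_smul, smul_eq_mul, hχ, mul_zero,
      zero_smul, add_zero, dotProduct_comm φ z, hz1, mul_one]
    module
  rcases eq_or_ne x' 0 with rfl | hx'
  · convert C.inY_smul h0 0 using 1
    refine LinearMap.ext fun u => ?_
    simp [rk_apply]
  by_cases hs : x' ∈ Submodule.span F {x₀}
  · obtain ⟨c, rfl⟩ := Submodule.mem_span_singleton.1 hs
    have hc : c ≠ 0 := by rintro rfl; simp at hx'
    have h1 : φ' ⬝ᵥ x₀ = 0 := by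
      rw [dotProduct_smul, smul_eq_mul] at hφ'
      exact (mul_eq_zero.1 hφ').resolve_left hc
    convert C.inY_smul (spreadφ x₀ φ₀ hφ₀ hφ₀0 h0 φ' h1) c using 1
    refine LinearMap.ext fun u => ?_
    simp [rk_apply, smul_smul, mul_comm]
  -- move the centre
  obtain ⟨χ₁, hχ₁, hχ₁0⟩ := exists_dot hs
  have hn' : x₀ ∉ Submodule.span F {x'} := fun hc => by
    obtain ⟨c, hc'⟩ := Submodule.mem_span_singleton.1 hc
    rcases eq_or_ne c 0 with rfl | hc0
    · exact hx₀ (by rw [← hc', zero_smul])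
    · exact hs (Submodule.mem_span_singleton.2 ⟨c⁻¹, by rw [← hc', inv_smul_smul₀ hc0]⟩)
  obtain ⟨χ₂, hχ₂, hχ₂0⟩ := exists_dot hn'
  set χ := χ₁ + χ₂ with hχdef
  have hχx' : χ ⬝ᵥ x' = 1 := by
    rw [hχdef, add_dotProduct, hχ₁, hχ₂0 _ (Submodule.mem_span_singleton_self x'), add_zero]
  have hχx : χ ⬝ᵥ x₀ = 1 := by
    rw [hχdef, add_dotProduct, hχ₂, hχ₁0 _ (Submodule.mem_span_singleton_self x₀), zero_add]
  have hd : χ ⬝ᵥ (x' - x₀) = 0 := by rw [dotProduct_sub, hχx', hχx, sub_self]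
  set φ'' := φ₀ - (φ₀ ⬝ᵥ (x' - x₀)) • χ with hφ''
  have h1 : InY M y₀ (rk x' φ'') := by
    convert C.inY_conj h0 (x := x' - x₀) (φ := χ) hd using 1
    refine LinearMap.ext fun u => ?_
    simp only [LinearMap.comp_apply, LinearMap.add_apply, LinearMap.id_apply, LinearMap.sub_apply,
      rk_apply, hφ'', map_sub, map_smul, dotProduct_smul, dotProduct_sub, sub_dotProduct,
      smul_dotProduct, smul_eq_mul, hχx, mul_one]
    module
  refine spreadφ x' φ'' ?_ ?_ h1 φ' hφ'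
  · rw [hφ'', sub_dotProduct, smul_dotProduct, hχx', smul_eq_mul, mul_one, dotProduct_sub, hφ₀]
    ring
  · intro e
    rw [hφ'', sub_eq_zero] at e
    have h2 := congrArg (fun f : Fin a → F => f ⬝ᵥ x₀) e
    simp only [hφ₀, smul_dotProduct, hχx, smul_eq_mul, mul_one] at h2
    exact hφ₀0 (e.trans (by rw [← h2, zero_smul]))

theorem inT_add (C : Ctx M) {v : T⊗} {f f' : T⊗ →ₗ[F] F} (hf : f v = 0) (h : InT M v f)
    (h' : InT M v f') : InT M v (f + f') := by
  obtain ⟨e, he, hex⟩ := h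
  obtain ⟨e', he', hex'⟩ := h'
  refine ⟨e * e', mul_mem he he', fun X => ?_⟩
  show e (e' X) = _
  rw [hex', hex]
  dsimp only
  rw [map_add, map_smul, hf, smul_zero, add_zero, LinearMap.add_apply]
  module

theorem inT_neg (C : Ctx M) {v : T⊗} {f : T⊗ →ₗ[F] F} (hf : f v = 0) (h : InT M v f) :
    InT M v (-f) := by
  obtain ⟨e, he, hex⟩ := h
  refine ⟨e⁻¹, inv_mem he, fun X => e.injective ?_⟩
  rw [apply_inv_apply, hex]
  dsimp only
  rw [map_add, map_smul, hf, smul_zero, add_zero, LinearMap.neg_apply]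
  module

theorem inT_smul_left (C : Ctx M) {v : T⊗} {f : T⊗ →ₗ[F] F} (c : F) (h : InT M v (c • f)) :
    InT M (c • v) f := by
  obtain ⟨e, he, hex⟩ := h
  refine ⟨e, he, fun X => ?_⟩
  rw [hex]
  dsimp only
  rw [LinearMap.smul_apply, smul_eq_mul, mul_comm, mul_smul]

theorem inT_conj (C : Ctx M) {v : T⊗} {f : T⊗ →ₗ[F] F} (h : InT M v f) {g : T⊗ ≃ₗ[F] T⊗}
    (hg : g ∈ M) : InT M (g v) (f ∘ₗ (g⁻¹ : T⊗ ≃ₗ[F] T⊗).toLinearMap) := by
  obtain ⟨e, he, hex⟩ := h
  refine ⟨g * e * g⁻¹, mul_mem (mul_mem hg he) (inv_mem hg), fun X => ?_⟩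
  show g (e (g⁻¹ X)) = _
  rw [hex]
  dsimp only
  rw [map_add, map_smul, apply_inv_apply]
  rfl

theorem inT_comm (C : Ctx M) {v w : T⊗} {f h : T⊗ →ₗ[F] F} (hv : f v = 0) (hw : f w = 0)
    (hh : h w = 0) (hF : InT M v f) (hH : InT M w h) : InT M w (-(h v) • f) := by
  obtain ⟨e, he, hex⟩ := hF
  have hew : e w = w := by rw [hex]; dsimp only; rw [hw, zero_smul, add_zero]
  have hinv : ∀ X, e⁻¹ X = X - f X • v := fun X => e.injective (by
    rw [apply_inv_apply, hex]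
    dsimp only
    rw [map_sub, map_smul, hv, smul_zero, sub_zero, sub_add_cancel])
  have h1 := C.inT_conj hH he
  rw [hew] at h1
  have h2 := C.inT_add (f' := -h) ?_ h1 (C.inT_neg hh hH)
  · convert h2 using 1
    refine LinearMap.ext fun X => ?_
    show -(h v) • f X = h (e⁻¹ X) + -h X
    rw [hinv, map_sub, map_smul, smul_eq_mul, smul_eq_mul]
    ring
  · show h (e⁻¹ w) = 0
    rw [hinv, hw, zero_smul, sub_zero, hh]

/-- pure transvections with both factors nilpotent -/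
theorem inT_pure_one (C : Ctx M) (hsm : (∃ k : F, k ≠ 0 ∧ k ≠ 1) ∨ 3 ≤ a) (hy₀ : y₀ ≠ 0)
    {η : T⊗ →ₗ[F] (Fin a → F)} (h : InC M y₀ η) {y' : Fin b → F}
    (hy' : ¬ ∃ c : F, ∀ x, η (pur y' x) = c • x) (y : Fin b → F) (x φ : Fin a → F)
    (ψ : Fin b → F) (hφ : φ ⬝ᵥ x = 0) (hψ : ψ ⬝ᵥ y = 0) : InT M (pur y x) (fn φ ψ) := by
  have base : ∀ x φ ψ, φ ⬝ᵥ x = 0 → ψ ⬝ᵥ y₀ = 0 → InT M (pur y₀ x) (fn φ ψ) := by
    intro x φ ψ hφ hψ
    obtain ⟨-, e, he, hex⟩ := C.inY_rk hsm (C.inY_of_elem h y') hy' x φ hφ ψ hψ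
    refine ⟨e, he, fun X => ?_⟩
    rw [hex]
    dsimp only
    rw [fn_apply, LinearMap.comp_apply, rk_apply, pur_apply, smul_vecMulVec]
    rfl
  rcases eq_or_ne y 0 with rfl | hy
  · exact ⟨1, one_mem M, fun X => by
      show X = X + fn φ ψ X • pur (0 : Fin b → F) x
      have h0 : pur (a := a) (0 : Fin b → F) x = 0 := by
        ext i l; simp [pur_apply, vecMulVec_apply]
      rw [h0, smul_zero, add_zero]⟩
  by_cases hs : y ∈ Submodule.span F {y₀}
  · obtain ⟨c, rfl⟩ := Submodule.mem_span_singleton.1 hs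
    have hc : c ≠ 0 := by rintro rfl; simp at hy
    have h1 : ψ ⬝ᵥ y₀ = 0 := by
      rw [dotProduct_smul, smul_eq_mul] at hψ
      exact (mul_eq_zero.1 hψ).resolve_left hc
    have h2 := base (c • x) φ ψ (by rw [dotProduct_smul, hφ, smul_zero]) h1
    convert h2 using 1
    rw [pur_apply, pur_apply, vecMulVec_smul, smul_vecMulVec]
  obtain ⟨σ₁, hσ₁, hσ₁0⟩ := exists_dot hs
  have hn' : y₀ ∉ Submodule.span F {y} := fun hc => by
    obtain ⟨c, hc'⟩ := Submodule.mem_span_singleton.1 hc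
    rcases eq_or_ne c 0 with rfl | hc0
    · exact hy₀ (by rw [← hc', zero_smul])
    · exact hs (Submodule.mem_span_singleton.2 ⟨c⁻¹, by rw [← hc', inv_smul_smul₀ hc0]⟩)
  obtain ⟨σ₂, hσ₂, hσ₂0⟩ := exists_dot hn'
  set σ := σ₁ + σ₂ with hσdef
  have hσy : σ ⬝ᵥ y = 1 := by
    rw [hσdef, add_dotProduct, hσ₁, hσ₂0 _ (Submodule.mem_span_singleton_self y), add_zero]
  have hσy₀ : σ ⬝ᵥ y₀ = 1 := by
    rw [hσdef, add_dotProduct, hσ₂, hσ₁0 _ (Submodule.mem_span_singleton_self y₀), zero_add]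
  have hd : σ ⬝ᵥ (y - y₀) = 0 := by rw [dotProduct_sub, hσy, hσy₀, sub_self]
  obtain ⟨g, hg, hgx⟩ := C.right (y - y₀) σ hd
  have hinv : ∀ X, g⁻¹ X = X - vecMulVec (X *ᵥ σ) (y - y₀) := fun X => g.injective (by
    rw [apply_inv_apply, hgx]
    dsimp only
    rw [sub_mulVec, pure_mulVec, dotProduct_comm, hd, zero_smul, sub_zero, sub_add_cancel])
  have hψ0 : (ψ - (ψ ⬝ᵥ y₀) • σ) ⬝ᵥ y₀ = 0 := by
    rw [sub_dotProduct, smul_dotProduct, hσy₀, smul_eq_mul, mul_one, sub_self]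
  convert C.inT_conj (base x φ _ hφ hψ0) hg using 1
  · rw [hgx]
    dsimp only
    rw [pur_apply, pur_apply, pure_mulVec, dotProduct_comm, hσy₀, one_smul, ← vecMulVec_add,
      add_sub_cancel]
  · refine LinearMap.ext fun X => ?_
    show φ ⬝ᵥ (X *ᵥ ψ) = φ ⬝ᵥ ((g⁻¹ X) *ᵥ (ψ - (ψ ⬝ᵥ y₀) • σ))
    rw [hinv]
    simp only [sub_mulVec, mulVec_sub, mulVec_smul, pure_mulVec, sub_dotProduct, dotProduct_sub,
      dotProduct_smul, dotProduct_comm (y - y₀) σ, dotProduct_comm (y - y₀) ψ, hψ, hσy, hσy₀,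
      smul_eq_mul, zero_sub, sub_self, mul_zero, sub_zero, zero_smul, dotProduct_zero]
    ring

/-- every transvection -/
theorem inT_all (C : Ctx M) (hsm : (∃ k : F, k ≠ 0 ∧ k ≠ 1) ∨ 3 ≤ a) (hy₀ : y₀ ≠ 0)
    {η : T⊗ →ₗ[F] (Fin a → F)} (h : InC M y₀ η) {y' : Fin b → F}
    (hy' : ¬ ∃ c : F, ∀ x, η (pur y' x) = c • x) (v : T⊗) (f : T⊗ →ₗ[F] F) (hf : f v = 0) :
    InT M v f := by
  classical
  have ha := C.two_le
  have hab := C.lt
  have one := C.inT_pure_one hsm hy₀ h hy'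
  have hz : ∀ f : T⊗ →ₗ[F] F, InT M 0 f := fun f => ⟨1, one_mem M, fun X => by
    show X = X + f X • (0 : T⊗)
    rw [smul_zero, add_zero]⟩
  -- the second factor nilpotent
  have two : ∀ y x φ ψ, ψ ⬝ᵥ y = 0 → InT M (pur y x) (fn φ ψ) := by
    intro y x φ ψ hψ
    by_cases hφ : φ ⬝ᵥ x = 0
    · exact one y x φ ψ hφ hψ
    rcases eq_or_ne y 0 with rfl | hy
    · have h0 : pur (a := a) (0 : Fin b → F) x = 0 := by
        ext i l; simp [pur_apply, vecMulVec_apply]
      rw [h0]; exact hz _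
    obtain ⟨e', he', he'0⟩ := exists_perp φ ⊥ (by rw [finrank_bot]; omega)
    have hn : e' ∉ Submodule.span F {x} := fun hc => by
      obtain ⟨c, rfl⟩ := Submodule.mem_span_singleton.1 hc
      rw [dotProduct_smul, smul_eq_mul, mul_eq_zero] at he'
      rcases he'.resolve_right hφ with rfl
      simp at he'0
    obtain ⟨y'', hy'', hy''n⟩ := exists_perp ψ (Submodule.span F {y})
      (by rw [finrank_span_singleton hy]; omega)
    obtain ⟨φ', hφ'1, hφ'2⟩ := exists_dot hn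
    obtain ⟨ψ', hψ'1, hψ'2⟩ := exists_dot hy''n
    have hφ'x := hφ'2 x (Submodule.mem_span_singleton_self x)
    have hψ'y := hψ'2 y (Submodule.mem_span_singleton_self y)
    have h1 := C.inT_comm (f := fn φ ψ) (h := fn φ' ψ') (v := pur y'' e') (w := pur y x)
      (by rw [fn_pur, he', zero_mul]) (by rw [fn_pur, hψ, mul_zero])
      (by rw [fn_pur, hφ'x, zero_mul]) (one y'' e' φ ψ he' hy'')
      (one y x φ' ψ' hφ'x hψ'y)
    have h2 := C.inT_neg ?_ h1
    · convert h2 using 1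
      rw [fn_pur, hφ'1, hψ'1, mul_one]
      module
    · simp [fn_pur, hψ]
  -- the first factor nilpotent
  have three : ∀ y x φ ψ, φ ⬝ᵥ x = 0 → InT M (pur y x) (fn φ ψ) := by
    intro y x φ ψ hφ
    by_cases hψ : ψ ⬝ᵥ y = 0
    · exact one y x φ ψ hφ hψ
    rcases eq_or_ne x 0 with rfl | hx
    · rw [map_zero]; exact hz _
    obtain ⟨y'', hy'', hy''0⟩ := exists_perp ψ ⊥ (by rw [finrank_bot]; omega)
    have hn : y'' ∉ Submodule.span F {y} := fun hc => by
      obtain ⟨c, rfl⟩ := Submodule.mem_span_singleton.1 hc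
      rw [dotProduct_smul, smul_eq_mul, mul_eq_zero] at hy''
      rcases hy''.resolve_right hψ with rfl
      simp at hy''0
    obtain ⟨φ', hφ'1, -⟩ := exists_dot (p := ⊥) (u := x) (by simpa using hx)
    obtain ⟨ψ', hψ'1, hψ'2⟩ := exists_dot hn
    have hψ'y := hψ'2 y (Submodule.mem_span_singleton_self y)
    have h1 := C.inT_comm (f := fn φ ψ) (h := fn φ' ψ') (v := pur y'' x) (w := pur y x)
      (by rw [fn_pur, hφ, zero_mul]) (by rw [fn_pur, hφ, zero_mul])
      (by rw [fn_pur, hψ'y, mul_zero]) (one y'' x φ ψ hφ hy'') (two y x φ' ψ' hψ'y)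
    have h2 := C.inT_neg ?_ h1
    · convert h2 using 1
      rw [fn_pur, hφ'1, hψ'1, mul_one]
      module
    · simp [fn_pur, hφ]
  -- all functionals
  have fullp : ∀ y x (f : T⊗ →ₗ[F] F), f (pur y x) = 0 → InT M (pur y x) f := by
    intro y x f hf
    rcases eq_or_ne y 0 with rfl | hy
    · have h0 : pur (a := a) (0 : Fin b → F) x = 0 := by
        ext i l; simp [pur_apply, vecMulVec_apply]
      rw [h0]; exact hz _
    obtain ⟨σ, hσ, -⟩ := exists_dot (p := ⊥) (u := y) (by simpa using hy)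
    let φl : Fin b → Fin a → F := fun l i => f (Matrix.single i l 1)
    let s : Fin b → Fin b → F := fun l => Pi.single l 1 - y l • σ
    have hfX : ∀ X, f X = ∑ l, φl l ⬝ᵥ (X *ᵥ Pi.single l 1) := fun X => by
      conv_lhs => rw [Matrix.matrix_eq_sum_single X]
      simp only [map_sum]
      rw [Finset.sum_comm]
      refine Finset.sum_congr rfl fun l _ => Finset.sum_congr rfl fun i _ => ?_
      rw [mulVec_single_one, ← mul_one (X i l), ← smul_eq_mul, ← Matrix.smul_single, map_smul]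
      simp [φl, mul_comm]
    have hdec : f = (∑ l, fn (φl l) (s l)) + fn (∑ l, y l • φl l) σ := by
      refine LinearMap.ext fun X => ?_
      rw [hfX, LinearMap.add_apply, LinearMap.sum_apply]
      simp only [fn_apply, s, mulVec_sub, mulVec_smul, dotProduct_sub, dotProduct_smul,
        sum_dotProduct, smul_dotProduct, ← Finset.sum_add_distrib, smul_eq_mul]
      exact Finset.sum_congr rfl fun l _ => by ring
    have hs : ∀ l, s l ⬝ᵥ y = 0 := fun l => by
      simp [s, sub_dotProduct, smul_dotProduct, hσ]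
    have hlast : (∑ l, y l • φl l) ⬝ᵥ x = 0 := by
      rw [hdec, LinearMap.add_apply, LinearMap.sum_apply] at hf
      simpa [fn_pur, hs, hσ] using hf
    have hsum : ∀ t : Finset (Fin b), InT M (pur y x) (∑ l ∈ t, fn (φl l) (s l)) := by
      intro t
      induction t using Finset.induction_on with
      | empty => exact ⟨1, one_mem M, fun X => by simp⟩
      | insert l t hl ih =>
        rw [Finset.sum_insert hl]
        exact C.inT_add (by rw [fn_pur, hs, mul_zero]) (two y x _ _ (hs l)) ih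
    rw [hdec]
    exact C.inT_add (by simp [fn_pur, hs]) (hsum _) (three y x _ _ hlast)
  -- all centres
  let col : Fin b → T⊗ := fun l => pur (Pi.single l 1) (fun i => v i l)
  suffices hall : ∀ t : Finset (Fin b), ∀ f : T⊗ →ₗ[F] F, f (∑ l ∈ t, col l) = 0 →
      InT M (∑ l ∈ t, col l) f by
    have hv : v = ∑ l, col l := by
      ext i k
      simp [col, Matrix.sum_apply, pur_apply, vecMulVec_apply, Pi.single_apply]
    rw [hv] at hf ⊢
    exact hall _ f hf
  intro t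
  induction t using Finset.induction_on with
  | empty => intro f _; rw [Finset.sum_empty]; exact hz f
  | insert l t hl ih =>
    intro f hf
    rw [Finset.sum_insert hl] at hf ⊢
    set u := col l with hu
    set w := ∑ k ∈ t, col k with hw
    rcases eq_or_ne u 0 with hu0 | hu0
    · rw [hu0, zero_add] at hf ⊢; exact ih f hf
    rcases eq_or_ne w 0 with hw0 | hw0
    · rw [hw0, add_zero] at hf ⊢; exact fullp _ _ f hf
    have hn : w ∉ Submodule.span F {u} := fun hc => by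
      obtain ⟨c, hc'⟩ := Submodule.mem_span_singleton.1 hc
      refine hw0 (Matrix.ext fun i k => ?_)
      rcases eq_or_ne k l with rfl | hk
      · simp only [hw, col, Matrix.sum_apply, pur_apply, vecMulVec_apply, Matrix.zero_apply]
        exact Finset.sum_eq_zero fun k' hk' => by
          rw [Pi.single_eq_of_ne (fun e : k = k' => hl (e ▸ hk')), mul_zero]
      · rw [← hc', hu]
        simp [col, pur_apply, vecMulVec_apply, Pi.single_eq_of_ne hk]
    obtain ⟨f', hf'1, hf'2⟩ := exists_dual_one hn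
    obtain ⟨g, hg, hgx⟩ := fullp (Pi.single l 1) (fun i => v i l) f'
      (hf'2 u (Submodule.mem_span_singleton_self u))
    have hgw : g w = u + w := by
      rw [hgx]
      dsimp only
      rw [hf'1, one_smul, add_comm]
    have h1 := C.inT_conj (ih (f ∘ₗ g.toLinearMap) (by
      show f (g w) = 0
      rw [hgw, hf])) hg
    rw [hgw] at h1
    convert h1 using 1
    refine LinearMap.ext fun X => ?_
    show f X = f (g (g⁻¹ X))
    rw [apply_inv_apply]

end Ctx

end CfsgLib.MaxSub.TensorMax
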