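import Cfsg.Agent.Lib.MaxSub.UExtBase
import Cfsg.Agent.Lib.MaxSub.ExtBig

/-!
An overgroup of the semilinear unitary group that is not semilinear induces transvections on an
isotropic line.
-/

set_option autoImplicit false
set_option linter.unusedSectionVars false
set_option linter.unusedVariables false

namespace CfsgLib.MaxSub.UExt

variable {F K V : Type*} [Field F] [Field K] [Algebra F K] [AddCommGroup V] [Module K V]
  [Module F V] [IsScalarTower F K V]

/-- the values `i` such that all fixed multiples give transvections `k ↦ k + χ k • i` on the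
line of `v` -/
def InI (σ : F ≃+* F) (χ : K →ₗ[F] F) (M : Subgroup (V ≃ₗ[F] V)) (v : V) : Set K :=
  {i | χ i = 0 ∧ ∀ s : F, σ s = s → ∃ m ∈ M, ∀ k : K, m (k • v) = (k + χ k • (s • i)) • v}

namespace Ctx

variable [Finite F] [Finite K] [Module.Finite K V] [Module.Finite F K]
  {φ : V → V → K} {J : K ≃+* K} {σ : F ≃+* F} {τ : K →ₗ[F] F} {M : Subgroup (V ≃ₗ[F] V)}

/-- every functional on `K` is `τ (b * ·)` -/
theorem exists_rep (C : Ctx φ J σ τ M) (χ : K →ₗ[F] F) : ∃ b, ∀ y, χ y = τ (b * y) := by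
  let e : K →ₗ[F] (K →ₗ[F] F) :=
    { toFun := fun μ => τ ∘ₗ LinearMap.mulLeft F μ
      map_add' := fun μ ν => by ext x; simp [add_mul]
      map_smul' := fun s μ => by ext x; simp }
  have hinj : Function.Injective e := fun a b h => C.tau_inj fun s => by
    have := LinearMap.congr_fun h s
    simpa [e, mul_comm] using this
  obtain ⟨b, hb⟩ := (LinearMap.injective_iff_surjective_of_finrank_eq_finrank
    (Subspace.dual_finrank_eq (K := F) (V := K)).symm).mp hinj χ
  exact ⟨b, fun y => by rw [← hb]; rfl⟩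

/-- a map sending isotropic lines to lines is semilinear -/
theorem kSemi_of_isotropic (C : Ctx φ J σ τ M) {g : V ≃ₗ[F] V}
    (h : ∀ v, φ v v = 0 → LineTo K g v) : KSemi K g := by
  obtain ⟨e, he0, he⟩ := C.exists_isotropic
  choose α hα using h e he
  have hge : g e ≠ 0 := fun h0 => he0 (g.map_eq_zero_iff.1 h0)
  have hα1 : α 1 = 1 := smul_left_injective K hge (by
    show α 1 • g e = (1 : K) • g e
    rw [← hα, one_smul, one_smul])
  let αl : K →ₗ[F] K :=
    { toFun := α
      map_add' := fun x y => smul_left_injective K hge (by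
        show α (x + y) • g e = (α x + α y) • g e
        rw [← hα, add_smul, map_add, hα, hα, add_smul])
      map_smul' := fun c x => smul_left_injective K hge (by
        show α (c • x) • g e = (c • α x) • g e
        rw [← hα, smul_assoc, map_smul, hα, smul_assoc]) }
  -- isotropic partners of `e`
  have key : ∀ f, φ f f = 0 → φ e f = 1 → (∀ k : K, g (k • f) = α k • g f) ∧
      ∀ k d : K, d + J d = 0 → α (k * d) = α k * α d := by
    intro f hf hef
    have hfe : φ f e = 1 := by rw [C.herm, hef, map_one]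
    have hf0 : f ≠ 0 := fun h0 => zero_ne_one (α := K) (by rw [← hef, h0, C.zero_right])
    choose β hβ using h f hf
    have hgf : g f ≠ 0 := fun h0 => hf0 (g.map_eq_zero_iff.1 h0)
    have hindep : ∀ a b : K, a • g e = b • g f → a = 0 ∧ b = 0 := by
      intro a b hab
      by_cases ha : a = 0
      · rw [ha, zero_smul] at hab
        exact ⟨ha, (smul_eq_zero.1 hab.symm).resolve_right hgf⟩
      exfalso
      have hβinj : Function.Injective β := fun x y hxy =>
        smul_left_injective K hf0 (g.injective (by rw [hβ, hβ, hxy]))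
      obtain ⟨k, hk⟩ := Finite.surjective_of_injective hβinj (a⁻¹ * b)
      have hek : e = k • f := g.injective (by
        rw [hβ, hk, mul_smul, ← hab, inv_smul_smul₀ ha])
      rw [hek, C.smul_left, hf, mul_zero] at hef
      exact zero_ne_one hef
    have hrule : ∀ k d : K, d + J d = 0 → β (k * d) = α k * β d := by
      intro k d hd
      obtain ⟨c, hc⟩ := h (e + d • f) (by
        simp only [C.add_left, C.add_right, C.smul_left, C.smul_right, he, hf, hef, hfe]
        linear_combination hd) k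
      rw [smul_add, smul_smul, map_add, map_add, hα, hβ, hβ, smul_add, smul_smul] at hc
      have h2 := hindep (α k - c) (c * β d - β (k * d)) (by
        rw [sub_smul, sub_smul]
        linear_combination (norm := module) hc)
      rw [← sub_eq_zero.1 h2.2, sub_eq_zero.1 h2.1]
    obtain ⟨c₀, hc₀, hc⟩ := C.exists_skew
    have hβα : ∀ k, β k = α k := by
      intro k
      have h1 := hrule k (algebraMap F K c₀) (by rw [C.J_algebraMap, ← map_add, hc, map_zero])
      have e1 : ∀ x : K, β (x * algebraMap F K c₀) = algebraMap F K c₀ * β x := fun x =>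
        smul_left_injective K hgf (by
          show β (x * algebraMap F K c₀) • g f = (algebraMap F K c₀ * β x) • g f
          rw [← hβ, mul_comm x, ← Algebra.smul_def, smul_assoc, map_smul, hβ,
            ← Algebra.smul_def, smul_assoc])
      have hβ1 : β 1 = 1 := smul_left_injective K hgf (by
        show β 1 • g f = (1 : K) • g f
        rw [← hβ, one_smul, one_smul])
      have e2 : β (algebraMap F K c₀) = algebraMap F K c₀ := by
        have := e1 1
        rwa [one_mul, hβ1, mul_one] at this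
      rw [e1, e2, mul_comm (α k)] at h1
      exact mul_left_cancel₀ ((map_ne_zero _).2 hc₀) h1
    exact ⟨fun k => by rw [hβ, hβα], fun k d hd => by rw [← hβα, hrule k d hd, hβα]⟩
  obtain ⟨f, hf, hef⟩ := C.exists_partner he he0
  have hmul : ∀ k z, α (k * z) = α k * α z := fun k z =>
    C.top_of_skew (W := LinearMap.ker (αl ∘ₗ LinearMap.mulLeft F k -
      LinearMap.mulLeft F (α k) ∘ₗ αl)) (fun d hd => by
        rw [LinearMap.mem_ker, LinearMap.sub_apply, sub_eq_zero]
        exact (key f hf hef).2 k d hd) z |> fun h => sub_eq_zero.1 (LinearMap.mem_ker.1 h)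
  let S : Submodule K V :=
    { carrier := {x | ∀ k : K, g (k • x) = α k • g x}
      add_mem' := fun {x y} hx hy k => by rw [smul_add, map_add, hx, hy, map_add, smul_add]
      zero_mem' := fun k => by simp
      smul_mem' := fun l x hx k => by rw [smul_smul, hx, hx l, hmul, mul_smul] }
  refine fun k => ⟨α k, fun y => ?_⟩
  suffices y ∈ S from this k
  have heS : e ∈ S := hα
  have hfS : f ∈ S := (key f hf hef).1
  have hfe : φ f e = 1 := by rw [C.herm, hef, map_one]
  obtain ⟨y', hy'⟩ : ∃ y', y' = y - φ y f • e - φ y e • f := ⟨_, rfl⟩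
  have hy'e : φ y' e = 0 := by
    simp only [hy', C.sub_left, C.smul_left, he, hfe, mul_zero, mul_one, sub_zero, sub_self]
  have hfy : φ (f + y') e = 1 := by rw [C.add_left, hy'e, hfe, add_zero]
  obtain ⟨t, ht⟩ := C.exists_shift he (y := f + y') (by rw [hfy]; exact one_ne_zero)
  have hS := (key _ ht (by
    rw [C.add_right, C.smul_right, he, mul_zero, add_zero, C.herm, hfy, map_one])).1
  have hy'S : y' ∈ S := by
    have := sub_mem (sub_mem (show f + y' + t • e ∈ S from hS) (S.smul_mem t heS)) hfS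
    rwa [add_sub_cancel_right, add_sub_cancel_left] at this
  have := add_mem (add_mem hy'S (S.smul_mem (φ y f) heS)) (S.smul_mem (φ y e) hfS)
  rwa [hy', show y - φ y f • e - φ y e • f + φ y f • e + φ y e • f = y by abel] at this

/-- fixed elements independent modulo `B` -/
theorem exists_fixed_family (C : Ctx φ J σ τ M) (B : Submodule F K) :
    ∃ u : Fin (Module.finrank F (K ⧸ B)) → K, (∀ i, J (u i) = u i) ∧
      LinearIndependent F (fun i => B.mkQ (u i)) ∧
      ∀ W : Submodule F K, B ≤ W → (∀ i, u i ∈ W) → W = ⊤ := by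
  have htop : Submodule.span F (B.mkQ '' {a | J a = a}) = ⊤ := by
    rw [← Submodule.map_span, show Submodule.span F {a | J a = a} = ⊤ from eq_top_iff.2 fun x _ =>
      C.top_of_fixed (W := Submodule.span F {a | J a = a})
        (fun a ha => Submodule.subset_span ha) x, Submodule.map_top, Submodule.range_mkQ]
  obtain ⟨f, hf, hspan, hli⟩ := Submodule.exists_fun_fin_finrank_span_eq F (B.mkQ '' {a | J a = a})
  replace hspan := hspan.trans htop
  have hn : Module.finrank F (Submodule.span F (B.mkQ '' {a | J a = a})) =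
      Module.finrank F (K ⧸ B) := by rw [htop, finrank_top]
  choose u hu huf using hf
  refine ⟨fun i => u (Fin.cast hn.symm i), fun i => hu _, ?_, fun W hBW hW => ?_⟩
  · show LinearIndependent F fun i => B.mkQ (u (Fin.cast hn.symm i))
    simp only [huf]
    exact hli.comp _ (Fin.cast_injective hn.symm)
  · have h1 : W.map B.mkQ = ⊤ := by
      rw [eq_top_iff, ← hspan, Submodule.span_le]
      rintro _ ⟨i, rfl⟩
      exact ⟨u i, by simpa using hW (Fin.cast hn i), huf i⟩
    rw [Submodule.map_mkQ_eq_top, sup_eq_right.2 hBW] at h1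
    exact h1

theorem tau_comb (C : Ctx φ J σ τ M) {d : ℕ} (x : Fin d → F) (u : Fin d → K) (z : K) :
    τ ((∑ l, x l • u l) * z) = ∑ l, τ (u l * z) * x l := by
  rw [Finset.sum_mul, map_sum]
  exact Finset.sum_congr rfl fun l _ => by
    rw [smul_mul_assoc, map_smul, smul_eq_mul, mul_comm]

/-- forms that are trivial or non-degenerate: the trivial ones are many -/
theorem finrank_kill (C : Ctx φ J σ τ M) (P : Submodule F K) (hP0 : P ≠ ⊥)
    (hP : ∀ a : K, J a = a → (∀ x ∈ P, ∀ y ∈ P, τ (a * (x * J y)) = 0) ∨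
      ∀ x ∈ P, (∀ y ∈ P, τ (a * (x * J y)) = 0) → x = 0) :
    Module.finrank F (K ⧸ Submodule.span F {a | J a = a ∧ ∀ x ∈ P, ∀ y ∈ P, τ (a * (x * J y)) = 0})
      ≤ Module.finrank F P := by
  classical
  set B : Submodule F K :=
    Submodule.span F {a | J a = a ∧ ∀ x ∈ P, ∀ y ∈ P, τ (a * (x * J y)) = 0} with hB
  by_contra hlt
  obtain ⟨u, hu, hli, -⟩ := C.exists_fixed_family B
  let pb := Module.finBasis F P
  have hp : 0 < Module.finrank F P := by
    have h0 : Module.finrank F P ≠ 0 := fun h => hP0 (Submodule.finrank_eq_zero.1 h)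
    omega
  haveI : Nonempty (Fin (Module.finrank F P)) := ⟨⟨0, hp⟩⟩
  let N : Matrix (Fin (Module.finrank F P)) (Fin (Module.finrank F P))
      (MvPolynomial (Fin (Module.finrank F (K ⧸ B))) F) := fun i j =>
    ∑ l, MvPolynomial.C (τ (u l * ((pb i : K) * J (pb j : K)))) * MvPolynomial.X l
  obtain ⟨x, hx0, hxfix, hx⟩ := exists_fixed_zero (σ := σ) (ι := Unit) (fun _ => N.det)
    (fun _ => by
      show MvPolynomial.map σ.toRingHom N.det = N.det
      rw [RingHom.map_det]
      conv_rhs => rw [← Matrix.det_transpose]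
      congr 1
      refine Matrix.ext fun i j => ?_
      show MvPolynomial.map σ.toRingHom (N i j) = N j i
      simp only [N, map_sum, map_mul, MvPolynomial.map_C, MvPolynomial.map_X]
      refine Finset.sum_congr rfl fun l _ => ?_
      congr 2
      show σ (τ (u l * ((pb i : K) * J (pb j : K)))) = _
      rw [← C.tau_J, map_mul J, map_mul J, hu, C.invol, mul_comm (J (pb i : K))])
    (fun _ => by
      show MvPolynomial.eval 0 N.det = 0
      rw [RingHom.map_det]
      have : (MvPolynomial.eval (0 : Fin (Module.finrank F (K ⧸ B)) → F)).mapMatrix N = 0 := by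
        refine Matrix.ext fun i j => ?_
        show MvPolynomial.eval 0 (N i j) = 0
        simp [N]
      rw [this, Matrix.det_zero])
    (by
      rw [Finset.univ_unique, Finset.sum_singleton, Fintype.card_fin]
      refine lt_of_le_of_lt ?_ (not_le.1 hlt)
      rw [Matrix.det_apply']
      refine MvPolynomial.totalDegree_finsetSum_le fun π _ => ?_
      refine le_trans (MvPolynomial.totalDegree_mul _ _) ?_
      rw [← map_intCast (MvPolynomial.C (σ := Fin (Module.finrank F (K ⧸ B))) (R := F)),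
        MvPolynomial.totalDegree_C, zero_add]
      refine le_trans (MvPolynomial.totalDegree_finsetProd _ _) ?_
      refine le_trans (Finset.sum_le_card_nsmul _ _ 1 fun i _ => ?_) (by simp)
      refine MvPolynomial.totalDegree_finsetSum_le fun l _ => ?_
      refine le_trans (MvPolynomial.totalDegree_mul _ _) ?_
      rw [MvPolynomial.totalDegree_C, zero_add, MvPolynomial.totalDegree_X])
  obtain ⟨a, ha⟩ : ∃ a, a = ∑ l, x l • u l := ⟨_, rfl⟩
  have haJ : J a = a := by
    rw [ha, map_sum]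
    exact Finset.sum_congr rfl fun l _ => by rw [C.J_smul, hxfix, hu]
  have hdet := hx ()
  rw [RingHom.map_det, ← Matrix.exists_vecMul_eq_zero_iff] at hdet
  obtain ⟨v, hv0, hv⟩ := hdet
  obtain ⟨x₀, hx₀⟩ : ∃ x₀ : P, x₀ = ∑ i, v i • pb i := ⟨_, rfl⟩
  have hx₀0 : x₀ ≠ 0 := fun e => hv0 (funext fun i =>
    Fintype.linearIndependent_iff.1 pb.linearIndependent v (by rw [← hx₀, e]) i)
  have hperp : ∀ y : P, τ (a * ((x₀ : K) * J (y : K))) = 0 := by
    have hb : ∀ j, τ (a * ((x₀ : K) * J (pb j : K))) = 0 := fun j => by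
      have h1 := congrFun hv j
      rw [Pi.zero_apply] at h1
      rw [hx₀, Submodule.coe_sum, Finset.sum_mul, Finset.mul_sum, map_sum, ← h1]
      refine Finset.sum_congr rfl fun i _ => ?_
      show _ = v i * MvPolynomial.eval x (N i j)
      simp only [N, map_sum, map_mul, MvPolynomial.eval_C, MvPolynomial.eval_X]
      rw [Submodule.coe_smul, smul_mul_assoc, mul_smul_comm, map_smul, smul_eq_mul, ha,
        C.tau_comb]
    intro y
    let L : Submodule F P :=
      { carrier := {y | τ (a * ((x₀ : K) * J (y : K))) = 0}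
        add_mem' := fun {y y'} h h' => by
          show τ (a * ((x₀ : K) * J ((y + y' : P) : K))) = 0
          rw [Submodule.coe_add, map_add, mul_add, mul_add, map_add, h, h', add_zero]
        zero_mem' := by simp
        smul_mem' := fun c y h => by
          show τ (a * ((x₀ : K) * J ((c • y : P) : K))) = 0
          rw [Submodule.coe_smul, C.J_smul, mul_smul_comm, mul_smul_comm, map_smul, h, smul_zero] }
    have : L = ⊤ := eq_top_iff.2 (by
      rw [← pb.span_eq, Submodule.span_le]
      rintro _ ⟨j, rfl⟩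
      exact hb j)
    exact (show y ∈ L by rw [this]; trivial)
  rcases hP a haJ with h | h
  · have haB : a ∈ B := Submodule.subset_span ⟨haJ, h⟩
    refine hx0 (funext fun l => Fintype.linearIndependent_iff.1 hli x ?_ l)
    rw [← (Submodule.Quotient.mk_eq_zero B).2 haB, ← Submodule.mkQ_apply, ha, map_sum]
    simp only [map_smul]
  · exact hx₀0 (Subtype.ext (h _ x₀.2 fun y hy => hperp ⟨y, hy⟩))

/-- the image of an isotropic line under an element of `M` has a non-zero isotropic vector -/
theorem exists_iso_image (C : Ctx φ J σ τ M) {g : V ≃ₗ[F] V} (hg : g ∈ M) {v : V}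
    (hv : φ v v = 0) : ∃ k : K, k ≠ 0 ∧ φ (g (k • v)) (g (k • v)) = 0 := by
  classical
  have hr := C.three_le
  obtain ⟨ξ, hξ⟩ := C.exists_ne_fixed
  obtain ⟨u, hu, -, hspan⟩ := C.exists_fixed_family (Submodule.span F {(1 : K)})
  have hm : Module.finrank F (K ⧸ Submodule.span F {(1 : K)}) + 1 = Module.finrank F K := by
    rw [← Submodule.finrank_quotient_add_finrank (Submodule.span F {(1 : K)}),
      finrank_span_singleton one_ne_zero]
  let b := Module.finBasis F K
  let e : Fin (Module.finrank F K) ⊕ Fin (Module.finrank F K) → K :=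
    Sum.elim (fun l => b l) fun l => ξ • b l
  let y : Fin (Module.finrank F K) ⊕ Fin (Module.finrank F K) → V := fun a => g (e a • v)
  let Pl : Fin (Module.finrank F (K ⧸ Submodule.span F {(1 : K)})) →
      MvPolynomial (Fin (Module.finrank F K) ⊕ Fin (Module.finrank F K)) F := fun l =>
    ∑ a, ∑ c, MvPolynomial.C (τ (u l * φ (y a) (y c))) * (MvPolynomial.X a * MvPolynomial.X c)
  obtain ⟨x, hx0, hxfix, hx⟩ := exists_fixed_zero (σ := σ) Pl
    (fun l => by
      simp only [Pl, map_sum, map_mul, MvPolynomial.map_C, MvPolynomial.map_X]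
      rw [Finset.sum_comm]
      refine Finset.sum_congr rfl fun a _ => Finset.sum_congr rfl fun c _ => ?_
      rw [mul_comm (MvPolynomial.X c)]
      congr 2
      show σ (τ (u l * φ (y c) (y a))) = _
      rw [← C.tau_J, map_mul, hu, ← C.herm])
    (fun l => by simp [Pl])
    (by
      refine lt_of_le_of_lt (Finset.sum_le_card_nsmul _ _ 2 fun l _ => ?_) ?_
      · refine MvPolynomial.totalDegree_finsetSum_le fun a _ =>
          MvPolynomial.totalDegree_finsetSum_le fun c _ => ?_
        refine le_trans (MvPolynomial.totalDegree_mul _ _) ?_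
        rw [MvPolynomial.totalDegree_C, zero_add]
        refine le_trans (MvPolynomial.totalDegree_mul _ _) ?_
        rw [MvPolynomial.totalDegree_X, MvPolynomial.totalDegree_X]
      · rw [Finset.card_univ, Fintype.card_fin, Fintype.card_sum, Fintype.card_fin, smul_eq_mul]
        omega)
  obtain ⟨k, hk⟩ : ∃ k, k = ∑ a, x a • e a := ⟨_, rfl⟩
  have hk0 : k ≠ 0 := by
    intro h0
    rw [hk, Fintype.sum_sum_type] at h0
    simp only [e, Sum.elim_inl, Sum.elim_inr, smul_smul] at h0
    rw [← Finset.sum_add_distrib] at h0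
    simp only [← add_smul] at h0
    have h1 := Fintype.linearIndependent_iff.1 b.linearIndependent _ h0
    have h2 : ∀ l, x (Sum.inr l) = 0 := fun l => by
      have e1 := h1 l
      have e2 := congrArg σ e1
      rw [map_add, map_mul, hxfix, hxfix, map_zero] at e2
      refine (mul_eq_zero.1 (?_ : (σ ξ - ξ) * x (Sum.inr l) = 0)).resolve_left
        (sub_ne_zero.2 hξ)
      linear_combination e2 - e1
    refine hx0 (funext fun a => ?_)
    rcases a with l | l
    · have e1 := h1 l
      rwa [h2, zero_mul, add_zero] at e1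
    · exact h2 l
  refine ⟨k, hk0, ?_⟩
  obtain ⟨G, hG⟩ : ∃ G, G = φ (g (k • v)) (g (k • v)) := ⟨_, rfl⟩
  have hgk : g (k • v) = ∑ a, x a • y a := by
    rw [hk, Finset.sum_smul, map_sum]
    exact Finset.sum_congr rfl fun a _ => by rw [smul_assoc, map_smul]
  have hGsum : G = ∑ a, ∑ c, (x a * x c) • φ (y a) (y c) := by
    rw [hG, hgk]
    rw [show φ (∑ a, x a • y a) (∑ a, x a • y a) = C.lin (∑ a, x a • y a) (∑ a, x a • y a) from rfl,
      map_sum]
    refine Finset.sum_congr rfl fun a _ => ?_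
    rw [C.lin_apply, C.smulF_left,
      show φ (y a) (∑ c, x c • y c) = ∑ c, φ (y a) (x c • y c) from
        map_sum (AddMonoidHom.mk' (fun w => φ (y a) w) (C.add_right (y a))) _ _,
      Finset.mul_sum]
    refine Finset.sum_congr rfl fun c _ => ?_
    rw [C.smulF_right, hxfix, ← mul_assoc, ← map_mul, Algebra.smul_def]
  have hW : LinearMap.ker (τ ∘ₗ LinearMap.mulRight F G) = ⊤ := by
    refine hspan _ ((Submodule.span_singleton_le_iff_mem _ _).2 ?_) fun l => ?_
    · show τ (1 * G) = 0
      rw [one_mul, hG, C.iso g hg, C.smul_left, C.smul_right, hv, mul_zero, mul_zero, map_zero]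
    · show τ (u l * G) = 0
      have h1 := hx l
      simp only [Pl, map_sum, map_mul, MvPolynomial.eval_C, MvPolynomial.eval_X] at h1
      rw [hGsum, Finset.mul_sum, map_sum, ← h1]
      refine Finset.sum_congr rfl fun a _ => ?_
      rw [Finset.mul_sum, map_sum]
      refine Finset.sum_congr rfl fun c _ => ?_
      rw [mul_smul_comm, map_smul, smul_eq_mul, mul_comm]
  rw [← hG]
  refine C.tau_inj fun s => ?_
  rw [mul_zero, map_zero]
  have : s ∈ LinearMap.ker (τ ∘ₗ LinearMap.mulRight F G) := by rw [hW]; trivial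
  exact this

/-- An isotropic line whose stabiliser in `M` induces transvections with one axis on it. -/
theorem exists_axis (C : Ctx φ J σ τ M) (hg : ∃ g ∈ M, ¬ KSemi K g) :
    ∃ v₀ : V, v₀ ≠ 0 ∧ φ v₀ v₀ = 0 ∧ ∃ χ : K →ₗ[F] F, χ ≠ 0 ∧
      ∀ i : K, χ i = 0 → i ∈ Submodule.span F (InI σ χ M v₀) := by
  classical
  obtain ⟨g₀, hg₀, hns⟩ := hg
  haveI : Finite V := Module.finite_of_finite K
  haveI : Finite (V ≃ₗ[F] V) :=
    Finite.of_injective (fun g => (g : V → V)) DFunLike.coe_injective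
  let I : (V ≃ₗ[F] V) × V → Set K := fun p => {k | ∃ c : K, p.1 (k • p.2) = c • p.1 p.2}
  obtain ⟨⟨g, v₀⟩, ⟨hgM, hiso₀, hisov, hgv⟩, hmax⟩ := Set.exists_max_image
    {p : (V ≃ₗ[F] V) × V |
      p.1 ∈ M ∧ φ p.2 p.2 = 0 ∧ φ (p.1 p.2) (p.1 p.2) = 0 ∧ ¬ LineTo K p.1 p.2}
    (fun p => (I p).ncard) (Set.toFinite _)
    (by
      by_contra hall
      refine hns (C.kSemi_of_isotropic fun v hv => ?_)
      by_contra hnl
      obtain ⟨k₀, hk0, hk⟩ := C.exists_iso_image hg₀ hv
      refine hall ⟨(g₀, k₀ • v), hg₀,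
        show φ (k₀ • v) (k₀ • v) = 0 by rw [C.smul_left, C.smul_right, hv, mul_zero, mul_zero],
        hk, fun hl => hnl fun k => ?_⟩
      have hl' : ∀ k, ∃ k', g₀ ((k * k₀) • v) = k' • g₀ (k₀ • v) := fun k => by
        obtain ⟨k', hk'⟩ := hl k
        exact ⟨k', by rw [mul_smul]; exact hk'⟩
      choose cc hcc using hl'
      have hg1 : g₀ v = cc k₀⁻¹ • g₀ (k₀ • v) := by
        rw [← hcc, inv_mul_cancel₀ hk0, one_smul]
      have hg2 : g₀ (k • v) = cc (k / k₀) • g₀ (k₀ • v) := by
        rw [← hcc, div_mul_cancel₀ _ hk0]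
      have hne : cc k₀⁻¹ ≠ 0 := fun h0 => by
        rw [h0, zero_smul, g₀.map_eq_zero_iff] at hg1
        exact hnl fun k => ⟨1, by rw [hg1, smul_zero, one_smul]⟩
      exact ⟨cc (k / k₀) / cc k₀⁻¹, by rw [hg2, hg1, smul_smul, div_mul_cancel₀ _ hne]⟩)
  have hv₀ : v₀ ≠ 0 := by rintro rfl; exact hgv fun k => ⟨0, by simp⟩
  set v := g v₀ with hv
  have hvne : v ≠ 0 := fun e => hv₀ (g.map_eq_zero_iff.mp e)
  set ρ : K →ₗ[F] V :=
    (g : V →ₗ[F] V) ∘ₗ (LinearMap.toSpanSingleton K V v₀).restrictScalars F with hρ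
  have hρa : ∀ k, ρ k = g (k • v₀) := fun k => rfl
  have hρinj : Function.Injective ρ := fun a b h => smul_left_injective K hv₀ (g.injective h)
  set line : K →ₗ[F] V := (LinearMap.toSpanSingleton K V v).restrictScalars F with hline
  have hlinea : ∀ c, line c = c • v := fun c => rfl
  have hlineinj : Function.Injective line := fun a b h => smul_left_injective K hvne h
  set Wc : Submodule F K := (LinearMap.range ρ).comap line with hWc
  have hmemW : ∀ c, c ∈ Wc ↔ ∃ i, ρ i = c • v := fun c => Iff.rfl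
  set Iv : Submodule F K := (LinearMap.range line).comap ρ with hIv
  have hII : I (g, v₀) = (Iv : Set K) := Set.ext fun k =>
    ⟨fun ⟨c, hc⟩ => ⟨c, hc.symm⟩, fun ⟨c, hc⟩ => ⟨c, hc.symm⟩⟩
  have hρ1 : ρ 1 = v := by rw [hρa, one_smul]
  have h1W : (1 : K) ∈ Wc := ⟨1, by rw [hρ1, hlinea, one_smul]⟩
  have h1I : (1 : K) ∈ Iv := ⟨1, by rw [hlinea, one_smul, hρ1]⟩
  obtain ⟨k₀, hk₀⟩ : ∃ k₀, k₀ ∉ Iv := by
    by_contra hall
    simp only [not_exists, not_not] at hall
    refine hgv fun k => ?_
    obtain ⟨c, hc⟩ := hall k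
    exact ⟨c, hc.symm⟩
  have hWne : ∃ c, c ∉ Wc := by
    by_contra hall
    simp only [not_exists, not_not] at hall
    choose i hi using fun c => (hmemW c).1 (hall c)
    have hiinj : Function.Injective i := fun a b h =>
      smul_left_injective K hvne (show a • v = b • v by rw [← hi, ← hi, h])
    obtain ⟨c, hc⟩ := Finite.surjective_of_injective hiinj k₀
    exact hk₀ ⟨c, by rw [hlinea, ← hc, hi]⟩
  -- maximality
  have gen : ∀ (π : K →ₗ[F] K) (a : K), (∀ k ∈ Iv, π k = 0) →
      (∃ h ∈ M, ∀ k, h (ρ k) = ρ k + (a * π k) • v) →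
      (∀ k, a * π k ∈ Wc) ∨ ∀ k, a * π k ∈ Wc → k ∈ Iv := by
    intro π a hπI hh0
    by_cases hall : ∀ k, a * π k ∈ Wc
    · exact Or.inl hall
    refine Or.inr fun k hk => ?_
    obtain ⟨h, hh, hhx⟩ := hh0
    set g₂ := g⁻¹ * h * g with hg₂
    have hg₂M : g₂ ∈ M := mul_mem (mul_mem (inv_mem hgM) hh) hgM
    have hfix : g₂ v₀ = v₀ := by
      show g⁻¹ (h (g v₀)) = v₀
      rw [← hv, ← hρ1, hhx, hπI 1 h1I, mul_zero, zero_smul, add_zero, hρ1, hv, inv_apply_apply]
    have hI2 : ∀ j, j ∈ I (g₂, v₀) ↔ a * π j ∈ Wc := by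
      intro j
      rw [hmemW]
      show (∃ c, g₂ (j • v₀) = c • g₂ v₀) ↔ _
      rw [hfix]
      constructor
      · rintro ⟨c, hc⟩
        refine ⟨c - j, ?_⟩
        have h2 : h (ρ j) = ρ c := by
          rw [hρa, hρa, ← hc]
          exact (apply_inv_apply g _).symm
        rw [map_sub, ← h2, hhx, add_sub_cancel_left]
      · rintro ⟨i, hi⟩
        refine ⟨j + i, ?_⟩
        show g⁻¹ (h (g (j • v₀))) = _
        rw [← hρa, hhx, ← hi, ← map_add, hρa, inv_apply_apply]
    have hsub : I (g, v₀) ⊆ I (g₂, v₀) := fun j hj => by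
      rw [hI2, hπI j (by rwa [hII] at hj), mul_zero]; exact Wc.zero_mem
    have hnl : ¬ LineTo K g₂ v₀ := fun hl => hall fun j => (hI2 j).1 (by
      obtain ⟨c, hc⟩ := hl j
      exact ⟨c, hc⟩)
    have heq := Set.eq_of_subset_of_ncard_le hsub
      (hmax (g₂, v₀) ⟨hg₂M, hiso₀, by rw [hfix]; exact hiso₀, hnl⟩) (Set.toFinite _)
    have hmem := (hI2 k).2 hk
    rwa [← heq, hII] at hmem
  -- the stabiliser of `Wc`
  have hstab : ∀ l : K, (∀ w ∈ Wc, l * w ∈ Wc) → ∃ c : F, algebraMap F K c = l := by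
    let S : Subalgebra F K :=
      { carrier := {l | ∀ w ∈ Wc, l * w ∈ Wc}
        mul_mem' := fun {a b} ha hb w hw => by rw [mul_assoc]; exact ha _ (hb w hw)
        add_mem' := fun {a b} ha hb w hw => by rw [add_mul]; exact add_mem (ha w hw) (hb w hw)
        algebraMap_mem' := fun c w hw => by rw [← Algebra.smul_def]; exact Wc.smul_mem c hw }
    haveI := Subalgebra.isSimpleOrder_of_finrank_prime F K C.prime
    have hSbot : S = ⊥ := by
      refine (eq_bot_or_eq_top S).resolve_right fun hS => ?_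
      obtain ⟨c, hc⟩ := hWne
      have : c ∈ S := by rw [hS]; exact Algebra.mem_top
      exact hc (by simpa using this 1 h1W)
    intro l hl
    have : l ∈ S := hl
    rwa [hSbot, Algebra.mem_bot] at this
  -- values on one line
  have mk : ∀ (π : K →ₗ[F] K) (e₀ : K), e₀ ≠ 0 →
      (∀ k, ∀ w ∈ Wc, π k * e₀⁻¹ * w ∈ Wc) → (∀ k ∈ Iv, π k = 0) → (∀ k, π k = 0 → k ∈ Iv) →
      (∃ k, π k ≠ 0) → ∃ χ : K →ₗ[F] F, χ ≠ 0 ∧ ∀ i, (χ i = 0 ↔ i ∈ Iv) ∧
        ∀ c a : K, ρ i = c • v → a * e₀ = c →
          (∃ h ∈ M, ∀ k, h (ρ k) = ρ k + (a * π k) • v) →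
          ∃ m ∈ M, ∀ k : K, m (k • v₀) = (k + χ k • i) • v₀ := by
    intro π e₀ he₀ hst hπI hker hne
    choose χ hχ using fun k => hstab _ (hst k)
    have hχ' : ∀ k, π k = χ k • e₀ := fun k => by
      rw [Algebra.smul_def, hχ, inv_mul_cancel_right₀ he₀]
    have hinj : ∀ c c' : F, c • e₀ = c' • e₀ → c = c' := fun c c' h => smul_left_injective F he₀ h
    let χl : K →ₗ[F] F :=
      { toFun := χ
        map_add' := fun x y => hinj _ _ (by rw [← hχ', map_add, hχ', hχ', add_smul])
        map_smul' := fun c x => hinj _ _ (by rw [← hχ', map_smul, hχ', smul_smul]; rfl) }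
    have hχl : ∀ k, π k = χl k • e₀ := hχ'
    refine ⟨χl, fun h => ?_, fun i => ⟨⟨fun hi => hker i (by rw [hχl, hi, zero_smul]), fun hi => ?_⟩,
      fun c a hc hae hh0 => ?_⟩⟩
    · obtain ⟨k, hk⟩ := hne
      exact hk (by rw [hχl, h, LinearMap.zero_apply, zero_smul])
    · have := hπI i hi
      rw [hχl] at this
      exact (smul_eq_zero.1 this).resolve_right he₀
    obtain ⟨h, hh, hhx⟩ := hh0
    refine ⟨g⁻¹ * h * g, mul_mem (mul_mem (inv_mem hgM) hh) hgM, fun k => ?_⟩
    show g⁻¹ (h (g (k • v₀))) = (k + χl k • i) • v₀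
    rw [← hρa, hhx, hχl, mul_smul_comm, hae, smul_assoc, ← hc, ← ρ.map_smul, ← map_add, hρa,
      inv_apply_apply]
  by_cases hA : ∃ k, φ (ρ k) v ≠ 0
  · -- the moved line is not orthogonal to `v`
    set π : K →ₗ[F] K := ((C.lin v).restrictScalars F) ∘ₗ ρ with hπ
    have hπa : ∀ k, π k = φ (ρ k) v := fun k => rfl
    have hπI : ∀ k ∈ Iv, π k = 0 := by
      rintro k ⟨c, hc⟩
      rw [hπa, ← hc, hlinea, C.smul_left, hisov, mul_zero]
    have hfam : ∀ a : K, a + J a = 0 → ∃ h ∈ M, ∀ k, h (ρ k) = ρ k + (a * π k) • v := fun a ha => by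
      obtain ⟨h, hh, hx⟩ := C.exists_T hisov ha
      exact ⟨_, hh, fun k => hx _⟩
    obtain ⟨k₁, hk₁⟩ := hA
    rw [← hπa] at hk₁
    have hker : ∀ k, π k = 0 → k ∈ Iv := by
      intro k hk
      by_contra hkI
      obtain ⟨c, hc⟩ := hWne
      have hall : ∀ x : K, x ∈ Wc.comap (LinearMap.mulRight F (π k₁)) := C.top_of_skew fun a ha =>
        ((gen π a hπI (hfam a ha)).resolve_right fun h =>
          hkI (h k (by rw [hk, mul_zero]; exact Wc.zero_mem))) k₁
      have := hall (c / π k₁)
      rw [Submodule.mem_comap, LinearMap.mulRight_apply, div_mul_cancel₀ _ hk₁] at this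
      exact hc this
    set P : Submodule F K := LinearMap.range π with hP
    have hP0 : P ≠ ⊥ := fun h0 => hk₁ ((Submodule.eq_bot_iff _).1 h0 _ ⟨k₁, rfl⟩)
    -- `Wc` is the perpendicular of `P`
    have hperp : ∀ c ∈ Wc, ∀ k, τ (π k * J c) = 0 := by
      intro c hc k
      obtain ⟨i, hi⟩ := (hmemW c).1 hc
      rw [hπa, mul_comm, ← C.smul_right, ← hi, hρa, hρa, C.iso g hgM, C.smul_left, C.smul_right,
        hiso₀, mul_zero, mul_zero, map_zero]
    let W' : Submodule F K :=
      { carrier := {z | J z ∈ Wc}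
        add_mem' := fun {z z'} h h' => show J (z + z') ∈ Wc by rw [map_add]; exact add_mem h h'
        zero_mem' := show J 0 ∈ Wc by rw [map_zero]; exact Wc.zero_mem
        smul_mem' := fun c z h => show J (c • z) ∈ Wc by rw [C.J_smul]; exact Wc.smul_mem _ h }
    have hW'rank : Module.finrank F W' = Module.finrank F Wc := by
      let eJ : W' ≃ Wc :=
        { toFun := fun z => ⟨J z, z.2⟩
          invFun := fun w => ⟨J w, show J (J (w : K)) ∈ Wc by rw [C.invol]; exact w.2⟩
          left_inv := fun z => Subtype.ext (C.invol _)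
          right_inv := fun w => Subtype.ext (C.invol _) }
      have h1 := Nat.card_congr eJ
      rw [Module.natCard_eq_pow_finrank (K := F) (V := W'),
        Module.natCard_eq_pow_finrank (K := F) (V := Wc)] at h1
      exact Nat.pow_right_injective Finite.one_lt_card h1
    let L : K →ₗ[F] (P →ₗ[F] F) :=
      { toFun := fun z => (τ ∘ₗ LinearMap.mulLeft F z) ∘ₗ P.subtype
        map_add' := fun z z' => by ext y; simp [add_mul]
        map_smul' := fun c z => by ext y; simp }
    have hLsurj : LinearMap.range L = ⊤ := by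
      refine LinearMap.range_eq_top.2 fun ψ => ?_
      obtain ⟨ψ', hψ'⟩ := LinearMap.exists_extend ψ
      obtain ⟨b, hb⟩ := C.exists_rep ψ'
      refine ⟨b, LinearMap.ext fun y => ?_⟩
      rw [← hψ']
      exact (hb y).symm
    have hdimL := LinearMap.finrank_range_add_finrank_ker L
    rw [hLsurj, finrank_top, Subspace.dual_finrank_eq] at hdimL
    have hkerπ : LinearMap.ker π = Iv := le_antisymm (fun k hk => hker k hk) fun k hk => hπI k hk
    have hdimπ := LinearMap.finrank_range_add_finrank_ker π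
    rw [hkerπ, ← hP] at hdimπ
    have hIW : Module.finrank F Iv = Module.finrank F Wc := by
      rw [(Submodule.equivMapOfInjective ρ hρinj Iv).finrank_eq,
        (Submodule.equivMapOfInjective line hlineinj Wc).finrank_eq, hIv, hWc,
        Submodule.map_comap_eq, Submodule.map_comap_eq, inf_comm]
    have hW'L : W' = LinearMap.ker L := by
      refine Submodule.eq_of_le_of_finrank_eq ?_ (by omega)
      intro z hz
      refine LinearMap.ext fun y => ?_
      obtain ⟨y, k, rfl⟩ := y
      show τ (z * π k) = 0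
      have := hperp _ hz k
      rwa [C.invol, mul_comm] at this
    have hmemWc : ∀ c, (∀ y ∈ P, τ (c * J y) = 0) → c ∈ Wc := by
      intro c hc
      have hz : J c ∈ W' := by
        rw [hW'L]
        refine LinearMap.ext fun y => ?_
        show τ (J c * (y : K)) = 0
        rw [← C.invol (y : K), ← map_mul, C.tau_J, hc _ y.2, map_zero]
      have : J (J c) ∈ Wc := hz
      rwa [C.invol] at this
    have hWcmem : ∀ c ∈ Wc, ∀ y ∈ P, τ (c * J y) = 0 := by
      rintro c hc _ ⟨k, rfl⟩
      rw [← C.invol c, ← map_mul, C.tau_J, mul_comm, hperp c hc k, map_zero]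
    obtain ⟨c₀, hc₀, hc₀'⟩ := C.exists_skew
    have hskew : ∀ (s : F) b, σ s = s → J b = b → (s * c₀) • b + J ((s * c₀) • b) = 0 := by
      intro s b hs hb
      rw [C.J_smul, hb, ← add_smul, map_mul, hs, ← mul_add, hc₀', mul_zero, zero_smul]
    have hforms : ∀ a : K, J a = a → (∀ x ∈ P, ∀ y ∈ P, τ (a * (x * J y)) = 0) ∨
        ∀ x ∈ P, (∀ y ∈ P, τ (a * (x * J y)) = 0) → x = 0 := by
      intro a ha
      have hconv : ∀ x y : K, τ (c₀ • a * x * J y) = c₀ * τ (a * (x * J y)) := fun x y => by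
        rw [smul_mul_assoc, smul_mul_assoc, map_smul, smul_eq_mul, mul_assoc]
      rcases gen π (c₀ • a) hπI (hfam _ (by simpa using hskew 1 a (map_one σ) ha)) with h | h
      · refine Or.inl fun x hx y hy => ?_
        obtain ⟨k, rfl⟩ := hx
        have h1 := hWcmem _ (h k) y hy
        rw [hconv] at h1
        exact (mul_eq_zero.1 h1).resolve_left hc₀
      · refine Or.inr fun x hx hxy => ?_
        obtain ⟨k, rfl⟩ := hx
        exact hπI k (h k (hmemWc _ fun y hy => by rw [hconv, hxy y hy, mul_zero]))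
    have hkill := C.finrank_kill P hP0 hforms
    set B : Submodule F K :=
      Submodule.span F {a | J a = a ∧ ∀ x ∈ P, ∀ y ∈ P, τ (a * (x * J y)) = 0} with hB
    have hBq := Submodule.finrank_quotient_add_finrank B
    have hBgen : ∀ (s : F) a x, (∀ x ∈ P, ∀ y ∈ P, τ (a * (x * J y)) = 0) → x ∈ P →
        (s * c₀) • a * x ∈ Wc := by
      intro s a x ha hx
      refine hmemWc _ fun y hy => ?_
      rw [smul_mul_assoc, smul_mul_assoc, map_smul, mul_assoc, ha x hx y hy, smul_zero]
    have hBx : ∀ x ∈ P, x ≠ 0 → B.map (LinearMap.mulRight F (c₀ • x)) = Wc := by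
      intro x hx hx0
      refine Submodule.eq_of_le_of_finrank_le ?_ ?_
      · rw [hB, Submodule.map_span, Submodule.span_le]
        rintro _ ⟨a, ⟨-, ha⟩, rfl⟩
        have := hBgen 1 a x ha hx
        rw [one_mul] at this
        show a * c₀ • x ∈ Wc
        rwa [mul_smul_comm, ← smul_mul_assoc]
      · rw [← (Submodule.equivMapOfInjective (LinearMap.mulRight F (c₀ • x))
          (fun a b h => mul_right_cancel₀ (smul_ne_zero hc₀ hx0) h) B).finrank_eq]
        omega
    have he₀ : π k₁ ∈ P := ⟨k₁, rfl⟩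
    have hst : ∀ k, ∀ w ∈ Wc, π k * (π k₁)⁻¹ * w ∈ Wc := by
      intro k w hw
      rcases eq_or_ne (π k) 0 with h0 | h0
      · rw [h0, zero_mul, zero_mul]; exact Wc.zero_mem
      rw [← hBx _ he₀ hk₁] at hw
      obtain ⟨b, hb, rfl⟩ := hw
      rw [← hBx _ ⟨k, rfl⟩ h0]
      refine ⟨b, hb, ?_⟩
      show b * c₀ • π k = π k * (π k₁)⁻¹ * (b * c₀ • π k₁)
      rw [Algebra.smul_def, Algebra.smul_def]
      field_simp
    obtain ⟨χ, hχ0, hχ⟩ := mk π (π k₁) hk₁ hst hπI hker ⟨k₁, hk₁⟩
    refine ⟨v₀, hv₀, hiso₀, χ, hχ0, fun i hi => ?_⟩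
    set T : Submodule F V := (Submodule.span F (InI σ χ M v₀)).map ρ with hT
    have hBT : B ≤ T.comap (line ∘ₗ LinearMap.mulRight F (c₀ • π k₁)) := by
      rw [hB, Submodule.span_le]
      rintro a ⟨haJ, ha⟩
      obtain ⟨c, hc⟩ : ∃ c, c = a * (c₀ • π k₁) := ⟨_, rfl⟩
      have hcW : c ∈ Wc := by
        rw [← hBx _ he₀ hk₁, hc]
        exact ⟨a, Submodule.subset_span ⟨haJ, ha⟩, rfl⟩
      obtain ⟨j, hj⟩ := (hmemW c).1 hcW
      refine ⟨j, Submodule.subset_span ⟨(hχ j).1.2 ⟨c, by rw [hlinea, hj]⟩, fun s hs => ?_⟩,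
        by rw [hj, hc]; rfl⟩
      exact (hχ (s • j)).2 (s • c) ((s * c₀) • a) (by rw [map_smul, hj, smul_assoc])
        (by rw [hc, smul_mul_assoc, mul_smul, mul_smul_comm])
        (hfam _ (hskew s a hs haJ))
    obtain ⟨c, hc⟩ := (hχ i).1.1 hi
    have hcW : c ∈ Wc := ⟨i, hc.symm⟩
    rw [← hBx _ he₀ hk₁] at hcW
    obtain ⟨b, hb, rfl⟩ := hcW
    obtain ⟨j, hj, hji⟩ := hBT hb
    rwa [← hρinj (hji.trans hc)]
  · -- the moved line is orthogonal to `v`
    simp only [not_exists, not_not] at hA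
    have hnot : ρ k₀ ∉ Submodule.span K {v} := fun h => by
      obtain ⟨c, hc⟩ := Submodule.mem_span_singleton.mp h
      exact hk₀ ⟨c, hc⟩
    obtain ⟨ψ, hψ1, hψ⟩ := exists_dual_one hnot
    obtain ⟨w, hw⟩ := C.exists_dual ψ
    have hvw : φ v w = 0 := by rw [hw]; exact hψ v (Submodule.mem_span_singleton_self v)
    set π : K →ₗ[F] K := ((C.lin w).restrictScalars F) ∘ₗ ρ with hπ
    have hπa : ∀ k, π k = φ (ρ k) w := fun k => rfl
    have hk₀' : π k₀ = 1 := by rw [hπa, hw, hψ1]
    have hπI : ∀ k ∈ Iv, π k = 0 := by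
      rintro k ⟨c, hc⟩
      rw [hπa, ← hc, hlinea, C.smul_left, hvw, mul_zero]
    have hfam : ∀ a : K, ∃ h ∈ M, ∀ k, h (ρ k) = ρ k + (a * π k) • v := fun a => by
      obtain ⟨t, ht⟩ := C.exists_trace (d := -((-J a) * J (-J a) * φ w w)) (by
        rw [map_neg, map_mul, map_mul, C.invol, C.self_fixed, mul_comm (J (-J a))])
      obtain ⟨h, hh, hx⟩ := C.exists_E hisov hvw (a := -J a) (c := t)
        (by linear_combination ht)
      refine ⟨_, hh, fun k => ?_⟩
      show h (ρ k) = _
      rw [hx, hA k, mul_zero, mul_zero, zero_smul, add_zero, zero_sub, map_neg, C.invol, neg_mul,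
        neg_neg, hπa]
    have dich := fun a => gen π a hπI (hfam a)
    have hker : ∀ k, π k = 0 → k ∈ Iv := by
      intro k hk
      obtain ⟨c, hc⟩ := hWne
      rcases dich c with h | h
      · exact absurd (h k₀) (by rwa [hk₀', mul_one])
      · exact h k (by rw [hk, mul_zero]; exact Wc.zero_mem)
    have hst : ∀ k, ∀ w ∈ Wc, π k * (1 : K)⁻¹ * w ∈ Wc := fun k w hw => by
      rw [inv_one, mul_one, mul_comm]
      refine (dich w).elim (fun h => h k) fun h => absurd (hπI k₀ (h k₀ ?_)) (by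
        rw [hk₀']; exact one_ne_zero)
      rwa [hk₀', mul_one]
    obtain ⟨χ, hχ0, hχ⟩ :=
      mk π 1 one_ne_zero hst hπI hker ⟨k₀, by rw [hk₀']; exact one_ne_zero⟩
    refine ⟨v₀, hv₀, hiso₀, χ, hχ0, fun i hi => Submodule.subset_span ⟨hi, fun s _ => ?_⟩⟩
    obtain ⟨c, hc⟩ := (hχ i).1.1 hi
    exact (hχ (s • i)).2 (s • c) (s • c) (by rw [map_smul, ← hc, hlinea, smul_assoc]) (mul_one _)
      (hfam _)

/-- all transvections with the trace as axis are induced on some isotropic line -/
theorem exists_line (C : Ctx φ J σ τ M) (hg : ∃ g ∈ M, ¬ KSemi K g) :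
    ∃ v : V, v ≠ 0 ∧ φ v v = 0 ∧ ∀ i : K, τ i = 0 → i ∈ Submodule.span F (InI σ τ M v) := by
  obtain ⟨v₀, hv₀, hiso, χ, hχ, hI⟩ := C.exists_axis hg
  obtain ⟨b, hb⟩ := C.exists_rep χ
  have hb0 : b ≠ 0 := by
    rintro rfl
    exact hχ (LinearMap.ext fun y => by rw [hb, zero_mul, map_zero, LinearMap.zero_apply])
  refine ⟨b⁻¹ • v₀, smul_ne_zero (inv_ne_zero hb0) hv₀,
    by rw [C.smul_left, C.smul_right, hiso, mul_zero, mul_zero], fun i hi => ?_⟩
  have hle : Submodule.span F (InI σ χ M v₀) ≤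
      (Submodule.span F (InI σ τ M (b⁻¹ • v₀))).comap (LinearMap.mulLeft F b) := by
    rw [Submodule.span_le]
    rintro j ⟨hj, hjm⟩
    refine Submodule.subset_span ⟨by rw [LinearMap.mulLeft_apply, ← hb, hj], fun s hs => ?_⟩
    obtain ⟨m, hm, hmx⟩ := hjm s hs
    refine ⟨m, hm, fun k => ?_⟩
    rw [smul_smul k, hmx, hb, LinearMap.mulLeft_apply, show b * (k * b⁻¹) = k by field_simp,
      smul_smul (k + τ k • s • (b * j))]
    congr 1
    simp only [Algebra.smul_def, map_mul]
    field_simp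
  have := hle (hI (b⁻¹ * i) (by rw [hb, mul_inv_cancel_left₀ hb0, hi]))
  rwa [Submodule.mem_comap, LinearMap.mulLeft_apply, mul_inv_cancel_left₀ hb0] at this

end Ctx

end CfsgLib.MaxSub.UExt
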