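import Cfsg.Agent.Lib.MaxSub.ExtBase
import Cfsg.Agent.Lib.KnownC.HermCongr

/-!
A Hermitian form over an extension `K` of odd degree of `F` and its trace form: basic elements,
and common zeros of fixed polynomials.
-/

set_option autoImplicit false
set_option linter.unusedSectionVars false
set_option linter.unusedVariables false

namespace CfsgLib.MaxSub.UExt

variable {F K V : Type*} [Field F] [Field K] [Algebra F K] [AddCommGroup V] [Module K V]
  [Module F V] [IsScalarTower F K V]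

/-- Fixed polynomials of small total degree vanishing at `0` have a common non-zero fixed zero. -/
theorem exists_fixed_zero [Finite F] {σ : F ≃+* F} {ι α : Type*} [Fintype ι] [Fintype α]
    (P : ι → MvPolynomial α F) (hfix : ∀ i, MvPolynomial.map σ.toRingHom (P i) = P i)
    (h0 : ∀ i, MvPolynomial.eval (0 : α → F) (P i) = 0)
    (hdeg : ∑ i, (P i).totalDegree < Fintype.card α) :
    ∃ x : α → F, x ≠ 0 ∧ (∀ a, σ (x a) = x a) ∧ ∀ i, MvPolynomial.eval x (P i) = 0 := by
  classical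
  let F₀ : Subfield F := RingHom.eqLocusField σ.toRingHom (RingHom.id F)
  have hmem : ∀ i, P i ∈ Set.range (MvPolynomial.map F₀.subtype) := fun i => by
    rw [MvPolynomial.mem_range_map_iff_coeffs_subset]
    intro c hc
    obtain ⟨m, -, rfl⟩ := MvPolynomial.mem_coeffs_iff.mp hc
    refine ⟨⟨(P i).coeff m, ?_⟩, rfl⟩
    show σ ((P i).coeff m) = (P i).coeff m
    conv_rhs => rw [← hfix i, MvPolynomial.coeff_map]
    rfl
  choose Q hQ using hmem
  have hdeg' : ∑ i, (Q i).totalDegree < Fintype.card α :=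
    lt_of_le_of_lt (Finset.sum_le_sum fun i _ => le_of_eq (by
      rw [← hQ i, MvPolynomial.totalDegree, MvPolynomial.totalDegree,
        MvPolynomial.support_map_of_injective _ F₀.subtype.injective])) hdeg
  have hev : ∀ i (x : α → F₀), MvPolynomial.eval (fun a => (x a : F)) (P i) =
      (MvPolynomial.eval x (Q i) : F) := fun i x => by
    rw [← hQ i, MvPolynomial.eval_map, ← F₀.coe_subtype, MvPolynomial.eval₂_comp]
    rfl
  haveI : Fintype F₀ := Fintype.ofFinite _
  obtain ⟨p, hp⟩ := CharP.exists F₀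
  have hdvd := char_dvd_card_solutions_of_fintype_sum_lt p hdeg'
  have hzero : ∀ i, MvPolynomial.eval (0 : α → F₀) (Q i) = 0 := fun i => Subtype.ext (by
    rw [← hev]; exact h0 i)
  have h2 : 1 < Fintype.card {x : α → F₀ // ∀ i, MvPolynomial.eval x (Q i) = 0} := by
    have hpos : 0 < Fintype.card {x : α → F₀ // ∀ i, MvPolynomial.eval x (Q i) = 0} :=
      Fintype.card_pos_iff.2 ⟨⟨0, hzero⟩⟩
    exact lt_of_lt_of_le (CharP.char_is_prime F₀ p).one_lt (Nat.le_of_dvd hpos hdvd)
  obtain ⟨⟨x, hx⟩, hne⟩ := Fintype.exists_ne_of_one_lt_card h2 ⟨0, hzero⟩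
  refine ⟨fun a => (x a : F), fun e => hne (Subtype.ext (funext fun a => Subtype.ext ?_)),
    fun a => (x a).2, fun i => by rw [hev, hx i]; rfl⟩
  exact congrFun e a

/-- `M` realises the map `h`. -/
def InM (M : Subgroup (V ≃ₗ[F] V)) (h : V → V) : Prop := ∃ g ∈ M, ∀ x, g x = h x

/-- The setting: `φ` a Hermitian `K`-form, `M` preserves `τ ∘ φ` and contains the
isometries of `φ` with determinant of norm one. -/
structure Ctx (φ : V → V → K) (J : K ≃+* K) (σ : F ≃+* F) (τ : K →ₗ[F] F)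
    (M : Subgroup (V ≃ₗ[F] V)) : Prop where
  add_left : ∀ x y v, φ (x + y) v = φ x v + φ y v
  smul_left : ∀ (c : K) x v, φ (c • x) v = c * φ x v
  herm : ∀ v w, φ v w = J (φ w v)
  nondeg : ∀ v, (∀ w, φ v w = 0) → v = 0
  invol : ∀ k, J (J k) = k
  J_algebraMap : ∀ c : F, J (algebraMap F K c) = algebraMap F K (σ c)
  tau_J : ∀ k, τ (J k) = σ (τ k)
  σ_ne : σ ≠ RingEquiv.refl F
  tau : τ ≠ 0
  iso : ∀ g ∈ M, ∀ u v, τ (φ (g u) (g v)) = τ (φ u v)
  mem : ∀ h : V ≃ₗ[K] V, (∀ u v, φ (h u) (h v) = φ u v) →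
    Algebra.norm F (LinearMap.det (h : V →ₗ[K] V)) = 1 → h.restrictScalars F ∈ M
  prime : (Module.finrank F K).Prime
  three_le : 3 ≤ Module.finrank F K
  two_le : 1 < Module.finrank K V

namespace Ctx

variable [Finite F] [Finite K] [Module.Finite K V] [Module.Finite F K]
  {φ : V → V → K} {J : K ≃+* K} {σ : F ≃+* F} {τ : K →ₗ[F] F} {M : Subgroup (V ≃ₗ[F] V)}

theorem add_right (C : Ctx φ J σ τ M) (x u v : V) : φ x (u + v) = φ x u + φ x v := by
  rw [C.herm x (u + v), C.add_left, map_add, ← C.herm, ← C.herm]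

theorem smul_right (C : Ctx φ J σ τ M) (c : K) (x v : V) : φ x (c • v) = J c * φ x v := by
  rw [C.herm x (c • v), C.smul_left, map_mul, ← C.herm]

theorem zero_left (C : Ctx φ J σ τ M) (v : V) : φ 0 v = 0 := by
  have := C.smul_left 0 0 v
  rwa [zero_smul, zero_mul] at this

theorem zero_right (C : Ctx φ J σ τ M) (v : V) : φ v 0 = 0 := by
  rw [C.herm, C.zero_left, map_zero]

theorem eq_zero_swap (C : Ctx φ J σ τ M) {u v : V} (h : φ u v = 0) : φ v u = 0 := by
  rw [C.herm, h, map_zero]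

theorem self_fixed (C : Ctx φ J σ τ M) (v : V) : J (φ v v) = φ v v := (C.herm v v).symm

theorem sub_left (C : Ctx φ J σ τ M) (x y v : V) : φ (x - y) v = φ x v - φ y v := by
  rw [eq_sub_iff_add_eq, ← C.add_left, sub_add_cancel]

theorem sub_right (C : Ctx φ J σ τ M) (x y v : V) : φ v (x - y) = φ v x - φ v y := by
  rw [eq_sub_iff_add_eq, ← C.add_right, sub_add_cancel]

/-- the functional `φ(·, v)` -/
def lin (C : Ctx φ J σ τ M) (v : V) : V →ₗ[K] K where
  toFun x := φ x v
  map_add' a b := C.add_left a b v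
  map_smul' c a := C.smul_left c a v

@[simp] theorem lin_apply (C : Ctx φ J σ τ M) (v x : V) : C.lin v x = φ x v := rfl

theorem smulF_left (C : Ctx φ J σ τ M) (c : F) (x v : V) :
    φ (c • x) v = algebraMap F K c * φ x v := by
  rw [← algebraMap_smul K c x, C.smul_left]

theorem smulF_right (C : Ctx φ J σ τ M) (c : F) (x v : V) :
    φ x (c • v) = algebraMap F K (σ c) * φ x v := by
  rw [← algebraMap_smul K c v, C.smul_right, C.J_algebraMap]

theorem J_smul (C : Ctx φ J σ τ M) (c : F) (k : K) : J (c • k) = σ c • J k := by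
  rw [Algebra.smul_def, map_mul, C.J_algebraMap, ← Algebra.smul_def]

theorem sigma_invol (C : Ctx φ J σ τ M) (c : F) : σ (σ c) = c := by
  refine (algebraMap F K).injective ?_
  rw [← C.J_algebraMap, ← C.J_algebraMap, C.invol]

theorem exists_ne_fixed (C : Ctx φ J σ τ M) : ∃ ξ : F, σ ξ ≠ ξ := by
  by_contra h
  simp only [not_exists, not_not] at h
  exact C.σ_ne (RingEquiv.ext h)

/-- a non-zero element of trace zero in the ground field -/
theorem exists_skew (C : Ctx φ J σ τ M) : ∃ c : F, c ≠ 0 ∧ c + σ c = 0 := by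
  obtain ⟨ξ, hξ⟩ := C.exists_ne_fixed
  exact ⟨ξ - σ ξ, sub_ne_zero.2 (Ne.symm hξ), by rw [map_sub, C.sigma_invol]; ring⟩

/-- every element is a combination of two skew ones -/
theorem exists_skew_decomp (C : Ctx φ J σ τ M) (x : K) :
    ∃ (ξ : F) (a b : K), a + J a = 0 ∧ b + J b = 0 ∧ x = a + ξ • b := by
  obtain ⟨ξ, hξ⟩ := C.exists_ne_fixed
  have hd : ξ - σ ξ ≠ 0 := sub_ne_zero.2 (Ne.symm hξ)
  obtain ⟨b, hb⟩ : ∃ b, b = (ξ - σ ξ)⁻¹ • (x + J x) := ⟨_, rfl⟩
  have hJb : J b = -b := by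
    rw [hb, C.J_smul, map_add, C.invol, map_inv₀, map_sub, C.sigma_invol,
      show σ ξ - ξ = -(ξ - σ ξ) by ring, inv_neg, neg_smul, add_comm]
  refine ⟨ξ, x - ξ • b, b, ?_, by rw [hJb, add_neg_cancel], by rw [sub_add_cancel]⟩
  rw [map_sub, C.J_smul, hJb, smul_neg, sub_neg_eq_add,
    show x - ξ • b + (J x + σ ξ • b) = (x + J x) - (ξ - σ ξ) • b by rw [sub_smul]; abel,
    hb, smul_inv_smul₀ hd, sub_self]

/-- a submodule with all skew elements is everything -/
theorem top_of_skew (C : Ctx φ J σ τ M) {W : Submodule F K}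
    (h : ∀ a : K, a + J a = 0 → a ∈ W) (x : K) : x ∈ W := by
  obtain ⟨ξ, a, b, ha, hb, rfl⟩ := C.exists_skew_decomp x
  exact add_mem (h a ha) (W.smul_mem ξ (h b hb))

/-- a submodule with all fixed elements is everything -/
theorem top_of_fixed (C : Ctx φ J σ τ M) {W : Submodule F K}
    (h : ∀ a : K, J a = a → a ∈ W) (x : K) : x ∈ W := by
  obtain ⟨c, hc0, hc⟩ := C.exists_skew
  refine C.top_of_skew (fun a ha => ?_) x
  have := W.smul_mem c (h (c⁻¹ • a) (by
    rw [C.J_smul, map_inv₀, eq_neg_of_add_eq_zero_right hc, eq_neg_of_add_eq_zero_right ha,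
      inv_neg, neg_smul_neg]))
  rwa [smul_inv_smul₀ hc0] at this

theorem tau_inj (C : Ctx φ J σ τ M) {a b : K} (h : ∀ s, τ (s * a) = τ (s * b)) : a = b := by
  by_contra hne
  refine C.tau (LinearMap.ext fun x => ?_)
  have := h (x * (a - b)⁻¹)
  rw [← sub_eq_zero, ← map_sub, ← mul_sub, inv_mul_cancel_right₀ (sub_ne_zero.2 hne)] at this
  exact this

/-- a skew multiplier with non-zero value -/
theorem exists_skew_tau (C : Ctx φ J σ τ M) {N : K} (hN : N ≠ 0) :
    ∃ a : K, a + J a = 0 ∧ τ (a * N) ≠ 0 := by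
  by_contra hno
  push Not at hno
  refine hN (C.tau_inj fun s => ?_)
  rw [mul_zero, map_zero]
  exact C.top_of_skew (W := LinearMap.ker (τ ∘ₗ LinearMap.mulRight F N)) hno s

/-- a non-zero submodule stable under the involution has a non-zero fixed element -/
theorem exists_fixed_mem (C : Ctx φ J σ τ M) {W : Submodule F K} (hW : W ≠ ⊥)
    (hJ : ∀ x ∈ W, J x ∈ W) : ∃ z ∈ W, z ≠ 0 ∧ J z = z := by
  obtain ⟨z, hz, hz0⟩ := W.exists_mem_ne_zero_of_ne_bot hW
  by_cases h : z + J z = 0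
  · obtain ⟨ξ, hξ⟩ := C.exists_ne_fixed
    refine ⟨(ξ - σ ξ) • z, W.smul_mem _ hz, smul_ne_zero (sub_ne_zero.2 (Ne.symm hξ)) hz0, ?_⟩
    rw [C.J_smul, map_sub, C.sigma_invol, eq_neg_of_add_eq_zero_right h, smul_neg, ← neg_smul,
      neg_sub]
  · exact ⟨z + J z, add_mem hz (hJ z hz), h, by rw [map_add, C.invol, add_comm]⟩

theorem exists_norm (C : Ctx φ J σ τ M) {e : K} (he : J e = e) : ∃ t : K, t * J t = e := by
  rcases eq_or_ne e 0 with rfl | h
  · exact ⟨0, by simp⟩
  have : Fintype K := Fintype.ofFinite K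
  have hne : J ≠ RingEquiv.refl K := fun hJ => by
    obtain ⟨ξ, hξ⟩ := C.exists_ne_fixed
    refine hξ ((algebraMap F K).injective ?_)
    rw [← C.J_algebraMap, hJ]; rfl
  obtain ⟨c, -, hc⟩ := CfsgLib.KnownC.exists_mul_apply_eq J
    (orderOf_eq_prime (by ext x; exact C.invol x) (fun h => hne (h.trans rfl))) h he
  exact ⟨c, hc⟩

theorem exists_trace_ne (C : Ctx φ J σ τ M) {c : K} (hc : c ≠ 0) :
    ∃ t : K, t * c + J (t * c) ≠ 0 := by
  by_contra hno
  push Not at hno
  obtain ⟨ξ, hξ⟩ := C.exists_ne_fixed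
  have h1 := hno c⁻¹
  have h2 := hno (algebraMap F K ξ * c⁻¹)
  rw [inv_mul_cancel₀ hc, map_one] at h1
  rw [mul_assoc, inv_mul_cancel₀ hc, mul_one, C.J_algebraMap] at h2
  refine hξ ((algebraMap F K).injective ?_)
  linear_combination h2 - algebraMap F K ξ * h1

theorem exists_trace (C : Ctx φ J σ τ M) {d : K} (hd : J d = d) : ∃ t : K, t + J t = d := by
  obtain ⟨s, hs⟩ := C.exists_trace_ne (one_ne_zero (α := K))
  rw [mul_one] at hs
  refine ⟨d / (s + J s) * s, ?_⟩
  rw [map_mul, map_div₀, map_add, C.invol, hd, add_comm (J s) s]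
  field_simp

theorem exists_ne (C : Ctx φ J σ τ M) {v : V} (hv : v ≠ 0) : ∃ z, φ v z ≠ 0 := by
  by_contra h
  simp only [not_exists, not_not] at h
  exact hv (C.nondeg v h)

/-- a vector not orthogonal to two given ones -/
theorem exists_ne₂ (C : Ctx φ J σ τ M) {u v : V} (hu : u ≠ 0) (hv : v ≠ 0) :
    ∃ z, φ z u ≠ 0 ∧ φ z v ≠ 0 := by
  obtain ⟨a, ha⟩ := C.exists_ne hu
  obtain ⟨b, hb⟩ := C.exists_ne hv
  replace ha : φ a u ≠ 0 := fun e => ha (C.eq_zero_swap e)
  replace hb : φ b v ≠ 0 := fun e => hb (C.eq_zero_swap e)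
  by_cases h1 : φ a v = 0
  · by_cases h2 : φ b u = 0
    · exact ⟨a + b, by rwa [C.add_left, h2, add_zero], by rwa [C.add_left, h1, zero_add]⟩
    · exact ⟨b, h2, hb⟩
  · exact ⟨a, ha, h1⟩

/-- every `K`-functional is `φ · w` -/
theorem exists_dual (C : Ctx φ J σ τ M) (ψ : V →ₗ[K] K) : ∃ w, ∀ x, φ x w = ψ x := by
  haveI : Finite V := Module.finite_of_finite K
  have hinj : Function.Injective C.lin := fun u v h => by
    rw [← sub_eq_zero]
    refine C.nondeg _ fun w => C.eq_zero_swap ?_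
    rw [C.sub_right, sub_eq_zero]
    exact LinearMap.congr_fun h w
  haveI : Finite (V →ₗ[K] K) :=
    Finite.of_injective (fun f => (f : V → K)) DFunLike.coe_injective
  have hcard : Nat.card V = Nat.card (V →ₗ[K] K) := by
    rw [Module.natCard_eq_pow_finrank (K := K) (V := V),
      Module.natCard_eq_pow_finrank (K := K) (V := V →ₗ[K] K), Module.finrank_linearMap_self]
  obtain ⟨w, hw⟩ := (hinj.bijective_of_nat_card_le hcard.ge).2 ψ
  exact ⟨w, fun x => LinearMap.congr_fun hw x⟩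

/-- prescribed values inside a subspace with a non-degenerate pair -/
theorem exists_self_eq (C : Ctx φ J σ τ M) {W : Submodule K V} {y z : V} (hy : y ∈ W)
    (hz : z ∈ W) (hyz : φ y z ≠ 0) {d : K} (hd : J d = d) : ∃ w ∈ W, φ w w = d := by
  obtain ⟨w, hw, hw0⟩ : ∃ w ∈ W, φ w w ≠ 0 := by
    by_cases hyy : φ y y = 0
    · by_cases hzz : φ z z = 0
      · obtain ⟨t, ht⟩ := C.exists_trace_ne hyz
        refine ⟨t • y + z, add_mem (W.smul_mem _ hy) hz, ?_⟩
        simpa only [C.add_left, C.add_right, C.smul_left, C.smul_right, hyy, hzz, mul_zero,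
          zero_add, add_zero, map_mul, ← C.herm z y] using ht
      · exact ⟨z, hz, hzz⟩
    · exact ⟨y, hy, hyy⟩
  obtain ⟨t, ht⟩ := C.exists_norm (e := d / φ w w) (by rw [map_div₀, hd, C.self_fixed])
  refine ⟨t • w, W.smul_mem _ hw, ?_⟩
  rw [C.smul_left, C.smul_right, ← mul_assoc, ht, div_mul_cancel₀ _ hw0]

theorem exists_notMem_span (C : Ctx φ J σ τ M) (x : V) : ∃ y, y ∉ Submodule.span K {x} := by
  by_contra hall
  simp only [not_exists, not_not] at hall
  have htop : Submodule.span K {x} = (⊤ : Submodule K V) := eq_top_iff.mpr fun y _ => hall y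
  rcases eq_or_ne x 0 with rfl | hx
  · have := congrArg (fun p : Submodule K V => Module.finrank K p) htop
    rw [Submodule.span_zero_singleton] at this
    simp only [finrank_bot, finrank_top] at this
    have := C.two_le
    omega
  · have := congrArg (fun p : Submodule K V => Module.finrank K p) htop
    simp only [finrank_span_singleton hx, finrank_top] at this
    have := C.two_le
    omega

/-- values on the perpendicular of an anisotropic vector -/
theorem exists_perp_self_eq (C : Ctx φ J σ τ M) {x : V} (hx : φ x x ≠ 0) {d : K} (hd : J d = d) :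
    ∃ w, φ w x = 0 ∧ φ w w = d := by
  obtain ⟨y, hy⟩ := C.exists_notMem_span x
  obtain ⟨y', hy'⟩ : ∃ y', y' = y - (φ y x / φ x x) • x := ⟨_, rfl⟩
  have hp : φ y' x = 0 := by rw [hy', C.sub_left, C.smul_left, div_mul_cancel₀ _ hx, sub_self]
  have h0 : y' ≠ 0 := fun e => hy (by
    rw [hy', sub_eq_zero] at e
    rw [e]
    exact Submodule.smul_mem _ _ (Submodule.mem_span_singleton_self x))
  obtain ⟨z, hz⟩ := C.exists_ne h0
  obtain ⟨w, hw, hwd⟩ := C.exists_self_eq (W := LinearMap.ker (C.lin x)) (y := y')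
    (z := z - (φ z x / φ x x) • x) hp (by
      show φ _ x = 0
      rw [C.sub_left, C.smul_left, div_mul_cancel₀ _ hx, sub_self])
    (by rwa [C.sub_right, C.smul_right, hp, mul_zero, sub_zero]) hd
  exact ⟨w, hw, hwd⟩

theorem exists_isotropic (C : Ctx φ J σ τ M) : ∃ v : V, v ≠ 0 ∧ φ v v = 0 := by
  obtain ⟨x, hx⟩ := C.exists_notMem_span (0 : V)
  have hx0 : x ≠ 0 := fun e => hx (by rw [e]; exact zero_mem _)
  by_cases h : φ x x = 0
  · exact ⟨x, hx0, h⟩
  obtain ⟨w, hw, hwd⟩ := C.exists_perp_self_eq h (d := -φ x x) (by rw [map_neg, C.self_fixed])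
  refine ⟨x + w, fun e => h ?_, ?_⟩
  · have := congrArg (φ · x) e
    simpa [C.add_left, hw, C.zero_left] using this
  · simp only [C.add_left, C.add_right, hw, C.eq_zero_swap hw, hwd]
    ring

/-- shift along an isotropic vector to an isotropic one -/
theorem exists_shift (C : Ctx φ J σ τ M) {u y : V} (hu : φ u u = 0) (h : φ y u ≠ 0) :
    ∃ t : K, φ (y + t • u) (y + t • u) = 0 := by
  obtain ⟨s, hs⟩ := C.exists_trace (d := -φ y y) (by rw [map_neg, C.self_fixed])
  have h' : φ u y ≠ 0 := fun e => h (C.eq_zero_swap e)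
  refine ⟨s / φ u y, ?_⟩
  have e1 : s / φ u y * φ u y = s := div_mul_cancel₀ _ h'
  have e2 : J (s / φ u y) * φ y u = J s := by rw [C.herm y u, ← map_mul, e1]
  simp only [C.add_left, C.add_right, C.smul_left, C.smul_right, hu, mul_zero, add_zero, e1, e2]
  linear_combination hs

/-- hyperbolic partners -/
theorem exists_partner (C : Ctx φ J σ τ M) {e : V} (he : φ e e = 0) (he0 : e ≠ 0) :
    ∃ f, φ f f = 0 ∧ φ e f = 1 := by
  obtain ⟨z, hz⟩ := C.exists_ne he0
  obtain ⟨t, ht⟩ := C.exists_shift he (y := J (φ e z)⁻¹ • z)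
    (by
      rw [C.smul_left]
      exact mul_ne_zero (J.map_ne_zero_iff.2 (inv_ne_zero hz)) fun e' => hz (C.eq_zero_swap e'))
  refine ⟨_, ht, ?_⟩
  rw [C.add_right, C.smul_right, C.smul_right, he, mul_zero, add_zero, C.invol, inv_mul_cancel₀ hz]

/-- the transvections of the `K`-form -/
theorem exists_T (C : Ctx φ J σ τ M) {v : V} (hv : φ v v = 0) {a : K} (ha : a + J a = 0) :
    ∃ h : V ≃ₗ[K] V, h.restrictScalars F ∈ M ∧ ∀ x, h x = x + (a * φ x v) • v := by
  have h0 : (a • C.lin v) v = 0 := by simp [hv]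
  refine ⟨LinearEquiv.transvection h0, C.mem _ (fun x y => ?_) ?_, fun x => rfl⟩
  · show φ (x + (a * φ x v) • v) (y + (a * φ y v) • v) = φ x y
    simp only [C.add_left, C.add_right, C.smul_left, C.smul_right, hv, map_mul, ← C.herm v y]
    linear_combination (φ x v * φ v y) * ha
  · rw [← LinearEquiv.coe_det, LinearEquiv.transvection.det_eq_one, Units.val_one, map_one]

/-- the Siegel elements of an orthogonal pair -/
theorem exists_E (C : Ctx φ J σ τ M) {v w : V} (hv : φ v v = 0) (hvw : φ v w = 0) {a c : K}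
    (hc : c + J c + a * J a * φ w w = 0) :
    ∃ h : V ≃ₗ[K] V, h.restrictScalars F ∈ M ∧
      ∀ x, h x = x + (a * φ x v) • w + (c * φ x v - J a * φ x w) • v := by
  have hwv : φ w v = 0 := C.eq_zero_swap hvw
  have h1 : (a • C.lin v) w = 0 := by simp [hwv]
  have h2 : (c • C.lin v - J a • C.lin w) v = 0 := by simp [hv, hvw]
  obtain ⟨T₁, hT₁⟩ : ∃ T : V ≃ₗ[K] V, T = LinearEquiv.transvection h1 := ⟨_, rfl⟩
  obtain ⟨T₂, hT₂⟩ : ∃ T : V ≃ₗ[K] V, T = LinearEquiv.transvection h2 := ⟨_, rfl⟩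
  have hx : ∀ x, (T₁ * T₂) x = x + (a * φ x v) • w + (c * φ x v - J a * φ x w) • v := fun x => by
    show T₁ (T₂ x) = _
    rw [hT₁, hT₂]
    show x + (c * φ x v - J a * φ x w) • v +
      (a * φ (x + (c * φ x v - J a * φ x w) • v) v) • w = _
    rw [C.add_left, C.smul_left, hv, mul_zero, add_zero]
    abel
  refine ⟨T₁ * T₂, C.mem _ (fun x y => ?_) ?_, hx⟩
  · rw [hx, hx]
    simp only [C.add_left, C.add_right, C.smul_left, C.smul_right, hv, hvw, hwv, map_mul, map_sub,
      C.invol, ← C.herm v y, ← C.herm w y]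
    linear_combination (φ x v * φ v y) * hc
  · rw [← LinearEquiv.coe_det, map_mul, hT₁, hT₂, LinearEquiv.transvection.det_eq_one,
      LinearEquiv.transvection.det_eq_one, mul_one, Units.val_one, map_one]

/-- one step: isotropic vectors with skew product are conjugate -/
theorem exists_step (C : Ctx φ J σ τ M) {u v : V} (hu : φ u u = 0) (hv : φ v v = 0)
    (hne : φ u v ≠ 0) (hc : φ u v + J (φ u v) = 0) :
    ∃ g : V ≃ₗ[K] V, g.restrictScalars F ∈ M ∧ g u = v := by
  have hiso : φ (v - u) (v - u) = 0 := by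
    rw [C.sub_left, C.sub_right, C.sub_right, hu, hv, C.herm v u]
    linear_combination -hc
  obtain ⟨g, hg, hgx⟩ := C.exists_T hiso (a := (φ u v)⁻¹) (by
    rw [map_inv₀, eq_neg_of_add_eq_zero_right hc, inv_neg, add_neg_cancel])
  refine ⟨g, hg, ?_⟩
  rw [hgx, C.sub_right, hu, sub_zero, inv_mul_cancel₀ hne, one_smul, add_sub_cancel]

/-- scaling an isotropic vector by fixed scalars -/
theorem exists_scale (C : Ctx φ J σ τ M) {u : V} (hu : φ u u = 0) (hu0 : u ≠ 0) {l : K}
    (hl : J l = l) (hl0 : l ≠ 0) :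
    ∃ g : V ≃ₗ[K] V, g.restrictScalars F ∈ M ∧ g u = l • u := by
  obtain ⟨f, hf, huf⟩ := C.exists_partner hu hu0
  obtain ⟨c, hc0, hc⟩ := C.exists_skew
  have hJc : J (algebraMap F K c) = -algebraMap F K c := by
    rw [C.J_algebraMap, eq_neg_of_add_eq_zero_right hc, map_neg]
  have hcK : algebraMap F K c ≠ 0 := (map_ne_zero _).2 hc0
  obtain ⟨g, hg, hgu⟩ := C.exists_step (v := algebraMap F K c • f) hu
    (by rw [C.smul_left, C.smul_right, hf, mul_zero, mul_zero])
    (by rw [C.smul_right, huf, mul_one, hJc]; exact neg_ne_zero.2 hcK)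
    (by rw [C.smul_right, huf, mul_one, C.invol, hJc, neg_add_cancel])
  have hfu : φ f u = 1 := by rw [C.herm, huf, map_one]
  obtain ⟨g', hg', hgf⟩ := C.exists_step (u := algebraMap F K c • f) (v := l • u)
    (by rw [C.smul_left, C.smul_right, hf, mul_zero, mul_zero])
    (by rw [C.smul_left, C.smul_right, hu, mul_zero, mul_zero])
    (by rw [C.smul_left, C.smul_right, hfu, hl, mul_one]; exact mul_ne_zero hcK hl0)
    (by rw [C.smul_left, C.smul_right, hfu, hl, mul_one, map_mul, hl, hJc]; ring)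
  exact ⟨g.trans g', mul_mem hg' hg, by rw [LinearEquiv.trans_apply, hgu, hgf]⟩

end Ctx

end CfsgLib.MaxSub.UExt
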