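import Cfsg.Agent.Lib.MaxSub.UExtAxis

/-!
Conjugating a transvection of the `K`-form by transvections on its line gives a transvection of the
trace form; then every isotropic vector of the trace form is the centre of all of them.
-/

set_option autoImplicit false
set_option linter.unusedSectionVars false
set_option linter.unusedVariables false

namespace CfsgLib.MaxSub.UExt

variable {F K V : Type*} [Field F] [Field K] [Algebra F K] [AddCommGroup V] [Module K V]
  [Module F V] [IsScalarTower F K V]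

/-- `D` gives an element of `M` in the Siegel group of the line of `v` -/
def InS (φ : V → V → K) (M : Subgroup (V ≃ₗ[F] V)) (v : V) (D : K → K) : Prop :=
  InM M fun x => x + D (φ x v) • v

/-- `M` contains all transvections of the trace form with centre `v` -/
def FullU (φ : V → V → K) (σ : F ≃+* F) (τ : K →ₗ[F] F) (M : Subgroup (V ≃ₗ[F] V)) (v : V) : Prop :=
  ∀ c : F, c + σ c = 0 → InM M fun x => x + (c * τ (φ x v)) • v

namespace Ctx

variable [Finite F] [Finite K] [Module.Finite K V] [Module.Finite F K]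
  {φ : V → V → K} {J : K ≃+* K} {σ : F ≃+* F} {τ : K →ₗ[F] F} {M : Subgroup (V ≃ₗ[F] V)}

/-- linear elements of `M` are isometries of the `K`-form -/
theorem phi_iso (C : Ctx φ J σ τ M) {g : V ≃ₗ[K] V} (hg : g.restrictScalars F ∈ M) (u v : V) :
    φ (g u) (g v) = φ u v := C.tau_inj fun s => by
  have := C.iso _ hg (s • u) v
  rwa [LinearEquiv.restrictScalars_apply, LinearEquiv.restrictScalars_apply, map_smul,
    C.smul_left, C.smul_left] at this

theorem inS_mul (C : Ctx φ J σ τ M) {v : V} (hv : φ v v = 0) {a : K} (ha : a + J a = 0) :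
    InS φ M v fun y => a * y := by
  obtain ⟨h, hh, hx⟩ := C.exists_T hv ha
  exact ⟨_, hh, hx⟩

theorem inS_sub (C : Ctx φ J σ τ M) {v : V} (hv : φ v v = 0) {D D' E : K → K} (h : InS φ M v D)
    (h' : InS φ M v D') (hE : ∀ y, D y = D' y + E y) : InS φ M v E := by
  obtain ⟨g, hg, hgx⟩ := h
  obtain ⟨g', hg', hgx'⟩ := h'
  refine ⟨g'⁻¹ * g, mul_mem (inv_mem hg') hg, fun x => g'.injective ?_⟩
  show g' (g'⁻¹ (g x)) = g' (x + E (φ x v) • v)
  rw [apply_inv_apply, hgx, hgx']
  dsimp only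
  rw [C.add_left, C.smul_left, hv, mul_zero, add_zero, hE, add_smul]
  abel

theorem inS_congr {v : V} {D E : K → K} (h : InS φ M v D) (hE : ∀ y, D y = E y) :
    InS φ M v E := by
  rwa [show E = D from funext fun y => (hE y).symm]

theorem inS_conj (C : Ctx φ J σ τ M) {v : V} {D θ θ' : K → K} (h : InS φ M v D) {m : V ≃ₗ[F] V}
    (hm : m ∈ M) (hmv : ∀ k : K, m (k • v) = θ k • v)
    (hadj : ∀ s y, τ (J (θ s) * y) = τ (J s * θ' y)) : InS φ M v fun y => θ (D (θ' y)) := by
  obtain ⟨g, hg, hgx⟩ := h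
  refine ⟨m * g * m⁻¹, mul_mem (mul_mem hm hg) (inv_mem hm), fun x => ?_⟩
  have e : φ (m⁻¹ x) v = θ' (φ x v) := C.tau_inj fun s => by
    have hi := C.iso m hm (m⁻¹ x) (J s • v)
    rw [apply_inv_apply, hmv, C.smul_right, C.smul_right, C.invol, hadj, C.invol] at hi
    exact hi.symm
  show m (g (m⁻¹ x)) = _
  rw [hgx]
  dsimp only
  rw [map_add, hmv, apply_inv_apply, e]

theorem inS_scale (C : Ctx φ J σ τ M) {v : V} {D : K → K} (h : InS φ M v D) {l : K}
    {g : V ≃ₗ[K] V} (hg : g.restrictScalars F ∈ M) (hgv : g v = l • v) :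
    InS φ M v fun y => D (J l * y) * l := by
  obtain ⟨t, ht, htx⟩ := h
  refine ⟨g.restrictScalars F * t * (g.restrictScalars F)⁻¹,
    mul_mem (mul_mem hg ht) (inv_mem hg), fun x => ?_⟩
  show g (t (g.symm x)) = _
  have e := C.phi_iso hg (g.symm x) v
  rw [LinearEquiv.apply_symm_apply, hgv, C.smul_right] at e
  rw [htx]
  dsimp only
  rw [map_add, map_smul, LinearEquiv.apply_symm_apply, ← e, hgv, smul_smul]

theorem inI_zero (v : V) : (0 : K) ∈ InI σ τ M v :=
  ⟨map_zero τ, fun s _ => ⟨1, one_mem M, fun k => by simp⟩⟩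

theorem inI_smul {v : V} {i : K} (h : i ∈ InI σ τ M v) {s : F} (hs : σ s = s) :
    s • i ∈ InI σ τ M v :=
  ⟨by rw [map_smul, h.1, smul_zero], fun t ht => by
    rw [smul_smul]; exact h.2 _ (by rw [map_mul, ht, hs])⟩

theorem inI_add {v : V} {i j : K} (hi : i ∈ InI σ τ M v) (hj : j ∈ InI σ τ M v) :
    i + j ∈ InI σ τ M v := by
  refine ⟨by rw [map_add, hi.1, hj.1, add_zero], fun s hs => ?_⟩
  obtain ⟨m, hm, hmx⟩ := hi.2 s hs
  obtain ⟨m', hm', hmx'⟩ := hj.2 s hs
  refine ⟨m * m', mul_mem hm hm', fun k => ?_⟩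
  show m (m' (k • v)) = _
  rw [hmx', hmx, map_add, map_smul τ (τ k), map_smul τ s j, hj.1, smul_zero, smul_zero, add_zero,
    smul_add, smul_add]
  congr 1
  abel

/-- the difference of a conjugated transvection and the transvection -/
def delta (J : K ≃+* K) (τ : K →ₗ[F] F) (a i y : K) : K :=
  τ (J i * y) • a + (τ (a * y) + τ (J i * y) * τ a) • i

theorem inS_delta (C : Ctx φ J σ τ M) {v : V} (hv : φ v v = 0) {i : K} (hi : i ∈ InI σ τ M v)
    {a : K} (ha : a + J a = 0) : InS φ M v (delta J τ a i) := by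
  obtain ⟨m, hm, hmv⟩ := hi.2 1 (map_one σ)
  simp only [one_smul] at hmv
  have h1 := C.inS_conj (θ' := fun y => y + τ (J i * y) • (1 : K)) (C.inS_mul hv ha) hm hmv
    (fun s y => by
      rw [map_add, C.J_smul, add_mul, mul_add, map_add, map_add, smul_mul_assoc, map_smul,
        mul_smul_comm, mul_one, map_smul, C.tau_J, smul_eq_mul, smul_eq_mul]
      ring)
  refine C.inS_sub hv h1 (C.inS_mul hv ha) fun y => ?_
  dsimp only [delta]
  rw [mul_add, mul_smul_comm, mul_one, map_add, map_smul, smul_eq_mul]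
  abel

theorem exists_span_pair (C : Ctx φ J σ τ M) {v : V} {ξ : F} (hξ : σ ξ ≠ ξ) {x : K}
    (hx : x ∈ Submodule.span F (InI σ τ M v)) :
    ∃ p ∈ InI σ τ M v, ∃ q ∈ InI σ τ M v, x = p + ξ • q := by
  have hd : ξ - σ ξ ≠ 0 := sub_ne_zero.2 (Ne.symm hξ)
  have hco : ∀ t : F, ∃ s₁ s₂ : F, σ s₁ = s₁ ∧ σ s₂ = s₂ ∧ t = s₁ + s₂ * ξ := by
    intro t
    obtain ⟨s₂, hs₂⟩ : ∃ s₂, s₂ = (t - σ t) / (ξ - σ ξ) := ⟨_, rfl⟩
    have h2 : σ s₂ = s₂ := by
      rw [hs₂, map_div₀, map_sub, map_sub, C.sigma_invol, C.sigma_invol, ← neg_sub t, ← neg_sub ξ,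
        neg_div_neg_eq]
    refine ⟨t - s₂ * ξ, s₂, ?_, h2, by ring⟩
    have e : s₂ * (ξ - σ ξ) = t - σ t := by rw [hs₂, div_mul_cancel₀ _ hd]
    rw [map_sub, map_mul, h2]
    linear_combination e
  obtain ⟨u₁, u₂, hu₁, hu₂, hu⟩ := hco (ξ * ξ)
  induction hx using Submodule.span_induction with
  | mem x hx => exact ⟨x, hx, 0, inI_zero v, by rw [smul_zero, add_zero]⟩
  | zero => exact ⟨0, inI_zero v, 0, inI_zero v, by rw [smul_zero, add_zero]⟩
  | add x y _ _ hx hy =>
    obtain ⟨p, hp, q, hq, rfl⟩ := hx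
    obtain ⟨p', hp', q', hq', rfl⟩ := hy
    exact ⟨_, inI_add hp hp', _, inI_add hq hq', by rw [smul_add]; abel⟩
  | smul t x _ hx =>
    obtain ⟨p, hp, q, hq, rfl⟩ := hx
    obtain ⟨s₁, s₂, h₁, h₂, rfl⟩ := hco t
    refine ⟨_, inI_add (inI_smul hp h₁) (inI_smul hq (s := s₂ * u₁) (by rw [map_mul, h₂, hu₁])),
      _, inI_add (inI_smul hp h₂) (inI_smul hq (s := s₁ + s₂ * u₂)
        (by rw [map_add, map_mul, h₁, h₂, hu₂])), ?_⟩
    simp only [smul_add, smul_smul]
    rw [show (s₁ + s₂ * ξ) * ξ = s₂ * u₁ + ξ * (s₁ + s₂ * u₂) by linear_combination s₂ * hu,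
      show ξ * s₂ = s₂ * ξ from mul_comm _ _]
    simp only [add_smul]
    abel

/-- a skew element with prescribed skew value -/
theorem exists_skew_value (C : Ctx φ J σ τ M) {c : F} (hc : c + σ c = 0) :
    ∃ a : K, a + J a = 0 ∧ τ a = c := by
  obtain ⟨a, ha, hτ⟩ := C.exists_skew_tau (one_ne_zero (α := K))
  rw [mul_one] at hτ
  refine ⟨(c / τ a) • a, ?_, by rw [map_smul, smul_eq_mul, div_mul_cancel₀ _ hτ]⟩
  have h1 : σ (τ a) = -τ a := by rw [← C.tau_J, eq_neg_of_add_eq_zero_right ha, map_neg]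
  rw [C.J_smul, eq_neg_of_add_eq_zero_right ha, map_div₀, eq_neg_of_add_eq_zero_right hc, h1,
    neg_div_neg_eq, smul_neg, add_neg_cancel]

theorem fullU_of_inS (C : Ctx φ J σ τ M) {v : V} {i : K}
    (h : ∀ c : F, c + σ c = 0 → InS φ M v fun y => (c * τ (J i * y)) • i) :
    FullU φ σ τ M (i • v) := by
  intro c hc
  obtain ⟨g, hg, hgx⟩ := h c hc
  refine ⟨g, hg, fun x => ?_⟩
  rw [hgx]
  dsimp only
  rw [C.smul_right, smul_assoc]

/-- some centre has all transvections -/
theorem exists_fullU (C : Ctx φ J σ τ M) {v : V} (hv0 : v ≠ 0) (hv : φ v v = 0)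
    (hI : ∀ i : K, τ i = 0 → i ∈ Submodule.span F (InI σ τ M v)) :
    ∃ w : V, w ≠ 0 ∧ φ w w = 0 ∧ FullU φ σ τ M w := by
  classical
  have hr := C.three_le
  obtain ⟨j, hj, hj0, hJj⟩ := C.exists_fixed_mem (W := LinearMap.ker τ) (fun e => by
    have h1 := LinearMap.finrank_range_add_finrank_ker τ
    have h2 := Submodule.finrank_le (LinearMap.range τ)
    rw [e, finrank_bot, Module.finrank_self] at *
    omega) fun x hx => by
      rw [LinearMap.mem_ker] at hx ⊢
      rw [C.tau_J, hx, map_zero]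
  rw [LinearMap.mem_ker] at hj
  suffices ∃ i : K, i ≠ 0 ∧ ∀ c : F, c + σ c = 0 → InS φ M v fun y => (c * τ (J i * y)) • i by
    obtain ⟨i, hi0, hi⟩ := this
    exact ⟨i • v, smul_ne_zero hi0 hv0,
      by rw [C.smul_left, C.smul_right, hv, mul_zero, mul_zero], C.fullU_of_inS hi⟩
  by_cases h2 : (2 : F) = 0
  swap
  · -- odd characteristic
    obtain ⟨i, hi, hi0⟩ : ∃ i ∈ InI σ τ M v, i ≠ 0 := by
      by_contra hall
      simp only [not_exists, not_and, not_not] at hall
      refine hj0 ((Submodule.mem_bot F).1 ?_)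
      exact Submodule.span_le.2 (fun x hx => (Submodule.mem_bot F).2 (hall x hx)) (hI j hj)
    refine ⟨i, hi0, fun c hc => ?_⟩
    have hσ2 : σ (2 : F) = 2 := map_ofNat σ 2
    obtain ⟨a, ha, hτa⟩ := C.exists_skew_value (c := c / 2) (by
      rw [map_div₀, hσ2, ← add_div, hc, zero_div])
    refine C.inS_sub hv (C.inS_delta hv (inI_smul hi hσ2) ha)
      (C.inS_delta hv (a := (2 : F) • a) hi (by
        rw [C.J_smul, hσ2, ← smul_add, ha, smul_zero])) fun y => ?_
    have hc2 : c = 2 * τ a := by rw [hτa, mul_div_cancel₀ _ h2]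
    simp only [delta, C.J_smul, hσ2, smul_mul_assoc, map_smul, smul_eq_mul, hc2]
    module
  have hneg : ∀ z : K, -z = z := fun z => by
    rw [neg_eq_iff_add_eq_zero, ← two_smul F z, h2, zero_smul]
  have hJs : ∀ a : K, a + J a = 0 → J a = a := fun a ha =>
    (eq_neg_of_add_eq_zero_right ha).trans (hneg a)
  have hsk : ∀ a : K, J a = a → a + J a = 0 := fun a ha => by
    rw [ha, ← neg_eq_iff_add_eq_zero, hneg]
  obtain ⟨ξ, hξ⟩ := C.exists_ne_fixed
  by_cases hall : ∀ a : K, J a = a → τ a = 0 → a ∈ InI σ τ M v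
  · -- the fixed elements give transvections
    refine ⟨j, hj0, fun c hc => ?_⟩
    obtain ⟨a, ha, hτa⟩ := C.exists_skew_value hc
    obtain ⟨z, hz, hz0, hJz⟩ := C.exists_fixed_mem
      (W := LinearMap.ker (τ ∘ₗ LinearMap.mulRight F a) ⊓
        LinearMap.ker (τ ∘ₗ LinearMap.mulRight F j)) (fun e => by
      rw [← LinearMap.ker_prod, LinearMap.ker_eq_bot] at e
      have := LinearMap.finrank_le_finrank_of_injective e
      rw [Module.finrank_prod, Module.finrank_self] at this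
      omega) fun x hx => by
      obtain ⟨h1, h1'⟩ := hx
      have h1 : τ (x * a) = 0 := h1
      have h1' : τ (x * j) = 0 := h1'
      refine ⟨show τ (J x * a) = 0 from ?_, show τ (J x * j) = 0 from ?_⟩
      · rw [← hJs a ha, ← map_mul, C.tau_J, h1, map_zero]
      · rw [← hJj, ← map_mul, C.tau_J, h1', map_zero]
    have hza : τ (z * a) = 0 := hz.1
    have hzj : τ (z * j) = 0 := hz.2
    obtain ⟨g, hg, hgv⟩ := C.exists_scale hv hv0 (l := z⁻¹) (by rw [map_inv₀, hJz])
      (inv_ne_zero hz0)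
    have hpure := C.inS_scale (C.inS_delta hv (hall (z * j) (by rw [map_mul, hJz, hJj]) hzj)
      (a := z * a) (hsk _ (by rw [map_mul, hJz, hJs a ha]))) hg hgv
    refine C.inS_sub hv (C.inS_delta hv (hall j hJj hj) ha) hpure fun y => ?_
    have e1 : z * j * (z⁻¹ * y) = j * y := by field_simp
    have e2 : z * a * (z⁻¹ * y) = a * y := by field_simp
    have e3 : z * a * z⁻¹ = a := by field_simp
    have e4 : z * j * z⁻¹ = j := by field_simp
    simp only [delta, map_mul, map_inv₀, hJz, hJj, e1, e2, hza, mul_zero, add_zero, add_mul,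
      smul_mul_assoc, e3, e4, hτa, add_smul]
    rw [mul_comm c]
    abel
  · -- a fixed element outside
    simp only [not_forall, exists_prop] at hall
    obtain ⟨a, haJ, hτa, hna⟩ := hall
    obtain ⟨p, hp, q, hq, hpq⟩ := C.exists_span_pair hξ (hI a hτa)
    have hq0 : q ≠ 0 := fun e => hna (by rw [hpq, e, smul_zero, add_zero]; exact hp)
    refine ⟨q, hq0, fun c hc => ?_⟩
    have hneg' : ∀ t : F, -t = t := fun t => by
      rw [neg_eq_iff_add_eq_zero, ← two_mul, h2, zero_mul]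
    have hd : ξ + σ ξ ≠ 0 := fun e =>
      hξ ((eq_neg_of_add_eq_zero_right e).trans (hneg' ξ))
    obtain ⟨s, hs⟩ : ∃ s, s = c / (ξ + σ ξ) := ⟨_, rfl⟩
    have hsσ : σ s = s := by
      rw [hs, map_div₀, map_add, C.sigma_invol, add_comm (σ ξ),
        (eq_neg_of_add_eq_zero_right hc).trans (hneg' c)]
    obtain ⟨b, hb, hτb⟩ := C.exists_skew_value (c := s)
      (by rw [hsσ, ← neg_eq_iff_add_eq_zero, hneg'])
    have hpolar : InS φ M v fun y => (s * τ (J p * y)) • q + (s * τ (J q * y)) • p :=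
      C.inS_sub hv (C.inS_sub hv (C.inS_delta hv (inI_add hp hq) hb) (C.inS_delta hv hp hb)
        (E := fun y => delta J τ b q y + (s * τ (J p * y)) • q + (s * τ (J q * y)) • p) fun y => by
          simp only [delta, hτb, map_add, add_mul]
          have hy : (τ (b * y)) • q + τ (b * y) • q = (0 : K) := by
            rw [← two_smul F, h2, zero_smul]
          module)
        (C.inS_delta hv hq hb) fun y => by abel
    refine C.inS_sub hv (C.inS_delta hv (a := s • a) hq (hsk _ (by rw [C.J_smul, hsσ, haJ])))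
      hpolar fun y => ?_
    have hay : τ (a * y) = τ (J p * y) + σ ξ * τ (J q * y) := by
      conv_lhs => rw [← haJ, hpq, map_add, C.J_smul, add_mul, smul_mul_assoc, map_add, map_smul,
        smul_eq_mul]
    have hc' : c = s * (ξ + σ ξ) := by rw [hs, div_mul_cancel₀ _ hd]
    simp only [delta, smul_mul_assoc, map_smul, smul_eq_mul, hτa, mul_zero, add_zero, hay, hc']
    rw [hpq, smul_add]
    module

theorem fullU_move (C : Ctx φ J σ τ M) {v : V} (h : FullU φ σ τ M v) {g : V ≃ₗ[F] V}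
    (hg : g ∈ M) : FullU φ σ τ M (g v) := by
  intro c hc
  obtain ⟨t, ht, htx⟩ := h c hc
  refine ⟨g * t * g⁻¹, mul_mem (mul_mem hg ht) (inv_mem hg), fun x => ?_⟩
  show g (t (g⁻¹ x)) = _
  have hi := C.iso g hg (g⁻¹ x) v
  rw [apply_inv_apply] at hi
  rw [htx]
  dsimp only
  rw [map_add, map_smul, apply_inv_apply, hi]

theorem fullU_add (C : Ctx φ J σ τ M) {x y : V} (hx : τ (φ x x) = 0) (hy : τ (φ y y) = 0)
    (hne : τ (φ y x) ≠ 0) (hiso : τ (φ (x + y) (x + y)) = 0) (hX : FullU φ σ τ M x)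
    (hY : FullU φ σ τ M y) : FullU φ σ τ M (x + y) := by
  obtain ⟨g, hg, hgx⟩ := hX (τ (φ y x))⁻¹ (by
    simp only [C.add_left, C.add_right, hx, hy, zero_add, add_zero, map_add, C.herm x y,
      C.tau_J] at hiso
    rw [map_inv₀, eq_neg_of_add_eq_zero_left hiso, inv_neg, add_neg_cancel])
  have := C.fullU_move hY hg
  simp only [hgx] at this
  rwa [inv_mul_cancel₀ hne, one_smul, add_comm] at this

/-- transitivity on isotropic vectors in dimension at least three -/
theorem exists_trans (C : Ctx φ J σ τ M) (h3 : 3 ≤ Module.finrank K V) {u v : V} (hu : φ u u = 0)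
    (hv : φ v v = 0) (hu0 : u ≠ 0) (hv0 : v ≠ 0) :
    ∃ g : V ≃ₗ[K] V, g.restrictScalars F ∈ M ∧ g u = v := by
  obtain ⟨c₀, hc₀, hc⟩ := C.exists_skew
  obtain ⟨c, hcd⟩ : ∃ c, c = algebraMap F K c₀ := ⟨_, rfl⟩
  have hJc : J c = -c := by
    rw [hcd, C.J_algebraMap, eq_neg_of_add_eq_zero_right hc, map_neg]
  have hc0 : c ≠ 0 := by rw [hcd]; exact (map_ne_zero _).2 hc₀
  -- scalars
  have scal : ∀ {x : V}, φ x x = 0 → x ≠ 0 → ∀ {l : K}, l ≠ 0 →
      ∃ g : V ≃ₗ[K] V, g.restrictScalars F ∈ M ∧ g x = l • x := by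
    intro x hx hx0 l hl
    obtain ⟨f, hf, hxf⟩ := C.exists_partner hx hx0
    have hfx : φ f x = 1 := by rw [C.herm, hxf, map_one]
    obtain ⟨s, hs⟩ : ∃ s, s = c / J l := ⟨_, rfl⟩
    obtain ⟨y, hy⟩ := exists_notMem_kspan_pair h3 x f
    obtain ⟨y', hy'⟩ : ∃ y', y' = y - φ y f • x - φ y x • f := ⟨_, rfl⟩
    have hy'x : φ y' x = 0 := by
      simp only [hy', C.sub_left, C.smul_left, hx, hfx, mul_zero, mul_one, sub_zero, sub_self]
    have hy'f : φ y' f = 0 := by
      simp only [hy', C.sub_left, C.smul_left, hxf, hf, mul_zero, mul_one, sub_zero, sub_self]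
    have hy'0 : y' ≠ 0 := fun e => hy (by
      rw [hy', sub_sub, sub_eq_zero] at e
      rw [e]
      exact Submodule.mem_span_pair.2 ⟨_, _, rfl⟩)
    obtain ⟨z, hz⟩ := C.exists_ne hy'0
    obtain ⟨w, ⟨hwx, hwf⟩, hwd⟩ := C.exists_self_eq
      (W := LinearMap.ker (C.lin x) ⊓ LinearMap.ker (C.lin f)) (y := y')
      (z := z - φ z f • x - φ z x • f) ⟨hy'x, hy'f⟩
      ⟨show φ _ x = 0 by
        simp only [C.sub_left, C.smul_left, hx, hfx, mul_zero, mul_one, sub_zero, sub_self],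
      show φ _ f = 0 by
        simp only [C.sub_left, C.smul_left, hxf, hf, mul_zero, mul_one, sub_zero, sub_self]⟩
      (by rwa [C.sub_right, C.sub_right, C.smul_right, C.smul_right, hy'x, hy'f, mul_zero,
        mul_zero, sub_zero, sub_zero]) (d := -(s + J s)) (by
        rw [map_neg, map_add, C.invol, add_comm])
    have hwx : φ w x = 0 := hwx
    have hwf : φ w f = 0 := hwf
    have hxw := C.eq_zero_swap hwx
    have hfw := C.eq_zero_swap hwf
    obtain ⟨z', hz'⟩ : ∃ z', z' = x + s • f + w := ⟨_, rfl⟩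
    have hz'iso : φ z' z' = 0 := by
      simp only [hz', C.add_left, C.add_right, C.smul_left, C.smul_right, hx, hf, hxf, hfx, hwx,
        hwf, hxw, hfw, hwd]
      ring
    have hcf : φ (c • f) (c • f) = 0 := by rw [C.smul_left, C.smul_right, hf, mul_zero, mul_zero]
    obtain ⟨g₁, hg₁, hg₁x⟩ := C.exists_step (v := c • f) hx hcf
      (by rw [C.smul_right, hxf, mul_one, hJc]; exact neg_ne_zero.2 hc0)
      (by rw [C.smul_right, hxf, mul_one, C.invol, hJc, neg_add_cancel])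
    have e2 : φ (c • f) z' = c := by
      simp only [hz', C.smul_left, C.add_right, C.smul_right, hfx, hf, hfw, mul_zero, add_zero,
        mul_one]
    obtain ⟨g₂, hg₂, hg₂x⟩ := C.exists_step hcf hz'iso (by rw [e2]; exact hc0)
      (by rw [e2, hJc, add_neg_cancel])
    have e3 : φ z' (l • x) = c := by
      simp only [hz', C.smul_right, C.add_left, C.smul_left, hx, hfx, hwx, zero_add, add_zero,
        mul_one, hs]
      rw [mul_div_cancel₀ _ (J.map_ne_zero_iff.2 hl)]
    obtain ⟨g₃, hg₃, hg₃x⟩ := C.exists_step hz'iso (v := l • x)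
      (by rw [C.smul_left, C.smul_right, hx, mul_zero, mul_zero]) (by rw [e3]; exact hc0)
      (by rw [e3, hJc, add_neg_cancel])
    exact ⟨(g₁.trans g₂).trans g₃, mul_mem hg₃ (mul_mem hg₂ hg₁), by
      rw [LinearEquiv.trans_apply, LinearEquiv.trans_apply, hg₁x, hg₂x, hg₃x]⟩
  -- non-orthogonal pairs
  have nonorth : ∀ {x y : V}, φ x x = 0 → φ y y = 0 → x ≠ 0 → y ≠ 0 → φ x y ≠ 0 →
      ∃ g : V ≃ₗ[K] V, g.restrictScalars F ∈ M ∧ g x = y := by
    intro x y hx hy hx0 hy0 hxy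
    obtain ⟨l, hl⟩ : ∃ l, l = J (c / φ x y) := ⟨_, rfl⟩
    have hl0 : l ≠ 0 := by rw [hl]; exact J.map_ne_zero_iff.2 (div_ne_zero hc0 hxy)
    have hly : φ (l • y) (l • y) = 0 := by rw [C.smul_left, C.smul_right, hy, mul_zero, mul_zero]
    have e : φ x (l • y) = c := by rw [C.smul_right, hl, C.invol, div_mul_cancel₀ _ hxy]
    obtain ⟨g, hg, hgx⟩ := C.exists_step hx hly (by rw [e]; exact hc0)
      (by rw [e, hJc, add_neg_cancel])
    obtain ⟨g', hg', hg'x⟩ := scal hly (smul_ne_zero hl0 hy0) (inv_ne_zero hl0)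
    exact ⟨g.trans g', mul_mem hg' hg, by
      rw [LinearEquiv.trans_apply, hgx, hg'x, inv_smul_smul₀ hl0]⟩
  by_cases huv : φ u v = 0
  · obtain ⟨y, hyu, hyv⟩ := C.exists_ne₂ hu0 hv0
    obtain ⟨t, ht⟩ := C.exists_shift hu hyu
    have h1 : φ (y + t • u) u ≠ 0 := by
      rwa [C.add_left, C.smul_left, hu, mul_zero, add_zero]
    have h2 : φ (y + t • u) v ≠ 0 := by
      rwa [C.add_left, C.smul_left, huv, mul_zero, add_zero]
    have h0 : y + t • u ≠ 0 := fun e => h1 (by rw [e, C.zero_left])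
    obtain ⟨g, hg, hgx⟩ := nonorth hu ht hu0 h0 fun e => h1 (C.eq_zero_swap e)
    obtain ⟨g', hg', hg'x⟩ := nonorth ht hv h0 hv0 h2
    exact ⟨g.trans g', mul_mem hg' hg, by rw [LinearEquiv.trans_apply, hgx, hg'x]⟩
  · exact nonorth hu hv hu0 hv0 huv

/-- isotropic vectors of the trace form inherit from those of the `K`-form -/
theorem fullU_of_isotropic (C : Ctx φ J σ τ M) (hiso : ∀ u : V, φ u u = 0 → FullU φ σ τ M u)
    (x : V) (hx : τ (φ x x) = 0) : FullU φ σ τ M x := by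
  by_cases hd : φ x x = 0
  · exact hiso x hd
  obtain ⟨c, hc, hτc⟩ : ∃ c : K, c + J c = φ x x ∧ τ c ≠ 0 := by
    obtain ⟨t, ht⟩ := C.exists_trace (C.self_fixed x)
    obtain ⟨a, ha, hτa⟩ := C.exists_skew_tau (one_ne_zero (α := K))
    rw [mul_one] at hτa
    by_cases h : τ t = 0
    · exact ⟨t + a, by rw [map_add]; linear_combination ht + ha, by rwa [map_add, h, zero_add]⟩
    · exact ⟨t, ht, h⟩
  obtain ⟨w', hw'x, hw'⟩ := C.exists_perp_self_eq hd (d := -(c * J c / φ x x)) (by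
    rw [map_neg, map_div₀, map_mul, C.invol, C.self_fixed, mul_comm])
  have hxw' := C.eq_zero_swap hw'x
  obtain ⟨u, hu⟩ : ∃ u, u = J (c / φ x x) • x + w' := ⟨_, rfl⟩
  have hxu : φ x u = c := by
    rw [hu, C.add_right, C.smul_right, hxw', add_zero, C.invol, div_mul_cancel₀ _ hd]
  have hux : φ u x = J c := by rw [C.herm, hxu]
  have huu : φ u u = 0 := by
    simp only [hu, C.add_left, C.add_right, C.smul_left, C.smul_right, hxw', hw'x, hw', mul_zero,
      add_zero, zero_add, map_div₀, C.invol, C.self_fixed]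
    field_simp
    ring
  have hyy : φ (x - u) (x - u) = 0 := by
    rw [C.sub_left, C.sub_right, C.sub_right, hxu, hux, huu]
    linear_combination -hc
  have := C.fullU_add (by rw [huu, map_zero]) (by rw [hyy, map_zero]) (by
    rwa [C.sub_left, hxu, huu, sub_zero]) (by rwa [add_sub_cancel]) (hiso u huu) (hiso _ hyy)
  rwa [add_sub_cancel] at this

/-- every isotropic vector of the trace form is a full centre -/
theorem fullU_all (C : Ctx φ J σ τ M) (h3 : 3 ≤ Module.finrank K V) (hg : ∃ g ∈ M, ¬ KSemi K g)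
    (x : V) (hx : τ (φ x x) = 0) : FullU φ σ τ M x := by
  obtain ⟨v, hv0, hv, hI⟩ := C.exists_line hg
  obtain ⟨w, hw0, hww, hW⟩ := C.exists_fullU hv0 hv hI
  refine C.fullU_of_isotropic (fun u hu => ?_) x hx
  rcases eq_or_ne u 0 with rfl | hu0
  · exact fun c _ => ⟨1, one_mem M, fun z => by simp⟩
  obtain ⟨g, hg, hgw⟩ := C.exists_trans h3 hww hu hw0 hu0
  have := C.fullU_move hW hg
  rwa [LinearEquiv.restrictScalars_apply, hgw] at this

end Ctx

end CfsgLib.MaxSub.UExt
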