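import Cfsg.Agent.Lib.MaxSub.WreathSpinOps
import Cfsg.Agent.Lib.MaxSub.ExtBase
import Cfsg.Agent.Lib.Aschbacher.OrthWreath

/-!
Tensor powers of a symplectic form of dimension two or four in characteristic two: the wreath group is properly
contained in the stabiliser of the space spanned by the square-zero maps of the factors, which is proper in `Ω`.
-/

set_option autoImplicit false
set_option linter.unusedSectionVars false

namespace CfsgLib.MaxSub.WreathSpin

open Cfsg.Geo Matrix
open CfsgLib.Aschbacher (pureMat pureMat_mul pureMat_one pureMat_smul_update permMat permMat_mul_inv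
  pureMat_mul_permMat cj cj_apply cj_mul cj_one)

variable {F : Type*} [Field F] {k t : ℕ}

local notation "κ" => (Fin t → Fin k)
local notation "Mκ" => Matrix (Fin t → Fin k) (Fin t → Fin k) F
local notation "Mk" => Matrix (Fin k) (Fin k) F

/-- a map in one factor -/
def slot (j : Fin t) (M : Mk) : Mκ := pureMat (Function.update (fun _ => 1) j M)

theorem pureMat_transpose' (a : Fin t → Mk) : (pureMat a)ᵀ = pureMat fun l => (a l)ᵀ := rfl

theorem pure_add (a : Fin t → Mk) (j : Fin t) (A B : Mk) :
    pureMat (Function.update a j (A + B)) =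
      pureMat (Function.update a j A) + pureMat (Function.update a j B) := by
  classical
  ext p q
  simp only [pureMat, Matrix.of_apply, Matrix.add_apply]
  rw [← Finset.mul_prod_erase _ _ (Finset.mem_univ j), ← Finset.mul_prod_erase _ _ (Finset.mem_univ j),
    ← Finset.mul_prod_erase _ _ (Finset.mem_univ j), Function.update_self, Function.update_self,
    Function.update_self, Matrix.add_apply, add_mul]
  congr 1 <;> congr 1 <;> exact Finset.prod_congr rfl fun l hl => by
    rw [Function.update_of_ne (Finset.ne_of_mem_erase hl), Function.update_of_ne (Finset.ne_of_mem_erase hl)]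

theorem pure_zero (a : Fin t → Mk) (j : Fin t) (h : a j = 0) : pureMat a = 0 := by
  ext p q
  simp only [pureMat, Matrix.of_apply, Matrix.zero_apply]
  exact Finset.prod_eq_zero (Finset.mem_univ j) (by rw [h]; rfl)

theorem pure_smul (a : Fin t → Mk) (j : Fin t) (A : Mk) (c : F) :
    pureMat (Function.update a j (c • A)) = c • pureMat (Function.update a j A) := by
  rw [← pureMat_smul_update (Function.update a j A) j c, Function.update_self, Function.update_idem]

/-- pairing with a pure tensor of functionals -/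
noncomputable def pair (X : Fin t → Mk) : Mκ →ₗ[F] F where
  toFun Z := ∑ p, ∑ q, pureMat X p q * Z p q
  map_add' Z W := by simp [mul_add, Finset.sum_add_distrib]
  map_smul' c Z := by simp [Finset.mul_sum, mul_left_comm]

theorem pair_pure (X a : Fin t → Mk) :
    pair X (pureMat a) = ∏ i, ∑ α, ∑ β, X i α β * a i α β := by
  show ∑ p, ∑ q, pureMat X p q * pureMat a p q = _
  simp only [pureMat, Matrix.of_apply, ← Finset.prod_mul_distrib]
  rw [Fintype.prod_sum]
  exact Finset.sum_congr rfl fun p _ => (Fintype.prod_sum fun i β => X i (p i) β * a i (p i) β).symm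

/-- a functional vanishing at the identity -/
theorem exists_xi {A : Mk} (hA : ∀ c : F, A ≠ c • 1) :
    ∃ X : Mk, (∑ α, ∑ β, X α β * (1 : Mk) α β) = 0 ∧ (∑ α, ∑ β, X α β * A α β) = 1 := by
  classical
  have hn : A ∉ Submodule.span F {(1 : Mk)} := fun h => by
    obtain ⟨c, hc⟩ := Submodule.mem_span_singleton.1 h
    exact hA c hc.symm
  obtain ⟨φ, h1, h0⟩ := exists_dual_one hn
  have key : ∀ B : Mk, (∑ α, ∑ β, φ (Matrix.single α β 1) * B α β) = φ B := fun B => by
    conv_rhs => rw [Matrix.matrix_eq_sum_single B]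
    simp only [map_sum]
    refine Finset.sum_congr rfl fun α _ => Finset.sum_congr rfl fun β _ => ?_
    rw [← mul_one (B α β), ← smul_eq_mul (B α β), ← Matrix.smul_single, map_smul]
    simp [mul_comm]
  exact ⟨Matrix.of fun α β => φ (Matrix.single α β 1),
    (key 1).trans (h0 1 (Submodule.mem_span_singleton_self _)), (key A).trans h1⟩

theorem exists_eta [NeZero k] : ∃ E : Mk, (∑ α, ∑ β, E α β * (1 : Mk) α β) = 1 := by
  refine ⟨Matrix.single 0 0 1, ?_⟩
  simp [Matrix.single_apply, Matrix.one_apply, ite_and]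

theorem nonscalar {M : Mk} (h : M * M = 0) (h0 : M ≠ 0) (c : F) : M ≠ c • 1 := fun e => by
  rw [e, smul_mul_smul_comm, Matrix.one_mul] at h
  rcases smul_eq_zero.1 h with h1 | h1
  · exact h0 (by rw [e, mul_self_eq_zero.1 h1, zero_smul])
  · exact h0 (by rw [e, h1, smul_zero])

/-- two non-scalar factors are not a sum of single-factor maps -/
theorem pure_notMem [NeZero k] (S : Set Mκ) (hS : ∀ Z ∈ S, ∃ l M, Z = slot l M) {a : Fin t → Mk} {i r : Fin t}
    (hir : i ≠ r) (hi : ∀ c : F, a i ≠ c • 1) (hr : ∀ c : F, a r ≠ c • 1) (hrest : ∀ l, l ≠ i → l ≠ r → a l = 1) :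
    pureMat a ∉ Submodule.span F S := by
  classical
  intro hmem
  obtain ⟨Xi, hXi0, hXi1⟩ := exists_xi hi
  obtain ⟨Xr, hXr0, hXr1⟩ := exists_xi hr
  obtain ⟨E, hE⟩ := exists_eta (F := F) (k := k)
  set X := Function.update (Function.update (fun _ => E) r Xr) i Xi with hX
  have hXi : X i = Xi := by rw [hX, Function.update_self]
  have hXr : X r = Xr := by rw [hX, Function.update_of_ne hir.symm, Function.update_self]
  have hle : Submodule.span F S ≤ LinearMap.ker (pair X) := Submodule.span_le.2 fun Z hZ => by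
    obtain ⟨l, M, rfl⟩ := hS Z hZ
    rw [SetLike.mem_coe, LinearMap.mem_ker, slot, pair_pure]
    rcases eq_or_ne l i with rfl | hl
    · refine Finset.prod_eq_zero (Finset.mem_univ r) ?_
      rw [Function.update_of_ne hir.symm, hXr]; exact hXr0
    · refine Finset.prod_eq_zero (Finset.mem_univ i) ?_
      rw [Function.update_of_ne hl.symm, hXi]; exact hXi0
  have h := LinearMap.mem_ker.1 (hle hmem)
  rw [pair_pure, Finset.prod_eq_one] at h
  · exact one_ne_zero h
  intro l _
  rcases eq_or_ne l i with rfl | hli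
  · rw [hXi]; exact hXi1
  rcases eq_or_ne l r with rfl | hlr
  · rw [hXr]; exact hXr1
  rw [hX, Function.update_of_ne hli, Function.update_of_ne hlr, hrest l hli hlr]; exact hE

/-- a sum of two single-factor maps is not a single-factor map -/
theorem slot_add_ne [NeZero k] {A B : Mk} {i r : Fin t} (hir : i ≠ r) (hA : ∀ c : F, A ≠ c • 1)
    (hB : ∀ c : F, B ≠ c • 1) (l : Fin t) (Z : Mk) : slot i A + slot r B ≠ slot l Z := by
  classical
  intro e
  obtain ⟨E, hE⟩ := exists_eta (F := F) (k := k)
  obtain ⟨j, j', hj, hlj, C, hC, hCe⟩ : ∃ (j j' : Fin t) (hj : j ≠ j') (_ : l ≠ j) (C : Mk)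
      (_ : ∀ c : F, C ≠ c • 1), ∃ D : Mk, slot j C + slot j' D = slot l Z := by
    rcases eq_or_ne l i with rfl | hl
    · exact ⟨r, l, hir.symm, hir, B, hB, A, by rw [add_comm]; exact e⟩
    · exact ⟨i, r, hir, hl, A, hA, B, e⟩
  obtain ⟨D, hCe⟩ := hCe
  obtain ⟨X, hX0, hX1⟩ := exists_xi hC
  have h := congrArg (pair (Function.update (fun _ => E) j X)) hCe
  rw [map_add, slot, slot, slot, pair_pure, pair_pure, pair_pure,
    Finset.prod_eq_zero (i := j) (Finset.mem_univ j) (f := fun x => ∑ α, ∑ β,
      Function.update (fun _ => E) j X x α β * Function.update (fun _ => (1 : Mk)) j' D x α β)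
      (by rw [Function.update_self, Function.update_of_ne hj]; exact hX0),
    Finset.prod_eq_zero (i := j) (Finset.mem_univ j) (f := fun x => ∑ α, ∑ β,
      Function.update (fun _ => E) j X x α β * Function.update (fun _ => (1 : Mk)) l Z x α β)
      (by rw [Function.update_self, Function.update_of_ne hlj.symm]; exact hX0),
    add_zero, Finset.prod_eq_one] at h
  · exact one_ne_zero h
  intro x _
  rcases eq_or_ne x j with rfl | hx
  · rw [Function.update_self, Function.update_self]; exact hX1
  · rw [Function.update_of_ne hx, Function.update_of_ne hx]; exact hE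

/-- The data: a quadratic form with tensor-power polar form vanishing on pure tensors. -/
structure Pow (f : (Fin k → F) → (Fin k → F) → F) (c : F) (Q : ((Fin t → Fin k) → F) → F) : Prop where
  symp : IsSymplecticForm f
  char : (2 : F) = 0
  cne : c ≠ 0
  smul : ∀ (r : F) x, Q (r • x) = r ^ 2 * Q x
  add : ∀ x y, Q (x + y) = Q x + Q y + c * (x ⬝ᵥ (pureMat (fun _ => gramMatrix f) *ᵥ y))
  pure : ∀ xs : Fin t → Fin k → F, Q (fun p => ∏ i, xs i (p i)) = 0

section

variable {f : (Fin k → F) → (Fin k → F) → F} {c : F} {Q : ((Fin t → Fin k) → F) → F}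

theorem f_eq (hf : IsSymplecticForm f) (x y : Fin k → F) : f x y = x ⬝ᵥ (gramMatrix f *ᵥ y) := by
  rw [← TensorFrame.formOfGram_gram id f hf.bilinear.add_left hf.bilinear.smul_left hf.bilinear.add_right
    hf.bilinear.smul_right x y]
  simp [formOfGram, dotProduct, mulVec, Finset.mul_sum, mul_assoc]

theorem f_mul (hf : IsSymplecticForm f) (A B : Mk) (x y : Fin k → F) :
    f (A *ᵥ x) (B *ᵥ y) = x ⬝ᵥ ((Aᵀ * gramMatrix f * B) *ᵥ y) := by
  rw [f_eq hf, ← mulVec_mulVec, ← mulVec_mulVec, Matrix.dotProduct_mulVec x, Matrix.vecMul_transpose]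

theorem mat_ext {A B : Mk} (h : ∀ x y, x ⬝ᵥ (A *ᵥ y) = x ⬝ᵥ (B *ᵥ y)) : A = B := by
  ext i j
  simpa using h (Pi.single i 1) (Pi.single j 1)

theorem gram_adj (hf : IsSymplecticForm f) {M : Mk} (h : ∀ x y, f (M *ᵥ x) y = f x (M *ᵥ y)) :
    Mᵀ * gramMatrix f = gramMatrix f * M := mat_ext fun x y => by
  have h1 := f_mul hf M 1 x y
  have h3 := f_mul hf 1 M x y
  rw [Matrix.one_mulVec, Matrix.mul_one] at h1
  rw [Matrix.one_mulVec, Matrix.transpose_one, Matrix.one_mul] at h3
  rw [← h1, ← h3, h]

theorem mul_comm_char (h2 : (2 : F) = 0) {A : Mκ} (h : A * A = 0) : (1 + A) * (1 + A) = 1 := by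
  have : A + A = 0 := by
    rw [← two_smul F A, h2, zero_smul]
  rw [add_mul, mul_add, mul_add, h, one_mul, one_mul, mul_one, add_zero, add_assoc, this, add_zero]

/-- the involution `1 + S` -/
def uni (h2 : (2 : F) = 0) (A : Mκ) (h : A * A = 0) : GL κ F :=
  ⟨1 + A, 1 + A, mul_comm_char h2 h, mul_comm_char h2 h⟩

theorem pure_sq (a : Fin t → Mk) {l : Fin t} (h : a l * a l = 0) : pureMat a * pureMat a = 0 := by
  rw [pureMat_mul]; exact pure_zero _ l h

/-- conjugating a single-factor map by `1 + S` -/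
theorem cj_uni (h2 : (2 : F) = 0) (a : Fin t → Mk) {i r : Fin t} (hir : i ≠ r) (hi : a i * a i = 0)
    (hr : a r * a r = 0) (j : Fin t) (M : Mk) :
    cj (uni h2 (pureMat a) (pure_sq a hi)) (slot j M) =
      slot j M + pureMat (Function.update a j (a j * M + M * a j)) := by
  classical
  rw [cj_apply]
  show (1 + pureMat a) * slot j M * (1 + pureMat a) = _
  have h1 : pureMat a * slot j M = pureMat (Function.update a j (a j * M)) := by
    rw [slot, pureMat_mul]; congr 1; funext l
    rcases eq_or_ne l j with rfl | hl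
    · simp
    · simp [Function.update_of_ne hl]
  have h3 : slot j M * pureMat a = pureMat (Function.update a j (M * a j)) := by
    rw [slot, pureMat_mul]; congr 1; funext l
    rcases eq_or_ne l j with rfl | hl
    · simp
    · simp [Function.update_of_ne hl]
  have h4 : pureMat a * slot j M * pureMat a = 0 := by
    obtain ⟨l, hl, hlsq⟩ : ∃ l, l ≠ j ∧ a l * a l = 0 := by
      rcases eq_or_ne i j with rfl | h
      · exact ⟨r, hir.symm, hr⟩
      · exact ⟨i, h, hi⟩
    rw [h1, pureMat_mul]
    exact pure_zero _ l (by rw [Function.update_of_ne hl]; exact hlsq)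
  rw [add_mul, one_mul, mul_add, mul_one, add_mul, h3, h4, h1, add_zero, pure_add]
  abel

variable (P : Pow f c Q)
include P

theorem gram_comm_pure (a : Fin t → Mk) (h : ∀ l x y, f (a l *ᵥ x) y = f x (a l *ᵥ y)) :
    (pureMat a)ᵀ * pureMat (fun _ => gramMatrix f) = pureMat (fun _ => gramMatrix f) * pureMat a := by
  rw [pureMat_transpose', pureMat_mul, pureMat_mul]
  congr 1; funext l
  exact gram_adj P.symp (h l)

/-- an additive quadratic function vanishing on the basis vanishes -/
theorem zero_of_additive (φ : (κ → F) → F) (hadd : ∀ x y, φ (x + y) = φ x + φ y)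
    (hsmul : ∀ (r : F) x, φ (r • x) = r ^ 2 * φ x) (h0 : ∀ p, φ (Pi.single p 1) = 0) (x : κ → F) : φ x = 0 := by
  let ψ : (κ → F) →+ F := AddMonoidHom.mk' φ hadd
  show ψ x = 0
  rw [pi_eq_sum_univ' x, map_sum]
  exact Finset.sum_eq_zero fun p _ => by
    show φ (x p • Pi.single p 1) = 0
    rw [hsmul, h0, mul_zero]

theorem single_pure (p : κ) : (Pi.single p (1 : F) : κ → F) = fun q => ∏ i, (Pi.single (p i) (1 : F) : Fin k → F) (q i) := by
  funext q
  rcases eq_or_ne q p with rfl | h
  · simp
  · rw [Pi.single_eq_of_ne h]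
    obtain ⟨i, hi⟩ := Function.ne_iff.1 h
    exact (Finset.prod_eq_zero (Finset.mem_univ i) (by rw [Pi.single_eq_of_ne hi])).symm

theorem pure_col (a : Fin t → Mk) (p : κ) :
    Q (pureMat a *ᵥ Pi.single p 1) = 0 := by
  have : pureMat a *ᵥ Pi.single p 1 = fun q => ∏ i, (fun α => a i α (p i)) (q i) := by
    funext q; simp [pureMat]
  rw [this]; exact P.pure fun i α => a i α (p i)

theorem iso_polar {h : Mκ} (hh : hᵀ * pureMat (fun _ => gramMatrix f) * h = pureMat (fun _ => gramMatrix f))
    (h0 : ∀ p, Q (h *ᵥ Pi.single p 1) = 0) (x : κ → F) : Q (h *ᵥ x) = Q x := by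
  have key := zero_of_additive P (fun x => Q (h *ᵥ x) - Q x) (fun x y => by
    show _ - _ = _
    rw [mulVec_add, P.add, P.add]
    have : (h *ᵥ x) ⬝ᵥ (pureMat (fun _ => gramMatrix f) *ᵥ (h *ᵥ y)) =
        x ⬝ᵥ (pureMat (fun _ => gramMatrix f) *ᵥ y) := by
      conv_rhs => rw [← hh]
      rw [← mulVec_mulVec, ← mulVec_mulVec, Matrix.dotProduct_mulVec x, Matrix.vecMul_transpose]
    rw [this]; ring) (fun r x => by
    show _ - _ = _
    rw [mulVec_smul, P.smul, P.smul]; ring) (fun p => by
    show _ - _ = _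
    rw [h0, single_pure P, P.pure, sub_zero]) x
  exact sub_eq_zero.1 key

/-- `1 + S` preserves the form -/
theorem iso_uni (a : Fin t → Mk) (hadj : ∀ l x y, f (a l *ᵥ x) y = f x (a l *ᵥ y)) {i l₀ : Fin t}
    (hi : a i * a i = 0) (halt : ∀ x, f x (a l₀ *ᵥ x) = 0) (x : κ → F) :
    Q ((1 + pureMat a) *ᵥ x) = Q x := by
  set G := pureMat (fun _ : Fin t => gramMatrix f) with hG
  set S := pureMat a with hS
  have hSG : Sᵀ * G = G * S := gram_comm_pure P a hadj
  have hSS : S * S = 0 := pure_sq a hi
  refine iso_polar P ?_ (fun p => ?_) x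
  · have : S + S = 0 := by rw [← two_smul F S, P.char, zero_smul]
    rw [Matrix.transpose_add, Matrix.transpose_one, add_mul, one_mul, hSG, mul_add, mul_one, add_mul,
      mul_assoc G S S, hSS, mul_zero, add_zero, add_assoc, ← mul_add, this, mul_zero, add_zero]
  · rw [add_mulVec, Matrix.one_mulVec, P.add, single_pure P, P.pure, ← single_pure P, hS, pure_col P,
      mulVec_mulVec, pureMat_mul, single_dotProduct, one_mul, mulVec_single_one, zero_add, zero_add]
    refine mul_eq_zero_of_right _ ?_
    show pureMat (fun l => gramMatrix f * a l) p p = 0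
    simp only [pureMat, Matrix.of_apply]
    refine Finset.prod_eq_zero (Finset.mem_univ l₀) ?_
    have h := halt (Pi.single (p l₀) 1)
    rw [f_eq P.symp, mulVec_mulVec, single_dotProduct, one_mul, mulVec_single_one] at h
    exact h

/-- a map in one factor preserving `f` preserves the form -/
theorem iso_slot {h : Mk} (hh : ∀ x y, f (h *ᵥ x) (h *ᵥ y) = f x y) (i : Fin t) (x : κ → F) :
    Q (slot i h *ᵥ x) = Q x := by
  refine iso_polar P ?_ (fun p => pure_col P _ p) x
  rw [pureMat_transpose', pureMat_mul, pureMat_mul]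
  congr 1; funext l
  rcases eq_or_ne l i with rfl | hl
  · rw [Function.update_self]
    exact mat_ext fun x y => by rw [← f_mul P.symp, hh, f_eq P.symp]
  · rw [Function.update_of_ne hl, Matrix.transpose_one, Matrix.one_mul, Matrix.mul_one]

/-- the factors of an isometric pure tensor are similitudes -/
theorem similitude_of_pure {a : Fin t → Mk}
    (h : (pureMat a)ᵀ * pureMat (fun _ => gramMatrix f) * pureMat a = pureMat (fun _ => gramMatrix f))
    (hk : 1 < k) (i : Fin t) : ∃ l : F, l ≠ 0 ∧ ∀ x y, f (a i *ᵥ x) (a i *ᵥ y) = l * f x y := by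
  classical
  set g := gramMatrix f with hg
  rw [pureMat_transpose', pureMat_mul, pureMat_mul] at h
  haveI : NeZero k := ⟨by omega⟩
  obtain ⟨α₀, β₀, hne⟩ : ∃ α β, g α β ≠ 0 := by
    by_contra hc
    simp only [not_exists, not_not] at hc
    obtain ⟨x, hx⟩ := (P.symp.nondegenerate (Pi.single 0 1) (by simp)).1
    refine hx ?_
    rw [f_eq P.symp, show gramMatrix f = 0 from Matrix.ext fun α β => hc α β, zero_mulVec, dotProduct_zero]
  have hent : ∀ α β, ((a i)ᵀ * g * a i) α β * ∏ l ∈ Finset.univ.erase i, ((a l)ᵀ * g * a l) α₀ β₀ =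
      g α β * ∏ l ∈ Finset.univ.erase i, g α₀ β₀ := by
    intro α β
    have h1 := congrFun (congrFun h (Function.update (fun _ => α₀) i α)) (Function.update (fun _ => β₀) i β)
    simp only [pureMat, Matrix.of_apply] at h1
    rw [← Finset.mul_prod_erase _ _ (Finset.mem_univ i), ← Finset.mul_prod_erase _ _ (Finset.mem_univ i),
      Function.update_self, Function.update_self] at h1
    convert h1 using 2 <;> exact Finset.prod_congr rfl fun l hl => by
      rw [Function.update_of_ne (Finset.ne_of_mem_erase hl), Function.update_of_ne (Finset.ne_of_mem_erase hl)]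
  set C := ∏ l ∈ Finset.univ.erase i, ((a l)ᵀ * g * a l) α₀ β₀
  set D := ∏ l ∈ Finset.univ.erase i, g α₀ β₀
  have hD : D ≠ 0 := Finset.prod_ne_zero_iff.2 fun _ _ => hne
  have hC : C ≠ 0 := fun e => by
    have := hent α₀ β₀
    rw [e, mul_zero] at this
    exact mul_ne_zero hne hD this.symm
  refine ⟨D / C, div_ne_zero hD hC, fun x y => ?_⟩
  have hm : (a i)ᵀ * g * a i = (D / C) • g := Matrix.ext fun α β => by
    rw [Matrix.smul_apply, smul_eq_mul, div_mul_eq_mul_div, eq_div_iff hC, hent, mul_comm]
  rw [f_mul P.symp, ← hg, hm, f_eq P.symp, ← hg, smul_mulVec, dotProduct_smul, smul_eq_mul]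

/-- the space of single-factor square-zero maps -/
def spin : Submodule F Mκ := Submodule.span F {Z | ∃ (j : Fin t) (M : Mk), Nl f M ∧ Z = slot j M}

/-- `u` preserves `spin` -/
def Keeps (u : GL κ F) : Prop := ∀ Z ∈ spin (t := t) (f := f), cj u Z ∈ spin (t := t) (f := f)

end

end CfsgLib.MaxSub.WreathSpin
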