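import Cfsg.Agent.Lib.MaxSub.TensorFrame
import Mathlib.FieldTheory.Finite.Basic
import Mathlib.LinearAlgebra.Matrix.Determinant.Basic

/-!
Square-zero self-adjoint maps of an alternating form of dimension at most four in characteristic two: the
anticommutator with a fixed one is scalar.
-/

set_option autoImplicit false
set_option linter.unusedSectionVars false

namespace CfsgLib.MaxSub.WreathSpin

open Cfsg.Geo Matrix

variable {F : Type*} [Field F] {k : ℕ}

local notation "Mk" => Matrix (Fin k) (Fin k) F

/-- a square-zero self-adjoint map, alternating unless `k = 2` -/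
def Nl (f : (Fin k → F) → (Fin k → F) → F) (M : Mk) : Prop :=
  M * M = 0 ∧ (∀ x y, f (M *ᵥ x) y = f x (M *ᵥ y)) ∧ (k ≠ 2 → ∀ x, f x (M *ᵥ x) = 0)

section

variable {f : (Fin k → F) → (Fin k → F) → F} (hf : IsSymplecticForm f)
include hf

/-- the form as a bilinear map -/
def bl : LinearMap.BilinForm F (Fin k → F) :=
  LinearMap.mk₂ F f hf.bilinear.add_left hf.bilinear.smul_left hf.bilinear.add_right
    hf.bilinear.smul_right

theorem bl_apply (x y : Fin k → F) : bl hf x y = f x y := rfl

/-- `x ↦ f(x,a) b + f(x,b) a` -/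
noncomputable def rk2 (a b : Fin k → F) : Mk :=
  LinearMap.toMatrix' (((bl hf).flip a).smulRight b + ((bl hf).flip b).smulRight a)

/-- `x ↦ f(x,a) a` -/
noncomputable def rk1 (a : Fin k → F) : Mk := LinearMap.toMatrix' (((bl hf).flip a).smulRight a)

theorem rk2_mulVec (a b x : Fin k → F) : rk2 hf a b *ᵥ x = f x a • b + f x b • a := by
  rw [rk2, LinearMap.toMatrix'_mulVec]; rfl

theorem rk1_mulVec (a x : Fin k → F) : rk1 hf a *ᵥ x = f x a • a := by
  rw [rk1, LinearMap.toMatrix'_mulVec]; rfl

variable (h2 : (2 : F) = 0)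
include h2

theorem swap (x y : Fin k → F) : f y x = f x y := by
  rw [hf.skew y x]
  linear_combination (-(f x y)) * h2

theorem nl_two {a b : Fin k → F} (hab : f a b = 0) : Nl f (rk2 hf a b) := by
  have hba : f b a = 0 := by rw [swap hf h2, hab]
  refine ⟨Matrix.ext_of_mulVec_single fun i => ?_, fun x y => ?_, fun _ x => ?_⟩
  · rw [← mulVec_mulVec, rk2_mulVec, rk2_mulVec, zero_mulVec]
    simp only [← bl_apply hf, map_add, map_smul, LinearMap.add_apply, LinearMap.smul_apply]
    simp [bl_apply, hab, hba, hf.alternating]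
  · rw [rk2_mulVec, rk2_mulVec]
    simp only [← bl_apply hf, map_add, map_smul, LinearMap.add_apply, LinearMap.smul_apply, smul_eq_mul]
    simp only [bl_apply, swap hf h2 y a, swap hf h2 y b]
    ring
  · rw [rk2_mulVec]
    simp only [← bl_apply hf, map_add, map_smul, smul_eq_mul]
    linear_combination (bl hf x a * bl hf x b) * h2

theorem one_sq (a : Fin k → F) : rk1 hf a * rk1 hf a = 0 :=
  Matrix.ext_of_mulVec_single fun i => by
    rw [← mulVec_mulVec, rk1_mulVec, rk1_mulVec, zero_mulVec, hf.bilinear.smul_left, hf.alternating,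
      mul_zero, zero_smul]

theorem one_adj (a x y : Fin k → F) : f (rk1 hf a *ᵥ x) y = f x (rk1 hf a *ᵥ y) := by
  rw [rk1_mulVec, rk1_mulVec, hf.bilinear.smul_left, hf.bilinear.smul_right, swap hf h2 y a]
  ring

theorem nl_one (hk : k = 2) (a : Fin k → F) : Nl f (rk1 hf a) :=
  ⟨one_sq hf h2 a, one_adj hf h2 a, fun h => absurd hk h⟩

/-- `M` restricted to a line it preserves is zero -/
theorem eigen_zero {M : Mk} (hM : M * M = 0) {a : Fin k → F} (ha : a ≠ 0) {p : F}
    (h : M *ᵥ a = p • a) : p = 0 := by
  have h1 : M *ᵥ (M *ᵥ a) = 0 := by rw [mulVec_mulVec, hM, zero_mulVec]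
  rw [h, mulVec_smul, h, smul_smul] at h1
  exact mul_self_eq_zero.1 ((smul_eq_zero.1 h1).resolve_right ha)

/-- two linear maps agreeing on a spanning family -/
theorem eq_of_family {A B : Mk} (v : Fin k → (Fin k → F)) (hli : LinearIndependent F v)
    (h : ∀ i, A *ᵥ v i = B *ᵥ v i) : A = B := by
  rcases Nat.eq_zero_or_pos k with rfl | hk
  · exact Subsingleton.elim _ _
  haveI : Nonempty (Fin k) := ⟨⟨0, hk⟩⟩
  let bs := basisOfLinearIndependentOfCardEqFinrank hli (by rw [Module.finrank_fin_fun, Fintype.card_fin])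
  have e : Matrix.toLin' A = Matrix.toLin' B := bs.ext fun i => by
    rw [show bs i = v i from congrFun (coe_basisOfLinearIndependentOfCardEqFinrank hli _) i]
    exact h i
  exact Matrix.toLin'.injective e

theorem anti_one (hk : k = 2) {a : Fin k → F} (ha : a ≠ 0) {M : Mk} (hM : Nl f M) :
    rk1 hf a * M + M * rk1 hf a = f a (M *ᵥ a) • 1 := by
  subst hk
  obtain ⟨hsq, hadj, -⟩ := hM
  have hx : ∀ x, (rk1 hf a * M + M * rk1 hf a) *ᵥ x = f x (M *ᵥ a) • a + f x a • (M *ᵥ a) := fun x => by
    rw [add_mulVec, ← mulVec_mulVec, ← mulVec_mulVec, rk1_mulVec, rk1_mulVec, hadj, mulVec_smul]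
  rcases eq_or_ne (f a (M *ᵥ a)) 0 with h0 | h0
  · -- then `M a` lies on the line of `a`
    have hin : M *ᵥ a ∈ Submodule.span F {a} := by
      by_contra hn
      obtain ⟨y, hy⟩ := (hf.nondegenerate a ha).2
      have hli : LinearIndependent F ![a, M *ᵥ a] :=
        (LinearIndependent.pair_iff' ha).2 fun s hs => hn (Submodule.mem_span_singleton.2 ⟨s, hs⟩)
      let bs := basisOfLinearIndependentOfCardEqFinrank hli (by rw [Module.finrank_fin_fun, Fintype.card_fin])
      have hz : bl hf a = 0 := bs.ext fun i => by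
        rw [show bs i = ![a, M *ᵥ a] i from congrFun (coe_basisOfLinearIndependentOfCardEqFinrank hli _) i]
        fin_cases i
        · simpa [bl_apply] using hf.alternating a
        · simpa [bl_apply] using h0
      exact hy (LinearMap.congr_fun hz y)
    obtain ⟨p, hp⟩ := Submodule.mem_span_singleton.1 hin
    have hp0 := eigen_zero hf h2 hsq ha hp.symm
    rw [hp0, zero_smul] at hp
    refine Matrix.ext_of_mulVec_single fun i => ?_
    rw [hx, h0, ← hp]
    have : f (Pi.single i 1) 0 = 0 := by
      rw [← bl_apply hf]; exact map_zero _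
    rw [this]
    ext j
    simp
  · have hli : LinearIndependent F ![a, M *ᵥ a] := by
      refine LinearIndependent.pair_iff.2 fun s t hst => ?_
      have h1 := congrArg (f a) hst
      rw [hf.bilinear.add_right, hf.bilinear.smul_right, hf.bilinear.smul_right, hf.alternating,
        mul_zero, zero_add, show f a (0 : Fin 2 → F) = 0 by rw [← bl_apply hf]; exact map_zero _] at h1
      have ht : t = 0 := (mul_eq_zero.1 h1).resolve_right h0
      exact ⟨(smul_eq_zero.1 (by simpa [ht] using hst)).resolve_right ha, ht⟩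
    refine eq_of_family hf h2 _ hli fun i => ?_
    rw [hx, smul_mulVec, Matrix.one_mulVec]
    fin_cases i
    · simp [hf.alternating]
    · simp only [Fin.mk_one, Matrix.cons_val_one, Matrix.cons_val_zero, hf.alternating, zero_smul, zero_add,
        swap hf h2 a (M *ᵥ a)]

theorem anti_two (hk : k = 4) {a b : Fin k → F} (hab : f a b = 0) (hli : LinearIndependent F ![a, b])
    {M : Mk} (hM : Nl f M) : rk2 hf a b * M + M * rk2 hf a b = f a (M *ᵥ b) • 1 := by
  subst hk
  obtain ⟨hsq, hadj, halt⟩ := hM
  have halt := halt (by norm_num)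
  set a' := M *ᵥ a with ha'
  set b' := M *ᵥ b with hb'
  have hx : ∀ x, (rk2 hf a b * M + M * rk2 hf a b) *ᵥ x =
      f x a' • b + f x b' • a + f x a • b' + f x b • a' := fun x => by
    rw [add_mulVec, ← mulVec_mulVec, ← mulVec_mulVec, rk2_mulVec, rk2_mulVec, hadj, hadj, mulVec_add,
      mulVec_smul, mulVec_smul]
    abel
  have hba : f b a = 0 := by rw [swap hf h2, hab]
  have haa' : f a a' = 0 := halt a
  have hbb' : f b b' = 0 := halt b
  have hba' : f b a' = f a b' := by rw [ha', hb', ← hadj, swap hf h2]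
  have ha'b' : f a' b' = 0 := by
    rw [ha', hadj, hb', mulVec_mulVec, hsq, zero_mulVec, ← bl_apply hf]
    exact map_zero _
  have ha'b : f a' b = f a b' := by rw [swap hf h2, hba']
  rcases eq_or_ne (f a b') 0 with h0 | h0
  · -- then `M` preserves the span of `a` and `b`
    set L : Submodule F (Fin 4 → F) := Submodule.span F {a, b} with hL
    have hrange : (bl hf).orthogonal L ≤ L := by
      have hnd : (bl hf).Nondegenerate := by
        constructor
        · intro x hx'
          by_contra hx0
          obtain ⟨z, hz⟩ := (hf.nondegenerate x hx0).2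
          exact hz (hx' z)
        · intro x hx'
          by_contra hx0
          obtain ⟨z, hz⟩ := (hf.nondegenerate x hx0).1
          exact hz (hx' z)
      have hLle : L ≤ (bl hf).orthogonal L := by
        intro y hy z hz
        show f z y = 0
        obtain ⟨p, q, rfl⟩ := Submodule.mem_span_pair.1 hy
        obtain ⟨r, s, rfl⟩ := Submodule.mem_span_pair.1 hz
        simp [← bl_apply hf, map_add, map_smul]
        simp [bl_apply, hf.alternating, hab, hba]
      have hdimL : Module.finrank F L = 2 := by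
        have := finrank_span_eq_card hli
        rwa [Fintype.card_fin, show Set.range ![a, b] = {a, b} by simp [Matrix.range_cons, Matrix.range_empty,
          Set.pair_comm]] at this
      have hdim := LinearMap.BilinForm.finrank_orthogonal hnd L
      rw [hdimL, Module.finrank_fin_fun] at hdim
      exact le_of_eq (Submodule.eq_of_le_of_finrank_eq hLle (by rw [hdimL, hdim])).symm
    have hperp : ∀ y, f a y = 0 → f b y = 0 → y ∈ L := fun y hy1 hy2 => hrange fun z hz => by
      obtain ⟨r, s, rfl⟩ := Submodule.mem_span_pair.1 hz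
      show f (r • a + s • b) y = 0
      rw [hf.bilinear.add_left, hf.bilinear.smul_left, hf.bilinear.smul_left, hy1, hy2]; ring
    obtain ⟨p, r, hpr⟩ := Submodule.mem_span_pair.1 (hperp a' haa' (by rw [hba', h0]))
    obtain ⟨s, u, hsu⟩ := Submodule.mem_span_pair.1 (hperp b' h0 hbb')
    -- the trace of the nilpotent restriction vanishes
    have hM2 : ∀ w, M *ᵥ (M *ᵥ w) = 0 := fun w => by rw [mulVec_mulVec, hsq, zero_mulVec]
    have e1 : (p * p + r * s) • a + (p * r + r * u) • b = 0 := by
      have := hM2 a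
      rw [← ha', ← hpr, mulVec_add, mulVec_smul, mulVec_smul, ← ha', ← hb', ← hpr, ← hsu] at this
      rw [← this]; module
    have e2 : (s * p + u * s) • a + (s * r + u * u) • b = 0 := by
      have := hM2 b
      rw [← hb', ← hsu, mulVec_add, mulVec_smul, mulVec_smul, ← ha', ← hb', ← hpr, ← hsu] at this
      rw [← this]; module
    obtain ⟨e11, -⟩ := LinearIndependent.pair_iff.1 hli _ _ e1
    obtain ⟨-, e22⟩ := LinearIndependent.pair_iff.1 hli _ _ e2
    have htr : p + u = 0 := mul_self_eq_zero.1 (by linear_combination e11 + e22 + (p * u - r * s) * h2)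
    refine Matrix.ext_of_mulVec_single fun i => ?_
    rw [hx, h0, zero_smul, zero_mulVec, ← hpr, ← hsu]
    simp only [hf.bilinear.add_right, hf.bilinear.smul_right]
    have e3 : ∀ c : F, c + c = 0 := fun c => by linear_combination c * h2
    match_scalars
    · linear_combination (f (Pi.single i 1) a) * htr + (r * f (Pi.single i 1) b) * h2
    · linear_combination (f (Pi.single i 1) b) * htr + (s * f (Pi.single i 1) a) * h2
  · have hli4 : LinearIndependent F ![a, b, a', b'] := by
      refine Fintype.linearIndependent_iff.2 fun g hg => ?_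
      have key : ∀ z : Fin 4 → F, g 0 * f z a + g 1 * f z b + g 2 * f z a' + g 3 * f z b' = 0 := fun z => by
        have h1 := congrArg (bl hf z) hg
        simp only [map_sum, map_add, map_smul, map_zero, smul_eq_mul, Fin.sum_univ_four] at h1
        simpa [bl_apply] using h1
      have k0 := key b'
      have k1 := key a'
      have k2 := key b
      have k3 := key a
      rw [swap hf h2 a b', swap hf h2 b b', hbb', swap hf h2 a' b', ha'b', hf.alternating] at k0
      rw [swap hf h2 a a', haa', ha'b, hf.alternating, ha'b'] at k1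
      rw [hba, hf.alternating, hba', hbb'] at k2
      rw [hf.alternating, hab, haa'] at k3
      intro i
      fin_cases i
      · exact (mul_eq_zero.1 (by linear_combination k0 : g 0 * f a b' = 0)).resolve_right h0
      · exact (mul_eq_zero.1 (by linear_combination k1 : g 1 * f a b' = 0)).resolve_right h0
      · exact (mul_eq_zero.1 (by linear_combination k2 : g 2 * f a b' = 0)).resolve_right h0
      · exact (mul_eq_zero.1 (by linear_combination k3 : g 3 * f a b' = 0)).resolve_right h0
    refine eq_of_family hf h2 _ hli4 fun i => ?_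
    rw [hx, smul_mulVec, Matrix.one_mulVec]
    fin_cases i <;>
      simp [hf.alternating, hab, hba, haa', hbb', hba', ha'b', ha'b, swap hf h2 a a', swap hf h2 b b',
        swap hf h2 a' b', swap hf h2 a b']

/-- an isometry conjugates rank two maps -/
theorem conj_two {h : GL (Fin k) F} (hh : ∀ x y, f ((h : Mk) *ᵥ x) ((h : Mk) *ᵥ y) = f x y)
    (a b : Fin k → F) :
    (h : Mk) * rk2 hf a b * ((h⁻¹ : GL (Fin k) F) : Mk) = rk2 hf ((h : Mk) *ᵥ a) ((h : Mk) *ᵥ b) :=
  Matrix.ext_of_mulVec_single fun i => by
    rw [← mulVec_mulVec, ← mulVec_mulVec, rk2_mulVec, rk2_mulVec, mulVec_add, mulVec_smul, mulVec_smul]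
    have e : ∀ v, f (((h⁻¹ : GL (Fin k) F) : Mk) *ᵥ Pi.single i 1) v = f (Pi.single i 1) ((h : Mk) *ᵥ v) :=
      fun v => by
        rw [← hh, mulVec_mulVec, ← Units.val_mul, mul_inv_cancel, Units.val_one, Matrix.one_mulVec]
    rw [e, e]

theorem exists_dual (v : Fin k → F) (hv : v ≠ 0) : ∃ u, f v u = 1 := by
  obtain ⟨u, hu⟩ := (hf.nondegenerate v hv).2
  exact ⟨(f v u)⁻¹ • u, by rw [hf.bilinear.smul_right, inv_mul_cancel₀ hu]⟩

/-- the operators used to separate the wreath group from the spin stabiliser and this from `Ω` -/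
theorem exists_ops [Fintype F] (hk : k = 2 ∨ k = 4) (hex : k = 2 → Fintype.card F ≠ 2) :
    ∃ (N N' M W : Mk) (h : GL (Fin k) F), N ≠ 0 ∧ Nl f N ∧ Nl f N' ∧ Nl f M ∧
      (∀ x y, f ((h : Mk) *ᵥ x) ((h : Mk) *ᵥ y) = f x y) ∧
      (h : Mk) * N' * ((h⁻¹ : GL (Fin k) F) : Mk) + N' = N ∧
      (∀ M', Nl f M' → ∃ c : F, N * M' + M' * N = c • 1) ∧ N * M + M * N = 1 ∧
      W * W = 0 ∧ (∀ x y, f (W *ᵥ x) y = f x (W *ᵥ y)) ∧
      ((k = 2 ∧ W = N) ∨ (k = 4 ∧ W * M + M * W ≠ 0 ∧ (W * M + M * W) * (W * M + M * W) = 0)) := by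
  rcases hk with rfl | rfl
  · -- a torus
    obtain ⟨a, u, hau⟩ : ∃ a u : Fin 2 → F, f a u = 1 :=
      ⟨Pi.single 0 1, exists_dual hf h2 _ (by simp)⟩
    have ha : a ≠ 0 := fun e => by
      rw [e, ← bl_apply hf, map_zero, LinearMap.zero_apply] at hau; exact zero_ne_one hau
    obtain ⟨l, hl0, hl1⟩ : ∃ l : F, l ≠ 0 ∧ l ≠ 1 := by
      by_contra hc
      simp only [not_exists, not_and, not_not] at hc
      refine hex rfl ?_
      rw [← Nat.card_eq_fintype_card, Nat.card_eq_two_iff]
      refine ⟨0, 1, zero_ne_one, Set.eq_univ_of_forall fun x => ?_⟩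
      rcases eq_or_ne x 0 with e | e
      · exact Or.inl e
      · exact Or.inr (hc x e)
    have hua : f u a = 1 := by rw [swap hf h2, hau]
    let Hl : Matrix (Fin 2) (Fin 2) F :=
      LinearMap.toMatrix' (l • ((bl hf).flip u).smulRight a + l⁻¹ • ((bl hf).flip a).smulRight u)
    let Hi : Matrix (Fin 2) (Fin 2) F :=
      LinearMap.toMatrix' (l⁻¹ • ((bl hf).flip u).smulRight a + l • ((bl hf).flip a).smulRight u)
    have hHl : ∀ x, Hl *ᵥ x = (l * f x u) • a + (l⁻¹ * f x a) • u := fun x => by
      rw [LinearMap.toMatrix'_mulVec]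
      simp [bl_apply, smul_smul]
    have hHi : ∀ x, Hi *ᵥ x = (l⁻¹ * f x u) • a + (l * f x a) • u := fun x => by
      rw [LinearMap.toMatrix'_mulVec]
      simp [bl_apply, smul_smul]
    have hli : LinearIndependent F ![a, u] := by
      refine LinearIndependent.pair_iff.2 fun s t hst => ?_
      have h1 := congrArg (bl hf a) hst
      have h3 := congrArg (bl hf u) hst
      simp only [map_add, map_smul, map_zero, smul_eq_mul] at h1 h3
      simp [bl_apply, hf.alternating, hau, hua] at h1 h3
      exact ⟨h3, h1⟩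
    have hinv : Hl * Hi = 1 := eq_of_family hf h2 _ hli fun i => by
      rw [← mulVec_mulVec, Matrix.one_mulVec]
      fin_cases i <;> simp [hHi, hHl, mulVec_add, mulVec_smul, hf.alternating, hau, hua, hl0, smul_smul,
        hf.bilinear.smul_left]
    have hinv' : Hi * Hl = 1 := mul_eq_one_comm.1 hinv
    let h : GL (Fin 2) F := ⟨Hl, Hi, hinv, hinv'⟩
    have hdec : ∀ x, f x u • a + f x a • u = x := fun x => by
      have e : LinearMap.toMatrix' (((bl hf).flip u).smulRight a + ((bl hf).flip a).smulRight u) = 1 :=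
        eq_of_family hf h2 _ hli fun i => by
          rw [LinearMap.toMatrix'_mulVec, Matrix.one_mulVec]
          fin_cases i <;> simp [bl_apply, hf.alternating, hau, hua]
      have h1 := LinearMap.toMatrix'_mulVec
        (((bl hf).flip u).smulRight a + ((bl hf).flip a).smulRight u) x
      rw [e, Matrix.one_mulVec] at h1
      exact h1.symm
    have hiso : ∀ x y, f (Hl *ᵥ x) (Hl *ᵥ y) = f x y := fun x y => by
      conv_rhs => rw [← hdec x, ← hdec y]
      rw [hHl, hHl]
      simp only [hf.bilinear.add_left, hf.bilinear.add_right, hf.bilinear.smul_left, hf.bilinear.smul_right,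
        hf.alternating, hau, hua]
      field_simp
      ring
    have hm : l * l + 1 ≠ 0 := by
      intro e
      refine hl1 (sub_eq_zero.1 (mul_self_eq_zero.1 ?_))
      linear_combination e + (-l) * h2
    refine ⟨rk1 hf a, (l * l + 1)⁻¹ • rk1 hf a, rk1 hf u, rk1 hf a, h, ?_,
      nl_one hf h2 rfl a, ?_, nl_one hf h2 rfl u, hiso, ?_, fun M' hM' => ⟨_, anti_one hf h2 rfl ha hM'⟩,
      ?_, one_sq hf h2 a, one_adj hf h2 a, Or.inl ⟨rfl, rfl⟩⟩
    · intro e
      have := congrArg (· *ᵥ u) e
      rw [rk1_mulVec, hua, one_smul, zero_mulVec] at this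
      exact ha this
    · obtain ⟨h1, h3, -⟩ := nl_one hf h2 rfl a
      refine ⟨?_, fun x y => ?_, fun h => absurd rfl h⟩
      · rw [smul_mul_smul_comm, h1, smul_zero]
      · rw [smul_mulVec, smul_mulVec, hf.bilinear.smul_left, hf.bilinear.smul_right, h3]
    · show Hl * ((l * l + 1)⁻¹ • rk1 hf a) * Hi + (l * l + 1)⁻¹ • rk1 hf a = rk1 hf a
      have hc : Hl * rk1 hf a * Hi = (l * l) • rk1 hf a := eq_of_family hf h2 _ hli fun i => by
        rw [← mulVec_mulVec, ← mulVec_mulVec, smul_mulVec, rk1_mulVec, rk1_mulVec, mulVec_smul, hHi, hHl]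
        fin_cases i <;> simp [hf.bilinear.add_left, hf.bilinear.smul_left, hf.alternating, hau, hua, smul_smul]
      rw [Matrix.mul_smul, Matrix.smul_mul, hc, smul_smul, ← add_smul,
        show (l * l + 1)⁻¹ * (l * l) + (l * l + 1)⁻¹ = 1 by rw [← mul_add_one, inv_mul_cancel₀ hm], one_smul]
    · rw [anti_one hf h2 rfl ha (nl_one hf h2 rfl u), rk1_mulVec, hau, one_smul, hau, one_smul]
  · -- a transvection
    obtain ⟨a, ha⟩ : ∃ a : Fin 4 → F, a ≠ 0 := ⟨Pi.single 0 1, by simp⟩
    obtain ⟨u, hau⟩ := exists_dual hf h2 a ha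
    let π : (Fin 4 → F) →ₗ[F] F × F := ((bl hf a).prod (bl hf u))
    obtain ⟨b, hb, hb0⟩ := (LinearMap.ker π).ne_bot_iff.1 (by
      intro hb
      have h1 := LinearMap.finrank_range_add_finrank_ker π
      have h3 := Submodule.finrank_le (LinearMap.range π)
      rw [hb, finrank_bot, Module.finrank_fin_fun] at h1
      rw [Module.finrank_prod, Module.finrank_self] at h3
      omega)
    have hab : f a b = 0 := congrArg Prod.fst hb
    have hub : f u b = 0 := congrArg Prod.snd hb
    obtain ⟨w, hbw⟩ := exists_dual hf h2 b hb0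
    set b' := w + f a w • u + f u w • a with hb'
    have hua : f u a = 1 := by rw [swap hf h2, hau]
    have hba : f b a = 0 := by rw [swap hf h2, hab]
    have hbu : f b u = 0 := by rw [swap hf h2, hub]
    have hab' : f a b' = 0 := by
      simp only [hb', hf.bilinear.add_right, hf.bilinear.smul_right, hau, hf.alternating]
      linear_combination (f a w) * h2
    have hbb' : f b b' = 1 := by
      simp only [hb', hf.bilinear.add_right, hf.bilinear.smul_right, hbu, hba, hbw]; ring
    have hub' : f u b' = 0 := by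
      simp only [hb', hf.bilinear.add_right, hf.bilinear.smul_right, hua, hf.alternating]
      linear_combination (f u w) * h2
    have hb'b : f b' b = 1 := by rw [swap hf h2, hbb']
    have hb'a : f b' a = 0 := by rw [swap hf h2, hab']
    let Hm : Matrix (Fin 4) (Fin 4) F := LinearMap.toMatrix' (LinearMap.id + ((bl hf).flip b).smulRight b)
    have hHm : ∀ x, Hm *ᵥ x = x + f x b • b := fun x => by
      rw [LinearMap.toMatrix'_mulVec]
      simp [bl_apply]
    have hinv : Hm * Hm = 1 := Matrix.ext_of_mulVec_single fun i => by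
      rw [← mulVec_mulVec, hHm, hHm, Matrix.one_mulVec, hf.bilinear.add_left, hf.bilinear.smul_left,
        hf.alternating]
      match_scalars
      · ring
      · linear_combination (f (Pi.single i 1) b) * h2
    let h : GL (Fin 4) F := ⟨Hm, Hm, hinv, hinv⟩
    have hiso : ∀ x y, f (Hm *ᵥ x) (Hm *ᵥ y) = f x y := fun x y => by
      rw [hHm, hHm]
      simp only [hf.bilinear.add_left, hf.bilinear.add_right, hf.bilinear.smul_left, hf.bilinear.smul_right,
        hf.alternating, swap hf h2 y b]
      linear_combination (f x b * f y b) * h2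
    have hli : LinearIndependent F ![a, b] := by
      refine LinearIndependent.pair_iff.2 fun s t hst => ?_
      have h1 := congrArg (bl hf u) hst
      have h3 := congrArg (bl hf b') hst
      simp only [map_add, map_smul, map_zero, smul_eq_mul] at h1 h3
      simp [bl_apply, hua, hub, hb'a, hb'b] at h1 h3
      exact ⟨h1, h3⟩
    have hWM : rk1 hf a * rk2 hf u b' + rk2 hf u b' * rk1 hf a = rk2 hf a b' :=
      Matrix.ext_of_mulVec_single fun i => by
        rw [add_mulVec, ← mulVec_mulVec, ← mulVec_mulVec, rk1_mulVec, rk1_mulVec, mulVec_smul, rk2_mulVec,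
          rk2_mulVec, rk2_mulVec]
        simp only [hf.bilinear.add_left, hf.bilinear.smul_left, hua, hb'a, hau, hab', swap hf h2 u a]
        module
    refine ⟨rk2 hf a b, rk2 hf a b', rk2 hf u b', rk1 hf a, h, ?_, nl_two hf h2 hab,
      nl_two hf h2 hab', nl_two hf h2 hub', hiso, ?_, fun M' hM' => ⟨_, anti_two hf h2 rfl hab hli hM'⟩, ?_,
      one_sq hf h2 a, one_adj hf h2 a, Or.inr ⟨rfl, ?_, ?_⟩⟩
    · intro e
      have := congrArg (· *ᵥ u) e
      rw [rk2_mulVec, hua, hub, one_smul, zero_smul, add_zero, zero_mulVec] at this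
      exact hb0 this
    · rw [conj_two hf h2 hiso]
      show rk2 hf (Hm *ᵥ a) (Hm *ᵥ b') + rk2 hf a b' = rk2 hf a b
      refine Matrix.ext_of_mulVec_single fun i => ?_
      rw [add_mulVec, rk2_mulVec, rk2_mulVec, rk2_mulVec, hHm, hHm, hab, zero_smul, add_zero, hb'b, one_smul,
        hf.bilinear.add_right]
      match_scalars <;> first
        | linear_combination (f (Pi.single i 1) a * f u w + f (Pi.single i 1) b') * h2
        | linear_combination (f (Pi.single i 1) b') * h2
        | linear_combination (f (Pi.single i 1) a * f a w) * h2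
        | linear_combination (f (Pi.single i 1) a) * h2
        | ring
    · rw [anti_two hf h2 rfl hab hli (nl_two hf h2 hub'), rk2_mulVec, hbu, hbb', zero_smul, zero_add, one_smul,
        hau, one_smul]
    · rw [hWM]
      intro e
      have := congrArg (· *ᵥ u) e
      rw [rk2_mulVec, hua, hub', one_smul, zero_smul, add_zero, zero_mulVec] at this
      exact zero_ne_one (α := F) (by rw [← hbb', this, ← bl_apply hf, map_zero])
    · rw [hWM]
      exact (nl_two hf h2 hab').1

end

end CfsgLib.MaxSub.WreathSpin
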